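import Mathlib

/-!
# Number theory for `UniqueOrderP` (helper2)
-/

set_option autoImplicit false
set_option linter.style.haveILetI false

namespace Cfsg.Agent.H2.UOP

/-- geometric sums `1 + s + ... + s^(m-1)`, defined recursively -/
def gS (s : ℕ) : ℕ → ℕ
  | 0 => 0
  | m + 1 => s * gS s m + 1

theorem exists_dvd_add_mul (N S j : ℕ) (hN : 0 < N) (h : Nat.gcd S N ∣ j) :
    ∃ i : ℕ, N ∣ j + i * S := by
  obtain ⟨c, hc⟩ := h
  have hb := Nat.gcd_eq_gcd_ab S N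
  obtain ⟨i0, hi0⟩ : ∃ i0 : ℤ, i0 = - (c : ℤ) * Nat.gcdA S N := ⟨_, rfl⟩
  refine ⟨(i0 % N).toNat, ?_⟩
  have hNz : (N : ℤ) ≠ 0 := by exact_mod_cast hN.ne'
  have h1 : ((i0 % N).toNat : ℤ) = i0 % N := Int.toNat_of_nonneg (Int.emod_nonneg _ hNz)
  rw [← Int.natCast_dvd_natCast]
  push_cast
  rw [h1]
  have h2 : (i0 % N) = i0 - N * (i0 / N) := by rw [Int.emod_def]
  rw [h2, hc]
  push_cast
  rw [hb, hi0]
  exact ⟨c * Nat.gcdB S N - (- (c : ℤ) * Nat.gcdA S N / N) * S, by ring⟩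

theorem two_concl (n s j : ℕ) (F1 : ∀ i : ℕ, ¬ 2 ^ n ∣ j + i * (s + 1))
    (F2 : j * s ≡ j [MOD 2 ^ n]) (F3 : ¬ s ≡ 1 [MOD 2 ^ n]) :
    2 ^ n ∣ s + 1 ∧ 2 ≤ n ∧ j ≡ 2 ^ (n - 1) [MOD 2 ^ n] := by
  have hNpos : 0 < 2 ^ n := by positivity
  have hd : ¬ Nat.gcd (s + 1) (2 ^ n) ∣ j := by
    intro h
    obtain ⟨i, hi⟩ := exists_dvd_add_mul (2 ^ n) (s + 1) j hNpos h
    exact F1 i hi
  obtain ⟨e, he, hde⟩ := (Nat.dvd_prime_pow Nat.prime_two).1 (Nat.gcd_dvd_right (s + 1) (2 ^ n))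
  rw [hde] at hd
  have hds : 2 ^ e ∣ s + 1 := hde ▸ Nat.gcd_dvd_left (s + 1) (2 ^ n)
  -- `2 ∣ j`
  have h2j : 2 ∣ j := by
    by_contra hodd
    have hcop : Nat.Coprime (2 ^ n) j :=
      Nat.Coprime.pow_left n ((Nat.Prime.coprime_iff_not_dvd Nat.prime_two).2 hodd)
    have h1 : j * s ≡ j * 1 [MOD 2 ^ n] := by rw [mul_one]; exact F2
    exact F3 (Nat.ModEq.cancel_left_of_coprime hcop h1)
  -- `e ≥ 2`
  have he2 : 2 ≤ e := by
    by_contra hlt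
    push Not at hlt
    interval_cases e
    · exact hd (by simp)
    · exact hd (by simpa using h2j)
  have hn2 : 2 ≤ n := le_trans he2 he
  -- `s = 4 q + 3`
  have h4 : 4 ∣ s + 1 := dvd_trans (by
    have : (2 : ℕ) ^ 2 ∣ 2 ^ e := pow_dvd_pow 2 he2
    simpa using this) hds
  obtain ⟨q, hq⟩ := h4
  have hs1 : 1 ≤ s := by omega
  have hsub : 2 ^ n ∣ j * s - j := by
    have : j ≤ j * s := Nat.le_mul_of_pos_right j hs1
    exact (Nat.modEq_iff_dvd' this).1 F2.symm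
  have hfac : j * s - j = 2 * (j * (2 * q - 1)) := by
    have hq1 : 1 ≤ q := by omega
    have hs' : s = 2 * (2 * q - 1) + 1 := by omega
    rw [hs', Nat.mul_add, Nat.mul_one, Nat.add_sub_cancel]; ring
  rw [hfac] at hsub
  obtain ⟨n', rfl⟩ : ∃ n', n = n' + 1 := ⟨n - 1, by omega⟩
  rw [pow_succ, mul_comm (2 ^ n') 2] at hsub
  have hsub2 : 2 ^ n' ∣ j * (2 * q - 1) := Nat.dvd_of_mul_dvd_mul_left (by norm_num) hsub
  have hcop2 : Nat.Coprime (2 ^ n') (2 * q - 1) := by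
    apply Nat.Coprime.pow_left
    rw [Nat.Prime.coprime_iff_not_dvd Nat.prime_two]
    omega
  have hj : 2 ^ n' ∣ j := hcop2.dvd_of_dvd_mul_right hsub2
  -- `e = n' + 1`
  have hen : e = n' + 1 := by
    by_contra hne
    have : e ≤ n' := by omega
    exact hd (dvd_trans (pow_dvd_pow 2 this) hj)
  refine ⟨hen ▸ hds, hn2, ?_⟩
  obtain ⟨j', rfl⟩ := hj
  have hj'odd : ¬ 2 ∣ j' := by
    intro h
    apply hd
    rw [hen, pow_succ]
    exact Nat.mul_dvd_mul_left _ h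
  have : j' % 2 = 1 := by omega
  obtain ⟨r, hr⟩ : ∃ r, j' = 2 * r + 1 := ⟨j' / 2, by omega⟩
  rw [hr, Nat.add_sub_cancel]
  have : 2 ^ n' * (2 * r + 1) = 2 ^ n' + 2 ^ (n' + 1) * r := by ring
  rw [this]
  exact (Nat.modEq_iff_dvd' (Nat.le_add_right _ _)).2 (by simp) |>.symm

theorem gS_cast (p u : ℕ) (s : ℕ) (hs : s = 1 + p * u) (m : ℕ) :
    ((gS s m : ℕ) : ZMod (p ^ 2)) = (m : ZMod (p ^ 2)) + p * u * (∑ k ∈ Finset.range m, (k : ZMod (p ^ 2))) := by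
  have hpp : ((p : ℕ) : ZMod (p ^ 2)) * p = 0 := by
    have := ZMod.natCast_self (p ^ 2)
    rw [pow_two] at this ⊢
    push_cast at this
    exact this
  induction m with
  | zero => simp [gS]
  | succ m ih =>
    rw [gS, Finset.sum_range_succ]
    push_cast
    rw [ih, hs]
    push_cast
    linear_combination ((u : ZMod (p ^ 2)) * u * (∑ k ∈ Finset.range m, (k : ZMod (p ^ 2)))) * hpp

theorem gS_prime (p : ℕ) (hp : p.Prime) (hodd : p ≠ 2) (s : ℕ) (hs : s ≡ 1 [MOD p]) :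
    ∃ w, gS s p = p * w ∧ w ≡ 1 [MOD p] := by
  obtain ⟨u, hu⟩ : ∃ u, s = 1 + p * u := by
    have h1 : 1 ≤ s := by
      rcases Nat.eq_zero_or_pos s with h | h
      · subst h
        have := (Nat.modEq_zero_iff_dvd.1 hs.symm)
        exact absurd (Nat.dvd_one.1 this) hp.one_lt.ne'
      · exact h
    obtain ⟨c, hc⟩ := (Nat.modEq_iff_dvd' h1).1 hs.symm
    exact ⟨c, by omega⟩
  have h1 := gS_cast p u s hu p
  have hpp : ((p : ℕ) : ZMod (p ^ 2)) * p = 0 := by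
    have := ZMod.natCast_self (p ^ 2)
    rw [pow_two] at this ⊢
    push_cast at this
    exact this
  obtain ⟨h, hh⟩ : ∃ h, p = 2 * h + 1 := by
    rcases hp.eq_two_or_odd with h2 | h2
    · exact absurd h2 hodd
    · exact ⟨p / 2, by omega⟩
  have hT : (∑ k ∈ Finset.range p, (k : ZMod (p ^ 2))) = (p : ZMod (p ^ 2)) * h := by
    have h2 := Finset.sum_range_id_mul_two p
    have h3 : (∑ i ∈ Finset.range p, i) = p * h := by
      have : p * (p - 1) = (p * h) * 2 := by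
        have : p - 1 = 2 * h := by omega
        rw [this]; ring
      rw [this] at h2
      exact Nat.eq_of_mul_eq_mul_right (by norm_num) h2
    have := congrArg (fun x : ℕ => (x : ZMod (p ^ 2))) h3
    simp only [Nat.cast_sum, Nat.cast_mul] at this
    exact this
  rw [hT] at h1
  have h2 : ((gS s p : ℕ) : ZMod (p ^ 2)) = ((p : ℕ) : ZMod (p ^ 2)) := by
    rw [h1]
    linear_combination ((u : ZMod (p ^ 2)) * h) * hpp
  have h3 : gS s p ≡ p [MOD p ^ 2] := (ZMod.natCast_eq_natCast_iff _ _ _).1 h2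
  have h4 : p ∣ gS s p := by
    have h5 : gS s p ≡ p [MOD p] := h3.of_dvd (Dvd.intro_left p (pow_two p).symm)
    have h6 : gS s p ≡ 0 [MOD p] := h5.trans (Nat.modEq_zero_iff_dvd.2 dvd_rfl)
    exact Nat.modEq_zero_iff_dvd.1 h6
  obtain ⟨w, hw⟩ := h4
  refine ⟨w, hw, ?_⟩
  rw [hw, pow_two] at h3
  have h5 : p * w ≡ p * 1 [MOD p * p] := by rw [mul_one]; exact h3
  exact Nat.ModEq.mul_left_cancel' hp.ne_zero h5

theorem odd_contra (p : ℕ) (hp : p.Prime) (hodd : p ≠ 2) (n : ℕ) (hn : 1 ≤ n) (s j : ℕ)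
    (F1 : ∀ i : ℕ, ¬ p ^ n ∣ j + i * gS s p) (F2 : j * s ≡ j [MOD p ^ n]) (F3 : ¬ s ≡ 1 [MOD p ^ n])
    (F4 : s ^ p ≡ 1 [MOD p ^ n]) : False := by
  have hNpos : 0 < p ^ n := pow_pos hp.pos n
  haveI : Fact p.Prime := ⟨hp⟩
  have hs1 : s ≡ 1 [MOD p] := by
    have h1 : s ^ p ≡ 1 [MOD p] := F4.of_dvd (dvd_pow_self p (by omega))
    rw [← ZMod.natCast_eq_natCast_iff] at h1 ⊢
    push_cast at h1
    rw [ZMod.pow_card] at h1
    push_cast
    exact h1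
  obtain ⟨w, hw, hw1⟩ := gS_prime p hp hodd s hs1
  have hwcop : Nat.Coprime w p := by
    have : Nat.gcd w p = Nat.gcd 1 p := hw1.gcd_eq
    rw [Nat.Coprime, this]; simp
  obtain ⟨n', rfl⟩ : ∃ n', n = n' + 1 := ⟨n - 1, by omega⟩
  have hgcd : Nat.gcd (gS s p) (p ^ (n' + 1)) = p := by
    rw [hw, pow_succ, mul_comm (p ^ n') p, Nat.gcd_mul_left, (hwcop.pow_right n').gcd_eq_one, mul_one]
  have hpj : ¬ p ∣ j := by
    intro h
    obtain ⟨i, hi⟩ := exists_dvd_add_mul (p ^ (n' + 1)) (gS s p) j hNpos (by rw [hgcd]; exact h)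
    exact F1 i hi
  have hcop : Nat.Coprime (p ^ (n' + 1)) j :=
    Nat.Coprime.pow_left _ ((Nat.Prime.coprime_iff_not_dvd hp).2 hpj)
  have h1 : j * s ≡ j * 1 [MOD p ^ (n' + 1)] := by rw [mul_one]; exact F2
  exact F3 (Nat.ModEq.cancel_left_of_coprime hcop h1)

end Cfsg.Agent.H2.UOP
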