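import Mathlib
import Cfsg.Agent.H2.UniqueOrderPNat
import Cfsg.Agent.S0015

/-!
# `p`-groups with a unique subgroup of order `p` (helper2)

`UOP.main`: such a group is cyclic or generalized quaternion.
-/

set_option autoImplicit false
set_option linter.style.haveILetI false
set_option linter.unusedSectionVars false
set_option linter.unusedVariables false

namespace Cfsg.Agent.H2.UOP

universe u

section formulas

variable {G : Type*} [Group G]

theorem pow_mul_comm_of_conj {a b : G} {s : ℕ} (hs : b⁻¹ * a * b = a ^ s) (t : ℕ) :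
    a ^ t * b = b * a ^ (t * s) := by
  have h1 : a * b = b * a ^ s := by rw [← hs]; group
  induction t with
  | zero => simp
  | succ t ih =>
    calc a ^ (t + 1) * b = a ^ t * (a * b) := by rw [pow_succ, mul_assoc]
      _ = a ^ t * b * a ^ s := by rw [h1, mul_assoc]
      _ = b * a ^ (t * s) * a ^ s := by rw [ih]
      _ = b * a ^ ((t + 1) * s) := by rw [mul_assoc, ← pow_add, add_mul, one_mul]

theorem mul_pow_formula {a b : G} {s : ℕ} (hs : b⁻¹ * a * b = a ^ s) (i m : ℕ) :
    (b * a ^ i) ^ m = b ^ m * a ^ (i * gS s m) := by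
  induction m with
  | zero => simp [gS]
  | succ m ih =>
    rw [pow_succ, ih, gS]
    calc b ^ m * a ^ (i * gS s m) * (b * a ^ i)
        = b ^ m * (a ^ (i * gS s m) * b) * a ^ i := by simp only [mul_assoc]
      _ = b ^ m * (b * a ^ (i * gS s m * s)) * a ^ i := by rw [pow_mul_comm_of_conj hs]
      _ = b ^ (m + 1) * (a ^ (i * gS s m * s) * a ^ i) := by rw [pow_succ]; simp only [mul_assoc]
      _ = b ^ (m + 1) * a ^ (i * (s * gS s m + 1)) := by
          rw [← pow_add]; congr 2; ring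

theorem conj_pow_formula {a b : G} {s : ℕ} (hs : b⁻¹ * a * b = a ^ s) (m : ℕ) :
    (b ^ m)⁻¹ * a * b ^ m = a ^ (s ^ m) := by
  induction m with
  | zero => simp
  | succ m ih =>
    calc (b ^ (m + 1))⁻¹ * a * b ^ (m + 1) = b⁻¹ * ((b ^ m)⁻¹ * a * b ^ m) * b := by
          rw [pow_succ]; group
      _ = b⁻¹ * a ^ (s ^ m) * b := by rw [ih]
      _ = (b⁻¹ * a * b) ^ (s ^ m) := by
          have := conj_pow (a := b⁻¹) (b := a) (i := s ^ m)
          rw [inv_inv] at this
          exact this.symm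
      _ = a ^ (s ^ (m + 1)) := by rw [hs, ← pow_mul, pow_succ, mul_comm]

theorem conj_pow_right {a b : G} {s : ℕ} (hs : b⁻¹ * a * b = a ^ s) (j : ℕ) :
    b⁻¹ * a ^ j * b = a ^ (j * s) := by
  have := conj_pow (a := b⁻¹) (b := a) (i := j)
  rw [inv_inv] at this
  rw [← this, hs, ← pow_mul, mul_comm]

end formulas

section basic

variable {G : Type*} [Group G] [Finite G] {p : ℕ} [hp : Fact p.Prime]

/-- with a unique subgroup of order `p`, every element with `y ^ p = 1` lies in every nontrivial subgroup -/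
theorem mem_of_pow_p (hG : IsPGroup p G)
    (huniq : ∀ H K : Subgroup G, Nat.card H = p → Nat.card K = p → H = K)
    (H : Subgroup G) (hH : H ≠ ⊥) (y : G) (hy : y ^ p = 1) : y ∈ H := by
  by_cases hy1 : y = 1
  · rw [hy1]; exact Subgroup.one_mem _
  have hoy : orderOf y = p := orderOf_eq_prime hy hy1
  obtain ⟨k, hk⟩ := IsPGroup.iff_card.1 (hG.to_subgroup H)
  have hk0 : k ≠ 0 := by
    rintro rfl
    rw [pow_zero, Subgroup.card_eq_one] at hk
    exact hH hk
  have hdvd : p ∣ Nat.card H := by rw [hk]; exact dvd_pow_self p hk0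
  obtain ⟨x, hx⟩ := exists_prime_orderOf_dvd_card' p hdvd
  have hox : orderOf (x : G) = p := by rw [Subgroup.orderOf_coe]; exact hx
  have h1 : Subgroup.zpowers y = Subgroup.zpowers (x : G) :=
    huniq _ _ (by rw [Nat.card_zpowers, hoy]) (by rw [Nat.card_zpowers, hox])
  have h2 : y ∈ Subgroup.zpowers (x : G) := h1 ▸ Subgroup.mem_zpowers y
  exact (Subgroup.zpowers_le.2 x.2) h2

theorem huniq_subgroup (huniq : ∀ H K : Subgroup G, Nat.card H = p → Nat.card K = p → H = K)
    (L : Subgroup G) : ∀ H K : Subgroup ↥L, Nat.card H = p → Nat.card K = p → H = K := by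
  intro H K hH hK
  have := huniq (H.map L.subtype) (K.map L.subtype) (by rw [Subgroup.card_subtype, hH])
    (by rw [Subgroup.card_subtype, hK])
  exact Subgroup.map_injective (Subgroup.subtype_injective L) this

end basic

section abelian

theorem isCyclic_of_comm_aux (p : ℕ) [hp : Fact p.Prime] : ∀ c : ℕ, ∀ (G : Type u) [Group G] [Finite G],
    Nat.card G = c → IsPGroup p G → (∀ x y : G, x * y = y * x) →
    (∀ H K : Subgroup G, Nat.card H = p → Nat.card K = p → H = K) → IsCyclic G := by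
  intro c
  induction c using Nat.strong_induction_on with
  | _ c ih =>
    intro G _ _ hc hG hcomm huniq
    by_cases htriv : Subsingleton G
    · exact isCyclic_of_subsingleton
    rw [not_subsingleton_iff_nontrivial] at htriv
    obtain ⟨φ, hφ⟩ : ∃ φ : G →* G, ∀ x, φ x = x ^ p :=
      ⟨MonoidHom.mk' (fun x => x ^ p) (fun a b => Commute.mul_pow (hcomm a b) p), fun x => rfl⟩
    -- an element of order `p`
    obtain ⟨k, hk⟩ := IsPGroup.iff_card.1 hG
    have hk0 : k ≠ 0 := by
      rintro rfl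
      rw [pow_zero] at hk
      have := Finite.one_lt_card (α := G)
      omega
    have hdvd : p ∣ Nat.card G := by rw [hk]; exact dvd_pow_self p hk0
    obtain ⟨z, hz⟩ := exists_prime_orderOf_dvd_card' p hdvd
    have hker : φ.ker = Subgroup.zpowers z := by
      apply le_antisymm
      · intro y hy
        rw [MonoidHom.mem_ker, hφ] at hy
        have hzne : Subgroup.zpowers z ≠ ⊥ := by
          intro h0
          rw [Subgroup.zpowers_eq_bot] at h0
          rw [h0, orderOf_one] at hz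
          exact hp.out.one_lt.ne hz
        exact mem_of_pow_p hG huniq _ hzne y hy
      · rw [Subgroup.zpowers_le, MonoidHom.mem_ker, hφ, ← hz, pow_orderOf_eq_one]
    have hkc : Nat.card φ.ker = p := by rw [hker, Nat.card_zpowers, hz]
    have hmul : p * Nat.card φ.range = Nat.card G := by
      rw [← Subgroup.index_ker, ← hkc]; exact Subgroup.card_mul_index _
    have hlt : Nat.card φ.range < c := by
      have : 0 < Nat.card φ.range := Nat.card_pos
      have := hp.out.two_le
      rw [← hc, ← hmul]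
      nlinarith
    have hcyc : IsCyclic φ.range := by
      apply ih _ hlt ↥φ.range rfl (hG.to_subgroup _)
      · rintro ⟨x, hx⟩ ⟨y, hy⟩
        exact Subtype.ext (hcomm x y)
      · exact huniq_subgroup huniq _
    obtain ⟨c0, hc0⟩ := hcyc.exists_generator
    have hoc0 : orderOf c0 = Nat.card φ.range := orderOf_eq_card_of_forall_mem_zpowers hc0
    obtain ⟨y, hy⟩ := c0.2
    rw [hφ] at hy
    have hoc0' : orderOf (y ^ p) = Nat.card φ.range := by
      rw [hy, Subgroup.orderOf_coe]; exact hoc0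
    by_cases hy1 : y = 1
    · rw [hy1, one_pow, orderOf_one] at hoc0'
      rw [← hoc0', mul_one] at hmul
      haveI : Fact (Nat.card G).Prime := ⟨hmul ▸ hp.out⟩
      exact isCyclic_of_prime_card rfl
    · obtain ⟨m, hm⟩ := IsPGroup.iff_orderOf.1 hG y
      have hm0 : m ≠ 0 := by
        rintro rfl
        rw [pow_zero, orderOf_eq_one_iff] at hm
        exact hy1 hm
      have hpy : p ∣ orderOf y := by rw [hm]; exact dvd_pow_self p hm0
      have h1 : orderOf (y ^ p) = orderOf y / p := orderOf_pow_of_dvd hp.out.ne_zero hpy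
      have h2 : orderOf y = Nat.card G := by
        rw [← hmul, ← hoc0', h1, Nat.mul_div_cancel' hpy]
      exact isCyclic_of_orderOf_eq_card y h2

theorem isCyclic_of_comm {G : Type u} [Group G] [Finite G] (p : ℕ) [hp : Fact p.Prime]
    (hG : IsPGroup p G) (hcomm : ∀ x y : G, x * y = y * x)
    (huniq : ∀ H K : Subgroup G, Nat.card H = p → Nat.card K = p → H = K) : IsCyclic G :=
  isCyclic_of_comm_aux p _ G rfl hG hcomm huniq

end abelian

section quat

variable {G : Type*} [Group G]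

/-- a homomorphism from the generalized quaternion group, from generators and relations -/
theorem quatHom (n : ℕ) [NeZero n] (x y : G)
    (hx : x ^ (2 * n) = 1) (hy : y * y = x ^ n) (hxy : x * y = y * x⁻¹) :
    ∃ f : QuaternionGroup n →* G, (∀ i : ZMod (2 * n), f (QuaternionGroup.a i) = x ^ i.val) ∧
      (∀ i : ZMod (2 * n), f (QuaternionGroup.xa i) = y * x ^ i.val) := by
  have hadd : ∀ i j : ZMod (2 * n), x ^ (i + j).val = x ^ i.val * x ^ j.val := by
    intro i j
    rw [ZMod.val_add, ← pow_eq_pow_mod _ hx, pow_add]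
  have hneg : ∀ i : ZMod (2 * n), x ^ (-i).val = (x ^ i.val)⁻¹ := by
    intro i
    apply eq_inv_of_mul_eq_one_left
    rw [← hadd, neg_add_cancel, ZMod.val_zero, pow_zero]
  have hn : x ^ ((n : ZMod (2 * n))).val = x ^ n := by
    rw [ZMod.val_natCast, Nat.mod_eq_of_lt]
    have := NeZero.pos n; omega
  have hconj : ∀ k : ℕ, x ^ k * y = y * (x ^ k)⁻¹ := by
    intro k
    induction k with
    | zero => simp
    | succ k ih =>
      calc x ^ (k + 1) * y = x ^ k * (x * y) := by rw [pow_succ, mul_assoc]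
        _ = x ^ k * y * x⁻¹ := by rw [hxy, mul_assoc]
        _ = y * ((x ^ k)⁻¹ * x⁻¹) := by rw [ih, mul_assoc]
        _ = y * (x ^ (k + 1))⁻¹ := by rw [← _root_.mul_inv_rev, ← pow_succ']
  let f : QuaternionGroup n → G := fun g => match g with
    | QuaternionGroup.a i => x ^ i.val
    | QuaternionGroup.xa i => y * x ^ i.val
  refine ⟨MonoidHom.mk' f ?_, fun i => rfl, fun i => rfl⟩
  rintro (i | i) (j | j)
  · change x ^ (i + j).val = _
    exact hadd i j
  · change y * x ^ (j - i).val = x ^ i.val * (y * x ^ j.val)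
    rw [← mul_assoc, hconj, mul_assoc, ← hneg, ← hadd, neg_add_eq_sub]
  · change y * x ^ (i + j).val = y * x ^ i.val * x ^ j.val
    rw [hadd, mul_assoc]
  · change x ^ ((n : ZMod (2 * n)) + j - i).val = y * x ^ i.val * (y * x ^ j.val)
    rw [mul_assoc, ← mul_assoc (x ^ i.val), hconj, mul_assoc, ← mul_assoc y y, hy, ← hneg,
      ← hadd, ← hn, ← hadd]
    congr 2; ring

theorem quatHom_injective (n : ℕ) [NeZero n] (x y : G) (f : QuaternionGroup n →* G)
    (hfa : ∀ i : ZMod (2 * n), f (QuaternionGroup.a i) = x ^ i.val)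
    (hfxa : ∀ i : ZMod (2 * n), f (QuaternionGroup.xa i) = y * x ^ i.val)
    (hox : orderOf x = 2 * n) (hy : y ∉ Subgroup.zpowers x) : Function.Injective f := by
  rw [injective_iff_map_eq_one]
  rintro (i | i) h
  · rw [hfa] at h
    have h1 : orderOf x ∣ i.val := orderOf_dvd_of_pow_eq_one h
    have h2 : i.val < 2 * n := ZMod.val_lt i
    have h3 : i.val = 0 := Nat.eq_zero_of_dvd_of_lt h1 (by rw [hox]; exact h2)
    have : i = 0 := (ZMod.val_eq_zero i).1 h3
    rw [this]; rfl
  · exfalso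
    rw [hfxa] at h
    apply hy
    have : y = (x ^ i.val)⁻¹ := eq_inv_of_mul_eq_one_left h
    rw [this]
    exact inv_mem (Subgroup.pow_mem _ (Subgroup.mem_zpowers x) _)

end quat

section key

variable {G : Type u} [Group G] [Finite G] {p : ℕ} [hp : Fact p.Prime]

theorem key (hG : IsPGroup p G)
    (huniq : ∀ H K : Subgroup G, Nat.card H = p → Nat.card K = p → H = K)
    (a : G) (hAn : (Subgroup.zpowers a).Normal)
    (hcent : ∀ g : G, g * a = a * g → g ∈ Subgroup.zpowers a)
    (n : ℕ) (hN : orderOf a = p ^ n) (ha1 : a ≠ 1)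
    (b : G) (hb : b ∉ Subgroup.zpowers a) (hbp : b ^ p ∈ Subgroup.zpowers a) :
    ∃ s j : ℕ, b⁻¹ * a * b = a ^ s ∧ b ^ p = a ^ j ∧ (∀ i : ℕ, ¬ p ^ n ∣ j + i * gS s p) ∧
      j * s ≡ j [MOD p ^ n] ∧ ¬ s ≡ 1 [MOD p ^ n] ∧ s ^ p ≡ 1 [MOD p ^ n] := by
  have h1 : b⁻¹ * a * b ∈ Subgroup.zpowers a := by
    have := hAn.conj_mem a (Subgroup.mem_zpowers a) b⁻¹
    rwa [inv_inv] at this
  rw [← mem_powers_iff_mem_zpowers] at h1 hbp
  obtain ⟨s, hs⟩ := h1
  obtain ⟨j, hj⟩ := hbp
  have hs' : b⁻¹ * a * b = a ^ s := hs.symm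
  have hj' : b ^ p = a ^ j := hj.symm
  refine ⟨s, j, hs', hj', ?_, ?_, ?_, ?_⟩
  · intro i hdvd
    have h2 : (b * a ^ i) ^ p = 1 := by
      rw [mul_pow_formula hs', hj', ← pow_add]
      rw [← hN] at hdvd
      exact orderOf_dvd_iff_pow_eq_one.1 hdvd
    have hne : Subgroup.zpowers a ≠ ⊥ := by
      intro h0; rw [Subgroup.zpowers_eq_bot] at h0; exact ha1 h0
    have h3 := mem_of_pow_p hG huniq _ hne _ h2
    apply hb
    have h4 : b = (b * a ^ i) * (a ^ i)⁻¹ := by group
    rw [h4]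
    exact Subgroup.mul_mem _ h3 (Subgroup.inv_mem _ (Subgroup.pow_mem _ (Subgroup.mem_zpowers a) _))
  · have h2 : b⁻¹ * a ^ j * b = a ^ (j * s) := conj_pow_right hs' j
    have h3 : b⁻¹ * a ^ j * b = a ^ j := by
      rw [← hj']
      calc b⁻¹ * b ^ p * b = b⁻¹ * (b ^ p * b) := by rw [mul_assoc]
        _ = b⁻¹ * (b * b ^ p) := by rw [← pow_succ, ← pow_succ']
        _ = b ^ p := by group
    rw [h3] at h2
    rw [← hN]
    exact (pow_eq_pow_iff_modEq.1 h2).symm
  · intro hmod
    rw [← hN] at hmod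
    have h2 : a ^ s = a ^ 1 := pow_eq_pow_iff_modEq.2 hmod
    rw [pow_one] at h2
    rw [h2] at hs'
    apply hb
    apply hcent
    calc b * a = b * (b⁻¹ * a * b) := by rw [hs']
      _ = a * b := by group
  · have h2 := conj_pow_formula hs' p
    rw [hj'] at h2
    have h3 : (a ^ j)⁻¹ * a * a ^ j = a := by
      have : Commute (a ^ j) a := (Commute.refl a).pow_left j
      calc (a ^ j)⁻¹ * a * a ^ j = (a ^ j)⁻¹ * (a * a ^ j) := by rw [mul_assoc]
        _ = (a ^ j)⁻¹ * (a ^ j * a) := by rw [this.eq]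
        _ = a := by group
    rw [h3] at h2
    rw [← hN]
    have h4 : a ^ (s ^ p) = a ^ 1 := by rw [pow_one]; exact h2.symm
    exact pow_eq_pow_iff_modEq.1 h4

end key

section main

variable {G : Type u} [Group G] [Finite G] {p : ℕ} [hp : Fact p.Prime]

/-- odd case: `G = ⟨a⟩` -/
theorem odd_case (hodd : p ≠ 2) (hG : IsPGroup p G)
    (huniq : ∀ H K : Subgroup G, Nat.card H = p → Nat.card K = p → H = K)
    (a : G) (hAn : (Subgroup.zpowers a).Normal)
    (hcent : ∀ g : G, g * a = a * g → g ∈ Subgroup.zpowers a)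
    (n : ℕ) (hN : orderOf a = p ^ n) (ha1 : a ≠ 1) : ∀ g : G, g ∈ Subgroup.zpowers a := by
  have hn : 1 ≤ n := by
    rcases Nat.eq_zero_or_pos n with h | h
    · rw [h, pow_zero, orderOf_eq_one_iff] at hN
      exact absurd hN ha1
    · exact h
  have hstep : ∀ g : G, g ^ p ∈ Subgroup.zpowers a → g ∈ Subgroup.zpowers a := by
    intro g hg
    by_contra hgA
    obtain ⟨s, j, hs, hj, F1, F2, F3, F4⟩ := key hG huniq a hAn hcent n hN ha1 g hgA hg
    exact odd_contra p hp.out hodd n hn s j F1 F2 F3 F4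
  have hall : ∀ k : ℕ, ∀ g : G, g ^ (p ^ k) ∈ Subgroup.zpowers a → g ∈ Subgroup.zpowers a := by
    intro k
    induction k with
    | zero => intro g hg; simpa using hg
    | succ k ih =>
      intro g hg
      apply hstep
      apply ih
      rw [← pow_mul, ← pow_succ']; exact hg
  intro g
  obtain ⟨k, hk⟩ := hG g
  exact hall k g (by rw [hk]; exact one_mem _)

/-- case `p = 2`, `G ≠ ⟨a⟩`: generalized quaternion -/
theorem two_case [hp2 : Fact (Nat.Prime 2)] (hG : IsPGroup 2 G)
    (huniq : ∀ H K : Subgroup G, Nat.card H = 2 → Nat.card K = 2 → H = K)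
    (a : G) (hAn : (Subgroup.zpowers a).Normal)
    (hcent : ∀ g : G, g * a = a * g → g ∈ Subgroup.zpowers a)
    (n : ℕ) (hN : orderOf a = 2 ^ n) (ha1 : a ≠ 1) (hne : ∃ g : G, g ∉ Subgroup.zpowers a) :
    ∃ m : ℕ, Nonempty (G ≃* QuaternionGroup (2 ^ m)) := by
  have hK : ∀ b : G, b ∉ Subgroup.zpowers a → b ^ 2 ∈ Subgroup.zpowers a →
      b⁻¹ * a * b = a⁻¹ ∧ 2 ≤ n ∧ b ^ 2 = a ^ (2 ^ (n - 1)) := by
    intro b hb hb2
    obtain ⟨s, j, hs, hj, F1, F2, F3, F4⟩ := key hG huniq a hAn hcent n hN ha1 b hb hb2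
    have hgS : gS s 2 = s + 1 := by simp [gS]
    rw [hgS] at F1
    obtain ⟨h1, h2, h3⟩ := two_concl n s j F1 F2 F3
    refine ⟨?_, h2, ?_⟩
    · have h5 : a ^ (s + 1) = 1 := by rw [← hN] at h1; exact orderOf_dvd_iff_pow_eq_one.1 h1
      rw [hs]; rw [pow_succ] at h5; exact eq_inv_of_mul_eq_one_left h5
    · rw [hj]; rw [← hN] at h3; exact pow_eq_pow_iff_modEq.2 h3
  have h4 : ∀ g : G, g ^ 4 ∈ Subgroup.zpowers a → g ^ 2 ∈ Subgroup.zpowers a := by
    intro g hg4
    by_contra hg2
    obtain ⟨hinv, hn2, -⟩ := hK (g ^ 2) hg2 (by rw [← pow_mul]; exact hg4)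
    have h1 : g⁻¹ * a * g ∈ Subgroup.zpowers a := by
      have := hAn.conj_mem a (Subgroup.mem_zpowers a) g⁻¹
      rwa [inv_inv] at this
    rw [← mem_powers_iff_mem_zpowers] at h1
    obtain ⟨t, ht⟩ := h1
    have h2 := conj_pow_formula ht.symm 2
    rw [hinv] at h2
    have h3 : a ^ (t ^ 2 + 1) = 1 := by rw [pow_succ, ← h2]; group
    have h5 : 2 ^ n ∣ t ^ 2 + 1 := by rw [← hN]; exact orderOf_dvd_of_pow_eq_one h3
    have h6 : 4 ∣ t ^ 2 + 1 := dvd_trans (by
      have : (2 : ℕ) ^ 2 ∣ 2 ^ n := pow_dvd_pow 2 hn2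
      simpa using this) h5
    rcases Nat.even_or_odd' t with ⟨c, hc | hc⟩
    · rw [hc] at h6
      have : (2 * c) ^ 2 + 1 = 4 * (c * c) + 1 := by ring
      rw [this] at h6; omega
    · rw [hc] at h6
      have : (2 * c + 1) ^ 2 + 1 = 4 * (c * c + c) + 2 := by ring
      rw [this] at h6; omega
  have hall : ∀ k : ℕ, ∀ g : G, g ^ (2 ^ k) ∈ Subgroup.zpowers a → g ^ 2 ∈ Subgroup.zpowers a := by
    intro k
    induction k with
    | zero => intro g hg; rw [pow_zero, pow_one] at hg; exact Subgroup.pow_mem _ hg 2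
    | succ k ih =>
      intro g hg
      apply h4
      have h1 : (g ^ 2) ^ 2 ∈ Subgroup.zpowers a := by
        apply ih
        rw [← pow_mul, ← pow_succ']; exact hg
      rw [← pow_mul] at h1
      exact h1
  have hsq : ∀ g : G, g ^ 2 ∈ Subgroup.zpowers a := by
    intro g
    obtain ⟨k, hk⟩ := hG g
    exact hall k g (by rw [hk]; exact one_mem _)
  obtain ⟨b, hb⟩ := hne
  obtain ⟨hinv, hn2, hb2⟩ := hK b hb (hsq b)
  -- index two
  have hidx : (Subgroup.zpowers a).index = 2 := by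
    rw [Subgroup.index_eq_two_iff]
    refine ⟨b⁻¹, fun x => ?_⟩
    by_cases hx : x ∈ Subgroup.zpowers a
    · refine Or.inr ⟨hx, fun h => hb ?_⟩
      have h1 : b = (x * b⁻¹)⁻¹ * x := by group
      rw [h1]
      exact Subgroup.mul_mem _ (Subgroup.inv_mem _ h) hx
    · refine Or.inl ⟨?_, hx⟩
      apply hcent
      obtain ⟨hinvx, -, -⟩ := hK x hx (hsq x)
      calc x * b⁻¹ * a = x * (b⁻¹ * a * b) * b⁻¹ := by group
        _ = x * (x⁻¹ * a * x) * b⁻¹ := by rw [hinv, hinvx]
        _ = a * (x * b⁻¹) := by group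
  have hcardG : Nat.card G = 2 ^ n * 2 := by
    rw [← Subgroup.card_mul_index (Subgroup.zpowers a), hidx, Nat.card_zpowers, hN]
  obtain ⟨m, rfl⟩ : ∃ m, n = m + 1 := ⟨n - 1, by omega⟩
  rw [Nat.add_sub_cancel] at hb2
  have hx : a ^ (2 * 2 ^ m) = 1 := by
    rw [← pow_succ', ← hN]; exact pow_orderOf_eq_one a
  have hy : b * b = a ^ (2 ^ m) := by rw [← pow_two]; exact hb2
  have hxy : a * b = b * a⁻¹ := by rw [← hinv]; group
  obtain ⟨f, hfa, hfxa⟩ := quatHom (2 ^ m) a b hx hy hxy
  have hinj := quatHom_injective (2 ^ m) a b f hfa hfxa (by rw [hN, pow_succ']) hb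
  have hbij : Function.Bijective f := by
    apply hinj.bijective_of_nat_card_le
    rw [Nat.card_eq_fintype_card (α := QuaternionGroup (2 ^ m)), QuaternionGroup.card, hcardG, pow_succ]
    omega
  exact ⟨m, ⟨(MulEquiv.ofBijective f hbij).symm⟩⟩

/-- **Main theorem**: a finite `p`-group with a unique subgroup of order `p` is cyclic or generalized
quaternion. -/
theorem main (p : ℕ) [hp : Fact p.Prime] (hG : IsPGroup p G)
    (huniq : ∀ H K : Subgroup G, Nat.card H = p → Nat.card K = p → H = K) :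
    IsCyclic G ∨ (p = 2 ∧ ∃ n : ℕ, Nonempty (G ≃* QuaternionGroup (2 ^ n))) := by
  haveI : Group.IsNilpotent G := hG.isNilpotent
  obtain ⟨A, -, hAmax⟩ := Finite.exists_le_maximal
    (p := fun M : Subgroup G => M.Normal ∧ IsMulCommutative M) (a := ⊥) ⟨inferInstance, inferInstance⟩
  obtain ⟨⟨hAn, hAc⟩, hAm⟩ := hAmax
  haveI := hAn
  haveI := hAc
  have hcentA := Cfsg.Agent.S0015.result A
    (fun M hMn hMc hle => le_antisymm (hAm ⟨hMn, hMc⟩ hle) hle)
  have hAcyc : IsCyclic A :=
    isCyclic_of_comm p (hG.to_subgroup A) (fun x y => mul_comm' x y) (huniq_subgroup huniq A)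
  obtain ⟨a', ha'⟩ := hAcyc.exists_generator
  have hAz : A = Subgroup.zpowers (a' : G) := by
    ext x
    constructor
    · intro hx
      obtain ⟨k, hk⟩ := Subgroup.mem_zpowers_iff.1 (ha' ⟨x, hx⟩)
      refine Subgroup.mem_zpowers_iff.2 ⟨k, ?_⟩
      have := congrArg Subtype.val hk
      simpa using this
    · intro hx; exact (Subgroup.zpowers_le.2 a'.2) hx
  obtain ⟨a, haa⟩ : ∃ a : G, a = (a' : G) := ⟨_, rfl⟩
  rw [← haa] at hAz
  by_cases htop : ∀ g : G, g ∈ Subgroup.zpowers a
  · left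
    exact isCyclic_iff_exists_zpowers_eq_top.2 ⟨a, (Subgroup.eq_top_iff' _).2 htop⟩
  have hAn' : (Subgroup.zpowers a).Normal := hAz ▸ hAn
  have hcent : ∀ g : G, g * a = a * g → g ∈ Subgroup.zpowers a := by
    intro g hg
    rw [← hAz, ← hcentA, Subgroup.mem_centralizer_iff]
    intro h hh
    rw [SetLike.mem_coe, hAz] at hh
    obtain ⟨k, rfl⟩ := Subgroup.mem_zpowers_iff.1 hh
    have hc : Commute g a := hg
    exact ((hc.zpow_right k).eq).symm
  obtain ⟨n, hN⟩ := IsPGroup.iff_orderOf.1 hG a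
  have ha1 : a ≠ 1 := by
    rintro rfl
    apply htop
    intro g
    apply hcent
    simp
  by_cases hp2 : p = 2
  · right
    subst hp2
    push Not at htop
    exact ⟨rfl, two_case hG huniq a hAn' hcent n hN ha1 htop⟩
  · exact absurd (odd_case hp2 hG huniq a hAn' hcent n hN ha1) htop

end main

end Cfsg.Agent.H2.UOP
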