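import Mathlib

set_option autoImplicit false

namespace Cfsg.Agent.H2

variable {G : Type*} [Group G]

/-- Membership in a conjugate `A.map (MulAut.conj g)`. -/
theorem mem_map_conj_iff (A : Subgroup G) (g x : G) :
    x ∈ A.map (MulAut.conj g).toMonoidHom ↔ g⁻¹ * x * g ∈ A := by
  constructor
  · rintro ⟨a, ha, rfl⟩
    simpa [MulAut.conj_apply, mul_assoc] using ha
  · intro h
    refine ⟨g⁻¹ * x * g, h, ?_⟩
    simp [MulAut.conj_apply, mul_assoc]

theorem conj_mem_map_conj (A : Subgroup G) (g : G) {a : G} (ha : a ∈ A) :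
    g * a * g⁻¹ ∈ A.map (MulAut.conj g).toMonoidHom :=
  ⟨a, ha, by simp [MulAut.conj_apply]⟩

theorem map_conj_mul (A : Subgroup G) (g h : G) :
    A.map (MulAut.conj (g * h)).toMonoidHom
      = (A.map (MulAut.conj h).toMonoidHom).map (MulAut.conj g).toMonoidHom := by
  ext x
  simp only [mem_map_conj_iff]
  rw [show (g * h)⁻¹ * x * (g * h) = h⁻¹ * (g⁻¹ * x * g) * h by group]

theorem map_conj_one (A : Subgroup G) :
    A.map (MulAut.conj (1 : G)).toMonoidHom = A := by
  ext x
  simp [mem_map_conj_iff]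

theorem map_conj_eq_self_iff_mem_normalizer (A : Subgroup G) (g : G) :
    A.map (MulAut.conj g).toMonoidHom = A ↔ g ∈ Subgroup.normalizer (A : Set G) := by
  rw [Subgroup.mem_normalizer_iff'']
  constructor
  · intro h x
    rw [← mem_map_conj_iff, h]
  · intro h
    ext x
    rw [mem_map_conj_iff, ← h]

theorem map_conj_eq_of_mem (A : Subgroup G) {g : G} (hg : g ∈ A) :
    A.map (MulAut.conj g).toMonoidHom = A := by
  rw [map_conj_eq_self_iff_mem_normalizer]
  exact Subgroup.le_normalizer hg

theorem map_conj_eq_iff (A B : Subgroup G) (g : G) :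
    A.map (MulAut.conj g).toMonoidHom = B ↔ A = B.map (MulAut.conj g⁻¹).toMonoidHom := by
  constructor
  · rintro rfl
    rw [← map_conj_mul, inv_mul_cancel, map_conj_one]
  · intro h
    rw [h, ← map_conj_mul, mul_inv_cancel, map_conj_one]

theorem map_conj_le_iff (A B : Subgroup G) (g : G) :
    A.map (MulAut.conj g).toMonoidHom ≤ B ↔ A ≤ B.map (MulAut.conj g⁻¹).toMonoidHom := by
  constructor
  · intro h x hx
    rw [mem_map_conj_iff, inv_inv]
    exact h (conj_mem_map_conj A g hx)
  · intro h x hx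
    rw [mem_map_conj_iff] at hx
    have := h hx
    rw [mem_map_conj_iff, inv_inv] at this
    convert this using 1
    group

theorem map_conj_mono {A B : Subgroup G} (h : A ≤ B) (g : G) :
    A.map (MulAut.conj g).toMonoidHom ≤ B.map (MulAut.conj g).toMonoidHom :=
  Subgroup.map_mono h

end Cfsg.Agent.H2

namespace Cfsg.Agent.H2

variable {G : Type*} [Group G]

theorem mem_sylow_smul_iff {p : ℕ} (P : Sylow p G) (h x : G) :
    x ∈ ((h • P : Sylow p G) : Subgroup G) ↔ h⁻¹ * x * h ∈ (P : Subgroup G) := by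
  rw [Sylow.coe_subgroup_smul, Subgroup.mem_pointwise_smul_iff_inv_smul_mem]
  simp [MulAut.smul_def]

theorem sylow_smul_eq_map_conj {p : ℕ} (P : Sylow p G) (h : G) :
    ((h • P : Sylow p G) : Subgroup G) = (P : Subgroup G).map (MulAut.conj h).toMonoidHom := by
  ext x
  rw [mem_sylow_smul_iff, mem_map_conj_iff]

theorem card_map_conj [Finite G] (A : Subgroup G) (g : G) :
    Nat.card (A.map (MulAut.conj g).toMonoidHom) = Nat.card A :=
  Subgroup.card_map_of_injective (MulAut.conj g).injective

/-- If a conjugate of a finite subgroup is contained in it, it is equal to it. -/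
theorem map_conj_eq_of_le [Finite G] (A : Subgroup G) (g : G)
    (h : A.map (MulAut.conj g).toMonoidHom ≤ A) : A.map (MulAut.conj g).toMonoidHom = A :=
  Subgroup.eq_of_le_of_card_ge h (card_map_conj A g).ge

end Cfsg.Agent.H2

namespace Cfsg.Agent.H2

variable {G : Type*} [Group G]

open scoped Pointwise

theorem mem_conj_smul_iff (H : Subgroup G) (g x : G) :
    x ∈ MulAut.conj g • H ↔ g⁻¹ * x * g ∈ H := by
  rw [Subgroup.mem_pointwise_smul_iff_inv_smul_mem]
  simp [MulAut.smul_def]

theorem conj_smul_eq_map (H : Subgroup G) (g : G) :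
    MulAut.conj g • H = H.map (MulAut.conj g).toMonoidHom := by
  ext x
  rw [mem_conj_smul_iff, mem_map_conj_iff]

end Cfsg.Agent.H2
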