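import Mathlib
import Cfsg.Agent.H1.Card

/-!
# Counting independent tuples in an elementary abelian group (helper2)

For a finite commutative group `V` of exponent `p` and order `p ^ r`:
the number of `k`-tuples generating a subgroup of order `p ^ k` is `∏ i < k, (p ^ r - p ^ i)`.
-/

set_option autoImplicit false

namespace Cfsg.Agent.H2.ElemAb

variable {V : Type*} [CommGroup V] [Finite V] {p : ℕ} [hp : Fact p.Prime]

theorem card_sup_zpowers (hexp : ∀ x : V, x ^ p = 1) (K : Subgroup V) {x : V} (hx : x ∉ K) :
    Nat.card (K ⊔ Subgroup.zpowers x : Subgroup V) = p * Nat.card K := by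
  have hx1 : x ≠ 1 := fun h => hx (h ▸ K.one_mem)
  have hord : orderOf x = p := orderOf_eq_prime (hexp x) hx1
  have hcz : Nat.card (Subgroup.zpowers x) = p := by rw [Nat.card_zpowers, hord]
  have hinf : Nat.card (K ⊓ Subgroup.zpowers x : Subgroup V) = 1 := by
    have hd : Nat.card (K ⊓ Subgroup.zpowers x : Subgroup V) ∣ p := by
      rw [← hcz]; exact Subgroup.card_dvd_of_le inf_le_right
    rcases (Nat.dvd_prime hp.out).mp hd with h | h
    · exact h
    · exfalso
      have : K ⊓ Subgroup.zpowers x = Subgroup.zpowers x :=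
        Subgroup.eq_of_le_of_card_ge inf_le_right (by rw [h, hcz])
      apply hx
      have h2 : x ∈ K ⊓ Subgroup.zpowers x := by rw [this]; exact Subgroup.mem_zpowers x
      exact h2.1
  have hLE : K ≤ Subgroup.normalizer ((Subgroup.zpowers x : Subgroup V) : Set V) := by
    rw [Subgroup.normalizer_eq_top_iff.mpr inferInstance]; exact le_top
  have := Cfsg.Agent.H1.card_sup_mul_card_inf K (Subgroup.zpowers x) hLE
  rw [hinf, mul_one, hcz] at this
  rw [this, mul_comm]

omit [Finite V] in
theorem closure_range_snoc {k : ℕ} (v : Fin k → V) (x : V) :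
    Subgroup.closure (Set.range (Fin.snoc (α := fun _ => V) v x)) =
      Subgroup.closure (Set.range v) ⊔ Subgroup.zpowers x := by
  rw [Fin.range_snoc, Set.insert_eq, Subgroup.closure_union, Subgroup.zpowers_eq_closure, sup_comm]

theorem card_closure_dvd (hexp : ∀ x : V, x ^ p = 1) :
    ∀ (k : ℕ) (v : Fin k → V), Nat.card (Subgroup.closure (Set.range v)) ∣ p ^ k := by
  intro k
  induction k with
  | zero =>
    intro v
    have : Set.range v = ∅ := Set.range_eq_empty v
    rw [this, Subgroup.closure_empty, Subgroup.card_bot]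
    exact one_dvd _
  | succ k ih =>
    intro v
    rw [← Fin.snoc_init_self v, closure_range_snoc]
    by_cases hx : v (Fin.last k) ∈ Subgroup.closure (Set.range (Fin.init v))
    · have : Subgroup.closure (Set.range (Fin.init v)) ⊔ Subgroup.zpowers (v (Fin.last k)) =
          Subgroup.closure (Set.range (Fin.init v)) := by
        rw [sup_eq_left, Subgroup.zpowers_le]; exact hx
      rw [this]
      exact (ih _).trans (pow_dvd_pow p (Nat.le_succ k))
    · rw [card_sup_zpowers hexp _ hx, pow_succ, mul_comm]
      exact Nat.mul_dvd_mul_right (ih _) p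

theorem snoc_indep_iff (hexp : ∀ x : V, x ^ p = 1) {k : ℕ} (v : Fin k → V) (x : V) :
    (Nat.card (Subgroup.closure (Set.range v)) = p ^ k ∧ x ∉ Subgroup.closure (Set.range v)) ↔
      Nat.card (Subgroup.closure (Set.range (Fin.snoc (α := fun _ => V) v x))) = p ^ (k + 1) := by
  rw [closure_range_snoc]
  constructor
  · rintro ⟨h1, h2⟩
    rw [card_sup_zpowers hexp _ h2, h1, pow_succ, mul_comm]
  · intro h
    have hx : x ∉ Subgroup.closure (Set.range v) := by
      intro hx
      have : Subgroup.closure (Set.range v) ⊔ Subgroup.zpowers x = Subgroup.closure (Set.range v) := by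
        rw [sup_eq_left, Subgroup.zpowers_le]; exact hx
      rw [this] at h
      have hd := card_closure_dvd hexp k v
      rw [h] at hd
      have := (Nat.pow_dvd_pow_iff_le_right hp.out.one_lt).mp hd
      omega
    refine ⟨?_, hx⟩
    rw [card_sup_zpowers hexp _ hx, pow_succ, mul_comm] at h
    exact Nat.eq_of_mul_eq_mul_right hp.out.pos h

theorem card_compl_subgroup (K : Subgroup V) :
    Nat.card {x : V // x ∉ K} = Nat.card V - Nat.card K := by
  classical
  have e := Equiv.sumCompl (fun x : V => x ∈ K)
  have h := Nat.card_congr e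
  rw [Nat.card_sum] at h
  have : Nat.card {x : V // x ∈ K} = Nat.card K := rfl
  omega

theorem card_indep (hexp : ∀ x : V, x ^ p = 1) {r : ℕ} (hV : Nat.card V = p ^ r) :
    ∀ k ≤ r, Nat.card {v : Fin k → V // Nat.card (Subgroup.closure (Set.range v)) = p ^ k} =
      ∏ i ∈ Finset.range k, (p ^ r - p ^ i) := by
  classical
  intro k
  induction k with
  | zero =>
    intro _
    rw [Finset.range_zero, Finset.prod_empty, Nat.card_eq_one_iff_unique]
    refine ⟨⟨fun a b => Subtype.ext (Subsingleton.elim _ _)⟩, ⟨⟨fun i => i.elim0, ?_⟩⟩⟩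
    have : Set.range (fun i : Fin 0 => (i.elim0 : V)) = ∅ := Set.range_eq_empty _
    rw [this, Subgroup.closure_empty, Subgroup.card_bot, pow_zero]
  | succ k ih =>
    intro hk
    have ih' := ih (by omega)
    let e₀ : (Fin k → V) × V ≃ (Fin (k + 1) → V) :=
      (Equiv.prodComm _ _).trans (Fin.snocEquiv (fun _ => V))
    have he₀ : ∀ q : (Fin k → V) × V, e₀ q = Fin.snoc (α := fun _ => V) q.1 q.2 := fun q => rfl
    let pr : (Fin k → V) → V → Prop := fun v x =>
      Nat.card (Subgroup.closure (Set.range v)) = p ^ k ∧ x ∉ Subgroup.closure (Set.range v)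
    have e₁ : {q : (Fin k → V) × V // pr q.1 q.2} ≃
        {v' : Fin (k + 1) → V // Nat.card (Subgroup.closure (Set.range v')) = p ^ (k + 1)} :=
      Equiv.subtypeEquiv e₀ (fun q => by rw [he₀]; exact snoc_indep_iff hexp q.1 q.2)
    have e₂ := Equiv.subtypeProdEquivSigmaSubtype pr
    rw [← Nat.card_congr e₁, Nat.card_congr e₂]
    have : Fintype (Fin k → V) := Fintype.ofFinite _
    rw [Nat.card_sigma]
    have hfib : ∀ v : Fin k → V, Nat.card {x : V // pr v x} =
        if Nat.card (Subgroup.closure (Set.range v)) = p ^ k then (p ^ r - p ^ k) else 0 := by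
      intro v
      by_cases hv : Nat.card (Subgroup.closure (Set.range v)) = p ^ k
      · rw [if_pos hv]
        have e₃ : {x : V // pr v x} ≃ {x : V // x ∉ Subgroup.closure (Set.range v)} :=
          Equiv.subtypeEquivRight (fun x => ⟨fun h => h.2, fun h => ⟨hv, h⟩⟩)
        rw [Nat.card_congr e₃, card_compl_subgroup, hV, hv]
      · rw [if_neg hv]
        have : IsEmpty {x : V // pr v x} := ⟨fun x => hv x.2.1⟩
        exact Nat.card_of_isEmpty
    rw [Finset.sum_congr rfl (fun v _ => hfib v), Finset.sum_ite, Finset.sum_const_zero, add_zero,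
      Finset.sum_const, smul_eq_mul, Finset.prod_range_succ, ← ih', Nat.card_eq_fintype_card,
      Fintype.card_subtype]

end Cfsg.Agent.H2.ElemAb
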