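import Mathlib
import Cfsg.Prelude.Def_PLocal
import Cfsg.Agent.H1.Frattini

/-!
# Regular `p`-groups: `a ^ q = b ^ q ↔ (a⁻¹ b) ^ q = 1`

(author: helper2)
-/

set_option autoImplicit false

namespace Cfsg.Agent.H2.RegP

open scoped commutatorElement

/-- if the commutators of the generators lie in a subgroup normalized by the generated subgroup,
then so does the whole derived subgroup -/
theorem commutator_closure_le {G : Type*} [Group G] (S : Set G) (N : Subgroup G)
    (hN : Subgroup.closure S ≤ Subgroup.normalizer (N : Set G))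
    (h : ∀ s ∈ S, ∀ t ∈ S, ⁅s, t⁆ ∈ N) :
    ⁅Subgroup.closure S, Subgroup.closure S⁆ ≤ N := by
  have conjmem : ∀ g ∈ Subgroup.closure S, ∀ x ∈ N, g * x * g⁻¹ ∈ N := fun g hg x hx =>
    (Subgroup.mem_normalizer_iff.mp (hN hg) x).mp hx
  have h1 : ∀ s ∈ S, ∀ y ∈ Subgroup.closure S, ⁅s, y⁆ ∈ N := by
    intro s hs y hy
    induction hy using Subgroup.closure_induction with
    | mem t ht => exact h s hs t ht
    | one => rw [commutatorElement_one_right]; exact N.one_mem
    | mul y z hy hz ihy ihz =>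
      have : ⁅s, y * z⁆ = ⁅s, y⁆ * (y * ⁅s, z⁆ * y⁻¹) := by
        simp only [commutatorElement_def]; group
      rw [this]; exact N.mul_mem ihy (conjmem y hy _ ihz)
    | inv y hy ih =>
      have : ⁅s, y⁻¹⁆ = y⁻¹ * ⁅s, y⁆⁻¹ * y⁻¹⁻¹ := by
        simp only [commutatorElement_def]; group
      rw [this]; exact conjmem _ (inv_mem hy) _ (N.inv_mem ih)
  rw [Subgroup.commutator_le]
  intro x hx y hy
  induction hx using Subgroup.closure_induction with
  | mem s hs => exact h1 s hs y hy
  | one => rw [commutatorElement_one_left]; exact N.one_mem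
  | mul x z hx hz ihx ihz =>
    have : ⁅x * z, y⁆ = x * ⁅z, y⁆ * x⁻¹ * ⁅x, y⁆ := by
      simp only [commutatorElement_def]; group
    rw [this]; exact N.mul_mem (conjmem x hx _ ihz) ihx
  | inv x hx ih =>
    have : ⁅x⁻¹, y⁆ = x⁻¹ * ⁅x, y⁆⁻¹ * x⁻¹⁻¹ := by
      simp only [commutatorElement_def]; group
    rw [this]; exact conjmem _ (inv_mem hx) _ (N.inv_mem ih)

/-- a `p`-group generated by one element modulo its derived subgroup is abelian -/
theorem comm_of_zpowers_sup_commutator {P : Type*} [Group P] [Finite P] {p : ℕ} [Fact p.Prime]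
    (hP : IsPGroup p P) (g : P) (h : Subgroup.zpowers g ⊔ commutator P = ⊤) :
    ∀ x y : P, x * y = y * x := by
  have h1 : Subgroup.zpowers g ⊔ frattini P = ⊤ := by
    apply top_le_iff.mp
    rw [← h]
    exact sup_le_sup_left (Cfsg.Agent.H1.commutator_le_frattini hP) _
  have h2 : Subgroup.zpowers g = ⊤ := frattini_nongenerating h1
  intro x y
  have hx : x ∈ Subgroup.zpowers g := h2 ▸ Subgroup.mem_top x
  have hy : y ∈ Subgroup.zpowers g := h2 ▸ Subgroup.mem_top y
  obtain ⟨i, rfl⟩ := Subgroup.mem_zpowers_iff.mp hx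
  obtain ⟨j, rfl⟩ := Subgroup.mem_zpowers_iff.mp hy
  exact ((Commute.refl g).zpow_zpow i j).eq

theorem commutator_self_le {G : Type*} [Group G] (H : Subgroup G) : ⁅H, H⁆ ≤ H := by
  rw [Subgroup.commutator_le]
  intro x hx y hy
  rw [commutatorElement_def]
  exact H.mul_mem (H.mul_mem (H.mul_mem hx hy) (H.inv_mem hx)) (H.inv_mem hy)

/-- in a nonabelian `p`-subgroup `H`, the subgroup `⟨g⟩ H'` is proper -/
theorem card_zpowers_sup_commutator_lt {G : Type*} [Group G] [Finite G] {p : ℕ} [Fact p.Prime]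
    (hG : IsPGroup p G) (H : Subgroup G) (g : G) (hg : g ∈ H)
    (hnc : ∃ x ∈ H, ∃ y ∈ H, x * y ≠ y * x) :
    Nat.card (Subgroup.zpowers g ⊔ ⁅H, H⁆ : Subgroup G) < Nat.card H := by
  have hle : Subgroup.zpowers g ⊔ ⁅H, H⁆ ≤ H :=
    sup_le (by rwa [Subgroup.zpowers_le]) (commutator_self_le H)
  by_contra hlt0
  have hlt := not_lt.mp hlt0
  have heq : Subgroup.zpowers g ⊔ ⁅H, H⁆ = H := Subgroup.eq_of_le_of_card_ge hle hlt
  have htop : Subgroup.zpowers (⟨g, hg⟩ : H) ⊔ commutator H = ⊤ := by
    apply Subgroup.map_injective H.subtype_injective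
    rw [Subgroup.map_sup, MonoidHom.map_zpowers, Subgroup.map_subtype_commutator,
      ← MonoidHom.range_eq_map, Subgroup.range_subtype]
    exact heq
  have hcomm := comm_of_zpowers_sup_commutator (hG.to_subgroup H) ⟨g, hg⟩ htop
  obtain ⟨x, hx, y, hy, hxy⟩ := hnc
  apply hxy
  have := hcomm ⟨x, hx⟩ ⟨y, hy⟩
  exact congrArg Subtype.val this

theorem closure_inv_pair {G : Type*} [Group G] (a b : G) :
    Subgroup.closure ({a⁻¹, b} : Set G) = Subgroup.closure ({a, b} : Set G) := by
  apply le_antisymm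
  · rw [Subgroup.closure_le]
    intro t ht
    rcases ht with rfl | rfl
    · exact inv_mem (Subgroup.subset_closure (Set.mem_insert _ _))
    · exact Subgroup.subset_closure (Set.mem_insert_of_mem _ rfl)
  · rw [Subgroup.closure_le]
    intro t ht
    rcases ht with rfl | rfl
    · have : (t⁻¹)⁻¹ ∈ Subgroup.closure ({t⁻¹, b} : Set G) :=
        inv_mem (Subgroup.subset_closure (Set.mem_insert _ _))
      rwa [inv_inv] at this
    · exact Subgroup.subset_closure (Set.mem_insert_of_mem _ rfl)

theorem closure_pair_mul {G : Type*} [Group G] (a b : G) :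
    Subgroup.closure ({a, a⁻¹ * b} : Set G) = Subgroup.closure ({a, b} : Set G) := by
  apply le_antisymm
  · rw [Subgroup.closure_le]
    intro t ht
    rcases ht with rfl | rfl
    · exact Subgroup.subset_closure (Set.mem_insert _ _)
    · exact mul_mem (inv_mem (Subgroup.subset_closure (Set.mem_insert _ _)))
        (Subgroup.subset_closure (Set.mem_insert_of_mem _ rfl))
  · rw [Subgroup.closure_le]
    intro t ht
    rcases ht with rfl | ht
    · exact Subgroup.subset_closure (Set.mem_insert _ _)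
    · rw [Set.mem_singleton_iff] at ht
      subst ht
      have h1 : t = a * (a⁻¹ * t) := by group
      have h2 : a * (a⁻¹ * t) ∈ Subgroup.closure ({a, a⁻¹ * t} : Set G) :=
        mul_mem (Subgroup.subset_closure (Set.mem_insert _ _))
          (Subgroup.subset_closure (Set.mem_insert_of_mem _ rfl))
      rw [← h1] at h2
      exact h2

variable {G : Type*} [Group G] [Finite G] {p : ℕ} [Fact p.Prime]

/-- the fundamental lemma on regular `p`-groups, by induction on the order of `⟨a, b⟩` -/
theorem main_aux (hG : Cfsg.IsRegularPGroup p G) :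
    ∀ m : ℕ, ∀ a b : G, Nat.card (Subgroup.closure ({a, b} : Set G)) < m →
      ∀ k : ℕ, (a ^ p ^ k = b ^ p ^ k ↔ (a⁻¹ * b) ^ p ^ k = 1) := by
  intro m
  induction m with
  | zero => intro a b h; omega
  | succ m ih =>
    intro a b hcard k
    by_cases hcomm : a * b = b * a
    · have hc : Commute a⁻¹ b := (show Commute a b from hcomm).inv_left
      rw [hc.mul_pow, inv_pow]
      constructor
      · intro h; rw [h, inv_mul_cancel]
      · intro h; exact (inv_inj.mp (inv_eq_of_mul_eq_one_left h).symm).symm ▸ rfl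
    · obtain ⟨H, hH⟩ : ∃ H : Subgroup G, H = Subgroup.closure ({a, b} : Set G) := ⟨_, rfl⟩
      have haH : a ∈ H := by rw [hH]; exact Subgroup.subset_closure (Set.mem_insert _ _)
      have hbH : b ∈ H := by
        rw [hH]; exact Subgroup.subset_closure (Set.mem_insert_of_mem _ rfl)
      have hnc : ∃ x ∈ H, ∃ y ∈ H, x * y ≠ y * x := ⟨a, haH, b, hbH, hcomm⟩
      have ih' : ∀ K : Subgroup G, Nat.card K < Nat.card H → ∀ x ∈ K, ∀ y ∈ K, ∀ k' : ℕ,
          (x ^ p ^ k' = y ^ p ^ k' ↔ (x⁻¹ * y) ^ p ^ k' = 1) := by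
        intro K hK x hx y hy k'
        apply ih x y _ k'
        have hle : Subgroup.closure ({x, y} : Set G) ≤ K := by
          rw [Subgroup.closure_le]
          intro t ht
          rcases ht with rfl | rfl
          · exact hx
          · exact hy
        have h1 := Subgroup.card_le_of_le hle
        rw [hH] at hK
        omega
      have hE : ∀ K : Subgroup G, Nat.card K < Nat.card H → ∀ T : Set G, T ⊆ K →
          (∀ t ∈ T, t ^ p ^ k = 1) → ∀ x ∈ Subgroup.closure T, x ^ p ^ k = 1 := by
        intro K hK T hTK hT x hx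
        have hcl : Subgroup.closure T ≤ K := (Subgroup.closure_le K).mpr hTK
        induction hx using Subgroup.closure_induction with
        | mem t ht => exact hT t ht
        | one => exact one_pow _
        | mul x y hx hy ihx ihy =>
          have := (ih' K hK x⁻¹ (K.inv_mem (hcl hx)) y (hcl hy) k).mp (by
            rw [inv_pow, ihx, ihy, inv_one])
          rwa [inv_inv] at this
        | inv x hx ihx => rw [inv_pow, ihx, inv_one]
      obtain ⟨D, hD⟩ : ∃ D : Subgroup G, D = ⁅H, H⁆ := ⟨_, rfl⟩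
      have hDH : D ≤ H := by rw [hD]; exact commutator_self_le H
      have hDcard : Nat.card D < Nat.card H := by
        have h1 := card_zpowers_sup_commutator_lt hG.1 H a haH hnc
        have h2 : D ≤ Subgroup.zpowers a ⊔ ⁅H, H⁆ := by rw [hD]; exact le_sup_right
        exact lt_of_le_of_lt (Subgroup.card_le_of_le h2) h1
      have hDnorm : ∀ h ∈ H, ∀ x ∈ D, h * x * h⁻¹ ∈ D := by
        intro h hh x hx
        have h1 : h * x * h⁻¹ = ⁅h, x⁆ * x := by rw [commutatorElement_def]; group
        rw [h1]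
        refine D.mul_mem ?_ hx
        rw [hD]
        exact Subgroup.commutator_mem_commutator hh (hDH hx)
      have hL : ∀ u v : G, Subgroup.closure ({u, v} : Set G) = H → ⁅u, v⁆ ^ p ^ k = 1 →
          ∀ x ∈ D, x ^ p ^ k = 1 := by
        intro u v huv hw
        have huH : u ∈ H := by rw [← huv]; exact Subgroup.subset_closure (Set.mem_insert _ _)
        have hvH : v ∈ H := by
          rw [← huv]; exact Subgroup.subset_closure (Set.mem_insert_of_mem _ rfl)
        obtain ⟨T, hT⟩ : ∃ T : Set G, T = {x | x ∈ D ∧ x ^ p ^ k = 1} := ⟨_, rfl⟩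
        have hTD : T ⊆ D := by rw [hT]; intro x hx; exact hx.1
        have hTq : ∀ t ∈ T, t ^ p ^ k = 1 := by rw [hT]; intro x hx; exact hx.2
        have hΩ := hE D hDcard T hTD hTq
        have conjT : ∀ h ∈ H, ∀ x ∈ Subgroup.closure T, h * x * h⁻¹ ∈ Subgroup.closure T := by
          intro h hh x hx
          induction hx using Subgroup.closure_induction with
          | mem t ht =>
            apply Subgroup.subset_closure
            rw [hT] at ht ⊢
            exact ⟨hDnorm h hh t ht.1, by rw [conj_pow, ht.2, mul_one, mul_inv_cancel]⟩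
          | one => rw [mul_one, mul_inv_cancel]; exact one_mem _
          | mul x y hx hy ihx ihy =>
            have : h * (x * y) * h⁻¹ = (h * x * h⁻¹) * (h * y * h⁻¹) := by group
            rw [this]; exact mul_mem ihx ihy
          | inv x hx ihx =>
            have : h * x⁻¹ * h⁻¹ = (h * x * h⁻¹)⁻¹ := by group
            rw [this]; exact inv_mem ihx
        have hnorm : Subgroup.closure ({u, v} : Set G) ≤
            Subgroup.normalizer ((Subgroup.closure T : Subgroup G) : Set G) := by
          rw [huv]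
          intro h hh
          rw [Subgroup.mem_normalizer_iff]
          intro x
          constructor
          · exact conjT h hh x
          · intro hx
            have := conjT h⁻¹ (H.inv_mem hh) _ hx
            have h2 : h⁻¹ * (h * x * h⁻¹) * h⁻¹⁻¹ = x := by group
            rwa [h2] at this
        have huvT : ⁅u, v⁆ ∈ Subgroup.closure T := by
          apply Subgroup.subset_closure
          rw [hT]
          refine ⟨?_, hw⟩
          rw [hD]
          exact Subgroup.commutator_mem_commutator huH hvH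
        have hcomm_mem : ∀ s ∈ ({u, v} : Set G), ∀ t ∈ ({u, v} : Set G),
            ⁅s, t⁆ ∈ Subgroup.closure T := by
          intro s hs t ht
          rcases hs with rfl | hs <;> rcases ht with rfl | ht
          · rw [commutatorElement_self]; exact one_mem _
          · rw [Set.mem_singleton_iff] at ht; subst ht; exact huvT
          · rw [Set.mem_singleton_iff] at hs; subst hs
            rw [← commutatorElement_inv]; exact inv_mem huvT
          · rw [Set.mem_singleton_iff] at hs ht; subst hs; subst ht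
            rw [commutatorElement_self]; exact one_mem _
        have h5 := commutator_closure_le {u, v} (Subgroup.closure T) hnorm hcomm_mem
        rw [huv, ← hD] at h5
        intro x hx
        exact hΩ x (h5 hx)
      have hbot : (∀ x ∈ D, x ^ p ^ k = 1) → Cfsg.powerClosure p k D = ⊥ := by
        intro h4
        unfold Cfsg.powerClosure
        rw [Subgroup.closure_eq_bot_iff]
        rintro y ⟨x, hx, rfl⟩
        exact h4 x hx
      constructor
      · intro h
        have h1 : (b⁻¹ * a * b) ^ p ^ k = a ^ p ^ k := by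
          have h0 : b⁻¹ * a * b = b⁻¹ * a * b⁻¹⁻¹ := by rw [inv_inv]
          rw [h0, conj_pow, h, inv_inv]; group
        have hMa := card_zpowers_sup_commutator_lt hG.1 H a haH hnc
        have haM : a ∈ Subgroup.zpowers a ⊔ ⁅H, H⁆ :=
          (le_sup_left : Subgroup.zpowers a ≤ _) (Subgroup.mem_zpowers a)
        have ha'M : b⁻¹ * a * b ∈ Subgroup.zpowers a ⊔ ⁅H, H⁆ := by
          have h0 : b⁻¹ * a * b = a * ⁅a⁻¹, b⁻¹⁆ := by rw [commutatorElement_def]; group
          rw [h0]
          exact mul_mem haM ((le_sup_right : ⁅H, H⁆ ≤ _)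
            (Subgroup.commutator_mem_commutator (H.inv_mem haH) (H.inv_mem hbH)))
        have h2 := (ih' _ hMa a haM _ ha'M k).mp h1.symm
        have h3 : ⁅a, b⁆ ^ p ^ k = 1 := by
          have h0 : ⁅a, b⁆ = (b * a) * (a⁻¹ * (b⁻¹ * a * b)) * (b * a)⁻¹ := by
            rw [commutatorElement_def]; group
          rw [h0, conj_pow, h2, mul_one, mul_inv_cancel]
        have h4 := hL a b hH.symm h3
        obtain ⟨c, hc, hreg⟩ := hG.2 a⁻¹ b k
        have hcl : Subgroup.closure ({a⁻¹, b} : Set G) = H := by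
          rw [hH]; exact closure_inv_pair a b
        rw [hcl, ← hD, hbot h4] at hc
        have hc1 : c = 1 := Subgroup.mem_bot.mp hc
        rw [hreg, hc1, mul_one, inv_pow, h, inv_mul_cancel]
      · intro h
        obtain ⟨c₀, hc₀⟩ : ∃ c₀ : G, c₀ = a⁻¹ * b := ⟨_, rfl⟩
        rw [← hc₀] at h
        have hc₀H : c₀ ∈ H := by rw [hc₀]; exact H.mul_mem (H.inv_mem haH) hbH
        have hMc := card_zpowers_sup_commutator_lt hG.1 H c₀ hc₀H hnc
        have hcM : c₀ ∈ Subgroup.zpowers c₀ ⊔ ⁅H, H⁆ :=
          (le_sup_left : Subgroup.zpowers c₀ ≤ _) (Subgroup.mem_zpowers c₀)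
        have hcaM : a * c₀ * a⁻¹ ∈ Subgroup.zpowers c₀ ⊔ ⁅H, H⁆ := by
          have h0 : a * c₀ * a⁻¹ = ⁅a, c₀⁆ * c₀ := by rw [commutatorElement_def]; group
          rw [h0]
          exact mul_mem ((le_sup_right : ⁅H, H⁆ ≤ _)
            (Subgroup.commutator_mem_commutator haH hc₀H)) hcM
        have h3 : ⁅a, c₀⁆ ^ p ^ k = 1 := by
          have h5 := (ih' _ hMc (a * c₀ * a⁻¹)⁻¹ (inv_mem hcaM) c₀⁻¹ (inv_mem hcM) k).mp (by
            rw [inv_pow, inv_pow, conj_pow, h, mul_one, mul_inv_cancel])
          rw [inv_inv] at h5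
          rwa [commutatorElement_def]
        have hcl : Subgroup.closure ({a, c₀} : Set G) = H := by
          rw [hH, hc₀]; exact closure_pair_mul a b
        have h4 := hL a c₀ hcl h3
        obtain ⟨c, hc, hreg⟩ := hG.2 a c₀ k
        rw [hcl, ← hD, hbot h4] at hc
        have hc1 : c = 1 := Subgroup.mem_bot.mp hc
        have hb : b = a * c₀ := by rw [hc₀]; group
        rw [hb, hreg, h, hc1, mul_one, mul_one]

/-- **Hall.** In a regular `p`-group, `a ^ q = b ^ q ↔ (a⁻¹ b) ^ q = 1` for `q = p ^ k`. -/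
theorem main (hG : Cfsg.IsRegularPGroup p G) (a b : G) (k : ℕ) :
    a ^ p ^ k = b ^ p ^ k ↔ (a⁻¹ * b) ^ p ^ k = 1 :=
  main_aux hG _ a b (Nat.lt_succ_self _) k

/-- variant with `a * b⁻¹` -/
theorem main' (hG : Cfsg.IsRegularPGroup p G) (a b : G) (k : ℕ) :
    a ^ p ^ k = b ^ p ^ k ↔ (a * b⁻¹) ^ p ^ k = 1 := by
  have h := main hG a⁻¹ b⁻¹ k
  rw [inv_inv, inv_pow, inv_pow, inv_inj] at h
  exact h

/-- commutator form -/
theorem commute_pow_iff (hG : Cfsg.IsRegularPGroup p G) (a b : G) (k : ℕ) :
    a ^ p ^ k * b = b * a ^ p ^ k ↔ (a⁻¹ * b⁻¹ * a * b) ^ p ^ k = 1 := by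
  have h := main hG a (b⁻¹ * a * b) k
  have h0 : b⁻¹ * a * b = b⁻¹ * a * b⁻¹⁻¹ := by rw [inv_inv]
  have h1 : (b⁻¹ * a * b) ^ p ^ k = b⁻¹ * a ^ p ^ k * b := by
    rw [h0, conj_pow, inv_inv]
  have h2 : a⁻¹ * (b⁻¹ * a * b) = a⁻¹ * b⁻¹ * a * b := by group
  rw [h1, h2] at h
  rw [← h]
  constructor
  · intro h3
    calc a ^ p ^ k = b⁻¹ * (b * a ^ p ^ k) := by group
      _ = b⁻¹ * a ^ p ^ k * b := by rw [← h3]; group
  · intro h3
    calc a ^ p ^ k * b = b * (b⁻¹ * a ^ p ^ k * b) := by group
      _ = b * a ^ p ^ k := by rw [← h3]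

/-- the elements of order dividing `p ^ k` form a characteristic subgroup -/
theorem omega_subgroup (hG : Cfsg.IsRegularPGroup p G) (k : ℕ) :
    ∃ H : Subgroup G, H.Characteristic ∧ (H : Set G) = {x : G | x ^ p ^ k = 1} := by
  refine ⟨{ carrier := {x : G | x ^ p ^ k = 1}
            mul_mem' := ?_
            one_mem' := one_pow _
            inv_mem' := ?_ }, ?_, rfl⟩
  · intro x y hx hy
    simp only [Set.mem_ofPred_eq] at hx hy ⊢
    have := (main hG x⁻¹ y k).mp (by rw [inv_pow, hx, hy, inv_one])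
    rwa [inv_inv] at this
  · intro x hx
    simp only [Set.mem_ofPred_eq] at hx ⊢
    rw [inv_pow, hx, inv_one]
  · constructor
    intro ϕ
    ext x
    simp only [Subgroup.mem_comap, Subgroup.mem_mk, Submonoid.mem_mk, Subsemigroup.mem_mk,
      Set.mem_ofPred_eq, MulEquiv.coe_toMonoidHom]
    rw [← map_pow]
    exact ⟨fun h => ϕ.injective (by rw [h, map_one]), fun h => by rw [h, map_one]⟩

end Cfsg.Agent.H2.RegP
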