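import Mathlib
import Cfsg.Prelude.Def_PLocal
import Cfsg.Agent.H2.RegularPGroup
import Cfsg.Agent.S0641

/-!
# Regular `p`-groups: the `p ^ n`-th powers form a subgroup

(author: helper2)
-/

set_option autoImplicit false

namespace Cfsg.Agent.H2.RegP

open scoped commutatorElement

theorem map_powerClosure {G₁ G₂ : Type*} [Group G₁] [Group G₂] (p n : ℕ) (f : G₁ →* G₂)
    (K : Subgroup G₁) :
    (Cfsg.powerClosure p n K).map f = Cfsg.powerClosure p n (K.map f) := by
  unfold Cfsg.powerClosure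
  rw [MonoidHom.map_closure]
  congr 1
  ext y
  constructor
  · rintro ⟨y₀, ⟨x, hx, rfl⟩, rfl⟩
    exact ⟨f x, Subgroup.mem_map_of_mem f hx, map_pow f x _⟩
  · rintro ⟨x', ⟨x, hx, rfl⟩, rfl⟩
    exact ⟨x ^ p ^ n, ⟨x, hx, rfl⟩, map_pow f x _⟩

theorem powerClosure_normal {G : Type*} [Group G] (p n : ℕ) (K : Subgroup G) [hK : K.Normal] :
    (Cfsg.powerClosure p n K).Normal := by
  constructor
  intro x hx g
  unfold Cfsg.powerClosure at hx ⊢
  induction hx using Subgroup.closure_induction with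
  | mem t ht =>
    obtain ⟨x, hx, rfl⟩ := ht
    apply Subgroup.subset_closure
    exact ⟨g * x * g⁻¹, hK.conj_mem x hx g, by rw [conj_pow]⟩
  | one => rw [mul_one, mul_inv_cancel]; exact one_mem _
  | mul x y hx hy ihx ihy =>
    have : g * (x * y) * g⁻¹ = (g * x * g⁻¹) * (g * y * g⁻¹) := by group
    rw [this]; exact mul_mem ihx ihy
  | inv x hx ihx =>
    have : g * x⁻¹ * g⁻¹ = (g * x * g⁻¹)⁻¹ := by group
    rw [this]; exact inv_mem ihx

/-- regularity passes to subgroups -/
theorem regular_subgroup {G : Type*} [Group G] {p : ℕ} (hG : Cfsg.IsRegularPGroup p G)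
    (H : Subgroup G) : Cfsg.IsRegularPGroup p H := by
  refine ⟨hG.1.to_subgroup H, ?_⟩
  intro a b n
  obtain ⟨c', hc', hreg⟩ := hG.2 (a : G) (b : G) n
  have h1 : Subgroup.closure ({(a : G), (b : G)} : Set G) =
      (Subgroup.closure ({a, b} : Set H)).map H.subtype := by
    rw [MonoidHom.map_closure, Set.image_pair]; rfl
  rw [h1, ← Subgroup.map_commutator, ← map_powerClosure] at hc'
  obtain ⟨c, hc, rfl⟩ := hc'
  refine ⟨c, hc, ?_⟩
  apply Subtype.ext
  simpa using hreg

variable {G : Type*} [Group G] [Finite G] {p : ℕ} [Fact p.Prime]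

/-- a product of two `p ^ n`-th powers is a `p ^ n`-th power -/
theorem pow_mul_pow_aux (hG : Cfsg.IsRegularPGroup p G) (n : ℕ) :
    ∀ m : ℕ, ∀ a b : G, Nat.card (Subgroup.closure ({a, b} : Set G)) < m →
      ∃ e ∈ Subgroup.closure ({a, b} : Set G), a ^ p ^ n * b ^ p ^ n = e ^ p ^ n := by
  intro m
  induction m with
  | zero => intro a b h; omega
  | succ m ih =>
    intro a b hcard
    have haH₀ : a ∈ Subgroup.closure ({a, b} : Set G) :=
      Subgroup.subset_closure (Set.mem_insert _ _)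
    have hbH₀ : b ∈ Subgroup.closure ({a, b} : Set G) :=
      Subgroup.subset_closure (Set.mem_insert_of_mem _ rfl)
    by_cases hcomm : a * b = b * a
    · exact ⟨a * b, mul_mem haH₀ hbH₀, ((show Commute a b from hcomm).mul_pow _).symm⟩
    · obtain ⟨H, hH⟩ : ∃ H : Subgroup G, H = Subgroup.closure ({a, b} : Set G) := ⟨_, rfl⟩
      rw [← hH] at haH₀ hbH₀ ⊢
      have hnc : ∃ x ∈ H, ∃ y ∈ H, x * y ≠ y * x := ⟨a, haH₀, b, hbH₀, hcomm⟩
      have ih' : ∀ K : Subgroup G, Nat.card K < Nat.card H → ∀ x ∈ K, ∀ y ∈ K,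
          ∃ e ∈ K, x ^ p ^ n * y ^ p ^ n = e ^ p ^ n := by
        intro K hK x hx y hy
        have hle : Subgroup.closure ({x, y} : Set G) ≤ K := by
          rw [Subgroup.closure_le]
          intro t ht
          rcases ht with rfl | rfl
          · exact hx
          · exact hy
        obtain ⟨e, he, heq⟩ := ih x y (by
          have h1 := Subgroup.card_le_of_le hle
          rw [hH] at hK
          omega)
        exact ⟨e, hle he, heq⟩
      have hE : ∀ K : Subgroup G, Nat.card K < Nat.card H → ∀ c ∈ Cfsg.powerClosure p n K,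
          ∃ d ∈ K, c = d ^ p ^ n := by
        intro K hK c hc
        unfold Cfsg.powerClosure at hc
        induction hc using Subgroup.closure_induction with
        | mem t ht => exact ht
        | one => exact ⟨1, one_mem _, (one_pow _).symm⟩
        | mul x y hx hy ihx ihy =>
          obtain ⟨d₁, hd₁, rfl⟩ := ihx
          obtain ⟨d₂, hd₂, rfl⟩ := ihy
          exact ih' K hK d₁ hd₁ d₂ hd₂
        | inv x hx ihx =>
          obtain ⟨d, hd, rfl⟩ := ihx
          exact ⟨d⁻¹, inv_mem hd, (inv_pow _ _).symm⟩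
      have habH : a * b ∈ H := mul_mem haH₀ hbH₀
      have hM := card_zpowers_sup_commutator_lt hG.1 H (a * b) habH hnc
      have hDcard : Nat.card (⁅H, H⁆ : Subgroup G) < Nat.card H :=
        lt_of_le_of_lt (Subgroup.card_le_of_le le_sup_right) hM
      obtain ⟨c, hc, hreg⟩ := hG.2 a b n
      rw [← hH] at hc
      obtain ⟨d, hd, hcd⟩ := hE _ hDcard c⁻¹ (inv_mem hc)
      obtain ⟨e, he, heq⟩ := ih' _ hM (a * b)
        ((le_sup_left : Subgroup.zpowers (a * b) ≤ _) (Subgroup.mem_zpowers _)) d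
        ((le_sup_right : ⁅H, H⁆ ≤ _) hd)
      refine ⟨e, ?_, ?_⟩
      · exact (sup_le (by rwa [Subgroup.zpowers_le]) (commutator_self_le H)) he
      · rw [← heq, ← hcd, hreg]; group

theorem pow_mul_pow (hG : Cfsg.IsRegularPGroup p G) (n : ℕ) (a b : G) :
    ∃ e ∈ Subgroup.closure ({a, b} : Set G), a ^ p ^ n * b ^ p ^ n = e ^ p ^ n :=
  pow_mul_pow_aux hG n _ a b (Nat.lt_succ_self _)

/-- the elements of `powerClosure p n H` are exactly the `p ^ n`-th powers of elements of `H` -/
theorem mem_powerClosure_iff (hG : Cfsg.IsRegularPGroup p G) (n : ℕ) (H : Subgroup G) (y : G) :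
    y ∈ Cfsg.powerClosure p n H ↔ ∃ x ∈ H, y = x ^ p ^ n := by
  constructor
  · intro hy
    unfold Cfsg.powerClosure at hy
    induction hy using Subgroup.closure_induction with
    | mem t ht => exact ht
    | one => exact ⟨1, one_mem _, (one_pow _).symm⟩
    | mul x y hx hy ihx ihy =>
      obtain ⟨d₁, hd₁, rfl⟩ := ihx
      obtain ⟨d₂, hd₂, rfl⟩ := ihy
      obtain ⟨e, he, heq⟩ := pow_mul_pow hG n d₁ d₂
      refine ⟨e, ?_, heq⟩
      have hle : Subgroup.closure ({d₁, d₂} : Set G) ≤ H := by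
        rw [Subgroup.closure_le]
        intro t ht
        rcases ht with rfl | rfl
        · exact hd₁
        · exact hd₂
      exact hle he
    | inv x hx ihx =>
      obtain ⟨d, hd, rfl⟩ := ihx
      exact ⟨d⁻¹, inv_mem hd, (inv_pow _ _).symm⟩
  · intro hy
    exact Subgroup.subset_closure hy

/-- `p ^ n`-th powers are central modulo the `p ^ n`-th powers of the derived subgroup -/
theorem commutator_pow_mem (hG : Cfsg.IsRegularPGroup p G) (n : ℕ) (a b : G) :
    ⁅a ^ p ^ n, b⁆ ∈ Cfsg.powerClosure p n (commutator G) := by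
  have : (Cfsg.powerClosure p n (commutator G)).Normal := powerClosure_normal p n _
  have hQ := Cfsg.Agent.S0641.result hG (Cfsg.powerClosure p n (commutator G))
  have h1 : (((a : G) : G ⧸ Cfsg.powerClosure p n (commutator G))⁻¹ * (b : G ⧸ _)⁻¹ *
      (a : G ⧸ _) * (b : G ⧸ _)) ^ p ^ n = 1 := by
    have h2 : (a⁻¹ * b⁻¹ * a * b) ^ p ^ n ∈ Cfsg.powerClosure p n (commutator G) := by
      apply Subgroup.subset_closure
      refine ⟨a⁻¹ * b⁻¹ * a * b, ?_, rfl⟩
      have : a⁻¹ * b⁻¹ * a * b = ⁅a⁻¹, b⁻¹⁆ := by rw [commutatorElement_def, inv_inv, inv_inv]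
      rw [this, commutator_def]
      exact Subgroup.commutator_mem_commutator (Subgroup.mem_top _) (Subgroup.mem_top _)
    have h3 := (QuotientGroup.eq_one_iff _).mpr h2
    simpa using h3
  have h4 := (commute_pow_iff hQ (a : G ⧸ Cfsg.powerClosure p n (commutator G)) (b : G ⧸ _) n).mpr h1
  rw [← QuotientGroup.eq_one_iff]
  have h5 : ((⁅a ^ p ^ n, b⁆ : G) : G ⧸ Cfsg.powerClosure p n (commutator G)) =
      ⁅(a : G ⧸ Cfsg.powerClosure p n (commutator G)) ^ p ^ n, (b : G ⧸ _)⁆ := by
    simp [commutatorElement_def]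
  rw [h5, commutatorElement_eq_one_iff_mul_comm]
  exact h4

/-- `S0644` -/
theorem power_subgroups (hG : Cfsg.IsRegularPGroup p G) (H : Subgroup G) (n : ℕ) :
    {y : G | ∃ x ∈ H, y = x ^ (p ^ n)} = (Cfsg.powerClosure p n H : Set G) ∧
    ⁅Cfsg.powerClosure p n H, Cfsg.powerClosure p n H⁆ ≤ Cfsg.powerClosure p n ⁅H, H⁆ := by
  constructor
  · ext y
    exact (mem_powerClosure_iff hG n H y).symm
  · rw [Subgroup.commutator_le]
    intro u hu v hv
    obtain ⟨a, ha, rfl⟩ := (mem_powerClosure_iff hG n H u).mp hu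
    obtain ⟨b, hb, rfl⟩ := (mem_powerClosure_iff hG n H v).mp hv
    have hH := regular_subgroup hG H
    have h1 := commutator_pow_mem hH n (⟨a, ha⟩ : H) (⟨b, hb⟩ ^ p ^ n : H)
    have h2 : (Cfsg.powerClosure p n (commutator H)).map H.subtype =
        Cfsg.powerClosure p n ⁅H, H⁆ := by
      rw [map_powerClosure, Subgroup.map_subtype_commutator]
    rw [← h2]
    refine ⟨_, h1, ?_⟩
    simp [commutatorElement_def]

end Cfsg.Agent.H2.RegP
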