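import Mathlib
import Cfsg.Prelude.Def_PLocal
import Cfsg.Agent.H2.RegularPower

/-!
# Regular `p`-groups, level by level; Kemhadze's criterion

(author: helper2)

The lemmas of `RegularPGroup` and `RegularPower` are redone here under the hypothesis of regularity
at a single level `n`, and used to show that the first power condition implies regularity.
-/

set_option autoImplicit false

namespace Cfsg.Agent.H2.RegL

open Cfsg.Agent.H2.RegP
open scoped commutatorElement

universe u

/-- regularity at level `n` -/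
def RegAt (p n : ℕ) (G : Type*) [Group G] : Prop :=
  ∀ a b : G, ∃ c ∈ Cfsg.powerClosure p n
      ⁅Subgroup.closure ({a, b} : Set G), Subgroup.closure ({a, b} : Set G)⁆,
    (a * b) ^ (p ^ n) = a ^ (p ^ n) * b ^ (p ^ n) * c

/-- the strong form of regularity at level `n` -/
def SAt (p n : ℕ) (G : Type*) [Group G] : Prop :=
  ∀ a b : G, ∃ c ∈ ⁅Subgroup.closure ({a, b} : Set G), Subgroup.closure ({a, b} : Set G)⁆,
    (a * b) ^ (p ^ n) = a ^ (p ^ n) * b ^ (p ^ n) * c ^ (p ^ n)

/-- the first power condition -/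
def WCond (p : ℕ) (G : Type*) [Group G] : Prop :=
  ∀ a b : G, ∃ c ∈ ⁅Subgroup.closure ({a, b} : Set G), Subgroup.closure ({a, b} : Set G)⁆,
    (a * b) ^ p = a ^ p * b ^ p * c ^ p

theorem regAt_of_sAt {G : Type*} [Group G] {p n : ℕ} (h : SAt p n G) : RegAt p n G := by
  intro a b
  obtain ⟨c, hc, heq⟩ := h a b
  exact ⟨c ^ p ^ n, Subgroup.subset_closure ⟨c, hc, rfl⟩, heq⟩

theorem regAt_subgroup {G : Type*} [Group G] {p n : ℕ} (hG : RegAt p n G)
    (H : Subgroup G) : RegAt p n H := by
  intro a b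
  obtain ⟨c', hc', hreg⟩ := hG (a : G) (b : G)
  have h1 : Subgroup.closure ({(a : G), (b : G)} : Set G) =
      (Subgroup.closure ({a, b} : Set H)).map H.subtype := by
    rw [MonoidHom.map_closure, Set.image_pair]; rfl
  rw [h1, ← Subgroup.map_commutator, ← map_powerClosure] at hc'
  obtain ⟨c, hc, rfl⟩ := hc'
  refine ⟨c, hc, ?_⟩
  apply Subtype.ext
  simpa using hreg

theorem wCond_subgroup {G : Type*} [Group G] {p : ℕ} (hG : WCond p G)
    (H : Subgroup G) : WCond p H := by
  intro a b
  obtain ⟨c', hc', hreg⟩ := hG (a : G) (b : G)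
  have h1 : Subgroup.closure ({(a : G), (b : G)} : Set G) =
      (Subgroup.closure ({a, b} : Set H)).map H.subtype := by
    rw [MonoidHom.map_closure, Set.image_pair]; rfl
  rw [h1, ← Subgroup.map_commutator] at hc'
  obtain ⟨c, hc, rfl⟩ := hc'
  refine ⟨c, hc, ?_⟩
  apply Subtype.ext
  simpa using hreg

theorem closure_pair_map_mk {G : Type*} [Group G] (N : Subgroup G) [N.Normal] (a b : G) :
    (⁅Subgroup.closure ({a, b} : Set G), Subgroup.closure ({a, b} : Set G)⁆).map
      (QuotientGroup.mk' N) =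
    ⁅Subgroup.closure ({(a : G ⧸ N), (b : G ⧸ N)} : Set (G ⧸ N)),
      Subgroup.closure ({(a : G ⧸ N), (b : G ⧸ N)} : Set (G ⧸ N))⁆ := by
  rw [Subgroup.map_commutator, MonoidHom.map_closure, Set.image_pair]; rfl

theorem regAt_quotient {G : Type*} [Group G] {p n : ℕ} (hG : RegAt p n G)
    (N : Subgroup G) [N.Normal] : RegAt p n (G ⧸ N) := by
  intro a b
  obtain ⟨a, rfl⟩ := QuotientGroup.mk_surjective a
  obtain ⟨b, rfl⟩ := QuotientGroup.mk_surjective b
  obtain ⟨c, hc, hab⟩ := hG a b
  refine ⟨QuotientGroup.mk' N c, ?_, ?_⟩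
  · rw [← closure_pair_map_mk, ← map_powerClosure]
    exact ⟨c, hc, rfl⟩
  · have := congrArg (QuotientGroup.mk' N) hab
    simpa using this

theorem wCond_quotient {G : Type*} [Group G] {p : ℕ} (hG : WCond p G)
    (N : Subgroup G) [N.Normal] : WCond p (G ⧸ N) := by
  intro a b
  obtain ⟨a, rfl⟩ := QuotientGroup.mk_surjective a
  obtain ⟨b, rfl⟩ := QuotientGroup.mk_surjective b
  obtain ⟨c, hc, hab⟩ := hG a b
  refine ⟨QuotientGroup.mk' N c, ?_, ?_⟩
  · rw [← closure_pair_map_mk]
    exact ⟨c, hc, rfl⟩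
  · have := congrArg (QuotientGroup.mk' N) hab
    simpa using this

variable {G : Type*} [Group G] [Finite G] {p : ℕ} [Fact p.Prime]

/-- the fundamental lemma on regular `p`-groups, by induction on the order of `⟨a, b⟩` -/
theorem main_aux (hp : IsPGroup p G) (k : ℕ) (hk : RegAt p k G) :
    ∀ m : ℕ, ∀ a b : G, Nat.card (Subgroup.closure ({a, b} : Set G)) < m →
      (a ^ p ^ k = b ^ p ^ k ↔ (a⁻¹ * b) ^ p ^ k = 1) := by
  intro m
  induction m with
  | zero => intro a b h; omega
  | succ m ih =>
    intro a b hcard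
    by_cases hcomm : a * b = b * a
    · have hc : Commute a⁻¹ b := (show Commute a b from hcomm).inv_left
      rw [hc.mul_pow, inv_pow]
      constructor
      · intro h; rw [h, inv_mul_cancel]
      · intro h; exact (inv_inj.mp (inv_eq_of_mul_eq_one_left h).symm).symm ▸ rfl
    · obtain ⟨H, hH⟩ : ∃ H : Subgroup G, H = Subgroup.closure ({a, b} : Set G) := ⟨_, rfl⟩
      have haH : a ∈ H := by rw [hH]; exact Subgroup.subset_closure (Set.mem_insert _ _)
      have hbH : b ∈ H := by
        rw [hH]; exact Subgroup.subset_closure (Set.mem_insert_of_mem _ rfl)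
      have hnc : ∃ x ∈ H, ∃ y ∈ H, x * y ≠ y * x := ⟨a, haH, b, hbH, hcomm⟩
      have ih' : ∀ K : Subgroup G, Nat.card K < Nat.card H → ∀ x ∈ K, ∀ y ∈ K,
          (x ^ p ^ k = y ^ p ^ k ↔ (x⁻¹ * y) ^ p ^ k = 1) := by
        intro K hK x hx y hy
        apply ih x y _
        have hle : Subgroup.closure ({x, y} : Set G) ≤ K := by
          rw [Subgroup.closure_le]
          intro t ht
          rcases ht with rfl | rfl
          · exact hx
          · exact hy
        have h1 := Subgroup.card_le_of_le hle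
        rw [hH] at hK
        omega
      have hE : ∀ K : Subgroup G, Nat.card K < Nat.card H → ∀ T : Set G, T ⊆ K →
          (∀ t ∈ T, t ^ p ^ k = 1) → ∀ x ∈ Subgroup.closure T, x ^ p ^ k = 1 := by
        intro K hK T hTK hT x hx
        have hcl : Subgroup.closure T ≤ K := (Subgroup.closure_le K).mpr hTK
        induction hx using Subgroup.closure_induction with
        | mem t ht => exact hT t ht
        | one => exact one_pow _
        | mul x y hx hy ihx ihy =>
          have := (ih' K hK x⁻¹ (K.inv_mem (hcl hx)) y (hcl hy)).mp (by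
            rw [inv_pow, ihx, ihy, inv_one])
          rwa [inv_inv] at this
        | inv x hx ihx => rw [inv_pow, ihx, inv_one]
      obtain ⟨D, hD⟩ : ∃ D : Subgroup G, D = ⁅H, H⁆ := ⟨_, rfl⟩
      have hDH : D ≤ H := by rw [hD]; exact commutator_self_le H
      have hDcard : Nat.card D < Nat.card H := by
        have h1 := card_zpowers_sup_commutator_lt hp H a haH hnc
        have h2 : D ≤ Subgroup.zpowers a ⊔ ⁅H, H⁆ := by rw [hD]; exact le_sup_right
        exact lt_of_le_of_lt (Subgroup.card_le_of_le h2) h1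
      have hDnorm : ∀ h ∈ H, ∀ x ∈ D, h * x * h⁻¹ ∈ D := by
        intro h hh x hx
        have h1 : h * x * h⁻¹ = ⁅h, x⁆ * x := by rw [commutatorElement_def]; group
        rw [h1]
        refine D.mul_mem ?_ hx
        rw [hD]
        exact Subgroup.commutator_mem_commutator hh (hDH hx)
      have hL : ∀ u v : G, Subgroup.closure ({u, v} : Set G) = H → ⁅u, v⁆ ^ p ^ k = 1 →
          ∀ x ∈ D, x ^ p ^ k = 1 := by
        intro u v huv hw
        have huH : u ∈ H := by rw [← huv]; exact Subgroup.subset_closure (Set.mem_insert _ _)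
        have hvH : v ∈ H := by
          rw [← huv]; exact Subgroup.subset_closure (Set.mem_insert_of_mem _ rfl)
        obtain ⟨T, hT⟩ : ∃ T : Set G, T = {x | x ∈ D ∧ x ^ p ^ k = 1} := ⟨_, rfl⟩
        have hTD : T ⊆ D := by rw [hT]; intro x hx; exact hx.1
        have hTq : ∀ t ∈ T, t ^ p ^ k = 1 := by rw [hT]; intro x hx; exact hx.2
        have hΩ := hE D hDcard T hTD hTq
        have conjT : ∀ h ∈ H, ∀ x ∈ Subgroup.closure T, h * x * h⁻¹ ∈ Subgroup.closure T := by
          intro h hh x hx
          induction hx using Subgroup.closure_induction with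
          | mem t ht =>
            apply Subgroup.subset_closure
            rw [hT] at ht ⊢
            exact ⟨hDnorm h hh t ht.1, by rw [conj_pow, ht.2, mul_one, mul_inv_cancel]⟩
          | one => rw [mul_one, mul_inv_cancel]; exact one_mem _
          | mul x y hx hy ihx ihy =>
            have : h * (x * y) * h⁻¹ = (h * x * h⁻¹) * (h * y * h⁻¹) := by group
            rw [this]; exact mul_mem ihx ihy
          | inv x hx ihx =>
            have : h * x⁻¹ * h⁻¹ = (h * x * h⁻¹)⁻¹ := by group
            rw [this]; exact inv_mem ihx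
        have hnorm : Subgroup.closure ({u, v} : Set G) ≤
            Subgroup.normalizer ((Subgroup.closure T : Subgroup G) : Set G) := by
          rw [huv]
          intro h hh
          rw [Subgroup.mem_normalizer_iff]
          intro x
          constructor
          · exact conjT h hh x
          · intro hx
            have := conjT h⁻¹ (H.inv_mem hh) _ hx
            have h2 : h⁻¹ * (h * x * h⁻¹) * h⁻¹⁻¹ = x := by group
            rwa [h2] at this
        have huvT : ⁅u, v⁆ ∈ Subgroup.closure T := by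
          apply Subgroup.subset_closure
          rw [hT]
          refine ⟨?_, hw⟩
          rw [hD]
          exact Subgroup.commutator_mem_commutator huH hvH
        have hcomm_mem : ∀ s ∈ ({u, v} : Set G), ∀ t ∈ ({u, v} : Set G),
            ⁅s, t⁆ ∈ Subgroup.closure T := by
          intro s hs t ht
          rcases hs with rfl | hs <;> rcases ht with rfl | ht
          · rw [commutatorElement_self]; exact one_mem _
          · rw [Set.mem_singleton_iff] at ht; subst ht; exact huvT
          · rw [Set.mem_singleton_iff] at hs; subst hs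
            rw [← commutatorElement_inv]; exact inv_mem huvT
          · rw [Set.mem_singleton_iff] at hs ht; subst hs; subst ht
            rw [commutatorElement_self]; exact one_mem _
        have h5 := commutator_closure_le {u, v} (Subgroup.closure T) hnorm hcomm_mem
        rw [huv, ← hD] at h5
        intro x hx
        exact hΩ x (h5 hx)
      have hbot : (∀ x ∈ D, x ^ p ^ k = 1) → Cfsg.powerClosure p k D = ⊥ := by
        intro h4
        unfold Cfsg.powerClosure
        rw [Subgroup.closure_eq_bot_iff]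
        rintro y ⟨x, hx, rfl⟩
        exact h4 x hx
      constructor
      · intro h
        have h1 : (b⁻¹ * a * b) ^ p ^ k = a ^ p ^ k := by
          have h0 : b⁻¹ * a * b = b⁻¹ * a * b⁻¹⁻¹ := by rw [inv_inv]
          rw [h0, conj_pow, h, inv_inv]; group
        have hMa := card_zpowers_sup_commutator_lt hp H a haH hnc
        have haM : a ∈ Subgroup.zpowers a ⊔ ⁅H, H⁆ :=
          (le_sup_left : Subgroup.zpowers a ≤ _) (Subgroup.mem_zpowers a)
        have ha'M : b⁻¹ * a * b ∈ Subgroup.zpowers a ⊔ ⁅H, H⁆ := by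
          have h0 : b⁻¹ * a * b = a * ⁅a⁻¹, b⁻¹⁆ := by rw [commutatorElement_def]; group
          rw [h0]
          exact mul_mem haM ((le_sup_right : ⁅H, H⁆ ≤ _)
            (Subgroup.commutator_mem_commutator (H.inv_mem haH) (H.inv_mem hbH)))
        have h2 := (ih' _ hMa a haM _ ha'M).mp h1.symm
        have h3 : ⁅a, b⁆ ^ p ^ k = 1 := by
          have h0 : ⁅a, b⁆ = (b * a) * (a⁻¹ * (b⁻¹ * a * b)) * (b * a)⁻¹ := by
            rw [commutatorElement_def]; group
          rw [h0, conj_pow, h2, mul_one, mul_inv_cancel]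
        have h4 := hL a b hH.symm h3
        obtain ⟨c, hc, hreg⟩ := hk a⁻¹ b
        have hcl : Subgroup.closure ({a⁻¹, b} : Set G) = H := by
          rw [hH]; exact closure_inv_pair a b
        rw [hcl, ← hD, hbot h4] at hc
        have hc1 : c = 1 := Subgroup.mem_bot.mp hc
        rw [hreg, hc1, mul_one, inv_pow, h, inv_mul_cancel]
      · intro h
        obtain ⟨c₀, hc₀⟩ : ∃ c₀ : G, c₀ = a⁻¹ * b := ⟨_, rfl⟩
        rw [← hc₀] at h
        have hc₀H : c₀ ∈ H := by rw [hc₀]; exact H.mul_mem (H.inv_mem haH) hbH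
        have hMc := card_zpowers_sup_commutator_lt hp H c₀ hc₀H hnc
        have hcM : c₀ ∈ Subgroup.zpowers c₀ ⊔ ⁅H, H⁆ :=
          (le_sup_left : Subgroup.zpowers c₀ ≤ _) (Subgroup.mem_zpowers c₀)
        have hcaM : a * c₀ * a⁻¹ ∈ Subgroup.zpowers c₀ ⊔ ⁅H, H⁆ := by
          have h0 : a * c₀ * a⁻¹ = ⁅a, c₀⁆ * c₀ := by rw [commutatorElement_def]; group
          rw [h0]
          exact mul_mem ((le_sup_right : ⁅H, H⁆ ≤ _)
            (Subgroup.commutator_mem_commutator haH hc₀H)) hcM
        have h3 : ⁅a, c₀⁆ ^ p ^ k = 1 := by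
          have h5 := (ih' _ hMc (a * c₀ * a⁻¹)⁻¹ (inv_mem hcaM) c₀⁻¹ (inv_mem hcM)).mp (by
            rw [inv_pow, inv_pow, conj_pow, h, mul_one, mul_inv_cancel])
          rw [inv_inv] at h5
          rwa [commutatorElement_def]
        have hcl : Subgroup.closure ({a, c₀} : Set G) = H := by
          rw [hH, hc₀]; exact closure_pair_mul a b
        have h4 := hL a c₀ hcl h3
        obtain ⟨c, hc, hreg⟩ := hk a c₀
        rw [hcl, ← hD, hbot h4] at hc
        have hc1 : c = 1 := Subgroup.mem_bot.mp hc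
        have hb : b = a * c₀ := by rw [hc₀]; group
        rw [hb, hreg, h, hc1, mul_one, mul_one]


theorem main (hp : IsPGroup p G) (k : ℕ) (hk : RegAt p k G) (a b : G) :
    a ^ p ^ k = b ^ p ^ k ↔ (a⁻¹ * b) ^ p ^ k = 1 :=
  main_aux hp k hk _ a b (Nat.lt_succ_self _)

theorem commute_pow_iff (hp : IsPGroup p G) (k : ℕ) (hk : RegAt p k G) (a b : G) :
    a ^ p ^ k * b = b * a ^ p ^ k ↔ (a⁻¹ * b⁻¹ * a * b) ^ p ^ k = 1 := by
  have h := main hp k hk a (b⁻¹ * a * b)
  have h0 : b⁻¹ * a * b = b⁻¹ * a * b⁻¹⁻¹ := by rw [inv_inv]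
  have h1 : (b⁻¹ * a * b) ^ p ^ k = b⁻¹ * a ^ p ^ k * b := by
    rw [h0, conj_pow, inv_inv]
  have h2 : a⁻¹ * (b⁻¹ * a * b) = a⁻¹ * b⁻¹ * a * b := by group
  rw [h1, h2] at h
  rw [← h]
  constructor
  · intro h3
    calc a ^ p ^ k = b⁻¹ * (b * a ^ p ^ k) := by group
      _ = b⁻¹ * a ^ p ^ k * b := by rw [← h3]; group
  · intro h3
    calc a ^ p ^ k * b = b * (b⁻¹ * a ^ p ^ k * b) := by group
      _ = b * a ^ p ^ k := by rw [← h3]

/-- a product of two `p ^ n`-th powers is a `p ^ n`-th power -/
theorem pow_mul_pow_aux (hp : IsPGroup p G) (n : ℕ) (hn : RegAt p n G) :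
    ∀ m : ℕ, ∀ a b : G, Nat.card (Subgroup.closure ({a, b} : Set G)) < m →
      ∃ e ∈ Subgroup.closure ({a, b} : Set G), a ^ p ^ n * b ^ p ^ n = e ^ p ^ n := by
  intro m
  induction m with
  | zero => intro a b h; omega
  | succ m ih =>
    intro a b hcard
    have haH₀ : a ∈ Subgroup.closure ({a, b} : Set G) :=
      Subgroup.subset_closure (Set.mem_insert _ _)
    have hbH₀ : b ∈ Subgroup.closure ({a, b} : Set G) :=
      Subgroup.subset_closure (Set.mem_insert_of_mem _ rfl)
    by_cases hcomm : a * b = b * a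
    · exact ⟨a * b, mul_mem haH₀ hbH₀, ((show Commute a b from hcomm).mul_pow _).symm⟩
    · obtain ⟨H, hH⟩ : ∃ H : Subgroup G, H = Subgroup.closure ({a, b} : Set G) := ⟨_, rfl⟩
      rw [← hH] at haH₀ hbH₀ ⊢
      have hnc : ∃ x ∈ H, ∃ y ∈ H, x * y ≠ y * x := ⟨a, haH₀, b, hbH₀, hcomm⟩
      have ih' : ∀ K : Subgroup G, Nat.card K < Nat.card H → ∀ x ∈ K, ∀ y ∈ K,
          ∃ e ∈ K, x ^ p ^ n * y ^ p ^ n = e ^ p ^ n := by
        intro K hK x hx y hy
        have hle : Subgroup.closure ({x, y} : Set G) ≤ K := by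
          rw [Subgroup.closure_le]
          intro t ht
          rcases ht with rfl | rfl
          · exact hx
          · exact hy
        obtain ⟨e, he, heq⟩ := ih x y (by
          have h1 := Subgroup.card_le_of_le hle
          rw [hH] at hK
          omega)
        exact ⟨e, hle he, heq⟩
      have hE : ∀ K : Subgroup G, Nat.card K < Nat.card H → ∀ c ∈ Cfsg.powerClosure p n K,
          ∃ d ∈ K, c = d ^ p ^ n := by
        intro K hK c hc
        unfold Cfsg.powerClosure at hc
        induction hc using Subgroup.closure_induction with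
        | mem t ht => exact ht
        | one => exact ⟨1, one_mem _, (one_pow _).symm⟩
        | mul x y hx hy ihx ihy =>
          obtain ⟨d₁, hd₁, rfl⟩ := ihx
          obtain ⟨d₂, hd₂, rfl⟩ := ihy
          exact ih' K hK d₁ hd₁ d₂ hd₂
        | inv x hx ihx =>
          obtain ⟨d, hd, rfl⟩ := ihx
          exact ⟨d⁻¹, inv_mem hd, (inv_pow _ _).symm⟩
      have habH : a * b ∈ H := mul_mem haH₀ hbH₀
      have hM := card_zpowers_sup_commutator_lt hp H (a * b) habH hnc
      have hDcard : Nat.card (⁅H, H⁆ : Subgroup G) < Nat.card H :=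
        lt_of_le_of_lt (Subgroup.card_le_of_le le_sup_right) hM
      obtain ⟨c, hc, hreg⟩ := hn a b
      rw [← hH] at hc
      obtain ⟨d, hd, hcd⟩ := hE _ hDcard c⁻¹ (inv_mem hc)
      obtain ⟨e, he, heq⟩ := ih' _ hM (a * b)
        ((le_sup_left : Subgroup.zpowers (a * b) ≤ _) (Subgroup.mem_zpowers _)) d
        ((le_sup_right : ⁅H, H⁆ ≤ _) hd)
      refine ⟨e, ?_, ?_⟩
      · exact (sup_le (by rwa [Subgroup.zpowers_le]) (commutator_self_le H)) he
      · rw [← heq, ← hcd, hreg]; group

theorem pow_mul_pow (hp : IsPGroup p G) (n : ℕ) (hn : RegAt p n G) (a b : G) :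
    ∃ e ∈ Subgroup.closure ({a, b} : Set G), a ^ p ^ n * b ^ p ^ n = e ^ p ^ n :=
  pow_mul_pow_aux hp n hn _ a b (Nat.lt_succ_self _)

/-- the elements of `powerClosure p n H` are exactly the `p ^ n`-th powers of elements of `H` -/
theorem mem_powerClosure_iff (hp : IsPGroup p G) (n : ℕ) (hn : RegAt p n G) (H : Subgroup G) (y : G) :
    y ∈ Cfsg.powerClosure p n H ↔ ∃ x ∈ H, y = x ^ p ^ n := by
  constructor
  · intro hy
    unfold Cfsg.powerClosure at hy
    induction hy using Subgroup.closure_induction with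
    | mem t ht => exact ht
    | one => exact ⟨1, one_mem _, (one_pow _).symm⟩
    | mul x y hx hy ihx ihy =>
      obtain ⟨d₁, hd₁, rfl⟩ := ihx
      obtain ⟨d₂, hd₂, rfl⟩ := ihy
      obtain ⟨e, he, heq⟩ := pow_mul_pow hp n hn d₁ d₂
      refine ⟨e, ?_, heq⟩
      have hle : Subgroup.closure ({d₁, d₂} : Set G) ≤ H := by
        rw [Subgroup.closure_le]
        intro t ht
        rcases ht with rfl | rfl
        · exact hd₁
        · exact hd₂
      exact hle he
    | inv x hx ihx =>
      obtain ⟨d, hd, rfl⟩ := ihx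
      exact ⟨d⁻¹, inv_mem hd, (inv_pow _ _).symm⟩
  · intro hy
    exact Subgroup.subset_closure hy


theorem commutator_pow_mem (hp : IsPGroup p G) (n : ℕ) (hn : RegAt p n G) (a b : G) :
    ⁅a ^ p ^ n, b⁆ ∈ Cfsg.powerClosure p n (commutator G) := by
  have : (Cfsg.powerClosure p n (commutator G)).Normal := powerClosure_normal p n _
  have hQ := regAt_quotient hn (Cfsg.powerClosure p n (commutator G))
  have hpQ : IsPGroup p (G ⧸ Cfsg.powerClosure p n (commutator G)) := hp.to_quotient _
  have h1 : (((a : G) : G ⧸ Cfsg.powerClosure p n (commutator G))⁻¹ * (b : G ⧸ _)⁻¹ *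
      (a : G ⧸ _) * (b : G ⧸ _)) ^ p ^ n = 1 := by
    have h2 : (a⁻¹ * b⁻¹ * a * b) ^ p ^ n ∈ Cfsg.powerClosure p n (commutator G) := by
      apply Subgroup.subset_closure
      refine ⟨a⁻¹ * b⁻¹ * a * b, ?_, rfl⟩
      have : a⁻¹ * b⁻¹ * a * b = ⁅a⁻¹, b⁻¹⁆ := by rw [commutatorElement_def, inv_inv, inv_inv]
      rw [this, commutator_def]
      exact Subgroup.commutator_mem_commutator (Subgroup.mem_top _) (Subgroup.mem_top _)
    have h3 := (QuotientGroup.eq_one_iff _).mpr h2
    simpa using h3
  have h4 := (commute_pow_iff hpQ n hQ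
    (a : G ⧸ Cfsg.powerClosure p n (commutator G)) (b : G ⧸ _)).mpr h1
  rw [← QuotientGroup.eq_one_iff]
  have h5 : ((⁅a ^ p ^ n, b⁆ : G) : G ⧸ Cfsg.powerClosure p n (commutator G)) =
      ⁅(a : G ⧸ Cfsg.powerClosure p n (commutator G)) ^ p ^ n, (b : G ⧸ _)⁆ := by
    simp [commutatorElement_def]
  rw [h5, commutatorElement_eq_one_iff_mul_comm]
  exact h4

theorem comm_le (hp : IsPGroup p G) (n : ℕ) (hn : RegAt p n G) (H : Subgroup G) :
    ⁅Cfsg.powerClosure p n H, Cfsg.powerClosure p n H⁆ ≤ Cfsg.powerClosure p n ⁅H, H⁆ := by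
  rw [Subgroup.commutator_le]
  intro u hu v hv
  obtain ⟨a, ha, rfl⟩ := (mem_powerClosure_iff hp n hn H u).mp hu
  obtain ⟨b, hb, rfl⟩ := (mem_powerClosure_iff hp n hn H v).mp hv
  have hH := regAt_subgroup hn H
  have h1 := commutator_pow_mem (hp.to_subgroup H) n hH (⟨a, ha⟩ : H) (⟨b, hb⟩ ^ p ^ n : H)
  have h2 : (Cfsg.powerClosure p n (commutator H)).map H.subtype =
      Cfsg.powerClosure p n ⁅H, H⁆ := by
    rw [map_powerClosure, Subgroup.map_subtype_commutator]
  rw [← h2]
  refine ⟨_, h1, ?_⟩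
  simp [commutatorElement_def]

omit [Finite G] [Fact p.Prime] in
theorem pair_le {a b : G} {K : Subgroup G} (ha : a ∈ K) (hb : b ∈ K) :
    Subgroup.closure ({a, b} : Set G) ≤ K := by
  rw [Subgroup.closure_le]
  intro t ht
  rcases ht with rfl | rfl
  · exact ha
  · exact hb

/-- the first power condition gives the strong form of regularity at every level -/
theorem sAt_of_wCond (p : ℕ) [Fact p.Prime] : ∀ n : ℕ, ∀ (G : Type u) [Group G] [Finite G],
    IsPGroup p G → WCond p G → SAt p n G := by
  intro n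
  induction n with
  | zero =>
    intro G _ _ hp hW a b
    exact ⟨1, one_mem _, by simp⟩
  | succ n ihn =>
    have key : ∀ N : ℕ, ∀ (G : Type u) [Group G] [Finite G], Nat.card G ≤ N →
        IsPGroup p G → WCond p G → SAt p (n + 1) G := by
      intro N
      induction N with
      | zero =>
        intro G _ _ hc
        exfalso
        have := Nat.card_pos (α := G)
        omega
      | succ N ihN =>
        intro G _ _ hcard hp hW a b
        rcases subsingleton_or_nontrivial G with hsub | hnt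
        · exact ⟨1, one_mem _, Subsingleton.elim _ _⟩
        have hRn : RegAt p n G := regAt_of_sAt (ihn G hp hW)
        obtain ⟨c, hc, h1⟩ := ihn G hp hW a b
        obtain ⟨H, hH⟩ : ∃ H : Subgroup G, H = Subgroup.closure ({a, b} : Set G) := ⟨_, rfl⟩
        rw [← hH] at hc
        have haH : a ∈ H := by rw [hH]; exact Subgroup.subset_closure (Set.mem_insert _ _)
        have hbH : b ∈ H := by
          rw [hH]; exact Subgroup.subset_closure (Set.mem_insert_of_mem _ rfl)
        have hcH : c ∈ H := commutator_self_le H hc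
        obtain ⟨d₂, hd₂, h2⟩ := hW (a ^ p ^ n) (b ^ p ^ n)
        obtain ⟨d₁, hd₁, h3⟩ := hW (a ^ p ^ n * b ^ p ^ n) (c ^ p ^ n)
        have hPH : ∀ x ∈ H, x ^ p ^ n ∈ Cfsg.powerClosure p n H := fun x hx =>
          Subgroup.subset_closure ⟨x, hx, rfl⟩
        have hle₂ : Subgroup.closure ({a ^ p ^ n, b ^ p ^ n} : Set G) ≤ Cfsg.powerClosure p n H :=
          pair_le (hPH a haH) (hPH b hbH)
        have hle₁ : Subgroup.closure ({a ^ p ^ n * b ^ p ^ n, c ^ p ^ n} : Set G) ≤
            Cfsg.powerClosure p n H :=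
          pair_le (mul_mem (hPH a haH) (hPH b hbH)) (hPH c hcH)
        have hcomm := comm_le hp n hRn H
        have hd₂' := hcomm (Subgroup.commutator_mono hle₂ hle₂ hd₂)
        have hd₁' := hcomm (Subgroup.commutator_mono hle₁ hle₁ hd₁)
        obtain ⟨t₂, ht₂, rfl⟩ := (mem_powerClosure_iff hp n hRn _ d₂).mp hd₂'
        obtain ⟨t₁, ht₁, rfl⟩ := (mem_powerClosure_iff hp n hRn _ d₁).mp hd₁'
        -- the derived subgroup is smaller
        have hDcard : Nat.card (⁅H, H⁆ : Subgroup G) ≤ N := by
          have h4 : ⁅H, H⁆ ≤ commutator G := by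
            rw [commutator_def]; exact Subgroup.commutator_mono le_top le_top
          have : Group.IsNilpotent G := hp.isNilpotent
          have h5 : commutator G < ⊤ := Group.IsSolvable.commutator_lt_top_of_nontrivial G
          have h6 : Nat.card (commutator G) < Nat.card G := by
            by_contra h7
            exact h5.ne (Subgroup.eq_top_of_le_card _ (not_lt.mp h7))
          have h8 := Subgroup.card_le_of_le h4
          omega
        have hSD := ihN (⁅H, H⁆ : Subgroup G) hDcard (hp.to_subgroup _) (wCond_subgroup hW _)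
        have hRD := regAt_of_sAt hSD
        obtain ⟨e, -, he⟩ := pow_mul_pow (hp.to_subgroup _) (n + 1) hRD
          (⟨t₂, ht₂⟩ : (⁅H, H⁆ : Subgroup G)) ⟨c, hc⟩
        obtain ⟨s, -, hs⟩ := pow_mul_pow (hp.to_subgroup _) (n + 1) hRD e ⟨t₁, ht₁⟩
        have he' := congrArg Subtype.val he
        have hs' := congrArg Subtype.val hs
        simp only [Subgroup.coe_mul, Subgroup.coe_pow] at he' hs'
        refine ⟨(s : G), by rw [← hH]; exact s.2, ?_⟩
        rw [← hs', ← he']
        rw [pow_succ p n, pow_mul (a * b), h1, h3, h2, pow_mul a, pow_mul b, pow_mul t₂,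
          pow_mul c, pow_mul t₁]
        simp only [mul_assoc]
    intro G _ _ hp hW
    exact key (Nat.card G) G le_rfl hp hW

/-- **Kemhadze.** -/
theorem regular_iff_wCond {G : Type u} [Group G] [Finite G] {p : ℕ} [Fact p.Prime]
    (hG : IsPGroup p G) : Cfsg.IsRegularPGroup p G ↔ WCond p G := by
  constructor
  · intro hreg a b
    obtain ⟨c', hc', heq⟩ := hreg.2 a b 1
    obtain ⟨c, hc, rfl⟩ := (RegP.mem_powerClosure_iff hreg 1 _ c').mp hc'
    rw [pow_one] at heq
    exact ⟨c, hc, heq⟩
  · intro hW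
    exact ⟨hG, fun a b n => regAt_of_sAt (sAt_of_wCond p n G hG hW) a b⟩

end Cfsg.Agent.H2.RegL
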