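import Mathlib
import Cfsg.Prelude.Def_PLocal
import Cfsg.Agent.H2.RegularLevel

/-!
# `p`-groups (`p` odd) all of whose subgroups have cyclic derived subgroup are regular

(author: helper2)
-/

set_option autoImplicit false

namespace Cfsg.Agent.H2.CycDer

open Cfsg.Agent.H2
open scoped commutatorElement

/-- collection formula when the commutator commutes with both elements -/
theorem mul_pow_of_commute_commutator {G : Type*} [Group G] (a b : G)
    (h1 : Commute ⁅b, a⁆ a) (h2 : Commute ⁅b, a⁆ b) (n : ℕ) :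
    (a * b) ^ n = a ^ n * b ^ n * ⁅b, a⁆ ^ (n.choose 2) := by
  have hba : b * a = ⁅b, a⁆ * a * b := by rw [commutatorElement_def]; group
  have hbn : ∀ m : ℕ, b ^ m * a = ⁅b, a⁆ ^ m * a * b ^ m := by
    intro m
    induction m with
    | zero => simp
    | succ m ih =>
      calc b ^ (m + 1) * a = b * (b ^ m * a) := by rw [pow_succ' b m]; group
        _ = b * (⁅b, a⁆ ^ m * a * b ^ m) := by rw [ih]
        _ = (b * ⁅b, a⁆ ^ m) * a * b ^ m := by group
        _ = (⁅b, a⁆ ^ m * b) * a * b ^ m := by rw [(h2.pow_left m).eq]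
        _ = ⁅b, a⁆ ^ m * (b * a) * b ^ m := by group
        _ = ⁅b, a⁆ ^ m * (⁅b, a⁆ * a * b) * b ^ m := by rw [← hba]
        _ = ⁅b, a⁆ ^ (m + 1) * a * b ^ (m + 1) := by
          rw [pow_succ ⁅b, a⁆ m, pow_succ' b m]; group
  induction n with
  | zero => simp
  | succ n ih =>
    have hc : (n + 1).choose 2 = n + n.choose 2 := by
      rw [Nat.choose_succ_succ' n 1, Nat.choose_one_right]
    calc (a * b) ^ (n + 1) = (a * b) ^ n * (a * b) := pow_succ _ _
      _ = a ^ n * b ^ n * ⁅b, a⁆ ^ (n.choose 2) * (a * b) := by rw [ih]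
      _ = a ^ n * (b ^ n * a) * b * ⁅b, a⁆ ^ (n.choose 2) := by
        have h3 : Commute (⁅b, a⁆ ^ (n.choose 2)) (a * b) :=
          ((h1.mul_right h2).pow_left _)
        rw [mul_assoc (a ^ n * b ^ n), h3.eq]; group
      _ = a ^ n * (⁅b, a⁆ ^ n * a * b ^ n) * b * ⁅b, a⁆ ^ (n.choose 2) := by rw [hbn]
      _ = a ^ (n + 1) * b ^ (n + 1) * ⁅b, a⁆ ^ ((n + 1).choose 2) := by
        have h4 : Commute (⁅b, a⁆ ^ n) (a ^ n) := (h1.pow_left n).pow_right n
        have h5 : Commute (⁅b, a⁆ ^ n) (a * b ^ n * b) :=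
          ((h1.pow_left n).mul_right ((h2.pow_left n).pow_right n)).mul_right (h2.pow_left n)
        rw [hc, pow_add ⁅b, a⁆ n, pow_succ a n, pow_succ b n]
        calc a ^ n * (⁅b, a⁆ ^ n * a * b ^ n) * b * ⁅b, a⁆ ^ n.choose 2
            = a ^ n * (⁅b, a⁆ ^ n * (a * b ^ n * b)) * ⁅b, a⁆ ^ n.choose 2 := by group
          _ = a ^ n * ((a * b ^ n * b) * ⁅b, a⁆ ^ n) * ⁅b, a⁆ ^ n.choose 2 := by rw [h5.eq]
          _ = a ^ n * a * (b ^ n * b) * (⁅b, a⁆ ^ n * ⁅b, a⁆ ^ n.choose 2) := by group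

theorem pow_zpow_comm' {G : Type*} [Group G] (x : G) (j : ℤ) (n : ℕ) :
    (x ^ j) ^ n = (x ^ n) ^ j := by
  rw [← zpow_natCast (x ^ j) n, ← zpow_mul, ← zpow_natCast x n, ← zpow_mul, mul_comm]

/-- a `p`-element normalizing a cyclic `p`-group `⟨d₀⟩` acts trivially modulo `⟨d₀ ^ p⟩` -/
theorem commutator_mem_zpowers_pow {P : Type*} [Group P] [Finite P] {p : ℕ} [Fact p.Prime]
    (hP : IsPGroup p P) (d₀ h : P) (hnorm : h * d₀ * h⁻¹ ∈ Subgroup.zpowers d₀) :
    ∀ d ∈ Subgroup.zpowers d₀, ⁅d, h⁆ ∈ Subgroup.zpowers (d₀ ^ p) := by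
  by_cases hd1 : d₀ = 1
  · intro d hd
    rw [hd1, Subgroup.zpowers_one_eq_bot, Subgroup.mem_bot] at hd
    rw [hd, commutatorElement_one_left]; exact one_mem _
  obtain ⟨j₀, hj₀⟩ := Subgroup.mem_zpowers_iff.mp hnorm
  have hpos : (0 : ℤ) < orderOf d₀ := by exact_mod_cast orderOf_pos d₀
  obtain ⟨k, hk'⟩ : ∃ k : ℕ, (k : ℤ) = j₀ % orderOf d₀ :=
    ⟨(j₀ % orderOf d₀).toNat, Int.toNat_of_nonneg (Int.emod_nonneg _ hpos.ne')⟩
  have hk : d₀ ^ k = h * d₀ * h⁻¹ := by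
    rw [← zpow_natCast, hk', zpow_mod_orderOf, hj₀]
  -- `h ^ j` conjugates `d₀` to `d₀ ^ (k ^ j)`
  have hiter : ∀ j : ℕ, h ^ j * d₀ * (h ^ j)⁻¹ = d₀ ^ (k ^ j) := by
    intro j
    induction j with
    | zero => simp
    | succ j ih =>
      calc h ^ (j + 1) * d₀ * (h ^ (j + 1))⁻¹ = h * (h ^ j * d₀ * (h ^ j)⁻¹) * h⁻¹ := by
            rw [pow_succ' h j]; group
        _ = h * d₀ ^ (k ^ j) * h⁻¹ := by rw [ih]
        _ = (h * d₀ * h⁻¹) ^ (k ^ j) := by rw [conj_pow]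
        _ = d₀ ^ (k ^ (j + 1)) := by rw [← hk, ← pow_mul, pow_succ' k j]
  obtain ⟨t, ht⟩ := hP h
  have h1 := hiter (p ^ t)
  rw [ht, one_mul, inv_one, mul_one] at h1
  -- `orderOf d₀ ∣ k ^ (p ^ t) - 1`
  have hkpos : 0 < k ^ (p ^ t) := by
    rcases Nat.eq_zero_or_pos (k ^ (p ^ t)) with h0 | h0
    · exfalso
      rw [h0, pow_zero] at h1
      exact hd1 h1
    · exact h0
  have h2 : d₀ ^ (k ^ (p ^ t) - 1) = 1 := by
    have : d₀ ^ (k ^ (p ^ t) - 1) * d₀ = 1 * d₀ := by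
      rw [← pow_succ, Nat.sub_add_cancel hkpos, one_mul]; exact h1.symm
    exact mul_right_cancel this
  have h3 : p ∣ orderOf d₀ := by
    obtain ⟨s, hs⟩ := (IsPGroup.iff_orderOf.mp hP) d₀
    rw [hs]
    have hs0 : s ≠ 0 := by
      rintro rfl
      rw [pow_zero, orderOf_eq_one_iff] at hs
      exact hd1 hs
    exact dvd_pow_self p hs0
  have h4 : p ∣ k ^ (p ^ t) - 1 := h3.trans (orderOf_dvd_of_pow_eq_one h2)
  have h5 : ((k : ZMod p)) = 1 := by
    have h6 : ((k ^ (p ^ t) - 1 : ℕ) : ZMod p) = 0 := (ZMod.natCast_eq_zero_iff _ _).mpr h4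
    rw [Nat.cast_sub hkpos] at h6
    push_cast at h6
    rw [ZMod.pow_card_pow] at h6
    exact sub_eq_zero.mp h6
  have hk1 : 1 ≤ k := by
    rcases Nat.eq_zero_or_pos k with h0 | h0
    · exfalso
      rw [h0] at h5
      have hp1 : (1 : ZMod p) ≠ 0 := one_ne_zero
      exact hp1 (by simpa using h5.symm)
    · exact h0
  have h7 : p ∣ k - 1 := by
    rw [← ZMod.natCast_eq_zero_iff, Nat.cast_sub hk1, h5]; simp
  obtain ⟨q, hq⟩ := h7
  intro d hd
  obtain ⟨j, rfl⟩ := Subgroup.mem_zpowers_iff.mp hd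
  have h8 : h * d₀ ^ j * h⁻¹ = (d₀ ^ j) ^ k := by
    rw [← conj_zpow, ← hk, ← zpow_natCast, ← zpow_natCast, ← zpow_mul, ← zpow_mul, mul_comm]
  have h9 : ⁅d₀ ^ j, h⁆ = ((d₀ ^ p) ^ (j * q))⁻¹ := by
    rw [commutatorElement_def]
    have : d₀ ^ j * h * (d₀ ^ j)⁻¹ * h⁻¹ = d₀ ^ j * (h * d₀ ^ j * h⁻¹)⁻¹ := by group
    rw [this, h8]
    have hk' : k = p * q + 1 := by omega
    rw [hk', pow_succ, mul_inv_rev, ← mul_assoc, mul_inv_cancel, one_mul, ← zpow_natCast,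
      ← zpow_natCast, ← zpow_mul, ← zpow_mul]
    congr 2
    push_cast; ring
  rw [h9]
  exact inv_mem (Subgroup.zpow_mem _ (Subgroup.mem_zpowers _) _)

/-- the first power condition for a `p`-group (`p` odd) with cyclic derived subgroup -/
theorem first_power_of_cyclic_commutator {P : Type*} [Group P] [Finite P] {p : ℕ} [Fact p.Prime]
    (hp2 : p ≠ 2) (hP : IsPGroup p P) (d₀ : P) (hd₀ : commutator P = Subgroup.zpowers d₀)
    (a b : P) : ∃ d ∈ commutator P, (a * b) ^ p = a ^ p * b ^ p * d ^ p := by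
  have hnormal : ∀ g : P, g * d₀ * g⁻¹ ∈ Subgroup.zpowers d₀ := by
    intro g
    rw [← hd₀]
    exact (inferInstance : (commutator P).Normal).conj_mem _
      (by rw [hd₀]; exact Subgroup.mem_zpowers _) g
  have hM : (Subgroup.zpowers (d₀ ^ p)).Normal := by
    constructor
    intro x hx g
    obtain ⟨j, rfl⟩ := Subgroup.mem_zpowers_iff.mp hx
    obtain ⟨l, hl⟩ := Subgroup.mem_zpowers_iff.mp (hnormal g)
    have : g * (d₀ ^ p) ^ j * g⁻¹ = ((d₀ ^ p) ^ l) ^ j := by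
      rw [← conj_zpow, ← conj_pow, ← hl, pow_zpow_comm']
    rw [this]
    exact Subgroup.zpow_mem _ (Subgroup.zpow_mem _ (Subgroup.mem_zpowers _) _) _
  have hzmem : ⁅b, a⁆ ∈ Subgroup.zpowers d₀ := by
    rw [← hd₀, commutator_def]
    exact Subgroup.commutator_mem_commutator (Subgroup.mem_top _) (Subgroup.mem_top _)
  have hca := commutator_mem_zpowers_pow hP d₀ a (hnormal a) _ hzmem
  have hcb := commutator_mem_zpowers_pow hP d₀ b (hnormal b) _ hzmem
  -- work in the quotient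
  have h1 : Commute ⁅(b : P ⧸ Subgroup.zpowers (d₀ ^ p)), (a : P ⧸ Subgroup.zpowers (d₀ ^ p))⁆
      (a : P ⧸ Subgroup.zpowers (d₀ ^ p)) := by
    rw [← commutatorElement_eq_one_iff_commute]
    have := (QuotientGroup.eq_one_iff (N := Subgroup.zpowers (d₀ ^ p)) ⁅⁅b, a⁆, a⁆).mpr hca
    simpa [commutatorElement_def] using this
  have h2 : Commute ⁅(b : P ⧸ Subgroup.zpowers (d₀ ^ p)), (a : P ⧸ Subgroup.zpowers (d₀ ^ p))⁆
      (b : P ⧸ Subgroup.zpowers (d₀ ^ p)) := by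
    rw [← commutatorElement_eq_one_iff_commute]
    have := (QuotientGroup.eq_one_iff (N := Subgroup.zpowers (d₀ ^ p)) ⁅⁅b, a⁆, b⁆).mpr hcb
    simpa [commutatorElement_def] using this
  have h3 := mul_pow_of_commute_commutator (a : P ⧸ Subgroup.zpowers (d₀ ^ p))
    (b : P ⧸ Subgroup.zpowers (d₀ ^ p)) h1 h2 p
  have h4 : ⁅(b : P ⧸ Subgroup.zpowers (d₀ ^ p)), (a : P ⧸ Subgroup.zpowers (d₀ ^ p))⁆ ^ p = 1 := by
    obtain ⟨j, hj⟩ := Subgroup.mem_zpowers_iff.mp hzmem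
    have h5 : ⁅b, a⁆ ^ p ∈ Subgroup.zpowers (d₀ ^ p) := by
      rw [← hj, pow_zpow_comm']
      exact Subgroup.zpow_mem _ (Subgroup.mem_zpowers _) _
    have := (QuotientGroup.eq_one_iff (N := Subgroup.zpowers (d₀ ^ p)) (⁅b, a⁆ ^ p)).mpr h5
    simpa [commutatorElement_def] using this
  have hp' : p ∣ p.choose 2 := by
    apply (Fact.out : p.Prime).dvd_choose_self (by norm_num)
    have := (Fact.out : p.Prime).two_le
    omega
  obtain ⟨q, hq⟩ := hp'
  rw [hq, pow_mul, h4, one_pow, mul_one] at h3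
  have h6 : ((a * b) ^ p : P ⧸ Subgroup.zpowers (d₀ ^ p)) = ((a ^ p * b ^ p : P) : P ⧸ _) := by
    simpa using h3
  have h7 : ((a ^ p * b ^ p : P) : P ⧸ Subgroup.zpowers (d₀ ^ p)) = (((a * b) ^ p : P) : P ⧸ _) := by
    rw [← h6]; simp
  have h8 := QuotientGroup.eq.mp h7
  obtain ⟨j, hj⟩ := Subgroup.mem_zpowers_iff.mp h8
  refine ⟨d₀ ^ j, by rw [hd₀]; exact Subgroup.zpow_mem _ (Subgroup.mem_zpowers _) _, ?_⟩
  have h9 : (d₀ ^ j) ^ p = (d₀ ^ p) ^ j := pow_zpow_comm' d₀ j p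
  rw [h9, hj]; group

/-- `p`-groups (`p` odd) in which every two-generator subgroup has cyclic derived subgroup
are regular -/
theorem regular_of_cyclic_commutators {G : Type*} [Group G] [Finite G] {p : ℕ} [Fact p.Prime]
    (hp2 : p ≠ 2) (hG : IsPGroup p G)
    (hcyc : ∀ K : Subgroup G, IsCyclic (⁅K, K⁆ : Subgroup G)) : Cfsg.IsRegularPGroup p G := by
  rw [RegL.regular_iff_wCond hG]
  intro a b
  obtain ⟨K, hK⟩ : ∃ K : Subgroup G, K = Subgroup.closure ({a, b} : Set G) := ⟨_, rfl⟩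
  rw [← hK]
  have haK : a ∈ K := by rw [hK]; exact Subgroup.subset_closure (Set.mem_insert _ _)
  have hbK : b ∈ K := by rw [hK]; exact Subgroup.subset_closure (Set.mem_insert_of_mem _ rfl)
  haveI := hcyc K
  have hmap : (commutator K).map K.subtype = ⁅K, K⁆ := Subgroup.map_subtype_commutator K
  have hcycK : IsCyclic (commutator K) := by
    have e : commutator K ≃* (⁅K, K⁆ : Subgroup G) :=
      ((commutator K).equivMapOfInjective K.subtype K.subtype_injective).trans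
        (MulEquiv.subgroupCongr hmap)
    exact isCyclic_of_surjective e.symm e.symm.surjective
  obtain ⟨g, hg⟩ := hcycK.exists_generator
  have hd₀ : commutator K = Subgroup.zpowers (g : K) := by
    ext x
    constructor
    · intro hx
      obtain ⟨j, hj⟩ := Subgroup.mem_zpowers_iff.mp (hg ⟨x, hx⟩)
      rw [Subgroup.mem_zpowers_iff]
      exact ⟨j, by have := congrArg Subtype.val hj; simpa using this⟩
    · intro hx
      obtain ⟨j, rfl⟩ := Subgroup.mem_zpowers_iff.mp hx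
      exact Subgroup.zpow_mem _ g.2 _
  obtain ⟨d, hd, hdeq⟩ := first_power_of_cyclic_commutator hp2 (hG.to_subgroup K) (g : K) hd₀
    ⟨a, haK⟩ ⟨b, hbK⟩
  refine ⟨(d : G), ?_, ?_⟩
  · rw [← hmap]; exact ⟨d, hd, rfl⟩
  · have := congrArg Subtype.val hdeq
    simpa using this

/-- metacyclic `p`-groups, `p` odd, are regular -/
theorem regular_of_metacyclic {G : Type*} [Group G] [Finite G] {p : ℕ} [Fact p.Prime]
    (hp2 : p ≠ 2) (hG : IsPGroup p G) (N : Subgroup G) [N.Normal] (hN : IsCyclic N)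
    (hQ : IsCyclic (G ⧸ N)) : Cfsg.IsRegularPGroup p G := by
  apply regular_of_cyclic_commutators hp2 hG
  intro K
  have h1 : commutator G ≤ N := by
    rw [← Subgroup.Normal.quotient_commutative_iff_commutator_le]
    exact ⟨⟨fun x y => (IsCyclic.commGroup (α := G ⧸ N)).mul_comm x y⟩⟩
  have h2 : ⁅K, K⁆ ≤ N := by
    refine le_trans ?_ h1
    rw [commutator_def]; exact Subgroup.commutator_mono le_top le_top
  exact Subgroup.isCyclic_of_le h2

end Cfsg.Agent.H2.CycDer
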