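import Mathlib
import Cfsg.Prelude.Def_Local

/-!
Basic facts on quasisimple groups (helper2).
-/

set_option autoImplicit false
open scoped commutatorElement

namespace Cfsg.Agent.H2

theorem commutatorElement_mul_central_left {X : Type*} [Group X] (a b z : X)
    (hz : z ∈ Subgroup.center X) : ⁅a * z, b⁆ = ⁅a, b⁆ := by
  have hz' : b * z = z * b := Subgroup.mem_center_iff.1 hz b
  simp only [commutatorElement_def, mul_inv_rev]
  calc a * z * b * (z⁻¹ * a⁻¹) * b⁻¹ = a * (z * b) * z⁻¹ * a⁻¹ * b⁻¹ := by group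
    _ = a * (b * z) * z⁻¹ * a⁻¹ * b⁻¹ := by rw [hz']
    _ = a * b * a⁻¹ * b⁻¹ := by group

theorem commutatorElement_mul_central_right {X : Type*} [Group X] (a b z : X)
    (hz : z ∈ Subgroup.center X) : ⁅a, b * z⁆ = ⁅a, b⁆ := by
  have hz' : a⁻¹ * z = z * a⁻¹ := Subgroup.mem_center_iff.1 hz a⁻¹
  simp only [commutatorElement_def, mul_inv_rev]
  calc a * (b * z) * a⁻¹ * (z⁻¹ * b⁻¹) = a * b * (z * a⁻¹) * z⁻¹ * b⁻¹ := by group
    _ = a * b * (a⁻¹ * z) * z⁻¹ * b⁻¹ := by rw [hz']
    _ = a * b * a⁻¹ * b⁻¹ := by group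

/-- `⁅H ⊔ Z, K ⊔ Z⁆ = ⁅H, K⁆` for `Z` the centre. -/
theorem commutator_sup_center {X : Type*} [Group X] (H K : Subgroup X) :
    ⁅H ⊔ Subgroup.center X, K ⊔ Subgroup.center X⁆ = ⁅H, K⁆ := by
  apply le_antisymm
  · rw [Subgroup.commutator_le]
    intro a ha b hb
    obtain ⟨h₁, hh₁, z₁, hz₁, rfl⟩ := Subgroup.mem_sup_of_normal_right.1 ha
    obtain ⟨h₂, hh₂, z₂, hz₂, rfl⟩ := Subgroup.mem_sup_of_normal_right.1 hb
    rw [commutatorElement_mul_central_left _ _ _ hz₁, commutatorElement_mul_central_right _ _ _ hz₂]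
    exact Subgroup.commutator_mem_commutator hh₁ hh₂
  · exact Subgroup.commutator_mono le_sup_left le_sup_left

/-- In a perfect group, a subgroup `H` with `H ⊔ Z(X) = ⊤` is everything. -/
theorem eq_top_of_sup_center_eq_top {X : Type*} [Group X] [Group.IsPerfect X] (H : Subgroup X)
    (h : H ⊔ Subgroup.center X = ⊤) : H = ⊤ := by
  rw [eq_top_iff, ← Group.IsPerfect.commutator_eq_top (G := X), commutator_def, ← h,
    commutator_sup_center]
  exact Subgroup.le_normalizer_iff_commutator_le_right.1 Subgroup.le_normalizer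

/-- In a quasisimple group, every subnormal subgroup is the whole group or central. -/
theorem IsQuasisimple.eq_top_or_le_center {X : Type*} [Group X] (hX : Cfsg.IsQuasisimple X)
    (H : Subgroup X) (hH : H.IsSubnormal) : H = ⊤ ∨ H ≤ Subgroup.center X := by
  have := hX.1
  have h1 := (hH.quotient (K := Subgroup.center X)).eq_bot_or_top_of_isSimpleGroup hX.2
  rcases h1 with h1 | h1
  · right
    intro x hx
    have : QuotientGroup.mk' (Subgroup.center X) x ∈
        Subgroup.map (QuotientGroup.mk' (Subgroup.center X)) H :=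
      Subgroup.mem_map_of_mem _ hx
    rw [h1, Subgroup.mem_bot] at this
    rw [← QuotientGroup.ker_mk' (Subgroup.center X)]
    exact this
  · left
    apply eq_top_of_sup_center_eq_top
    have := congrArg (Subgroup.comap (QuotientGroup.mk' (Subgroup.center X))) h1
    rwa [Subgroup.comap_map_eq, QuotientGroup.ker_mk', Subgroup.comap_top] at this

/-- If `D ⊔ Z(X) = ⊤` then the centre of `D` is `D ∩ Z(X)`. -/
theorem center_eq_subgroupOf_center_of_sup_eq_top {X : Type*} [Group X] (D : Subgroup X)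
    (h : D ⊔ Subgroup.center X = ⊤) :
    Subgroup.center D = (Subgroup.center X).subgroupOf D := by
  ext ⟨z, hzD⟩
  rw [Subgroup.mem_subgroupOf, Subgroup.mem_center_iff, Subgroup.mem_center_iff]
  constructor
  · intro hz g
    have hg : g ∈ D ⊔ Subgroup.center X := by rw [h]; exact Subgroup.mem_top g
    obtain ⟨d, hd, c, hc, rfl⟩ := Subgroup.mem_sup_of_normal_right.1 hg
    have h1 : d * z = z * d := by
      have := hz ⟨d, hd⟩
      simpa using congrArg Subtype.val this
    have h2 : z * c = c * z := Subgroup.mem_center_iff.1 hc z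
    show d * c * z = z * (d * c)
    calc d * c * z = d * (c * z) := by group
      _ = d * (z * c) := by rw [h2]
      _ = (d * z) * c := by group
      _ = (z * d) * c := by rw [h1]
      _ = z * (d * c) := by group
  · intro hz g
    apply Subtype.ext
    exact hz g

theorem isQuasisimple_of_sup_center_eq_top {X : Type*} [Group X] (D : Subgroup X)
    (h : D ⊔ Subgroup.center X = ⊤) (hs : IsSimpleGroup (X ⧸ Subgroup.center X))
    (hp : ⁅D, D⁆ = D) : Cfsg.IsQuasisimple D := by
  refine ⟨Subgroup.isPerfect_iff.2 hp, ?_⟩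
  let f : D →* X ⧸ Subgroup.center X := (QuotientGroup.mk' (Subgroup.center X)).comp D.subtype
  have hf : Function.Surjective f := by
    intro q
    obtain ⟨g, rfl⟩ := QuotientGroup.mk'_surjective _ q
    have hg : g ∈ D ⊔ Subgroup.center X := by rw [h]; exact Subgroup.mem_top g
    obtain ⟨d, hd, c, hc, rfl⟩ := Subgroup.mem_sup_of_normal_right.1 hg
    refine ⟨⟨d, hd⟩, ?_⟩
    show (QuotientGroup.mk' (Subgroup.center X)) d = QuotientGroup.mk' (Subgroup.center X) (d * c)
    rw [QuotientGroup.mk'_eq_mk']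
    exact ⟨c, hc, rfl⟩
  have hker : f.ker = Subgroup.center D := by
    rw [center_eq_subgroupOf_center_of_sup_eq_top D h]
    ext ⟨z, hz⟩
    rw [MonoidHom.mem_ker, Subgroup.mem_subgroupOf]
    show (QuotientGroup.mk' (Subgroup.center X)) z = 1 ↔ _
    rw [← MonoidHom.mem_ker, QuotientGroup.ker_mk']
  have e : D ⧸ Subgroup.center D ≃* X ⧸ Subgroup.center X :=
    (QuotientGroup.quotientMulEquivOfEq hker.symm).trans
      (QuotientGroup.quotientKerEquivOfSurjective f hf)
  exact e.isSimpleGroup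

end Cfsg.Agent.H2
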