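import Mathlib
import Cfsg.Prelude.Def_Local
import Cfsg.Agent.H2.Quasisimple
import Cfsg.Agent.Lib.Lead.Quasisimple

/-!
Components of finite groups (helper2): the basic theory of components, the layer and `F*`.
-/

set_option autoImplicit false
open scoped commutatorElement

namespace Cfsg.Agent.H2

universe u

section Basic

variable {G : Type*} [Group G]

theorem isQuasisimple_congr {H H' : Type*} [Group H] [Group H'] (e : H ≃* H') :
    Cfsg.IsQuasisimple H ↔ Cfsg.IsQuasisimple H' :=
  ⟨Cfsg.Agent.Lib.Lead.Quasisimple.of_mulEquiv e, Cfsg.Agent.Lib.Lead.Quasisimple.of_mulEquiv e.symm⟩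

theorem isQuasisimple_subgroupOf {L M : Subgroup G} (h : L ≤ M) :
    Cfsg.IsQuasisimple (L.subgroupOf M) ↔ Cfsg.IsQuasisimple L :=
  isQuasisimple_congr (Subgroup.subgroupOfEquivOfLe h)

theorem isQuasisimple_map_of_injective {G' : Type*} [Group G'] (f : G →* G')
    (hf : Function.Injective f) (L : Subgroup G) :
    Cfsg.IsQuasisimple (L.map f) ↔ Cfsg.IsQuasisimple L :=
  (isQuasisimple_congr (L.equivMapOfInjective f hf)).symm

theorem isQuasisimple_top : Cfsg.IsQuasisimple (⊤ : Subgroup G) ↔ Cfsg.IsQuasisimple G :=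
  isQuasisimple_congr Subgroup.topEquiv

theorem quasisimple_commutator_eq {L : Subgroup G} (h : Cfsg.IsQuasisimple L) : ⁅L, L⁆ = L :=
  Subgroup.isPerfect_iff.1 h.1

theorem quasisimple_ne_bot {L : Subgroup G} (h : Cfsg.IsQuasisimple L) : L ≠ ⊥ := by
  have := Cfsg.Agent.Lib.Lead.Quasisimple.nontrivial h
  exact (Subgroup.nontrivial_iff_ne_bot L).1 this

theorem quasisimple_not_isSolvable {L : Type*} [Group L] (h : Cfsg.IsQuasisimple L) :
    ¬ Group.IsSolvable L := by
  have := Cfsg.Agent.Lib.Lead.Quasisimple.nontrivial h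
  have := h.1
  exact Group.IsPerfect.not_isSolvable L

theorem component_subgroupOf {L M : Subgroup G} (hL : Cfsg.IsComponent L) (hLM : L ≤ M) :
    Cfsg.IsComponent (L.subgroupOf M) :=
  ⟨hL.1.subgroupOf, (isQuasisimple_subgroupOf hLM).2 hL.2⟩

theorem component_map_subtype {M : Subgroup G} (hM : M.IsSubnormal) {K : Subgroup M}
    (hK : Cfsg.IsComponent K) : Cfsg.IsComponent (K.map M.subtype) :=
  ⟨hK.1.trans' hM, (isQuasisimple_map_of_injective _ M.subtype_injective K).2 hK.2⟩

theorem component_map_equiv {G' : Type*} [Group G'] (e : G ≃* G') {L : Subgroup G}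
    (hL : Cfsg.IsComponent L) : Cfsg.IsComponent (L.map e.toMonoidHom) :=
  ⟨hL.1.map e.surjective, (isQuasisimple_map_of_injective _ e.injective L).2 hL.2⟩

theorem component_conj {L : Subgroup G} (hL : Cfsg.IsComponent L) (g : G) :
    Cfsg.IsComponent (L.map (MulAut.conj g).toMonoidHom) :=
  component_map_equiv (MulAut.conj g) hL

theorem commutator_eq_bot_iff_forall_commute (A B : Subgroup G) :
    ⁅A, B⁆ = ⊥ ↔ ∀ a ∈ A, ∀ b ∈ B, a * b = b * a := by
  rw [Subgroup.commutator_eq_bot_iff_le_centralizer]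
  constructor
  · intro h a ha b hb
    exact ((Subgroup.mem_centralizer_iff.1 (h ha)) b hb).symm
  · intro h a ha
    rw [Subgroup.mem_centralizer_iff]
    intro b hb
    exact (h a ha b hb).symm

theorem commutator_subgroupOf_eq_bot_iff {A B M : Subgroup G} (hA : A ≤ M) (hB : B ≤ M) :
    ⁅A.subgroupOf M, B.subgroupOf M⁆ = ⊥ ↔ ⁅A, B⁆ = ⊥ := by
  rw [commutator_eq_bot_iff_forall_commute, commutator_eq_bot_iff_forall_commute]
  constructor
  · intro h a ha b hb
    have := h ⟨a, hA ha⟩ (Subgroup.mem_subgroupOf.2 ha) ⟨b, hB hb⟩ (Subgroup.mem_subgroupOf.2 hb)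
    simpa using congrArg Subtype.val this
  · intro h a ha b hb
    apply Subtype.ext
    exact h a (Subgroup.mem_subgroupOf.1 ha) b (Subgroup.mem_subgroupOf.1 hb)

end Basic

theorem card_lt_card_of_lt_top {G : Type*} [Group G] [Finite G] {X : Subgroup G} (h : X < ⊤) :
    Nat.card X < Nat.card G := by
  by_contra hc
  push Not at hc
  exact h.ne (Subgroup.eq_top_of_le_card X hc)

theorem component_le_or_commutator_eq_bot_aux (n : ℕ) :
    ∀ (G : Type u) [Group G] [Finite G], Nat.card G = n → ∀ (L H : Subgroup G),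
      Cfsg.IsComponent L → H.IsSubnormal → L ≤ H ∨ ⁅L, H⁆ = ⊥ := by
  induction n using Nat.strong_induction_on with
  | _ n ih =>
    intro G _ _ hn L H hL hH
    by_cases hLtop : L = ⊤
    · -- G is quasisimple
      subst hLtop
      have hG : Cfsg.IsQuasisimple G := isQuasisimple_top.1 hL.2
      rcases IsQuasisimple.eq_top_or_le_center hG H hH with h | h
      · left; rw [h]
      · right
        rw [commutator_eq_bot_iff_forall_commute]
        intro a _ b hb
        exact (Subgroup.mem_center_iff.1 (h hb) a)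
    by_cases hHtop : H = ⊤
    · left; rw [hHtop]; exact le_top
    obtain ⟨X, hXn, hLX, hXlt⟩ := hL.1.exists_normal_and_le_and_lt_top_of_ne hLtop
    obtain ⟨Y, hYn, hHY, hYlt⟩ := hH.exists_normal_and_le_and_lt_top_of_ne hHtop
    have hXcard : Nat.card X < n := by
      rw [← hn]
      exact card_lt_card_of_lt_top hXlt
    have hYcard : Nat.card Y < n := by
      rw [← hn]
      exact card_lt_card_of_lt_top hYlt
    have h1 := ih _ hXcard X rfl (L.subgroupOf X) (Y.subgroupOf X) (component_subgroupOf hL hLX)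
      (hYn.isSubnormal.subgroupOf)
    rcases h1 with h1 | h1
    · -- L ≤ Y
      have hLY : L ≤ Y := by
        intro l hl
        have : (⟨l, hLX hl⟩ : X) ∈ Y.subgroupOf X := h1 (Subgroup.mem_subgroupOf.2 hl)
        exact Subgroup.mem_subgroupOf.1 this
      have h2 := ih _ hYcard Y rfl (L.subgroupOf Y) (H.subgroupOf Y) (component_subgroupOf hL hLY)
        hH.subgroupOf
      rcases h2 with h2 | h2
      · left
        intro l hl
        have : (⟨l, hLY hl⟩ : Y) ∈ H.subgroupOf Y := h2 (Subgroup.mem_subgroupOf.2 hl)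
        exact Subgroup.mem_subgroupOf.1 this
      · right
        exact (commutator_subgroupOf_eq_bot_iff hLY hHY).1 h2
    · -- L centralizes X ⊓ Y
      right
      have hc : ⁅L, X ⊓ Y⁆ = ⊥ := by
        rw [← commutator_subgroupOf_eq_bot_iff hLX inf_le_left, Subgroup.inf_subgroupOf_left]
        exact h1
      have hLYle : ⁅L, Y⁆ ≤ X ⊓ Y :=
        (Subgroup.commutator_mono hLX le_rfl).trans (Subgroup.commutator_le_inf X Y)
      have e1 : ⁅⁅L, Y⁆, L⁆ = ⊥ := by
        rw [eq_bot_iff]
        calc ⁅⁅L, Y⁆, L⁆ ≤ ⁅X ⊓ Y, L⁆ := Subgroup.commutator_mono hLYle le_rfl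
          _ = ⁅L, X ⊓ Y⁆ := Subgroup.commutator_comm _ _
          _ = ⊥ := hc
      have e2 : ⁅⁅Y, L⁆, L⁆ = ⊥ := by rw [Subgroup.commutator_comm Y L]; exact e1
      have e3 : ⁅⁅L, L⁆, Y⁆ = ⊥ := Subgroup.commutator_commutator_eq_bot_of_rotate e1 e2
      rw [quasisimple_commutator_eq hL.2] at e3
      rw [eq_bot_iff, ← e3]
      exact Subgroup.commutator_mono le_rfl hHY

/-- A component `L` and a subnormal subgroup `H` of a finite group: `L ≤ H` or `⁅L, H⁆ = 1`. -/
theorem component_le_or_commutator_eq_bot {G : Type*} [Group G] [Finite G] (L H : Subgroup G)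
    (hL : Cfsg.IsComponent L) (hH : H.IsSubnormal) : L ≤ H ∨ ⁅L, H⁆ = ⊥ :=
  component_le_or_commutator_eq_bot_aux _ G rfl L H hL hH

/-- A component centralizes every solvable subgroup it normalizes. -/
theorem component_commutator_solvable_eq_bot {G : Type*} [Group G] [Finite G] (L H : Subgroup G)
    (hL : Cfsg.IsComponent L) (hsolv : Group.IsSolvable H)
    (hinv : L ≤ Subgroup.normalizer (H : Set G)) : ⁅L, H⁆ = ⊥ := by
  have hLM : L ≤ L ⊔ H := le_sup_left
  have hHM : H ≤ L ⊔ H := le_sup_right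
  have hMN : L ⊔ H ≤ Subgroup.normalizer (H : Set G) := sup_le hinv Subgroup.le_normalizer
  have hHn : (H.subgroupOf (L ⊔ H)).Normal :=
    (Subgroup.normal_subgroupOf_iff_le_normalizer hHM).2 hMN
  rcases component_le_or_commutator_eq_bot (L.subgroupOf (L ⊔ H)) (H.subgroupOf (L ⊔ H))
    (component_subgroupOf hL hLM) hHn.isSubnormal with h | h
  · exfalso
    have hLH : L ≤ H := by
      intro l hl
      have : (⟨l, hLM hl⟩ : (L ⊔ H : Subgroup G)) ∈ H.subgroupOf (L ⊔ H) :=
        h (Subgroup.mem_subgroupOf.2 hl)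
      exact Subgroup.mem_subgroupOf.1 this
    have : Group.IsSolvable L :=
      Group.isSolvable_of_isSolvable_injective (Subgroup.inclusion_injective hLH)
    exact quasisimple_not_isSolvable hL.2 this
  · exact (commutator_subgroupOf_eq_bot_iff hLM hHM).1 h

end Cfsg.Agent.H2
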