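import Mathlib
import Cfsg.Prelude.Def_Local
import Cfsg.Agent.H2.Components

/-!
Isomorphism-invariant ("characteristic") subgroup functors: `F(G)`, `E(G)`, `F*(G)`, `O_p(G)`,
`O_{p'}(G)` (helper2).
-/

set_option autoImplicit false

namespace Cfsg.Agent.H2

universe u

theorem map_sSup_eq_of_forall {A B : Type*} [Group A] [Group B] (e : A ≃* B)
    (S : Set (Subgroup A)) (T : Set (Subgroup B))
    (h1 : ∀ N ∈ S, N.map e.toMonoidHom ∈ T) (h2 : ∀ N ∈ T, N.map e.symm.toMonoidHom ∈ S) :
    (sSup S).map e.toMonoidHom = sSup T := by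
  apply le_antisymm
  · rw [Subgroup.map_le_iff_le_comap]
    apply sSup_le
    intro N hN
    rw [← Subgroup.map_le_iff_le_comap]
    exact le_sSup (h1 N hN)
  · apply sSup_le
    intro N hN
    have : N = (N.map e.symm.toMonoidHom).map e.toMonoidHom := by
      rw [Subgroup.map_map]
      have : e.toMonoidHom.comp e.symm.toMonoidHom = MonoidHom.id B := by
        ext x; simp
      rw [this, Subgroup.map_id]
    rw [this]
    exact Subgroup.map_mono (le_sSup (h2 N hN))

/-- Conjugation by an element of the normalizer, as an automorphism of the subgroup. -/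
def conjNormalizerEquiv {G : Type*} [Group G] (H : Subgroup G) (k : G)
    (hk : k ∈ Subgroup.normalizer (H : Set G)) : H ≃* H where
  toFun x := ⟨k * x * k⁻¹, (Subgroup.mem_normalizer_iff.1 hk x).1 x.2⟩
  invFun x := ⟨k⁻¹ * x * k, by
    have := (Subgroup.mem_normalizer_iff.1 hk (k⁻¹ * x * k)).2
    apply this
    have e : k * (k⁻¹ * (x : G) * k) * k⁻¹ = x := by group
    rw [e]; exact x.2⟩
  left_inv x := by
    apply Subtype.ext
    show k⁻¹ * (k * (x : G) * k⁻¹) * k = x
    group
  right_inv x := by
    apply Subtype.ext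
    show k * (k⁻¹ * (x : G) * k) * k⁻¹ = x
    group
  map_mul' x y := by
    apply Subtype.ext
    show k * ((x : G) * y) * k⁻¹ = (k * x * k⁻¹) * (k * y * k⁻¹)
    group

theorem conjNormalizerEquiv_apply {G : Type*} [Group G] (H : Subgroup G) (k : G)
    (hk : k ∈ Subgroup.normalizer (H : Set G)) (x : H) :
    (conjNormalizerEquiv H k hk x : G) = k * x * k⁻¹ := rfl

/-- If `N ≤ H` is invariant under all automorphisms of `H`, then `N.map H.subtype` is normalized
by the normalizer of `H`. -/
theorem normalizer_le_normalizer_map_subtype {G : Type*} [Group G] (H : Subgroup G)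
    (N : Subgroup H) (hN : ∀ φ : H ≃* H, N.map φ.toMonoidHom = N) :
    Subgroup.normalizer (H : Set G) ≤ Subgroup.normalizer ((N.map H.subtype : Subgroup G) : Set G) := by
  have key : ∀ k ∈ Subgroup.normalizer (H : Set G), ∀ x ∈ N.map H.subtype,
      k * x * k⁻¹ ∈ N.map H.subtype := by
    intro k hk x hx
    obtain ⟨y, hy, rfl⟩ := Subgroup.mem_map.1 hx
    have h1 : conjNormalizerEquiv H k hk y ∈ N := by
      have : conjNormalizerEquiv H k hk y ∈ N.map (conjNormalizerEquiv H k hk).toMonoidHom :=
        Subgroup.mem_map_of_mem _ hy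
      rwa [hN] at this
    exact Subgroup.mem_map.2 ⟨_, h1, rfl⟩
  intro k hk
  rw [Subgroup.mem_normalizer_iff]
  intro x
  constructor
  · exact key k hk x
  · intro hx
    have := key k⁻¹ (Subgroup.inv_mem _ hk) _ hx
    have e : k⁻¹ * (k * x * k⁻¹) * k⁻¹⁻¹ = x := by group
    rwa [e] at this

end Cfsg.Agent.H2

namespace Cfsg.Agent.H2

section Functors

variable {A B : Type*} [Group A] [Group B]

theorem normal_map_equiv (e : A ≃* B) {N : Subgroup A} (hN : N.Normal) :
    (N.map e.toMonoidHom).Normal :=
  hN.map e.toMonoidHom e.surjective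

theorem card_map_equiv (e : A ≃* B) (N : Subgroup A) :
    Nat.card (N.map e.toMonoidHom) = Nat.card N :=
  (Nat.card_congr (N.equivMapOfInjective e.toMonoidHom e.injective).toEquiv).symm

theorem normal_nilpotent_map_equiv (e : A ≃* B) (N : Subgroup A)
    (hN : N.Normal ∧ Group.IsNilpotent N) :
    (N.map e.toMonoidHom).Normal ∧ Group.IsNilpotent (N.map e.toMonoidHom) := by
  refine ⟨normal_map_equiv e hN.1, ?_⟩
  have := hN.2
  exact Group.nilpotent_of_mulEquiv (N.equivMapOfInjective e.toMonoidHom e.injective)

theorem fittingSubgroup_map_equiv (e : A ≃* B) :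
    (Cfsg.fittingSubgroup A).map e.toMonoidHom = Cfsg.fittingSubgroup B :=
  map_sSup_eq_of_forall e _ _ (fun N hN => normal_nilpotent_map_equiv e N hN)
    (fun N hN => normal_nilpotent_map_equiv e.symm N hN)

theorem layer_map_equiv (e : A ≃* B) :
    (Cfsg.layer A).map e.toMonoidHom = Cfsg.layer B :=
  map_sSup_eq_of_forall e _ _ (fun _ hN => component_map_equiv e hN)
    (fun _ hN => component_map_equiv e.symm hN)

theorem generalizedFittingSubgroup_map_equiv (e : A ≃* B) :
    (Cfsg.generalizedFittingSubgroup A).map e.toMonoidHom = Cfsg.generalizedFittingSubgroup B := by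
  unfold Cfsg.generalizedFittingSubgroup
  rw [Subgroup.map_sup, layer_map_equiv, fittingSubgroup_map_equiv]

theorem normal_pGroup_map_equiv (p : ℕ) (e : A ≃* B) (N : Subgroup A)
    (hN : N.Normal ∧ IsPGroup p N) :
    (N.map e.toMonoidHom).Normal ∧ IsPGroup p (N.map e.toMonoidHom) :=
  ⟨normal_map_equiv e hN.1, hN.2.map _⟩

theorem pCore_map_equiv (p : ℕ) (e : A ≃* B) :
    (Cfsg.pCore p A).map e.toMonoidHom = Cfsg.pCore p B :=
  map_sSup_eq_of_forall e _ _ (fun N hN => normal_pGroup_map_equiv p e N hN)
    (fun N hN => normal_pGroup_map_equiv p e.symm N hN)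

theorem normal_coprime_map_equiv (p : ℕ) (e : A ≃* B) (N : Subgroup A)
    (hN : N.Normal ∧ (Nat.card N).Coprime p) :
    (N.map e.toMonoidHom).Normal ∧ (Nat.card (N.map e.toMonoidHom)).Coprime p := by
  refine ⟨normal_map_equiv e hN.1, ?_⟩
  rw [card_map_equiv]; exact hN.2

theorem pPrimeCore_map_equiv (p : ℕ) (e : A ≃* B) :
    (Cfsg.pPrimeCore p A).map e.toMonoidHom = Cfsg.pPrimeCore p B :=
  map_sSup_eq_of_forall e _ _ (fun N hN => normal_coprime_map_equiv p e N hN)
    (fun N hN => normal_coprime_map_equiv p e.symm N hN)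

end Functors

section Normalizer

variable {G : Type*} [Group G]

theorem normalizer_le_normalizer_fittingSubgroup (H : Subgroup G) :
    Subgroup.normalizer (H : Set G) ≤
      Subgroup.normalizer (((Cfsg.fittingSubgroup H).map H.subtype : Subgroup G) : Set G) :=
  normalizer_le_normalizer_map_subtype H _ (fun φ => fittingSubgroup_map_equiv φ)

theorem normalizer_le_normalizer_layer (H : Subgroup G) :
    Subgroup.normalizer (H : Set G) ≤
      Subgroup.normalizer (((Cfsg.layer H).map H.subtype : Subgroup G) : Set G) :=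
  normalizer_le_normalizer_map_subtype H _ (fun φ => layer_map_equiv φ)

theorem normalizer_le_normalizer_generalizedFittingSubgroup (H : Subgroup G) :
    Subgroup.normalizer (H : Set G) ≤
      Subgroup.normalizer (((Cfsg.generalizedFittingSubgroup H).map H.subtype : Subgroup G) : Set G) :=
  normalizer_le_normalizer_map_subtype H _ (fun φ => generalizedFittingSubgroup_map_equiv φ)

theorem normalizer_le_normalizer_pCore (p : ℕ) (H : Subgroup G) :
    Subgroup.normalizer (H : Set G) ≤
      Subgroup.normalizer (((Cfsg.pCore p H).map H.subtype : Subgroup G) : Set G) :=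
  normalizer_le_normalizer_map_subtype H _ (fun φ => pCore_map_equiv p φ)

theorem normalizer_le_normalizer_pPrimeCore (p : ℕ) (H : Subgroup G) :
    Subgroup.normalizer (H : Set G) ≤
      Subgroup.normalizer (((Cfsg.pPrimeCore p H).map H.subtype : Subgroup G) : Set G) :=
  normalizer_le_normalizer_map_subtype H _ (fun φ => pPrimeCore_map_equiv p φ)

theorem normalizer_le_normalizer_center (H : Subgroup G) :
    Subgroup.normalizer (H : Set G) ≤
      Subgroup.normalizer (((Subgroup.center H).map H.subtype : Subgroup G) : Set G) :=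
  normalizer_le_normalizer_map_subtype H _
    (fun φ => Cfsg.Agent.Lib.Lead.Quasisimple.map_center φ)

theorem normalizer_le_normalizer_commutator (H : Subgroup G) :
    Subgroup.normalizer (H : Set G) ≤ Subgroup.normalizer ((⁅H, H⁆ : Subgroup G) : Set G) := by
  have h := normalizer_le_normalizer_map_subtype H (commutator H) (fun φ => by
    rw [commutator_def, Subgroup.map_commutator, ← MonoidHom.range_eq_map,
      MonoidHom.range_eq_top.2 φ.surjective])
  rwa [commutator_def, Subgroup.map_commutator, ← MonoidHom.range_eq_map, Subgroup.range_subtype]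
    at h

/-- The layer is a normal subgroup. -/
theorem layer_normal : (Cfsg.layer G).Normal := by
  have h := normalizer_le_normalizer_map_subtype (⊤ : Subgroup G) (Cfsg.layer (⊤ : Subgroup G))
    (fun φ => layer_map_equiv φ)
  have e : (Cfsg.layer (⊤ : Subgroup G)).map (⊤ : Subgroup G).subtype = Cfsg.layer G :=
    layer_map_equiv Subgroup.topEquiv
  rw [e] at h
  rw [← Subgroup.normalizer_eq_top_iff]
  rw [eq_top_iff]
  refine le_trans ?_ h
  intro x _
  rw [Subgroup.mem_normalizer_iff]
  intro y
  simp

end Normalizer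

end Cfsg.Agent.H2
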