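import Mathlib
import Cfsg.Prelude.Def_Local
import Cfsg.Agent.H2.Components
import Cfsg.Agent.H2.Equivariant
import Cfsg.Agent.H1.Cores
import Cfsg.Agent.H2.ConjMap

/-!
The layer `E(G)` and the generalized Fitting subgroup `F*(G)` (helper2).
-/

set_option autoImplicit false
open scoped commutatorElement

namespace Cfsg.Agent.H2

section

variable {G : Type*} [Group G]

theorem component_le_layer {L : Subgroup G} (hL : Cfsg.IsComponent L) : L ≤ Cfsg.layer G :=
  le_sSup hL

theorem layer_le_iff {M : Subgroup G} :
    Cfsg.layer G ≤ M ↔ ∀ L : Subgroup G, Cfsg.IsComponent L → L ≤ M :=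
  ⟨fun h _ hL => (component_le_layer hL).trans h, fun h => sSup_le (fun L hL => h L hL)⟩

/-- Distinct components of a finite group commute. -/
theorem components_commute [Finite G] {L K : Subgroup G} (hL : Cfsg.IsComponent L)
    (hK : Cfsg.IsComponent K) (hne : L ≠ K) : ⁅L, K⁆ = ⊥ := by
  rcases component_le_or_commutator_eq_bot L K hL hK.1 with h1 | h1
  · rcases component_le_or_commutator_eq_bot K L hK hL.1 with h2 | h2
    · exact absurd (le_antisymm h1 h2) hne
    · rw [Subgroup.commutator_comm]; exact h2
  · exact h1

/-- Every component centralizes every solvable normal subgroup. -/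
theorem component_commutator_normal_solvable [Finite G] {L : Subgroup G}
    (hL : Cfsg.IsComponent L) (N : Subgroup G) [N.Normal] (hN : Group.IsSolvable N) :
    ⁅L, N⁆ = ⊥ :=
  component_commutator_solvable_eq_bot L N hL hN
    (by rw [Subgroup.normalizer_eq_top_iff.2 inferInstance]; exact le_top)

theorem layer_le_centralizer_of_forall {S : Set G}
    (h : ∀ L : Subgroup G, Cfsg.IsComponent L → L ≤ Subgroup.centralizer S) :
    Cfsg.layer G ≤ Subgroup.centralizer S :=
  layer_le_iff.2 h

/-- The layer centralizes every solvable normal subgroup. -/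
theorem layer_commutator_normal_solvable [Finite G] (N : Subgroup G) [N.Normal]
    (hN : Group.IsSolvable N) : ⁅Cfsg.layer G, N⁆ = ⊥ := by
  rw [Subgroup.commutator_eq_bot_iff_le_centralizer]
  apply layer_le_iff.2
  intro L hL
  rw [← Subgroup.commutator_eq_bot_iff_le_centralizer]
  exact component_commutator_normal_solvable hL N hN

theorem fittingSubgroup_isSolvable [Finite G] : Group.IsSolvable (Cfsg.fittingSubgroup G) := by
  have := Cfsg.Agent.H1.fittingSubgroup_nilpotent (G := G)
  infer_instance

/-- `[E(G), F(G)] = 1`. -/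
theorem layer_commutator_fittingSubgroup [Finite G] :
    ⁅Cfsg.layer G, Cfsg.fittingSubgroup G⁆ = ⊥ :=
  layer_commutator_normal_solvable _ fittingSubgroup_isSolvable

/-- For a subnormal subgroup `H` of a finite group, `F(H) ≤ F(G)`. -/
theorem fittingSubgroup_map_subtype_le_of_isSubnormal [Finite G] {H : Subgroup G}
    (hH : H.IsSubnormal) : (Cfsg.fittingSubgroup H).map H.subtype ≤ Cfsg.fittingSubgroup G := by
  induction hH with
  | top =>
    exact (fittingSubgroup_map_equiv (Subgroup.topEquiv (G := G))).le
  | step H K h_le hK hN ih =>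
    set N := (Cfsg.fittingSubgroup H).map H.subtype with hNdef
    have hNH : N ≤ H := by
      rintro _ ⟨y, -, rfl⟩
      exact y.2
    have hNK : N ≤ K := hNH.trans h_le
    have hKH : K ≤ Subgroup.normalizer (H : Set G) :=
      (Subgroup.normal_subgroupOf_iff_le_normalizer h_le).1 hN
    have hKN : K ≤ Subgroup.normalizer (N : Set G) :=
      hKH.trans (normalizer_le_normalizer_fittingSubgroup H)
    have hn : (N.subgroupOf K).Normal := (Subgroup.normal_subgroupOf_iff_le_normalizer hNK).2 hKN
    have hnil : Group.IsNilpotent (N.subgroupOf K) := by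
      have h1 : Group.IsNilpotent (Cfsg.fittingSubgroup H) := Cfsg.Agent.H1.fittingSubgroup_nilpotent
      have h2 : Group.IsNilpotent N :=
        Group.nilpotent_of_mulEquiv
          ((Cfsg.fittingSubgroup H).equivMapOfInjective H.subtype H.subtype_injective)
      exact Group.nilpotent_of_mulEquiv (Subgroup.subgroupOfEquivOfLe hNK).symm
    have h3 : N.subgroupOf K ≤ Cfsg.fittingSubgroup K := Cfsg.Agent.H1.le_fittingSubgroup hn hnil
    calc N = (N.subgroupOf K).map K.subtype := (Subgroup.map_subgroupOf_eq_of_le hNK).symm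
      _ ≤ (Cfsg.fittingSubgroup K).map K.subtype := Subgroup.map_mono h3
      _ ≤ Cfsg.fittingSubgroup G := ih

/-- A subnormal nilpotent subgroup of a finite group lies in the Fitting subgroup. -/
theorem le_fittingSubgroup_of_isSubnormal_of_isNilpotent [Finite G] {K : Subgroup G}
    (hK : K.IsSubnormal) (hn : Group.IsNilpotent K) : K ≤ Cfsg.fittingSubgroup G := by
  have h1 : Cfsg.fittingSubgroup K = ⊤ := by
    rw [eq_top_iff]
    apply Cfsg.Agent.H1.le_fittingSubgroup inferInstance
    exact Group.nilpotent_of_mulEquiv (Subgroup.topEquiv (G := K)).symm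
  have h2 := fittingSubgroup_map_subtype_le_of_isSubnormal hK
  rwa [h1, ← MonoidHom.range_eq_map, Subgroup.range_subtype] at h2

instance generalizedFittingSubgroup_normal : (Cfsg.generalizedFittingSubgroup G).Normal := by
  unfold Cfsg.generalizedFittingSubgroup
  have := layer_normal (G := G)
  infer_instance

theorem layer_le_generalizedFittingSubgroup :
    Cfsg.layer G ≤ Cfsg.generalizedFittingSubgroup G := le_sup_left

theorem fittingSubgroup_le_generalizedFittingSubgroup :
    Cfsg.fittingSubgroup G ≤ Cfsg.generalizedFittingSubgroup G := le_sup_right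

theorem normalizer_inf_le_normalizer_sup (A B : Subgroup G) :
    Subgroup.normalizer (A : Set G) ⊓ Subgroup.normalizer (B : Set G) ≤
      Subgroup.normalizer ((A ⊔ B : Subgroup G) : Set G) := by
  intro k hk
  rw [← map_conj_eq_self_iff_mem_normalizer, Subgroup.map_sup,
    (map_conj_eq_self_iff_mem_normalizer A k).2 hk.1,
    (map_conj_eq_self_iff_mem_normalizer B k).2 hk.2]

theorem isNilpotent_of_commutator_commutator_eq_bot (K : Subgroup G) (h : ⁅⁅K, K⁆, K⁆ = ⊥) :
    Group.IsNilpotent K :=
  (Subgroup.isNilpotent_iff_lowerCentralSeries K).2 ⟨2, h⟩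

/-- `C_G(F*(G)) ≤ F*(G)` for a finite group `G`. -/
theorem centralizer_generalizedFittingSubgroup_le [Finite G] :
    Subgroup.centralizer (Cfsg.generalizedFittingSubgroup G : Set G) ≤
      Cfsg.generalizedFittingSubgroup G := by
  set Fs := Cfsg.generalizedFittingSubgroup G with hFs
  set C := Subgroup.centralizer (Fs : Set G) with hC
  by_contra hCF
  set Z := C ⊓ Fs with hZ
  have hZn : Z.Normal := inferInstance
  have hZC : Z < C := lt_of_le_of_ne inf_le_left (fun h => hCF (by rw [← h]; exact inf_le_right))
  -- the family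
  let 𝒦 : Set (Subgroup G) := {K | K.IsSubnormal ∧ Z < K ∧ K ≤ C}
  have hne : 𝒦.Nonempty := ⟨C, (inferInstance : C.Normal).isSubnormal, hZC, le_rfl⟩
  obtain ⟨K, ⟨hKsn, hZK, hKC⟩, hKmin⟩ := WellFounded.has_min wellFounded_lt 𝒦 hne
  have hmin : ∀ N : Subgroup G, N.IsSubnormal → Z ≤ N → N ≤ K → N = Z ∨ N = K := by
    intro N hN hZN hNK
    by_cases h : N = Z
    · left; exact h
    · right
      have hlt : Z < N := lt_of_le_of_ne hZN (Ne.symm h)
      by_contra hne
      exact hKmin N ⟨hN, hlt, hNK.trans hKC⟩ (lt_of_le_of_ne hNK hne)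
  -- Z commutes with K
  have hZcomm : ⁅Z, K⁆ = ⊥ := by
    rw [commutator_eq_bot_iff_forall_commute]
    intro z hz k hk
    have hk' : k ∈ C := hKC hk
    exact (Subgroup.mem_centralizer_iff.1 hk' z hz.2)
  -- K is not nilpotent
  have hKnil : ¬ Group.IsNilpotent K := by
    intro hn
    have h1 : K ≤ Cfsg.fittingSubgroup G := le_fittingSubgroup_of_isSubnormal_of_isNilpotent hKsn hn
    have h2 : K ≤ Z := le_inf hKC (h1.trans fittingSubgroup_le_generalizedFittingSubgroup)
    exact absurd hZK (not_lt_of_ge h2)
  -- subgroups of K normal in K are subnormal in G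
  have hsn : ∀ N : Subgroup G, N ≤ K → K ≤ Subgroup.normalizer (N : Set G) → N.IsSubnormal := by
    intro N hNK hn
    exact Subgroup.IsSubnormal.step N K hNK hKsn
      ((Subgroup.normal_subgroupOf_iff_le_normalizer hNK).2 hn)
  -- D = K'Z
  have hD : ⁅K, K⁆ ⊔ Z = K := by
    have hDK : ⁅K, K⁆ ⊔ Z ≤ K :=
      sup_le (Subgroup.le_normalizer_iff_commutator_le_right.1 Subgroup.le_normalizer) hZK.le
    have hDn : K ≤ Subgroup.normalizer ((⁅K, K⁆ ⊔ Z : Subgroup G) : Set G) := by
      have h1 : K ≤ Subgroup.normalizer ((⁅K, K⁆ : Subgroup G) : Set G) :=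
        Subgroup.le_normalizer.trans (normalizer_le_normalizer_commutator K)
      have h2 : K ≤ Subgroup.normalizer ((Z : Subgroup G) : Set G) := by
        rw [Subgroup.normalizer_eq_top_iff.2 hZn]; exact le_top
      exact (le_inf h1 h2).trans (normalizer_inf_le_normalizer_sup _ _)
    rcases hmin _ (hsn _ hDK hDn) le_sup_right hDK with h | h
    · exfalso
      apply hKnil
      apply isNilpotent_of_commutator_commutator_eq_bot
      rw [eq_bot_iff, ← hZcomm]
      exact Subgroup.commutator_mono (h ▸ le_sup_left) le_rfl
    · exact h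
  -- the centre of K is Z
  have hZKle : (Subgroup.center K).map K.subtype ≤ K := by
    rintro _ ⟨y, -, rfl⟩; exact y.2
  have hcenter : (Subgroup.center K).map K.subtype = Z := by
    have h1 : K ≤ Subgroup.normalizer (((Subgroup.center K).map K.subtype : Subgroup G) : Set G) :=
      Subgroup.le_normalizer.trans (normalizer_le_normalizer_center K)
    have h2 : Z ≤ (Subgroup.center K).map K.subtype := by
      intro z hz
      refine ⟨⟨z, hZK.le hz⟩, ?_, rfl⟩
      rw [SetLike.mem_coe, Subgroup.mem_center_iff]
      intro k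
      apply Subtype.ext
      have := (commutator_eq_bot_iff_forall_commute Z K).1 hZcomm z hz k k.2
      exact this.symm
    rcases hmin _ (hsn _ hZKle h1) h2 hZKle with h | h
    · exact h
    · exfalso
      apply hKnil
      apply isNilpotent_of_commutator_commutator_eq_bot
      have : ⁅K, K⁆ = ⊥ := by
        rw [commutator_eq_bot_iff_forall_commute]
        intro a ha b hb
        have ha' : a ∈ (Subgroup.center K).map K.subtype := by rw [h]; exact ha
        obtain ⟨a', ha'c, rfl⟩ := ha'
        have := Subgroup.mem_center_iff.1 ha'c ⟨b, hb⟩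
        exact (congrArg Subtype.val this).symm
      rw [this, Subgroup.commutator_bot_left]
  -- K / Z(K) is simple
  have hsimple : IsSimpleGroup (K ⧸ Subgroup.center K) := by
    have hnt : Nontrivial (K ⧸ Subgroup.center K) := by
      by_contra hnt
      rw [not_nontrivial_iff_subsingleton] at hnt
      have h1 : Subgroup.center K = ⊤ := QuotientGroup.subgroup_eq_top_of_subsingleton _ hnt
      rw [h1, ← MonoidHom.range_eq_map, Subgroup.range_subtype] at hcenter
      exact hZK.ne hcenter.symm
    refine { toNontrivial := hnt, eq_bot_or_eq_top_of_normal := ?_ }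
    intro Nbar hNbar
    set N' := Nbar.comap (QuotientGroup.mk' (Subgroup.center K)) with hN'
    have hN'n : N'.Normal := hNbar.comap _
    have hNbar_eq : Nbar = N'.map (QuotientGroup.mk' (Subgroup.center K)) :=
      (Subgroup.map_comap_eq_self_of_surjective (QuotientGroup.mk'_surjective _) Nbar).symm
    have h1 : N'.map K.subtype ≤ K := by
      rintro _ ⟨y, -, rfl⟩; exact y.2
    have h2 : K ≤ Subgroup.normalizer ((N'.map K.subtype : Subgroup G) : Set G) := by
      have := Subgroup.le_normalizer_map (H := N') K.subtype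
      rw [Subgroup.normalizer_eq_top_iff.2 hN'n, ← MonoidHom.range_eq_map,
        Subgroup.range_subtype] at this
      exact this
    have h3 : Z ≤ N'.map K.subtype := by
      rw [← hcenter]
      apply Subgroup.map_mono
      intro z hz
      rw [hN', Subgroup.mem_comap]
      have : QuotientGroup.mk' (Subgroup.center K) z = 1 := by
        rw [← MonoidHom.mem_ker, QuotientGroup.ker_mk']; exact hz
      rw [this]; exact Subgroup.one_mem _
    rcases hmin _ (hsn _ h1 h2) h3 h1 with h | h
    · left
      rw [← hcenter] at h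
      have := Subgroup.map_injective K.subtype_injective h
      rw [hNbar_eq, this, QuotientGroup.map_mk'_self]
    · right
      have h' : N'.map K.subtype = (⊤ : Subgroup K).map K.subtype := by
        rw [h, ← MonoidHom.range_eq_map, Subgroup.range_subtype]
      have := Subgroup.map_injective K.subtype_injective h'
      rw [hNbar_eq, this, ← MonoidHom.range_eq_map,
        MonoidHom.range_eq_top.2 (QuotientGroup.mk'_surjective _)]
  -- K' is a component
  have hmapD : (commutator K).map K.subtype = ⁅K, K⁆ := Subgroup.map_subtype_commutator K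
  have hD' : commutator K ⊔ Subgroup.center K = ⊤ := by
    apply Subgroup.map_injective K.subtype_injective
    rw [Subgroup.map_sup, hmapD, hcenter, hD, ← MonoidHom.range_eq_map, Subgroup.range_subtype]
  have hperf : ⁅commutator K, commutator K⁆ = commutator K := by
    conv_lhs => rw [← commutator_sup_center, hD']
    rfl
  have hqs : Cfsg.IsQuasisimple (commutator K) :=
    isQuasisimple_of_sup_center_eq_top _ hD' hsimple hperf
  have hcomp : Cfsg.IsComponent ((commutator K).map K.subtype) :=
    component_map_subtype hKsn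
      ⟨(inferInstance : (commutator K).Normal).isSubnormal, hqs⟩
  rw [hmapD] at hcomp
  have h1 : ⁅K, K⁆ ≤ Z :=
    le_inf ((Subgroup.le_normalizer_iff_commutator_le_right.1 Subgroup.le_normalizer).trans hKC)
      ((component_le_layer hcomp).trans layer_le_generalizedFittingSubgroup)
  have h2 : K ≤ Z := by
    rw [← hD]; exact sup_le h1 le_rfl
  exact absurd hZK (not_lt_of_ge h2)

theorem isNilpotent_of_commutator_eq_bot (K : Subgroup G) (h : ⁅K, K⁆ = ⊥) :
    Group.IsNilpotent K :=
  isNilpotent_of_commutator_commutator_eq_bot K (by rw [h, Subgroup.commutator_bot_left])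

theorem map_subtype_le (H : Subgroup G) (N : Subgroup H) : N.map H.subtype ≤ H := by
  rintro _ ⟨y, -, rfl⟩; exact y.2

theorem mem_map_subtype_center_iff (H : Subgroup G) (x : G) :
    x ∈ (Subgroup.center H).map H.subtype ↔ x ∈ H ∧ ∀ h ∈ H, h * x = x * h := by
  constructor
  · rintro ⟨y, hy, rfl⟩
    refine ⟨y.2, fun h hh => ?_⟩
    have := Subgroup.mem_center_iff.1 hy ⟨h, hh⟩
    exact congrArg Subtype.val this
  · rintro ⟨hx, hc⟩
    refine ⟨⟨x, hx⟩, ?_, rfl⟩
    rw [SetLike.mem_coe, Subgroup.mem_center_iff]
    intro h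
    apply Subtype.ext
    exact hc h h.2

theorem map_subtype_center_normal (H : Subgroup G) [hH : H.Normal] :
    ((Subgroup.center H).map H.subtype).Normal := by
  rw [← Subgroup.normalizer_eq_top_iff, eq_top_iff]
  refine le_trans ?_ (normalizer_le_normalizer_center H)
  rw [Subgroup.normalizer_eq_top_iff.2 hH]

/-- `Z(E(G)) ≤ F(G)`. -/
theorem center_layer_le_fittingSubgroup :
    (Subgroup.center (Cfsg.layer G)).map (Cfsg.layer G).subtype ≤ Cfsg.fittingSubgroup G := by
  have := layer_normal (G := G)
  apply Cfsg.Agent.H1.le_fittingSubgroup (map_subtype_center_normal _)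
  apply isNilpotent_of_commutator_eq_bot
  rw [commutator_eq_bot_iff_forall_commute]
  intro a ha b hb
  exact (((mem_map_subtype_center_iff _ b).1 hb).2 a ((mem_map_subtype_center_iff _ a).1 ha).1)

/-- `Z(E(G)) = F(G) ∩ E(G)`. -/
theorem center_layer_eq [Finite G] :
    (Subgroup.center (Cfsg.layer G)).map (Cfsg.layer G).subtype =
      Cfsg.fittingSubgroup G ⊓ Cfsg.layer G := by
  apply le_antisymm
  · exact le_inf center_layer_le_fittingSubgroup (map_subtype_le _ _)
  · intro x hx
    rw [mem_map_subtype_center_iff]
    refine ⟨hx.2, fun h hh => ?_⟩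
    exact (commutator_eq_bot_iff_forall_commute _ _).1 layer_commutator_fittingSubgroup h hh x hx.1

/-- For `H` subnormal in `G`, `E(H) ≤ E(G)`. -/
theorem layer_map_subtype_le_of_isSubnormal {H : Subgroup G} (hH : H.IsSubnormal) :
    (Cfsg.layer H).map H.subtype ≤ Cfsg.layer G := by
  rw [Subgroup.map_le_iff_le_comap]
  apply layer_le_iff.2
  intro K hK
  rw [← Subgroup.map_le_iff_le_comap]
  exact component_le_layer (component_map_subtype hH hK)

/-- Every component normalizes every subnormal subgroup. -/
theorem component_le_normalizer_of_isSubnormal [Finite G] {L H : Subgroup G}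
    (hL : Cfsg.IsComponent L) (hH : H.IsSubnormal) : L ≤ Subgroup.normalizer (H : Set G) := by
  rcases component_le_or_commutator_eq_bot L H hL hH with h | h
  · exact h.trans Subgroup.le_normalizer
  · rw [Subgroup.commutator_eq_bot_iff_le_centralizer] at h
    exact h.trans (Subgroup.centralizer_le_normalizer _)

/-- The layer normalizes every subnormal subgroup. -/
theorem layer_le_normalizer_of_isSubnormal [Finite G] {H : Subgroup G} (hH : H.IsSubnormal) :
    Cfsg.layer G ≤ Subgroup.normalizer (H : Set G) :=
  layer_le_iff.2 (fun _ hL => component_le_normalizer_of_isSubnormal hL hH)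

end

end Cfsg.Agent.H2
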