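import Mathlib
import Cfsg.Agent.H1.Cores
import Cfsg.Agent.H1.HallConverse
import Cfsg.Agent.S1264

namespace Cfsg.Agent.H2.BG37

open Cfsg.Agent.H1

theorem centralizer_fitting_le {K : Type*} [Group K] [Finite K] [hs : Group.IsSolvable K] :
    Subgroup.centralizer (Cfsg.fittingSubgroup K : Set K) ≤ Cfsg.fittingSubgroup K := by
  have h := Cfsg.Agent.S1264.result (G := K)
    (Subgroup.centralizer (Cfsg.fittingSubgroup K : Set K)) le_rfl Subgroup.le_normalizer
    inferInstance
  intro c hc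
  obtain ⟨z, _, rfl⟩ := h hc
  exact z.2

theorem Z2 {K : Type*} [Group K] [Finite K] [Group.IsSolvable K] (α : MulAut K) (r ℓ : ℕ)
    (hαr : α ^ r = 1) (hcop : r.Coprime (Nat.card K)) (H : Subgroup K)
    (hH : ∀ h ∈ H, α h = h) (hidx : ∀ q : ℕ, q.Prime → q ≠ ℓ → ¬ q ∣ H.index)
    (hOℓ : Cfsg.pCore ℓ K = ⊥) : ∀ k : K, α k = k := by
  have hFH : Cfsg.fittingSubgroup K ≤ H := by
    rw [fittingSubgroup_eq_iSup_pCore]
    apply iSup_le
    intro q
    by_cases hq : (q : ℕ) = ℓ
    · rw [hq, hOℓ]; exact bot_le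
    · haveI : Fact (q : ℕ).Prime := ⟨q.2⟩
      apply normal_pgroup_le_of_coprime_index _ H (pCore_isPGroup _)
      rw [Nat.coprime_comm, Nat.Prime.coprime_iff_not_dvd q.2]
      exact hidx q q.2 hq
  have hF : ∀ f ∈ Cfsg.fittingSubgroup K, α f = f := fun f hf => hH f (hFH hf)
  intro k
  set c := k⁻¹ * α k with hc
  have hcF : c ∈ Subgroup.centralizer (Cfsg.fittingSubgroup K : Set K) := by
    rw [Subgroup.mem_centralizer_iff]
    intro f hf
    have h1 : k * f * k⁻¹ ∈ Cfsg.fittingSubgroup K := fittingSubgroup_normal.conj_mem f hf k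
    have h2 := hF _ h1
    rw [map_mul, map_mul, map_inv, hF f hf] at h2
    have h3 : c * f * c⁻¹ = f := by
      rw [hc]
      calc k⁻¹ * α k * f * (k⁻¹ * α k)⁻¹ = k⁻¹ * (α k * f * (α k)⁻¹) * k := by group
        _ = k⁻¹ * (k * f * k⁻¹) * k := by rw [h2]
        _ = f := by group
    calc f * c = (c * f * c⁻¹) * c := by rw [h3]
      _ = c * f := by group
  have hcFit := centralizer_fitting_le hcF
  have hαc : α c = c := hF c hcFit
  have hαk : α k = k * c := by rw [hc]; group
  have hpow : ∀ j : ℕ, (α ^ j) k = k * c ^ j := by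
    intro j
    induction j with
    | zero => simp
    | succ j ih =>
      rw [pow_succ', MulAut.mul_apply, ih, map_mul, map_pow, hαc, hαk, pow_succ', mul_assoc]
  have h3 := hpow r
  rw [hαr, MulAut.one_apply] at h3
  have hcr : c ^ r = 1 := by
    have : k * c ^ r = k * 1 := by rw [mul_one]; exact h3.symm
    exact mul_left_cancel this
  have hcK : c ^ Nat.card K = 1 := pow_card_eq_one'
  have h4 : c ^ (Nat.gcd r (Nat.card K)) = 1 := pow_gcd_eq_one.2 ⟨hcr, hcK⟩
  rw [hcop, pow_one] at h4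
  rw [hαk, h4, mul_one]

end Cfsg.Agent.H2.BG37
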