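import Mathlib
import Cfsg.Prelude.Def_Local
import Cfsg.Agent.H2.Layer

/-!
`F*` of subnormal subgroups (helper2).
-/

set_option autoImplicit false
open scoped commutatorElement Pointwise

namespace Cfsg.Agent.H2

section

variable {G : Type*} [Group G]

/-- `F(G) ∩ S ≤ F(S)` for any subgroup `S`. -/
theorem fittingSubgroup_inf_le_map_fittingSubgroup [Finite G] (S : Subgroup G) :
    Cfsg.fittingSubgroup G ⊓ S ≤ (Cfsg.fittingSubgroup S).map S.subtype := by
  have hn : ((Cfsg.fittingSubgroup G ⊓ S).subgroupOf S).Normal := by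
    rw [Subgroup.inf_subgroupOf_right]
    infer_instance
  have hnil : Group.IsNilpotent ((Cfsg.fittingSubgroup G ⊓ S).subgroupOf S) := by
    have h1 : Group.IsNilpotent (Cfsg.fittingSubgroup G) := Cfsg.Agent.H1.fittingSubgroup_nilpotent
    have h2 : Group.IsNilpotent ((Cfsg.fittingSubgroup G ⊓ S : Subgroup G)) :=
      Group.nilpotent_of_mulEquiv (Subgroup.subgroupOfEquivOfLe
        (inf_le_left : Cfsg.fittingSubgroup G ⊓ S ≤ Cfsg.fittingSubgroup G))
    exact Group.nilpotent_of_mulEquiv (Subgroup.subgroupOfEquivOfLe inf_le_right).symm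
  have := Cfsg.Agent.H1.le_fittingSubgroup hn hnil
  calc Cfsg.fittingSubgroup G ⊓ S
      = ((Cfsg.fittingSubgroup G ⊓ S).subgroupOf S).map S.subtype :=
        (Subgroup.map_subgroupOf_eq_of_le inf_le_right).symm
    _ ≤ _ := Subgroup.map_mono this

/-- `F(S) = F(G) ∩ S` for `S` subnormal. -/
theorem map_fittingSubgroup_eq_of_isSubnormal [Finite G] {S : Subgroup G} (hS : S.IsSubnormal) :
    (Cfsg.fittingSubgroup S).map S.subtype = Cfsg.fittingSubgroup G ⊓ S :=
  le_antisymm (le_inf (fittingSubgroup_map_subtype_le_of_isSubnormal hS) (map_subtype_le _ _))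
    (fittingSubgroup_inf_le_map_fittingSubgroup S)

theorem map_generalizedFittingSubgroup (S : Subgroup G) :
    (Cfsg.generalizedFittingSubgroup S).map S.subtype =
      (Cfsg.layer S).map S.subtype ⊔ (Cfsg.fittingSubgroup S).map S.subtype := by
  unfold Cfsg.generalizedFittingSubgroup
  rw [Subgroup.map_sup]

/-- For a subnormal subgroup `S` of a finite group `G`, `F*(G) ∩ S ≤ F*(S)`. -/
theorem generalizedFittingSubgroup_inf_le [Finite G] {S : Subgroup G} (hS : S.IsSubnormal) :
    Cfsg.generalizedFittingSubgroup G ⊓ S ≤ (Cfsg.generalizedFittingSubgroup S).map S.subtype := by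
  rw [map_generalizedFittingSubgroup]
  set E := Cfsg.layer G with hE
  set F := Cfsg.fittingSubgroup G with hF
  set E₁ := sSup {L : Subgroup G | Cfsg.IsComponent L ∧ L ≤ S} with hE₁
  set E₂ := sSup {L : Subgroup G | Cfsg.IsComponent L ∧ ¬ L ≤ S} with hE₂
  have hEle : E ≤ E₁ ⊔ E₂ := by
    apply layer_le_iff.2
    intro L hL
    by_cases h : L ≤ S
    · exact (le_sSup (show L ∈ {L : Subgroup G | Cfsg.IsComponent L ∧ L ≤ S} from ⟨hL, h⟩)).trans
        le_sup_left
    · exact (le_sSup (show L ∈ {L : Subgroup G | Cfsg.IsComponent L ∧ ¬ L ≤ S} from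
        ⟨hL, h⟩)).trans le_sup_right
  have hE₁E : E₁ ≤ E := sSup_le (fun L hL => component_le_layer hL.1)
  have hE₂E : E₂ ≤ E := sSup_le (fun L hL => component_le_layer hL.1)
  have hE₁S : E₁ ≤ S := sSup_le (fun L hL => hL.2)
  have hE₁ES : E₁ ≤ (Cfsg.layer S).map S.subtype := by
    apply sSup_le
    rintro L ⟨hL, hLS⟩
    have h1 : Cfsg.IsComponent (L.subgroupOf S) := component_subgroupOf hL hLS
    calc L = (L.subgroupOf S).map S.subtype := (Subgroup.map_subgroupOf_eq_of_le hLS).symm
      _ ≤ _ := Subgroup.map_mono (component_le_layer h1)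
  have hE₁E₂ : E₁ ≤ Subgroup.centralizer (E₂ : Set G) := by
    apply sSup_le
    rintro L ⟨hL, hLS⟩
    rw [Subgroup.le_centralizer_iff]
    apply sSup_le
    rintro K ⟨hK, hKS⟩
    rw [← Subgroup.commutator_eq_bot_iff_le_centralizer]
    apply components_commute hK hL
    rintro rfl
    exact hKS hLS
  have hSE₂ : S ≤ Subgroup.centralizer (E₂ : Set G) := by
    rw [Subgroup.le_centralizer_iff]
    apply sSup_le
    rintro K ⟨hK, hKS⟩
    rw [← Subgroup.commutator_eq_bot_iff_le_centralizer]
    exact (component_le_or_commutator_eq_bot K S hK hS).resolve_left hKS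
  have hFE : F ≤ Subgroup.centralizer (E : Set G) := by
    rw [Subgroup.le_centralizer_iff, ← Subgroup.commutator_eq_bot_iff_le_centralizer]
    exact layer_commutator_fittingSubgroup
  rintro x ⟨hxFs, hxS⟩
  obtain ⟨e, he, f, hf, rfl⟩ := Subgroup.mem_sup_of_normal_right.1 hxFs
  have he' : e ∈ ((E₁ ⊔ E₂ : Subgroup G) : Set G) := hEle he
  rw [Subgroup.coe_mul_of_left_le_normalizer_right E₁ E₂
    (hE₁E₂.trans (Subgroup.centralizer_le_normalizer _))] at he'
  obtain ⟨e₁, he₁, e₂, he₂, rfl⟩ := Set.mem_mul.1 he'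
  -- y = e₂ f ∈ S
  have hy : e₂ * f ∈ S := by
    have : e₂ * f = e₁⁻¹ * (e₁ * e₂ * f) := by group
    rw [this]
    exact S.mul_mem (S.inv_mem (hE₁S he₁)) hxS
  -- e₂ is central in E
  have he₂c : e₂ ∈ (Subgroup.center E).map E.subtype := by
    rw [mem_map_subtype_center_iff]
    refine ⟨hE₂E he₂, ?_⟩
    have hcent : E ≤ Subgroup.centralizer ({e₂} : Set G) := by
      refine hEle.trans (sup_le ?_ ?_)
      · intro a ha
        rw [Subgroup.mem_centralizer_singleton_iff]
        exact ((Subgroup.mem_centralizer_iff.1 (hE₁E₂ ha)) e₂ he₂).symm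
      · intro a ha
        rw [Subgroup.mem_centralizer_singleton_iff]
        have h1 : (e₂ * f) * a = a * (e₂ * f) := (Subgroup.mem_centralizer_iff.1 (hSE₂ hy)) a ha |>.symm
        have h2 : f * a = a * f := (Subgroup.mem_centralizer_iff.1 (hFE hf)) a (hE₂E ha) |>.symm
        have : e₂ = (e₂ * f) * f⁻¹ := by group
        calc a * e₂ = a * ((e₂ * f) * f⁻¹) := by rw [← this]
          _ = (a * (e₂ * f)) * f⁻¹ := by group
          _ = ((e₂ * f) * a) * f⁻¹ := by rw [h1]
          _ = (e₂ * f) * (f⁻¹ * (f * a) * f⁻¹) := by group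
          _ = (e₂ * f) * (f⁻¹ * (a * f) * f⁻¹) := by rw [h2]
          _ = e₂ * (f * f⁻¹ * a) := by group
          _ = e₂ * a := by group
    intro h hh
    have := hcent hh
    rw [Subgroup.mem_centralizer_singleton_iff] at this
    exact this
  have he₂F : e₂ ∈ F := center_layer_le_fittingSubgroup he₂c
  have hyF : e₂ * f ∈ F ⊓ S := ⟨F.mul_mem he₂F hf, hy⟩
  have h3 := fittingSubgroup_inf_le_map_fittingSubgroup S hyF
  have : e₁ * e₂ * f = e₁ * (e₂ * f) := by group
  rw [this]
  exact Subgroup.mul_mem _ (Subgroup.mem_sup_left (hE₁ES he₁)) (Subgroup.mem_sup_right h3)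

/-- For a subnormal subgroup `S` of a finite group `G`, `F*(S) = F*(G) ∩ S`. -/
theorem map_generalizedFittingSubgroup_eq_of_isSubnormal [Finite G] {S : Subgroup G}
    (hS : S.IsSubnormal) :
    (Cfsg.generalizedFittingSubgroup S).map S.subtype = Cfsg.generalizedFittingSubgroup G ⊓ S := by
  apply le_antisymm
  · refine le_inf ?_ (map_subtype_le _ _)
    rw [map_generalizedFittingSubgroup]
    exact sup_le_sup (layer_map_subtype_le_of_isSubnormal hS)
      (fittingSubgroup_map_subtype_le_of_isSubnormal hS)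
  · exact generalizedFittingSubgroup_inf_le hS

end

end Cfsg.Agent.H2
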