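import Mathlib
import Cfsg.Prelude.Def_Local
import Cfsg.Agent.H2.FStar
import Cfsg.Agent.Lib.Helper7.PQLemma
import Cfsg.Agent.Lib.Lead.PResidual

/-!
Components of local subgroups (helper2).
-/

set_option autoImplicit false
open scoped commutatorElement Pointwise

namespace Cfsg.Agent.H2

section

variable {G : Type*} [Group G]

/-- A finite perfect group is generated by its `p'`-elements. -/
theorem pResidual_eq_top_of_isPerfect (p : ℕ) [Fact p.Prime] (K : Type*) [Group K] [Finite K]
    [Group.IsPerfect K] : Cfsg.pResidual p K = ⊤ := by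
  have hn := Cfsg.Agent.Lib.Lead.PResidual.normal p K
  have hpg : IsPGroup p (K ⧸ Cfsg.pResidual p K) :=
    Cfsg.Agent.Lib.Lead.PResidual.isPGroup_quotient
  have hnil : Group.IsNilpotent (K ⧸ Cfsg.pResidual p K) := hpg.isNilpotent
  by_contra hne
  have hnt : Nontrivial (K ⧸ Cfsg.pResidual p K) := by
    by_contra hnt
    rw [not_nontrivial_iff_subsingleton] at hnt
    exact hne (QuotientGroup.subgroup_eq_top_of_subsingleton _ hnt)
  exact Group.IsPerfect.not_isNilpotent (K ⧸ Cfsg.pResidual p K) hnil

/-- A subgroup `X` generated by its `p'`-elements lies in any subgroup containing all `p'`-elements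
of `X`. -/
theorem le_of_pResidual_eq_top (p : ℕ) (X M : Subgroup G) (hX : Cfsg.pResidual p X = ⊤)
    (h : ∀ k ∈ X, (orderOf k).Coprime p → k ∈ M) : X ≤ M := by
  have h1 : (Cfsg.pResidual p X).map X.subtype ≤ M := by
    rw [Subgroup.map_le_iff_le_comap]
    unfold Cfsg.pResidual
    rw [Subgroup.closure_le]
    intro k hk
    rw [SetLike.mem_coe, Subgroup.mem_comap]
    apply h _ k.2
    rw [Set.mem_ofPred_eq, ← Subgroup.orderOf_coe] at hk
    exact hk
  rwa [hX, ← MonoidHom.range_eq_map, Subgroup.range_subtype] at h1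

/-- A version of Thompson's `A × B` lemma for a subgroup `X` generated by `p'`-elements. -/
theorem le_centralizer_of_pq [Finite G] (p : ℕ) [Fact p.Prime] (P U X : Subgroup G)
    (hP : IsPGroup p P) (hU : IsPGroup p U) (hX : Cfsg.pResidual p X = ⊤)
    (hXP : X ≤ Subgroup.centralizer (P : Set G))
    (hPU : P ≤ Subgroup.normalizer (U : Set G)) (hXU : X ≤ Subgroup.normalizer (U : Set G))
    (hC : X ≤ Subgroup.centralizer ((U ⊓ Subgroup.centralizer (P : Set G) : Subgroup G) : Set G)) :
    X ≤ Subgroup.centralizer (U : Set G) := by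
  apply le_of_pResidual_eq_top p X _ hX
  intro k hkX hk
  have hkU : Subgroup.zpowers k ≤ Subgroup.centralizer (U : Set G) := by
    refine Cfsg.Agent.Lib.Helper7.pq_lemma p P (Subgroup.zpowers k) hP ?_ ?_ _ U rfl hU hPU ?_ ?_
    · rw [Nat.card_zpowers]; exact hk
    · rw [Subgroup.le_centralizer_iff, Subgroup.zpowers_le]
      exact hXP hkX
    · rw [Subgroup.zpowers_le]; exact hXU hkX
    · rw [Subgroup.le_centralizer_iff, Subgroup.zpowers_le]
      exact hC hkX
  exact hkU (Subgroup.mem_zpowers k)

theorem isSubnormal_subgroupOf_of_le {A B M : Subgroup G} (hBM : B ≤ M)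
    (h : (A.subgroupOf M).IsSubnormal) : (A.subgroupOf B).IsSubnormal := by
  have : A.subgroupOf B = (A.subgroupOf M).comap (Subgroup.inclusion hBM) := by
    ext x
    rfl
  rw [this]
  exact h.comap _

theorem pCore_isSolvable [Finite G] (p : ℕ) [Fact p.Prime] : Group.IsSolvable (Cfsg.pCore p G) := by
  have : Group.IsNilpotent (Cfsg.pCore p G) := (Cfsg.Agent.H1.pCore_isPGroup p).isNilpotent
  infer_instance

/-- If `P ≤ O_p(G)` and `N ≥ P C_G(P)` then every component of `N` is a component of `G`. -/
theorem component_of_le_pCore [Finite G] (p : ℕ) [Fact p.Prime] (P N : Subgroup G)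
    (hP : P ≤ Cfsg.pCore p G) (hPN : P ≤ N) (hCPN : Subgroup.centralizer (P : Set G) ≤ N)
    (K : Subgroup N) (hK : Cfsg.IsComponent K) :
    Cfsg.IsComponent (K.map N.subtype) := by
  have hK'N : K.map N.subtype ≤ N := map_subtype_le _ _
  have hKeq : (K.map N.subtype).subgroupOf N = K :=
    Subgroup.comap_map_eq_self_of_injective N.subtype_injective K
  have hqs : Cfsg.IsQuasisimple (K.map N.subtype) :=
    (isQuasisimple_map_of_injective _ N.subtype_injective K).2 hK.2
  have hQp : IsPGroup p (Cfsg.pCore p G) := Cfsg.Agent.H1.pCore_isPGroup p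
  have hPp : IsPGroup p P := hQp.to_le hP
  -- K' centralizes Q ⊓ N
  have hQN : ((Cfsg.pCore p G ⊓ N).subgroupOf N).Normal := by
    rw [Subgroup.inf_subgroupOf_right]; infer_instance
  have hQNsolv : Group.IsSolvable ((Cfsg.pCore p G ⊓ N).subgroupOf N) := by
    have h1 : Group.IsSolvable (Cfsg.pCore p G) := pCore_isSolvable p
    have h2 : Group.IsSolvable ((Cfsg.pCore p G ⊓ N : Subgroup G)) :=
      Group.isSolvable_of_isSolvable_injective (Subgroup.inclusion_injective (inf_le_left))
    exact Group.isSolvable_of_isSolvable_injective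
      (f := (Subgroup.subgroupOfEquivOfLe (inf_le_right : Cfsg.pCore p G ⊓ N ≤ N)).toMonoidHom)
      (Subgroup.subgroupOfEquivOfLe (inf_le_right : Cfsg.pCore p G ⊓ N ≤ N)).injective
  have hcomm : ⁅K.map N.subtype, Cfsg.pCore p G ⊓ N⁆ = ⊥ := by
    rw [← commutator_subgroupOf_eq_bot_iff hK'N inf_le_right, hKeq]
    exact component_commutator_normal_solvable hK _ hQNsolv
  have hK'QN : K.map N.subtype ≤ Subgroup.centralizer ((Cfsg.pCore p G ⊓ N : Subgroup G) : Set G) :=
    (Subgroup.commutator_eq_bot_iff_le_centralizer).1 hcomm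
  have hK'P : K.map N.subtype ≤ Subgroup.centralizer (P : Set G) :=
    hK'QN.trans (Subgroup.centralizer_le (le_inf hP hPN))
  -- K' centralizes Q
  have hperf : Cfsg.pResidual p (K.map N.subtype) = ⊤ := by
    have := hqs.1
    exact pResidual_eq_top_of_isPerfect p _
  have hQnorm : Subgroup.normalizer ((Cfsg.pCore p G : Subgroup G) : Set G) = ⊤ :=
    Subgroup.normalizer_eq_top_iff.2 inferInstance
  have hK'Q : K.map N.subtype ≤ Subgroup.centralizer ((Cfsg.pCore p G : Subgroup G) : Set G) := by
    apply le_centralizer_of_pq p P (Cfsg.pCore p G) _ hPp hQp hperf hK'P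
    · rw [hQnorm]; exact le_top
    · rw [hQnorm]; exact le_top
    · refine hK'QN.trans (Subgroup.centralizer_le ?_)
      exact inf_le_inf_left _ hCPN
  -- C = C_G(Q) is normal in G and inside N
  have hCN : Subgroup.centralizer ((Cfsg.pCore p G : Subgroup G) : Set G) ≤ N :=
    (Subgroup.centralizer_le hP).trans hCPN
  have hCn : (Subgroup.centralizer ((Cfsg.pCore p G : Subgroup G) : Set G)).Normal := inferInstance
  have hsn : (K.map N.subtype).IsSubnormal := by
    apply Subgroup.IsSubnormal.trans hK'Q _ hCn.isSubnormal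
    apply isSubnormal_subgroupOf_of_le hCN
    rw [hKeq]; exact hK.1
  exact ⟨hsn, hqs⟩

/-- If `P ≤ O_p(G)` then every component of `N_G(P)` is a component of `G`. -/
theorem component_normalizer_of_le_pCore [Finite G] (p : ℕ) [Fact p.Prime] (P : Subgroup G)
    (hP : P ≤ Cfsg.pCore p G) (K : Subgroup (Subgroup.normalizer (P : Set G)))
    (hK : Cfsg.IsComponent K) :
    Cfsg.IsComponent (K.map (Subgroup.normalizer (P : Set G)).subtype) :=
  component_of_le_pCore p P _ hP Subgroup.le_normalizer (Subgroup.centralizer_le_normalizer _) K hK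

/-- If `P ≤ O_p(G)` then `E(N_G(P)) = E(G)`. -/
theorem layer_normalizer_eq_of_le_pCore [Finite G] (p : ℕ) [Fact p.Prime] (P : Subgroup G)
    (hP : P ≤ Cfsg.pCore p G) :
    (Cfsg.layer (Subgroup.normalizer (P : Set G))).map (Subgroup.normalizer (P : Set G)).subtype =
      Cfsg.layer G := by
  apply le_antisymm
  · rw [Subgroup.map_le_iff_le_comap]
    apply layer_le_iff.2
    intro K hK
    rw [← Subgroup.map_le_iff_le_comap]
    exact component_le_layer (component_normalizer_of_le_pCore p P hP K hK)
  · apply layer_le_iff.2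
    intro L hL
    have h1 : ⁅L, Cfsg.pCore p G⁆ = ⊥ :=
      component_commutator_normal_solvable hL _ (pCore_isSolvable p)
    have hLN : L ≤ Subgroup.normalizer (P : Set G) :=
      ((Subgroup.commutator_eq_bot_iff_le_centralizer).1 h1).trans
        ((Subgroup.centralizer_le hP).trans (Subgroup.centralizer_le_normalizer _))
    calc L = (L.subgroupOf _).map (Subgroup.normalizer (P : Set G)).subtype :=
          (Subgroup.map_subgroupOf_eq_of_le hLN).symm
      _ ≤ _ := Subgroup.map_mono (component_le_layer (component_subgroupOf hL hLN))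

end

end Cfsg.Agent.H2
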