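import Mathlib
import Cfsg.Prelude.Def_Local
import Cfsg.Agent.H2.LocalLayer

/-!
`F*` of `p`-local subgroups of groups of characteristic `p` type (helper2).
-/

set_option autoImplicit false
open scoped commutatorElement Pointwise

namespace Cfsg.Agent.H2

section

variable {G : Type*} [Group G]

/-- An element whose order is both a power of `p` and prime to `p` is trivial. -/
theorem eq_one_of_isPGroup_of_coprime {p : ℕ} {H : Subgroup G} (hH : IsPGroup p H)
    {k : G} (hk : k ∈ H) (hc : (orderOf k).Coprime p) : k = 1 := by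
  obtain ⟨n, hn⟩ := hH ⟨k, hk⟩
  have h1 : k ^ p ^ n = 1 := by simpa using congrArg Subtype.val hn
  have h2 : orderOf k ∣ p ^ n := orderOf_dvd_of_pow_eq_one h1
  have h3 : orderOf k = 1 := (hc.pow_right n).eq_one_of_dvd h2
  exact orderOf_eq_one_iff.1 h3

/-- Two subgroups normalizing each other and with trivial intersection commute. -/
theorem commutator_eq_bot_of_disjoint {A B : Subgroup G}
    (hAB : A ≤ Subgroup.normalizer (B : Set G)) (hBA : B ≤ Subgroup.normalizer (A : Set G))
    (h : A ⊓ B = ⊥) : ⁅A, B⁆ = ⊥ := by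
  rw [eq_bot_iff, ← h]
  exact le_inf (Subgroup.le_normalizer_iff_commutator_le_left.1 hBA)
    (Subgroup.le_normalizer_iff_commutator_le_right.1 hAB)

theorem normalizer_inf_le_normalizer_inf (A B : Subgroup G) :
    Subgroup.normalizer (A : Set G) ⊓ Subgroup.normalizer (B : Set G) ≤
      Subgroup.normalizer ((A ⊓ B : Subgroup G) : Set G) := by
  intro k hk
  rw [← map_conj_eq_self_iff_mem_normalizer, Subgroup.map_inf _ _ _ (MulAut.conj k).injective,
    (map_conj_eq_self_iff_mem_normalizer A k).2 hk.1,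
    (map_conj_eq_self_iff_mem_normalizer B k).2 hk.2]

/-- Key local lemma: if `C_G(O_p(G)) ≤ O_p(G)`, `P` is a `p`-subgroup normal in `N ≥ C_G(P)`, and
`Y ≤ N` is generated by `p'`-elements and centralizes every normal `p`-subgroup of `N`, then
`Y = 1`. -/
theorem eq_bot_of_centralizes_normal_pSubgroups [Finite G] (p : ℕ) [Fact p.Prime]
    (hQ : Subgroup.centralizer ((Cfsg.pCore p G : Subgroup G) : Set G) ≤ Cfsg.pCore p G)
    (P N Y : Subgroup G) (hP : IsPGroup p P) (hPN : P ≤ N)
    (hNP : N ≤ Subgroup.normalizer (P : Set G)) (hCPN : Subgroup.centralizer (P : Set G) ≤ N)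
    (hY : Cfsg.pResidual p Y = ⊤)
    (hYc : ∀ R : Subgroup G, R ≤ N → IsPGroup p R → N ≤ Subgroup.normalizer (R : Set G) →
      Y ≤ Subgroup.centralizer (R : Set G)) : Y = ⊥ := by
  have hQp : IsPGroup p (Cfsg.pCore p G) := Cfsg.Agent.H1.pCore_isPGroup p
  have hQnorm : Subgroup.normalizer ((Cfsg.pCore p G : Subgroup G) : Set G) = ⊤ :=
    Subgroup.normalizer_eq_top_iff.2 inferInstance
  have h1 : Y ≤ Subgroup.centralizer (P : Set G) := hYc P hPN hP hNP
  have h2 : Y ≤ Subgroup.centralizer ((Cfsg.pCore p G ⊓ N : Subgroup G) : Set G) := by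
    apply hYc _ inf_le_right (hQp.to_le inf_le_left)
    refine le_trans ?_ (normalizer_inf_le_normalizer_inf _ _)
    rw [hQnorm]
    exact le_inf le_top Subgroup.le_normalizer
  have h3 : Y ≤ Subgroup.centralizer ((Cfsg.pCore p G : Subgroup G) : Set G) := by
    apply le_centralizer_of_pq p P (Cfsg.pCore p G) Y hP hQp hY h1
    · rw [hQnorm]; exact le_top
    · rw [hQnorm]; exact le_top
    · refine h2.trans (Subgroup.centralizer_le ?_)
      exact inf_le_inf_left _ hCPN
  have h4 : Y ≤ Cfsg.pCore p G := h3.trans hQ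
  rw [eq_bot_iff]
  apply le_of_pResidual_eq_top p Y ⊥ hY
  intro k hk hc
  rw [Subgroup.mem_bot]
  exact eq_one_of_isPGroup_of_coprime hQp (h4 hk) hc

theorem le_normalizer_map_subtype_of_normal (N : Subgroup G) (A : Subgroup N) [hA : A.Normal] :
    N ≤ Subgroup.normalizer ((A.map N.subtype : Subgroup G) : Set G) := by
  have := Subgroup.le_normalizer_map (H := A) N.subtype
  rwa [Subgroup.normalizer_eq_top_iff.2 hA, ← MonoidHom.range_eq_map, Subgroup.range_subtype]
    at this

/-- If `C_G(O_p(G)) ≤ O_p(G)` and `N` is a `p`-local subgroup (`P ⊴ N ≥ C_G(P)`, `P` a `p`-group),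
then `N` has no components. -/
theorem layer_eq_bot_of_local [Finite G] (p : ℕ) [Fact p.Prime]
    (hQ : Subgroup.centralizer ((Cfsg.pCore p G : Subgroup G) : Set G) ≤ Cfsg.pCore p G)
    (P N : Subgroup G) (hP : IsPGroup p P) (hPN : P ≤ N)
    (hNP : N ≤ Subgroup.normalizer (P : Set G)) (hCPN : Subgroup.centralizer (P : Set G) ≤ N) :
    Cfsg.layer N = ⊥ := by
  rw [eq_bot_iff]
  apply layer_le_iff.2
  intro K hK
  exfalso
  have hK'N : K.map N.subtype ≤ N := map_subtype_le _ _
  have hKeq : (K.map N.subtype).subgroupOf N = K :=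
    Subgroup.comap_map_eq_self_of_injective N.subtype_injective K
  have hqs : Cfsg.IsQuasisimple (K.map N.subtype) :=
    (isQuasisimple_map_of_injective _ N.subtype_injective K).2 hK.2
  have hperf : Cfsg.pResidual p (K.map N.subtype) = ⊤ := by
    have := hqs.1
    exact pResidual_eq_top_of_isPerfect p _
  apply quasisimple_ne_bot hqs
  apply eq_bot_of_centralizes_normal_pSubgroups p hQ P N _ hP hPN hNP hCPN hperf
  intro R hRN hR hNR
  have hRn : (R.subgroupOf N).Normal := (Subgroup.normal_subgroupOf_iff_le_normalizer hRN).2 hNR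
  have hRs : Group.IsSolvable (R.subgroupOf N) := by
    have : Group.IsNilpotent (R.subgroupOf N) :=
      (hR.comap_of_injective N.subtype N.subtype_injective).isNilpotent
    infer_instance
  rw [← Subgroup.commutator_eq_bot_iff_le_centralizer,
    ← commutator_subgroupOf_eq_bot_iff hK'N hRN, hKeq]
  exact component_commutator_normal_solvable hK _ hRs

/-- If `C_G(O_p(G)) ≤ O_p(G)` and `N` is a `p`-local subgroup, then `O_q(N) = 1` for all primes
`q ≠ p`. -/
theorem pCore_eq_bot_of_local [Finite G] (p : ℕ) [Fact p.Prime]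
    (hQ : Subgroup.centralizer ((Cfsg.pCore p G : Subgroup G) : Set G) ≤ Cfsg.pCore p G)
    (P N : Subgroup G) (hP : IsPGroup p P) (hPN : P ≤ N)
    (hNP : N ≤ Subgroup.normalizer (P : Set G)) (hCPN : Subgroup.centralizer (P : Set G) ≤ N)
    (q : ℕ) [Fact q.Prime] (hqp : q ≠ p) :
    Cfsg.pCore q N = ⊥ := by
  set Y := (Cfsg.pCore q N).map N.subtype with hYdef
  have hYq : IsPGroup q Y := (Cfsg.Agent.H1.pCore_isPGroup q).map _
  have hYN : Y ≤ N := map_subtype_le _ _
  have hNY : N ≤ Subgroup.normalizer (Y : Set G) := le_normalizer_map_subtype_of_normal N _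
  have hY : Cfsg.pResidual p Y = ⊤ := by
    rw [eq_top_iff]
    intro k _
    apply Subgroup.subset_closure
    show (orderOf k).Coprime p
    obtain ⟨n, hn⟩ := hYq k
    have h2 : orderOf k ∣ q ^ n := orderOf_dvd_of_pow_eq_one hn
    exact Nat.Coprime.coprime_dvd_left h2
      (Nat.Coprime.pow_left n ((Nat.coprime_primes Fact.out Fact.out).2 hqp))
  have hYbot : Y = ⊥ := by
    apply eq_bot_of_centralizes_normal_pSubgroups p hQ P N Y hP hPN hNP hCPN hY
    intro R hRN hR hNR
    rw [← Subgroup.commutator_eq_bot_iff_le_centralizer]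
    apply commutator_eq_bot_of_disjoint (hYN.trans hNR) (hRN.trans hNY)
    exact (IsPGroup.disjoint_of_ne q p hqp Y R hYq hR).eq_bot
  rw [hYdef] at hYbot
  exact (Subgroup.map_eq_bot_iff_of_injective _ N.subtype_injective).1 hYbot

/-- If `C_G(O_p(G)) ≤ O_p(G)` and `N` is a `p`-local subgroup, then `F*(N) = O_p(N)`. -/
theorem generalizedFittingSubgroup_eq_pCore_of_local [Finite G] (p : ℕ) [Fact p.Prime]
    (hQ : Subgroup.centralizer ((Cfsg.pCore p G : Subgroup G) : Set G) ≤ Cfsg.pCore p G)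
    (P N : Subgroup G) (hP : IsPGroup p P) (hPN : P ≤ N)
    (hNP : N ≤ Subgroup.normalizer (P : Set G)) (hCPN : Subgroup.centralizer (P : Set G) ≤ N) :
    Cfsg.generalizedFittingSubgroup N = Cfsg.pCore p N := by
  unfold Cfsg.generalizedFittingSubgroup
  rw [layer_eq_bot_of_local p hQ P N hP hPN hNP hCPN, bot_sup_eq,
    Cfsg.Agent.H1.fittingSubgroup_eq_iSup_pCore]
  apply le_antisymm
  · apply iSup_le
    intro q
    have := Fact.mk q.2
    by_cases hqp : (q : ℕ) = p
    · rw [hqp]
    · rw [pCore_eq_bot_of_local p hQ P N hP hPN hNP hCPN q hqp]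
      exact bot_le
  · exact le_iSup (fun q : Nat.Primes => Cfsg.pCore (q : ℕ) N) ⟨p, Fact.out⟩

end

end Cfsg.Agent.H2
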