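import Mathlib
import Cfsg.Prelude.Def_Local
import Cfsg.Agent.H2.LocalFStar

/-!
Relative local lemmas (helper2).
-/

set_option autoImplicit false
open scoped commutatorElement Pointwise

namespace Cfsg.Agent.H2

section

variable {G : Type*} [Group G]

/-- Assembly: `E(N) = 1` and `O_q(N) = 1` for `q ≠ p` give `F*(N) = O_p(N)`. -/
theorem generalizedFittingSubgroup_eq_pCore_of_forall [Finite G] (p : ℕ) [Fact p.Prime]
    (h1 : Cfsg.layer G = ⊥)
    (h2 : ∀ q : ℕ, q.Prime → q ≠ p → Cfsg.pCore q G = ⊥) :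
    Cfsg.generalizedFittingSubgroup G = Cfsg.pCore p G := by
  unfold Cfsg.generalizedFittingSubgroup
  rw [h1, bot_sup_eq, Cfsg.Agent.H1.fittingSubgroup_eq_iSup_pCore]
  apply le_antisymm
  · apply iSup_le
    intro q
    by_cases hqp : (q : ℕ) = p
    · rw [hqp]
    · rw [h2 q q.2 hqp]
      exact bot_le
  · exact le_iSup (fun q : Nat.Primes => Cfsg.pCore (q : ℕ) G) ⟨p, Fact.out⟩

/-- Relative version of the local lemmas: `H ≤ G` with `C_H(O_p(H)) ≤ O_p(H)`, and `M ≤ H` a
`p`-local subgroup of `H`. -/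
theorem local_of_subgroup [Finite G] (p : ℕ) [Fact p.Prime] (H : Subgroup G)
    (hQ : Subgroup.centralizer ((Cfsg.pCore p H : Subgroup H) : Set H) ≤ Cfsg.pCore p H)
    (P M : Subgroup G) (hP : IsPGroup p P) (hPM : P ≤ M) (hMH : M ≤ H)
    (hMP : M ≤ Subgroup.normalizer (P : Set G))
    (hCPM : Subgroup.centralizer (P : Set G) ⊓ H ≤ M) :
    Cfsg.layer M = ⊥ ∧ ∀ q : ℕ, q.Prime → q ≠ p → Cfsg.pCore q M = ⊥ := by
  have hP' : IsPGroup p (P.subgroupOf H) := hP.comap_of_injective H.subtype H.subtype_injective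
  have hPM' : P.subgroupOf H ≤ M.subgroupOf H := fun x hx => hPM hx
  have hMP' : M.subgroupOf H ≤ Subgroup.normalizer ((P.subgroupOf H : Subgroup H) : Set H) := by
    intro x hx
    have hx' : (x : G) ∈ Subgroup.normalizer (P : Set G) := hMP hx
    rw [Subgroup.mem_normalizer_iff] at hx' ⊢
    intro y
    exact hx' (y : G)
  have hCPM' : Subgroup.centralizer ((P.subgroupOf H : Subgroup H) : Set H) ≤ M.subgroupOf H := by
    intro x hx
    apply hCPM
    refine ⟨?_, x.2⟩
    show (x : G) ∈ Subgroup.centralizer (P : Set G)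
    rw [Subgroup.mem_centralizer_iff]
    intro y hy
    have := Subgroup.mem_centralizer_iff.1 hx ⟨y, hMH (hPM hy)⟩ hy
    exact congrArg Subtype.val this
  have e : (M.subgroupOf H) ≃* M := Subgroup.subgroupOfEquivOfLe hMH
  constructor
  · rw [← layer_map_equiv e, layer_eq_bot_of_local p hQ _ _ hP' hPM' hMP' hCPM', Subgroup.map_bot]
  · intro q hq hqp
    have := Fact.mk hq
    rw [← pCore_map_equiv q e, pCore_eq_bot_of_local p hQ _ _ hP' hPM' hMP' hCPM' q hqp,
      Subgroup.map_bot]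

end

end Cfsg.Agent.H2
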