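import Mathlib
import Cfsg.Prelude.Def_Local
import Cfsg.Agent.H2.LocalFStar2

/-!
`O_{p'}` of subnormal subgroups and quotients (helper2).
-/

set_option autoImplicit false
open scoped commutatorElement Pointwise

namespace Cfsg.Agent.H2

section

variable {G : Type*} [Group G]

/-- For a subnormal subgroup `H` of a finite group, `O_{p'}(H) ≤ O_{p'}(G)`. -/
theorem pPrimeCore_map_subtype_le_of_isSubnormal [Finite G] (p : ℕ) {H : Subgroup G}
    (hH : H.IsSubnormal) : (Cfsg.pPrimeCore p H).map H.subtype ≤ Cfsg.pPrimeCore p G := by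
  induction hH with
  | top =>
    exact (pPrimeCore_map_equiv p (Subgroup.topEquiv (G := G))).le
  | step H K h_le hK hN ih =>
    set N := (Cfsg.pPrimeCore p H).map H.subtype with hNdef
    have hNH : N ≤ H := map_subtype_le _ _
    have hNK : N ≤ K := hNH.trans h_le
    have hKH : K ≤ Subgroup.normalizer (H : Set G) :=
      (Subgroup.normal_subgroupOf_iff_le_normalizer h_le).1 hN
    have hKN : K ≤ Subgroup.normalizer (N : Set G) :=
      hKH.trans (normalizer_le_normalizer_pPrimeCore p H)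
    have hn : (N.subgroupOf K).Normal := (Subgroup.normal_subgroupOf_iff_le_normalizer hNK).2 hKN
    have hcard : (Nat.card (N.subgroupOf K)).Coprime p := by
      rw [Nat.card_congr (Subgroup.subgroupOfEquivOfLe hNK).toEquiv, hNdef,
        ← Nat.card_congr ((Cfsg.pPrimeCore p H).equivMapOfInjective H.subtype
          H.subtype_injective).toEquiv]
      exact Cfsg.Agent.H1.pPrimeCore_coprime p
    have h3 : N.subgroupOf K ≤ Cfsg.pPrimeCore p K := Cfsg.Agent.H1.le_pPrimeCore hn hcard
    calc N = (N.subgroupOf K).map K.subtype := (Subgroup.map_subgroupOf_eq_of_le hNK).symm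
      _ ≤ (Cfsg.pPrimeCore p K).map K.subtype := Subgroup.map_mono h3
      _ ≤ Cfsg.pPrimeCore p G := ih

/-- A subnormal `p'`-subgroup of a finite group lies in `O_{p'}(G)`. -/
theorem le_pPrimeCore_of_isSubnormal [Finite G] (p : ℕ) {K : Subgroup G}
    (hK : K.IsSubnormal) (hc : (Nat.card K).Coprime p) : K ≤ Cfsg.pPrimeCore p G := by
  have h1 : Cfsg.pPrimeCore p K = ⊤ := by
    rw [eq_top_iff]
    apply Cfsg.Agent.H1.le_pPrimeCore inferInstance
    rw [Nat.card_congr (Subgroup.topEquiv (G := K)).toEquiv]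
    exact hc
  have h2 := pPrimeCore_map_subtype_le_of_isSubnormal p hK
  rwa [h1, ← MonoidHom.range_eq_map, Subgroup.range_subtype] at h2

/-- The preimage of a subgroup under a quotient map has order `|H̄| * |N|`. -/
theorem card_comap_mk' [Finite G] (N : Subgroup G) [N.Normal] (Hbar : Subgroup (G ⧸ N)) :
    Nat.card (Hbar.comap (QuotientGroup.mk' N)) = Nat.card Hbar * Nat.card N := by
  have h1 : (Hbar.comap (QuotientGroup.mk' N)).index = Hbar.index :=
    Subgroup.index_comap_of_surjective _ (QuotientGroup.mk'_surjective N)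
  have h2 := Subgroup.card_mul_index (Hbar.comap (QuotientGroup.mk' N))
  have h3 := Subgroup.card_mul_index Hbar
  have h4 := Subgroup.card_eq_card_quotient_mul_card_subgroup N
  have hpos : 0 < Hbar.index := Nat.pos_of_ne_zero Subgroup.index_ne_zero_of_finite
  apply Nat.eq_of_mul_eq_mul_right hpos
  rw [← h1] at h3 hpos ⊢
  rw [h2, h4, ← h3]
  ring

/-- `O_{p'}(G / O_{p'}(G)) = 1`. -/
theorem pPrimeCore_quotient_eq_bot [Finite G] (p : ℕ) :
    Cfsg.pPrimeCore p (G ⧸ Cfsg.pPrimeCore p G) = ⊥ := by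
  have hMn : ((Cfsg.pPrimeCore p (G ⧸ Cfsg.pPrimeCore p G)).comap
      (QuotientGroup.mk' (Cfsg.pPrimeCore p G))).Normal := Subgroup.Normal.comap inferInstance _
  have hcard := card_comap_mk' (Cfsg.pPrimeCore p G) (Cfsg.pPrimeCore p (G ⧸ Cfsg.pPrimeCore p G))
  have hcop : (Nat.card ((Cfsg.pPrimeCore p (G ⧸ Cfsg.pPrimeCore p G)).comap
      (QuotientGroup.mk' (Cfsg.pPrimeCore p G)))).Coprime p := by
    rw [hcard]
    exact Nat.Coprime.mul_left (Cfsg.Agent.H1.pPrimeCore_coprime p)
      (Cfsg.Agent.H1.pPrimeCore_coprime p)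
  have hle := Cfsg.Agent.H1.le_pPrimeCore hMn hcop
  rw [eq_bot_iff]
  intro x hx
  obtain ⟨g, rfl⟩ := QuotientGroup.mk'_surjective _ x
  have : g ∈ Cfsg.pPrimeCore p G := hle hx
  rw [Subgroup.mem_bot]
  exact (QuotientGroup.eq_one_iff g).2 this

end

end Cfsg.Agent.H2
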