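import Mathlib
import Cfsg.Agent.H2.ConjMap

set_option autoImplicit false

namespace Cfsg.Agent.H2

variable {G : Type*} [Group G]

/-- Relative Sylow: if `P` is a Sylow `p`-subgroup of `G` with `P ≤ K`, and `Y ≤ K` is a `p`-subgroup,
then some `K`-conjugate of `Y` lies in `P`. -/
theorem exists_conj_le_sylow_of_le [Finite G] {p : ℕ} [Fact p.Prime] (P : Sylow p G)
    (K : Subgroup G) (hPK : (P : Subgroup G) ≤ K) (Y : Subgroup G) (hY : IsPGroup p Y) (hYK : Y ≤ K) :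
    ∃ k ∈ K, Y.map (MulAut.conj k).toMonoidHom ≤ P := by
  have hY' : IsPGroup p (Y.subgroupOf K) := hY.comap_subtype
  obtain ⟨Q, hQ⟩ := hY'.exists_le_sylow
  obtain ⟨u, hu⟩ := MulAction.exists_smul_eq K Q (P.subtype hPK)
  refine ⟨(u : G), u.2, ?_⟩
  intro x hx
  rw [mem_map_conj_iff] at hx
  -- x' = u⁻¹ x u ∈ Y, as element of K
  have hxK : x ∈ K := by
    have h1 := hYK hx
    have : x = (u : G) * ((u : G)⁻¹ * x * (u : G)) * (u : G)⁻¹ := by group
    rw [this]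
    exact K.mul_mem (K.mul_mem u.2 h1) (K.inv_mem u.2)
  have h2 : (⟨(u : G)⁻¹ * x * (u : G), hYK hx⟩ : K) ∈ Y.subgroupOf K := by
    rw [Subgroup.mem_subgroupOf]; exact hx
  have h3 := hQ h2
  have h4 : (⟨x, hxK⟩ : K) ∈ ((u • Q : Sylow p K) : Subgroup K) := by
    rw [mem_sylow_smul_iff]
    convert h3 using 1
    exact Subtype.ext (by simp)
  rw [hu, Sylow.coe_subtype, Subgroup.mem_subgroupOf] at h4
  exact h4

/-- Element version: a `p`-element of `K ≥ P` is `K`-conjugate into `P`. -/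
theorem exists_conj_mem_sylow_of_mem [Finite G] {p : ℕ} [Fact p.Prime] (P : Sylow p G)
    (K : Subgroup G) (hPK : (P : Subgroup G) ≤ K) (y : G) (hyK : y ∈ K)
    (hy : ∃ n : ℕ, orderOf y = p ^ n) :
    ∃ k ∈ K, k * y * k⁻¹ ∈ (P : Subgroup G) := by
  have hY : IsPGroup p (Subgroup.zpowers y) := by
    obtain ⟨n, hn⟩ := hy
    apply IsPGroup.of_card (n := n)
    rw [Nat.card_zpowers, hn]
  have hYK : Subgroup.zpowers y ≤ K := by
    rw [Subgroup.zpowers_le]; exact hyK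
  obtain ⟨k, hk, hle⟩ := exists_conj_le_sylow_of_le P K hPK _ hY hYK
  exact ⟨k, hk, hle (conj_mem_map_conj _ k (Subgroup.mem_zpowers y))⟩

end Cfsg.Agent.H2

namespace Cfsg.Agent.H2

variable {G : Type*} [Group G]

/-- Two `p`-subgroups `W, Y` of a subgroup `K` of a finite group: some `K`-conjugate of `Y` generates
a `p`-group together with `W`; indeed both lie in a common `p`-subgroup `R ≤ K`. -/
theorem exists_conj_common_pgroup [Finite G] {p : ℕ} [Fact p.Prime]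
    (K : Subgroup G) (W Y : Subgroup G) (hW : IsPGroup p W) (hY : IsPGroup p Y)
    (hWK : W ≤ K) (hYK : Y ≤ K) :
    ∃ k ∈ K, ∃ R : Subgroup G, IsPGroup p R ∧ R ≤ K ∧ W ≤ R ∧ Y.map (MulAut.conj k).toMonoidHom ≤ R := by
  have hW' : IsPGroup p (W.subgroupOf K) := hW.comap_subtype
  have hY' : IsPGroup p (Y.subgroupOf K) := hY.comap_subtype
  obtain ⟨Q, hQ⟩ := hW'.exists_le_sylow
  obtain ⟨Q', hQ'⟩ := hY'.exists_le_sylow
  obtain ⟨u, hu⟩ := MulAction.exists_smul_eq K Q' Q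
  refine ⟨(u : G), u.2, (Q : Subgroup K).map K.subtype, Q.2.map _, ?_, ?_, ?_⟩
  · rintro _ ⟨x, _, rfl⟩
    exact x.2
  · intro x hx
    exact ⟨⟨x, hWK hx⟩, hQ (by rw [Subgroup.mem_subgroupOf]; exact hx), rfl⟩
  · intro x hx
    rw [mem_map_conj_iff] at hx
    have hxK : x ∈ K := by
      have h1 := hYK hx
      have : x = (u : G) * ((u : G)⁻¹ * x * (u : G)) * (u : G)⁻¹ := by group
      rw [this]
      exact K.mul_mem (K.mul_mem u.2 h1) (K.inv_mem u.2)
    have h2 : (⟨(u : G)⁻¹ * x * (u : G), hYK hx⟩ : K) ∈ Y.subgroupOf K := by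
      rw [Subgroup.mem_subgroupOf]; exact hx
    have h3 := hQ' h2
    have h4 : (⟨x, hxK⟩ : K) ∈ ((u • Q' : Sylow p K) : Subgroup K) := by
      rw [mem_sylow_smul_iff]
      convert h3 using 1
      exact Subtype.ext (by simp)
    rw [hu] at h4
    exact ⟨⟨x, hxK⟩, h4, rfl⟩

end Cfsg.Agent.H2
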