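import Mathlib
import Cfsg.Agent.H2.UniqueOrderP
import Cfsg.Agent.Lib.Helper7.CoprimeGen

/-!
# Sylow subgroups of fixed-point-free groups are cyclic or generalized quaternion (helper2)
-/

set_option autoImplicit false
set_option linter.style.haveILetI false
set_option linter.unusedSectionVars false
set_option linter.unusedVariables false

namespace Cfsg.Agent.H2.FCS

open Cfsg.Agent.H2.UOP

universe u

/-- a `p`-element acting fixed-point-freely on a normal subgroup `K`: `p ∤ |K|` -/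
theorem not_dvd_card_of_fpf {G : Type*} [Group G] [Finite G] (K : Subgroup G) [K.Normal] (p : ℕ)
    [hp : Fact p.Prime] (b : G) (hb : b ^ p = 1) (hfpf : K ⊓ Subgroup.centralizer {b} = ⊥) :
    ¬ p ∣ Nat.card K := by
  classical
  intro hdvd
  haveI : Fintype ↥K := Fintype.ofFinite _
  rw [Nat.card_eq_fintype_card] at hdvd
  have hσ : (MulAut.toPerm ↥K (MulAut.conjNormal b)) ^ p ^ 1 = 1 := by
    rw [pow_one, ← map_pow, ← map_pow, hb, map_one, map_one]
  obtain ⟨k, hk, hk1⟩ := Equiv.Perm.exists_fixed_point_of_prime' hdvd hσ (a := (1 : ↥K))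
    (map_one (MulAut.conjNormal b))
  have h1 : (k : G) ∈ K ⊓ Subgroup.centralizer {b} := by
    refine Subgroup.mem_inf.2 ⟨k.2, ?_⟩
    rw [Subgroup.mem_centralizer_iff]
    intro x hx
    rw [Set.mem_singleton_iff] at hx
    subst hx
    have h2 : ((MulAut.conjNormal x k : ↥K) : G) = k := congrArg Subtype.val hk
    rw [MulAut.conjNormal_apply] at h2
    calc x * (k : G) = (x * k * x⁻¹) * x := by group
      _ = k * x := by rw [h2]
  rw [hfpf, Subgroup.mem_bot] at h1
  exact hk1 (Subtype.ext h1)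

/-- two distinct subgroups of order `p` in a `p`-group give a rank two configuration -/
theorem exists_rank_two {X : Type*} [Group X] [Finite X] {p : ℕ} [hp : Fact p.Prime] (hX : IsPGroup p X)
    (U V : Subgroup X) (hU : Nat.card U = p) (hV : Nat.card V = p) (hne : U ≠ V) :
    ∃ w z : X, w ^ p = 1 ∧ z ^ p = 1 ∧ z ≠ 1 ∧ w * z = z * w ∧ ∀ m : ℕ, w * z ^ m ≠ 1 := by
  -- generators
  have hgen : ∀ W : Subgroup X, Nat.card W = p → ∃ w : X, orderOf w = p ∧ W = Subgroup.zpowers w := by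
    intro W hW
    haveI : Fact (Nat.card W).Prime := ⟨hW ▸ hp.out⟩
    haveI : IsCyclic W := isCyclic_of_prime_card rfl
    obtain ⟨w, hw⟩ := IsCyclic.exists_generator (α := W)
    have how : orderOf w = p := by rw [orderOf_eq_card_of_forall_mem_zpowers hw, hW]
    refine ⟨w, by rw [Subgroup.orderOf_coe]; exact how, ?_⟩
    have hle : Subgroup.zpowers (w : X) ≤ W := Subgroup.zpowers_le.2 w.2
    exact (Subgroup.eq_of_le_of_card_ge hle (by
      rw [Nat.card_zpowers, Subgroup.orderOf_coe, how, hW])).symm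
  obtain ⟨u, hou, hUu⟩ := hgen U hU
  obtain ⟨v, hov, hVv⟩ := hgen V hV
  -- a central element of order `p`
  haveI : Nontrivial X := by
    refine ⟨⟨u, 1, ?_⟩⟩
    rintro rfl
    rw [orderOf_one] at hou
    exact hp.out.one_lt.ne hou
  haveI := hX.center_nontrivial
  have hZp : IsPGroup p (Subgroup.center X) := hX.to_subgroup _
  obtain ⟨k, hk⟩ := IsPGroup.iff_card.1 hZp
  have hk0 : k ≠ 0 := by
    rintro rfl
    rw [pow_zero] at hk
    have := Finite.one_lt_card (α := Subgroup.center X)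
    omega
  have hdvd : p ∣ Nat.card (Subgroup.center X) := by rw [hk]; exact dvd_pow_self p hk0
  obtain ⟨z0, hz0⟩ := exists_prime_orderOf_dvd_card' p hdvd
  have hoz : orderOf (z0 : X) = p := by rw [Subgroup.orderOf_coe]; exact hz0
  have hz1 : (z0 : X) ≠ 1 := by
    intro h; rw [h, orderOf_one] at hoz; exact hp.out.one_lt.ne hoz
  have hzc : ∀ x : X, x * (z0 : X) = (z0 : X) * x := fun x => (Subgroup.mem_center_iff.1 z0.2 x)
  have hsame : ∀ w : X, orderOf w = p → w ∈ Subgroup.zpowers (z0 : X) →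
      Subgroup.zpowers w = Subgroup.zpowers (z0 : X) := by
    intro w how hw
    exact Subgroup.eq_of_le_of_card_ge (Subgroup.zpowers_le.2 hw) (by
      rw [Nat.card_zpowers, Nat.card_zpowers, how, hoz])
  have hex : ∃ w : X, orderOf w = p ∧ w ∉ Subgroup.zpowers (z0 : X) := by
    by_contra hcon
    push Not at hcon
    apply hne
    rw [hUu, hVv, hsame u hou (hcon u hou), hsame v hov (hcon v hov)]
  obtain ⟨w, how, hwz⟩ := hex
  refine ⟨w, z0, by rw [← how]; exact pow_orderOf_eq_one w, by rw [← hoz]; exact pow_orderOf_eq_one _,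
    hz1, hzc w, ?_⟩
  intro m hm
  apply hwz
  have : w = ((z0 : X) ^ m)⁻¹ := eq_inv_of_mul_eq_one_left hm
  rw [this]
  exact Subgroup.inv_mem _ (Subgroup.pow_mem _ (Subgroup.mem_zpowers _) m)

/-- Sylow subgroups of a group acting fixed-point-freely have a unique subgroup of order `p` -/
theorem huniq_of_fpf {G : Type u} [Group G] [Finite G] (K H : Subgroup G) [hKn : K.Normal]
    (hK : K ≠ ⊥) (hfpf : ∀ h ∈ H, h ≠ 1 → K ⊓ Subgroup.centralizer {h} = ⊥)
    (p : ℕ) [hp : Fact p.Prime] (P : Sylow p H) :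
    ∀ U V : Subgroup ↥(P : Subgroup ↥H), Nat.card U = p → Nat.card V = p → U = V := by
  intro U V hU hV
  by_contra hne
  obtain ⟨w, z, hwp, hzp, hz1, hwz, hm⟩ := exists_rank_two P.isPGroup' U V hU hV hne
  obtain ⟨a, ha⟩ : ∃ a : G, a = ((w : ↥H) : G) := ⟨_, rfl⟩
  obtain ⟨b, hb⟩ : ∃ b : G, b = ((z : ↥H) : G) := ⟨_, rfl⟩
  have hap : a ^ p = 1 := by
    rw [ha]; have := congrArg (fun x : ↥(P : Subgroup ↥H) => ((x : ↥H) : G)) hwp; simpa using this
  have hbp : b ^ p = 1 := by
    rw [hb]; have := congrArg (fun x : ↥(P : Subgroup ↥H) => ((x : ↥H) : G)) hzp; simpa using this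
  have hb1 : b ≠ 1 := by
    intro h0
    apply hz1
    apply Subtype.ext
    apply Subtype.ext
    rw [← hb, h0]; rfl
  have hab : a * b = b * a := by
    rw [ha, hb]; have := congrArg (fun x : ↥(P : Subgroup ↥H) => ((x : ↥H) : G)) hwz; simpa using this
  have habm : ∀ m : ℕ, a * b ^ m ≠ 1 := by
    intro m h0
    apply hm m
    apply Subtype.ext
    apply Subtype.ext
    rw [ha, hb] at h0
    simpa using h0
  -- the subgroup generated by `a` and `b`
  obtain ⟨A, hA⟩ : ∃ A : Subgroup G, A = Subgroup.closure {a, b} := ⟨_, rfl⟩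
  have haA : a ∈ A := hA ▸ Subgroup.subset_closure (by simp)
  have hbA : b ∈ A := hA ▸ Subgroup.subset_closure (by simp)
  have hcomm : ∀ x ∈ A, ∀ y ∈ A, x * y = y * x := by
    have hk : ∀ x ∈ ({a, b} : Set G), ∀ y ∈ ({a, b} : Set G), x * y = y * x := by
      intro x hx y hy
      rcases hx with rfl | rfl <;> rcases hy with rfl | rfl
      · rfl
      · exact hab
      · exact hab.symm
      · rfl
    intro x hx y hy
    rw [hA] at hx hy
    haveI := Subgroup.isMulCommutative_closure hk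
    have := mul_comm' (⟨x, hx⟩ : ↥(Subgroup.closure {a, b})) ⟨y, hy⟩
    exact congrArg Subtype.val this
  -- `A` lies in the image of `P`
  have hAQ : A ≤ ((P : Subgroup ↥H).map H.subtype) := by
    rw [hA, Subgroup.closure_le]
    intro x hx
    rcases hx with rfl | rfl
    · exact Subgroup.mem_map.2 ⟨w, w.2, ha.symm⟩
    · exact Subgroup.mem_map.2 ⟨z, z.2, hb.symm⟩
  have hAH : A ≤ H := le_trans hAQ (Subgroup.map_subtype_le _)
  have hAp : IsPGroup p A := (P.isPGroup'.map H.subtype).to_le hAQ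
  have hpK : ¬ p ∣ Nat.card K := not_dvd_card_of_fpf K p b hbp (hfpf b (hAH hbA) hb1)
  have hcop : (Nat.card A).Coprime (Nat.card K) := by
    obtain ⟨k, hk⟩ := IsPGroup.iff_card.1 hAp
    rw [hk]
    exact Nat.Coprime.pow_left k ((Nat.Prime.coprime_iff_not_dvd hp.out).2 hpK)
  have hAK : A ≤ Subgroup.normalizer (K : Set G) := by
    rw [Subgroup.normalizer_eq_top]; exact le_top
  have hgen := Cfsg.Agent.Lib.Helper7.cgen_eq_of_rank_two (p := p) hcomm haA hbA hap hbp hb1 habm
    (Nat.card K) K rfl hAK hcop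
  apply hK
  rw [← hgen, eq_bot_iff]
  unfold Cfsg.Agent.Lib.Helper7.cgen
  apply iSup₂_le
  intro x hx
  rw [hfpf x (hAH hx.1) hx.2]

theorem sylow_cyclic_or_quaternion {G : Type u} [Group G] [Finite G] (K H : Subgroup G) [hKn : K.Normal]
    (hK : K ≠ ⊥) (hfpf : ∀ h ∈ H, h ≠ 1 → K ⊓ Subgroup.centralizer {h} = ⊥)
    (p : ℕ) [hp : Fact p.Prime] (P : Sylow p H) :
    IsCyclic P ∨ ∃ n : ℕ, Nonempty (P ≃* QuaternionGroup (2 ^ n)) := by
  rcases UOP.main p P.isPGroup' (huniq_of_fpf K H hK hfpf p P) with h | ⟨-, h⟩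
  · exact Or.inl h
  · exact Or.inr h

end Cfsg.Agent.H2.FCS
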