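import Mathlib
import Cfsg.Agent.H1.FrobAbA

namespace Cfsg.Agent.H2.HH

open Module

section Commutant
variable {k W : Type*} [Field k] [AddCommGroup W] [Module k W]

/-- the commutant of `X` as a submodule of `End W` -/
def commutant (X : Module.End k W) : Submodule k (Module.End k W) where
  carrier := {T | T * X = X * T}
  add_mem' := by
    intro a b ha hb
    show (a + b) * X = X * (a + b)
    rw [add_mul, mul_add, ha, hb]
  zero_mem' := by
    show (0 : Module.End k W) * X = X * 0
    rw [zero_mul, mul_zero]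
  smul_mem' := by
    intro c a ha
    show (c • a) * X = X * (c • a)
    rw [smul_mul_assoc, mul_smul_comm, ha]

theorem mem_commutant (X T : Module.End k W) : T ∈ commutant X ↔ T * X = X * T := Iff.rfl

/-- matrices commuting with a diagonal matrix -/
def diagComm {ι : Type*} [Fintype ι] [DecidableEq ι] (d : ι → k) : Submodule k (Matrix ι ι k) where
  carrier := {M | M * Matrix.diagonal d = Matrix.diagonal d * M}
  add_mem' := by
    intro a b ha hb
    show (a + b) * _ = _ * (a + b)
    rw [add_mul, mul_add, ha, hb]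
  zero_mem' := by
    show (0 : Matrix ι ι k) * _ = _ * 0
    rw [zero_mul, mul_zero]
  smul_mem' := by
    intro c a ha
    show (c • a) * _ = _ * (c • a)
    rw [smul_mul_assoc, mul_smul_comm, ha]

theorem mem_diagComm_iff {ι : Type*} [Fintype ι] [DecidableEq ι] (d : ι → k) (M : Matrix ι ι k) :
    M ∈ diagComm d ↔ ∀ i j, d i ≠ d j → M i j = 0 := by
  constructor
  · intro h i j hij
    have h1 : (M * Matrix.diagonal d) i j = (Matrix.diagonal d * M) i j := by rw [h]
    rw [Matrix.mul_diagonal, Matrix.diagonal_mul] at h1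
    by_contra hne
    apply hij
    have h2 : M i j * (d j - d i) = 0 := by rw [mul_sub, h1]; ring
    rcases mul_eq_zero.1 h2 with h3 | h3
    · exact absurd h3 hne
    · exact (sub_eq_zero.1 h3).symm
  · intro h
    show M * Matrix.diagonal d = Matrix.diagonal d * M
    ext i j
    rw [Matrix.mul_diagonal, Matrix.diagonal_mul]
    by_cases hij : d i = d j
    · rw [hij, mul_comm]
    · rw [h i j hij, zero_mul, mul_zero]

theorem finrank_diagComm {ι : Type*} [Fintype ι] [DecidableEq ι] [DecidableEq k] (d : ι → k) :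
    finrank k (diagComm d) = Fintype.card {p : ι × ι // d p.1 = d p.2} := by
  let e : diagComm d ≃ₗ[k] ({p : ι × ι // d p.1 = d p.2} → k) :=
    { toFun := fun M p => (M : Matrix ι ι k) p.1.1 p.1.2
      map_add' := by intro a b; rfl
      map_smul' := by intro c a; rfl
      invFun := fun f => ⟨Matrix.of fun i j => if h : d i = d j then f ⟨(i, j), h⟩ else 0, by
        rw [mem_diagComm_iff]
        intro i j hij
        show (if h : d i = d j then f ⟨(i, j), h⟩ else 0) = 0
        rw [dif_neg hij]⟩
      left_inv := by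
        intro M
        apply Subtype.ext
        ext i j
        show (if h : d i = d j then (M : Matrix ι ι k) i j else 0) = (M : Matrix ι ι k) i j
        by_cases hij : d i = d j
        · rw [dif_pos hij]
        · rw [dif_neg hij]
          exact ((mem_diagComm_iff d M).1 M.2 i j hij).symm
      right_inv := by
        intro f
        funext p
        show (if h : d p.1.1 = d p.1.2 then f ⟨(p.1.1, p.1.2), h⟩ else 0) = f p
        rw [dif_pos p.2] }
  rw [e.finrank_eq, Module.finrank_fintype_fun_eq_card]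


theorem eigenspace_eq_bot_of_not_root [FiniteDimensional k W] (X : Module.End k W) (r : ℕ) (hr : 0 < r)
    (hX : X ^ r = 1) (μ : k) (hμ : μ ∉ Polynomial.nthRootsFinset r (1 : k)) : X.eigenspace μ = ⊥ := by
  rw [eq_bot_iff]
  intro v hv
  rw [Module.End.mem_eigenspace_iff] at hv
  have h1 : ∀ n : ℕ, (X ^ n) v = μ ^ n • v := by
    intro n
    induction n with
    | zero => simp
    | succ n ih =>
      rw [pow_succ, Module.End.mul_apply, hv, map_smul, ih, smul_smul, pow_succ, mul_comm]
  have h2 := h1 r
  rw [hX, Module.End.one_apply] at h2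
  have h3 : (μ ^ r - 1) • v = 0 := by rw [sub_smul, one_smul, ← h2, sub_self]
  rcases smul_eq_zero.1 h3 with h4 | h4
  · exfalso
    apply hμ
    rw [Polynomial.mem_nthRootsFinset hr]
    exact sub_eq_zero.1 h4
  · rw [h4]; exact Submodule.zero_mem _

theorem commutant_finrank [IsAlgClosed k] [FiniteDimensional k W] (X : Module.End k W) (r : ℕ)
    (hr : 0 < r) (hrk : (r : k) ≠ 0) (hX : X ^ r = 1) :
    (∑ μ ∈ Polynomial.nthRootsFinset r (1 : k), finrank k (X.eigenspace μ)) = finrank k W ∧
    (∑ μ ∈ Polynomial.nthRootsFinset r (1 : k), (finrank k (X.eigenspace μ)) ^ 2)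
      = finrank k (commutant X) := by
  classical
  set R := Polynomial.nthRootsFinset r (1 : k) with hR
  have hss : X.IsSemisimple := by
    apply Module.End.isSemisimple_of_squarefree_aeval_eq_zero
      (p := Polynomial.X ^ r - Polynomial.C (1 : k))
    · exact (Polynomial.separable_X_pow_sub_C 1 hrk one_ne_zero).squarefree
    · simp [hX]
  have htop : ⨆ μ : k, X.eigenspace μ = ⊤ := hss.iSup_eigenspace_eq_top
  have hbot : ∀ μ : k, μ ∉ R → X.eigenspace μ = ⊥ :=
    fun μ hμ => eigenspace_eq_bot_of_not_root X r hr hX μ hμ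
  have htop' : ⨆ μ : R, X.eigenspace (μ : k) = ⊤ := by
    rw [eq_top_iff, ← htop]
    apply iSup_le
    intro μ
    by_cases hμ : μ ∈ R
    · exact le_iSup (fun ν : R => X.eigenspace (ν : k)) ⟨μ, hμ⟩
    · rw [hbot μ hμ]; exact bot_le
  have hind : iSupIndep (fun μ : R => X.eigenspace (μ : k)) :=
    (Module.End.eigenspaces_iSupIndep X).comp Subtype.val_injective
  have hint := DirectSum.isInternal_submodule_of_iSupIndep_of_iSup_eq_top hind htop'
  let m : R → ℕ := fun μ => finrank k (X.eigenspace (μ : k))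
  let v : ∀ μ : R, Basis (Fin (m μ)) k (X.eigenspace (μ : k)) := fun μ => Module.finBasis k _
  let b := hint.collectedBasis v
  have hb : ∀ (μ : R) (i : Fin (m μ)), X (b ⟨μ, i⟩) = (μ : k) • b ⟨μ, i⟩ := by
    intro μ i
    have h1 : b ⟨μ, i⟩ = ((v μ i : X.eigenspace (μ : k)) : W) :=
      congrFun (hint.collectedBasis_coe v) ⟨μ, i⟩
    rw [h1]
    exact Module.End.mem_eigenspace_iff.1 (v μ i).2
  have hn : finrank k W = ∑ μ : R, m μ := by
    rw [Module.finrank_eq_card_basis b, Fintype.card_sigma]
    simp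
  constructor
  · rw [hn, ← Finset.sum_coe_sort R]
  · -- the matrix of X
    let d : (Σ μ : R, Fin (m μ)) → k := fun p => (p.1 : k)
    have hXmat : LinearMap.toMatrix b b X = Matrix.diagonal d := by
      ext p p'
      rw [LinearMap.toMatrix_apply, hb p'.1 p'.2, map_smul, Finsupp.smul_apply, Basis.repr_self,
        Matrix.diagonal_apply]
      by_cases hpp : p = p'
      · subst hpp
        simp [d]
      · rw [if_neg hpp]
        have : (Finsupp.single (⟨p'.fst, p'.snd⟩ : (Σ μ : R, Fin (m μ))) (1 : k)) p = 0 := by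
          apply Finsupp.single_eq_of_ne
          intro h
          apply hpp
          rw [h]
        rw [this, smul_zero]
    have hequiv : finrank k (commutant X) = finrank k (diagComm d) := by
      let e := LinearMap.toMatrix b b
      have hmap : (commutant X).map (e : Module.End k W →ₗ[k] Matrix _ _ k) = diagComm d := by
        ext M
        constructor
        · rintro ⟨T, hT, rfl⟩
          show e T * Matrix.diagonal d = Matrix.diagonal d * e T
          rw [← hXmat]
          show LinearMap.toMatrix b b T * LinearMap.toMatrix b b X = LinearMap.toMatrix b b X * LinearMap.toMatrix b b T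
          rw [← LinearMap.toMatrix_mul, ← LinearMap.toMatrix_mul]
          exact congrArg _ hT
        · intro hM
          refine ⟨e.symm M, ?_, e.apply_symm_apply M⟩
          show e.symm M * X = X * e.symm M
          apply e.injective
          show LinearMap.toMatrix b b (e.symm M * X) = LinearMap.toMatrix b b (X * e.symm M)
          rw [LinearMap.toMatrix_mul, LinearMap.toMatrix_mul, hXmat]
          have : LinearMap.toMatrix b b (e.symm M) = M := e.apply_symm_apply M
          rw [this]
          exact hM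
      rw [← hmap]
      exact (LinearEquiv.finrank_map_eq e (commutant X)).symm
    rw [hequiv, finrank_diagComm, ← Finset.sum_coe_sort R]
    -- count pairs
    have hcount : Fintype.card {p : (Σ μ : R, Fin (m μ)) × (Σ μ : R, Fin (m μ)) // d p.1 = d p.2}
        = Fintype.card (Σ μ : R, Fin (m μ) × Fin (m μ)) := by
      apply Fintype.card_congr
      refine ⟨fun p => ⟨p.1.1.1, (p.1.1.2, ?_)⟩, fun s => ⟨(⟨s.1, s.2.1⟩, ⟨s.1, s.2.2⟩), rfl⟩, ?_, ?_⟩
      · have h : p.1.1.1 = p.1.2.1 := Subtype.ext p.2
        exact h ▸ p.1.2.2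
      · rintro ⟨⟨⟨μ, i⟩, ⟨ν, j⟩⟩, h⟩
        have h' : μ = ν := Subtype.ext h
        subst h'
        rfl
      · rintro ⟨μ, i, j⟩
        rfl
    rw [hcount, Fintype.card_sigma]
    apply Finset.sum_congr rfl
    intro μ _
    rw [Fintype.card_prod, Fintype.card_fin, sq]

end Commutant


theorem nt_core (r n f S c : ℤ) (hn : 1 ≤ n) (hf : 1 ≤ f) (hS1 : n ≤ S) (hS2 : n ^ 2 ≤ c * S) (hc : c + 1 ≤ r) (hc0 : 0 ≤ c)
    (heq : r * S + f = n ^ 2 + r) : f = 1 ∧ (n = 1 ∨ n + 1 = r) := by
  have hS0 : 0 ≤ S := le_trans (by linarith) hS1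
  have h1 : n ^ 2 ≤ (r - 1) * S := le_trans hS2 (mul_le_mul_of_nonneg_right (by linarith) hS0)
  have h2 : r * n ^ 2 ≤ (r - 1) * (n ^ 2 + r - f) := by
    have : r * n ^ 2 ≤ r * ((r - 1) * S) := mul_le_mul_of_nonneg_left h1 (by linarith)
    have h3 : r * ((r - 1) * S) = (r - 1) * (n ^ 2 + r - f) := by
      have : r * S = n ^ 2 + r - f := by linarith
      rw [← this]; ring
    linarith
  have h3 : n ^ 2 ≤ (r - 1) * (r - f) := by nlinarith
  have h4 : n ≤ r - 1 := by
    have h5 : (r - 1) * (r - f) ≤ (r - 1) * (r - 1) := mul_le_mul_of_nonneg_left (by linarith) (by linarith)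
    nlinarith
  have h5 : r * n ≤ n ^ 2 + r - f := by
    have : r * n ≤ r * S := mul_le_mul_of_nonneg_left hS1 (by linarith)
    linarith
  obtain ⟨a, ha⟩ : ∃ a : ℤ, a = r - 1 - n := ⟨_, rfl⟩
  have ha0 : 0 ≤ a := by linarith
  have h6 : 0 ≤ 1 - f + a * (1 - n) := by
    have : r = n + 1 + a := by linarith
    subst this
    nlinarith
  have h7 : a * (1 - n) ≤ 0 := mul_nonpos_of_nonneg_of_nonpos ha0 (by linarith)
  have hf1 : f = 1 := by linarith
  refine ⟨hf1, ?_⟩
  have h8 : a * (1 - n) = 0 := by subst hf1; linarith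
  rcases mul_eq_zero.1 h8 with h9 | h9
  · right; linarith
  · left; linarith

theorem nt_lemma {k : Type*} [DecidableEq k] [One k] (R : Finset k) (m : k → ℕ) (r n f : ℕ) (hR : R.card ≤ r)
    (one_mem : (1 : k) ∈ R) (h1 : m 1 = 0) (hsum : ∑ μ ∈ R, m μ = n) (hn : 1 ≤ n) (hf : 1 ≤ f)
    (heq : r * ∑ μ ∈ R, (m μ) ^ 2 + f = n ^ 2 + r) : f = 1 ∧ (n = 1 ∨ n + 1 = r) := by
  set R' := R.erase 1 with hR'
  have hsum' : ∑ μ ∈ R', m μ = n := by
    rw [← hsum, ← Finset.add_sum_erase R m one_mem, h1, zero_add]
  have hsq' : ∑ μ ∈ R', (m μ) ^ 2 = ∑ μ ∈ R, (m μ) ^ 2 := by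
    have h0 := Finset.add_sum_erase R (fun μ => (m μ) ^ 2) one_mem
    simp only [h1] at h0
    rw [← h0, hR']
    simp
  have hcard : R'.card + 1 ≤ r := by
    rw [hR', Finset.card_erase_of_mem one_mem]
    have : 1 ≤ R.card := Finset.card_pos.2 ⟨1, one_mem⟩
    omega
  have hS1 : n ≤ ∑ μ ∈ R', (m μ) ^ 2 := by
    rw [← hsum']
    apply Finset.sum_le_sum
    intro μ _
    nlinarith [Nat.zero_le (m μ)]
  have hS2 : n ^ 2 ≤ R'.card * ∑ μ ∈ R', (m μ) ^ 2 := by
    rw [← hsum']
    exact sq_sum_le_card_mul_sum_sq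
  have key := nt_core (r : ℤ) n f ((∑ μ ∈ R', (m μ) ^ 2 : ℕ) : ℤ) (R'.card : ℤ) (by exact_mod_cast hn)
    (by exact_mod_cast hf) (by exact_mod_cast hS1) (by exact_mod_cast hS2) (by exact_mod_cast hcard)
    (by positivity) (by rw [hsq']; exact_mod_cast heq)
  obtain ⟨k1, k2⟩ := key
  refine ⟨by exact_mod_cast k1, ?_⟩
  rcases k2 with k2 | k2
  · left; exact_mod_cast k2
  · right; exact_mod_cast k2

section Small
variable {k W : Type*} [Field k] [AddCommGroup W] [Module k W]

theorem scalar_of_central (M : Module.End k W) (h : ∀ T : Module.End k W, T * M = M * T) :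
    ∃ c : k, M = c • 1 := by
  have h1 : M ∈ Set.center (Module.End k W) := by
    rw [Semigroup.mem_center_iff]
    exact h
  obtain ⟨α, hα, h2⟩ := Module.End.mem_center_iff.1 h1
  refine ⟨α, ?_⟩
  rw [h2]
  rfl

theorem scalar_of_finrank_one (hW : finrank k W = 1) (T : Module.End k W) : ∃ c : k, T = c • 1 := by
  obtain ⟨v, hv0, hv⟩ := finrank_eq_one_iff'.1 hW
  obtain ⟨c, hc⟩ := hv (T v)
  refine ⟨c, ?_⟩
  refine LinearMap.ext fun w => ?_
  obtain ⟨d, hd⟩ := hv w
  rw [← hd, map_smul, ← hc, LinearMap.smul_apply, Module.End.one_apply, smul_comm]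

/-- conjugation by proportional invertible operators agree -/
theorem conj_eq_of_smul (a a' b b' T : Module.End k W) (haa : a * a' = 1) (hbb : b * b' = 1)
    (hb'b : b' * b = 1) (c : k) (hab : a = c • b) : a * T * a' = b * T * b' := by
  by_cases hc : c = 0
  · have h0 : (1 : Module.End k W) = 0 := by rw [← haa, hab, hc, zero_smul, zero_mul]
    have hs : ∀ S : Module.End k W, S = 0 := fun S => by rw [← mul_one S, h0, mul_zero]
    rw [hs (a * T * a'), hs (b * T * b')]
  · have h1 : a' = c⁻¹ • b' := by
      have h2 : b' * a = c • 1 := by rw [hab, mul_smul_comm, hb'b]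
      calc a' = (c⁻¹ • (c • (1 : Module.End k W))) * a' := by
              rw [smul_smul, inv_mul_cancel₀ hc, one_smul, one_mul]
        _ = c⁻¹ • (b' * a * a') := by rw [← h2, smul_mul_assoc]
        _ = c⁻¹ • b' := by rw [mul_assoc, haa, mul_one]
    rw [hab, h1, smul_mul_assoc, smul_mul_assoc, mul_smul_comm, smul_smul, mul_inv_cancel₀ hc, one_smul]

end Small

section FixFree
variable {k V H : Type*} [Field k] [AddCommGroup V] [Module k V] [FiniteDimensional k V]
  [Group H] [Finite H]
open Cfsg.Agent.H1.FrobFree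

theorem finrank_fix_free (σ : H →* (V →ₗ[k] V)) (W : Submodule k V)
    (h1 : iSupIndep (fun h => W.map (σ h))) (h2 : ⨆ h, W.map (σ h) = ⊤)
    (F : Submodule k V) (hF : ∀ v, v ∈ F ↔ ∀ h : H, σ h v = v) :
    finrank k F = finrank k W := by
  classical
  haveI := Fintype.ofFinite H
  have hσmul : ∀ (g h : H) (v : V), σ (g * h) v = σ g (σ h v) := by
    intro g h v
    rw [map_mul]; rfl
  let τ : W →ₗ[k] F :=
    { toFun := fun w => ⟨∑ h, σ h (w : V), by
        rw [hF]
        intro g
        rw [map_sum]
        apply Fintype.sum_equiv (Equiv.mulLeft g)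
        intro h
        rw [Equiv.coe_mulLeft, hσmul]⟩
      map_add' := by
        intro a b
        apply Subtype.ext
        simp only [Submodule.coe_add, map_add, Finset.sum_add_distrib]
      map_smul' := by
        intro c a
        apply Subtype.ext
        simp only [Submodule.coe_smul, map_smul, RingHom.id_apply, Finset.smul_sum] }
  have hτapp : ∀ w : W, ((τ w : F) : V) = ∑ h, σ h (w : V) := fun w => rfl
  have hτ : Function.Bijective τ := by
    constructor
    · intro a b hab
      have hab' : ∑ h, σ h (a : V) = ∑ h, σ h (b : V) := by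
        rw [← hτapp, ← hτapp, hab]
      have h3 : ∑ h, σ h ((a : V) - (b : V)) = 0 := by
        simp only [map_sub, Finset.sum_sub_distrib]
        exact sub_eq_zero.2 hab'
      have h4 := forall_sum_of_iSupIndep h1 (fun h => σ h ((a : V) - (b : V)))
        (fun h => Submodule.mem_map_of_mem (W.sub_mem a.2 b.2)) h3 1
      simp only [map_one, Module.End.one_apply] at h4
      exact Subtype.ext (sub_eq_zero.1 h4)
    · rintro ⟨v, hvF⟩
      have hvfix := (hF v).1 hvF
      have hv : v ∈ ⨆ h, W.map (σ h) := by rw [h2]; exact Submodule.mem_top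
      obtain ⟨μ, hμ1, hμ2⟩ := exists_sum_of_mem_iSup _ v hv
      choose w hw hwμ using fun h => Submodule.mem_map.1 (hμ1 h)
      have hweq : ∀ g : H, w g = w 1 := by
        intro g
        have h3 : ∑ h, σ h (w (g * h) - w h) = 0 := by
          simp only [map_sub, Finset.sum_sub_distrib]
          rw [sub_eq_zero]
          have e1 : ∑ h, σ h (w h) = v := by simp only [hwμ]; exact hμ2
          rw [e1]
          have e2 : ∑ h, σ h (w (g * h)) = σ g⁻¹ (∑ h, σ h (w h)) := by
            rw [map_sum]
            symm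
            apply Fintype.sum_equiv (Equiv.mulLeft g⁻¹)
            intro h
            rw [Equiv.coe_mulLeft, ← hσmul, mul_inv_cancel_left]
          rw [e2, e1, hvfix]
        have h4 := forall_sum_of_iSupIndep h1 (fun h => σ h (w (g * h) - w h))
          (fun h => Submodule.mem_map_of_mem (W.sub_mem (hw _) (hw _))) h3 1
        simp only [map_one, Module.End.one_apply, mul_one] at h4
        exact sub_eq_zero.1 h4
      refine ⟨⟨w 1, hw 1⟩, ?_⟩
      apply Subtype.ext
      show ∑ h, σ h (w 1) = v
      rw [← hμ2]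
      apply Finset.sum_congr rfl
      intro h _
      rw [← hwμ h, hweq h]
  exact ((LinearEquiv.ofBijective τ hτ).finrank_eq).symm

end FixFree

end Cfsg.Agent.H2.HH
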