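import Mathlib
import Cfsg.Agent.H2.HHa
import Cfsg.Agent.H1.FrobFixA

namespace Cfsg.Agent.H2.HH

open Module
open Cfsg.Agent.H1.FrobFree

section Core
variable {k : Type*} [Field k] {W : Type*} [AddCommGroup W] [Module k W]
  {Γ : Type*} [Group Γ]

/-- conjugation representation on `End W` -/
noncomputable def conjRep (ρ : Representation k Γ W) : Representation k Γ (Module.End k W) :=
  Representation.linHom ρ ρ

theorem conjRep_apply (ρ : Representation k Γ W) (g : Γ) (T : Module.End k W) :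
    conjRep ρ g T = ρ g * T * ρ g⁻¹ := by
  rw [conjRep, Representation.linHom_apply]
  rfl

theorem rho_mul_inv (ρ : Representation k Γ W) (a : Γ) : ρ a * ρ a⁻¹ = 1 := by
  rw [← map_mul, mul_inv_cancel, map_one]

theorem rho_inv_mul (ρ : Representation k Γ W) (a : Γ) : ρ a⁻¹ * ρ a = 1 := by
  rw [← map_mul, inv_mul_cancel, map_one]

theorem conjRep_eq_of_smul (ρ : Representation k Γ W) (a b : Γ) (c : k) (hab : ρ a = c • ρ b) :
    conjRep ρ a = conjRep ρ b := by
  refine LinearMap.ext fun T => ?_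
  rw [conjRep_apply, conjRep_apply]
  exact conj_eq_of_smul (ρ a) (ρ a⁻¹) (ρ b) (ρ b⁻¹) T (rho_mul_inv ρ a) (rho_mul_inv ρ b)
    (rho_inv_mul ρ b) c hab

theorem smul_of_conjRep_eq (ρ : Representation k Γ W) (a b : Γ) (hab : conjRep ρ a = conjRep ρ b) :
    ∃ c : k, ρ a = c • ρ b := by
  have hM : ∀ T : Module.End k W, T * (ρ b⁻¹ * ρ a) = (ρ b⁻¹ * ρ a) * T := by
    intro T
    have h3 : ρ a * T * ρ a⁻¹ = ρ b * T * ρ b⁻¹ := by
      rw [← conjRep_apply, ← conjRep_apply, hab]
    have h4 : ρ b⁻¹ * (ρ a * T * ρ a⁻¹) * ρ a = ρ b⁻¹ * (ρ b * T * ρ b⁻¹) * ρ a := by rw [h3]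
    have e1 : ρ b⁻¹ * (ρ a * T * ρ a⁻¹) * ρ a = ρ b⁻¹ * ρ a * T * (ρ a⁻¹ * ρ a) := by
      simp only [mul_assoc]
    have e2 : ρ b⁻¹ * (ρ b * T * ρ b⁻¹) * ρ a = (ρ b⁻¹ * ρ b) * T * (ρ b⁻¹ * ρ a) := by
      simp only [mul_assoc]
    rw [e1, e2, rho_inv_mul, rho_inv_mul, mul_one, one_mul] at h4
    exact h4.symm
  obtain ⟨c, hc⟩ := scalar_of_central _ hM
  refine ⟨c, ?_⟩
  calc ρ a = (ρ b * ρ b⁻¹) * ρ a := by rw [rho_mul_inv, one_mul]
    _ = ρ b * (ρ b⁻¹ * ρ a) := by rw [mul_assoc]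
    _ = c • ρ b := by rw [hc, mul_smul_comm, mul_one]

end Core

section CoreMain
variable {k : Type*} [Field k] [IsAlgClosed k] {W : Type*} [AddCommGroup W] [Module k W]
  [FiniteDimensional k W] {Γ : Type*} [Group Γ] [Finite Γ]

theorem core (ρ : Representation k Γ W) (Q : Subgroup Γ) [hQn : Q.Normal] (x : Γ) (r : ℕ)
    (hr : r.Prime) (hxr : x ^ r = 1) (hrk : (r : k) ≠ 0) (hQk : (Nat.card Q : k) ≠ 0)
    (hirr : ∀ U : Submodule k W, (∀ g ∈ Q, ∀ u ∈ U, ρ g u ∈ U) → (∀ u ∈ U, ρ x u ∈ U) →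
      U = ⊥ ∨ U = ⊤)
    (hCW : ∀ w, ρ x w = w → w = 0)
    (h1 : ∀ g ∈ Q, ∀ h ∈ Q, ∃ c : k, ρ g * ρ h = c • (ρ h * ρ g))
    (h2 : ∀ g ∈ Q, ∀ j : ℤ, ¬ (r : ℤ) ∣ j →
      (∃ c : k, ρ g * ρ (x ^ j) = c • (ρ (x ^ j) * ρ g)) → ∃ c : k, ρ g = c • 1) :
    (∀ g ∈ Q, ∃ c : k, ρ g = c • 1) ∨
      ((∀ T : Module.End k W, (∀ g ∈ Q, T * ρ g = ρ g * T) → ∃ c : k, T = c • 1) ∧
        finrank k W + 1 = r) := by
  classical
  by_cases hW : Subsingleton W
  · left
    intro g _
    exact ⟨0, LinearMap.ext fun w => Subsingleton.elim _ _⟩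
  rw [not_subsingleton_iff_nontrivial] at hW
  set σ := conjRep ρ with hσ
  have hσapp : ∀ (g : Γ) (T : Module.End k W), σ g T = ρ g * T * ρ g⁻¹ := conjRep_apply ρ
  have hσeq : ∀ (a b : Γ) (c : k), ρ a = c • ρ b → σ a = σ b := conjRep_eq_of_smul ρ
  have hσeq' : ∀ a b : Γ, σ a = σ b → ∃ c : k, ρ a = c • ρ b := smul_of_conjRep_eq ρ
  have hσfix : ∀ (g : Γ) (T : Module.End k W), σ g T = T ↔ T * ρ g = ρ g * T := by
    intro g T
    rw [hσapp]
    constructor
    · intro h
      calc T * ρ g = (ρ g * T * ρ g⁻¹) * ρ g := by rw [h]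
        _ = ρ g * T * (ρ g⁻¹ * ρ g) := by simp only [mul_assoc]
        _ = ρ g * T := by rw [rho_inv_mul, mul_one]
    · intro h
      rw [← h, mul_assoc, rho_mul_inv, mul_one]
  -- the quotient group
  set N : Subgroup Γ := MonoidHom.ker σ with hN
  let π : Γ →* Γ ⧸ N := QuotientGroup.mk' N
  let σ' : Representation k (Γ ⧸ N) (Module.End k W) := QuotientGroup.lift N σ (le_refl _)
  have hσ' : ∀ g : Γ, σ' (π g) = σ g := fun g => rfl
  have hπeq : ∀ a b : Γ, π a = π b ↔ σ a = σ b := by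
    intro a b
    constructor
    · intro h
      rw [← hσ', ← hσ', h]
    · intro h
      apply QuotientGroup.eq.2
      rw [hN, MonoidHom.mem_ker, map_mul, ← h, ← map_mul, inv_mul_cancel, map_one]
  have hπsurj : Function.Surjective π := QuotientGroup.mk'_surjective N
  set QA : Subgroup (Γ ⧸ N) := Q.map π with hQA
  have hQAn : QA.Normal := Subgroup.Normal.map hQn π hπsurj
  set Hc : Subgroup (Γ ⧸ N) := Subgroup.zpowers (π x) with hHc
  by_cases hx1 : π x = 1
  · -- x acts as a scalar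
    left
    intro g hg
    have h3 : σ x = σ 1 := by rw [← hπeq, hx1, map_one]
    obtain ⟨c, hc⟩ := hσeq' x 1 h3
    rw [map_one] at hc
    apply h2 g hg 1
    · intro hdvd
      have := Int.natAbs_dvd_natAbs.2 hdvd
      simp at this
      exact hr.one_lt.ne' this
    · refine ⟨1, ?_⟩
      rw [zpow_one, hc, one_smul, mul_smul_comm, smul_mul_assoc, mul_one, one_mul]
  -- main case
  obtain ⟨V1, V2, hV1, hdis, hsup, hV1inv, hV2inv⟩ := fix_ker_decomp σ Q hQk
  have hV2inv' : ∀ a : Γ ⧸ N, ∀ v ∈ V2, σ' a v ∈ V2 := by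
    intro a v hv
    obtain ⟨g, rfl⟩ := hπsurj a
    exact hV2inv g v hv
  set τ : Representation k (Γ ⧸ N) V2 := resRep σ' V2 hV2inv' with hτ
  have hτapp : ∀ (g : Γ) (v : V2), ((τ (π g) v : V2) : Module.End k W) = σ g (v : Module.End k W) :=
    fun g v => rfl
  have hone1 : (1 : Module.End k W) ∈ V1 := by
    rw [hV1]
    intro q _
    rw [hσapp, mul_one, rho_mul_inv]
  have hcardQA : (Nat.card QA : k) ≠ 0 := by
    intro h0
    obtain ⟨m, hm⟩ := Subgroup.card_map_dvd (H := Q) π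
    apply hQk
    rw [hm, Nat.cast_mul, h0, zero_mul]
  have hfree := free_of_commuting τ Hc QA
    (fun h _ q hq => hQAn.conj_mem q hq h)
    (by
      rintro q ⟨g, hg, rfl⟩ q' ⟨g', hg', rfl⟩
      rw [← map_mul, ← map_mul, ← map_mul, ← map_mul]
      congr 1
      rw [hπeq]
      obtain ⟨c, hc⟩ := h1 g hg g' hg'
      apply hσeq _ _ c
      rw [map_mul, map_mul, hc])
    hcardQA
    (by
      intro h hh hne q hq hcomm
      obtain ⟨j, rfl⟩ := Subgroup.mem_zpowers_iff.1 hh
      obtain ⟨g, hg, rfl⟩ := hq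
      have hj : ¬ (r : ℤ) ∣ j := by
        rintro ⟨m, hm⟩
        apply hne
        rw [hm, zpow_mul, zpow_natCast, ← map_pow, hxr, map_one, one_zpow]
      have h3 : π (g * x ^ j) = π (x ^ j * g) := by
        rw [map_mul, map_mul, map_zpow]
        exact hcomm
      rw [hπeq] at h3
      obtain ⟨c, hc⟩ := hσeq' _ _ h3
      obtain ⟨c', hc'⟩ := h2 g hg j hj ⟨c, by rw [← map_mul, ← map_mul, hc]⟩
      have h4 : π g = π 1 := by
        rw [hπeq]
        apply hσeq _ _ c'
        rw [hc', map_one]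
      rw [h4, map_one])
    (by
      intro v hv
      have h3 : (v : Module.End k W) ∈ V1 := by
        rw [hV1]
        intro q hq
        have h4 := hv (π q) (Subgroup.mem_map_of_mem π hq)
        rw [← hτapp, h4]
      have h4 : (v : Module.End k W) ∈ V1 ⊓ V2 := ⟨h3, v.2⟩
      rw [hdis, Submodule.mem_bot] at h4
      exact Subtype.ext h4)
  obtain ⟨W₀, hind, hsupW⟩ := hfree
  -- the order of Hc
  haveI : Fact r.Prime := ⟨hr⟩
  have hord : orderOf (π x) = r := by
    apply orderOf_eq_prime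
    · rw [← map_pow, hxr, map_one]
    · exact hx1
  have hcardHc : Nat.card Hc = r := by rw [hHc, Nat.card_zpowers, hord]
  have hfr1 : finrank k V2 = r * finrank k W₀ := by
    have := Cfsg.Agent.H1.FrobAb.finrank_free (τ.comp Hc.subtype) W₀ hind hsupW
    rw [hcardHc] at this
    exact this
  -- fixed points of x on V2
  set C : Submodule k (Module.End k W) := commutant (ρ x) with hC
  have hCmem : ∀ T : Module.End k W, T ∈ C ↔ σ x T = T := by
    intro T
    rw [hσfix, hC, mem_commutant]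
  set F2 : Submodule k V2 := C.comap V2.subtype with hF2
  have hfixpow : ∀ (v : V2), τ (π x) v = v → ∀ j : ℤ, τ ((π x) ^ j) v = v := by
    intro v hv j
    have hinv : τ (π x)⁻¹ v = v := by
      conv_lhs => rw [← hv]
      rw [← Module.End.mul_apply, ← map_mul, inv_mul_cancel, map_one, Module.End.one_apply]
    induction j using Int.induction_on with
    | zero => rw [zpow_zero, map_one, Module.End.one_apply]
    | succ i ih => rw [zpow_add_one, map_mul, Module.End.mul_apply, hv, ih]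
    | pred i ih => rw [zpow_sub_one, map_mul, Module.End.mul_apply, hinv, ih]
  have hF2mem : ∀ v : V2, v ∈ F2 ↔ ∀ h : Hc, (τ.comp Hc.subtype) h v = v := by
    intro v
    rw [hF2, Submodule.mem_comap, Submodule.subtype_apply, hCmem]
    constructor
    · intro hv h
      obtain ⟨j, hj⟩ := Subgroup.mem_zpowers_iff.1 h.2
      show τ (h : Γ ⧸ N) v = v
      rw [← hj]
      apply hfixpow v
      apply Subtype.ext
      rw [hτapp, hv]
    · intro hv
      have h3 := hv ⟨π x, Subgroup.mem_zpowers _⟩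
      have h4 : τ (π x) v = v := h3
      rw [← hτapp, h4]
  have hfr2 : finrank k F2 = finrank k W₀ :=
    finrank_fix_free (τ.comp Hc.subtype) W₀ hind hsupW F2 hF2mem
  have hfr3 : finrank k ↥(V2 ⊓ C) = finrank k W₀ := by
    rw [← hfr2, hF2, ← Submodule.map_comap_subtype, Submodule.finrank_map_subtype_eq]
  -- Schur
  have hschur : V1 ⊓ C = Submodule.span k {(1 : Module.End k W)} := by
    apply le_antisymm
    · rintro T ⟨hT1, hT2⟩
      rw [SetLike.mem_coe, hV1] at hT1
      rw [SetLike.mem_coe, hCmem, hσfix] at hT2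
      have hT1' : ∀ g ∈ Q, T * ρ g = ρ g * T := fun g hg => (hσfix g T).1 (hT1 g hg)
      obtain ⟨μ, hμ⟩ := Module.End.exists_eigenvalue T
      have hU := hirr (T.eigenspace μ)
        (by
          intro g hg u hu
          rw [Module.End.mem_eigenspace_iff] at hu ⊢
          rw [← Module.End.mul_apply, hT1' g hg, Module.End.mul_apply, hu, map_smul])
        (by
          intro u hu
          rw [Module.End.mem_eigenspace_iff] at hu ⊢
          rw [← Module.End.mul_apply, hT2, Module.End.mul_apply, hu, map_smul])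
      rcases hU with hU | hU
      · exact absurd hU hμ
      · rw [Submodule.mem_span_singleton]
        refine ⟨μ, ?_⟩
        refine LinearMap.ext fun w => ?_
        have hw : w ∈ T.eigenspace μ := by rw [hU]; exact Submodule.mem_top
        rw [Module.End.mem_eigenspace_iff] at hw
        rw [hw, LinearMap.smul_apply, Module.End.one_apply]
    · rw [Submodule.span_singleton_le_iff_mem]
      refine ⟨hone1, ?_⟩
      rw [SetLike.mem_coe, hCmem, hσapp, mul_one, rho_mul_inv]
  have hfr4 : finrank k ↥(V1 ⊓ C) = 1 := by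
    rw [hschur]
    exact finrank_span_singleton one_ne_zero
  -- C = (V1 ⊓ C) ⊕ (V2 ⊓ C)
  have hCsup : (V1 ⊓ C) ⊔ (V2 ⊓ C) = C := by
    apply le_antisymm
    · exact sup_le inf_le_right inf_le_right
    · intro T hT
      have hTtop : T ∈ V1 ⊔ V2 := by rw [hsup]; exact Submodule.mem_top
      obtain ⟨T1, hT1, T2, hT2, rfl⟩ := Submodule.mem_sup.1 hTtop
      rw [hCmem, map_add] at hT
      have h3 : σ x T1 - T1 = T2 - σ x T2 := by
        rw [sub_eq_sub_iff_add_eq_add, hT, add_comm]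
      have h4 : σ x T1 - T1 ∈ V1 ⊓ V2 := by
        refine ⟨V1.sub_mem (hV1inv x T1 hT1) hT1, ?_⟩
        rw [SetLike.mem_coe, h3]
        exact V2.sub_mem hT2 (hV2inv x T2 hT2)
      rw [hdis, Submodule.mem_bot] at h4
      have h5 : σ x T1 = T1 := sub_eq_zero.1 h4
      have h6 : σ x T2 = T2 := by
        rw [h4] at h3
        exact (sub_eq_zero.1 h3.symm).symm
      exact Submodule.add_mem_sup ⟨hT1, (hCmem T1).2 h5⟩ ⟨hT2, (hCmem T2).2 h6⟩
  have hCinf : (V1 ⊓ C) ⊓ (V2 ⊓ C) = ⊥ := by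
    rw [eq_bot_iff, ← hdis]
    exact inf_le_inf inf_le_left inf_le_left
  have hfr5 : finrank k C = 1 + finrank k W₀ := by
    have := Submodule.finrank_sup_add_finrank_inf_eq (V1 ⊓ C) (V2 ⊓ C)
    rw [hCsup, hCinf, finrank_bot, add_zero, hfr4, hfr3] at this
    exact this
  have hfr6 : finrank k V1 + r * finrank k W₀ = finrank k W * finrank k W := by
    have := Submodule.finrank_sup_add_finrank_inf_eq V1 V2
    rw [hsup, hdis, finrank_bot, add_zero, finrank_top, hfr1, Module.finrank_linearMap] at this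
    exact this.symm
  -- numerics
  have hXr : (ρ x) ^ r = 1 := by rw [← map_pow, hxr, map_one]
  obtain ⟨hsum1, hsum2⟩ := commutant_finrank (ρ x) r hr.pos hrk hXr
  set R := Polynomial.nthRootsFinset r (1 : k) with hRdef
  have hRcard : R.card ≤ r := by
    rw [hRdef, Polynomial.nthRootsFinset_def]
    exact le_trans (Multiset.toFinset_card_le _) (Polynomial.card_nthRoots r 1)
  have hone_mem : (1 : k) ∈ R := by
    rw [hRdef, Polynomial.mem_nthRootsFinset hr.pos, one_pow]
  have hm1 : finrank k (Module.End.eigenspace (ρ x) 1) = 0 := by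
    have : Module.End.eigenspace (ρ x) 1 = ⊥ := by
      rw [eq_bot_iff]
      intro w hw
      rw [Module.End.mem_eigenspace_iff, one_smul] at hw
      rw [Submodule.mem_bot]
      exact hCW w hw
    rw [this, finrank_bot]
  have hn : 1 ≤ finrank k W := Module.finrank_pos
  have hf : 1 ≤ finrank k V1 := by
    rw [Submodule.one_le_finrank_iff]
    intro h0
    rw [h0, Submodule.mem_bot] at hone1
    exact one_ne_zero hone1
  have heq : r * ∑ μ ∈ R, (finrank k (Module.End.eigenspace (ρ x) μ)) ^ 2 + finrank k V1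
      = (finrank k W) ^ 2 + r := by
    rw [hsum2, hfr5, sq, ← hfr6]
    ring
  obtain ⟨hf1, hn1⟩ := nt_lemma R (fun μ => finrank k (Module.End.eigenspace (ρ x) μ)) r (finrank k W)
    (finrank k V1) hRcard hone_mem hm1 hsum1 hn hf heq
  rcases hn1 with hn1 | hn1
  · left
    intro g _
    exact scalar_of_finrank_one hn1 (ρ g)
  · right
    refine ⟨?_, hn1⟩
    intro T hT
    have hTV1 : T ∈ V1 := by
      rw [hV1]
      intro q hq
      rw [hσfix]
      exact hT q hq
    have h3 := (finrank_eq_one_iff_of_nonzero' (⟨1, hone1⟩ : V1)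
      (by intro h0; exact one_ne_zero (congrArg Subtype.val h0))).1 hf1 ⟨T, hTV1⟩
    obtain ⟨c, hc⟩ := h3
    exact ⟨c, (congrArg Subtype.val hc).symm⟩

end CoreMain

end Cfsg.Agent.H2.HH
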