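import Mathlib
import Cfsg.Agent.H2.HHb

namespace Cfsg.Agent.H2.HH

open Module

universe u

theorem exists_common_eigenvector {k : Type*} [Field k] [IsAlgClosed k] (n : ℕ) :
    ∀ (W : Type u) [AddCommGroup W] [Module k W] [FiniteDimensional k W] [Nontrivial W],
    finrank k W = n →
    ∀ (S : Set (Module.End k W)), (∀ a ∈ S, ∀ b ∈ S, a * b = b * a) →
    ∃ v : W, v ≠ 0 ∧ ∀ a ∈ S, ∃ c : k, a v = c • v := by
  induction n using Nat.strong_induction_on with
  | _ n ih =>
    intro W _ _ _ _ hn S hS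
    by_cases hsc : ∀ a ∈ S, ∃ c : k, a = c • 1
    · obtain ⟨v, hv⟩ := exists_ne (0 : W)
      refine ⟨v, hv, fun a ha => ?_⟩
      obtain ⟨c, hc⟩ := hsc a ha
      exact ⟨c, by rw [hc, LinearMap.smul_apply, Module.End.one_apply]⟩
    · push Not at hsc
      obtain ⟨a, haS, ha⟩ := hsc
      obtain ⟨μ, hμ⟩ := Module.End.exists_eigenvalue a
      set U := Module.End.eigenspace a μ with hUdef
      have hUbot : U ≠ ⊥ := hμ
      have hUtop : U ≠ ⊤ := by
        intro h
        apply ha μ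
        refine LinearMap.ext fun w => ?_
        have hw : w ∈ U := by rw [h]; exact Submodule.mem_top
        rw [hUdef, Module.End.mem_eigenspace_iff] at hw
        rw [hw, LinearMap.smul_apply, Module.End.one_apply]
      have hUinv : ∀ b ∈ S, ∀ u ∈ U, b u ∈ U := by
        intro b hb u hu
        rw [hUdef, Module.End.mem_eigenspace_iff] at hu ⊢
        rw [← Module.End.mul_apply, hS a haS b hb, Module.End.mul_apply, hu, map_smul]
      have hlt : finrank k U < n := by
        rw [← hn]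
        exact Submodule.finrank_lt hUtop
      haveI : Nontrivial U := Submodule.nontrivial_iff_ne_bot.2 hUbot
      let S' : Set (Module.End k U) := {T | ∃ b ∈ S, ∀ u : U, (T u : W) = b u}
      obtain ⟨v, hv0, hv⟩ := ih _ hlt U rfl S' (by
        rintro T₁ ⟨b₁, hb₁, h₁⟩ T₂ ⟨b₂, hb₂, h₂⟩
        refine LinearMap.ext fun u => Subtype.ext ?_
        rw [Module.End.mul_apply, Module.End.mul_apply, h₁, h₂, h₂, h₁, ← Module.End.mul_apply,
          hS b₁ hb₁ b₂ hb₂]
        rfl)
      refine ⟨v, fun h => hv0 (Subtype.ext h), fun b hb => ?_⟩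
      obtain ⟨c, hc⟩ := hv (b.restrict (hUinv b hb)) ⟨b, hb, fun u => rfl⟩
      exact ⟨c, congrArg Subtype.val hc⟩

theorem level1 {k : Type*} [Field k] [IsAlgClosed k] {W : Type u} [AddCommGroup W] [Module k W]
    [FiniteDimensional k W] [Nontrivial W] {Γ : Type*} [Group Γ] [Finite Γ]
    (ρ : Representation k Γ W) (Q : Subgroup Γ) (hQk : (Nat.card Q : k) ≠ 0)
    (hf : ∀ T : Module.End k W, (∀ g ∈ Q, T * ρ g = ρ g * T) → ∃ c : k, T = c • 1)
    (h1 : ∀ g ∈ Q, ∀ h ∈ Q, ∃ c : k, ρ g * ρ h = c • (ρ h * ρ g)) :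
    finrank k W ∣ Nat.card Q := by
  classical
  have hinj : ∀ (g : Γ) (v : W), ρ g v = 0 → v = 0 := by
    intro g v hv
    have : ρ g⁻¹ (ρ g v) = v := by
      rw [← Module.End.mul_apply, rho_inv_mul, Module.End.one_apply]
    rw [← this, hv, map_zero]
  -- a maximal subgroup with commutative image
  let P : Subgroup Γ → Prop := fun B => B ≤ Q ∧ ∀ a ∈ B, ∀ b ∈ B, ρ a * ρ b = ρ b * ρ a
  have hPbot : P ⊥ := ⟨bot_le, by
    intro a ha b hb
    rw [Subgroup.mem_bot] at ha hb
    rw [ha, hb]⟩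
  haveI : Nonempty {B : Subgroup Γ // P B} := ⟨⟨⊥, hPbot⟩⟩
  obtain ⟨⟨B, hBQ, hBc⟩, hBmax⟩ :=
    Finite.exists_max (fun B : {B : Subgroup Γ // P B} => Nat.card B.1)
  have hi : ∀ g ∈ Q, (∀ b ∈ B, ρ g * ρ b = ρ b * ρ g) → g ∈ B := by
    intro g hg hgb
    set B' := Subgroup.closure ((B : Set Γ) ∪ {g}) with hB'
    have hBB' : B ≤ B' := fun b hb => Subgroup.subset_closure (Or.inl hb)
    have hgB' : g ∈ B' := Subgroup.subset_closure (Or.inr rfl)
    have hB'Q : B' ≤ Q := by
      rw [hB', Subgroup.closure_le]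
      rintro y (hy | hy)
      · exact hBQ hy
      · rw [Set.mem_singleton_iff] at hy
        rw [hy]; exact hg
    have hB'c : ∀ a ∈ B', ∀ b ∈ B', ρ a * ρ b = ρ b * ρ a := by
      set ρu := Representation.asGroupHom ρ with hρu
      have hcomm : ∀ y ∈ ρu '' ((B : Set Γ) ∪ {g}), ∀ z ∈ ρu '' ((B : Set Γ) ∪ {g}),
          y * z = z * y := by
        rintro _ ⟨y, hy, rfl⟩ _ ⟨z, hz, rfl⟩
        apply Units.ext
        rw [Units.val_mul, Units.val_mul, Representation.asGroupHom_apply,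
          Representation.asGroupHom_apply]
        rcases hy with hy | hy <;> rcases hz with hz | hz
        · exact hBc y hy z hz
        · rw [Set.mem_singleton_iff] at hz
          rw [hz]; exact (hgb y hy).symm
        · rw [Set.mem_singleton_iff] at hy
          rw [hy]; exact hgb z hz
        · rw [Set.mem_singleton_iff] at hy hz
          rw [hy, hz]
      have hcl := Subgroup.closure_le_centralizer_centralizer (ρu '' ((B : Set Γ) ∪ {g}))
      intro a ha b hb
      have ha' : ρu a ∈ Subgroup.closure (ρu '' ((B : Set Γ) ∪ {g})) := by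
        rw [← MonoidHom.map_closure]; exact Subgroup.mem_map_of_mem _ ha
      have hb' : ρu b ∈ Subgroup.closure (ρu '' ((B : Set Γ) ∪ {g})) := by
        rw [← MonoidHom.map_closure]; exact Subgroup.mem_map_of_mem _ hb
      have h3 : ρu a * ρu b = ρu b * ρu a :=
        Set.centralizer_centralizer_comm_of_comm hcomm _ (hcl ha') _ (hcl hb')
      have h4 := congrArg Units.val h3
      rw [Units.val_mul, Units.val_mul, Representation.asGroupHom_apply,
        Representation.asGroupHom_apply] at h4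
      exact h4
    have h5 : Nat.card B' ≤ Nat.card B := hBmax ⟨B', hB'Q, hB'c⟩
    have h6 : B = B' := Subgroup.eq_of_le_of_card_ge hBB' h5
    rw [h6]; exact hgB'
  -- joint eigenvector
  obtain ⟨w, hw0, hw⟩ := exists_common_eigenvector (k := k) _ W rfl (ρ '' (B : Set Γ)) (by
    rintro _ ⟨a, ha, rfl⟩ _ ⟨b, hb, rfl⟩
    exact hBc a ha b hb)
  have hwB : ∀ b ∈ B, ∃ c : k, ρ b w = c • w := fun b hb => hw _ ⟨b, hb, rfl⟩
  have heig : ∀ g ∈ Q, ∀ b ∈ B, ∃ c : k, ρ b (ρ g w) = c • ρ g w := by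
    intro g hg b hb
    obtain ⟨c, hc⟩ := h1 b (hBQ hb) g hg
    obtain ⟨d, hd⟩ := hwB b hb
    refine ⟨c * d, ?_⟩
    rw [← Module.End.mul_apply, hc, LinearMap.smul_apply, Module.End.mul_apply, hd, map_smul,
      smul_smul]
  have hne : ∀ g : Γ, ρ g w ≠ 0 := fun g h => hw0 (hinj g w h)
  -- cosets
  set B₀ : Subgroup Q := B.subgroupOf Q with hB₀
  let rep : (Q ⧸ B₀) → Γ := fun i => ((Quotient.out i : Q) : Γ)⁻¹
  have hrepQ : ∀ i, rep i ∈ Q := fun i => Q.inv_mem (Quotient.out i).2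
  let u : (Q ⧸ B₀) → W := fun i => ρ (rep i) w
  have hu : ∀ i, u i = ρ (rep i) w := fun i => rfl
  choose χ hχ using fun (i : Q ⧸ B₀) (b : B) => heig (rep i) (hrepQ i) b b.2
  have hχinj : Function.Injective χ := by
    intro i j hij
    have hcomm : ∀ b ∈ B, ρ (rep j * (rep i)⁻¹) * ρ b = ρ b * ρ (rep j * (rep i)⁻¹) := by
      intro b hb
      obtain ⟨c, hc⟩ := h1 b (hBQ hb) (rep i) (hrepQ i)
      obtain ⟨c', hc'⟩ := h1 b (hBQ hb) (rep j) (hrepQ j)
      obtain ⟨d, hd⟩ := hwB b hb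
      have hd0 : d ≠ 0 := by
        intro h0
        rw [h0, zero_smul] at hd
        exact hw0 (hinj b w hd)
      have e1 : χ i ⟨b, hb⟩ = c * d := by
        have h3 := hχ i ⟨b, hb⟩
        rw [← Module.End.mul_apply, hc, LinearMap.smul_apply, Module.End.mul_apply, hd, map_smul,
          smul_smul] at h3
        have h4 : (c * d - χ i ⟨b, hb⟩) • ρ (rep i) w = 0 := by rw [sub_smul, h3, sub_self]
        rcases smul_eq_zero.1 h4 with h5 | h5
        · exact (sub_eq_zero.1 h5).symm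
        · exact absurd h5 (hne _)
      have e2 : χ j ⟨b, hb⟩ = c' * d := by
        have h3 := hχ j ⟨b, hb⟩
        rw [← Module.End.mul_apply, hc', LinearMap.smul_apply, Module.End.mul_apply, hd, map_smul,
          smul_smul] at h3
        have h4 : (c' * d - χ j ⟨b, hb⟩) • ρ (rep j) w = 0 := by rw [sub_smul, h3, sub_self]
        rcases smul_eq_zero.1 h4 with h5 | h5
        · exact (sub_eq_zero.1 h5).symm
        · exact absurd h5 (hne _)
      have hcc : c = c' := by
        have : c * d = c' * d := by rw [← e1, ← e2, hij]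
        exact mul_right_cancel₀ hd0 this
      have hT : ρ (rep i)⁻¹ * ρ b * ρ (rep i) = c • ρ b := by
        rw [mul_assoc, hc, mul_smul_comm, ← mul_assoc, rho_inv_mul, one_mul]
      have hT' : ρ (rep j)⁻¹ * ρ b * ρ (rep j) = c • ρ b := by
        rw [mul_assoc, hc', mul_smul_comm, ← mul_assoc, rho_inv_mul, one_mul, hcc]
      calc ρ (rep j * (rep i)⁻¹) * ρ b
          = ρ (rep j) * (ρ (rep i)⁻¹ * ρ b * ρ (rep i)) * ρ (rep i)⁻¹ := by
            rw [map_mul]
            simp only [mul_assoc]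
            rw [rho_mul_inv, mul_one]
        _ = ρ (rep j) * (ρ (rep j)⁻¹ * ρ b * ρ (rep j)) * ρ (rep i)⁻¹ := by rw [hT, hT']
        _ = ρ b * ρ (rep j * (rep i)⁻¹) := by
            rw [map_mul]
            simp only [← mul_assoc]
            rw [rho_mul_inv, one_mul]
    have hmem : rep j * (rep i)⁻¹ ∈ B := hi _ (Q.mul_mem (hrepQ j) (Q.inv_mem (hrepQ i))) hcomm
    have h7 : (Quotient.out j : Q)⁻¹ * (Quotient.out i : Q) ∈ B₀ := by
      refine Subgroup.mem_subgroupOf.2 ?_
      have : rep j * (rep i)⁻¹ = (((Quotient.out j : Q)⁻¹ * (Quotient.out i : Q) : Q) : Γ) := by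
        simp only [rep, inv_inv, Subgroup.coe_mul, Subgroup.coe_inv]
      rw [← this]
      exact hmem
    have h8 : (QuotientGroup.mk (Quotient.out j) : Q ⧸ B₀) = QuotientGroup.mk (Quotient.out i) :=
      QuotientGroup.eq.2 h7
    rw [QuotientGroup.out_eq', QuotientGroup.out_eq'] at h8
    exact h8.symm
  -- independence
  have hli : LinearIndependent k u := by
    let f : B → Module.End k W := fun b => ρ (b : Γ)
    have hind := Module.End.independent_iInf_maxGenEigenspace_of_forall_mapsTo f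
      (fun a b φ => Module.End.mapsTo_maxGenEigenspace_of_comm (hBc b b.2 a a.2) φ)
    have hind' := hind.comp hχinj
    apply iSupIndep.linearIndependent _ hind'
    · intro i
      show u i ∈ ⨅ b, (f b).maxGenEigenspace (χ i b)
      rw [Submodule.mem_iInf]
      intro b
      apply Module.End.eigenspace_le_maxGenEigenspace
      rw [Module.End.mem_eigenspace_iff]
      exact hχ i b
    · intro i
      exact hne _
  -- spanning
  set S : Submodule k W := Submodule.span k (Set.range u) with hS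
  have hA : ∀ g ∈ Q, ρ g⁻¹ w ∈ S := by
    intro g hg
    obtain ⟨b, hb⟩ := QuotientGroup.mk_out_eq_mul B₀ (⟨g, hg⟩ : Q)
    set i : Q ⧸ B₀ := QuotientGroup.mk (⟨g, hg⟩ : Q) with hidef
    have hbB : ((b : Q) : Γ) ∈ B := Subgroup.mem_subgroupOf.1 b.2
    have h3 : rep i = ((b : Q) : Γ)⁻¹ * g⁻¹ := by
      show ((Quotient.out i : Q) : Γ)⁻¹ = _
      rw [hb, Subgroup.coe_mul, mul_inv_rev]
    have h4 : g⁻¹ = ((b : Q) : Γ) * rep i := by rw [h3, mul_inv_cancel_left]
    obtain ⟨c, hc⟩ := heig (rep i) (hrepQ i) _ hbB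
    rw [h4, map_mul, Module.End.mul_apply, hc]
    exact S.smul_mem _ (Submodule.subset_span ⟨i, rfl⟩)
  have hA' : ∀ g ∈ Q, ρ g w ∈ S := by
    intro g hg
    have := hA g⁻¹ (Q.inv_mem hg)
    rwa [inv_inv] at this
  have hSinv : ∀ h ∈ Q, ∀ v ∈ S, ρ h v ∈ S := by
    intro h hh v hv
    have h3 : S.map (ρ h) ≤ S := by
      rw [hS, Submodule.map_span, Submodule.span_le]
      rintro _ ⟨_, ⟨i, rfl⟩, rfl⟩
      show ρ h (ρ (rep i) w) ∈ S
      rw [← Module.End.mul_apply, ← map_mul]
      exact hA' _ (Q.mul_mem hh (hrepQ i))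
    exact h3 (Submodule.mem_map_of_mem hv)
  have hwS : w ∈ S := by
    have := hA' 1 Q.one_mem
    rwa [map_one, Module.End.one_apply] at this
  -- averaging
  obtain ⟨p, hp⟩ := LinearMap.exists_leftInverse_of_injective S.subtype S.ker_subtype
  set π₀ : Module.End k W := S.subtype ∘ₗ p with hπ₀
  have hπ₀S : ∀ v, π₀ v ∈ S := fun v => (p v).2
  have hπ₀id : ∀ v ∈ S, π₀ v = v := by
    intro v hv
    have h3 : p (S.subtype ⟨v, hv⟩) = ⟨v, hv⟩ := LinearMap.congr_fun hp ⟨v, hv⟩
    show ((p v : S) : W) = v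
    have h4 : S.subtype ⟨v, hv⟩ = v := rfl
    rw [h4] at h3
    rw [h3]
  haveI : Fintype Q := Fintype.ofFinite Q
  set Pav : Module.End k W := ∑ g : Q, ρ (g : Γ) * π₀ * ρ (g : Γ)⁻¹ with hPav
  have hPcomm : ∀ h ∈ Q, Pav * ρ h = ρ h * Pav := by
    intro h hh
    rw [hPav, Finset.sum_mul, Finset.mul_sum]
    symm
    apply Fintype.sum_equiv (Equiv.mulLeft (⟨h, hh⟩ : Q))
    intro g
    rw [Equiv.coe_mulLeft]
    have e1 : (((⟨h, hh⟩ : Q) * g : Q) : Γ) = h * (g : Γ) := rfl
    rw [e1, mul_inv_rev, map_mul, map_mul]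
    simp only [mul_assoc]
    rw [rho_inv_mul, mul_one]
  obtain ⟨c, hc⟩ := hf Pav hPcomm
  have hPS : ∀ v, Pav v ∈ S := by
    intro v
    rw [hPav, LinearMap.sum_apply]
    apply Submodule.sum_mem
    intro g _
    exact hSinv _ g.2 _ (hπ₀S _)
  have hPw : Pav w = (Nat.card Q : k) • w := by
    rw [hPav, LinearMap.sum_apply]
    have : ∀ g : Q, (ρ (g : Γ) * π₀ * ρ (g : Γ)⁻¹) w = w := by
      intro g
      rw [Module.End.mul_apply, Module.End.mul_apply, hπ₀id _ (hA _ g.2), ← Module.End.mul_apply,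
        rho_mul_inv, Module.End.one_apply]
    rw [Finset.sum_congr rfl (fun g _ => this g), Finset.sum_const, Finset.card_univ,
      Nat.card_eq_fintype_card, Nat.cast_smul_eq_nsmul]
  have hcQ : c = (Nat.card Q : k) := by
    rw [hc, LinearMap.smul_apply, Module.End.one_apply] at hPw
    have h4 : (c - (Nat.card Q : k)) • w = 0 := by rw [sub_smul, hPw, sub_self]
    rcases smul_eq_zero.1 h4 with h5 | h5
    · exact sub_eq_zero.1 h5
    · exact absurd h5 hw0
  have hStop : S = ⊤ := by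
    rw [eq_top_iff]
    intro v _
    have h3 : c • v ∈ S := by
      have := hPS v
      rwa [hc, LinearMap.smul_apply, Module.End.one_apply] at this
    have h4 : v = c⁻¹ • (c • v) := by
      rw [smul_smul, inv_mul_cancel₀ (by rw [hcQ]; exact hQk), one_smul]
    rw [h4]
    exact S.smul_mem _ h3
  -- conclusion
  haveI : Fintype (Q ⧸ B₀) := Fintype.ofFinite _
  have hbasis := Basis.mk hli (by rw [← hS, hStop])
  rw [Module.finrank_eq_card_basis hbasis, ← Nat.card_eq_fintype_card]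
  exact Subgroup.card_quotient_dvd_card B₀

end Cfsg.Agent.H2.HH
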