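import Mathlib
import Cfsg.Agent.H2.HHc

namespace Cfsg.Agent.H2.HH

open Module
open scoped commutatorElement

universe u v

section Helpers
variable {k : Type*} [Field k] {W : Type*} [AddCommGroup W] [Module k W]

theorem eq_one_of_sq_zero_of_pow (c : Module.End k W) (m : ℕ) (hm : (m : k) ≠ 0)
    (hN : (c - 1) * (c - 1) = 0) (hc : c ^ m = 1) : c = 1 := by
  set Nn := c - 1 with hNn
  have hcN : c = 1 + Nn := by rw [hNn]; abel
  have key : ∀ n : ℕ, (1 + Nn) ^ n = 1 + (n : k) • Nn := by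
    intro n
    induction n with
    | zero => simp
    | succ n ih =>
      rw [pow_succ, ih, mul_add, mul_one, add_mul, one_mul, smul_mul_assoc, hN, smul_zero, add_zero,
        Nat.cast_succ, add_smul, one_smul]
      abel
  rw [hcN, key m] at hc
  have h3 : (m : k) • Nn = 0 := by
    have := congrArg (fun t => t - 1) hc
    simpa using this
  rcases smul_eq_zero.1 h3 with h4 | h4
  · exact absurd h4 hm
  · rw [hcN, h4, add_zero]

variable {Γ : Type*} [Group Γ]

/-- the stabilizer of a subspace -/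
def stab (ρ : Representation k Γ W) (U : Submodule k W) : Subgroup Γ where
  carrier := {γ | (∀ u ∈ U, ρ γ u ∈ U) ∧ (∀ u ∈ U, ρ γ⁻¹ u ∈ U)}
  mul_mem' := by
    rintro a b ⟨ha1, ha2⟩ ⟨hb1, hb2⟩
    refine ⟨fun u hu => ?_, fun u hu => ?_⟩
    · rw [map_mul]; exact ha1 _ (hb1 u hu)
    · rw [mul_inv_rev, map_mul]; exact hb2 _ (ha2 u hu)
  one_mem' := by
    refine ⟨fun u hu => ?_, fun u hu => ?_⟩
    · rw [map_one]; exact hu
    · rw [inv_one, map_one]; exact hu
  inv_mem' := by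
    rintro a ⟨h1, h2⟩
    refine ⟨h2, ?_⟩
    rw [inv_inv]
    exact h1

theorem mem_stab (ρ : Representation k Γ W) (U : Submodule k W) (γ : Γ) :
    γ ∈ stab ρ U ↔ (∀ u ∈ U, ρ γ u ∈ U) ∧ (∀ u ∈ U, ρ γ⁻¹ u ∈ U) := Iff.rfl

/-- conjugation by powers -/
theorem conj_pow_mem (Q : Subgroup Γ) (x : Γ) (hxQ : ∀ g ∈ Q, x * g * x⁻¹ ∈ Q) (n : ℕ) :
    ∀ g ∈ Q, x ^ n * g * (x ^ n)⁻¹ ∈ Q := by
  induction n with
  | zero => intro g hg; simpa using hg
  | succ n ih =>
    intro g hg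
    have h3 := hxQ _ (ih g hg)
    have h4 : x ^ (n + 1) * g * (x ^ (n + 1))⁻¹ = x * (x ^ n * g * (x ^ n)⁻¹) * x⁻¹ := by
      rw [pow_succ']; group
    rw [h4]; exact h3

theorem inv_eq_pow_pred (x : Γ) (r : ℕ) (hr : 0 < r) (hxr : x ^ r = 1) : x⁻¹ = x ^ (r - 1) := by
  apply inv_eq_of_mul_eq_one_right
  rw [← pow_succ', Nat.sub_add_cancel hr, hxr]

theorem conj_inv_mem (Q : Subgroup Γ) (x : Γ) (r : ℕ) (hr : 0 < r) (hxr : x ^ r = 1)
    (hxQ : ∀ g ∈ Q, x * g * x⁻¹ ∈ Q) : ∀ g ∈ Q, x⁻¹ * g * x ∈ Q := by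
  intro g hg
  have h3 := conj_pow_mem Q x hxQ (r - 1) g hg
  rw [← inv_eq_pow_pred x r hr hxr, inv_inv] at h3
  exact h3

end Helpers

section CorePrime
variable {k : Type*} [Field k] [IsAlgClosed k] {W : Type*} [AddCommGroup W] [Module k W]
  [FiniteDimensional k W] {Γ : Type*} [Group Γ] [Finite Γ]

theorem core' (ρ : Representation k Γ W) (Q : Subgroup Γ) (x : Γ) (r : ℕ)
    (hr : r.Prime) (hxr : x ^ r = 1) (hxQ : ∀ g ∈ Q, x * g * x⁻¹ ∈ Q)
    (hrk : (r : k) ≠ 0) (hQk : (Nat.card Q : k) ≠ 0)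
    (hirr : ∀ U : Submodule k W, (∀ g ∈ Q, ∀ u ∈ U, ρ g u ∈ U) → (∀ u ∈ U, ρ x u ∈ U) →
      U = ⊥ ∨ U = ⊤)
    (hCW : ∀ w, ρ x w = w → w = 0)
    (h1 : ∀ g ∈ Q, ∀ h ∈ Q, ∃ c : k, ρ g * ρ h = c • (ρ h * ρ g))
    (h2 : ∀ g ∈ Q, ∀ j : ℤ, ¬ (r : ℤ) ∣ j →
      (∃ c : k, ρ g * ρ (x ^ j) = c • (ρ (x ^ j) * ρ g)) → ∃ c : k, ρ g = c • 1) :
    (∀ g ∈ Q, ∃ c : k, ρ g = c • 1) ∨
      ((∀ T : Module.End k W, (∀ g ∈ Q, T * ρ g = ρ g * T) → ∃ c : k, T = c • 1) ∧
        finrank k W + 1 = r) := by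
  set Nz := Subgroup.normalizer (Q : Set Γ) with hNz
  have hxQ' := conj_inv_mem Q x r hr.pos hxr hxQ
  have hxN : x ∈ Nz := by
    rw [hNz, Subgroup.mem_normalizer_iff]
    intro h
    constructor
    · exact hxQ h
    · intro hh
      have := hxQ' _ hh
      have e : x⁻¹ * (x * h * x⁻¹) * x = h := by group
      rwa [e] at this
  have hQN : Q ≤ Nz := Subgroup.le_normalizer
  set Q₁ : Subgroup Nz := Q.subgroupOf Nz with hQ₁
  haveI : Q₁.Normal := Subgroup.normal_in_normalizer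
  set ρ₁ : Representation k Nz W := ρ.comp Nz.subtype with hρ₁
  have hρ₁app : ∀ g : Nz, ρ₁ g = ρ (g : Γ) := fun g => rfl
  have hcard : Nat.card Q₁ = Nat.card Q := Nat.card_congr (Subgroup.subgroupOfEquivOfLe hQN).toEquiv
  have key := core ρ₁ Q₁ ⟨x, hxN⟩ r hr (by
      apply Subtype.ext
      rw [Subgroup.coe_pow]
      exact hxr) hrk (by rw [hcard]; exact hQk)
    (by
      intro U hU1 hU2
      exact hirr U (fun g hg u hu => hU1 ⟨g, hQN hg⟩ (Subgroup.mem_subgroupOf.2 hg) u hu) hU2)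
    hCW
    (by
      intro g hg h hh
      exact h1 g (Subgroup.mem_subgroupOf.1 hg) h (Subgroup.mem_subgroupOf.1 hh))
    (by
      intro g hg j hj hc
      have e : ρ₁ ((⟨x, hxN⟩ : Nz) ^ j) = ρ (x ^ j) := by
        rw [hρ₁app, Subgroup.coe_zpow]
      rw [e] at hc
      exact h2 g (Subgroup.mem_subgroupOf.1 hg) j hj hc)
  rcases key with key | ⟨key1, key2⟩
  · left
    intro g hg
    exact key ⟨g, hQN hg⟩ (Subgroup.mem_subgroupOf.2 hg)
  · right
    refine ⟨?_, key2⟩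
    intro T hT
    exact key1 T (fun g hg => hT g (Subgroup.mem_subgroupOf.1 hg))

end CorePrime

section Reducible
variable {k : Type*} [Field k] {W : Type*} [AddCommGroup W] [Module k W]
  {Γ : Type*} [Group Γ] [Finite Γ]

theorem T_reducible (ρ : Representation k Γ W) (Q : Subgroup Γ) (x : Γ) (q : ℕ) (hq : q.Prime)
    (hqk : (q : k) ≠ 0) (hQ : IsPGroup q Q) (hxQ' : ∀ g ∈ Q, x⁻¹ * g * x ∈ Q)
    (U : Submodule k W) (hUQ : ∀ g ∈ Q, ∀ u ∈ U, ρ g u ∈ U) (hUx' : ∀ u ∈ U, ρ x⁻¹ u ∈ U)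
    (hsub : ∀ g ∈ Q, ∀ u ∈ U, ρ g (ρ x u) = ρ x (ρ g u))
    (hquo : ∀ g ∈ Q, ∀ w, ρ g (ρ x w) - ρ x (ρ g w) ∈ U) :
    ∀ g ∈ Q, ρ g * ρ x = ρ x * ρ g := by
  intro g hg
  haveI : Fact q.Prime := ⟨hq⟩
  set z := g⁻¹ * (x⁻¹ * g * x) with hz
  have hzQ : z ∈ Q := Q.mul_mem (Q.inv_mem hg) (hxQ' g hg)
  have hρz : ∀ w, ρ z w = ρ g⁻¹ (ρ x⁻¹ (ρ g (ρ x w))) := by
    intro w
    rw [hz, map_mul, map_mul, map_mul]
    rfl
  have hcancel : ∀ w, ρ g⁻¹ (ρ x⁻¹ (ρ x (ρ g w))) = w := by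
    intro w
    rw [← Module.End.mul_apply (ρ x⁻¹), rho_inv_mul, Module.End.one_apply,
      ← Module.End.mul_apply (ρ g⁻¹), rho_inv_mul, Module.End.one_apply]
  have hcU : ∀ u ∈ U, ρ z u = u := by
    intro u hu
    rw [hρz, hsub g hg u hu, hcancel]
  have hcW : ∀ w, ρ z w - w ∈ U := by
    intro w
    have h3 : ρ z w - w = ρ g⁻¹ (ρ x⁻¹ (ρ g (ρ x w) - ρ x (ρ g w))) := by
      rw [map_sub, map_sub, hcancel, hρz]
    rw [h3]
    exact hUQ _ (Q.inv_mem hg) _ (hUx' _ (hquo g hg w))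
  have hsq : (ρ z - 1) * (ρ z - 1) = 0 := by
    refine LinearMap.ext fun w => ?_
    rw [Module.End.mul_apply, LinearMap.sub_apply, Module.End.one_apply, LinearMap.sub_apply,
      Module.End.one_apply, LinearMap.zero_apply, hcU _ (hcW w), sub_self]
  obtain ⟨a, ha⟩ := IsPGroup.iff_card.1 hQ
  have hpow : ρ z ^ (Nat.card Q) = 1 := by
    rw [← map_pow]
    have : z ^ Nat.card Q = 1 := by
      have h3 : (⟨z, hzQ⟩ : Q) ^ Nat.card Q = 1 := pow_card_eq_one'
      have h4 := congrArg Subtype.val h3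
      rwa [Subgroup.coe_pow] at h4
    rw [this, map_one]
  have hck : ((Nat.card Q : ℕ) : k) ≠ 0 := by
    rw [ha, Nat.cast_pow]
    exact pow_ne_zero _ hqk
  have hz1 : ρ z = 1 := eq_one_of_sq_zero_of_pow (ρ z) _ hck hsq hpow
  have h5 : g * x = x * g * z := by rw [hz]; group
  rw [← map_mul, ← map_mul, h5, map_mul, hz1, mul_one]

end Reducible

section Irreducible
variable {k : Type*} [Field k] [IsAlgClosed k] {W : Type u} [AddCommGroup W] [Module k W]
  [FiniteDimensional k W] {Γ : Type*} [Group Γ] [Finite Γ]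

theorem T_irreducible (ρ : Representation k Γ W) (Q : Subgroup Γ) (x : Γ) (q r : ℕ) (hq : q.Prime)
    (hr : r.Prime) (hqr : q ≠ r) (hqk : (q : k) ≠ 0) (hrk : (r : k) ≠ 0) (hxr : x ^ r = 1)
    (hQ : IsPGroup q Q) (hxQ : ∀ g ∈ Q, x * g * x⁻¹ ∈ Q)
    (hCW : ∀ w, ρ x w = w → w = 0)
    (hexc : q = 2 → (∃ n : ℕ, r = 2 ^ n + 1) → ∀ g ∈ Q, ∀ h ∈ Q, ρ g * ρ h = ρ h * ρ g)
    (hirr : ∀ U : Submodule k W, (∀ g ∈ Q, ∀ u ∈ U, ρ g u ∈ U) → (∀ u ∈ U, ρ x u ∈ U) →
      U = ⊥ ∨ U = ⊤)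
    (IH : ∀ Q' : Subgroup Γ, Q' ≤ Q → Q' ≠ Q → (∀ g ∈ Q', x * g * x⁻¹ ∈ Q') →
      ∀ g ∈ Q', ρ g * ρ x = ρ x * ρ g) :
    ∀ g ∈ Q, ρ g * ρ x = ρ x * ρ g := by
  classical
  by_contra hC
  have hW : Nontrivial W := by
    by_contra hW
    rw [not_nontrivial_iff_subsingleton] at hW
    apply hC
    intro g _
    exact LinearMap.ext fun w => Subsingleton.elim _ _
  haveI : Fact q.Prime := ⟨hq⟩
  have hxQ' := conj_inv_mem Q x r hr.pos hxr hxQ
  obtain ⟨aQ, haQ⟩ := IsPGroup.iff_card.1 hQ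
  have hcop : Nat.Coprime r (q ^ aQ) :=
    Nat.Coprime.pow_right _ ((Nat.coprime_primes hr hq).2 hqr.symm)
  -- Schur
  have hschur : ∀ T : Module.End k W, (∀ g ∈ Q, T * ρ g = ρ g * T) → T * ρ x = ρ x * T →
      ∃ c : k, T = c • 1 := by
    intro T hT1 hT2
    obtain ⟨μ, hμ⟩ := Module.End.exists_eigenvalue T
    have hU := hirr (T.eigenspace μ)
      (by
        intro g hg u hu
        rw [Module.End.mem_eigenspace_iff] at hu ⊢
        rw [← Module.End.mul_apply, hT1 g hg, Module.End.mul_apply, hu, map_smul])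
      (by
        intro u hu
        rw [Module.End.mem_eigenspace_iff] at hu ⊢
        rw [← Module.End.mul_apply, hT2, Module.End.mul_apply, hu, map_smul])
    rcases hU with hU | hU
    · exact absurd hU hμ
    · refine ⟨μ, LinearMap.ext fun w => ?_⟩
      have hw : w ∈ T.eigenspace μ := by rw [hU]; exact Submodule.mem_top
      rw [Module.End.mem_eigenspace_iff] at hw
      rw [hw, LinearMap.smul_apply, Module.End.one_apply]
  -- image group
  set ρu := Representation.asGroupHom ρ with hρu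
  have hρuv : ∀ g : Γ, ((ρu g : (Module.End k W)ˣ) : Module.End k W) = ρ g :=
    Representation.asGroupHom_apply ρ
  have hcommiff : ∀ a b : Γ, ρu a * ρu b = ρu b * ρu a ↔ ρ a * ρ b = ρ b * ρ a := by
    intro a b
    rw [Units.ext_iff, Units.val_mul, Units.val_mul, hρuv, hρuv]
  set Qh : Subgroup (Module.End k W)ˣ := Q.map ρu with hQh
  set xh : (Module.End k W)ˣ := ρu x with hxh
  set Xh : Subgroup (Module.End k W)ˣ := Subgroup.zpowers xh with hXh
  have hQhP : IsPGroup q Qh := hQ.map ρu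
  have hxhr : xh ^ r = 1 := by rw [hxh, ← map_pow, hxr, map_one]
  have hnorm : ∀ p ∈ Qh, xh * p * xh⁻¹ ∈ Qh := by
    rintro _ ⟨g, hg, rfl⟩
    refine ⟨x * g * x⁻¹, hxQ g hg, ?_⟩
    rw [map_mul, map_mul, map_inv]
  have hnorm' : ∀ p ∈ Qh, xh⁻¹ * p * xh ∈ Qh := by
    rintro _ ⟨g, hg, rfl⟩
    refine ⟨x⁻¹ * g * x, hxQ' g hg, ?_⟩
    rw [map_mul, map_mul, map_inv]
  have hxhN : xh ∈ Subgroup.normalizer (Qh : Set (Module.End k W)ˣ) := by
    rw [Subgroup.mem_normalizer_iff]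
    intro h
    constructor
    · exact hnorm h
    · intro hh
      have := hnorm' _ hh
      have e : xh⁻¹ * (xh * h * xh⁻¹) * xh = h := by group
      rwa [e] at this
  have hXhN : Xh ≤ Subgroup.normalizer (Qh : Set (Module.End k W)ˣ) :=
    Subgroup.zpowers_le.2 hxhN
  have hnormpow : ∀ y ∈ Xh, ∀ p ∈ Qh, y * p * y⁻¹ ∈ Qh := by
    intro y hy p hp
    exact (Subgroup.mem_normalizer_iff.1 (hXhN hy) p).1 hp
  have hcentX : ∀ c : (Module.End k W)ˣ,
      c ∈ Subgroup.centralizer (Xh : Set (Module.End k W)ˣ) ↔ c * xh = xh * c := by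
    intro c
    rw [Subgroup.mem_centralizer_iff]
    constructor
    · intro h
      exact (h xh (Subgroup.mem_zpowers xh)).symm
    · intro h y hy
      obtain ⟨n, rfl⟩ := Subgroup.mem_zpowers_iff.1 hy
      have hc : Commute xh c := h.symm
      exact (hc.zpow_left n).eq
  have hqr1 : ∀ c ∈ Qh, c ^ r = 1 → c = 1 := by
    intro c hc hcr
    obtain ⟨a, ha⟩ := hQhP ⟨c, hc⟩
    have ha' : c ^ (q ^ a) = 1 := by
      have := congrArg Subtype.val ha
      rwa [Subgroup.coe_pow] at this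
    have h3 : c ^ (Nat.gcd r (q ^ a)) = 1 := pow_gcd_eq_one.2 ⟨hcr, ha'⟩
    have h4 : Nat.gcd r (q ^ a) = 1 :=
      Nat.Coprime.pow_right _ ((Nat.coprime_primes hr hq).2 hqr.symm)
    rwa [h4, pow_one] at h3
  -- proper invariant subgroups are centralized
  have hprop : ∀ Ph : Subgroup (Module.End k W)ˣ, Ph ≤ Qh → Ph ≠ Qh →
      (∀ p ∈ Ph, xh * p * xh⁻¹ ∈ Ph) → Ph ≤ Subgroup.centralizer (Xh : Set (Module.End k W)ˣ) := by
    intro Ph hle hne hinv p hp
    set Q' := Q ⊓ Ph.comap ρu with hQ'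
    have h1 : Q' ≤ Q := inf_le_left
    have h2 : Q' ≠ Q := by
      intro h
      apply hne
      apply le_antisymm hle
      rintro _ ⟨g, hg, rfl⟩
      have : g ∈ Q' := by rw [h]; exact hg
      exact this.2
    have h3 : ∀ g ∈ Q', x * g * x⁻¹ ∈ Q' := by
      rintro g ⟨hg1, hg2⟩
      refine ⟨hxQ g hg1, ?_⟩
      show ρu (x * g * x⁻¹) ∈ Ph
      rw [map_mul, map_mul, map_inv]
      exact hinv _ hg2
    obtain ⟨g, hg, rfl⟩ := hle hp
    have h4 := IH Q' h1 h2 h3 g ⟨hg, hp⟩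
    rw [hcentX]
    exact (hcommiff g x).2 h4
  -- conjugation by xh as a hom
  set φ : (Module.End k W)ˣ →* (Module.End k W)ˣ := (MulAut.conj xh).toMonoidHom with hφ
  have hφapp : ∀ p, φ p = xh * p * xh⁻¹ := fun p => rfl
  -- Qh is nontrivial
  have hQhne : Qh ≠ ⊥ := by
    intro h
    apply hC
    intro g hg
    have h3 : ρu g ∈ Qh := Subgroup.mem_map_of_mem _ hg
    rw [h, Subgroup.mem_bot] at h3
    have h4 : ρ g = 1 := by rw [← hρuv, h3]; rfl
    rw [h4, one_mul, mul_one]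
  -- derived subgroup
  have hDle : ⁅Qh, Qh⁆ ≤ Qh := by
    rw [Subgroup.commutator_le]
    intro a ha b hb
    rw [commutatorElement_def]
    exact Qh.mul_mem (Qh.mul_mem (Qh.mul_mem ha hb) (Qh.inv_mem ha)) (Qh.inv_mem hb)
  have hDne : ⁅Qh, Qh⁆ ≠ Qh := by
    intro h
    haveI : Finite Qh := by
      apply Finite.of_surjective (fun g : Q => (⟨ρu g, Subgroup.mem_map_of_mem _ g.2⟩ : Qh))
      rintro ⟨_, g, hg, rfl⟩
      exact ⟨⟨g, hg⟩, rfl⟩
    haveI : Nontrivial Qh := (Subgroup.nontrivial_iff_ne_bot Qh).2 hQhne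
    haveI : Group.IsNilpotent Qh := hQhP.isNilpotent
    have h3 := Group.IsSolvable.commutator_lt_top_of_nontrivial Qh
    have h4 : (commutator Qh).map Qh.subtype = (⊤ : Subgroup Qh).map Qh.subtype := by
      rw [Subgroup.map_subtype_commutator, h, ← MonoidHom.range_eq_map, Subgroup.range_subtype]
    have h5 := Subgroup.map_injective Qh.subtype_injective h4
    exact h3.ne h5
  have hDinv : ∀ p ∈ ⁅Qh, Qh⁆, xh * p * xh⁻¹ ∈ ⁅Qh, Qh⁆ := by
    have h3 : ⁅Qh, Qh⁆ ≤ (⁅Qh, Qh⁆).comap φ := by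
      rw [Subgroup.commutator_le]
      intro a ha b hb
      rw [Subgroup.mem_comap, map_commutatorElement]
      exact Subgroup.commutator_mem_commutator (hnorm a ha) (hnorm b hb)
    intro p hp
    exact h3 hp
  have hDcent := hprop _ hDle hDne hDinv
  -- [Qh, Xh]
  have hEle : ⁅Qh, Xh⁆ ≤ Qh := by
    rw [Subgroup.commutator_le]
    intro a ha y hy
    rw [commutatorElement_def]
    have h3 := hnormpow y hy a⁻¹ (Qh.inv_mem ha)
    have e : a * y * a⁻¹ * y⁻¹ = a * (y * a⁻¹ * y⁻¹) := by group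
    rw [e]
    exact Qh.mul_mem ha h3
  have hEinv : ∀ p ∈ ⁅Qh, Xh⁆, xh * p * xh⁻¹ ∈ ⁅Qh, Xh⁆ := by
    have h3 : ⁅Qh, Xh⁆ ≤ (⁅Qh, Xh⁆).comap φ := by
      rw [Subgroup.commutator_le]
      intro a ha y hy
      rw [Subgroup.mem_comap, map_commutatorElement]
      apply Subgroup.commutator_mem_commutator (hnorm a ha)
      rw [hφapp]
      exact Xh.mul_mem (Xh.mul_mem (Subgroup.mem_zpowers xh) hy)
        (Xh.inv_mem (Subgroup.mem_zpowers xh))
    intro p hp
    exact h3 hp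
  have hE : ⁅Qh, Xh⁆ = Qh := by
    by_contra hEne
    have hEcent := hprop _ hEle hEne hEinv
    apply hC
    intro g hg
    rw [← hcommiff]
    set p : (Module.End k W)ˣ := ρu g with hp
    have hpQ : p ∈ Qh := Subgroup.mem_map_of_mem _ hg
    have hcE : ⁅p, xh⁆ ∈ ⁅Qh, Xh⁆ :=
      Subgroup.commutator_mem_commutator hpQ (Subgroup.mem_zpowers xh)
    have hcc : Commute ⁅p, xh⁆ xh := (hcentX _).1 (hEcent hcE)
    have h3 : p * xh * p⁻¹ = ⁅p, xh⁆ * xh := by rw [commutatorElement_def]; group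
    have h4 : (p * xh * p⁻¹) ^ r = 1 := by
      rw [conj_pow, hxhr, mul_one, mul_inv_cancel]
    rw [h3, hcc.mul_pow, hxhr, mul_one] at h4
    have h5 := hqr1 _ (hEle hcE) h4
    rw [commutatorElement_eq_one_iff_mul_comm] at h5
    exact h5
  -- three subgroups
  set Ch := Qh ⊓ Subgroup.centralizer (Xh : Set (Module.End k W)ˣ) with hCh
  have h_a : ⁅⁅Qh, Ch⁆, Xh⁆ = ⊥ := by
    rw [Subgroup.commutator_eq_bot_iff_le_centralizer]
    exact le_trans (Subgroup.commutator_mono le_rfl inf_le_left) hDcent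
  have h_b : ⁅⁅Ch, Xh⁆, Qh⁆ = ⊥ := by
    have : ⁅Ch, Xh⁆ = ⊥ := by
      rw [Subgroup.commutator_eq_bot_iff_le_centralizer]
      exact inf_le_right
    rw [this, Subgroup.commutator_bot_left]
  have hrot := Subgroup.commutator_commutator_eq_bot_of_rotate h_a h_b
  rw [Subgroup.commutator_comm Xh Qh, hE, Subgroup.commutator_eq_bot_iff_le_centralizer] at hrot
  have hcentral : ∀ c ∈ Qh, c * xh = xh * c → ∀ p ∈ Qh, c * p = p * c := by
    intro c hc hcx p hp
    have h3 : c ∈ Ch := ⟨hc, (hcentX c).2 hcx⟩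
    exact Subgroup.mem_centralizer_iff.1 (hrot hp) c h3
  have hCscalar : ∀ g ∈ Q, ρ g * ρ x = ρ x * ρ g → ∃ c : k, ρ g = c • 1 := by
    intro g hg hgx
    apply hschur (ρ g) _ hgx
    intro h hh
    rw [← hcommiff]
    exact hcentral _ (Subgroup.mem_map_of_mem _ hg) ((hcommiff g x).2 hgx) _
      (Subgroup.mem_map_of_mem _ hh)
  -- a nonzero vector
  obtain ⟨w₀, hw₀⟩ := exists_ne (0 : W)
  have hsmul1 : ∀ c : k, c • (1 : Module.End k W) = 1 → c = 1 := by
    intro c hc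
    have h3 := LinearMap.congr_fun hc w₀
    rw [LinearMap.smul_apply, Module.End.one_apply] at h3
    have h4 : (c - 1) • w₀ = 0 := by rw [sub_smul, one_smul, h3, sub_self]
    rcases smul_eq_zero.1 h4 with h5 | h5
    · exact sub_eq_zero.1 h5
    · exact absurd h5 hw₀
  -- (h1)
  have h1 : ∀ g ∈ Q, ∀ h ∈ Q, ∃ c : k, ρ g * ρ h = c • (ρ h * ρ g) := by
    intro g hg h hh
    set z := ⁅g, h⁆ with hz
    have hzQ : z ∈ Q := by
      rw [hz, commutatorElement_def]
      exact Q.mul_mem (Q.mul_mem (Q.mul_mem hg hh) (Q.inv_mem hg)) (Q.inv_mem hh)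
    have hzD : ρu z ∈ ⁅Qh, Qh⁆ := by
      rw [hz, map_commutatorElement]
      exact Subgroup.commutator_mem_commutator (Subgroup.mem_map_of_mem _ hg)
        (Subgroup.mem_map_of_mem _ hh)
    have hzx : ρ z * ρ x = ρ x * ρ z := (hcommiff z x).1 ((hcentX _).1 (hDcent hzD))
    obtain ⟨c, hc⟩ := hCscalar z hzQ hzx
    refine ⟨c, ?_⟩
    have e : g * h = z * (h * g) := by rw [hz, commutatorElement_def]; group
    rw [← map_mul, e, map_mul, hc, smul_mul_assoc, one_mul, map_mul]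
  -- x normalizes Q
  have hxN : x ∈ Subgroup.normalizer (Q : Set Γ) := by
    rw [Subgroup.mem_normalizer_iff]
    intro h
    constructor
    · exact hxQ h
    · intro hh
      have := hxQ' _ hh
      have e : x⁻¹ * (x * h * x⁻¹) * x = h := by group
      rwa [e] at this
  -- (h2)
  have h2 : ∀ g ∈ Q, ∀ j : ℤ, ¬ (r : ℤ) ∣ j →
      (∃ c : k, ρ g * ρ (x ^ j) = c • (ρ (x ^ j) * ρ g)) → ∃ c : k, ρ g = c • 1 := by
    intro g hg j hj ⟨c, hc⟩
    set y := x ^ j with hy
    have hyN : y⁻¹ ∈ Subgroup.normalizer (Q : Set Γ) :=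
      Subgroup.inv_mem _ (Subgroup.zpow_mem _ hxN j)
    have hygQ : y⁻¹ * g * y ∈ Q := by
      have := (Subgroup.mem_normalizer_iff.1 hyN g).1 hg
      rwa [inv_inv] at this
    set z := g⁻¹ * (y⁻¹ * g * y) with hz
    have hzQ : z ∈ Q := Q.mul_mem (Q.inv_mem hg) hygQ
    have hconj : ρ y⁻¹ * ρ g * ρ y = c • ρ g := by
      rw [mul_assoc, hc, mul_smul_comm, ← mul_assoc, rho_inv_mul, one_mul]
    have hρz : ρ z = c • 1 := by
      rw [hz, map_mul, map_mul, map_mul, hconj, mul_smul_comm, rho_inv_mul]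
    -- c ^ card Q = 1
    have hcQ : c ^ (q ^ aQ) = 1 := by
      have h3 : ρ z ^ (Nat.card Q) = 1 := by
        rw [← map_pow]
        have : z ^ Nat.card Q = 1 := by
          have h3 : (⟨z, hzQ⟩ : Q) ^ Nat.card Q = 1 := pow_card_eq_one'
          have h4 := congrArg Subtype.val h3
          rwa [Subgroup.coe_pow] at h4
        rw [this, map_one]
      rw [hρz, smul_pow, one_pow, haQ] at h3
      exact hsmul1 _ h3
    -- c ^ r = 1
    have hyr : y ^ r = 1 := by
      rw [hy, ← zpow_natCast, ← zpow_mul, mul_comm, zpow_mul, zpow_natCast, hxr, one_zpow]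
    have hcr : c ^ r = 1 := by
      have key : ∀ n : ℕ, (ρ y⁻¹) ^ n * ρ g * (ρ y) ^ n = c ^ n • ρ g := by
        intro n
        induction n with
        | zero => simp
        | succ n ih =>
          have e : (ρ y⁻¹) ^ (n + 1) * ρ g * (ρ y) ^ (n + 1)
              = (ρ y⁻¹) ^ n * (ρ y⁻¹ * ρ g * ρ y) * (ρ y) ^ n := by
            rw [pow_succ, pow_succ']
            simp only [mul_assoc]
          rw [e, hconj, mul_smul_comm, smul_mul_assoc, ih, smul_smul, pow_succ']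
      have h3 := key r
      rw [← map_pow, ← map_pow, hyr, inv_pow, hyr, inv_one, map_one, one_mul, mul_one] at h3
      have h4 : (c ^ r) • (1 : Module.End k W) = 1 := by
        have h5 : ρ g * ρ g⁻¹ = (c ^ r • ρ g) * ρ g⁻¹ := by rw [← h3]
        rw [smul_mul_assoc, rho_mul_inv] at h5
        exact h5.symm
      exact hsmul1 _ h4
    have hc1 : c = 1 := by
      have h3 : c ^ (Nat.gcd r (q ^ aQ)) = 1 := pow_gcd_eq_one.2 ⟨hcr, hcQ⟩
      rwa [hcop, pow_one] at h3
    rw [hc1, one_smul] at hc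
    -- g commutes with x
    have hgx : ρ g * ρ x = ρ x * ρ g := by
      rw [← hcommiff]
      have hcy : Commute (ρu g) (ρu y) := (hcommiff g y).2 hc
      have hcopj : IsCoprime j (r : ℤ) := by
        rw [Int.isCoprime_iff_gcd_eq_one, Int.gcd_comm]
        have : Nat.Coprime r j.natAbs := by
          rw [Nat.Prime.coprime_iff_not_dvd hr]
          intro h
          exact hj (Int.natCast_dvd.2 h)
        exact this
      obtain ⟨a', b', hab⟩ := hcopj
      have hxy : x = y ^ a' := by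
        have h3 : x ^ (a' * j + b' * (r : ℤ)) = x := by rw [hab, zpow_one]
        rw [zpow_add, zpow_mul' x a' j, zpow_mul' x b' (r : ℤ), zpow_natCast, hxr, one_zpow,
          mul_one] at h3
        exact h3.symm
      have h4 : ρu x = (ρu y) ^ a' := by rw [hxy, map_zpow]
      rw [h4]
      exact (hcy.zpow_right a').eq
    exact hCscalar g hg hgx
  -- apply the core
  have hQk : (Nat.card Q : k) ≠ 0 := by
    rw [haQ, Nat.cast_pow]
    exact pow_ne_zero _ hqk
  have hscal_contra : (∀ g ∈ Q, ∃ c : k, ρ g = c • 1) → False := by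
    intro h
    apply hC
    intro g hg
    obtain ⟨c, hc⟩ := h g hg
    rw [hc, smul_mul_assoc, mul_smul_comm, one_mul, mul_one]
  rcases core' ρ Q x r hr hxr hxQ hrk hQk hirr hCW h1 h2 with hcore | ⟨hf, hnr⟩
  · exact hscal_contra hcore
  · have hdvd := level1 ρ Q hQk hf h1
    rw [haQ] at hdvd
    obtain ⟨b, _, hb⟩ := (Nat.dvd_prime_pow hq).1 hdvd
    by_cases hq2 : q = 2
    · have hcomm := hexc hq2 ⟨b, by rw [← hnr, hb, hq2]⟩
      apply hscal_contra
      intro g hg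
      exact hf (ρ g) (fun h hh => hcomm g hg h hh)
    · have hqodd : Odd q := hq.odd_of_ne_two hq2
      have hrodd : Even r := by
        rw [← hnr, hb]
        exact Odd.add_one (hqodd.pow)
      have hr2 : r = 2 := (Nat.Prime.even_iff hr).1 hrodd
      have hfr1 : finrank k W = 1 := by omega
      apply hscal_contra
      intro g _
      exact scalar_of_finrank_one hfr1 (ρ g)

end Irreducible

section Main
variable {k : Type*} [Field k] [IsAlgClosed k]

theorem main_T (q r : ℕ) (hq : q.Prime) (hr : r.Prime) (hqr : q ≠ r)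
    (hqk : (q : k) ≠ 0) (hrk : (r : k) ≠ 0) (N : ℕ) :
    ∀ (Γ : Type v) [Group Γ] [Finite Γ] (x : Γ) (W : Type u) [AddCommGroup W] [Module k W]
      [FiniteDimensional k W] (ρ : Representation k Γ W) (Q : Subgroup Γ),
      Nat.card Q + finrank k W = N → x ^ r = 1 → IsPGroup q Q →
      (∀ g ∈ Q, x * g * x⁻¹ ∈ Q) →
      (∀ w, ρ x w = w → w = 0) →
      (q = 2 → (∃ n : ℕ, r = 2 ^ n + 1) → ∀ g ∈ Q, ∀ h ∈ Q, ρ g * ρ h = ρ h * ρ g) →
      ∀ g ∈ Q, ρ g * ρ x = ρ x * ρ g := by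
  induction N using Nat.strong_induction_on with
  | _ N ih =>
    intro Γ _ _ x W _ _ _ ρ Q hN hxr hQ hxQ hCW hexc
    by_cases hirr : ∀ U : Submodule k W, (∀ g ∈ Q, ∀ u ∈ U, ρ g u ∈ U) → (∀ u ∈ U, ρ x u ∈ U) →
        U = ⊥ ∨ U = ⊤
    · apply T_irreducible ρ Q x q r hq hr hqr hqk hrk hxr hQ hxQ hCW hexc hirr
      intro Q' hle hne hinv
      have hlt : Nat.card Q' < Nat.card Q := by
        by_contra h
        push Not at h
        exact hne (Subgroup.eq_of_le_of_card_ge hle h)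
      exact ih (Nat.card Q' + finrank k W) (by omega) Γ x W ρ Q' rfl hxr (hQ.to_le hle) hinv hCW
        (fun h2 hn g hg h hh => hexc h2 hn g (hle hg) h (hle hh))
    · push Not at hirr
      obtain ⟨U, hUQ, hUx, hU0, hU1⟩ := hirr
      have hxQ' := conj_inv_mem Q x r hr.pos hxr hxQ
      have hpowU : ∀ n : ℕ, ∀ u ∈ U, (ρ x ^ n) u ∈ U := by
        intro n
        induction n with
        | zero => intro u hu; simpa using hu
        | succ n ih' =>
          intro u hu
          rw [pow_succ, Module.End.mul_apply]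
          exact ih' _ (hUx u hu)
      have hUx' : ∀ u ∈ U, ρ x⁻¹ u ∈ U := by
        intro u hu
        rw [inv_eq_pow_pred x r hr.pos hxr, map_pow]
        exact hpowU _ u hu
      -- the stabilizer
      set Γ' := stab ρ U with hΓ'
      have hQΓ' : Q ≤ Γ' := fun g hg => ⟨hUQ g hg, hUQ g⁻¹ (Q.inv_mem hg)⟩
      have hxΓ' : x ∈ Γ' := ⟨hUx, hUx'⟩
      set ρ' : Representation k Γ' W := ρ.comp Γ'.subtype with hρ'
      have hle_comap : ∀ γ : Γ', U ≤ U.comap (ρ' γ) := fun γ u hu => γ.2.1 u hu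
      set ρU := ρ'.subrepresentation U hle_comap with hρU
      set ρV := ρ'.quotient U hle_comap with hρV
      have hρUapp : ∀ (γ : Γ') (u : U), ((ρU γ u : U) : W) = ρ (γ : Γ) (u : W) := fun γ u => rfl
      have hρVapp : ∀ (γ : Γ') (w : W), ρV γ (Submodule.Quotient.mk w)
          = Submodule.Quotient.mk (ρ (γ : Γ) w) := fun γ w => rfl
      set Q' : Subgroup Γ' := Q.subgroupOf Γ' with hQ'
      set x' : Γ' := ⟨x, hxΓ'⟩ with hx'
      have hcard : Nat.card Q' = Nat.card Q :=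
        Nat.card_congr (Subgroup.subgroupOfEquivOfLe hQΓ').toEquiv
      have hQ'P : IsPGroup q Q' := hQ.comap_subtype
      have hx'r : x' ^ r = 1 := by
        apply Subtype.ext
        rw [Subgroup.coe_pow]
        exact hxr
      have hx'Q' : ∀ g ∈ Q', x' * g * x'⁻¹ ∈ Q' := by
        intro g hg
        rw [hQ', Subgroup.mem_subgroupOf] at hg ⊢
        exact hxQ _ hg
      have hfrU : finrank k U < finrank k W := Submodule.finrank_lt hU1
      have hfrV : finrank k (W ⧸ U) < finrank k W := by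
        have h3 := Submodule.finrank_quotient_add_finrank U
        have h4 : 1 ≤ finrank k U := Submodule.one_le_finrank_iff.2 hU0
        omega
      -- fixed points on U and W/U
      have hCWU : ∀ u : U, ρU x' u = u → u = 0 := by
        intro u hu
        apply Subtype.ext
        apply hCW
        have := congrArg Subtype.val hu
        rwa [hρUapp] at this
      have hCWV : ∀ v : W ⧸ U, ρV x' v = v → v = 0 := by
        intro v hv
        obtain ⟨w, rfl⟩ := Submodule.Quotient.mk_surjective U v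
        rw [hρVapp, Submodule.Quotient.eq] at hv
        rw [Submodule.Quotient.mk_eq_zero]
        have hAU : ∀ u ∈ U, (ρ x - 1) u ∈ U := by
          intro u hu
          rw [LinearMap.sub_apply, Module.End.one_apply]
          exact U.sub_mem (hUx u hu) hu
        set AU : U →ₗ[k] U := (ρ x - 1).restrict hAU with hAUdef
        have hAUinj : Function.Injective AU := by
          rw [← LinearMap.ker_eq_bot, LinearMap.ker_eq_bot']
          intro u hu
          have h3 : (ρ x - 1) (u : W) = 0 := by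
            have := congrArg Subtype.val hu
            exact this
          rw [LinearMap.sub_apply, Module.End.one_apply, sub_eq_zero] at h3
          exact Subtype.ext (hCW _ h3)
        have hAUsurj : Function.Surjective AU := LinearMap.injective_iff_surjective.1 hAUinj
        obtain ⟨u, hu⟩ := hAUsurj ⟨ρ x w - w, hv⟩
        have h3 : ρ x (u : W) - (u : W) = ρ x w - w := by
          have := congrArg Subtype.val hu
          exact this
        have h4 : ρ x (w - u) = w - u := by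
          rw [map_sub]
          have : ρ x w - ρ x (u : W) - (w - (u : W)) = 0 := by
            rw [← sub_eq_zero] at h3
            rw [← neg_eq_zero, ← h3]
            abel
          exact sub_eq_zero.1 this
        have h5 := hCW _ h4
        rw [sub_eq_zero] at h5
        rw [h5]
        exact u.2
      -- apply the induction hypothesis
      have hexcU : q = 2 → (∃ n : ℕ, r = 2 ^ n + 1) → ∀ g ∈ Q', ∀ h ∈ Q', ρU g * ρU h = ρU h * ρU g := by
        intro h2 hn g hg h hh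
        have h3 := hexc h2 hn g (Subgroup.mem_subgroupOf.1 hg) h (Subgroup.mem_subgroupOf.1 hh)
        refine LinearMap.ext fun u => Subtype.ext ?_
        rw [Module.End.mul_apply, Module.End.mul_apply, hρUapp, hρUapp, hρUapp, hρUapp,
          ← Module.End.mul_apply, h3, Module.End.mul_apply]
      have hexcV : q = 2 → (∃ n : ℕ, r = 2 ^ n + 1) → ∀ g ∈ Q', ∀ h ∈ Q', ρV g * ρV h = ρV h * ρV g := by
        intro h2 hn g hg h hh
        have h3 := hexc h2 hn g (Subgroup.mem_subgroupOf.1 hg) h (Subgroup.mem_subgroupOf.1 hh)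
        refine LinearMap.ext fun v => ?_
        obtain ⟨w, rfl⟩ := Submodule.Quotient.mk_surjective U v
        rw [Module.End.mul_apply, Module.End.mul_apply, hρVapp, hρVapp, hρVapp, hρVapp,
          ← Module.End.mul_apply, h3, Module.End.mul_apply]
      have hresU := ih (Nat.card Q' + finrank k U) (by omega) Γ' x' U ρU Q' rfl hx'r hQ'P hx'Q'
        hCWU hexcU
      have hresV := ih (Nat.card Q' + finrank k (W ⧸ U)) (by omega) Γ' x' (W ⧸ U) ρV Q' rfl hx'r
        hQ'P hx'Q' hCWV hexcV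
      apply T_reducible ρ Q x q hq hqk hQ hxQ' U hUQ hUx'
      · intro g hg u hu
        have h3 := hresU ⟨g, hQΓ' hg⟩ (Subgroup.mem_subgroupOf.2 hg)
        have h4 := congrArg Subtype.val (LinearMap.congr_fun h3 ⟨u, hu⟩)
        rw [Module.End.mul_apply, Module.End.mul_apply, hρUapp, hρUapp, hρUapp, hρUapp] at h4
        exact h4
      · intro g hg w
        have h3 := hresV ⟨g, hQΓ' hg⟩ (Subgroup.mem_subgroupOf.2 hg)
        have h4 := LinearMap.congr_fun h3 (Submodule.Quotient.mk w)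
        rw [Module.End.mul_apply, Module.End.mul_apply, hρVapp, hρVapp, hρVapp, hρVapp,
          Submodule.Quotient.eq] at h4
        exact h4

end Main

end Cfsg.Agent.H2.HH
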