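import Mathlib
import Cfsg.Agent.H2.BG37a
import Cfsg.Agent.H2.Equivariant
import Cfsg.Agent.H1.CoprimeHall
import Cfsg.Agent.H1.Card
import Cfsg.Agent.Lib.helper3.Berger1
import Cfsg.Agent.S3769

namespace Cfsg.Agent.H2.BG37

open Cfsg.Agent.H1
open scoped commutatorElement

section Z1
variable {Y : Type*} [Group Y] [Finite Y]

/-- no nontrivial normal `ℓ`-subgroup of `Y / C_Y(M)` for a minimal normal `ℓ`-subgroup `M` -/
theorem Z1 (M : Subgroup Y) [hMn : M.Normal]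
    (hMmin : ∀ B : Subgroup Y, B.Normal → B ≤ M → B = ⊥ ∨ B = M) (ℓ : ℕ) [hℓ : Fact ℓ.Prime]
    (hℓM : ℓ ∣ Nat.card M)
    (P : Subgroup (Y ⧸ Subgroup.centralizer (M : Set Y))) [hPn : P.Normal] (hP : IsPGroup ℓ P) :
    P = ⊥ := by
  classical
  set C := Subgroup.centralizer (M : Set Y) with hC
  set π := QuotientGroup.mk' C with hπ
  have hπsurj : Function.Surjective π := QuotientGroup.mk'_surjective C
  set Pt := P.comap π with hPt
  haveI : Pt.Normal := Subgroup.Normal.comap hPn π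
  set D := M ⊓ Subgroup.centralizer (Pt : Set Y) with hD
  haveI : D.Normal := Subgroup.normal_inf_normal _ _
  rcases hMmin D inferInstance inf_le_left with hD0 | hDM
  · exfalso
    -- the action of Y / C on M
    let ψ : Y →* MulAut M := MulAut.conjNormal
    have hCker : C ≤ ψ.ker := by
      intro c hc
      rw [MonoidHom.mem_ker]
      ext m
      have h1 := Subgroup.mem_centralizer_iff.1 hc (m : Y) m.2
      show c * (m : Y) * c⁻¹ = m
      rw [← h1]; group
    let ψ' : (Y ⧸ C) →* MulAut M := QuotientGroup.lift C ψ hCker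
    letI : MulAction (Y ⧸ C) M := MulAction.compHom M ψ'
    have hact : ∀ (y : Y) (m : M), (((π y : Y ⧸ C) • m : M) : Y) = y * (m : Y) * y⁻¹ := fun y m => rfl
    have h1fix : (1 : M) ∈ MulAction.fixedPoints P M := by
      intro p
      obtain ⟨y, hy⟩ := hπsurj (p : Y ⧸ C)
      apply Subtype.ext
      show (((p : Y ⧸ C) • (1 : M) : M) : Y) = ((1 : M) : Y)
      rw [← hy, hact]
      simp
    obtain ⟨m, hmfix, hm1⟩ := hP.exists_fixed_point_of_prime_dvd_card_of_fixed_point (α := M) hℓM h1fix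
    have hmD : (m : Y) ∈ D := by
      refine ⟨m.2, ?_⟩
      change (m : Y) ∈ Subgroup.centralizer _
      rw [Subgroup.mem_centralizer_iff]
      intro y hy
      have hy' : π y ∈ P := hy
      have h3 := hmfix ⟨π y, hy'⟩
      have h4 : (((π y : Y ⧸ C) • m : M) : Y) = (m : Y) := congrArg Subtype.val h3
      rw [hact] at h4
      calc y * (m : Y) = (y * (m : Y) * y⁻¹) * y := by group
        _ = (m : Y) * y := by rw [h4]
    rw [hD0, Subgroup.mem_bot] at hmD
    exact hm1 (Subtype.ext hmD.symm)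
  · -- Pt centralizes M
    have h1 : Pt ≤ C := by
      intro y hy
      rw [hC, Subgroup.mem_centralizer_iff]
      intro m hm
      have hmD : m ∈ D := by rw [hDM]; exact hm
      exact (Subgroup.mem_centralizer_iff.1 hmD.2 y hy).symm
    rw [eq_bot_iff]
    intro p hp
    obtain ⟨y, rfl⟩ := hπsurj p
    have hy : y ∈ Pt := hp
    rw [Subgroup.mem_bot]
    exact (QuotientGroup.eq_one_iff y).2 (h1 hy)

end Z1

section Z
variable {Y : Type*} [Group Y] [Finite Y]

/-- a minimal normal subgroup of a solvable group is elementary abelian -/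
theorem min_normal_elementary [hs : Group.IsSolvable Y] (M : Subgroup Y) [hMn : M.Normal]
    (hM1 : M ≠ ⊥) (hMmin : ∀ B : Subgroup Y, B.Normal → B ≤ M → B = ⊥ ∨ B = M) :
    ∃ ℓ : ℕ, ℓ.Prime ∧ ℓ ∣ Nat.card M ∧ (∀ a ∈ M, ∀ b ∈ M, a * b = b * a) ∧ ∀ a ∈ M, a ^ ℓ = 1 := by
  obtain ⟨hcomm, ℓ, a, hℓ, hcard⟩ := Cfsg.Agent.Lib.helper3.Berger.minimal_normal_solvable M hM1 hMmin
  haveI : Fact ℓ.Prime := ⟨hℓ⟩
  have ha : a ≠ 0 := by
    intro h0
    rw [h0, pow_zero] at hcard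
    exact hM1 (Subgroup.card_eq_one.1 hcard)
  have hdvd : ℓ ∣ Nat.card M := by rw [hcard]; exact dvd_pow_self ℓ ha
  refine ⟨ℓ, hℓ, hdvd, hcomm, ?_⟩
  -- the subgroup of elements of order dividing ℓ
  let Mℓ : Subgroup Y :=
    { carrier := {m | m ∈ M ∧ m ^ ℓ = 1}
      mul_mem' := by
        rintro a b ⟨ha, ha'⟩ ⟨hb, hb'⟩
        refine ⟨M.mul_mem ha hb, ?_⟩
        have hc : Commute a b := hcomm a ha b hb
        rw [hc.mul_pow, ha', hb', one_mul]
      one_mem' := ⟨M.one_mem, one_pow _⟩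
      inv_mem' := by
        rintro a ⟨ha, ha'⟩
        exact ⟨M.inv_mem ha, by rw [inv_pow, ha', inv_one]⟩ }
  have hMℓn : Mℓ.Normal := by
    constructor
    rintro m ⟨hm, hm'⟩ g
    refine ⟨hMn.conj_mem m hm g, ?_⟩
    rw [conj_pow, hm', mul_one, mul_inv_cancel]
  have hMℓle : Mℓ ≤ M := fun m hm => hm.1
  rcases hMmin Mℓ hMℓn hMℓle with h0 | h1
  · exfalso
    obtain ⟨m, hm⟩ := exists_prime_orderOf_dvd_card' (G := M) ℓ hdvd
    have hmem : (m : Y) ∈ Mℓ := by
      refine ⟨m.2, ?_⟩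
      have : m ^ ℓ = 1 := by rw [← hm]; exact pow_orderOf_eq_one m
      have h2 := congrArg Subtype.val this
      rwa [Subgroup.coe_pow] at h2
    rw [h0, Subgroup.mem_bot] at hmem
    have hm1 : m = 1 := Subtype.ext hmem
    rw [hm1, orderOf_one] at hm
    exact hℓ.one_lt.ne hm
  · intro a ha
    have : a ∈ Mℓ := by rw [h1]; exact ha
    exact this.2

end Z

section Zmain
variable {Y : Type*} [Group Y] [Finite Y]

theorem Z [hs : Group.IsSolvable Y] (hodd : Odd (Nat.card Y))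
    (M K : Subgroup Y) [hMn : M.Normal] [hKn : K.Normal] (hM1 : M ≠ ⊥)
    (hMmin : ∀ B : Subgroup Y, B.Normal → B ≤ M → B = ⊥ ∨ B = M) (hMK : M ≤ K)
    (x : Y) (r : ℕ) (hr : r.Prime) (hxr : x ^ r = 1) (hcop : r.Coprime (Nat.card K))
    (hCM : ∀ m ∈ M, x * m = m * x → m = 1) :
    ∀ g ∈ K, ⁅g, x⁆ ∈ Subgroup.centralizer (M : Set Y) := by
  classical
  haveI : Fact r.Prime := ⟨hr⟩
  obtain ⟨ℓ, hℓ, hℓM, hMcomm, hMexp⟩ := min_normal_elementary M hM1 hMmin
  haveI : Fact ℓ.Prime := ⟨hℓ⟩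
  have hMKcard : Nat.card M ∣ Nat.card K := Subgroup.card_dvd_of_le hMK
  have hℓK : ℓ ∣ Nat.card K := hℓM.trans hMKcard
  have hℓr : ℓ ≠ r := by
    intro h
    have h3 : r ∣ Nat.gcd r (Nat.card K) := Nat.dvd_gcd dvd_rfl (h ▸ hℓK)
    rw [hcop] at h3
    exact hr.one_lt.ne' (Nat.dvd_one.1 h3)
  -- x ≠ 1
  have hx1 : x ≠ 1 := by
    intro h
    apply hM1
    rw [eq_bot_iff]
    intro m hm
    rw [Subgroup.mem_bot]
    apply hCM m hm
    rw [h, one_mul, mul_one]
  have hord : orderOf x = r := orderOf_eq_prime hxr hx1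
  set X₀ := Subgroup.zpowers x with hX₀
  have hX₀card : Nat.card X₀ = r := by rw [hX₀, Nat.card_zpowers, hord]
  have hxX₀ : x ∈ X₀ := Subgroup.mem_zpowers x
  have hX₀K : X₀ ≤ Subgroup.normalizer (K : Set Y) := by
    rw [Subgroup.normalizer_eq_top]; exact le_top
  have hcop' : (Nat.card X₀).Coprime (Nat.card K) := by rw [hX₀card]; exact hcop
  -- an invariant Hall ℓ'-subgroup
  obtain ⟨H, ⟨hHK, hHπ, hHidx⟩, hX₀H⟩ :=
    exists_invariant_isPiHallOf X₀ K hX₀K hcop' inferInstance {q | q ≠ ℓ}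
  have hℓH : ¬ ℓ ∣ Nat.card H := fun h => hHπ ℓ hℓ h rfl
  have hHcardK : Nat.card H ∣ Nat.card K := Subgroup.card_dvd_of_le hHK
  have hcopH : (Nat.card X₀).Coprime (Nat.card H) := Nat.Coprime.coprime_dvd_right hHcardK hcop'
  have hinf : X₀ ⊓ H = ⊥ := (Subgroup.disjoint_of_coprime_natCard hcopH).eq_bot
  have hcardsup : Nat.card (X₀ ⊔ H : Subgroup Y) = r * Nat.card H := by
    have h3 := card_sup_mul_card_inf X₀ H hX₀H
    rw [hinf, Subgroup.card_bot, mul_one, hX₀card] at h3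
    exact h3
  have hcardsup' : Nat.card (H ⊔ X₀ : Subgroup Y) = r * Nat.card H := by rw [sup_comm]; exact hcardsup
  have hrel : H.relIndex (H ⊔ X₀) = r := by
    have h3 := card_eq_relIndex_mul_card (le_sup_left : H ≤ H ⊔ X₀)
    rw [hcardsup'] at h3
    exact (Nat.eq_of_mul_eq_mul_right Nat.card_pos h3).symm
  -- apply S3769
  have h3769 := Cfsg.Agent.S3769.result (X := Y) (H ⊔ X₀) inferInstance
    (Odd.of_dvd_nat hodd (Subgroup.card_subgroup_dvd_card _)) M hℓ
    ⟨⟨⟨fun a b => Subtype.ext (hMcomm a a.2 b b.2)⟩⟩, hMexp⟩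
    (by
      rw [hcardsup']
      intro h
      rcases (Nat.Prime.dvd_mul hℓ).1 h with h | h
      · exact hℓr ((Nat.prime_dvd_prime_iff_eq hℓ hr).1 h)
      · exact hℓH h)
    (by rw [Subgroup.normalizer_eq_top]; exact le_top)
    H X₀ le_sup_left (sup_le Subgroup.le_normalizer hX₀H)
    (by
      rw [hrel]
      exact (Nat.Coprime.coprime_dvd_right hHcardK hcop).symm)
    le_sup_right (by rw [hX₀card]; exact hr) (by rw [inf_comm]; exact hinf) rfl
    (by
      rw [eq_bot_iff]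
      rintro m ⟨hm, hmc⟩
      rw [Subgroup.mem_bot]
      apply hCM m hm
      exact Subgroup.mem_centralizer_iff.1 hmc x hxX₀)
  -- the quotient by the centralizer of M
  set C := Subgroup.centralizer (M : Set Y) with hC
  set π := QuotientGroup.mk' C with hπ
  have hπsurj : Function.Surjective π := QuotientGroup.mk'_surjective C
  set Kb : Subgroup (Y ⧸ C) := K.map π with hKb
  haveI hKbn : Kb.Normal := Subgroup.Normal.map hKn π hπsurj
  set α : MulAut Kb := MulAut.conjNormal (π x) with hα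
  have hαapp : ∀ k : Kb, ((α k : Kb) : Y ⧸ C) = π x * (k : Y ⧸ C) * (π x)⁻¹ := fun k => rfl
  have hαr : α ^ r = 1 := by
    rw [hα, ← map_pow, ← map_pow, hxr, map_one, map_one]
  have hcopKb : r.Coprime (Nat.card Kb) :=
    Nat.Coprime.coprime_dvd_right (Subgroup.card_map_dvd (H := K) π) hcop
  set H₁ : Subgroup Kb := (H.map π).subgroupOf Kb with hH₁
  have hH₁fix : ∀ h ∈ H₁, α h = h := by
    intro h hh
    rw [hH₁, Subgroup.mem_subgroupOf] at hh
    obtain ⟨h₀, hh₀, hh₀'⟩ := hh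
    apply Subtype.ext
    rw [hαapp, ← hh₀']
    have h4 : ⁅x, h₀⁆ ∈ C := h3769 (Subgroup.commutator_mem_commutator hxX₀ hh₀)
    have h5 : π ⁅x, h₀⁆ = 1 := (QuotientGroup.eq_one_iff _).2 h4
    rw [map_commutatorElement, commutatorElement_eq_one_iff_mul_comm] at h5
    rw [h5, mul_inv_cancel_right]
  have hidx₁ : ∀ q : ℕ, q.Prime → q ≠ ℓ → ¬ q ∣ H₁.index := by
    intro q hq hqℓ hdvd
    apply hHidx q hq hqℓ
    have h4 : H₁ = (H.subgroupOf K).map (π.subgroupMap K) := by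
      ext k
      constructor
      · intro hk
        rw [hH₁, Subgroup.mem_subgroupOf] at hk
        obtain ⟨h₀, hh₀, e⟩ := hk
        exact ⟨⟨h₀, hHK hh₀⟩, Subgroup.mem_subgroupOf.2 hh₀, Subtype.ext e⟩
      · rintro ⟨⟨h₀, hh₀K⟩, hh₀, rfl⟩
        rw [hH₁, Subgroup.mem_subgroupOf]
        exact ⟨h₀, Subgroup.mem_subgroupOf.1 hh₀, rfl⟩
    rw [h4] at hdvd
    exact dvd_trans hdvd (Subgroup.index_map_dvd (H.subgroupOf K) (MonoidHom.subgroupMap_surjective π K))
  have hOℓ : Cfsg.pCore ℓ Kb = ⊥ := by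
    have hnorm : ((Cfsg.pCore ℓ Kb).map Kb.subtype).Normal := by
      rw [← Subgroup.normalizer_eq_top_iff]
      rw [eq_top_iff]
      have h4 : Subgroup.normalizer (Kb : Set (Y ⧸ C)) = ⊤ := Subgroup.normalizer_eq_top Kb
      rw [← h4]
      exact Cfsg.Agent.H2.normalizer_le_normalizer_pCore ℓ Kb
    have hPg : IsPGroup ℓ ((Cfsg.pCore ℓ Kb).map Kb.subtype) := (pCore_isPGroup ℓ).map _
    have h4 := Z1 M hMmin ℓ hℓM ((Cfsg.pCore ℓ Kb).map Kb.subtype) hPg
    rw [eq_bot_iff]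
    intro k hk
    have h5 : (k : Y ⧸ C) ∈ (Cfsg.pCore ℓ Kb).map Kb.subtype := ⟨k, hk, rfl⟩
    rw [h4, Subgroup.mem_bot] at h5
    rw [Subgroup.mem_bot]
    exact Subtype.ext h5
  have key := Z2 α r ℓ hαr hcopKb H₁ hH₁fix hidx₁ hOℓ
  intro g hg
  have h4 := key ⟨π g, Subgroup.mem_map_of_mem π hg⟩
  have h5 : π x * π g * (π x)⁻¹ = π g := congrArg Subtype.val h4
  have h6 : π ⁅g, x⁆ = 1 := by
    rw [map_commutatorElement, commutatorElement_eq_one_iff_mul_comm]
    calc π g * π x = (π x * π g * (π x)⁻¹) * π x := by rw [h5]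
      _ = π x * π g := by group
  exact (QuotientGroup.eq_one_iff _).1 h6

end Zmain

end Cfsg.Agent.H2.BG37
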