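import Mathlib
import Cfsg.Prelude.Def_LieExceptional
import Cfsg.Agent.H1.CoprimeFix
import Cfsg.Agent.H1.Cores
import Cfsg.Agent.Lib.Helper4.Nilpotent
import Cfsg.Agent.Lib.Lead.PGroup

/-!
# Quotients of CN-groups by solvable normal subgroups are CN-groups

(author: helper2)
-/

set_option autoImplicit false

namespace Cfsg.Agent.H2.CNQ

open scoped commutatorElement Pointwise

variable {G : Type*} [Group G]

/-- coprime lifting: if `⟨a⟩` acts trivially on the coset `g N` (`|a|` coprime to `|N|`),
some element of `g N` commutes with `a` -/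
theorem exists_mul_commute [Finite G] (N : Subgroup G) [hN : N.Normal] (a g : G)
    (hcop : (orderOf a).Coprime (Nat.card N))
    (h : ∀ i : ℤ, ⁅a ^ i, g⁆ ∈ N) : ∃ d ∈ N, Commute (g * d) a := by
  have hDA : Subgroup.zpowers a ≤ Subgroup.normalizer (N : Set G) := by
    rw [Subgroup.normalizer_eq_top]; exact le_top
  have hcop' : (Nat.card (Subgroup.zpowers a)).Coprime (Nat.card N) := by
    rw [Nat.card_zpowers]; exact hcop
  have hsolv : Group.IsSolvable (Subgroup.zpowers a) :=
    Group.isSolvable_of_comm (fun x y => by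
      obtain ⟨i, hi⟩ := Subgroup.mem_zpowers_iff.mp x.2
      obtain ⟨j, hj⟩ := Subgroup.mem_zpowers_iff.mp y.2
      apply Subtype.ext
      rw [Subgroup.coe_mul, Subgroup.coe_mul, ← hi, ← hj, ← zpow_add, ← zpow_add, add_comm])
  have hfix : ∀ a' ∈ Subgroup.zpowers a, g⁻¹ * (a' * g * a'⁻¹) ∈ N := by
    intro a' ha'
    obtain ⟨i, rfl⟩ := Subgroup.mem_zpowers_iff.mp ha'
    have h1 := hN.conj_mem _ (h i) g⁻¹
    have e : g⁻¹ * ⁅a ^ i, g⁆ * g⁻¹⁻¹ = g⁻¹ * (a ^ i * g * (a ^ i)⁻¹) := by
      rw [commutatorElement_def]; group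
    rwa [e] at h1
  obtain ⟨d, hd, hconj⟩ := Cfsg.Agent.H1.exists_mul_normalizes_of_coset_fixed
    (Subgroup.zpowers a) N hDA hcop' (Or.inl hsolv) g hfix
  refine ⟨d, hd, ?_⟩
  have h1 : (g * d) * a * (g * d)⁻¹ ∈ Subgroup.zpowers a := by
    have := (Cfsg.Agent.H1.conj_mem_conj_smul (g * d) a (Subgroup.zpowers a)).mpr
      (Subgroup.mem_zpowers a)
    rwa [hconj] at this
  have h2 : ⁅g * d, a⁆ ∈ Subgroup.zpowers a := by
    rw [commutatorElement_def]
    exact mul_mem h1 (inv_mem (Subgroup.mem_zpowers a))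
  have h3 : ⁅g * d, a⁆ ∈ N := by
    rw [← QuotientGroup.eq_one_iff]
    have hd1 : ((d : G) : G ⧸ N) = 1 := (QuotientGroup.eq_one_iff d).mpr hd
    have h4 : ((⁅a ^ (1 : ℤ), g⁆ : G) : G ⧸ N) = 1 := (QuotientGroup.eq_one_iff _).mpr (h 1)
    rw [zpow_one, commutatorElement_def] at h4
    rw [commutatorElement_def]
    simp only [QuotientGroup.mk_mul, QuotientGroup.mk_inv, hd1, mul_one] at h4 ⊢
    -- h4 : a g a⁻¹ g⁻¹ = 1 in the quotient ; goal : g a g⁻¹ a⁻¹ = 1
    have h5 : ((a : G) : G ⧸ N) * (g : G ⧸ N) = (g : G ⧸ N) * (a : G ⧸ N) := by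
      calc ((a : G) : G ⧸ N) * (g : G ⧸ N)
          = ((a : G ⧸ N) * (g : G ⧸ N) * (a : G ⧸ N)⁻¹ * (g : G ⧸ N)⁻¹) *
            ((g : G ⧸ N) * (a : G ⧸ N)) := by group
        _ = (g : G ⧸ N) * (a : G ⧸ N) := by rw [h4, one_mul]
    calc (g : G ⧸ N) * (a : G ⧸ N) * (g : G ⧸ N)⁻¹ * (a : G ⧸ N)⁻¹
        = ((a : G ⧸ N) * (g : G ⧸ N)) * (g : G ⧸ N)⁻¹ * (a : G ⧸ N)⁻¹ := by rw [h5]
      _ = 1 := by group
  have h4 : ⁅g * d, a⁆ ∈ Subgroup.zpowers a ⊓ N := Subgroup.mem_inf.mpr ⟨h2, h3⟩
  rw [(Subgroup.disjoint_of_coprime_natCard hcop').eq_bot, Subgroup.mem_bot] at h4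
  exact commutatorElement_eq_one_iff_commute.mp h4

/-- being a CN-group is invariant under isomorphism -/
theorem cn_of_mulEquiv {G₁ G₂ : Type*} [Group G₁] [Group G₂] (e : G₁ ≃* G₂)
    (h : Cfsg.IsCNGroup G₁) : Cfsg.IsCNGroup G₂ := by
  intro g hg
  have hg' : e.symm g ≠ 1 := by
    intro h1
    apply hg
    have := congrArg e h1
    simpa using this
  have hnil := h (e.symm g) hg'
  let f : ↥(Subgroup.centralizer ({g} : Set G₂)) →* ↥(Subgroup.centralizer ({e.symm g} : Set G₁)) :=
    (e.symm.toMonoidHom.comp (Subgroup.subtype _)).codRestrict _ (by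
      intro c
      rw [Subgroup.mem_centralizer_singleton_iff]
      have hc := Subgroup.mem_centralizer_singleton_iff.mp c.2
      simp only [MonoidHom.coe_comp, Function.comp_apply, Subgroup.coe_subtype,
        MulEquiv.coe_toMonoidHom]
      rw [← map_mul, hc, map_mul])
  have hf : Function.Injective f := by
    intro c₁ c₂ h12
    have h1 := congrArg Subtype.val h12
    simp only [f, MonoidHom.codRestrict_apply, MonoidHom.coe_comp, Function.comp_apply,
      Subgroup.coe_subtype, MulEquiv.coe_toMonoidHom] at h1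
    exact Subtype.ext (e.symm.injective h1)
  have := hnil
  apply Subgroup.isNilpotent_of_ker_le_center f
  rw [(MonoidHom.ker_eq_bot_iff f).mpr hf]
  exact bot_le

theorem nilpotent_of_le {H K : Subgroup G} (hHK : H ≤ K) (hK : Group.IsNilpotent K) :
    Group.IsNilpotent H := by
  have := hK
  apply Subgroup.isNilpotent_of_ker_le_center (Subgroup.inclusion hHK)
  rw [(MonoidHom.ker_eq_bot_iff _).mpr (Subgroup.inclusion_injective hHK)]
  exact bot_le

theorem nilpotent_map {G' : Type*} [Group G'] (f : G →* G') {H : Subgroup G}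
    (hH : Group.IsNilpotent H) : Group.IsNilpotent (H.map f) := by
  have := hH
  exact Group.nilpotent_of_surjective (f.subgroupMap H) (f.subgroupMap_surjective H)

theorem commutator_pow_mem_of_commute_mk (N : Subgroup G) [N.Normal] (y x : G)
    (h : Commute (QuotientGroup.mk y : G ⧸ N) (QuotientGroup.mk x)) (i : ℤ) : ⁅y ^ i, x⁆ ∈ N := by
  rw [← QuotientGroup.eq_one_iff]
  have e : ((⁅y ^ i, x⁆ : G) : G ⧸ N) =
      ⁅(QuotientGroup.mk y : G ⧸ N) ^ i, (QuotientGroup.mk x : G ⧸ N)⁆ := by
    simp [commutatorElement_def]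
  rw [e, commutatorElement_eq_one_iff_commute]
  exact h.zpow_left i

/-- the core case: quotient by a nontrivial abelian normal `p`-subgroup -/
theorem cn_quotient_of_abelian_pgroup [Finite G] {p : ℕ} [Fact p.Prime] (hCN : Cfsg.IsCNGroup G)
    (N : Subgroup G) [hN : N.Normal] (hNp : IsPGroup p N) (hN1 : N ≠ ⊥)
    (hNab : ∀ a ∈ N, ∀ b ∈ N, a * b = b * a) : Cfsg.IsCNGroup (G ⧸ N) := by
  have hpp : p.Prime := Fact.out
  intro q hq
  obtain ⟨m, r, hr, hqm⟩ : ∃ m r : ℕ, r.Prime ∧ orderOf (q ^ m) = r := by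
    have h1 : orderOf q ≠ 1 := by rw [Ne, orderOf_eq_one_iff]; exact hq
    obtain ⟨r, hr, hrd⟩ := Nat.exists_prime_and_dvd h1
    have hpos : 0 < orderOf q := orderOf_pos q
    refine ⟨orderOf q / r, r, hr, ?_⟩
    rw [orderOf_pow_of_dvd (Nat.div_pos (Nat.le_of_dvd hpos hrd) hr.pos).ne'
      (Nat.div_dvd_of_dvd hrd), Nat.div_div_self hrd hpos.ne']
  have hle : Subgroup.centralizer ({q} : Set (G ⧸ N)) ≤ Subgroup.centralizer {q ^ m} := by
    intro c hc
    rw [Subgroup.mem_centralizer_singleton_iff] at hc ⊢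
    exact (Commute.pow_right (show Commute c q from hc) m).eq
  apply nilpotent_of_le hle
  obtain ⟨x, hx⟩ := QuotientGroup.mk_surjective (q ^ m)
  rw [← hx] at hqm ⊢
  have hxN : x ∉ N := by
    intro h
    have h1 : (QuotientGroup.mk x : G ⧸ N) = 1 := (QuotientGroup.eq_one_iff x).mpr h
    rw [h1, orderOf_one] at hqm
    exact hr.one_lt.ne hqm
  obtain ⟨k, hk⟩ := hNp.exists_card_eq
  have hxr : x ^ r ∈ N := by
    rw [← QuotientGroup.eq_one_iff, QuotientGroup.mk_pow, ← hqm]
    exact pow_orderOf_eq_one _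
  obtain ⟨e, he⟩ := hNp ⟨x ^ r, hxr⟩
  have he' : (x ^ r) ^ p ^ e = 1 := by
    have := congrArg Subtype.val he
    simpa using this
  by_cases hrp : r = p
  · -- the preimage of the centralizer is nilpotent
    rw [hrp] at hqm hxr he'
    obtain ⟨C, hCdef⟩ : ∃ C : Subgroup G, C =
        (Subgroup.centralizer ({(QuotientGroup.mk x : G ⧸ N)} : Set (G ⧸ N))).comap
          (QuotientGroup.mk' N) := ⟨_, rfl⟩
    have hmemC : ∀ g : G, g ∈ C ↔
        Commute (QuotientGroup.mk g : G ⧸ N) (QuotientGroup.mk x) := by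
      intro g
      rw [hCdef, Subgroup.mem_comap, Subgroup.mem_centralizer_singleton_iff]
      exact Iff.rfl
    have hNC : N ≤ C := fun n hn => by
      rw [hmemC, (QuotientGroup.eq_one_iff n).mpr hn]; exact Commute.one_left _
    have hxC : x ∈ C := by rw [hmemC]
    have hzx : IsPGroup p (Subgroup.zpowers x) := by
      rintro ⟨y, hy⟩
      obtain ⟨i, rfl⟩ := Subgroup.mem_zpowers_iff.mp hy
      refine ⟨e + 1, Subtype.ext ?_⟩
      rw [Subgroup.coe_pow, Subgroup.coe_one, ← zpow_natCast, ← zpow_mul, mul_comm, zpow_mul,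
        zpow_natCast, pow_succ', pow_mul, he', one_zpow]
    have hP₀ : IsPGroup p ↥(N ⊔ Subgroup.zpowers x) := IsPGroup.to_sup_of_normal_left hNp hzx
    have hP₀C : N ⊔ Subgroup.zpowers x ≤ C := sup_le hNC ((Subgroup.zpowers_le).mpr hxC)
    have hP₀' : IsPGroup p ↥((N ⊔ Subgroup.zpowers x).subgroupOf C) :=
      hP₀.of_equiv (Subgroup.subgroupOfEquivOfLe hP₀C).symm
    obtain ⟨P, hP⟩ := hP₀'.exists_le_sylow
    have hNn' : ((N.subgroupOf C).subgroupOf (P : Subgroup C)).Normal :=
      (hN.subgroupOf C).subgroupOf _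
    have hNP : ∀ n : G, ∀ hn : n ∈ N, (⟨n, hNC hn⟩ : C) ∈ (P : Subgroup C) := by
      intro n hn
      apply hP
      rw [Subgroup.mem_subgroupOf]
      exact (le_sup_left : N ≤ N ⊔ Subgroup.zpowers x) hn
    have hne : (N.subgroupOf C).subgroupOf (P : Subgroup C) ≠ ⊥ := by
      intro hbot
      apply hN1
      rw [eq_bot_iff]
      intro n hn
      have h1 : (⟨⟨n, hNC hn⟩, hNP n hn⟩ : ↥(P : Subgroup C)) ∈
          (N.subgroupOf C).subgroupOf (P : Subgroup C) := by
        rw [Subgroup.mem_subgroupOf, Subgroup.mem_subgroupOf]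
        exact hn
      rw [hbot, Subgroup.mem_bot] at h1
      have h2 := congrArg (fun t : ↥(P : Subgroup C) => ((t : C) : G)) h1
      simpa using h2
    obtain ⟨z, hzN, hzc, hz1⟩ :=
      Cfsg.Agent.Lib.Lead.PGroup.exists_mem_center_of_normal P.isPGroup' _ hne
    have hz'N : ((z : C) : G) ∈ N := by
      rw [Subgroup.mem_subgroupOf, Subgroup.mem_subgroupOf] at hzN
      exact hzN
    have hz'1 : ((z : C) : G) ≠ 1 := by
      intro h
      apply hz1
      apply Subtype.ext
      apply Subtype.ext
      exact h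
    have hzcomm : ∀ w : C, w ∈ (P : Subgroup C) →
        (w : G) * ((z : C) : G) = ((z : C) : G) * (w : G) := by
      intro w hw
      have h1 := (Subgroup.mem_center_iff.mp hzc) ⟨w, hw⟩
      have h2 := congrArg (fun t : ↥(P : Subgroup C) => ((t : C) : G)) h1
      simpa using h2
    have hK := hCN _ hz'1
    have hCK : C ≤ Subgroup.centralizer {((z : C) : G)} := by
      rw [← Subgroup.subgroupOf_eq_top]
      apply Cfsg.Agent.H1.eq_top_of_forall_sylow_le
      intro s hs
      by_cases hsp : s = p
      · subst hsp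
        refine ⟨P, ?_⟩
        intro w hw
        rw [Subgroup.mem_subgroupOf, Subgroup.mem_centralizer_singleton_iff]
        exact hzcomm w hw
      · obtain ⟨S⟩ : Nonempty (Sylow s ↥C) := inferInstance
        refine ⟨S, ?_⟩
        intro y hy
        rw [Subgroup.mem_subgroupOf, Subgroup.mem_centralizer_singleton_iff]
        obtain ⟨e₁, he₁⟩ := S.isPGroup' ⟨y, hy⟩
        have hye : (y : G) ^ s ^ e₁ = 1 := by
          have := congrArg (fun t : ↥(S : Subgroup C) => ((t : C) : G)) he₁
          simpa using this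
        have hcy : Commute (QuotientGroup.mk (y : G) : G ⧸ N) (QuotientGroup.mk x) :=
          (hmemC _).mp y.2
        have hcop : (orderOf (y : G)).Coprime (Nat.card N) := by
          rw [hk]
          exact Nat.Coprime.coprime_dvd_left (orderOf_dvd_of_pow_eq_one hye)
            (Nat.Coprime.pow _ _ ((Nat.coprime_primes hs.out hpp).mpr hsp))
        obtain ⟨d, hd, hcd⟩ := exists_mul_commute N (y : G) x hcop
          (commutator_pow_mem_of_commute_mk N _ _ hcy)
        have hx₁ : x * d ≠ 1 := by
          intro h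
          apply hxN
          have : x = d⁻¹ := eq_inv_of_mul_eq_one_left h
          rw [this]
          exact N.inv_mem hd
        have hD := hCN _ hx₁
        have hyD : (y : G) ∈ Subgroup.centralizer {x * d} := by
          rw [Subgroup.mem_centralizer_singleton_iff]
          exact hcd.eq.symm
        have hzD : ((z : C) : G) ∈ Subgroup.centralizer {x * d} := by
          rw [Subgroup.mem_centralizer_singleton_iff]
          have h1 : x * ((z : C) : G) = ((z : C) : G) * x := by
            have hxP : (⟨x, hxC⟩ : C) ∈ (P : Subgroup C) := by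
              apply hP
              rw [Subgroup.mem_subgroupOf]
              exact (le_sup_right : Subgroup.zpowers x ≤ N ⊔ Subgroup.zpowers x)
                (Subgroup.mem_zpowers x)
            exact hzcomm ⟨x, hxC⟩ hxP
          have h2 : ((z : C) : G) * d = d * ((z : C) : G) := hNab _ hz'N _ hd
          calc ((z : C) : G) * (x * d) = (((z : C) : G) * x) * d := by group
            _ = (x * ((z : C) : G)) * d := by rw [h1]
            _ = x * (((z : C) : G) * d) := by group
            _ = x * (d * ((z : C) : G)) := by rw [h2]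
            _ = x * d * ((z : C) : G) := by group
        obtain ⟨j, hj⟩ := hNp ⟨((z : C) : G), hz'N⟩
        have hzj : ((z : C) : G) ^ p ^ j = 1 := by
          have := congrArg Subtype.val hj
          simpa using this
        have hco : (orderOf (⟨(y : G), hyD⟩ : ↥(Subgroup.centralizer {x * d}))).Coprime
            (orderOf (⟨((z : C) : G), hzD⟩ : ↥(Subgroup.centralizer {x * d}))) := by
          rw [Subgroup.orderOf_mk, Subgroup.orderOf_mk]
          exact Nat.Coprime.coprime_dvd_left (orderOf_dvd_of_pow_eq_one hye)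
            (Nat.Coprime.coprime_dvd_right (orderOf_dvd_of_pow_eq_one hzj)
              (Nat.Coprime.pow _ _ ((Nat.coprime_primes hs.out hpp).mpr hsp)))
        have := Cfsg.Agent.Lib.Helper4.Nilpotent.commute_of_coprime_orderOf
          ↥(Subgroup.centralizer {x * d}) ⟨(y : G), hyD⟩ ⟨((z : C) : G), hzD⟩ hco
        exact congrArg Subtype.val this
    have hCnil : Group.IsNilpotent C := nilpotent_of_le hCK hK
    have hmap : Subgroup.centralizer ({(QuotientGroup.mk x : G ⧸ N)} : Set (G ⧸ N)) =
        C.map (QuotientGroup.mk' N) := by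
      rw [hCdef, Subgroup.map_comap_eq_self_of_surjective (QuotientGroup.mk'_surjective N)]
    rw [hmap]
    exact nilpotent_map _ hCnil
  · -- an `r`-element preimage
    have hcop1 : Nat.Coprime (p ^ e) (orderOf (QuotientGroup.mk x : G ⧸ N)) := by
      rw [hqm]
      exact Nat.Coprime.pow_left _ ((Nat.coprime_primes hpp hr).mpr (Ne.symm hrp))
    obtain ⟨j, hj⟩ := exists_pow_eq_self_of_coprime hcop1
    obtain ⟨x', hx'def⟩ : ∃ x' : G, x' = (x ^ p ^ e) ^ j := ⟨_, rfl⟩
    have hmk : (QuotientGroup.mk x' : G ⧸ N) = QuotientGroup.mk x := by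
      rw [hx'def, QuotientGroup.mk_pow, QuotientGroup.mk_pow, hj]
    have hx'r : x' ^ r = 1 := by
      have he'' : x ^ (r * p ^ e) = 1 := by rw [pow_mul]; exact he'
      rw [hx'def, ← pow_mul, ← pow_mul]
      have : p ^ e * (j * r) = (r * p ^ e) * j := by ring
      rw [this, pow_mul, he'', one_pow]
    have hx'1 : x' ≠ 1 := by
      intro h
      apply hxN
      rw [← QuotientGroup.eq_one_iff, ← hmk, h]
      rfl
    have hordx' : orderOf x' = r := by
      rcases (Nat.dvd_prime hr).mp (orderOf_dvd_of_pow_eq_one hx'r) with h | h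
      · exact absurd (orderOf_eq_one_iff.mp h) hx'1
      · exact h
    rw [← hmk]
    have hD := hCN x' hx'1
    have hcl : Subgroup.centralizer ({(QuotientGroup.mk x' : G ⧸ N)} : Set (G ⧸ N)) =
        (Subgroup.centralizer {x'}).map (QuotientGroup.mk' N) := by
      apply le_antisymm
      · intro c hc
        obtain ⟨g, rfl⟩ := QuotientGroup.mk_surjective c
        rw [Subgroup.mem_centralizer_singleton_iff] at hc
        have hcomm : Commute (QuotientGroup.mk x' : G ⧸ N) (QuotientGroup.mk g) := hc.symm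
        obtain ⟨d, hd, hcd⟩ := exists_mul_commute N x' g
          (by rw [hordx', hk]
              exact Nat.Coprime.pow_right _ ((Nat.coprime_primes hr hpp).mpr hrp))
          (commutator_pow_mem_of_commute_mk N x' g hcomm)
        refine ⟨g * d, ?_, ?_⟩
        · rw [SetLike.mem_coe, Subgroup.mem_centralizer_singleton_iff]
          exact hcd.eq
        · rw [QuotientGroup.mk'_apply, QuotientGroup.mk_mul, (QuotientGroup.eq_one_iff d).mpr hd,
            mul_one]
      · rintro _ ⟨d, hd, rfl⟩
        rw [SetLike.mem_coe, Subgroup.mem_centralizer_singleton_iff] at hd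
        rw [Subgroup.mem_centralizer_singleton_iff, QuotientGroup.mk'_apply,
          ← QuotientGroup.mk_mul, ← QuotientGroup.mk_mul, hd]
    rw [hcl]
    exact nilpotent_map _ hD

theorem card_map_mk'_lt [Finite G] (N H : Subgroup G) [N.Normal] (hNH : N ≤ H) (hN1 : N ≠ ⊥) :
    Nat.card ↥(H.map (QuotientGroup.mk' N)) < Nat.card H := by
  have h1 : N.relIndex H = Nat.card ↥(H.map (QuotientGroup.mk' N)) := by
    have := Subgroup.relIndex_ker (QuotientGroup.mk' N) (K := H)
    rwa [QuotientGroup.ker_mk'] at this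
  have h2 : Nat.card N * N.relIndex H = Nat.card H := by
    rw [← Subgroup.relIndex_bot_left, ← Subgroup.relIndex_bot_left,
      Subgroup.relIndex_mul_relIndex _ _ _ bot_le hNH]
  have h3 : 1 < Nat.card N := by
    rw [Finite.one_lt_card_iff_nontrivial]
    exact (Subgroup.nontrivial_iff_ne_bot N).mpr hN1
  have h4 : 0 < Nat.card ↥(H.map (QuotientGroup.mk' N)) := Nat.card_pos
  rw [← h2, h1]
  nlinarith

universe u

/-- **`S1473`**: the quotient of a CN-group by a solvable normal subgroup is a CN-group -/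
theorem cn_quotient_aux : ∀ (n : ℕ) (G : Type u) [Group G] [Finite G], Cfsg.IsCNGroup G →
    ∀ (H : Subgroup G) [H.Normal], Group.IsSolvable H → Nat.card H = n →
      Cfsg.IsCNGroup (G ⧸ H) := by
  intro n
  induction n using Nat.strong_induction_on with
  | _ n ih =>
    intro G _ _ hCN H hHn hHs hcard
    by_cases hH1 : H = ⊥
    · subst hH1
      exact cn_of_mulEquiv (QuotientGroup.quotientBot (G := G)).symm hCN
    · have key : ∃ N : Subgroup G, ∃ _ : N.Normal, N ≤ H ∧ N ≠ ⊥ ∧ Cfsg.IsCNGroup (G ⧸ N) := by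
        by_cases hcomm : ⁅H, H⁆ = ⊥
        · -- `H` abelian
          have hHab : ∀ a ∈ H, ∀ b ∈ H, a * b = b * a := by
            intro a ha b hb
            have h1 : ⁅a, b⁆ ∈ ⁅H, H⁆ := Subgroup.commutator_mem_commutator ha hb
            rw [hcomm, Subgroup.mem_bot] at h1
            exact commutatorElement_eq_one_iff_mul_comm.mp h1
          have hc1 : Nat.card H ≠ 1 := by
            rw [Ne, Subgroup.card_eq_one]; exact hH1
          obtain ⟨p, hp, hpd⟩ := Nat.exists_prime_and_dvd hc1
          have : Fact p.Prime := ⟨hp⟩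
          obtain ⟨h₀, hh₀⟩ := exists_prime_orderOf_dvd_card' (G := ↥H) p hpd
          let N : Subgroup G :=
            { carrier := {h | h ∈ H ∧ ∃ k : ℕ, h ^ p ^ k = 1}
              mul_mem' := by
                rintro a b ⟨ha, ka, hka⟩ ⟨hb, kb, hkb⟩
                refine ⟨H.mul_mem ha hb, ka + kb, ?_⟩
                have hc : Commute a b := hHab a ha b hb
                rw [hc.mul_pow, pow_add, pow_mul, hka, one_pow, mul_comm (p ^ ka), pow_mul, hkb,
                  one_pow, one_mul]
              one_mem' := ⟨H.one_mem, 0, one_pow _⟩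
              inv_mem' := by
                rintro a ⟨ha, ka, hka⟩
                exact ⟨H.inv_mem ha, ka, by rw [inv_pow, hka, inv_one]⟩ }
          have hNmem : ∀ h : G, h ∈ N ↔ h ∈ H ∧ ∃ k : ℕ, h ^ p ^ k = 1 := fun h => Iff.rfl
          have hNn : N.Normal := by
            constructor
            intro a ha g
            rw [hNmem] at ha ⊢
            obtain ⟨haH, k, hk⟩ := ha
            exact ⟨hHn.conj_mem a haH g, k, by rw [conj_pow, hk, mul_one, mul_inv_cancel]⟩
          have hNH : N ≤ H := fun h hh => ((hNmem h).mp hh).1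
          have hN1 : N ≠ ⊥ := by
            intro hbot
            have h1 : (h₀ : G) ∈ N := by
              rw [hNmem]
              refine ⟨h₀.2, 1, ?_⟩
              rw [pow_one]
              have h3 : h₀ ^ p = 1 := by rw [← hh₀]; exact pow_orderOf_eq_one _
              have h4 := congrArg Subtype.val h3
              simpa using h4
            rw [hbot, Subgroup.mem_bot] at h1
            have h2 : orderOf (h₀ : G) = 1 := by rw [h1, orderOf_one]
            rw [Subgroup.orderOf_coe, hh₀] at h2
            exact hp.one_lt.ne' h2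
          have hNp : IsPGroup p N := by
            rintro ⟨a, ha⟩
            obtain ⟨-, k, hk⟩ := (hNmem a).mp ha
            exact ⟨k, Subtype.ext hk⟩
          have hNab : ∀ a ∈ N, ∀ b ∈ N, a * b = b * a :=
            fun a ha b hb => hHab a (hNH ha) b (hNH hb)
          exact ⟨N, hNn, hNH, hN1, cn_quotient_of_abelian_pgroup hCN N hNp hN1 hNab⟩
        · -- `H` non-abelian: use the derived subgroup
          have hNn : (⁅H, H⁆ : Subgroup G).Normal := inferInstance
          have hNH : ⁅H, H⁆ ≤ H := Subgroup.commutator_le_left H H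
          have hNs : Group.IsSolvable ↥(⁅H, H⁆ : Subgroup G) := by
            have := hHs
            exact Group.isSolvable_of_isSolvable_injective (Subgroup.inclusion_injective hNH)
          have hlt : Nat.card ↥(⁅H, H⁆ : Subgroup G) < n := by
            rw [← hcard]
            by_contra hcon
            have heq : ⁅H, H⁆ = H := Subgroup.eq_of_le_of_card_ge hNH (not_lt.mp hcon)
            have := hHs
            have : Nontrivial ↥H := (Subgroup.nontrivial_iff_ne_bot H).mpr hH1
            have h1 := Group.IsSolvable.commutator_lt_top_of_nontrivial ↥H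
            have h2 : (commutator ↥H).map H.subtype = (⊤ : Subgroup ↥H).map H.subtype := by
              rw [Subgroup.map_subtype_commutator, heq, ← MonoidHom.range_eq_map,
                Subgroup.range_subtype]
            have h3 := Subgroup.map_injective H.subtype_injective h2
            exact h1.ne h3
          exact ⟨⁅H, H⁆, hNn, hNH, hcomm, ih _ hlt G hCN ⁅H, H⁆ hNs rfl⟩
      obtain ⟨N, hNn, hNH, hN1, hNcn⟩ := key
      have hHNs : Group.IsSolvable ↥(H.map (QuotientGroup.mk' N)) := by
        have := hHs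
        exact Group.isSolvable_of_surjective
          ((QuotientGroup.mk' N).subgroupMap_surjective H)
      have hlt : Nat.card ↥(H.map (QuotientGroup.mk' N)) < n := by
        rw [← hcard]
        exact card_map_mk'_lt N H hNH hN1
      have h1 := ih _ hlt (G ⧸ N) hNcn (H.map (QuotientGroup.mk' N)) hHNs rfl
      exact cn_of_mulEquiv (QuotientGroup.quotientQuotientEquivQuotient N H hNH) h1

theorem cn_quotient {G : Type u} [Group G] [Finite G] (hCN : Cfsg.IsCNGroup G)
    (H : Subgroup G) [H.Normal] (hH : Group.IsSolvable H) : Cfsg.IsCNGroup (G ⧸ H) :=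
  cn_quotient_aux _ G hCN H hH rfl

end Cfsg.Agent.H2.CNQ
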