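import Mathlib
import Cfsg.Agent.H2.FrobComplSylow
import Cfsg.Agent.S0023
import Cfsg.Agent.S0041

/-!
# Subgroups of order `p q` of a fixed-point-free complement are cyclic
-/

namespace Cfsg.Agent.H2.FCPQ

theorem isSolvable_of_card_pq_lt {A : Type*} [Group A] [Finite A] (p q : ℕ) (hp : p.Prime)
    (hq : q.Prime) (hpq : p < q) (hA : Nat.card A = p * q) : Group.IsSolvable A := by
  haveI : Fact q.Prime := ⟨hq⟩
  obtain ⟨Q⟩ : Nonempty (Sylow q A) := inferInstance
  have hfac : (p * q).factorization q = 1 := by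
    rw [Nat.factorization_mul hp.ne_zero hq.ne_zero]
    simp [Nat.Prime.factorization_self hq, Nat.factorization_eq_zero_of_not_dvd
      (fun h => hpq.ne' ((Nat.prime_dvd_prime_iff_eq hq hp).mp h))]
  have hQcard : Nat.card Q = q := by
    rw [Sylow.card_eq_multiplicity, hA, hfac, pow_one]
  have hQidx : (Q : Subgroup A).index = p := by
    have h1 := (Q : Subgroup A).card_mul_index
    rw [hQcard, hA, mul_comm] at h1
    exact Nat.eq_of_mul_eq_mul_right hq.pos h1
  have hmin : (Nat.card A).minFac = p := by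
    rw [hA]
    have h1 : (p * q).minFac ≤ p := Nat.minFac_le_of_dvd hp.two_le (dvd_mul_right p q)
    have h2 : (p * q).minFac.Prime := Nat.minFac_prime (by
      have := hp.two_le; have := hq.two_le; nlinarith)
    rcases (Nat.Prime.dvd_mul h2).mp (Nat.minFac_dvd (p * q)) with h3 | h3
    · exact (Nat.prime_dvd_prime_iff_eq h2 hp).mp h3
    · have := (Nat.prime_dvd_prime_iff_eq h2 hq).mp h3
      omega
  haveI hQn : (Q : Subgroup A).Normal := Subgroup.normal_of_index_eq_minFac_card (hQidx.trans hmin.symm)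
  haveI : Fact (Nat.card (Q : Subgroup A)).Prime := ⟨hQcard.symm ▸ hq⟩
  haveI : IsCyclic (Q : Subgroup A) := isCyclic_of_prime_card rfl
  haveI : Group.IsSolvable (Q : Subgroup A) :=
    Group.isSolvable_of_comm (fun a b => Std.Commutative.comm a b)
  have hquot : Nat.card (A ⧸ (Q : Subgroup A)) = p := by
    rw [← Subgroup.index_eq_card]; exact hQidx
  haveI : Fact (Nat.card (A ⧸ (Q : Subgroup A))).Prime := ⟨hquot.symm ▸ hp⟩
  haveI : IsCyclic (A ⧸ (Q : Subgroup A)) := isCyclic_of_prime_card rfl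
  haveI : Group.IsSolvable (A ⧸ (Q : Subgroup A)) :=
    Group.isSolvable_of_comm (fun a b => Std.Commutative.comm a b)
  apply Group.isSolvable_of_ker_le_range (Q : Subgroup A).subtype (QuotientGroup.mk' (Q : Subgroup A))
  rw [QuotientGroup.ker_mk', Subgroup.range_subtype]

theorem isSolvable_of_card_pq {A : Type*} [Group A] [Finite A] (p q : ℕ) (hp : p.Prime)
    (hq : q.Prime) (hA : Nat.card A = p * q) : Group.IsSolvable A := by
  rcases lt_trichotomy p q with h | h | h
  · exact isSolvable_of_card_pq_lt p q hp hq h hA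
  · subst h
    haveI : Fact p.Prime := ⟨hp⟩
    have hc : IsMulCommutative A :=
      IsPGroup.isMulCommutative_of_card_eq_prime_sq (p := p) (by rw [hA, sq])
    exact Group.isSolvable_of_comm (fun a b => mul_comm' a b)
  · exact isSolvable_of_card_pq_lt q p hq hp h (by rw [hA, mul_comm])

lemma conj_mem_inf_centralizer {G : Type*} [Group G] (S : Subgroup G) (g : G)
    (hg : g ∈ Subgroup.normalizer (S : Set G)) (h : G)
    (hh : h ∈ S ⊓ Subgroup.centralizer (S : Set G)) :
    g * h * g⁻¹ ∈ S ⊓ Subgroup.centralizer (S : Set G) := by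
  have hg' : g⁻¹ ∈ Subgroup.normalizer (S : Set G) := inv_mem hg
  rw [Subgroup.mem_normalizer_iff] at hg hg'
  refine ⟨(hg h).mp hh.1, ?_⟩
  change g * h * g⁻¹ ∈ Subgroup.centralizer (S : Set G)
  rw [Subgroup.mem_centralizer_iff]
  intro y hy
  have hy' : g⁻¹ * y * g ∈ S := by
    have := (hg' y).mp hy
    rwa [inv_inv] at this
  have hc := (Subgroup.mem_centralizer_iff.mp hh.2) _ hy'
  calc y * (g * h * g⁻¹) = g * ((g⁻¹ * y * g) * h) * g⁻¹ := by group
    _ = g * (h * (g⁻¹ * y * g)) * g⁻¹ := by rw [hc]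
    _ = g * h * g⁻¹ * y := by group

lemma normalizer_le_normalizer_inf_centralizer {G : Type*} [Group G] (S : Subgroup G) :
    Subgroup.normalizer (S : Set G) ≤
      Subgroup.normalizer ((S ⊓ Subgroup.centralizer (S : Set G) : Subgroup G) : Set G) := by
  intro g hg
  rw [Subgroup.mem_normalizer_iff]
  intro h
  constructor
  · exact conj_mem_inf_centralizer S g hg h
  · intro hh
    have := conj_mem_inf_centralizer S g⁻¹ (inv_mem hg) _ hh
    have e : g⁻¹ * (g * h * g⁻¹) * g⁻¹⁻¹ = h := by group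
    rwa [e] at this

/-- a subgroup of order `p q` acting fixed-point-freely on a nontrivial normal subgroup is cyclic -/
theorem isCyclic_of_card_pq {G : Type*} [Group G] [Finite G] (K A : Subgroup G) [K.Normal]
    (hK : K ≠ ⊥) (hfpf : ∀ a ∈ A, a ≠ 1 → K ⊓ Subgroup.centralizer {a} = ⊥)
    (p q : ℕ) (hp : p.Prime) (hq : q.Prime) (hA : Nat.card A = p * q) : IsCyclic A := by
  have hcop : (Nat.card A).Coprime (Nat.card K) := by
    apply Nat.coprime_of_dvd
    intro r hr hrA hrK
    haveI : Fact r.Prime := ⟨hr⟩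
    obtain ⟨a, ha⟩ := exists_prime_orderOf_dvd_card' r hrA
    have ha1 : (a : G) ≠ 1 := by
      intro h
      have : a = 1 := Subtype.ext h
      rw [this, orderOf_one] at ha
      exact hr.one_lt.ne ha
    have har : (a : G) ^ r = 1 := by
      have := pow_orderOf_eq_one a
      rw [ha] at this
      exact_mod_cast congrArg Subtype.val this
    exact Cfsg.Agent.H2.FCS.not_dvd_card_of_fpf K r (a : G) har (hfpf a a.2 ha1) hrK
  have hsolv : Group.IsSolvable A := isSolvable_of_card_pq p q hp hq hA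
  have hAK : A ≤ Subgroup.normalizer (K : Set G) := by
    rw [Subgroup.normalizer_eq_top]; exact le_top
  have hKcard : Nat.card K ≠ 1 := by rw [Ne, Subgroup.card_eq_one]; exact hK
  obtain ⟨r, hr, hrK⟩ := Nat.exists_prime_and_dvd hKcard
  haveI : Fact r.Prime := ⟨hr⟩
  obtain ⟨R, hR⟩ := Cfsg.Agent.S0023.result A K hAK hcop (Or.inl hsolv) r
  obtain ⟨R', hR'⟩ : ∃ R' : Subgroup G, R' = (R : Subgroup K).map K.subtype := ⟨_, rfl⟩
  rw [← hR'] at hR
  have hR'K : R' ≤ K := hR' ▸ Subgroup.map_subtype_le _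
  have hR'p : IsPGroup r R' := hR' ▸ R.isPGroup'.map _
  have hR'ne : R' ≠ ⊥ := by
    intro h
    have h1 : (R : Subgroup K) = ⊥ := by
      rw [hR'] at h
      exact (Subgroup.map_eq_bot_iff_of_injective _ K.subtype_injective).mp h
    have h2 := R.card_eq_multiplicity
    rw [h1, Subgroup.card_bot] at h2
    have h3 : 0 < (Nat.card K).factorization r :=
      (hr.factorization_pos_of_dvd Nat.card_pos.ne' hrK)
    have h4 : 1 < r ^ (Nat.card K).factorization r := Nat.one_lt_pow h3.ne' hr.one_lt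
    omega
  obtain ⟨V, hV⟩ : ∃ V : Subgroup G, V = R' ⊓ Subgroup.centralizer (R' : Set G) := ⟨_, rfl⟩
  haveI hVc : IsMulCommutative V := by
    refine ⟨⟨fun a b => Subtype.ext ?_⟩⟩
    have ha0 : (a : G) ∈ R' ⊓ Subgroup.centralizer (R' : Set G) := by rw [← hV]; exact a.2
    have hb0 : (b : G) ∈ R' ⊓ Subgroup.centralizer (R' : Set G) := by rw [← hV]; exact b.2
    have ha : (a : G) ∈ Subgroup.centralizer (R' : Set G) := ha0.2
    have hb : (b : G) ∈ R' := hb0.1
    exact ((Subgroup.mem_centralizer_iff.mp ha) _ hb).symm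
  have hVne : V ≠ ⊥ := by
    haveI : Nontrivial R' := (Subgroup.nontrivial_iff_ne_bot R').mpr hR'ne
    haveI := hR'p.center_nontrivial
    obtain ⟨z, hz⟩ := exists_ne (1 : Subgroup.center R')
    intro h
    have hzV : ((z : R') : G) ∈ V := by
      rw [hV]
      refine ⟨(z : R').2, ?_⟩
      change ((z : R') : G) ∈ Subgroup.centralizer (R' : Set G)
      rw [Subgroup.mem_centralizer_iff]
      intro y hy
      have := (Subgroup.mem_center_iff.mp z.2) ⟨y, hy⟩
      exact congrArg Subtype.val this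
    rw [h, Subgroup.mem_bot] at hzV
    apply hz
    apply Subtype.ext
    apply Subtype.ext
    exact hzV
  have hAV : A ≤ Subgroup.normalizer (V : Set G) := by
    rw [hV]
    exact hR.trans (normalizer_le_normalizer_inf_centralizer R')
  have hfpfV : ∀ a ∈ A, a ≠ 1 → V ⊓ Subgroup.centralizer {a} = ⊥ := by
    intro a ha ha1
    rw [eq_bot_iff, ← hfpf a ha ha1]
    have hVK : V ≤ K := by rw [hV]; exact inf_le_left.trans hR'K
    exact inf_le_inf_right _ hVK
  exact Cfsg.Agent.S0041.result A V hVne hAV hfpfV (Or.inr ⟨p, q, hp, hq, hA⟩)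

end Cfsg.Agent.H2.FCPQ
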