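import Mathlib
import Cfsg.Agent.H2.FrobComplPQ
import Cfsg.Agent.Lib.Helper4.InvAction

/-!
# A Frobenius complement has nontrivial centre
-/

namespace Cfsg.Agent.H2.FCCenter

open scoped commutatorElement

variable {G : Type*} [Group G] [Finite G]

/-- even case: an involution of `H` is central -/
theorem center_ne_bot_of_even (K H : Subgroup G) [K.Normal] (hK : K ≠ ⊥)
    (hfpf : ∀ h ∈ H, h ≠ 1 → K ⊓ Subgroup.centralizer {h} = ⊥) (h2 : 2 ∣ Nat.card H) :
    Subgroup.center H ≠ ⊥ := by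
  haveI : Fact (Nat.Prime 2) := ⟨Nat.prime_two⟩
  obtain ⟨t, ht⟩ := exists_prime_orderOf_dvd_card' 2 h2
  have hinv : ∀ s : H, orderOf s = 2 → ∀ k ∈ K, (s : G) * k * (s : G)⁻¹ = k⁻¹ := by
    intro s hs
    have hs1 : s ≠ 1 := by
      intro h; rw [h, orderOf_one] at hs; omega
    have hs1' : (s : G) ≠ 1 := fun h => hs1 (Subtype.ext h)
    have hss : (s : G) * (s : G) = 1 := by
      have := pow_orderOf_eq_one s
      rw [hs, sq] at this
      exact_mod_cast congrArg Subtype.val this
    apply Cfsg.Agent.Lib.Helper4.InvAction.inverts_of_fixedPointFree K (s : G) hss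
    · intro k hk
      exact (inferInstance : K.Normal).conj_mem k hk _
    · intro k hk hcomm
      have h1 : k ∈ K ⊓ Subgroup.centralizer {(s : G)} :=
        ⟨hk, Subgroup.mem_centralizer_singleton_iff.mpr hcomm.symm⟩
      rw [hfpf s s.2 hs1', Subgroup.mem_bot] at h1
      exact h1
  have hcen : t ∈ Subgroup.center H := by
    rw [Subgroup.mem_center_iff]
    intro h
    have ht' : orderOf (h * t * h⁻¹) = 2 := by
      have : h * t * h⁻¹ = MulAut.conj h t := by simp
      rw [this, MulEquiv.orderOf_eq, ht]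
    obtain ⟨k₀, hk₀⟩ := (Subgroup.ne_bot_iff_exists_ne_one).mp hK
    have hk₀1 : (k₀ : G) ≠ 1 := fun h => hk₀ (Subtype.ext h)
    by_contra hne
    have hs1 : t * (h * t * h⁻¹) ≠ 1 := by
      intro h1
      apply hne
      have htt : t * t = 1 := by
        have := pow_orderOf_eq_one t
        rwa [ht, sq] at this
      have h2 : h * t * h⁻¹ = t := by
        have h3 : h * t * h⁻¹ = t⁻¹ := by
          rw [eq_comm, inv_eq_iff_mul_eq_one]; exact h1
        rw [h3]; exact inv_eq_of_mul_eq_one_left htt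
      calc h * t = h * t * h⁻¹ * h := by group
        _ = t * h := by rw [h2]
    have hs1' : ((t * (h * t * h⁻¹) : H) : G) ≠ 1 := fun h0 => hs1 (Subtype.ext h0)
    have hmem : (k₀ : G) ∈ K ⊓ Subgroup.centralizer {((t * (h * t * h⁻¹) : H) : G)} := by
      refine Subgroup.mem_inf.mpr ⟨k₀.2, ?_⟩
      rw [Subgroup.mem_centralizer_singleton_iff]
      have e3 := hinv (h * t * h⁻¹) ht' (k₀ : G) k₀.2
      have e4 : (t : G) * (k₀ : G)⁻¹ * (t : G)⁻¹ = (k₀ : G) := by
        have := hinv t ht ((k₀ : G)⁻¹) (K.inv_mem k₀.2)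
        rwa [inv_inv] at this
      have e0 : ((t * (h * t * h⁻¹) : H) : G) = (t : G) * ((h * t * h⁻¹ : H) : G) := rfl
      rw [e0]
      have e5 : ((t : G) * ((h * t * h⁻¹ : H) : G)) * (k₀ : G) * ((t : G) * ((h * t * h⁻¹ : H) : G))⁻¹
          = (k₀ : G) := by
        calc ((t : G) * ((h * t * h⁻¹ : H) : G)) * (k₀ : G) * ((t : G) * ((h * t * h⁻¹ : H) : G))⁻¹
            = (t : G) * (((h * t * h⁻¹ : H) : G) * (k₀ : G) * ((h * t * h⁻¹ : H) : G)⁻¹) * (t : G)⁻¹ := by
              group
          _ = (t : G) * (k₀ : G)⁻¹ * (t : G)⁻¹ := by rw [e3]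
          _ = (k₀ : G) := e4
      exact (mul_inv_eq_iff_eq_mul.mp e5).symm
    rw [hfpf _ (t * (h * t * h⁻¹) : H).2 hs1', Subgroup.mem_bot] at hmem
    exact hk₀1 hmem
  intro h
  have : (⟨t, hcen⟩ : Subgroup.center H) = 1 := by
    have h1 : (⟨t, hcen⟩ : Subgroup.center H) ∈ (⊥ : Subgroup (Subgroup.center H)) := by
      rw [Subgroup.mem_bot]
      have : t ∈ (⊥ : Subgroup H) := h ▸ hcen
      rw [Subgroup.mem_bot] at this
      exact Subtype.ext this
    rwa [Subgroup.mem_bot] at h1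
  have ht1 : t = 1 := congrArg Subtype.val this
  rw [ht1, orderOf_one] at ht
  omega

omit [Finite G] in
/-- in a finite cyclic group the elements with `y ^ p = 1` are the powers of any element of order `p` -/
theorem mem_zpowers_of_pow_eq_one_of_cyclic {D : Type*} [Group D] [Finite D] [IsCyclic D] {p : ℕ}
    (hp : p.Prime) (c y : D) (hc : orderOf c = p) (hy : y ^ p = 1) : y ∈ Subgroup.zpowers c := by
  classical
  have := Fintype.ofFinite D
  have h1 := IsCyclic.card_pow_eq_one_le (α := D) hp.pos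
  have hsub : (Subgroup.zpowers c : Set D).toFinset ⊆ Finset.univ.filter (fun a : D => a ^ p = 1) := by
    intro a ha
    rw [Set.mem_toFinset] at ha
    simp only [Finset.mem_filter, Finset.mem_univ, true_and]
    obtain ⟨k, rfl⟩ := Subgroup.mem_zpowers_iff.mp ha
    rw [← zpow_natCast, ← zpow_mul, mul_comm, zpow_mul, zpow_natCast, ← hc, pow_orderOf_eq_one,
      one_zpow]
  have hcard : ((Subgroup.zpowers c : Set D).toFinset).card = p := by
    rw [Set.toFinset_card, ← Nat.card_eq_fintype_card]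
    have : Nat.card (Subgroup.zpowers c) = p := by rw [Nat.card_zpowers, hc]
    exact this
  have heq := Finset.eq_of_subset_of_card_le hsub (by rw [hcard]; exact h1)
  have hy' : y ∈ Finset.univ.filter (fun a : D => a ^ p = 1) := by
    simp only [Finset.mem_filter, Finset.mem_univ, true_and]; exact hy
  rw [← heq, Set.mem_toFinset] at hy'
  exact hy'

omit [Finite G] in
/-- a nontrivial finite Z-group in which all subgroups of order `p q` are cyclic has nontrivial
centre -/
theorem center_ne_bot_of_zgroup {X : Type*} [Group X] [Finite X] [IsZGroup X] [Nontrivial X]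
    (hpq : ∀ (A : Subgroup X) (p q : ℕ), p.Prime → q.Prime → Nat.card A = p * q → IsCyclic A) :
    Subgroup.center X ≠ ⊥ := by
  obtain ⟨D, hD⟩ : ∃ D : Subgroup X, D = commutator X := ⟨_, rfl⟩
  haveI hDn : D.Normal := hD ▸ inferInstance
  haveI hDc : IsCyclic D := hD ▸ IsZGroup.isCyclic_commutator X
  have hcop : (Nat.card D).Coprime D.index := hD ▸ IsZGroup.coprime_commutator_index X
  have hDlt : D < ⊤ := hD ▸ IsZGroup.commutator_lt X
  obtain ⟨Y, hY⟩ := Subgroup.exists_right_complement'_of_coprime hcop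
  have hYcard : Nat.card Y = D.index := by
    have h1 := hY.card_mul_card
    have h2 := D.card_mul_index
    exact Nat.eq_of_mul_eq_mul_left Nat.card_pos (h1.trans h2.symm)
  have hidx1 : D.index ≠ 1 := by
    rw [Ne, Subgroup.index_eq_one]; exact hDlt.ne
  obtain ⟨q, hq, hqY⟩ := Nat.exists_prime_and_dvd (hYcard ▸ hidx1 : Nat.card Y ≠ 1)
  haveI : Fact q.Prime := ⟨hq⟩
  obtain ⟨u, hu⟩ := exists_prime_orderOf_dvd_card' q hqY
  have hu' : orderOf (u : X) = q := by rw [Subgroup.orderOf_coe]; exact hu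
  -- D is commutative
  have hDcomm : ∀ a ∈ D, ∀ b ∈ D, a * b = b * a := by
    intro a ha b hb
    letI : CommGroup D := IsCyclic.commGroup
    have := mul_comm (⟨a, ha⟩ : D) ⟨b, hb⟩
    exact congrArg Subtype.val this
  -- Y is commutative
  have hYcomm : ∀ a ∈ Y, ∀ b ∈ Y, a * b = b * a := by
    intro a ha b hb
    have h1 : ⁅a, b⁆ ∈ D := by
      rw [hD]
      exact Subgroup.commutator_mem_commutator (Subgroup.mem_top a) (Subgroup.mem_top b)
    have h2 : ⁅a, b⁆ ∈ Y := Y.mul_mem (Y.mul_mem (Y.mul_mem ha hb) (Y.inv_mem ha)) (Y.inv_mem hb)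
    have h3 : ⁅a, b⁆ ∈ D ⊓ Y := ⟨h1, h2⟩
    rw [hY.disjoint.eq_bot, Subgroup.mem_bot] at h3
    exact commutatorElement_eq_one_iff_mul_comm.mp h3
  -- u centralizes D
  have hconjD : ∀ d ∈ D, (u : X) * d * (u : X)⁻¹ ∈ D := fun d hd => hDn.conj_mem d hd _
  have huD : ∀ d ∈ D, (u : X) * d = d * (u : X) := by
    by_contra hcon
    push Not at hcon
    obtain ⟨d₀, hd₀, hne⟩ := hcon
    obtain ⟨e, he⟩ : ∃ e, e = d₀⁻¹ * ((u : X) * d₀ * (u : X)⁻¹) := ⟨_, rfl⟩
    have heD : e ∈ D := he ▸ D.mul_mem (D.inv_mem hd₀) (hconjD d₀ hd₀)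
    have he1 : e ≠ 1 := by
      intro h
      apply hne
      rw [he, inv_mul_eq_one] at h
      calc (u : X) * d₀ = (u : X) * d₀ * (u : X)⁻¹ * (u : X) := by group
        _ = d₀ * (u : X) := by rw [← h]
    have hn1 : orderOf e ≠ 1 := by rwa [Ne, orderOf_eq_one_iff]
    obtain ⟨p, hp, hpe⟩ := Nat.exists_prime_and_dvd hn1
    obtain ⟨m, hm⟩ := hpe
    have hmpos : 0 < m := by
      rcases Nat.eq_zero_or_pos m with h | h
      · rw [h, mul_zero] at hm
        have := orderOf_pos e
        omega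
      · exact h
    obtain ⟨c, hc⟩ : ∃ c, c = e ^ m := ⟨_, rfl⟩
    have hco : orderOf c = p := by
      rw [hc, orderOf_pow' e hmpos.ne', hm, Nat.gcd_eq_right (dvd_mul_left m p)]
      exact Nat.mul_div_cancel _ hmpos
    have hcD : c ∈ D := hc ▸ D.pow_mem heD m
    obtain ⟨d₁, hd₁⟩ : ∃ d₁, d₁ = d₀ ^ m := ⟨_, rfl⟩
    have hd₁D : d₁ ∈ D := hd₁ ▸ D.pow_mem hd₀ m
    have hcd : c = d₁⁻¹ * ((u : X) * d₁ * (u : X)⁻¹) := by
      have hcm : Commute d₀⁻¹ ((u : X) * d₀ * (u : X)⁻¹) :=
        hDcomm _ (D.inv_mem hd₀) _ (hconjD d₀ hd₀)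
      rw [hc, he, hcm.mul_pow, hd₁, inv_pow, conj_pow]
    -- p divides |D|, q does not
    have hpD : p ∣ Nat.card D := by
      have := orderOf_dvd_natCard (⟨c, hcD⟩ : D)
      rwa [Subgroup.orderOf_mk, hco] at this
    have hpq' : p ≠ q := by
      rintro rfl
      have h1 : p ∣ D.index := hYcard ▸ hqY
      have := Nat.Coprime.eq_one_of_dvd (Nat.Coprime.coprime_dvd_left hpD hcop) h1
      exact hp.one_lt.ne' this
    -- u normalizes ⟨c⟩
    have hucu : (u : X) * c * (u : X)⁻¹ ∈ Subgroup.zpowers c := by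
      have h1 : (⟨(u : X) * c * (u : X)⁻¹, hconjD c hcD⟩ : D) ∈ Subgroup.zpowers (⟨c, hcD⟩ : D) := by
        apply mem_zpowers_of_pow_eq_one_of_cyclic hp
        · rw [Subgroup.orderOf_mk]; exact hco
        · apply Subtype.ext
          change ((u : X) * c * (u : X)⁻¹) ^ p = 1
          rw [conj_pow, ← hco, pow_orderOf_eq_one, mul_one, mul_inv_cancel]
      obtain ⟨k, hk⟩ := Subgroup.mem_zpowers_iff.mp h1
      exact Subgroup.mem_zpowers_iff.mpr ⟨k, by
        have := congrArg Subtype.val hk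
        simpa using this⟩
    have hnorm : Subgroup.zpowers (u : X) ≤ Subgroup.normalizer (Subgroup.zpowers c : Set X) := by
      rw [Subgroup.zpowers_le]
      apply Subgroup.mem_normalizer_fintype
      intro n hn
      obtain ⟨k, rfl⟩ := Subgroup.mem_zpowers_iff.mp hn
      have e : (u : X) * c ^ k * (u : X)⁻¹ = ((u : X) * c * (u : X)⁻¹) ^ k := by
        have := map_zpow (MulAut.conj (u : X)) c k
        simpa using this
      change (u : X) * c ^ k * (u : X)⁻¹ ∈ Subgroup.zpowers c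
      rw [e]
      exact Subgroup.zpow_mem _ hucu k
    have hAcard : Nat.card (Subgroup.zpowers (u : X) ⊔ Subgroup.zpowers c : Subgroup X) = q * p := by
      have h1 := Cfsg.Agent.H1.card_sup_mul_card_inf _ _ hnorm
      have h2 : Subgroup.zpowers (u : X) ⊓ Subgroup.zpowers c = ⊥ := by
        apply (Subgroup.disjoint_of_coprime_natCard _).eq_bot
        rw [Nat.card_zpowers, Nat.card_zpowers, hu', hco]
        exact (Nat.coprime_primes hq hp).mpr (Ne.symm hpq')
      rw [h2, Subgroup.card_bot, mul_one, Nat.card_zpowers, Nat.card_zpowers, hu', hco] at h1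
      exact h1
    haveI := hpq _ q p hq hp hAcard
    have hcomm : (u : X) * c = c * (u : X) := by
      have hu_mem : (u : X) ∈ Subgroup.zpowers (u : X) ⊔ Subgroup.zpowers c :=
        Subgroup.mem_sup_left (Subgroup.mem_zpowers _)
      have hc_mem : c ∈ Subgroup.zpowers (u : X) ⊔ Subgroup.zpowers c :=
        Subgroup.mem_sup_right (Subgroup.mem_zpowers _)
      letI : CommGroup (Subgroup.zpowers (u : X) ⊔ Subgroup.zpowers c : Subgroup X) :=
        IsCyclic.commGroup
      have := mul_comm (⟨(u : X), hu_mem⟩ :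
        (Subgroup.zpowers (u : X) ⊔ Subgroup.zpowers c : Subgroup X)) ⟨c, hc_mem⟩
      exact congrArg Subtype.val this
    -- u^i d₁ u^-i = d₁ c^i
    have hucu' : (u : X) * c * (u : X)⁻¹ = c := by rw [hcomm, mul_inv_cancel_right]
    have hud : (u : X) * d₁ * (u : X)⁻¹ = d₁ * c := by rw [hcd, mul_inv_cancel_left]
    have hiter : ∀ i : ℕ, (u : X) ^ i * d₁ * ((u : X) ^ i)⁻¹ = d₁ * c ^ i := by
      intro i
      induction i with
      | zero => simp
      | succ i ih =>
        have e : (u : X) ^ (i + 1) * d₁ * ((u : X) ^ (i + 1))⁻¹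
            = (u : X) * ((u : X) ^ i * d₁ * ((u : X) ^ i)⁻¹) * (u : X)⁻¹ := by
          rw [pow_succ']; group
        rw [e, ih]
        have e2 : (u : X) * (d₁ * c ^ i) * (u : X)⁻¹
            = ((u : X) * d₁ * (u : X)⁻¹) * ((u : X) * c * (u : X)⁻¹) ^ i := by
          rw [conj_pow]; group
        rw [e2, hud, hucu', mul_assoc, ← pow_succ']
    have h3 := hiter q
    rw [← hu', pow_orderOf_eq_one, one_mul, inv_one, mul_one] at h3
    have h4 : c ^ orderOf (u : X) = 1 := by
      have := congrArg (fun x => d₁⁻¹ * x) h3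
      simp only [inv_mul_cancel, inv_mul_cancel_left] at this
      exact this.symm
    rw [hu'] at h4
    have h5 : p ∣ q := hco ▸ orderOf_dvd_of_pow_eq_one h4
    exact hpq' ((Nat.prime_dvd_prime_iff_eq hp hq).mp h5)
  -- u is central
  have hcen : (u : X) ∈ Subgroup.center X := by
    rw [Subgroup.mem_center_iff]
    intro x
    obtain ⟨⟨d, y⟩, hdy⟩ := hY.2 x
    simp only at hdy
    rw [← hdy]
    have e1 := huD d d.2
    have e2 := hYcomm (u : X) u.2 y y.2
    calc (d : X) * (y : X) * (u : X) = (d : X) * ((u : X) * (y : X)) := by rw [mul_assoc, e2]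
      _ = ((u : X) * (d : X)) * (y : X) := by rw [e1]; group
      _ = (u : X) * ((d : X) * (y : X)) := by group
  intro h
  rw [h, Subgroup.mem_bot] at hcen
  rw [hcen, orderOf_one] at hu'
  exact hq.one_lt.ne hu'

/-- **A Frobenius complement has nontrivial centre.** -/
theorem center_ne_bot (K H : Subgroup G) [K.Normal] (hK : K ≠ ⊥) (hH : H ≠ ⊥)
    (hfpf : ∀ h ∈ H, h ≠ 1 → K ⊓ Subgroup.centralizer {h} = ⊥) : Subgroup.center H ≠ ⊥ := by
  by_cases h2 : 2 ∣ Nat.card H
  · exact center_ne_bot_of_even K H hK hfpf h2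
  · haveI : IsZGroup H := by
      refine ⟨fun p hp P => ?_⟩
      haveI : Fact p.Prime := ⟨hp⟩
      rcases Cfsg.Agent.H2.FCS.sylow_cyclic_or_quaternion K H hK hfpf p P with h | ⟨n, ⟨e⟩⟩
      · exact h
      · exfalso
        apply h2
        have h3 : Nat.card P = 4 * 2 ^ n := by
          rw [Nat.card_congr e.toEquiv, Nat.card_eq_fintype_card, QuaternionGroup.card]
        have h4 : Nat.card P ∣ Nat.card H := Subgroup.card_subgroup_dvd_card _
        exact dvd_trans ⟨2 * 2 ^ n, by rw [h3]; ring⟩ h4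
    haveI : Nontrivial H := (Subgroup.nontrivial_iff_ne_bot H).mpr hH
    apply center_ne_bot_of_zgroup
    intro A p q hp hq hA
    have hfpf' : ∀ a ∈ A.map H.subtype, a ≠ 1 → K ⊓ Subgroup.centralizer {a} = ⊥ := by
      intro a ha ha1
      obtain ⟨b, _, rfl⟩ := Subgroup.mem_map.mp ha
      exact hfpf _ b.2 ha1
    have hcard : Nat.card (A.map H.subtype) = p * q := by
      rw [Subgroup.card_map_of_injective H.subtype_injective, hA]
    have := Cfsg.Agent.H2.FCPQ.isCyclic_of_card_pq K (A.map H.subtype) hK hfpf' p q hp hq hcard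
    exact (A.equivMapOfInjective _ H.subtype_injective).isCyclic.mpr this

end Cfsg.Agent.H2.FCCenter
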