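import Mathlib
import Cfsg.Prelude.Def_LieExceptional
import Cfsg.Prelude.Def_OddOrderLocal
import Cfsg.Agent.Lib.Helper4.TypeP
import Cfsg.Agent.Lib.Helper4.Nilpotent
import Cfsg.Agent.H2.FrobComplCenter
import Cfsg.Agent.H2.CNQuotient
import Cfsg.Agent.S0039

/-!
# CN-groups with a normal Sylow subgroup are Frobenius groups

(author: helper2)
-/

set_option autoImplicit false

namespace Cfsg.Agent.H2.CNSyl

open Cfsg.Agent.Lib.Helper4

variable {G : Type*} [Group G] [Finite G]

/-- in a nilpotent subgroup, elements of coprime orders commute -/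
theorem commute_of_mem_nilpotent {D : Subgroup G} (hD : Group.IsNilpotent D) {u v : G}
    (hu : u ∈ D) (hv : v ∈ D) (hc : (orderOf u).Coprime (orderOf v)) : u * v = v * u := by
  have := hD
  have h1 := Nilpotent.commute_of_coprime_orderOf ↥D ⟨u, hu⟩ ⟨v, hv⟩
    (by rw [Subgroup.orderOf_mk, Subgroup.orderOf_mk]; exact hc)
  exact congrArg Subtype.val h1

omit [Finite G] in
theorem mem_centralizer_self (x : G) : x ∈ Subgroup.centralizer ({x} : Set G) :=
  Subgroup.mem_centralizer_singleton_iff.mpr rfl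

/-- the maximal normal nilpotent Hall subgroup of a CN-group is a Frobenius kernel -/
theorem cn_frobenius_of_hall (hCN : Cfsg.IsCNGroup G) (F : Subgroup G) [hFn : F.Normal]
    (hFnil : Group.IsNilpotent F) (hFhall : (Nat.card F).Coprime F.index) (hF1 : F ≠ ⊥)
    (hFtop : F ≠ ⊤)
    (hmax : ∀ N : Subgroup G, N.Normal → Group.IsNilpotent N → (Nat.card N).Coprime N.index →
      N ≤ F) :
    (∃ E : Subgroup G, Subgroup.IsComplement' F E ∧ Cfsg.IsFrobeniusComplement E ∧
        ∀ e ∈ E, e ≠ 1 → F ⊓ Subgroup.centralizer ({e} : Set G) = ⊥) ∧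
      Group.IsNilpotent (G ⧸ F) := by
  obtain ⟨E, hE⟩ := Subgroup.exists_right_complement'_of_coprime hFhall
  have hdisj : F ⊓ E = ⊥ := disjoint_iff.1 hE.disjoint
  have hcardE : Nat.card E = F.index := by
    have h1 := hE.card_mul_card
    have h2 := Subgroup.card_mul_index F
    have : Nat.card F * Nat.card E = Nat.card F * F.index := by rw [h1, h2]
    exact Nat.eq_of_mul_eq_mul_left Nat.card_pos this
  have hE1 : E ≠ ⊥ := by
    intro h
    apply hFtop
    rw [h, Subgroup.card_bot] at hcardE
    exact Subgroup.index_eq_one.mp hcardE.symm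
  -- a central element of `F`
  have hFnt : Nontrivial ↥F := (Subgroup.nontrivial_iff_ne_bot F).mpr hF1
  obtain ⟨z, hzF, hz1, hzc⟩ : ∃ z : G, z ∈ F ∧ z ≠ 1 ∧ ∀ f ∈ F, f * z = z * f := by
    have := hFnil
    have h1 : Subgroup.center ↥F ≠ ⊥ := Group.IsNilpotent.center_ne_bot ↥F
    obtain ⟨z, hz1⟩ := (Subgroup.ne_bot_iff_exists_ne_one).mp h1
    refine ⟨((z : ↥F) : G), (z : ↥F).2, ?_, ?_⟩
    · intro h
      apply hz1
      apply Subtype.ext
      apply Subtype.ext
      exact h
    · intro f hf
      have h2 := (Subgroup.mem_center_iff.mp z.2) ⟨f, hf⟩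
      exact congrArg Subtype.val h2
  -- orders of elements of `F` divide `|F|`
  have hordF : ∀ f ∈ F, orderOf f ∣ Nat.card F := by
    intro f hf
    have h1 := orderOf_dvd_natCard (⟨f, hf⟩ : ↥F)
    rwa [Subgroup.orderOf_mk] at h1
  -- fixed-point-freeness
  have hfpf : ∀ e ∈ E, e ≠ 1 → F ⊓ Subgroup.centralizer ({e} : Set G) = ⊥ := by
    intro e heE he1
    rw [eq_bot_iff]
    intro x hx
    rw [Subgroup.mem_inf] at hx
    obtain ⟨hxF, hxe⟩ := hx
    rw [Subgroup.mem_bot]
    by_contra hx1
    rw [Subgroup.mem_centralizer_singleton_iff] at hxe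
    -- a power of `e` of prime order
    have ho1 : orderOf e ≠ 1 := by rw [Ne, orderOf_eq_one_iff]; exact he1
    obtain ⟨s, hs, hsd⟩ := Nat.exists_prime_and_dvd ho1
    have : Fact s.Prime := ⟨hs⟩
    have hpos : 0 < orderOf e := orderOf_pos e
    obtain ⟨e', he'def⟩ : ∃ e' : G, e' = e ^ (orderOf e / s) := ⟨_, rfl⟩
    have he'ord : orderOf e' = s := by
      rw [he'def, orderOf_pow_of_dvd (Nat.div_pos (Nat.le_of_dvd hpos hsd) hs.pos).ne'
        (Nat.div_dvd_of_dvd hsd), Nat.div_div_self hsd hpos.ne']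
    have he'E : e' ∈ E := by rw [he'def]; exact E.pow_mem heE _
    have he'1 : e' ≠ 1 := by
      intro h
      rw [h, orderOf_one] at he'ord
      exact hs.one_lt.ne he'ord
    have he'x : x * e' = e' * x := by
      rw [he'def]
      exact ((show Commute x e from hxe).pow_right _).eq
    have hsE : s ∣ Nat.card E := by
      have h1 := orderOf_dvd_natCard (⟨e', he'E⟩ : ↥E)
      rwa [Subgroup.orderOf_mk, he'ord] at h1
    have hsF : ∀ f ∈ F, (orderOf e').Coprime (orderOf f) := by
      intro f hf
      rw [he'ord]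
      apply Nat.Coprime.coprime_dvd_right (hordF f hf)
      rw [hcardE] at hsE
      exact (Nat.Coprime.coprime_dvd_right hsE hFhall).symm
    -- step a: `e'` commutes with `z`
    have hza : e' * z = z * e' := by
      have hD := hCN x hx1
      apply commute_of_mem_nilpotent hD _ _ (hsF z hzF)
      · rw [Subgroup.mem_centralizer_singleton_iff]; exact he'x.symm
      · rw [Subgroup.mem_centralizer_singleton_iff]; exact (hzc x hxF).symm
    -- step b: `e'` centralizes `F`
    have hb : ∀ f ∈ F, e' * f = f * e' := by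
      intro f hf
      have hD := hCN z hz1
      apply commute_of_mem_nilpotent hD _ _ (hsF f hf)
      · rw [Subgroup.mem_centralizer_singleton_iff]; exact hza
      · rw [Subgroup.mem_centralizer_singleton_iff]; exact hzc f hf
    -- step c: a Sylow `s`-subgroup containing `e'`
    have hzp : IsPGroup s (Subgroup.zpowers e') := by
      apply IsPGroup.of_card (n := 1)
      rw [Nat.card_zpowers, he'ord, pow_one]
    obtain ⟨S, hS⟩ := hzp.exists_le_sylow
    have he'S : e' ∈ (S : Subgroup G) := hS (Subgroup.mem_zpowers e')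
    have hSnt : Nontrivial ↥(S : Subgroup G) :=
      ⟨⟨⟨e', he'S⟩, 1, fun h => he'1 (congrArg Subtype.val h)⟩⟩
    obtain ⟨y, hyS, hy1, hyc⟩ : ∃ y : G, y ∈ (S : Subgroup G) ∧ y ≠ 1 ∧
        ∀ w ∈ (S : Subgroup G), w * y = y * w := by
      have h1 : Nontrivial (Subgroup.center ↥(S : Subgroup G)) := S.isPGroup'.center_nontrivial
      obtain ⟨y, hy1⟩ := exists_ne (1 : Subgroup.center ↥(S : Subgroup G))
      refine ⟨((y : ↥(S : Subgroup G)) : G), (y : ↥(S : Subgroup G)).2, ?_, ?_⟩
      · intro h
        apply hy1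
        apply Subtype.ext
        apply Subtype.ext
        exact h
      · intro w hw
        have h2 := (Subgroup.mem_center_iff.mp y.2) ⟨w, hw⟩
        exact congrArg Subtype.val h2
    have hordS : ∀ w ∈ (S : Subgroup G), ∀ f ∈ F, (orderOf w).Coprime (orderOf f) := by
      intro w hw f hf
      obtain ⟨k, hk⟩ := S.isPGroup' ⟨w, hw⟩
      have hk' : w ^ s ^ k = 1 := by
        have := congrArg Subtype.val hk
        simpa using this
      apply Nat.Coprime.coprime_dvd_left (orderOf_dvd_of_pow_eq_one hk')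
      apply Nat.Coprime.coprime_dvd_right (hordF f hf)
      apply Nat.Coprime.pow_left
      rw [hcardE] at hsE
      exact (Nat.Coprime.coprime_dvd_right hsE hFhall).symm
    -- `y` centralizes `F`
    have hyF : ∀ f ∈ F, y * f = f * y := by
      intro f hf
      have hD := hCN e' he'1
      apply commute_of_mem_nilpotent hD _ _ (hordS y hyS f hf)
      · rw [Subgroup.mem_centralizer_singleton_iff]; exact (hyc e' he'S).symm
      · rw [Subgroup.mem_centralizer_singleton_iff]; exact (hb f hf).symm
    -- step d: `S` centralizes `F`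
    have hSF : ∀ w ∈ (S : Subgroup G), ∀ f ∈ F, w * f = f * w := by
      intro w hw f hf
      have hD := hCN y hy1
      apply commute_of_mem_nilpotent hD _ _ (hordS w hw f hf)
      · rw [Subgroup.mem_centralizer_singleton_iff]; exact hyc w hw
      · rw [Subgroup.mem_centralizer_singleton_iff]; exact (hyF f hf).symm
    -- step e: `S` is normal in `G`
    have hSCF : (S : Subgroup G) ≤ Subgroup.centralizer (F : Set G) := by
      intro w hw
      rw [Subgroup.mem_centralizer_iff]
      intro f hf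
      exact (hSF w hw f hf).symm
    have hCFnil : Group.IsNilpotent ↥(Subgroup.centralizer (F : Set G)) := by
      apply CNQ.nilpotent_of_le _ (hCN z hz1)
      intro c hc
      rw [Subgroup.mem_centralizer_singleton_iff]
      exact (Subgroup.mem_centralizer_iff.mp hc z hzF).symm
    have hSn : (S : Subgroup G).Normal := by
      have := hCFnil
      have h1 : ((S.subtype hSCF : Sylow s ↥(Subgroup.centralizer (F : Set G))) :
          Subgroup ↥(Subgroup.centralizer (F : Set G))).Normal := inferInstance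
      have h2 : ((S.subtype hSCF : Sylow s ↥(Subgroup.centralizer (F : Set G))) :
          Subgroup ↥(Subgroup.centralizer (F : Set G))).Characteristic :=
        Sylow.characteristic_of_normal _ h1
      have h3 : (((S.subtype hSCF : Sylow s ↥(Subgroup.centralizer (F : Set G))) :
          Subgroup ↥(Subgroup.centralizer (F : Set G))).map
            (Subgroup.centralizer (F : Set G)).subtype).Normal :=
        ConjAct.normal_of_characteristic_of_normal
      rw [Sylow.coe_subtype, Subgroup.map_subgroupOf_eq_of_le hSCF] at h3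
      exact h3
    have hSle : (S : Subgroup G) ≤ F :=
      hmax S hSn S.isPGroup'.isNilpotent S.card_coprime_index
    have : e' ∈ F ⊓ E := Subgroup.mem_inf.mpr ⟨hSle he'S, he'E⟩
    rw [hdisj, Subgroup.mem_bot] at this
    exact he'1 this
  have hFrob : Cfsg.IsFrobeniusComplement E := (Cfsg.Agent.S0039.result F E hE hF1 hE1).mpr hfpf
  -- `E` is nilpotent
  have hEnil : Group.IsNilpotent ↥E := by
    have h1 := Cfsg.Agent.H2.FCCenter.center_ne_bot F E hF1 hE1 hfpf
    obtain ⟨c, hc1⟩ := (Subgroup.ne_bot_iff_exists_ne_one).mp h1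
    have hc1' : ((c : ↥E) : G) ≠ 1 := by
      intro h
      apply hc1
      apply Subtype.ext
      apply Subtype.ext
      exact h
    apply CNQ.nilpotent_of_le _ (hCN _ hc1')
    intro w hw
    rw [Subgroup.mem_centralizer_singleton_iff]
    have h2 := (Subgroup.mem_center_iff.mp c.2) ⟨w, hw⟩
    exact congrArg Subtype.val h2
  refine ⟨⟨E, hE, hFrob, hfpf⟩, ?_⟩
  have := hEnil
  apply Group.nilpotent_of_surjective ((QuotientGroup.mk' F).comp E.subtype)
  intro q
  obtain ⟨g, rfl⟩ := QuotientGroup.mk_surjective q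
  obtain ⟨⟨f, e⟩, hfe, -⟩ := hE.existsUnique g
  refine ⟨e, ?_⟩
  simp only [MonoidHom.coe_comp, Function.comp_apply, Subgroup.coe_subtype,
    QuotientGroup.mk'_apply]
  rw [← hfe, QuotientGroup.mk_mul, (QuotientGroup.eq_one_iff (f : G)).mpr f.2, one_mul]

/-- `S1474` -/
theorem cn_normal_sylow (hCN : Cfsg.IsCNGroup G) (hnn : ¬ Group.IsNilpotent G) (p : ℕ)
    [Fact p.Prime] (P : Sylow p G) (hP1 : (P : Subgroup G) ≠ ⊥) (hPn : (P : Subgroup G).Normal) :
    Cfsg.fittingHall G ≠ ⊥ ∧ Cfsg.fittingHall G ≠ ⊤ ∧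
      (∃ E : Subgroup G, Subgroup.IsComplement' (Cfsg.fittingHall G) E ∧
        Cfsg.IsFrobeniusComplement E ∧
        ∀ e ∈ E, e ≠ 1 → Cfsg.fittingHall G ⊓ Subgroup.centralizer ({e} : Set G) = ⊥) ∧
      Group.IsNilpotent (G ⧸ Cfsg.fittingHall G) := by
  obtain ⟨-, hFnil, hFhall⟩ := TypeP.fittingHall_mem G
  have hPF : (P : Subgroup G) ≤ Cfsg.fittingHall G :=
    TypeP.le_fittingHall hPn P.isPGroup'.isNilpotent P.card_coprime_index
  have hF1 : Cfsg.fittingHall G ≠ ⊥ := by
    intro h
    apply hP1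
    rw [eq_bot_iff, ← h]
    exact hPF
  have hFtop : Cfsg.fittingHall G ≠ ⊤ := by
    intro h
    apply hnn
    have h1 : Group.IsNilpotent (⊤ : Subgroup G) := h ▸ hFnil
    have := h1
    exact Group.nilpotent_of_mulEquiv (Subgroup.topEquiv (G := G))
  have h := cn_frobenius_of_hall hCN (Cfsg.fittingHall G) hFnil hFhall hF1 hFtop
    (fun N h1 h2 h3 => TypeP.le_fittingHall h1 h2 h3)
  exact ⟨hF1, hFtop, h.1, h.2⟩

end Cfsg.Agent.H2.CNSyl
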