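import Mathlib
import Cfsg.Prelude.Def_Solvable
import Cfsg.Agent.H1.Cores

/-!
# Equal order pairs (helper2)

`(G, N)` with `o(xn) = o(x)` for all `x ∉ N`, `n ∈ N`.
-/

set_option autoImplicit false

namespace Cfsg.Agent.H2.EqOrd

open Cfsg.Agent.H1

variable {G : Type*} [Group G] [Finite G]

omit [Finite G] in
/-- If `O_p(G) ≰ N` then `N` is a `p`-group. -/
theorem isPGroup_of_pCore_not_le (N : Subgroup G)
    (heq : ∀ x : G, x ∉ N → ∀ n ∈ N, orderOf (x * n) = orderOf x)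
    (p : ℕ) [Fact p.Prime] (h : ¬ Cfsg.pCore p G ≤ N) : IsPGroup p N := by
  obtain ⟨x, hx, hxN⟩ := SetLike.not_le_iff_exists.mp h
  have hpc := pCore_isPGroup (G := G) p
  obtain ⟨k, hk⟩ := hpc ⟨x, hx⟩
  have hxk : x ^ p ^ k = 1 := by
    have := congrArg Subtype.val hk
    simpa using this
  intro ⟨n, hn⟩
  have h1 : orderOf (x * n) = orderOf x := heq x hxN n hn
  have h2 : (x * n) ^ p ^ k = 1 := by
    rw [← orderOf_dvd_iff_pow_eq_one, h1, orderOf_dvd_iff_pow_eq_one]; exact hxk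
  -- pass to the quotient
  have h3 : ((QuotientGroup.mk' (Cfsg.pCore p G)) n) ^ p ^ k = 1 := by
    have e : (QuotientGroup.mk' (Cfsg.pCore p G)) (x * n) = (QuotientGroup.mk' (Cfsg.pCore p G)) n := by
      rw [map_mul]
      have : (QuotientGroup.mk' (Cfsg.pCore p G)) x = 1 := by
        rw [QuotientGroup.mk'_apply, QuotientGroup.eq_one_iff]; exact hx
      rw [this, one_mul]
    rw [← e, ← map_pow, h2, map_one]
  have h4 : n ^ p ^ k ∈ Cfsg.pCore p G := by
    rw [← map_pow, QuotientGroup.mk'_apply, QuotientGroup.eq_one_iff] at h3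
    exact h3
  obtain ⟨j, hj⟩ := hpc ⟨_, h4⟩
  have hj' : (n ^ p ^ k) ^ p ^ j = 1 := by
    have := congrArg Subtype.val hj
    simpa using this
  refine ⟨k + j, ?_⟩
  apply Subtype.ext
  simp only [Subgroup.coe_pow, Subgroup.coe_one]
  rw [pow_add, pow_mul]
  exact hj'

/-- A nontrivial group is not a `p`-group and a `q`-group for `p ≠ q`. -/
theorem eq_bot_of_isPGroup_of_isPGroup (N : Subgroup G) (p q : ℕ) [Fact p.Prime] [Fact q.Prime]
    (hpq : p ≠ q) (h1 : IsPGroup p N) (h2 : IsPGroup q N) : N = ⊥ := by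
  rw [← Subgroup.card_eq_one]
  obtain ⟨a, ha⟩ := h1.exists_card_eq
  obtain ⟨b, hb⟩ := h2.exists_card_eq
  have hp : p.Prime := Fact.out
  have hq : q.Prime := Fact.out
  have hcop : (p ^ a).Coprime (q ^ b) :=
    Nat.Coprime.pow _ _ ((Nat.coprime_primes hp hq).mpr hpq)
  rw [← ha, ← hb] at hcop
  exact (Nat.coprime_self _).mp hcop

theorem fitting_comparable (N : Subgroup G) [N.Normal] (hN1 : N ≠ ⊥)
    (heq : ∀ x : G, x ∉ N → ∀ n ∈ N, orderOf (x * n) = orderOf x) :
    (N ≤ Cfsg.fittingSubgroup G ∨ Cfsg.fittingSubgroup G ≤ N) ∧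
    (N < Cfsg.fittingSubgroup G → IsPrimePow (Nat.card (Cfsg.fittingSubgroup G))) := by
  have key : ¬ Cfsg.fittingSubgroup G ≤ N → ∃ (p : ℕ) (_ : Fact p.Prime), IsPGroup p N ∧
      Cfsg.fittingSubgroup G = Cfsg.pCore p G := by
    intro h
    rw [fittingSubgroup_eq_iSup_pCore] at h ⊢
    have : ∃ p : Nat.Primes, ¬ Cfsg.pCore (p : ℕ) G ≤ N := by
      by_contra hcon
      push Not at hcon
      exact h (iSup_le hcon)
    obtain ⟨p, hp⟩ := this
    have hpf : Fact (p : ℕ).Prime := ⟨p.2⟩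
    have hNp := isPGroup_of_pCore_not_le N heq (p : ℕ) hp
    refine ⟨p, hpf, hNp, ?_⟩
    apply le_antisymm
    · apply iSup_le
      intro q
      by_cases hqp : q = p
      · rw [hqp]
      · have hqf : Fact (q : ℕ).Prime := ⟨q.2⟩
        have hne : (p : ℕ) ≠ (q : ℕ) := fun h => hqp (Subtype.ext h.symm)
        have hqN : Cfsg.pCore (q : ℕ) G ≤ N := by
          by_contra hcon
          have hNq := isPGroup_of_pCore_not_le N heq (q : ℕ) hcon
          exact hN1 (eq_bot_of_isPGroup_of_isPGroup N p q hne hNp hNq)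
        have h1 : IsPGroup (p : ℕ) (Cfsg.pCore (q : ℕ) G) := hNp.to_le hqN
        have h2 : IsPGroup (q : ℕ) (Cfsg.pCore (q : ℕ) G) := pCore_isPGroup _
        rw [eq_bot_of_isPGroup_of_isPGroup _ p q hne h1 h2]
        exact bot_le
    · exact le_iSup (fun q : Nat.Primes => Cfsg.pCore (q : ℕ) G) p
  constructor
  · by_cases h : Cfsg.fittingSubgroup G ≤ N
    · exact Or.inr h
    · obtain ⟨p, hpf, hNp, hF⟩ := key h
      left
      rw [hF]
      exact le_pCore inferInstance hNp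
  · intro hlt
    have h : ¬ Cfsg.fittingSubgroup G ≤ N := not_le_of_gt hlt
    obtain ⟨p, hpf, hNp, hF⟩ := key h
    rw [hF]
    obtain ⟨k, hk⟩ := (pCore_isPGroup (G := G) p).exists_card_eq
    rw [hk]
    have hk0 : k ≠ 0 := by
      rintro rfl
      rw [pow_zero, Subgroup.card_eq_one] at hk
      rw [hF, hk] at hlt
      exact not_lt_bot hlt
    exact (hpf.out.prime.isPrimePow).pow hk0

end Cfsg.Agent.H2.EqOrd
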