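import Mathlib
import Cfsg.Prelude.Def_Solvable
import Cfsg.Agent.H1.Cores
import Cfsg.Agent.H2.EqualOrder
import Cfsg.Agent.H2.FrobComplSylow

/-!
# Equal order pairs with nilpotent kernel of non-prime-power order (helper2)
-/

set_option autoImplicit false
set_option linter.style.haveILetI false
set_option linter.unusedSectionVars false
set_option linter.unusedVariables false

namespace Cfsg.Agent.H2.EqOrdSyl

open Cfsg.Agent.H1 Cfsg.Agent.H2.UOP Cfsg.Agent.H2.FCS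

universe u

variable {G : Type u} [Group G] [Finite G]

theorem isPGroup_zpowers' {X : Type*} [Group X] {r : ℕ} {g : X} {k : ℕ} (h : g ^ r ^ k = 1) :
    IsPGroup r (Subgroup.zpowers g) := by
  rintro ⟨y, hy⟩
  obtain ⟨n, rfl⟩ := Subgroup.mem_zpowers_iff.1 hy
  refine ⟨k, Subtype.ext ?_⟩
  show (g ^ n) ^ r ^ k = 1
  rw [← zpow_natCast, ← zpow_mul, mul_comm, zpow_mul, zpow_natCast, h, one_zpow]

/-- `q`-elements of a nilpotent normal subgroup lie in `O_q(G)` -/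
theorem mem_pCore_of_mem_nilpotent_normal (N : Subgroup G) [hNn : N.Normal]
    (hnil : Group.IsNilpotent N) (q : ℕ) [Fact q.Prime] (x : G) (hx : x ∈ N) (e : ℕ)
    (hxe : x ^ q ^ e = 1) : x ∈ Cfsg.pCore q G := by
  haveI := hnil
  obtain ⟨S⟩ : Nonempty (Sylow q ↥N) := inferInstance
  have hSn : (S : Subgroup ↥N).Normal := inferInstance
  haveI : (S : Subgroup ↥N).Characteristic := Sylow.characteristic_of_normal S hSn
  have hSG : ((S : Subgroup ↥N).map N.subtype).Normal := inferInstance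
  have hle := le_pCore hSG (S.isPGroup'.map _)
  apply hle
  have hz : IsPGroup q (Subgroup.zpowers (⟨x, hx⟩ : ↥N)) :=
    isPGroup_zpowers' (k := e) (Subtype.ext hxe)
  obtain ⟨S', hS'⟩ := hz.exists_le_sylow
  obtain ⟨g, rfl⟩ := MulAction.exists_smul_eq ↥N S S'
  rw [Sylow.smul_eq_of_normal] at hS'
  exact Subgroup.mem_map.2 ⟨⟨x, hx⟩, hS' (Subgroup.mem_zpowers _), rfl⟩

/-- **Part 1**: `N = F(G)` -/
theorem eq_fitting (N : Subgroup G) [hNn : N.Normal] (hN1 : N ≠ ⊥)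
    (heq : ∀ x : G, x ∉ N → ∀ n ∈ N, orderOf (x * n) = orderOf x)
    (hnil : Group.IsNilpotent N) (hnpp : ¬ IsPrimePow (Nat.card N)) :
    N = Cfsg.fittingSubgroup G := by
  have h1 : N ≤ Cfsg.fittingSubgroup G := le_fittingSubgroup hNn hnil
  have h2 := (Cfsg.Agent.H2.EqOrd.fitting_comparable N hN1 heq).2
  by_contra hne
  have hlt : N < Cfsg.fittingSubgroup G := lt_of_le_of_ne h1 hne
  obtain ⟨p, k, hp, hk, hpk⟩ := (isPrimePow_nat_iff _).1 (h2 hlt)
  apply hnpp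
  have hdvd : Nat.card N ∣ p ^ k := hpk ▸ Subgroup.card_dvd_of_le h1
  obtain ⟨j, hj, hj2⟩ := (Nat.dvd_prime_pow hp).1 hdvd
  rw [isPrimePow_nat_iff]
  refine ⟨p, j, hp, ?_, hj2.symm⟩
  rcases Nat.eq_zero_or_pos j with h0 | h0
  · rw [h0, pow_zero, Subgroup.card_eq_one] at hj2
    exact absurd hj2 hN1
  · exact h0

theorem pCore_le_fitting (r : ℕ) (hr : r.Prime) : Cfsg.pCore r G ≤ Cfsg.fittingSubgroup G := by
  rw [fittingSubgroup_eq_iSup_pCore]
  exact le_iSup (fun p : Nat.Primes => Cfsg.pCore (p : ℕ) G) ⟨r, hr⟩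

/-- a second prime divisor -/
theorem exists_prime_ne (n : ℕ) (hn : n ≠ 0) (hnpp : ¬ IsPrimePow n) (hn1 : n ≠ 1) (q : ℕ) :
    ∃ r : ℕ, r.Prime ∧ r ∣ n ∧ r ≠ q := by
  by_contra hcon
  push Not at hcon
  obtain ⟨r0, hr0, hr0n⟩ := Nat.exists_prime_and_dvd hn1
  have hq : r0 = q := hcon r0 hr0 hr0n
  have hall : ∀ {d : ℕ}, d.Prime → d ∣ n → d = r0 := fun hd hdn => (hcon _ hd hdn).trans hq.symm
  have h1 := Nat.eq_prime_pow_of_unique_prime_dvd hn hall
  apply hnpp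
  rw [isPrimePow_nat_iff]
  refine ⟨r0, n.primeFactorsList.length, hr0, ?_, h1.symm⟩
  rcases Nat.eq_zero_or_pos n.primeFactorsList.length with h0 | h0
  · rw [h0, pow_zero] at h1; exact absurd h1 hn1
  · exact h0

/-- **Part 2**: Sylow subgroups of `G/N` have a unique subgroup of prime order -/
theorem huniq_quotient (N : Subgroup G) [hNn : N.Normal] (hN1 : N ≠ ⊥)
    (heq : ∀ x : G, x ∉ N → ∀ n ∈ N, orderOf (x * n) = orderOf x)
    (hnil : Group.IsNilpotent N) (hnpp : ¬ IsPrimePow (Nat.card N))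
    (q : ℕ) [hq : Fact q.Prime] (Qb : Sylow q (G ⧸ N)) :
    ∀ U V : Subgroup ↥(Qb : Subgroup (G ⧸ N)), Nat.card U = q → Nat.card V = q → U = V := by
  intro U V hU hV
  by_contra hne
  obtain ⟨wb, zb, hwq, hzq, hz1, hwz, hm⟩ := exists_rank_two Qb.isPGroup' U V hU hV hne
  have hNF := eq_fitting N hN1 heq hnil hnpp
  obtain ⟨Q, hQ⟩ := Sylow.mapSurjective_surjective (QuotientGroup.mk'_surjective N) q Qb
  have hmem : ∀ y : G ⧸ N, y ∈ Qb → ∃ x ∈ Q, QuotientGroup.mk' N x = y := by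
    intro y hy
    rw [← hQ] at hy
    have hy' : y ∈ ((Q.mapSurjective (QuotientGroup.mk'_surjective N) : Sylow q (G ⧸ N)) :
      Subgroup (G ⧸ N)) := hy
    rw [Sylow.coe_mapSurjective] at hy'
    obtain ⟨x, hx, rfl⟩ := Subgroup.mem_map.1 hy'
    exact ⟨x, hx, rfl⟩
  obtain ⟨w, hwQ, hw⟩ := hmem wb wb.2
  obtain ⟨z, hzQ, hz⟩ := hmem zb zb.2
  -- facts about `w`, `z`
  have hwqN : w ^ q ∈ N := by
    rw [← QuotientGroup.eq_one_iff, ← QuotientGroup.mk'_apply, map_pow, hw]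
    have := congrArg Subtype.val hwq
    simpa using this
  have hzqN : z ^ q ∈ N := by
    rw [← QuotientGroup.eq_one_iff, ← QuotientGroup.mk'_apply, map_pow, hz]
    have := congrArg Subtype.val hzq
    simpa using this
  have hzN : z ∉ N := by
    intro h
    apply hz1
    apply Subtype.ext
    rw [← hz]
    exact (QuotientGroup.eq_one_iff z).2 h
  have hcN : w * z * w⁻¹ * z⁻¹ ∈ N := by
    rw [← QuotientGroup.eq_one_iff, ← QuotientGroup.mk'_apply]
    simp only [map_mul, map_inv, hw, hz]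
    have := congrArg Subtype.val hwz
    simp only [Subgroup.coe_mul] at this
    rw [this]; group
  have hmN : ∀ m : ℕ, w * z ^ m ∉ N := by
    intro m h
    apply hm m
    apply Subtype.ext
    have h1 := (QuotientGroup.eq_one_iff (w * z ^ m)).2 h
    rw [← QuotientGroup.mk'_apply, map_mul, map_pow, hw, hz] at h1
    simpa using h1
  -- `Q ∩ N ≤ O_q(G)`
  have hQN : ∀ x : G, x ∈ Q → x ∈ N → x ∈ Cfsg.pCore q G := by
    intro x hxQ hxN
    obtain ⟨e, he⟩ := Q.isPGroup' ⟨x, hxQ⟩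
    exact mem_pCore_of_mem_nilpotent_normal N hnil q x hxN e (congrArg Subtype.val he)
  have hQ0N : Cfsg.pCore q G ≤ N := hNF ▸ pCore_le_fitting q hq.out
  -- the prime `r`
  have hcard1 : Nat.card N ≠ 1 := fun h => hN1 (Subgroup.card_eq_one.1 h)
  obtain ⟨r, hr, hrN, hrq⟩ := exists_prime_ne (Nat.card N) Nat.card_pos.ne' hnpp hcard1 q
  haveI : Fact r.Prime := ⟨hr⟩
  have hRN : Cfsg.pCore r G ≤ N := hNF ▸ pCore_le_fitting r hr
  have hR1 : Cfsg.pCore r G ≠ ⊥ := by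
    obtain ⟨k, hk⟩ := exists_prime_orderOf_dvd_card' r hrN
    have hk' : orderOf (k : G) = r := by rw [Subgroup.orderOf_coe]; exact hk
    have h1 := mem_pCore_of_mem_nilpotent_normal N hnil r (k : G) k.2 1
      (by rw [pow_one, ← hk']; exact pow_orderOf_eq_one _)
    intro h0
    rw [h0, Subgroup.mem_bot] at h1
    rw [h1, orderOf_one] at hk'
    exact hr.one_lt.ne hk'
  have hdisj : Cfsg.pCore r G ⊓ Cfsg.pCore q G = ⊥ :=
    disjoint_iff.1 (IsPGroup.disjoint_of_ne r q hrq _ _ (pCore_isPGroup r) (pCore_isPGroup q))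
  -- pass to `G / O_q(G)`
  have hπ : ∀ x : G, QuotientGroup.mk' (Cfsg.pCore q G) x = 1 ↔ x ∈ Cfsg.pCore q G :=
    fun x => QuotientGroup.eq_one_iff x
  obtain ⟨a, ha⟩ : ∃ a, a = QuotientGroup.mk' (Cfsg.pCore q G) w := ⟨_, rfl⟩
  obtain ⟨b, hb⟩ : ∃ b, b = QuotientGroup.mk' (Cfsg.pCore q G) z := ⟨_, rfl⟩
  have hap : a ^ q = 1 := by
    rw [ha, ← map_pow, hπ]; exact hQN _ (Subgroup.pow_mem _ hwQ q) hwqN
  have hbp : b ^ q = 1 := by
    rw [hb, ← map_pow, hπ]; exact hQN _ (Subgroup.pow_mem _ hzQ q) hzqN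
  have hb1 : b ≠ 1 := by
    rw [hb]; intro h0; exact hzN (hQ0N ((hπ z).1 h0))
  have hab : a * b = b * a := by
    have h1 : QuotientGroup.mk' (Cfsg.pCore q G) (w * z * w⁻¹ * z⁻¹) = 1 := by
      rw [hπ]
      exact hQN _ (Subgroup.mul_mem _ (Subgroup.mul_mem _ (Subgroup.mul_mem _ hwQ hzQ)
        (Subgroup.inv_mem _ hwQ)) (Subgroup.inv_mem _ hzQ)) hcN
    simp only [map_mul, map_inv, ← ha, ← hb] at h1
    calc a * b = (a * b * a⁻¹ * b⁻¹) * (b * a) := by group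
      _ = b * a := by rw [h1, one_mul]
  have habm : ∀ m : ℕ, a * b ^ m ≠ 1 := by
    intro m h0
    rw [ha, hb, ← map_pow, ← map_mul, hπ] at h0
    exact hmN m (hQ0N h0)
  obtain ⟨A, hA⟩ : ∃ A : Subgroup (G ⧸ Cfsg.pCore q G), A = Subgroup.closure {a, b} := ⟨_, rfl⟩
  have haA : a ∈ A := hA ▸ Subgroup.subset_closure (by simp)
  have hbA : b ∈ A := hA ▸ Subgroup.subset_closure (by simp)
  have hcomm : ∀ x ∈ A, ∀ y ∈ A, x * y = y * x := by
    have hk : ∀ x ∈ ({a, b} : Set (G ⧸ Cfsg.pCore q G)), ∀ y ∈ ({a, b} : Set (G ⧸ Cfsg.pCore q G)),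
        x * y = y * x := by
      intro x hx y hy
      rcases hx with rfl | rfl <;> rcases hy with rfl | rfl
      · rfl
      · exact hab
      · exact hab.symm
      · rfl
    intro x hx y hy
    rw [hA] at hx hy
    haveI := Subgroup.isMulCommutative_closure hk
    have := mul_comm' (⟨x, hx⟩ : ↥(Subgroup.closure {a, b})) ⟨y, hy⟩
    exact congrArg Subtype.val this
  have hAQ : A ≤ (Q : Subgroup G).map (QuotientGroup.mk' (Cfsg.pCore q G)) := by
    rw [hA, Subgroup.closure_le]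
    intro x hx
    rcases hx with rfl | rfl
    · exact Subgroup.mem_map.2 ⟨w, hwQ, ha.symm⟩
    · exact Subgroup.mem_map.2 ⟨z, hzQ, hb.symm⟩
  have hAp : IsPGroup q A := (Q.isPGroup'.map _).to_le hAQ
  obtain ⟨K, hK⟩ : ∃ K : Subgroup (G ⧸ Cfsg.pCore q G),
      K = (Cfsg.pCore r G).map (QuotientGroup.mk' (Cfsg.pCore q G)) := ⟨_, rfl⟩
  have hKn : K.Normal := by
    rw [hK]
    exact Subgroup.Normal.map inferInstance _ (QuotientGroup.mk'_surjective _)
  have hKp : IsPGroup r K := hK ▸ (pCore_isPGroup r).map _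
  have hcop : (Nat.card A).Coprime (Nat.card K) := by
    obtain ⟨k, hk⟩ := IsPGroup.iff_card.1 hAp
    obtain ⟨j, hj⟩ := IsPGroup.iff_card.1 hKp
    rw [hk, hj]
    exact Nat.Coprime.pow k j ((Nat.coprime_primes hq.out hr).2 (Ne.symm hrq))
  have hAK : A ≤ Subgroup.normalizer (K : Set (G ⧸ Cfsg.pCore q G)) := by
    rw [Subgroup.normalizer_eq_top]; exact le_top
  have hgen := Cfsg.Agent.Lib.Helper7.cgen_eq_of_rank_two (p := q) hcomm haA hbA hap hbp hb1 habm
    (Nat.card K) K rfl hAK hcop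
  -- every term is trivial
  have hKbot : K = ⊥ := by
    rw [← hgen, eq_bot_iff]
    unfold Cfsg.Agent.Lib.Helper7.cgen
    apply iSup₂_le
    intro xb hxb
    obtain ⟨x, hxQ, rfl⟩ := Subgroup.mem_map.1 (hAQ hxb.1)
    have hxN : x ∉ N := by
      intro h
      exact hxb.2 ((hπ x).2 (hQN x hxQ h))
    intro kb hkb
    obtain ⟨hkK, hkc⟩ := Subgroup.mem_inf.1 hkb
    rw [hK] at hkK
    obtain ⟨k, hkR, rfl⟩ := Subgroup.mem_map.1 hkK
    rw [Subgroup.mem_centralizer_iff] at hkc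
    have h1 := hkc _ (Set.mem_singleton _)
    have h2 : QuotientGroup.mk' (Cfsg.pCore q G) (x * k * x⁻¹ * k⁻¹) = 1 := by
      simp only [map_mul, map_inv]
      rw [h1]; group
    rw [hπ] at h2
    have h3 : x * k * x⁻¹ * k⁻¹ ∈ Cfsg.pCore r G :=
      Subgroup.mul_mem _ ((inferInstance : (Cfsg.pCore r G).Normal).conj_mem k hkR x)
        (Subgroup.inv_mem _ hkR)
    have h4 : x * k * x⁻¹ * k⁻¹ = 1 := by
      have : x * k * x⁻¹ * k⁻¹ ∈ Cfsg.pCore r G ⊓ Cfsg.pCore q G := Subgroup.mem_inf.2 ⟨h3, h2⟩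
      rw [hdisj] at this
      exact Subgroup.mem_bot.1 this
    have hcomm_xk : Commute x k := by
      show x * k = k * x
      calc x * k = (x * k * x⁻¹ * k⁻¹) * (k * x) := by group
        _ = k * x := by rw [h4, one_mul]
    have h5 := heq x hxN k (hRN hkR)
    obtain ⟨e, he⟩ := Q.isPGroup' ⟨x, hxQ⟩
    have hox : orderOf x ∣ q ^ e := orderOf_dvd_of_pow_eq_one (congrArg Subtype.val he)
    obtain ⟨f, hf⟩ := pCore_isPGroup (G := G) r ⟨k, hkR⟩
    have hok : orderOf k ∣ r ^ f := orderOf_dvd_of_pow_eq_one (congrArg Subtype.val hf)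
    have hco : (orderOf x).Coprime (orderOf k) :=
      Nat.Coprime.coprime_dvd_left hox (Nat.Coprime.coprime_dvd_right hok
        (Nat.Coprime.pow e f ((Nat.coprime_primes hq.out hr).2 (Ne.symm hrq))))
    rw [hcomm_xk.orderOf_mul_eq_mul_orderOf_of_coprime hco] at h5
    have h6 : orderOf k = 1 := by
      have hpos : 0 < orderOf x := orderOf_pos x
      nlinarith
    rw [orderOf_eq_one_iff] at h6
    rw [h6, map_one]
    exact Subgroup.mem_bot.2 rfl
  -- hence `O_r(G) ≤ O_q(G)`, a contradiction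
  apply hR1
  rw [eq_bot_iff]
  intro k hk
  have h1 : QuotientGroup.mk' (Cfsg.pCore q G) k ∈ K := hK ▸ Subgroup.mem_map_of_mem _ hk
  rw [hKbot, Subgroup.mem_bot, hπ] at h1
  have : k ∈ Cfsg.pCore r G ⊓ Cfsg.pCore q G := Subgroup.mem_inf.2 ⟨hk, h1⟩
  rw [hdisj] at this
  exact this

end Cfsg.Agent.H2.EqOrdSyl
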