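import Mathlib
import Cfsg.Prelude.Def_LieExceptional
import Cfsg.Prelude.Def_OddOrderLocal
import Cfsg.Agent.H2.CNNormalSylow
import Cfsg.Agent.H2.FrobComplSylow
import Cfsg.Agent.H2.EqualOrderSylow
import Cfsg.Agent.H1.Cores
import Cfsg.Agent.H1.Hall
import Cfsg.Agent.H1.OddCentralizers
import Cfsg.Agent.Lib.Helper7.PReduced4
import Cfsg.Agent.Lib.Lead.PGroup
import Cfsg.Agent.S0044

/-!
# Solvable CN-groups: nilpotent, Frobenius, or three-step

(author: helper2)
-/

set_option autoImplicit false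

namespace Cfsg.Agent.H2.CNSolv

open Cfsg.Agent.Lib.Helper4 Cfsg.Agent.H2.CNSyl

universe u

variable {G : Type u} [Group G] [Finite G]

/-- a subgroup of a CN-group acting fixed-point-freely on a nontrivial normal subgroup is nilpotent -/
theorem nilpotent_of_fpf (hCN : Cfsg.IsCNGroup G) (K H : Subgroup G) [K.Normal] (hK : K ≠ ⊥)
    (hfpf : ∀ h ∈ H, h ≠ 1 → K ⊓ Subgroup.centralizer ({h} : Set G) = ⊥) :
    Group.IsNilpotent H := by
  by_cases hH : H = ⊥
  · subst hH
    infer_instance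
  have h1 := Cfsg.Agent.H2.FCCenter.center_ne_bot K H hK hH hfpf
  obtain ⟨c, hc1⟩ := (Subgroup.ne_bot_iff_exists_ne_one).mp h1
  have hc1' : ((c : ↥H) : G) ≠ 1 := by
    intro h
    apply hc1
    apply Subtype.ext
    apply Subtype.ext
    exact h
  apply CNQ.nilpotent_of_le _ (hCN _ hc1')
  intro w hw
  rw [Subgroup.mem_centralizer_singleton_iff]
  have h2 := (Subgroup.mem_center_iff.mp c.2) ⟨w, hw⟩
  exact congrArg Subtype.val h2

theorem card_quaternion_pow (n : ℕ) : Nat.card (QuaternionGroup (2 ^ n)) = 4 * 2 ^ n := by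
  rw [Nat.card_eq_fintype_card, QuaternionGroup.card]

/-- a nilpotent group of odd order acting fixed-point-freely is cyclic -/
theorem cyclic_of_fpf_odd (K H : Subgroup G) [K.Normal] (hK : K ≠ ⊥)
    (hfpf : ∀ h ∈ H, h ≠ 1 → K ⊓ Subgroup.centralizer ({h} : Set G) = ⊥)
    (hnil : Group.IsNilpotent H) (hodd : Odd (Nat.card H)) : IsCyclic H := by
  have hZ : IsZGroup H := by
    constructor
    intro p hp P
    have := Fact.mk hp
    rcases FCS.sylow_cyclic_or_quaternion K H hK hfpf p P with h | ⟨n, ⟨e⟩⟩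
    · exact h
    · exfalso
      have h1 : Nat.card P = 4 * 2 ^ n := by
        rw [Nat.card_congr e.toEquiv, card_quaternion_pow]
      have h2 : Nat.card P ∣ Nat.card H := Subgroup.card_subgroup_dvd_card _
      have h3 : 2 ∣ Nat.card H := by
        apply Dvd.dvd.trans _ h2
        rw [h1]
        exact ⟨2 * 2 ^ n, by ring⟩
      rw [← Nat.not_even_iff_odd] at hodd
      exact hodd (even_iff_two_dvd.mpr h3)
  have := hnil
  infer_instance

/-- structure of a nilpotent group acting fixed-point-freely -/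
theorem structure_of_fpf_nilpotent (K H : Subgroup G) [K.Normal] (hK : K ≠ ⊥)
    (hfpf : ∀ h ∈ H, h ≠ 1 → K ⊓ Subgroup.centralizer ({h} : Set G) = ⊥)
    (hnil : Group.IsNilpotent H) :
    IsCyclic H ∨ ∃ C Q : Subgroup G, C ⊔ Q = H ∧ (∀ a ∈ C, ∀ b ∈ Q, a * b = b * a) ∧ IsCyclic C ∧
      Odd (Nat.card C) ∧ ∃ n : ℕ, Nonempty (↥Q ≃* QuaternionGroup (2 ^ n)) := by
  by_cases hall : ∀ p : ℕ, p.Prime → ∀ P : Sylow p H, IsCyclic P
  · left
    have hZ : IsZGroup H := ⟨hall⟩
    have := hnil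
    infer_instance
  · right
    push Not at hall
    obtain ⟨p, hp, P, hP⟩ := hall
    have := Fact.mk hp
    rcases FCS.sylow_cyclic_or_quaternion K H hK hfpf p P with h | ⟨n, ⟨e⟩⟩
    · exact absurd h hP
    have hcardP : Nat.card P = 4 * 2 ^ n := by
      rw [Nat.card_congr e.toEquiv, card_quaternion_pow]
    have hp2 : p = 2 := by
      obtain ⟨k, hk⟩ := (IsPGroup.iff_card).mp P.isPGroup'
      have h2 : 2 ∣ p ^ k := by
        rw [← hk, hcardP]
        exact ⟨2 * 2 ^ n, by ring⟩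
      exact ((Nat.prime_dvd_prime_iff_eq Nat.prime_two hp).mp
        (Nat.Prime.dvd_of_dvd_pow Nat.prime_two h2)).symm
    subst hp2
    have := hnil
    have hPn : (P : Subgroup H).Normal := inferInstance
    obtain ⟨C', hC'⟩ := Subgroup.exists_right_complement'_of_coprime (P.card_coprime_index)
    have hcardC' : Nat.card C' = (P : Subgroup H).index := by
      have h1 := hC'.card_mul_card
      have h2 := Subgroup.card_mul_index (P : Subgroup H)
      have : Nat.card (P : Subgroup H) * Nat.card C' =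
          Nat.card (P : Subgroup H) * (P : Subgroup H).index := by rw [h1, h2]
      exact Nat.eq_of_mul_eq_mul_left Nat.card_pos this
    have hcop : (Nat.card (P : Subgroup H)).Coprime (Nat.card C') := by
      rw [hcardC']; exact P.card_coprime_index
    have hoddC' : Odd (Nat.card C') := by
      rw [← Nat.not_even_iff_odd]
      intro hev
      have h1 : 2 ∣ Nat.card C' := even_iff_two_dvd.mp hev
      have h2 : 2 ∣ Nat.card (P : Subgroup H) := by
        rw [hcardP]; exact ⟨2 * 2 ^ n, by ring⟩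
      have h3 := Nat.dvd_gcd h2 h1
      rw [hcop] at h3
      exact absurd (Nat.le_of_dvd one_pos h3) (by norm_num)
    have hcardC : Nat.card (C'.map H.subtype) = Nat.card C' :=
      Subgroup.card_map_of_injective H.subtype_injective
    have hCH : C'.map H.subtype ≤ H := Subgroup.map_subtype_le _
    refine ⟨C'.map H.subtype, (P : Subgroup H).map H.subtype, ?_, ?_, ?_, ?_, n, ⟨?_⟩⟩
    · rw [← Subgroup.map_sup, sup_comm, hC'.sup_eq_top, ← MonoidHom.range_eq_map,
        Subgroup.range_subtype]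
    · rintro a ⟨a', ha', rfl⟩ b ⟨b', hb', rfl⟩
      have hc : (orderOf a').Coprime (orderOf b') := by
        have h1 : orderOf a' ∣ Nat.card C' := by
          have := orderOf_dvd_natCard (⟨a', ha'⟩ : ↥C')
          rwa [Subgroup.orderOf_mk] at this
        have h2 : orderOf b' ∣ Nat.card (P : Subgroup H) := by
          have := orderOf_dvd_natCard (⟨b', hb'⟩ : ↥(P : Subgroup H))
          rwa [Subgroup.orderOf_mk] at this
        exact (Nat.Coprime.coprime_dvd_left h2 (Nat.Coprime.coprime_dvd_right h1 hcop)).symm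
      have h1 := Nilpotent.commute_of_coprime_orderOf ↥H a' b' hc
      exact congrArg Subtype.val h1
    · apply cyclic_of_fpf_odd K _ hK
      · intro h hh hh1
        exact hfpf h (hCH hh) hh1
      · exact CNQ.nilpotent_of_le hCH hnil
      · rw [hcardC]; exact hoddC'
    · rw [hcardC]; exact hoddC'
    · exact (Subgroup.equivMapOfInjective (P : Subgroup H) H.subtype H.subtype_injective).symm.trans e

/-- in a CN-group, an element of order coprime to a self-centralizing nilpotent subgroup `N`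
that commutes with a nontrivial element of `N` is trivial -/
theorem eq_one_of_commute_of_self_centralizing {X : Type*} [Group X] [Finite X]
    (hCN : Cfsg.IsCNGroup X) (N : Subgroup X) (hNnil : Group.IsNilpotent N)
    (hcent : Subgroup.centralizer (N : Set X) ≤ N) (b : X)
    (hb : (orderOf b).Coprime (Nat.card N)) (x : X) (hxN : x ∈ N) (hx1 : x ≠ 1)
    (hbx : b * x = x * b) : b = 1 := by
  have hNnt : Nontrivial ↥N := ⟨⟨⟨x, hxN⟩, 1, fun h => hx1 (congrArg Subtype.val h)⟩⟩
  obtain ⟨z, hzN, hz1, hzc⟩ : ∃ z : X, z ∈ N ∧ z ≠ 1 ∧ ∀ f ∈ N, f * z = z * f := by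
    have := hNnil
    have h1 : Subgroup.center ↥N ≠ ⊥ := Group.IsNilpotent.center_ne_bot ↥N
    obtain ⟨z, hz1⟩ := (Subgroup.ne_bot_iff_exists_ne_one).mp h1
    refine ⟨((z : ↥N) : X), (z : ↥N).2, ?_, ?_⟩
    · intro h
      apply hz1
      apply Subtype.ext
      apply Subtype.ext
      exact h
    · intro f hf
      have h2 := (Subgroup.mem_center_iff.mp z.2) ⟨f, hf⟩
      exact congrArg Subtype.val h2
  have hordN : ∀ f ∈ N, orderOf f ∣ Nat.card N := by
    intro f hf
    have h1 := orderOf_dvd_natCard (⟨f, hf⟩ : ↥N)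
    rwa [Subgroup.orderOf_mk] at h1
  have hbN : ∀ f ∈ N, (orderOf b).Coprime (orderOf f) := fun f hf =>
    Nat.Coprime.coprime_dvd_right (hordN f hf) hb
  have hbz : b * z = z * b := by
    apply commute_of_mem_nilpotent (hCN x hx1) _ _ (hbN z hzN)
    · rw [Subgroup.mem_centralizer_singleton_iff]; exact hbx
    · rw [Subgroup.mem_centralizer_singleton_iff]; exact (hzc x hxN).symm
  have hbF : ∀ f ∈ N, b * f = f * b := by
    intro f hf
    apply commute_of_mem_nilpotent (hCN z hz1) _ _ (hbN f hf)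
    · rw [Subgroup.mem_centralizer_singleton_iff]; exact hbz
    · rw [Subgroup.mem_centralizer_singleton_iff]; exact hzc f hf
  have hbmem : b ∈ N := by
    apply hcent
    rw [Subgroup.mem_centralizer_iff]
    intro f hf
    exact (hbF f hf).symm
  have h1 := Nat.Coprime.eq_one_of_dvd hb (hordN b hbmem)
  exact orderOf_eq_one_iff.mp h1

omit [Finite G] in
theorem orderOf_eq_pow_of_mem {p : ℕ} [Fact p.Prime] {S : Subgroup G} (hS : IsPGroup p S) {g : G}
    (hg : g ∈ S) : ∃ k : ℕ, orderOf g = p ^ k := by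
  obtain ⟨k, hk⟩ := (IsPGroup.iff_orderOf.mp hS) ⟨g, hg⟩
  rw [Subgroup.orderOf_mk] at hk
  exact ⟨k, hk⟩

/-- the three-step case -/
theorem three_step [Group.IsSolvable G] (hCN : Cfsg.IsCNGroup G) (hnn : ¬ Group.IsNilpotent G)
    (hB : ∀ p : ℕ, ∀ _ : Fact p.Prime, ∀ P : Sylow p G, (P : Subgroup G).Normal →
      (P : Subgroup G) = ⊥) :
    ∃ p : ℕ, p.Prime ∧ Cfsg.IsThreeStepGroup p G := by
  -- (a) a prime with nontrivial core
  obtain ⟨p, hp, hF1⟩ : ∃ p : ℕ, p.Prime ∧ Cfsg.pCore p G ≠ ⊥ := by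
    by_contra hcon
    push Not at hcon
    have h1 : Cfsg.fittingSubgroup G = ⊥ := by
      rw [Cfsg.Agent.H1.fittingSubgroup_eq_iSup_pCore, eq_bot_iff]
      apply iSup_le
      intro q
      rw [hcon q q.2]
    have h2 := Cfsg.Agent.S0044.result (G := G)
    rw [h1] at h2
    apply hnn
    have htop : Subgroup.centralizer (((⊥ : Subgroup G) : Subgroup G) : Set G) = ⊤ := by
      rw [Subgroup.coe_bot]
      exact Subgroup.centralizer_eq_top_iff_subset.2 (by simp)
    rw [htop, top_le_iff] at h2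
    have hss : Subsingleton (Subgroup G) := subsingleton_of_bot_eq_top h2
    have : Subsingleton G := Subgroup.subsingleton_iff.mp hss
    infer_instance
  have hpF := Fact.mk hp
  obtain ⟨F, hFdef⟩ : ∃ F : Subgroup G, F = Cfsg.pCore p G := ⟨_, rfl⟩
  rw [← hFdef] at hF1
  have hFn : F.Normal := by rw [hFdef]; exact Cfsg.Agent.H1.pCore_normal p
  have hFp : IsPGroup p F := by rw [hFdef]; exact Cfsg.Agent.H1.pCore_isPGroup p
  obtain ⟨P⟩ : Nonempty (Sylow p G) := inferInstance
  have hFP : F ≤ P := by rw [hFdef]; exact Cfsg.Agent.H1.pCore_le_sylow P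
  have hPnn : ¬ (P : Subgroup G).Normal := by
    intro h
    have h1 := hB p hpF P h
    apply hF1
    rw [eq_bot_iff, ← h1]
    exact hFP
  have hPF : ¬ (P : Subgroup G) ≤ F := by
    intro h
    apply hPnn
    have h1 : (P : Subgroup G) = F := le_antisymm h hFP
    rw [h1]
    exact hFn
  -- (c) the other cores are trivial
  have hB3 : ∀ q : ℕ, q.Prime → q ≠ p → Cfsg.pCore q G = ⊥ := by
    intro q hq hqp
    by_contra hQ1
    have hqF := Fact.mk hq
    have hQn : (Cfsg.pCore q G).Normal := Cfsg.Agent.H1.pCore_normal q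
    have hQq : IsPGroup q (Cfsg.pCore q G) := Cfsg.Agent.H1.pCore_isPGroup q
    obtain ⟨y', hy'1⟩ := (Subgroup.ne_bot_iff_exists_ne_one).mp hQ1
    have hy1 : (y' : G) ≠ 1 := fun h => hy'1 (Subtype.ext h)
    have hFP1 : F.subgroupOf P ≠ ⊥ := by
      intro h
      rw [Subgroup.subgroupOf_eq_bot, disjoint_iff, inf_eq_left.mpr hFP] at h
      exact hF1 h
    obtain ⟨x', hx'F, hx'Z, hx'1⟩ :=
      Cfsg.Agent.Lib.Lead.PGroup.exists_mem_center_of_normal P.isPGroup' (F.subgroupOf P) hFP1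
    have hxF : (x' : G) ∈ F := Subgroup.mem_subgroupOf.mp hx'F
    have hx1 : (x' : G) ≠ 1 := fun h => hx'1 (Subtype.ext h)
    have hxP : ∀ g ∈ (P : Subgroup G), g * (x' : G) = (x' : G) * g := by
      intro g hg
      have h2 := (Subgroup.mem_center_iff.mp hx'Z) ⟨g, hg⟩
      exact congrArg Subtype.val h2
    have hdisj : Disjoint F (Cfsg.pCore q G) :=
      IsPGroup.disjoint_of_ne p q (Ne.symm hqp) _ _ hFp hQq
    have hxQ : ∀ w ∈ Cfsg.pCore q G, w * (x' : G) = (x' : G) * w := by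
      intro w hw
      exact (Subgroup.commute_of_normal_of_disjoint F (Cfsg.pCore q G) hFn hQn hdisj
        (x' : G) w hxF hw).eq.symm
    have hPQ : ∀ g ∈ (P : Subgroup G), ∀ w ∈ Cfsg.pCore q G, g * w = w * g := by
      intro g hg w hw
      obtain ⟨k, hk⟩ := orderOf_eq_pow_of_mem P.isPGroup' hg
      obtain ⟨j, hj⟩ := orderOf_eq_pow_of_mem hQq hw
      apply commute_of_mem_nilpotent (hCN (x' : G) hx1) _ _
      · rw [hk, hj]
        exact Nat.Coprime.pow _ _ ((Nat.coprime_primes hp hq).mpr (Ne.symm hqp))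
      · rw [Subgroup.mem_centralizer_singleton_iff]; exact hxP g hg
      · rw [Subgroup.mem_centralizer_singleton_iff]; exact hxQ w hw
    have hNn : (Subgroup.centralizer ((Cfsg.pCore q G : Subgroup G) : Set G)).Normal :=
      Subgroup.normal_centralizer
    have hNnil : Group.IsNilpotent
        ↥(Subgroup.centralizer ((Cfsg.pCore q G : Subgroup G) : Set G)) := by
      apply CNQ.nilpotent_of_le _ (hCN (y' : G) hy1)
      apply Subgroup.centralizer_le
      intro w hw
      rw [Set.mem_singleton_iff] at hw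
      rw [hw]
      exact y'.2
    apply hPF
    intro g hg
    have hgN : g ∈ Subgroup.centralizer ((Cfsg.pCore q G : Subgroup G) : Set G) := by
      rw [Subgroup.mem_centralizer_iff]
      intro w hw
      exact (hPQ g hg w hw).symm
    obtain ⟨k, hk⟩ := orderOf_eq_pow_of_mem P.isPGroup' hg
    rw [hFdef]
    exact Cfsg.Agent.H2.EqOrdSyl.mem_pCore_of_mem_nilpotent_normal _ hNnil p g hgN k
      (by rw [← hk]; exact pow_orderOf_eq_one g)
  -- (d) `F` is the Fitting subgroup and is self-centralizing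
  have hFit : Cfsg.fittingSubgroup G = F := by
    rw [Cfsg.Agent.H1.fittingSubgroup_eq_iSup_pCore]
    apply le_antisymm
    · apply iSup_le
      intro q
      by_cases hq : (q : ℕ) = p
      · rw [hq, hFdef]
      · rw [hB3 q q.2 hq]; exact bot_le
    · rw [hFdef]
      exact le_iSup (fun q : Nat.Primes => Cfsg.pCore (q : ℕ) G) ⟨p, hp⟩
  have hcent : Subgroup.centralizer (F : Set G) ≤ F := by
    have h1 := Cfsg.Agent.S0044.result (G := G)
    rwa [hFit] at h1
  -- (e) `p'`-elements act fixed-point-freely on `F`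
  have hFnil : Group.IsNilpotent F := hFp.isNilpotent
  obtain ⟨f0, hf0⟩ := (IsPGroup.iff_card).mp hFp
  have hA : ∀ b : G, (orderOf b).Coprime p → ∀ x ∈ F, x ≠ 1 → b * x = x * b → b = 1 := by
    intro b hb x hxF hx1 hbx
    exact eq_one_of_commute_of_self_centralizing hCN F hFnil hcent b
      (by rw [hf0]; exact hb.pow_right _) x hxF hx1 hbx
  -- (f) a Hall `p'`-subgroup
  obtain ⟨a, m, hpm, hcardG⟩ :=
    Nat.exists_eq_pow_mul_and_not_dvd (Nat.card_pos (α := G)).ne' p hp.ne_one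
  have hmp : m.Coprime p := ((Nat.Prime.coprime_iff_not_dvd hp).mpr hpm).symm
  obtain ⟨H, hH⟩ := Cfsg.Agent.H1.hall_exists m (p ^ a) (by rw [hcardG, mul_comm])
    (hmp.pow_right a)
  have hordH : ∀ h ∈ H, (orderOf h).Coprime p := by
    intro h hh
    have h1 := orderOf_dvd_natCard (⟨h, hh⟩ : ↥H)
    rw [Subgroup.orderOf_mk, hH] at h1
    exact Nat.Coprime.coprime_dvd_left h1 hmp
  have hFH : F ⊓ H = ⊥ := by
    apply disjoint_iff.mp
    apply Subgroup.disjoint_of_coprime_natCard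
    rw [hf0, hH]
    exact (hmp.pow_right f0).symm
  have hfpf : ∀ h ∈ H, h ≠ 1 → F ⊓ Subgroup.centralizer ({h} : Set G) = ⊥ := by
    intro h hh hh1
    rw [eq_bot_iff]
    intro x hx
    rw [Subgroup.mem_inf] at hx
    obtain ⟨hxF, hxh⟩ := hx
    rw [Subgroup.mem_bot]
    by_contra hx1
    rw [Subgroup.mem_centralizer_singleton_iff] at hxh
    exact hh1 (hA h (hordH h hh) x hxF hx1 hxh.symm)
  have hHnil := nilpotent_of_fpf hCN F H hF1 hfpf
  have hH1 : H ≠ ⊥ := by
    intro h
    rw [h, Subgroup.card_bot] at hH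
    apply hnn
    have h1 : IsPGroup p G := IsPGroup.of_card (n := a) (by rw [hcardG, ← hH, mul_one])
    exact h1.isNilpotent
  -- (g) the quotient
  have hFsolv : Group.IsSolvable F := inferInstance
  have hCNq : Cfsg.IsCNGroup (G ⧸ F) := CNQ.cn_quotient hCN F hFsolv
  obtain ⟨Nb, hNbdef⟩ : ∃ Nb : Subgroup (G ⧸ F), Nb = Cfsg.fittingSubgroup (G ⧸ F) := ⟨_, rfl⟩
  have hNbn : Nb.Normal := by rw [hNbdef]; infer_instance
  have hNbnil : Group.IsNilpotent Nb := by
    rw [hNbdef]; exact Cfsg.Agent.H1.fittingSubgroup_nilpotent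
  have hNbcent : Subgroup.centralizer (Nb : Set (G ⧸ F)) ≤ Nb := by
    rw [hNbdef]; exact Cfsg.Agent.S0044.result
  have hpq : Cfsg.pCore p (G ⧸ F) = ⊥ := by
    apply Cfsg.Agent.Lib.Helper7.pCore_quotient_eq_bot_of_forall
    intro Pn hPn hPp
    rw [hFdef]
    apply Cfsg.Agent.H1.le_pCore hPn
    rintro ⟨x, hx⟩
    obtain ⟨k, hk⟩ := hPp x hx
    obtain ⟨j, hj⟩ := hFp ⟨x ^ p ^ k, hk⟩
    refine ⟨k + j, Subtype.ext ?_⟩
    have h1 := congrArg Subtype.val hj
    simp only [Subgroup.coe_pow, Subgroup.coe_one] at h1 ⊢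
    rw [pow_add, pow_mul]
    exact h1
  have hNbcop : (Nat.card Nb).Coprime p := by
    have h1 : Nb ≤ Cfsg.pPrimeCore p (G ⧸ F) := by
      rw [hNbdef, Cfsg.Agent.H1.fittingSubgroup_eq_iSup_pCore]
      apply iSup_le
      intro q
      by_cases hq : (q : ℕ) = p
      · rw [hq, hpq]; exact bot_le
      · exact Cfsg.Agent.H1.le_pPrimeCore (Cfsg.Agent.H1.pCore_normal (q : ℕ))
          (Cfsg.Agent.H1.pCore_coprime_of_ne hp q.2 hq)
    exact Nat.Coprime.coprime_dvd_left (Subgroup.card_dvd_of_le h1)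
      (Cfsg.Agent.H1.pPrimeCore_coprime p)
  have hGL : ∀ yb : G ⧸ F, (orderOf yb).Coprime (Nat.card Nb) → ∀ xb ∈ Nb, xb ≠ 1 →
      yb * xb = xb * yb → yb = 1 := fun yb hyb xb hxb hxb1 hc =>
    eq_one_of_commute_of_self_centralizing hCNq Nb hNbnil hNbcent yb hyb xb hxb hxb1 hc
  -- (i) a nontrivial `p`-element of the quotient
  obtain ⟨g0, hg0P, hg0F⟩ : ∃ g0 ∈ (P : Subgroup G), g0 ∉ F := by
    by_contra h
    push Not at h
    exact hPF h
  obtain ⟨yb, hybdef⟩ : ∃ yb : G ⧸ F, yb = QuotientGroup.mk' F g0 := ⟨_, rfl⟩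
  have hyb1 : yb ≠ 1 := by
    rw [hybdef]
    intro h
    exact hg0F ((QuotientGroup.eq_one_iff g0).mp h)
  have hybcop : (orderOf yb).Coprime (Nat.card Nb) := by
    obtain ⟨k, hk⟩ := orderOf_eq_pow_of_mem P.isPGroup' hg0P
    have h1 : orderOf yb ∣ p ^ k := by
      rw [hybdef, ← hk]; exact orderOf_map_dvd _ g0
    exact Nat.Coprime.coprime_dvd_left h1 (hNbcop.symm.pow_left k)
  -- (j) `|H|` is odd
  have hoddH : Odd (Nat.card H) := by
    rw [← Nat.not_even_iff_odd]
    intro hev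
    have h2m : 2 ∣ Nat.card H := even_iff_two_dvd.mp hev
    have hp2 : p ≠ 2 := by
      intro h
      rw [hH] at h2m
      rw [h] at hpm
      exact hpm h2m
    have h2F := Fact.mk Nat.prime_two
    obtain ⟨t', ht'⟩ := exists_prime_orderOf_dvd_card' 2 h2m
    obtain ⟨t, htdef⟩ : ∃ t : G, t = (t' : G) := ⟨_, rfl⟩
    have htH : t ∈ H := by rw [htdef]; exact t'.2
    have hto : orderOf t = 2 := by rw [htdef, Subgroup.orderOf_coe]; exact ht'
    have htt : t * t = 1 := by rw [← pow_two, ← hto]; exact pow_orderOf_eq_one t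
    have ht1 : t ≠ 1 := by
      intro h
      rw [h, orderOf_one] at hto
      norm_num at hto
    have h2p : Nat.Coprime 2 p := (Nat.coprime_primes Nat.prime_two hp).mpr (Ne.symm hp2)
    have hinv : ∀ g : G, ∀ f ∈ F, (g * t * g⁻¹) * f * (g * t * g⁻¹)⁻¹ = f⁻¹ := by
      intro g
      apply Cfsg.Agent.H1.fpf_invol_inverts F (g * t * g⁻¹)
      · have h1 : g * t * g⁻¹ * (g * t * g⁻¹) = g * (t * t) * g⁻¹ := by group
        rw [h1, htt]; group
      · rw [Subgroup.normalizer_eq_top]; exact Subgroup.mem_top _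
      · intro s hs hfix
        by_contra hs1
        have hto' : orderOf (g * t * g⁻¹) = 2 := by
          rw [← MulAut.conj_apply, MulEquiv.orderOf_eq, hto]
        have h3 : (g * t * g⁻¹) * s = s * (g * t * g⁻¹) := by
          calc (g * t * g⁻¹) * s = ((g * t * g⁻¹) * s * (g * t * g⁻¹)⁻¹) * (g * t * g⁻¹) := by
                group
            _ = s * (g * t * g⁻¹) := by rw [hfix]
        have h4 := hA (g * t * g⁻¹) (by rw [hto']; exact h2p) s hs hs1 h3
        apply ht1
        have h5 : t = g⁻¹ * (g * t * g⁻¹) * g := by group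
        rw [h5, h4]; group
    have hcentral : ∀ gb : G ⧸ F, gb * (QuotientGroup.mk' F t) = (QuotientGroup.mk' F t) * gb := by
      intro gb
      obtain ⟨g, rfl⟩ := QuotientGroup.mk'_surjective F gb
      have hmem : t * (g * t * g⁻¹) ∈ F := by
        apply hcent
        rw [Subgroup.mem_centralizer_iff]
        intro f hf
        have h1 := hinv g f hf
        have h2 := hinv 1 f⁻¹ (F.inv_mem hf)
        simp only [one_mul, inv_one, mul_one, inv_inv] at h2
        calc f * (t * (g * t * g⁻¹)) = (t * f⁻¹ * t⁻¹) * (t * (g * t * g⁻¹)) := by rw [h2]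
          _ = t * (f⁻¹ * (g * t * g⁻¹)) := by group
          _ = t * (((g * t * g⁻¹) * f * (g * t * g⁻¹)⁻¹) * (g * t * g⁻¹)) := by rw [h1]
          _ = t * (g * t * g⁻¹) * f := by group
      have h3 : (QuotientGroup.mk' F) (t * (g * t * g⁻¹)) = 1 :=
        (QuotientGroup.eq_one_iff _).mpr hmem
      have h4 : (QuotientGroup.mk' F t) * (QuotientGroup.mk' F t) = 1 := by
        rw [← map_mul, htt, map_one]
      rw [map_mul, map_mul, map_mul, map_inv] at h3
      have h5 : (QuotientGroup.mk' F g) * QuotientGroup.mk' F t * (QuotientGroup.mk' F g)⁻¹ =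
          QuotientGroup.mk' F t := by
        have h6 : QuotientGroup.mk' F t * ((QuotientGroup.mk' F g) * QuotientGroup.mk' F t *
            (QuotientGroup.mk' F g)⁻¹) = QuotientGroup.mk' F t * QuotientGroup.mk' F t := by
          rw [h3, h4]
        exact mul_left_cancel h6
      calc (QuotientGroup.mk' F g) * (QuotientGroup.mk' F t)
          = ((QuotientGroup.mk' F g) * QuotientGroup.mk' F t * (QuotientGroup.mk' F g)⁻¹) *
            (QuotientGroup.mk' F g) := by group
        _ = (QuotientGroup.mk' F t) * (QuotientGroup.mk' F g) := by rw [h5]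
    have htb1 : QuotientGroup.mk' F t ≠ 1 := by
      intro h
      have h1 : t ∈ F ⊓ H := Subgroup.mem_inf.mpr ⟨(QuotientGroup.eq_one_iff t).mp h, htH⟩
      rw [hFH, Subgroup.mem_bot] at h1
      exact ht1 h1
    have htbN : QuotientGroup.mk' F t ∈ Nb := by
      apply hNbcent
      rw [Subgroup.mem_centralizer_iff]
      intro n _
      exact hcentral n
    exact hyb1 (hGL yb hybcop _ htbN htb1 (hcentral yb))
  -- (k) `H` is cyclic
  have hHcyc : IsCyclic H := cyclic_of_fpf_odd F H hF1 hfpf hHnil hoddH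
  have hHcomm : ∀ u ∈ H, ∀ v ∈ H, u * v = v * u := by
    intro u hu v hv
    have h1 : (⟨u, hu⟩ : ↥H) * ⟨v, hv⟩ = ⟨v, hv⟩ * ⟨u, hu⟩ :=
      IsMulCommutative.is_comm.comm _ _
    exact congrArg Subtype.val h1
  -- (l) cardinalities
  have hf0a : f0 ≤ a := by
    have h1 : p ^ f0 ∣ p ^ a * m := by
      rw [← hf0, ← hcardG]; exact Subgroup.card_subgroup_dvd_card F
    have h2 : p ^ f0 ∣ p ^ a :=
      Nat.Coprime.dvd_of_dvd_mul_right (hmp.symm.pow_left f0) h1
    exact (Nat.pow_dvd_pow_iff_le_right hp.one_lt).mp h2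
  have hcardQ : Nat.card (G ⧸ F) = m * p ^ (a - f0) := by
    rw [← Subgroup.index_eq_card]
    have h1 := Subgroup.index_mul_card F
    rw [hf0, hcardG] at h1
    have h2 : p ^ a = p ^ (a - f0) * p ^ f0 := by
      rw [← pow_add, Nat.sub_add_cancel hf0a]
    rw [h2] at h1
    have h3 : F.index * p ^ f0 = (m * p ^ (a - f0)) * p ^ f0 := by rw [h1]; ring
    exact Nat.eq_of_mul_eq_mul_right (pow_pos hp.pos f0) h3
  obtain ⟨Hb, hHbdef⟩ : ∃ Hb : Subgroup (G ⧸ F), Hb = H.map (QuotientGroup.mk' F) := ⟨_, rfl⟩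
  have hcardHb : Nat.card Hb = m := by
    rw [hHbdef, ← hH]
    symm
    apply Nat.card_congr
    apply Equiv.ofBijective ((QuotientGroup.mk' F).subgroupMap H)
    refine ⟨?_, (QuotientGroup.mk' F).subgroupMap_surjective H⟩
    rw [injective_iff_map_eq_one]
    intro x hx
    have h1 : QuotientGroup.mk' F (x : G) = 1 := by
      have := congrArg Subtype.val hx
      simpa using this
    have h2 : (x : G) ∈ F ⊓ H :=
      Subgroup.mem_inf.mpr ⟨(QuotientGroup.eq_one_iff (x : G)).mp h1, x.2⟩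
    rw [hFH, Subgroup.mem_bot] at h2
    exact Subtype.ext h2
  have hmn : m.Coprime (p ^ (a - f0)) := hmp.pow_right _
  have hNbHb : Nb ≤ Hb := by
    obtain ⟨gb, hgb⟩ := Cfsg.Agent.H1.hall_dominance m (p ^ (a - f0)) hcardQ hmn Hb Nb hcardHb
      (hNbcop.pow_right _)
    intro x hx
    have h1 : gb * x * gb⁻¹ ∈ Nb := hNbn.conj_mem x hx gb
    have h2 := hgb h1
    rw [Cfsg.Agent.H1.mem_conj_smul] at h2
    have h3 : gb⁻¹ * (gb * x * gb⁻¹) * gb = x := by group
    rwa [h3] at h2
  have hHbcomm : ∀ u ∈ Hb, ∀ v ∈ Hb, u * v = v * u := by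
    intro u hu v hv
    rw [hHbdef] at hu hv
    obtain ⟨u', hu', rfl⟩ := hu
    obtain ⟨v', hv', rfl⟩ := hv
    rw [← map_mul, ← map_mul, hHcomm u' hu' v' hv']
  have hHbNb : Hb ≤ Nb := by
    intro u hu
    apply hNbcent
    rw [Subgroup.mem_centralizer_iff]
    intro n hn
    exact hHbcomm n (hNbHb hn) u hu
  have hHbeq : Hb = Nb := le_antisymm hHbNb hNbHb
  have hKeq : F ⊔ H = Nb.comap (QuotientGroup.mk' F) := by
    rw [← hHbeq, hHbdef, QuotientGroup.comap_map_mk']
  have hKn : (F ⊔ H).Normal := by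
    rw [hKeq]; exact hNbn.comap _
  have hcardNb : Nat.card Nb = m := by rw [← hHbeq]; exact hcardHb
  -- (n) the index
  have hidxNb : Nb.index = p ^ (a - f0) := by
    have h1 := Subgroup.index_mul_card Nb
    rw [hcardNb, hcardQ] at h1
    have h2 : Nb.index * m = p ^ (a - f0) * m := by rw [h1]; ring
    exact Nat.eq_of_mul_eq_mul_right (Nat.pos_of_ne_zero (by
      intro h0
      rw [h0] at hpm
      exact hpm (dvd_zero p))) h2
  have hidx : (F ⊔ H).index = p ^ (a - f0) := by
    rw [hKeq, Subgroup.index_comap_of_surjective _ (QuotientGroup.mk'_surjective F), hidxNb]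
  -- (o) properness
  have hKtop : F ⊔ H ≠ ⊤ := by
    intro h
    have h1 : g0 ∈ F ⊔ H := by rw [h]; exact Subgroup.mem_top _
    rw [hKeq, Subgroup.mem_comap, ← hybdef] at h1
    have h2 := orderOf_dvd_natCard (⟨yb, h1⟩ : ↥Nb)
    rw [Subgroup.orderOf_mk] at h2
    have h3 := Nat.Coprime.eq_one_of_dvd hybcop h2
    exact hyb1 (orderOf_eq_one_iff.mp h3)
  -- (p) the last condition
  have hlast : ∀ x : G, x ∉ F ⊔ H → ∀ a' ∈ H, a' ≠ 1 → x * a' * x⁻¹ * a'⁻¹ ∉ F := by
    intro x hx a' ha' ha'1 hmem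
    apply hx
    rw [hKeq, Subgroup.mem_comap]
    obtain ⟨xb, hxbdef⟩ : ∃ xb : G ⧸ F, xb = QuotientGroup.mk' F x := ⟨_, rfl⟩
    obtain ⟨ab, habdef⟩ : ∃ ab : G ⧸ F, ab = QuotientGroup.mk' F a' := ⟨_, rfl⟩
    rw [← hxbdef]
    have habN : ab ∈ Nb := by
      rw [← hHbeq, hHbdef, habdef]
      exact Subgroup.mem_map_of_mem _ ha'
    have hab1 : ab ≠ 1 := by
      rw [habdef]
      intro h
      have h1 : a' ∈ F ⊓ H := Subgroup.mem_inf.mpr ⟨(QuotientGroup.eq_one_iff a').mp h, ha'⟩
      rw [hFH, Subgroup.mem_bot] at h1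
      exact ha'1 h1
    have hcomm : xb * ab = ab * xb := by
      have h1 : QuotientGroup.mk' F (x * a' * x⁻¹ * a'⁻¹) = 1 :=
        (QuotientGroup.eq_one_iff _).mpr hmem
      rw [map_mul, map_mul, map_mul, map_inv, map_inv, ← hxbdef, ← habdef] at h1
      calc xb * ab = (xb * ab * xb⁻¹ * ab⁻¹) * (ab * xb) := by group
        _ = ab * xb := by rw [h1, one_mul]
    have hxbcop : (orderOf xb).Coprime p := by
      rw [Nat.coprime_comm, Nat.Prime.coprime_iff_not_dvd hp]
      intro hdvd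
      have hpos : 0 < orderOf xb := orderOf_pos xb
      obtain ⟨zb, hzbdef⟩ : ∃ zb : G ⧸ F, zb = xb ^ (orderOf xb / p) := ⟨_, rfl⟩
      have hzbord : orderOf zb = p := by
        rw [hzbdef, orderOf_pow_of_dvd (Nat.div_pos (Nat.le_of_dvd hpos hdvd) hp.pos).ne'
          (Nat.div_dvd_of_dvd hdvd), Nat.div_div_self hdvd hpos.ne']
      have hzbcomm : zb * ab = ab * zb := by
        rw [hzbdef]
        exact ((show Commute xb ab from hcomm).pow_left _).eq
      have h1 := hGL zb (by rw [hzbord]; exact hNbcop.symm) ab habN hab1 hzbcomm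
      rw [h1, orderOf_one] at hzbord
      exact hp.one_lt.ne hzbord
    have h1 : xb ^ p ^ (a - f0) ∈ Nb := by
      rw [← hidxNb]
      exact Subgroup.pow_index_mem Nb xb
    obtain ⟨j, hj⟩ := exists_pow_eq_self_of_coprime (x := xb) (n := p ^ (a - f0))
      (hxbcop.symm.pow_left _)
    rw [← hj]
    exact Nb.pow_mem h1 j
  have hHcop : (Nat.card H).Coprime p := by rw [hH]; exact hmp
  refine ⟨p, hp, ?_⟩
  subst hFdef
  exact ⟨hF1, H, hH1, hHcyc, hoddH, hHcop, hKn, hKtop, ⟨a - f0, hidx⟩, hfpf, hlast⟩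

/-- `S1476`: solvable CN-groups -/
theorem trichotomy [Group.IsSolvable G] (hCN : Cfsg.IsCNGroup G) :
    Group.IsNilpotent G ∨
      (∃ K E : Subgroup G, K.Normal ∧ Subgroup.IsComplement' K E ∧ Cfsg.IsFrobeniusComplement E ∧
        (IsCyclic E ∨ ∃ C Q : Subgroup G, C ⊔ Q = E ∧ (∀ a ∈ C, ∀ b ∈ Q, a * b = b * a) ∧
          IsCyclic C ∧ Odd (Nat.card C) ∧
          ∃ n : ℕ, Nonempty (↥Q ≃* QuaternionGroup (2 ^ n)))) ∨
      ∃ p : ℕ, p.Prime ∧ Cfsg.IsThreeStepGroup p G := by
  by_cases hnn : Group.IsNilpotent G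
  · exact Or.inl hnn
  right
  by_cases hB : ∀ p : ℕ, ∀ _ : Fact p.Prime, ∀ P : Sylow p G, (P : Subgroup G).Normal →
      (P : Subgroup G) = ⊥
  · right
    exact three_step hCN hnn hB
  · left
    push Not at hB
    obtain ⟨p, hpF, P, hPn, hP1⟩ := hB
    obtain ⟨hF1, hFtop, ⟨E, hE, hFrob, hfpf⟩, -⟩ := cn_normal_sylow hCN hnn p P hP1 hPn
    have hEnil := nilpotent_of_fpf hCN (Cfsg.fittingHall G) E hF1 hfpf
    exact ⟨Cfsg.fittingHall G, E, inferInstance, hE, hFrob,
      structure_of_fpf_nilpotent _ E hF1 hfpf hEnil⟩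

end Cfsg.Agent.H2.CNSolv
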