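import Mathlib
import Cfsg.Prelude.Def_Transfer
import Cfsg.Agent.H2.Equivariant
import Cfsg.Agent.S0022
import Cfsg.Agent.S0023

/-!
Generation by centralizers of hyperplanes under coprime action of a noncyclic elementary abelian
group (helper2).
-/

set_option autoImplicit false

namespace Cfsg.Agent.H2.HyperGen

open scoped BigOperators commutatorElement

section Abstract

variable {p : ℕ} [Fact p.Prime] {V : Type*} [CommGroup V]

/-- rank two lemma: a group `Z_p × Z_p` cannot act fixed-point-freely on a nontrivial abelian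
`p'`-group -/
theorem rank_two (L : ZMod p × ZMod p → Monoid.End V) (hL : ∀ u v, L (u + v) = L u * L v)
    (hL0 : L 0 = 1)
    (W : Subgroup V) (hW : ∀ u, ∀ w ∈ W, L u w ∈ W) (hp : ¬ p ∣ Nat.card V)
    (hfpf : ∀ u, u ≠ 0 → ∀ w ∈ W, L u w = w → w = 1) : ∀ w ∈ W, w = 1 := by
  classical
  intro w hw
  -- the norm along `u`
  have hN : ∀ u, u ≠ 0 → ∏ m : ZMod p, L (m • u) w = 1 := by
    intro u hu
    apply hfpf u hu
    · exact Subgroup.prod_mem _ (fun m _ => hW _ w hw)
    · rw [map_prod]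
      have : ∀ m : ZMod p, L u (L (m • u) w) = L ((m + 1) • u) w := by
        intro m
        rw [add_smul, one_smul, add_comm, hL]
        rfl
      simp_rw [this]
      exact Fintype.prod_equiv (Equiv.addRight (1 : ZMod p)) _ _ (fun m => rfl)
  have hT : ∏ v : ZMod p × ZMod p, L v w = 1 := by
    apply hfpf (1, 0) (by simp)
    · exact Subgroup.prod_mem _ (fun m _ => hW _ w hw)
    · rw [map_prod]
      have : ∀ v : ZMod p × ZMod p, L (1, 0) (L v w) = L ((1, 0) + v) w := by
        intro v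
        rw [hL]; rfl
      simp_rw [this]
      exact Fintype.prod_equiv (Equiv.addLeft ((1, 0) : ZMod p × ZMod p)) _ _ (fun m => rfl)
  have hg0 : ∏ k : ZMod p, L (k, 0) w = 1 := by
    have := hN (1, 0) (by simp)
    simpa [Prod.smul_mk] using this
  have hrow : ∏ m : ZMod p, ∏ k : ZMod p, L (k, m) w = 1 := by
    rw [Finset.prod_comm, ← hT, Fintype.prod_prod_type]
  have hcol : ∏ m : ZMod p, ∏ k : ZMod p, L (m * k, m) w = 1 := by
    rw [Finset.prod_comm]
    apply Finset.prod_eq_one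
    intro k _
    have := hN (k, 1) (by simp)
    simpa [Prod.smul_mk] using this
  have h1 : ∀ m : ZMod p, m ≠ 0 → ∏ k : ZMod p, L (m * k, m) w = ∏ k : ZMod p, L (k, m) w := by
    intro m hm
    exact Fintype.prod_equiv (Equiv.mulLeft₀ m hm) _ _ (fun k => rfl)
  rw [← Finset.mul_prod_erase Finset.univ _ (Finset.mem_univ (0 : ZMod p))] at hrow hcol
  rw [hg0, one_mul] at hrow
  have h2 : ∏ m ∈ Finset.univ.erase (0 : ZMod p), ∏ k : ZMod p, L (m * k, m) w = 1 := by
    rw [← hrow]
    apply Finset.prod_congr rfl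
    intro m hm
    exact h1 m (Finset.ne_of_mem_erase hm)
  rw [h2, mul_one] at hcol
  have hwp : w ^ p = 1 := by
    have : ∏ k : ZMod p, L ((0 : ZMod p) * k, 0) w = w ^ p := by
      simp only [zero_mul]
      rw [Finset.prod_const, Finset.card_univ, ZMod.card]
      have : L ((0 : ZMod p), (0 : ZMod p)) = 1 := hL0
      rw [this]; rfl
    rw [← this]; exact hcol
  have h3 : orderOf w ∣ p := orderOf_dvd_of_pow_eq_one hwp
  have h4 : orderOf w ∣ Nat.card V := orderOf_dvd_natCard w
  rcases (Nat.dvd_prime (Fact.out : p.Prime)).1 h3 with h | h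
  · exact orderOf_eq_one_iff.1 h
  · exact absurd (h ▸ h4) hp

variable {A : Type*} [CommGroup A]

/-- the stabilizer of a vector -/
def stab (ψ : A →* Monoid.End V) (v : V) : Subgroup A where
  carrier := {a | ψ a v = v}
  one_mem' := by simp
  mul_mem' := by
    intro a b ha hb
    simp only [Set.mem_ofPred_eq] at *
    rw [map_mul]
    show ψ a (ψ b v) = v
    rw [hb, ha]
  inv_mem' := by
    intro a ha
    simp only [Set.mem_ofPred_eq] at *
    calc ψ a⁻¹ v = ψ a⁻¹ (ψ a v) := by rw [ha]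
      _ = (ψ a⁻¹ * ψ a) v := rfl
      _ = v := by rw [← map_mul, inv_mul_cancel, map_one]; rfl

/-- the fixed points of a subgroup -/
def fix (ψ : A →* Monoid.End V) (B : Subgroup A) : Subgroup V where
  carrier := {v | ∀ b ∈ B, ψ b v = v}
  one_mem' := by intro b _; exact map_one _
  mul_mem' := by
    intro v w hv hw b hb
    rw [map_mul, hv b hb, hw b hb]
  inv_mem' := by
    intro v hv b hb
    rw [map_inv, hv b hb]

theorem fix_invariant (ψ : A →* Monoid.End V) (B : Subgroup A) (a : A) (v : V)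
    (hv : v ∈ fix ψ B) : ψ a v ∈ fix ψ B := by
  intro b hb
  calc ψ b (ψ a v) = (ψ b * ψ a) v := rfl
    _ = (ψ a * ψ b) v := by rw [← map_mul, ← map_mul, mul_comm]
    _ = ψ a (ψ b v) := rfl
    _ = ψ a v := by rw [hv b hb]

theorem pow_val_add (hexp : ∀ a : A, a ^ p = 1) (x : A) (i j : ZMod p) :
    x ^ (i + j).val = x ^ i.val * x ^ j.val := by
  rw [ZMod.val_add, ← pow_add]
  exact (pow_eq_pow_mod _ (hexp x)).symm

theorem eq_pow_of_ne_zero (hexp : ∀ a : A, a ^ p = 1) (x : A) (j : ZMod p) (hj : j ≠ 0) :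
    x = (x ^ j.val) ^ (j⁻¹).val := by
  rw [← pow_mul, pow_eq_pow_mod _ (hexp x), ← ZMod.val_mul, mul_inv_cancel₀ hj, ZMod.val_one,
    pow_one]

/-- an elementary abelian `p`-group acting on a nontrivial abelian `p'`-group: some subgroup of
index at most `p` has a nontrivial fixed point. -/
theorem exists_fixed [Finite A] (hexp : ∀ a : A, a ^ p = 1)
    (ψ : A →* Monoid.End V) [Nontrivial V] (hp : ¬ p ∣ Nat.card V) :
    ∃ B : Subgroup A, B.index ≤ p ∧ ∃ v : V, v ≠ 1 ∧ ∀ b ∈ B, ψ b v = v := by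
  classical
  obtain ⟨v₀, hv₀⟩ := exists_ne (1 : V)
  have h0 : (fun B : Subgroup A => ∃ v : V, v ≠ 1 ∧ B ≤ stab ψ v) ⊥ := ⟨v₀, hv₀, bot_le⟩
  obtain ⟨B, -, hB⟩ := Finite.exists_le_maximal (α := Subgroup A)
    (p := fun B : Subgroup A => ∃ v : V, v ≠ 1 ∧ B ≤ stab ψ v) h0
  obtain ⟨⟨v, hv1, hBv⟩, hmax⟩ := hB
  refine ⟨B, ?_, v, hv1, fun b hb => hBv hb⟩
  by_contra hind
  push Not at hind
  -- find x ∉ B
  have hBtop : B ≠ ⊤ := by
    intro h
    rw [h, Subgroup.index_top] at hind
    exact absurd hind (by have := (Fact.out : p.Prime).one_lt; omega)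
  obtain ⟨x, hx⟩ : ∃ x : A, x ∉ B := by
    by_contra h
    push Not at h
    exact hBtop (eq_top_iff.2 (fun a _ => h a))
  have hB₁ : B ⊔ Subgroup.zpowers x ≠ ⊤ := by
    intro h
    have h1 : B.relIndex (B ⊔ Subgroup.zpowers x) * (B ⊔ Subgroup.zpowers x).index = B.index :=
      Subgroup.relIndex_mul_index le_sup_left
    rw [h, Subgroup.index_top, mul_one, ← h, Subgroup.relIndex_sup_left] at h1
    have h2 : B.relIndex (Subgroup.zpowers x) ∣ Nat.card (Subgroup.zpowers x) :=
      Subgroup.relIndex_dvd_card _ _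
    rw [Nat.card_zpowers] at h2
    have h3 : orderOf x ∣ p := orderOf_dvd_of_pow_eq_one (hexp x)
    have h4 := Nat.le_of_dvd (Fact.out : p.Prime).pos (h2.trans h3)
    omega
  obtain ⟨y, hy⟩ : ∃ y : A, y ∉ B ⊔ Subgroup.zpowers x := by
    by_contra h
    push Not at h
    exact hB₁ (eq_top_iff.2 (fun a _ => h a))
  -- the action of the rank two group
  have hL : ∀ u v : ZMod p × ZMod p,
      ψ (x ^ (u + v).1.val * y ^ (u + v).2.val) =
        ψ (x ^ u.1.val * y ^ u.2.val) * ψ (x ^ v.1.val * y ^ v.2.val) := by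
    intro u v
    rw [← map_mul, Prod.fst_add, Prod.snd_add, pow_val_add hexp, pow_val_add hexp]
    congr 1
    exact mul_mul_mul_comm _ _ _ _
  have hkey := rank_two (p := p) (fun u => ψ (x ^ u.1.val * y ^ u.2.val)) hL (by simp)
    (fix ψ B) (fun u w hw => fix_invariant ψ B _ w hw) hp
  have hvW : v ∈ fix ψ B := fun b hb => hBv hb
  by_cases hfpf : ∀ u : ZMod p × ZMod p, u ≠ 0 → ∀ w ∈ fix ψ B,
      ψ (x ^ u.1.val * y ^ u.2.val) w = w → w = 1
  · exact hv1 (hkey hfpf v hvW)
  · push Not at hfpf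
    obtain ⟨u, hu, w, hw, hfix, hw1⟩ := hfpf
    have hmem : (fun B : Subgroup A => ∃ v : V, v ≠ 1 ∧ B ≤ stab ψ v)
        (B ⊔ Subgroup.zpowers (x ^ u.1.val * y ^ u.2.val)) := by
      refine ⟨w, hw1, sup_le (fun b hb => hw b hb) ?_⟩
      rw [Subgroup.zpowers_le]
      exact hfix
    have hle := hmax hmem le_sup_left
    have hg : x ^ u.1.val * y ^ u.2.val ∈ B :=
      hle (Subgroup.mem_sup_right (Subgroup.mem_zpowers _))
    -- contradiction
    have hxB₁ : ∀ n : ℕ, x ^ n ∈ B ⊔ Subgroup.zpowers x := fun n =>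
      Subgroup.pow_mem _ (Subgroup.mem_sup_right (Subgroup.mem_zpowers _)) n
    have hu2 : u.2 = 0 := by
      by_contra hne
      apply hy
      rw [eq_pow_of_ne_zero hexp y u.2 hne]
      apply Subgroup.pow_mem
      have : y ^ u.2.val = (x ^ u.1.val)⁻¹ * (x ^ u.1.val * y ^ u.2.val) := by group
      rw [this]
      exact Subgroup.mul_mem _ (Subgroup.inv_mem _ (hxB₁ _)) (Subgroup.mem_sup_left hg)
    have hu1 : u.1 = 0 := by
      by_contra hne
      apply hx
      rw [eq_pow_of_ne_zero hexp x u.1 hne]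
      apply Subgroup.pow_mem
      rw [hu2, ZMod.val_zero, pow_zero, mul_one] at hg
      exact hg
    exact hu (Prod.ext hu1 hu2)

/-- abstract version of the fixed point lemma on an abelian quotient -/
theorem quot_fixed_abs {Q : Type*} [Group Q] [Finite Q] (M : Subgroup Q) [M.Normal]
    (hcomm : commutator Q ≤ M) (hM : M ≠ ⊤) (hpQ : ¬ p ∣ Nat.card Q)
    [Finite A] (hexp : ∀ a : A, a ^ p = 1)
    (φ : A →* MulAut Q) (hφ : ∀ a : A, ∀ m ∈ M, φ a m ∈ M) :
    ∃ B : Subgroup A, B.index ≤ p ∧ ∃ k : Q, k ∉ M ∧ ∀ b ∈ B, k⁻¹ * φ b k ∈ M := by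
  classical
  let _ : CommGroup (Q ⧸ M) :=
    { (inferInstance : Group (Q ⧸ M)) with
      mul_comm := by
        intro a b
        induction a using QuotientGroup.induction_on with | _ a => ?_
        induction b using QuotientGroup.induction_on with | _ b => ?_
        rw [← QuotientGroup.mk_mul, ← QuotientGroup.mk_mul, QuotientGroup.eq]
        apply hcomm
        have : (a * b)⁻¹ * (b * a) = ⁅b⁻¹, a⁻¹⁆ := by
          rw [commutatorElement_def]; group
        rw [this, commutator_def]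
        exact Subgroup.commutator_mem_commutator (Subgroup.mem_top _) (Subgroup.mem_top _) }
  have : Nontrivial (Q ⧸ M) := QuotientGroup.nontrivial_iff.2 hM
  have hpV : ¬ p ∣ Nat.card (Q ⧸ M) := by
    intro h
    exact hpQ (h.trans (Subgroup.card_quotient_dvd_card M))
  -- the action
  let ψ : A →* Monoid.End (Q ⧸ M) :=
    { toFun := fun a => QuotientGroup.map M M (φ a).toMonoidHom (fun m hm => hφ a m hm)
      map_one' := by
        ext x
        induction x using QuotientGroup.induction_on with | _ x => ?_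
        show ((φ 1 x : Q) : Q ⧸ M) = x
        rw [map_one]; rfl
      map_mul' := by
        intro a b
        ext x
        induction x using QuotientGroup.induction_on with | _ x => ?_
        show ((φ (a * b) x : Q) : Q ⧸ M) = ((φ a (φ b x) : Q) : Q ⧸ M)
        rw [map_mul]; rfl }
  obtain ⟨B, hB, v, hv, hfix⟩ := exists_fixed (p := p) hexp ψ hpV
  refine ⟨B, hB, ?_⟩
  induction v using QuotientGroup.induction_on with | _ k => ?_
  refine ⟨k, ?_, ?_⟩
  · intro hk
    exact hv ((QuotientGroup.eq_one_iff k).2 hk)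
  · intro b hb
    have := hfix b hb
    have h2 : ψ b (k : Q ⧸ M) = ((φ b k : Q) : Q ⧸ M) := rfl
    rw [h2] at this
    exact QuotientGroup.eq.1 this.symm

end Abstract


section Concrete

variable {p : ℕ} [Fact p.Prime] {H : Type*} [Group H]

open scoped IsMulCommutative in
/-- the fixed point lemma on an abelian quotient `Q / M`, inside a group -/
theorem quot_fixed [Finite H] (A Q M : Subgroup H) (hA : Cfsg.IsElementaryAbelian p A)
    (hMQ : M ≤ Q) (hMn : Q ≤ Subgroup.normalizer (M : Set H)) (hcomm : ⁅Q, Q⁆ ≤ M)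
    (hAQ : A ≤ Subgroup.normalizer (Q : Set H)) (hAM : A ≤ Subgroup.normalizer (M : Set H))
    (hpQ : ¬ p ∣ Nat.card Q) (hne : M ≠ Q) :
    ∃ B : Subgroup H, B ≤ A ∧ B.relIndex A ≤ p ∧
      ∃ k ∈ Q, k ∉ M ∧ ∀ b ∈ B, b * k * b⁻¹ * k⁻¹ ∈ M := by
  classical
  have : IsMulCommutative ↥A := hA.1
  have : (M.subgroupOf Q).Normal := (Subgroup.normal_subgroupOf_iff_le_normalizer hMQ).2 hMn
  let φ : ↥A →* MulAut ↥Q :=
    { toFun := fun a => Cfsg.Agent.H2.conjNormalizerEquiv Q a (hAQ a.2)
      map_one' := by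
        ext x
        rw [Cfsg.Agent.H2.conjNormalizerEquiv_apply]
        simp
      map_mul' := by
        intro a b
        ext x
        rw [Cfsg.Agent.H2.conjNormalizerEquiv_apply]
        show (a : H) * b * x * ((a : H) * b)⁻¹ = a * (b * x * (b : H)⁻¹) * (a : H)⁻¹
        group }
  have hφ : ∀ a : ↥A, ∀ m ∈ M.subgroupOf Q, φ a m ∈ M.subgroupOf Q := by
    intro a m hm
    rw [Subgroup.mem_subgroupOf] at hm ⊢
    exact (Subgroup.mem_normalizer_iff.1 (hAM a.2) _).1 hm
  have hcomm' : commutator ↥Q ≤ M.subgroupOf Q := by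
    rw [Subgroup.subgroupOf, ← Subgroup.map_le_iff_le_comap, commutator_def,
      Subgroup.map_commutator, ← MonoidHom.range_eq_map, Subgroup.range_subtype]
    exact hcomm
  have hne' : M.subgroupOf Q ≠ ⊤ := by
    intro h
    rw [Subgroup.subgroupOf_eq_top] at h
    exact hne (le_antisymm hMQ h)
  have hexp : ∀ a : ↥A, a ^ p = 1 := fun a => Subtype.ext (by simpa using hA.2 a a.2)
  obtain ⟨B, hB, k, hk, hfix⟩ := quot_fixed_abs (p := p) (M.subgroupOf Q) hcomm' hne' hpQ hexp φ hφ
  refine ⟨B.map A.subtype, Subgroup.map_subtype_le B, ?_, k, k.2, ?_, ?_⟩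
  · rw [Subgroup.relIndex, Subgroup.subgroupOf,
      Subgroup.comap_map_eq_self_of_injective (Subgroup.subtype_injective A)]
    exact hB
  · simpa [Subgroup.mem_subgroupOf] using hk
  · rintro _ ⟨b, hb, rfl⟩
    have h1 := hfix b hb
    rw [Subgroup.mem_subgroupOf] at h1
    have h2 : ((k⁻¹ * φ b k : ↥Q) : H) = (k : H)⁻¹ * ((b : H) * k * (b : H)⁻¹) := rfl
    rw [h2] at h1
    have h3 := (Subgroup.mem_normalizer_iff.1 (hMn k.2) _).1 h1
    have e : (k : H) * ((k : H)⁻¹ * ((b : H) * k * (b : H)⁻¹)) * (k : H)⁻¹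
        = A.subtype b * k * (A.subtype b)⁻¹ * (k : H)⁻¹ := by
      rw [Subgroup.subtype_apply]; group
    rw [e] at h3
    exact h3

/-- the subgroup generated by the fixed points in `Y` of the subgroups of index at most `p` of
`A` -/
def hyperGen (p : ℕ) (A Y : Subgroup H) : Subgroup H :=
  ⨆ B : {B : Subgroup H // B ≤ A ∧ B.relIndex A ≤ p},
    Y ⊓ Subgroup.centralizer ((B : Subgroup H) : Set H)

theorem hyperGen_le (p : ℕ) (A Y : Subgroup H) : hyperGen p A Y ≤ Y :=
  iSup_le (fun _ => inf_le_left)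

theorem hyperGen_mono (p : ℕ) (A : Subgroup H) {Y₁ Y₂ : Subgroup H} (h : Y₁ ≤ Y₂) :
    hyperGen p A Y₁ ≤ hyperGen p A Y₂ :=
  iSup_mono (fun _ => inf_le_inf_right _ h)

theorem le_hyperGen (p : ℕ) (A Y : Subgroup H) {B : Subgroup H} (hBA : B ≤ A)
    (hind : B.relIndex A ≤ p) : Y ⊓ Subgroup.centralizer (B : Set H) ≤ hyperGen p A Y :=
  le_iSup (fun B : {B : Subgroup H // B ≤ A ∧ B.relIndex A ≤ p} =>
    Y ⊓ Subgroup.centralizer ((B : Subgroup H) : Set H)) ⟨B, hBA, hind⟩

theorem le_normalizer_iSup {ι : Sort*} (A : Subgroup H) (S : ι → Subgroup H)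
    (h : ∀ i, A ≤ Subgroup.normalizer ((S i : Subgroup H) : Set H)) :
    A ≤ Subgroup.normalizer ((⨆ i, S i : Subgroup H) : Set H) := by
  have key : ∀ a ∈ A, ∀ x ∈ ⨆ i, S i, a * x * a⁻¹ ∈ ⨆ i, S i := by
    intro a ha x hx
    have hle : (⨆ i, S i) ≤ (⨆ i, S i).comap (MulAut.conj a).toMonoidHom := by
      apply iSup_le
      intro i y hy
      rw [Subgroup.mem_comap]
      show a * y * a⁻¹ ∈ ⨆ i, S i
      exact (le_iSup S i) ((Subgroup.mem_normalizer_iff.1 (h i ha) y).1 hy)
    exact hle hx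
  intro a ha
  rw [Subgroup.mem_normalizer_iff]
  intro x
  constructor
  · exact key a ha x
  · intro hx
    have := key a⁻¹ (A.inv_mem ha) _ hx
    have e : a⁻¹ * (a * x * a⁻¹) * a⁻¹⁻¹ = x := by group
    rwa [e] at this

theorem le_normalizer_inf (A Y C : Subgroup H) (hY : A ≤ Subgroup.normalizer (Y : Set H))
    (hC : A ≤ Subgroup.normalizer (C : Set H)) :
    A ≤ Subgroup.normalizer ((Y ⊓ C : Subgroup H) : Set H) := by
  intro a ha
  rw [Subgroup.mem_normalizer_iff]
  intro x
  rw [Subgroup.mem_inf, Subgroup.mem_inf, ← Subgroup.mem_normalizer_iff.1 (hY ha) x,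
    ← Subgroup.mem_normalizer_iff.1 (hC ha) x]

theorem le_normalizer_hyperGen (A Y : Subgroup H) (hA : Cfsg.IsElementaryAbelian p A)
    (hAY : A ≤ Subgroup.normalizer (Y : Set H)) :
    A ≤ Subgroup.normalizer ((hyperGen p A Y : Subgroup H) : Set H) := by
  apply le_normalizer_iSup
  intro B
  apply le_normalizer_inf _ _ _ hAY
  refine le_trans ?_ Subgroup.le_normalizer
  intro a ha
  rw [Subgroup.mem_centralizer_iff]
  intro b hb
  have := isMulCommutative_iff.1 hA.1 ⟨b, B.2.1 hb⟩ ⟨a, ha⟩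
  exact congrArg Subtype.val this

theorem coprime_card_of_le (A B Y : Subgroup H) [Finite H] (hA : Cfsg.IsElementaryAbelian p A)
    (hBA : B ≤ A) (hpY : ¬ p ∣ Nat.card Y) : (Nat.card B).Coprime (Nat.card Y) := by
  have hpg : IsPGroup p ↥A := by
    intro a
    refine ⟨1, ?_⟩
    rw [pow_one]
    exact Subtype.ext (by simpa using hA.2 a a.2)
  obtain ⟨n, hn⟩ := IsPGroup.exists_card_eq hpg
  have h1 : Nat.card B ∣ p ^ n := hn ▸ Subgroup.card_dvd_of_le hBA
  have h2 : (p ^ n).Coprime (Nat.card Y) :=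
    Nat.Coprime.pow_left n ((Nat.Prime.coprime_iff_not_dvd (Fact.out : p.Prime)).2 hpY)
  exact Nat.Coprime.coprime_dvd_left h1 h2

theorem isSolvable_of_le (A B : Subgroup H) (hA : Cfsg.IsElementaryAbelian p A) (hBA : B ≤ A) :
    Group.IsSolvable ↥B := by
  apply Group.isSolvable_of_comm
  intro a b
  have := isMulCommutative_iff.1 hA.1 ⟨a, hBA a.2⟩ ⟨b, hBA b.2⟩
  apply Subtype.ext
  show (a : H) * b = b * a
  exact congrArg Subtype.val this

/-- the main induction -/
theorem le_hyperGen_of_invariant [Finite H] (A : Subgroup H) (hA : Cfsg.IsElementaryAbelian p A) :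
    ∀ n : ℕ, ∀ Y : Subgroup H, Nat.card Y = n → ¬ p ∣ Nat.card Y →
      A ≤ Subgroup.normalizer (Y : Set H) → Y ≤ hyperGen p A Y := by
  intro n
  induction n using Nat.strong_induction_on with | _ n ih => ?_
  intro Y hn hpY hAY
  have IH : ∀ Z : Subgroup H, Z < Y → A ≤ Subgroup.normalizer (Z : Set H) →
      Z ≤ hyperGen p A Y := by
    intro Z hZ hAZ
    have hcard : Nat.card Z < n := by
      rw [← hn]
      exact Set.ncard_lt_ncard (SetLike.coe_ssubset_coe.mpr hZ) (Set.toFinite _)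
    have hpZ : ¬ p ∣ Nat.card Z := fun h => hpY (h.trans (Subgroup.card_dvd_of_le hZ.le))
    exact (ih _ hcard Z rfl hpZ hAZ).trans (hyperGen_mono p A hZ.le)
  -- the case of a `q`-group
  have step2 : ∀ q : ℕ, q.Prime → IsPGroup q ↥Y → Y ≤ hyperGen p A Y := by
    intro q hq hYq
    by_cases hbot : Y = ⊥
    · rw [hbot]; exact bot_le
    have hN_lt : ⁅Y, Y⁆ < Y := by
      have := Fact.mk hq
      have hnil : Group.IsNilpotent ↥Y := hYq.isNilpotent
      have hsolv : Group.IsSolvable ↥Y := inferInstance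
      have : Nontrivial ↥Y := (Subgroup.nontrivial_iff_ne_bot Y).2 hbot
      have hlt := Group.IsSolvable.commutator_lt_top_of_nontrivial ↥Y
      refine lt_of_le_of_ne (Subgroup.commutator_le_self Y) ?_
      intro heq
      apply hlt.ne
      apply Subgroup.map_injective (Subgroup.subtype_injective Y)
      rw [commutator_def, Subgroup.map_commutator, ← MonoidHom.range_eq_map,
        Subgroup.range_subtype]
      exact heq
    have hAN : A ≤ Subgroup.normalizer ((⁅Y, Y⁆ : Subgroup H) : Set H) :=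
      hAY.trans (Cfsg.Agent.H2.normalizer_le_normalizer_commutator Y)
    have hNM : ⁅Y, Y⁆ ≤ hyperGen p A Y := IH _ hN_lt hAN
    by_contra hcon
    have hne : hyperGen p A Y ≠ Y := fun h => hcon h.ge
    have hMY := hyperGen_le p A Y
    have hAM := le_normalizer_hyperGen A Y hA hAY
    have hMn : Y ≤ Subgroup.normalizer ((hyperGen p A Y : Subgroup H) : Set H) := by
      have key : ∀ k ∈ Y, ∀ m ∈ hyperGen p A Y, k * m * k⁻¹ ∈ hyperGen p A Y := by
        intro k hk m hm
        have e : k * m * k⁻¹ = ⁅k, m⁆ * m := by rw [commutatorElement_def]; group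
        rw [e]
        exact Subgroup.mul_mem _ (hNM (Subgroup.commutator_mem_commutator hk (hMY hm))) hm
      intro k hk
      rw [Subgroup.mem_normalizer_iff]
      intro x
      constructor
      · exact key k hk x
      · intro hx
        have := key k⁻¹ (Y.inv_mem hk) _ hx
        have e : k⁻¹ * (k * x * k⁻¹) * k⁻¹⁻¹ = x := by group
        rwa [e] at this
    obtain ⟨B, hBA, hBind, k, hkY, hkM, hfix⟩ :=
      quot_fixed A Y (hyperGen p A Y) hA hMY hMn hNM hAY hAM hpY hne
    have hsolvB : Group.IsSolvable ↥B := isSolvable_of_le A B hA hBA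
    obtain ⟨c, hc, hkc⟩ := Cfsg.Agent.S0022.result B Y (hBA.trans hAY)
      (coprime_card_of_le A B Y hA hBA hpY) (Or.inl hsolvB) (hyperGen p A Y) hMY hMn
      (hBA.trans hAM) k hkY hfix
    have hcM : c ∈ hyperGen p A Y := le_hyperGen p A Y hBA hBind hc
    apply hkM
    have e : k = c * (k⁻¹ * c)⁻¹ := by group
    rw [e]
    exact Subgroup.mul_mem _ hcM (Subgroup.inv_mem _ hkc)
  -- every prime has an `A`-invariant Sylow subgroup inside `hyperGen`
  have hsolvA : Group.IsSolvable ↥A := isSolvable_of_le A A hA le_rfl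
  have hsyl : ∀ q : ℕ, ∀ hq : Fact q.Prime, ∃ P : Sylow q ↥Y,
      (P : Subgroup ↥Y).map Y.subtype ≤ hyperGen p A Y := by
    intro q hq
    obtain ⟨P, hP⟩ := Cfsg.Agent.S0023.result A Y hAY (coprime_card_of_le A A Y hA le_rfl hpY)
      (Or.inl hsolvA) q
    refine ⟨P, ?_⟩
    by_cases h : (P : Subgroup ↥Y).map Y.subtype = Y
    · have htop : (P : Subgroup ↥Y) = ⊤ := by
        apply Subgroup.map_injective (Subgroup.subtype_injective Y)
        rw [h, ← MonoidHom.range_eq_map, Subgroup.range_subtype]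
      have hYq : IsPGroup q ↥Y := by
        have h1 := P.isPGroup'
        rw [htop] at h1
        exact h1.of_equiv Subgroup.topEquiv
      rw [h]
      exact step2 q hq.out hYq
    · exact IH _ (lt_of_le_of_ne (Subgroup.map_subtype_le _) h) hP
  have hdvd : Nat.card Y ∣ Nat.card (hyperGen p A Y) := by
    rw [← Nat.factorization_prime_le_iff_dvd Nat.card_pos.ne' Nat.card_pos.ne']
    intro q hq
    obtain ⟨P, hP⟩ := hsyl q ⟨hq⟩
    have := Fact.mk hq
    have h1 : Nat.card ((P : Subgroup ↥Y).map Y.subtype) = q ^ (Nat.card Y).factorization q := by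
      rw [← P.card_eq_multiplicity]
      exact (Nat.card_congr ((P : Subgroup ↥Y).equivMapOfInjective Y.subtype
        (Subgroup.subtype_injective Y)).toEquiv).symm
    have h2 : q ^ (Nat.card Y).factorization q ∣ Nat.card (hyperGen p A Y) :=
      h1 ▸ Subgroup.card_dvd_of_le hP
    exact (hq.pow_dvd_iff_le_factorization Nat.card_pos.ne').1 h2
  exact (Subgroup.eq_of_le_of_card_ge (hyperGen_le p A Y)
    (Nat.le_of_dvd Nat.card_pos hdvd)).ge

/-- generation by the centralizers of the subgroups of index at most `p` -/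
theorem eq_hyperGen [Finite H] (A X : Subgroup H) (hA : Cfsg.IsElementaryAbelian p A)
    (hX : ¬ p ∣ Nat.card ↥X) (hAX : A ≤ Subgroup.normalizer (X : Set H)) :
    X = hyperGen p A X :=
  le_antisymm (le_hyperGen_of_invariant A hA _ X rfl hX hAX) (hyperGen_le p A X)

end Concrete

end Cfsg.Agent.H2.HyperGen
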