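import Mathlib
import Cfsg.Prelude.Def_Solvable
import Cfsg.Agent.H2.ConjMap

/-!
Internal Frobenius groups: a normal subgroup `N` with a complement `H` acting fixed-point-freely
(helper2).
-/

set_option autoImplicit false

namespace Cfsg.Agent.H2.FrobInt

variable {K : Type*} [Group K]

/-- if `H` acts fixed-point-freely on the normal complement `N`, then `H` is a Frobenius complement
with Frobenius kernel `N` -/
theorem frobenius_of_fpf [Finite K] (N H : Subgroup K) [hNn : N.Normal]
    (hsup : N ⊔ H = ⊤) (hinf : N ⊓ H = ⊥) (hH : H ≠ ⊥) (hN : N ≠ ⊥)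
    (hfpf : ∀ h ∈ H, h ≠ 1 → ∀ n ∈ N, h * n = n * h → n = 1) :
    Cfsg.IsFrobeniusComplement H ∧ Cfsg.frobeniusKernel H = (N : Set K) := by
  classical
  have hdecomp : ∀ g : K, ∃ n ∈ N, ∃ h ∈ H, n * h = g := by
    intro g
    have : g ∈ N ⊔ H := by rw [hsup]; exact Subgroup.mem_top g
    exact Subgroup.mem_sup_of_normal_left.1 this
  have hNH : ∀ x, x ∈ N → x ∈ H → x = 1 := by
    intro x h1 h2
    have : x ∈ N ⊓ H := Subgroup.mem_inf.2 ⟨h1, h2⟩
    rw [hinf] at this
    exact Subgroup.mem_bot.1 this
  -- conjugating an element of `H` by a nontrivial element of `N` leaves `H`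
  have hkey : ∀ n ∈ N, ∀ x ∈ H, n⁻¹ * x * n ∈ H → x ≠ 1 → n = 1 := by
    intro n hn x hx hy hx1
    have h1 : x⁻¹ * (n⁻¹ * x * n) ∈ N := by
      have e : x⁻¹ * (n⁻¹ * x * n) = (x⁻¹ * n⁻¹ * x⁻¹⁻¹) * n := by group
      rw [e]
      exact N.mul_mem (hNn.conj_mem _ (N.inv_mem hn) _) hn
    have h2 : x⁻¹ * (n⁻¹ * x * n) ∈ H := H.mul_mem (H.inv_mem hx) hy
    have h3 := hNH _ h1 h2
    apply hfpf x hx hx1 n hn
    have : n⁻¹ * x * n = x := by
      have := congrArg (fun z => x * z) h3
      simpa using this
    calc x * n = n * (n⁻¹ * x * n) := by group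
      _ = n * x := by rw [this]
  constructor
  · refine ⟨hH, ?_, ?_⟩
    · intro htop
      apply hN
      rw [← hinf, htop, inf_top_eq]
    · intro g hg
      obtain ⟨n, hn, h, hh, rfl⟩ := hdecomp g
      have hn1 : n ≠ 1 := by
        intro h1
        apply hg
        rw [h1, one_mul]; exact hh
      rw [eq_bot_iff]
      intro x hx
      rw [Subgroup.mem_bot]
      obtain ⟨hxH, hxc⟩ := Subgroup.mem_inf.1 hx
      rw [mem_conj_smul_iff] at hxc
      by_contra hx1
      apply hn1
      apply hkey n hn x hxH ?_ hx1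
      have e : n⁻¹ * x * n = h * ((n * h)⁻¹ * x * (n * h)) * h⁻¹ := by group
      rw [e]
      exact H.mul_mem (H.mul_mem hh hxc) (H.inv_mem hh)
  · ext x
    unfold Cfsg.frobeniusKernel
    simp only [Set.mem_ofPred_eq, SetLike.mem_coe]
    constructor
    · rintro (rfl | hx)
      · exact N.one_mem
      · obtain ⟨n, hn, h, hh, rfl⟩ := hdecomp x
        by_cases h1 : h = 1
        · rw [h1, mul_one]; exact hn
        exfalso
        -- the map `m ↦ m⁻¹ * h * m * h⁻¹` is a bijection of `N`
        let f : N → N := fun m => ⟨(m : K)⁻¹ * (h * m * h⁻¹), N.mul_mem (N.inv_mem m.2)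
          (hNn.conj_mem _ m.2 _)⟩
        have hf : Function.Injective f := by
          intro m m' hmm
          have h2 : (m : K)⁻¹ * (h * m * h⁻¹) = (m' : K)⁻¹ * (h * m' * h⁻¹) :=
            congrArg Subtype.val hmm
          have h3 : h * ((m' : K) * (m : K)⁻¹) = ((m' : K) * (m : K)⁻¹) * h := by
            have e1 : h * ((m' : K) * (m : K)⁻¹) =
                (m' : K) * ((m' : K)⁻¹ * (h * m' * h⁻¹)) * h * (m : K)⁻¹ := by group
            have e2 : ((m' : K) * (m : K)⁻¹) * h =
                (m' : K) * ((m : K)⁻¹ * (h * m * h⁻¹)) * h * (m : K)⁻¹ := by group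
            rw [e1, e2, h2]
          have h4 := hfpf h hh h1 _ (N.mul_mem m'.2 (N.inv_mem m.2)) h3
          apply Subtype.ext
          have : (m' : K) = m := by
            have := congrArg (fun z => z * (m : K)) h4
            simpa using this
          exact this.symm
        obtain ⟨m, hm⟩ := (Finite.injective_iff_surjective.1 hf) ⟨n, hn⟩
        have hm' : (m : K)⁻¹ * (h * m * h⁻¹) = n := congrArg Subtype.val hm
        apply hx (m : K)⁻¹
        rw [mem_conj_smul_iff]
        have e : (m : K)⁻¹⁻¹ * (n * h) * (m : K)⁻¹ = h := by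
          rw [← hm']; group
        rw [e]
        exact hh
    · intro hx
      by_cases h1 : x = 1
      · exact Or.inl h1
      · right
        intro g hg
        rw [mem_conj_smul_iff] at hg
        apply h1
        have h2 : g⁻¹ * x * g ∈ N := by
          have := hNn.conj_mem x hx g⁻¹
          rwa [inv_inv] at this
        have h3 := hNH _ h2 hg
        have : x = g * (g⁻¹ * x * g) * g⁻¹ := by group
        rw [this, h3]
        group

end Cfsg.Agent.H2.FrobInt
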