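import Mathlib
import Cfsg.Prelude.Def_Balance
import Cfsg.Agent.S0126
import Cfsg.Agent.H1.NormalFourGroup
import Cfsg.Agent.H1.CentralizerIndexBound
import Cfsg.Agent.H1.CoprimeAction

/-!
The rank-2 commuting graph of a `p`-group of rank at least `3` (helper2).
-/

set_option autoImplicit false

namespace Cfsg.Agent.H2.RankTwoGraph

variable {P : Type*} [Group P]

/-- the join of two elementwise commuting elementary abelian subgroups is elementary abelian -/
theorem isElementaryAbelian_sup {p : ℕ} {A B : Subgroup P} (hA : Cfsg.IsElementaryAbelian p A)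
    (hB : Cfsg.IsElementaryAbelian p B) (hAB : ∀ a ∈ A, ∀ b ∈ B, a * b = b * a) :
    Cfsg.IsElementaryAbelian p (A ⊔ B) := by
  have hAA : A ≤ Subgroup.centralizer (A : Set P) := by
    intro a ha
    rw [Subgroup.mem_centralizer_iff]
    intro b hb
    exact congrArg Subtype.val (isMulCommutative_iff.1 hA.1 ⟨b, hb⟩ ⟨a, ha⟩)
  have hBB : B ≤ Subgroup.centralizer (B : Set P) := by
    intro a ha
    rw [Subgroup.mem_centralizer_iff]
    intro b hb
    exact congrArg Subtype.val (isMulCommutative_iff.1 hB.1 ⟨b, hb⟩ ⟨a, ha⟩)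
  have hBA : B ≤ Subgroup.centralizer (A : Set P) := by
    intro b hb
    rw [Subgroup.mem_centralizer_iff]
    intro a ha
    exact hAB a ha b hb
  have hAB' : A ≤ Subgroup.centralizer (B : Set P) := by
    intro a ha
    rw [Subgroup.mem_centralizer_iff]
    intro b hb
    exact (hAB a ha b hb).symm
  have hcomm : A ⊔ B ≤ Subgroup.centralizer ((A ⊔ B : Subgroup P) : Set P) := by
    apply sup_le
    · rw [Subgroup.le_centralizer_iff]
      exact sup_le hAA hBA
    · rw [Subgroup.le_centralizer_iff]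
      exact sup_le hAB' hBB
  refine ⟨⟨⟨fun x y => ?_⟩⟩, ?_⟩
  · apply Subtype.ext
    show (x : P) * (y : P) = (y : P) * (x : P)
    exact (Subgroup.mem_centralizer_iff.1 (hcomm x.2) y y.2).symm
  · intro g hg
    have hBN : B ≤ Subgroup.normalizer (A : Set P) :=
      hBA.trans (Subgroup.centralizer_le_normalizer _)
    obtain ⟨a, ha, b, hb, rfl⟩ := (Cfsg.Agent.H1.mem_sup_of_le_normalizer A B hBN).1 hg
    have hc : Commute a b := hAB a ha b hb
    rw [hc.mul_pow, hA.2 a ha, hB.2 b hb, one_mul]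

theorem isElementaryAbelian_of_le {p : ℕ} {A B : Subgroup P} (hA : Cfsg.IsElementaryAbelian p A)
    (hBA : B ≤ A) : Cfsg.IsElementaryAbelian p B := by
  refine ⟨⟨⟨fun a b => ?_⟩⟩, fun b hb => hA.2 b (hBA hb)⟩
  have := isMulCommutative_iff.1 hA.1 ⟨a, hBA a.2⟩ ⟨b, hBA b.2⟩
  apply Subtype.ext
  show (a : P) * (b : P) = (b : P) * (a : P)
  exact congrArg Subtype.val this

theorem comm_of_isElementaryAbelian {p : ℕ} {A : Subgroup P} (hA : Cfsg.IsElementaryAbelian p A)
    {a b : P} (ha : a ∈ A) (hb : b ∈ A) : a * b = b * a :=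
  congrArg Subtype.val (isMulCommutative_iff.1 hA.1 ⟨a, ha⟩ ⟨b, hb⟩)

/-- an elementary abelian subgroup `W` of `C(X)` of order `> p^2` shows that `C(X)` has rank `> 2` -/
theorem not_pRankLE_of_le {p : ℕ} {W C : Subgroup P} (hW : Cfsg.IsElementaryAbelian p W)
    (hWC : W ≤ C) (hcard : p ^ 2 < Nat.card ↥W) : ¬ Cfsg.PRankLE p 2 ↥C := by
  intro h
  have h1 := h (W.subgroupOf C) ?_ ?_
  · rw [Nat.card_congr (Subgroup.subgroupOfEquivOfLe hWC).toEquiv] at h1
    omega
  · refine ⟨⟨fun a b => ?_⟩⟩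
    apply Subtype.ext
    apply Subtype.ext
    show ((a : ↥C) : P) * ((b : ↥C) : P) = ((b : ↥C) : P) * ((a : ↥C) : P)
    exact comm_of_isElementaryAbelian hW (Subgroup.mem_subgroupOf.1 a.2)
      (Subgroup.mem_subgroupOf.1 b.2)
  · intro a ha
    apply Subtype.ext
    show ((a : P)) ^ p = 1
    exact hW.2 _ (Subgroup.mem_subgroupOf.1 ha)

/-- conversely -/
theorem exists_of_not_pRankLE {p : ℕ} {C : Subgroup P} (h : ¬ Cfsg.PRankLE p 2 ↥C) :
    ∃ W : Subgroup P, Cfsg.IsElementaryAbelian p W ∧ W ≤ C ∧ p ^ 2 < Nat.card ↥W := by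
  unfold Cfsg.PRankLE at h
  push Not at h
  obtain ⟨E, hEc, hEp, hEcard⟩ := h
  refine ⟨E.map C.subtype, ⟨⟨⟨fun a b => ?_⟩⟩, ?_⟩, Subgroup.map_subtype_le _, ?_⟩
  · obtain ⟨a, ha⟩ := a
    obtain ⟨b, hb⟩ := b
    obtain ⟨a', ha', rfl⟩ := ha
    obtain ⟨b', hb', rfl⟩ := hb
    apply Subtype.ext
    show C.subtype a' * C.subtype b' = C.subtype b' * C.subtype a'
    rw [← map_mul, ← map_mul]
    congr 1
    exact congrArg Subtype.val (isMulCommutative_iff.1 hEc ⟨a', ha'⟩ ⟨b', hb'⟩)
  · rintro _ ⟨a, ha, rfl⟩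
    rw [← map_pow, hEp a ha, map_one]
  · rw [Subgroup.card_map_of_injective C.subtype_injective]
    exact hEcard

/-- in a `p`-group, an order `> p^2` is at least `p^3` -/
theorem pow_three_le_card [Finite P] {p : ℕ} [hp : Fact p.Prime] (hP : IsPGroup p P)
    {W : Subgroup P} (hcard : p ^ 2 < Nat.card ↥W) : p ^ 3 ≤ Nat.card ↥W := by
  obtain ⟨k, hk⟩ := (hP.to_subgroup W).exists_card_eq
  rw [hk] at hcard ⊢
  have h1 : 2 < k := (Nat.pow_lt_pow_iff_right hp.out.one_lt).1 hcard
  exact Nat.pow_le_pow_right hp.out.pos h1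

/-- a `p`-group of rank at least `3` has a normal elementary abelian subgroup of order `p^2` -/
theorem exists_normal_rank_two [Finite P] {p : ℕ} [hp : Fact p.Prime] (hP : IsPGroup p P)
    (hrk : ¬ Cfsg.PRankLE p 2 P) :
    ∃ U : Subgroup P, U.Normal ∧ Cfsg.IsElementaryAbelian p U ∧ Nat.card ↥U = p ^ 2 := by
  unfold Cfsg.PRankLE at hrk
  push Not at hrk
  obtain ⟨E₀, hE₀c, hE₀p, hE₀card⟩ := hrk
  by_cases hp2 : p = 2
  · subst hp2
    have hE₀el : Cfsg.IsElementaryAbelian 2 E₀ := ⟨hE₀c, hE₀p⟩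
    have h8 : 2 ^ 3 ≤ Nat.card ↥E₀ := pow_three_le_card hP hE₀card
    obtain ⟨k, hk⟩ := (hP.to_subgroup E₀).exists_card_eq
    have hdvd : 2 ^ 3 ∣ Nat.card ↥E₀ := by
      rw [hk] at h8 ⊢
      exact pow_dvd_pow 2 ((Nat.pow_le_pow_iff_right (by norm_num)).1 h8)
    obtain ⟨K, hK⟩ := Sylow.exists_subgroup_card_pow_prime 2 hdvd
    obtain ⟨U, hUn, hU4, hU2⟩ := Cfsg.Agent.H1.exists_normal_four_group hP (K.map E₀.subtype)
      (by rw [Subgroup.card_map_of_injective E₀.subtype_injective, hK]; norm_num)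
      (by
        rintro _ ⟨e, -, rfl⟩
        rw [← map_pow]
        exact hE₀p _ e.2)
    refine ⟨U, hUn, ⟨⟨⟨fun a b => ?_⟩⟩, hU2⟩, by rw [hU4]; norm_num⟩
    apply Subtype.ext
    show (a : P) * (b : P) = (b : P) * (a : P)
    have ha := hU2 a a.2
    have hb := hU2 b b.2
    have hab := hU2 _ (U.mul_mem a.2 b.2)
    rw [pow_two] at ha hb hab
    have hai : (a : P)⁻¹ = a := inv_eq_of_mul_eq_one_right ha
    have hbi : (b : P)⁻¹ = b := inv_eq_of_mul_eq_one_right hb
    have h1 : (a : P) * b = ((a : P) * b)⁻¹ := (inv_eq_of_mul_eq_one_right hab).symm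
    rw [h1, mul_inv_rev, hai, hbi]
  · apply Cfsg.Agent.S0126.result hp2 hP
    intro hcyc
    have hcycE : IsCyclic ↥E₀ := inferInstance
    have h1 : Monoid.exponent ↥E₀ = Nat.card ↥E₀ := IsCyclic.exponent_eq_card
    have h2 : Monoid.exponent ↥E₀ ∣ p := by
      apply Monoid.exponent_dvd_of_forall_pow_eq_one
      intro g
      apply Subtype.ext
      show (g : P) ^ p = 1
      exact hE₀p _ g.2
    rw [h1] at h2
    have h3 : Nat.card ↥E₀ ≤ p := Nat.le_of_dvd hp.out.pos h2
    have h4 : p ≤ p ^ 2 := by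
      calc p = p ^ 1 := (pow_one p).symm
        _ ≤ p ^ 2 := Nat.pow_le_pow_right hp.out.pos (by norm_num)
    omega

/-- the relation of the statement -/
def Rel (p : ℕ) (A B : Subgroup P) : Prop :=
  Cfsg.IsElementaryAbelian p A ∧ p ^ 2 ≤ Nat.card ↥A ∧ Cfsg.IsElementaryAbelian p B ∧
    p ^ 2 ≤ Nat.card ↥B ∧ ∀ a ∈ A, ∀ b ∈ B, a * b = b * a

theorem main [Finite P] (p : ℕ) [hp : Fact p.Prime] (hP : IsPGroup p P)
    (hrk : ¬ Cfsg.PRankLE p 2 P) :
    ∃ U : Subgroup P, U.Normal ∧ Cfsg.IsElementaryAbelian p U ∧ Nat.card ↥U = p ^ 2 ∧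
      ∀ X : Subgroup P, Cfsg.IsElementaryAbelian p X → p ^ 2 ≤ Nat.card ↥X →
        (Relation.ReflTransGen (Rel p) X U ↔
          ¬ Cfsg.PRankLE p 2 ↥(Subgroup.centralizer (X : Set P))) := by
  obtain ⟨U, hUn, hUel, hUcard⟩ := exists_normal_rank_two hP hrk
  refine ⟨U, hUn, hUel, hUcard, ?_⟩
  have hidx : (Subgroup.centralizer (U : Set P)).index ≤ p := by
    have := Cfsg.Agent.H1.index_centralizer_le_of_normal hP 2 U hUn hUcard
    simpa [Finset.sum_range_succ] using this
  -- for an elementary abelian `Y` of order `> p^2`, `Y ∩ C(U)` has order at least `p^2`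
  have hinf : ∀ Y : Subgroup P, p ^ 2 < Nat.card ↥Y →
      p ^ 2 ≤ Nat.card ↥(Subgroup.centralizer (U : Set P) ⊓ Y : Subgroup P) := by
    intro Y hY
    have h3 := pow_three_le_card hP hY
    have h1 := ((Subgroup.centralizer (U : Set P) ⊓ Y).subgroupOf Y).card_mul_index
    rw [Nat.card_congr (Subgroup.subgroupOfEquivOfLe
      (inf_le_right : Subgroup.centralizer (U : Set P) ⊓ Y ≤ Y)).toEquiv] at h1
    have h2 : ((Subgroup.centralizer (U : Set P) ⊓ Y).subgroupOf Y).index ≤ p := by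
      show (Subgroup.centralizer (U : Set P) ⊓ Y).relIndex Y ≤ p
      rw [Subgroup.inf_relIndex_right]
      have h0 : (Subgroup.centralizer (U : Set P)).relIndex ⊤ ≠ 0 := by
        rw [Subgroup.relIndex_top_right]; exact Subgroup.index_ne_zero_of_finite
      have := Subgroup.relIndex_le_of_le_right (H := Subgroup.centralizer (U : Set P))
        (le_top : Y ≤ ⊤) h0
      rw [Subgroup.relIndex_top_right] at this
      exact this.trans hidx
    by_contra hlt
    push Not at hlt
    have h4 : Nat.card ↥(Subgroup.centralizer (U : Set P) ⊓ Y : Subgroup P) *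
        ((Subgroup.centralizer (U : Set P) ⊓ Y).subgroupOf Y).index < p ^ 2 * p := by
      calc _ ≤ Nat.card ↥(Subgroup.centralizer (U : Set P) ⊓ Y : Subgroup P) * p :=
            Nat.mul_le_mul_left _ h2
        _ < p ^ 2 * p := Nat.mul_lt_mul_of_pos_right hlt hp.out.pos
    rw [h1] at h4
    have : p ^ 2 * p = p ^ 3 := by ring
    omega
  -- the base point
  have hbase : ¬ Cfsg.PRankLE p 2 ↥(Subgroup.centralizer (U : Set P)) := by
    have hrk' := hrk
    unfold Cfsg.PRankLE at hrk'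
    push Not at hrk'
    obtain ⟨E₀, hE₀c, hE₀p, hE₀card⟩ := hrk'
    have hE₀el : Cfsg.IsElementaryAbelian p E₀ := ⟨hE₀c, hE₀p⟩
    obtain ⟨W, hWdef⟩ : ∃ W : Subgroup P, W = (Subgroup.centralizer (U : Set P) ⊓ E₀) ⊔ U :=
      ⟨_, rfl⟩
    have hW1 : Cfsg.IsElementaryAbelian p (Subgroup.centralizer (U : Set P) ⊓ E₀) :=
      isElementaryAbelian_of_le hE₀el inf_le_right
    have hWel : Cfsg.IsElementaryAbelian p W := by
      rw [hWdef]
      apply isElementaryAbelian_sup hW1 hUel
      intro a ha b hb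
      exact (Subgroup.mem_centralizer_iff.1 ha.1 b hb).symm
    have hUU : U ≤ Subgroup.centralizer (U : Set P) := by
      intro a ha
      rw [Subgroup.mem_centralizer_iff]
      intro b hb
      exact comm_of_isElementaryAbelian hUel hb ha
    have hWC : W ≤ Subgroup.centralizer (U : Set P) := by
      rw [hWdef]; exact sup_le inf_le_left hUU
    apply not_pRankLE_of_le hWel hWC
    by_contra hle
    push Not at hle
    have hUW : U ≤ W := by rw [hWdef]; exact le_sup_right
    have hWU : W = U := (Subgroup.eq_of_le_of_card_ge hUW (by rw [hUcard]; exact hle)).symm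
    have h1 : Subgroup.centralizer (U : Set P) ⊓ E₀ ≤ U := by
      have h0 : Subgroup.centralizer (U : Set P) ⊓ E₀ ≤ W := by
        rw [hWdef]; exact le_sup_left
      exact h0.trans hWU.le
    have h2 := hinf E₀ hE₀card
    have h3 : Subgroup.centralizer (U : Set P) ⊓ E₀ = U :=
      Subgroup.eq_of_le_of_card_ge h1 (by rw [hUcard]; exact h2)
    have hUE : U ≤ E₀ := by rw [← h3]; exact inf_le_right
    have hEC : E₀ ≤ Subgroup.centralizer (U : Set P) := by
      intro e he
      rw [Subgroup.mem_centralizer_iff]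
      intro u hu
      exact comm_of_isElementaryAbelian hE₀el (hUE hu) he
    have h4 : E₀ = U := by
      rw [← h3]; exact (inf_eq_right.2 hEC).symm
    rw [h4, hUcard] at hE₀card
    exact lt_irrefl _ hE₀card
  intro X hXel hXcard
  have hXX : X ≤ Subgroup.centralizer (X : Set P) := by
    intro a ha
    rw [Subgroup.mem_centralizer_iff]
    intro b hb
    exact comm_of_isElementaryAbelian hXel hb ha
  constructor
  · intro h
    revert hXel hXcard hXX
    refine Relation.ReflTransGen.head_induction_on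
      (motive := fun X _ => Cfsg.IsElementaryAbelian p X → p ^ 2 ≤ Nat.card ↥X →
        X ≤ Subgroup.centralizer (X : Set P) →
        ¬ Cfsg.PRankLE p 2 ↥(Subgroup.centralizer (X : Set P))) h ?_ ?_
    · intro _ _ _
      exact hbase
    · intro X Y hXY _ ih hXel hXcard hXX
      obtain ⟨-, -, hYel, hYcard, hcomm⟩ := hXY
      have hYX : Y ≤ Subgroup.centralizer (X : Set P) := by
        intro b hb
        rw [Subgroup.mem_centralizer_iff]
        intro a ha
        exact hcomm a ha b hb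
      have hWel : Cfsg.IsElementaryAbelian p (X ⊔ Y) := isElementaryAbelian_sup hXel hYel hcomm
      by_cases hbig : p ^ 2 < Nat.card ↥(X ⊔ Y : Subgroup P)
      · exact not_pRankLE_of_le hWel (sup_le hXX hYX) hbig
      · push Not at hbig
        have hX : X = X ⊔ Y := Subgroup.eq_of_le_of_card_ge le_sup_left (hbig.trans hXcard)
        have hY : Y = X ⊔ Y := Subgroup.eq_of_le_of_card_ge le_sup_right (hbig.trans hYcard)
        have hXY' : X = Y := hX.trans hY.symm
        rw [hXY']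
        have hYY : Y ≤ Subgroup.centralizer (Y : Set P) := by
          intro a ha
          rw [Subgroup.mem_centralizer_iff]
          intro b hb
          exact comm_of_isElementaryAbelian hYel hb ha
        exact ih hYel hYcard hYY
  · intro h
    obtain ⟨E, hEel, hEC, hEcard⟩ := exists_of_not_pRankLE h
    have hcomm : ∀ a ∈ X, ∀ b ∈ E, a * b = b * a := by
      intro a ha b hb
      exact Subgroup.mem_centralizer_iff.1 (hEC hb) a ha
    have hYel : Cfsg.IsElementaryAbelian p (X ⊔ E) := isElementaryAbelian_sup hXel hEel hcomm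
    have hYcard : p ^ 2 < Nat.card ↥(X ⊔ E : Subgroup P) :=
      lt_of_lt_of_le hEcard (Subgroup.card_le_of_le le_sup_right)
    have hY1el : Cfsg.IsElementaryAbelian p (Subgroup.centralizer (U : Set P) ⊓ (X ⊔ E)) :=
      isElementaryAbelian_of_le hYel inf_le_right
    have hY1card := hinf (X ⊔ E) hYcard
    have r1 : Rel p X (X ⊔ E) := ⟨hXel, hXcard, hYel, hYcard.le, fun a ha b hb =>
      comm_of_isElementaryAbelian hYel (le_sup_left (a := X) ha) hb⟩
    have r2 : Rel p (X ⊔ E) (Subgroup.centralizer (U : Set P) ⊓ (X ⊔ E)) :=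
      ⟨hYel, hYcard.le, hY1el, hY1card, fun a ha b hb =>
        comm_of_isElementaryAbelian hYel ha hb.2⟩
    have r3 : Rel p (Subgroup.centralizer (U : Set P) ⊓ (X ⊔ E)) U :=
      ⟨hY1el, hY1card, hUel, hUcard.ge, fun a ha b hb =>
        (Subgroup.mem_centralizer_iff.1 ha.1 b hb).symm⟩
    exact Relation.ReflTransGen.head r1 (Relation.ReflTransGen.head r2
      (Relation.ReflTransGen.single r3))

end Cfsg.Agent.H2.RankTwoGraph
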