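import Mathlib
import Cfsg.Prelude.Def_Local
import Cfsg.Prelude.Def_Solvable
import Cfsg.Agent.H2.Layer
import Cfsg.Agent.H2.PPrimeCore
import Cfsg.Agent.H1.Cores
import Cfsg.Agent.S0026

/-!
# Groups with a cyclic Sylow `p`-subgroup and trivial `p'`-core (helper2)
-/

set_option autoImplicit false
open scoped commutatorElement

namespace Cfsg.Agent.H2.CycSyl

/-- the subgroups of a cyclic `p`-group form a chain -/
theorem le_or_le_of_cyclic_pgroup {D : Type*} [Group D] [Finite D] {p : ℕ} [hp : Fact p.Prime]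
    (hD : IsPGroup p D) [IsCyclic D] (X Y : Subgroup D) : X ≤ Y ∨ Y ≤ X := by
  classical
  have := Fintype.ofFinite D
  have key : ∀ (X Y : Subgroup D) (a b : ℕ), Nat.card X = p ^ a → Nat.card Y = p ^ b → a ≤ b →
      X ≤ Y := by
    intro X Y a b hXa hYb hab
    have hYall : ∀ g : D, g ^ p ^ b = 1 → g ∈ Y := by
      have h1 : (Finset.univ.filter (fun g : D => g ^ p ^ b = 1)).card ≤ p ^ b :=
        IsCyclic.card_pow_eq_one_le (pow_pos hp.out.pos b)
      have h2 : (Finset.univ.filter (fun g : D => g ∈ Y)) ⊆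
          Finset.univ.filter (fun g : D => g ^ p ^ b = 1) := by
        intro g hg
        rw [Finset.mem_filter] at hg ⊢
        refine ⟨hg.1, ?_⟩
        have h3 : (⟨g, hg.2⟩ : ↥Y) ^ Nat.card Y = 1 := pow_card_eq_one'
        rw [hYb] at h3
        have := congrArg Subtype.val h3
        simpa using this
      have h3 : (Finset.univ.filter (fun g : D => g ∈ Y)).card = p ^ b := by
        rw [← hYb, Nat.card_eq_fintype_card, Fintype.card_subtype]
      have h4 := Finset.eq_of_subset_of_card_le h2 (by rw [h3]; exact h1)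
      intro g hg
      have h5 : g ∈ Finset.univ.filter (fun g : D => g ^ p ^ b = 1) := by
        rw [Finset.mem_filter]; exact ⟨Finset.mem_univ g, hg⟩
      rw [← h4, Finset.mem_filter] at h5
      exact h5.2
    intro g hg
    apply hYall
    have h1 : g ^ p ^ a = 1 := by
      have h3 : (⟨g, hg⟩ : ↥X) ^ Nat.card X = 1 := pow_card_eq_one'
      rw [hXa] at h3
      have := congrArg Subtype.val h3
      simpa using this
    obtain ⟨c, rfl⟩ := Nat.exists_eq_add_of_le hab
    rw [pow_add, pow_mul, h1, one_pow]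
  obtain ⟨a, ha⟩ := (IsPGroup.iff_card).mp (hD.to_subgroup X)
  obtain ⟨b, hb⟩ := (IsPGroup.iff_card).mp (hD.to_subgroup Y)
  rcases le_total a b with h | h
  · exact Or.inl (key X Y a b ha hb h)
  · exact Or.inr (key Y X b a hb ha h)

variable {G : Type*} [Group G]

/-- chain property for subgroups of a cyclic `p`-subgroup -/
theorem le_or_le_of_le_cyclic {p : ℕ} [hp : Fact p.Prime] {P X Y : Subgroup G} [Finite P]
    (hP : IsPGroup p P) (hcyc : IsCyclic P) (hX : X ≤ P) (hY : Y ≤ P) : X ≤ Y ∨ Y ≤ X := by
  rcases le_or_le_of_cyclic_pgroup hP (X.subgroupOf P) (Y.subgroupOf P) with h | h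
  · left
    intro x hx
    have h1 : (⟨x, hX hx⟩ : ↥P) ∈ X.subgroupOf P := by rw [Subgroup.mem_subgroupOf]; exact hx
    have h2 := h h1
    rwa [Subgroup.mem_subgroupOf] at h2
  · right
    intro x hx
    have h1 : (⟨x, hY hx⟩ : ↥P) ∈ Y.subgroupOf P := by rw [Subgroup.mem_subgroupOf]; exact hx
    have h2 := h h1
    rwa [Subgroup.mem_subgroupOf] at h2

/-- a coprime operator group on a cyclic `p`-group acts trivially or without fixed points -/
theorem commutator_eq_of_cyclic [Finite G] {p : ℕ} [hp : Fact p.Prime] (P A : Subgroup G)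
    (hP : IsPGroup p P) (hcyc : IsCyclic P) (hAP : A ≤ Subgroup.normalizer (P : Set G))
    (hcop : (Nat.card A).Coprime (Nat.card P))
    (hnc : ¬ A ≤ Subgroup.centralizer (P : Set G)) : ⁅P, A⁆ = P := by
  have hsolv : Group.IsSolvable P := by
    have := hP.isNilpotent
    exact IsNilpotent.to_isSolvable
  have h26 := Cfsg.Agent.S0026.result A P hAP hcop (Or.inr hsolv)
  have hle : ⁅P, A⁆ ≤ P := Subgroup.le_normalizer_iff_commutator_le_left.mp hAP
  rcases le_or_le_of_le_cyclic hP hcyc hle (inf_le_left : P ⊓ Subgroup.centralizer (A : Set G) ≤ P)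
    with h | h
  · exfalso
    rw [sup_eq_right.mpr h] at h26
    apply hnc
    intro a ha
    rw [Subgroup.mem_centralizer_iff]
    intro x hx
    have h1 : x ∈ P ⊓ Subgroup.centralizer (A : Set G) := by rw [h26]; exact hx
    have h2 := (Subgroup.mem_inf.mp h1).2
    exact ((Subgroup.mem_centralizer_iff.mp h2) a ha).symm
  · rw [sup_eq_left.mpr h] at h26
    exact h26

/-- Burnside's transfer theorem for a cyclic Sylow subgroup -/
theorem burnside_cyclic {X : Type*} [Group X] [Finite X] {p : ℕ} [hp : Fact p.Prime]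
    (P : Sylow p X) (hcyc : IsCyclic (P : Subgroup X)) :
    (P : Subgroup X) ≤ commutator X ∨
      ∃ N : Subgroup X, N.Normal ∧ (Nat.card N).Coprime p ∧ commutator X ≤ N := by
  have hPcomm : (P : Subgroup X) ≤ Subgroup.centralizer ((P : Subgroup X) : Set X) := by
    intro a ha
    rw [Subgroup.mem_centralizer_iff]
    intro b hb
    have h1 : (⟨b, hb⟩ : ↥(P : Subgroup X)) * ⟨a, ha⟩ = ⟨a, ha⟩ * ⟨b, hb⟩ :=
      IsMulCommutative.is_comm.comm _ _
    exact congrArg Subtype.val h1
  by_cases h : Subgroup.normalizer ((P : Subgroup X) : Set X) ≤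
      Subgroup.centralizer ((P : Subgroup X) : Set X)
  · right
    refine ⟨(MonoidHom.transferSylow P h).ker, inferInstance, ?_, ?_⟩
    · have h1 := MonoidHom.not_dvd_card_ker_transferSylow P h
      exact ((Nat.Prime.coprime_iff_not_dvd hp.out).mpr h1).symm
    · rw [commutator_def, Subgroup.commutator_le]
      intro a _ b _
      rw [MonoidHom.mem_ker, map_commutatorElement, commutatorElement_eq_one_iff_commute]
      exact IsMulCommutative.is_comm.comm _ _
  · left
    rw [SetLike.not_le_iff_exists] at h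
    obtain ⟨n, hnN, hnC⟩ := h
    obtain ⟨j, r, hpr, hnr⟩ :=
      Nat.exists_eq_pow_mul_and_not_dvd (orderOf_pos n).ne' p hp.out.ne_one
    have hr0 : r ≠ 0 := by
      intro h0
      rw [h0, mul_zero] at hnr
      exact (orderOf_pos n).ne' hnr
    have hcopr : (p ^ j).Coprime r := ((Nat.Prime.coprime_iff_not_dvd hp.out).mpr hpr).pow_left j
    have hn2P : n ^ r ∈ (P : Subgroup X) := by
      have hz : IsPGroup p (Subgroup.zpowers (n ^ r)) := by
        apply IsPGroup.of_card (n := j)
        rw [Nat.card_zpowers, orderOf_pow_of_dvd hr0 (by rw [hnr]; exact dvd_mul_left r _), hnr,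
          Nat.mul_div_cancel _ (Nat.pos_of_ne_zero hr0)]
      have h1 := hz.inf_normalizer_sylow P
      have h2 : n ^ r ∈ Subgroup.zpowers (n ^ r) ⊓
          Subgroup.normalizer ((P : Subgroup X) : Set X) :=
        Subgroup.mem_inf.mpr ⟨Subgroup.mem_zpowers _, Subgroup.pow_mem _ hnN r⟩
      have h3 : n ^ r ∈ Subgroup.zpowers (n ^ r) ⊓ (P : Subgroup X) := by
        rw [← h1]; exact h2
      exact (Subgroup.mem_inf.mp h3).2
    obtain ⟨A, hAdef⟩ : ∃ A : Subgroup X, A = Subgroup.zpowers (n ^ p ^ j) := ⟨_, rfl⟩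
    have hAN : A ≤ Subgroup.normalizer ((P : Subgroup X) : Set X) := by
      rw [hAdef, Subgroup.zpowers_le]; exact Subgroup.pow_mem _ hnN _
    have hAcard : Nat.card A = r := by
      rw [hAdef, Nat.card_zpowers,
        orderOf_pow_of_dvd (pow_pos hp.out.pos j).ne' (by rw [hnr]; exact dvd_mul_right _ r), hnr,
        Nat.mul_div_cancel_left _ (pow_pos hp.out.pos j)]
    have hAcop : (Nat.card A).Coprime (Nat.card (P : Subgroup X)) := by
      obtain ⟨k, hk⟩ := (IsPGroup.iff_card).mp P.isPGroup'
      rw [hAcard, hk]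
      exact (((Nat.Prime.coprime_iff_not_dvd hp.out).mpr hpr).pow_left k).symm
    have hAnc : ¬ A ≤ Subgroup.centralizer ((P : Subgroup X) : Set X) := by
      intro hA
      apply hnC
      have h1 : n ^ p ^ j ∈ Subgroup.centralizer ((P : Subgroup X) : Set X) := by
        apply hA; rw [hAdef]; exact Subgroup.mem_zpowers _
      have h2 : n ^ r ∈ Subgroup.centralizer ((P : Subgroup X) : Set X) := hPcomm hn2P
      have h3 : ((Nat.gcd (p ^ j) r : ℕ) : ℤ) = (p ^ j : ℕ) * Nat.gcdA (p ^ j) r +
          (r : ℕ) * Nat.gcdB (p ^ j) r := Nat.gcd_eq_gcd_ab (p ^ j) r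
      rw [hcopr, Nat.cast_one] at h3
      have h4 : n = (n ^ p ^ j) ^ (Nat.gcdA (p ^ j) r) * (n ^ r) ^ (Nat.gcdB (p ^ j) r) := by
        rw [← zpow_natCast, ← zpow_natCast, ← zpow_mul, ← zpow_mul, ← zpow_add, ← h3, zpow_one]
      rw [h4]
      exact Subgroup.mul_mem _ (Subgroup.zpow_mem _ h1 _) (Subgroup.zpow_mem _ h2 _)
    have h5 := commutator_eq_of_cyclic (P : Subgroup X) A P.isPGroup' hcyc hAN hAcop hAnc
    rw [← h5, commutator_def]
    exact Subgroup.commutator_mono le_top le_top

/-- a perfect group with a cyclic Sylow `p`-subgroup has centre of order prime to `p` -/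
theorem not_dvd_card_center_of_perfect {L : Type*} [Group L] [Finite L] {p : ℕ}
    [hp : Fact p.Prime] (hperf : commutator L = ⊤) (S : Sylow p L)
    (hcyc : IsCyclic (S : Subgroup L)) : ¬ p ∣ Nat.card (Subgroup.center L) := by
  intro hdvd
  obtain ⟨z', hz'⟩ := exists_prime_orderOf_dvd_card' p hdvd
  obtain ⟨z, hzdef⟩ : ∃ z : L, z = (z' : L) := ⟨_, rfl⟩
  have hzc : z ∈ Subgroup.center L := by rw [hzdef]; exact z'.2
  have hzo : orderOf z = p := by rw [hzdef, Subgroup.orderOf_coe]; exact hz'
  obtain ⟨ϕ, hϕinj⟩ : ∃ ϕ : ↥(S : Subgroup L) →*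
      Multiplicative (ZMod (Nat.card (S : Subgroup L))), Function.Injective ϕ :=
    ⟨(zmodCyclicMulEquiv hcyc).symm.toMonoidHom, (zmodCyclicMulEquiv hcyc).symm.injective⟩
  have hkey : ∀ (k : ℕ) (g₀ : L), g₀⁻¹ * z ^ k * g₀ ∈ (S : Subgroup L) →
      g₀⁻¹ * z ^ k * g₀ = z ^ k := by
    intro k g₀ _
    have h1 := Subgroup.mem_center_iff.mp (Subgroup.pow_mem _ hzc k) g₀
    rw [mul_assoc, ← h1, ← mul_assoc, inv_mul_cancel, one_mul]
  have h1 := MonoidHom.transfer_eq_pow ϕ z hkey
  have h2 : MonoidHom.transfer ϕ z = 1 := by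
    have h3 : commutator L ≤ (MonoidHom.transfer ϕ).ker := Abelianization.commutator_subset_ker _
    rw [hperf] at h3
    exact h3 (Subgroup.mem_top z)
  rw [h2] at h1
  have h3 : (⟨z ^ (S : Subgroup L).index, MonoidHom.transfer_eq_pow_aux z hkey⟩ :
      ↥(S : Subgroup L)) = 1 := hϕinj (by rw [← h1, map_one])
  have h4 : z ^ (S : Subgroup L).index = 1 := congrArg Subtype.val h3
  have h5 : orderOf z ∣ (S : Subgroup L).index := orderOf_dvd_of_pow_eq_one h4
  rw [hzo] at h5
  exact S.not_dvd_index h5

section main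

variable [Finite G] {p : ℕ} [hp : Fact p.Prime]

/-- the self-centralizing normal cyclic Sylow case -/
theorem quotient_of_self_centralizing (P : Sylow p G) (hP : IsCyclic ↥(P : Subgroup G))
    (hPn : (P : Subgroup G).Normal)
    (hCP : Subgroup.centralizer ((P : Subgroup G) : Set G) = (P : Subgroup G)) :
    IsCyclic (G ⧸ (P : Subgroup G)) ∧ (P : Subgroup G).index ∣ p - 1 := by
  obtain ⟨ψ, hψ⟩ : ∃ ψ : G ⧸ (P : Subgroup G) →* MulAut ↥(P : Subgroup G), Function.Injective ψ := by
    have hker : (P : Subgroup G) ≤ (MulAut.conjNormal (H := (P : Subgroup G))).ker := by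
      intro x hx
      rw [MonoidHom.mem_ker]
      apply MulEquiv.ext
      intro h
      apply Subtype.ext
      rw [MulAut.conjNormal_apply]
      have h1 : x ∈ Subgroup.centralizer ((P : Subgroup G) : Set G) := by rw [hCP]; exact hx
      have h2 := Subgroup.mem_centralizer_iff.mp h1 (h : G) h.2
      show x * (h : G) * x⁻¹ = (h : G)
      rw [← h2]; group
    refine ⟨QuotientGroup.lift (P : Subgroup G) MulAut.conjNormal hker, ?_⟩
    rw [injective_iff_map_eq_one]
    intro q hq
    obtain ⟨g, rfl⟩ := QuotientGroup.mk_surjective q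
    rw [QuotientGroup.lift_mk] at hq
    rw [QuotientGroup.eq_one_iff, ← hCP, Subgroup.mem_centralizer_iff]
    intro h hh
    have h1 := congrArg (fun e : MulAut ↥(P : Subgroup G) => ((e ⟨h, hh⟩ : ↥(P : Subgroup G)) : G)) hq
    simp only [MulAut.conjNormal_apply, MulAut.one_apply] at h1
    calc h * g = (g * h * g⁻¹) * g := by rw [h1]
      _ = g * h := by group
  have hdvd : (P : Subgroup G).index ∣ p - 1 := by
    have h1 : Nat.card (G ⧸ (P : Subgroup G)) ∣ Nat.card (MulAut ↥(P : Subgroup G)) :=
      Subgroup.card_dvd_of_injective ψ hψ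
    rw [← Subgroup.index_eq_card, IsCyclic.card_mulAut] at h1
    obtain ⟨k, hk⟩ := (IsPGroup.iff_card).mp P.isPGroup'
    rw [hk] at h1
    have hcop : (P : Subgroup G).index.Coprime p :=
      ((Nat.Prime.coprime_iff_not_dvd hp.out).mpr P.not_dvd_index).symm
    rcases Nat.eq_zero_or_pos k with h0 | h0
    · rw [h0, pow_zero, Nat.totient_one] at h1
      exact h1.trans (one_dvd _)
    · rw [Nat.totient_prime_pow hp.out h0] at h1
      exact Nat.Coprime.dvd_of_dvd_mul_left (hcop.pow_right (k - 1)) h1
  refine ⟨?_, hdvd⟩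
  by_cases hp2 : p = 2
  · have h0 : p - 1 = 1 := by omega
    rw [h0] at hdvd
    have h1 : (P : Subgroup G).index = 1 := Nat.dvd_one.mp hdvd
    rw [Subgroup.index_eq_card, Nat.card_eq_one_iff_unique] at h1
    have := h1.1
    exact isCyclic_of_subsingleton
  · obtain ⟨k, hk⟩ := (IsPGroup.iff_card).mp P.isPGroup'
    have hcyc : IsCyclic (ZMod (Nat.card ↥(P : Subgroup G)))ˣ := by
      rw [hk]; exact ZMod.isCyclic_units_of_prime_pow p hp.out hp2 k
    exact isCyclic_of_injective ((IsCyclic.mulAutMulEquiv ↥(P : Subgroup G)).toMonoidHom.comp ψ)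
      ((IsCyclic.mulAutMulEquiv ↥(P : Subgroup G)).injective.comp hψ)

/-- `p`-groups mapping injectively into `G` are cyclic -/
theorem isCyclic_of_injective_pgroup (P : Sylow p G) (hP : IsCyclic ↥(P : Subgroup G))
    {H : Type*} [Group H] (hH : IsPGroup p H) (f : H →* G) (hf : Function.Injective f) :
    IsCyclic H := by
  have hr : IsPGroup p f.range := hH.of_surjective f.rangeRestrict f.rangeRestrict_surjective
  obtain ⟨Q, hQ⟩ := hr.exists_le_sylow
  obtain ⟨g, rfl⟩ := MulAction.exists_smul_eq G P Q
  have hQc : IsCyclic ↥((g • P : Sylow p G) : Subgroup G) :=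
    isCyclic_of_surjective (P.equivSMul g).toMonoidHom (P.equivSMul g).surjective
  apply isCyclic_of_injective (f.codRestrict ((g • P : Sylow p G) : Subgroup G)
    (fun x => hQ ⟨x, rfl⟩))
  intro x y hxy
  apply hf
  exact congrArg Subtype.val hxy

/-- `p`-subgroups of `G` are cyclic -/
theorem isCyclic_of_pgroup (P : Sylow p G) (hP : IsCyclic ↥(P : Subgroup G))
    {H : Subgroup G} (hH : IsPGroup p H) : IsCyclic H :=
  isCyclic_of_injective_pgroup P hP hH H.subtype H.subtype_injective

/-- two elements of order `p` generate the same subgroup when they commute -/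
theorem zpowers_eq_of_commute (P : Sylow p G) (hP : IsCyclic ↥(P : Subgroup G)) {x y : G}
    (hx : orderOf x = p) (hy : orderOf y = p) (hxy : x * y = y * x) :
    Subgroup.zpowers x = Subgroup.zpowers y := by
  have hzx : IsPGroup p (Subgroup.zpowers x) := by
    apply IsPGroup.of_card (n := 1); rw [Nat.card_zpowers, hx, pow_one]
  have hzy : IsPGroup p (Subgroup.zpowers y) := by
    apply IsPGroup.of_card (n := 1); rw [Nat.card_zpowers, hy, pow_one]
  have hnorm : Subgroup.zpowers x ≤ Subgroup.normalizer ((Subgroup.zpowers y : Subgroup G) : Set G) := by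
    rw [Subgroup.zpowers_le, Subgroup.mem_normalizer_iff]
    intro h
    have hc : ∀ h ∈ Subgroup.zpowers y, x * h * x⁻¹ = h := by
      intro h hh
      obtain ⟨k, rfl⟩ := Subgroup.mem_zpowers_iff.mp hh
      have h1 : Commute x (y ^ k) := (show Commute x y from hxy).zpow_right k
      rw [h1.eq]; group
    constructor
    · intro hh
      rw [hc h hh]; exact hh
    · intro hh
      have h1 := hc _ hh
      have h2 : x * h * x⁻¹ = h := by
        have e : h = x⁻¹ * (x * h * x⁻¹) * x := by group
        have h3 : x⁻¹ * (x * h * x⁻¹) * x = x * h * x⁻¹ := by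
          calc x⁻¹ * (x * h * x⁻¹) * x = x⁻¹ * (x * (x * h * x⁻¹) * x⁻¹) * x := by rw [h1]
            _ = x * h * x⁻¹ := by group
        rw [← h3, ← e]
      rw [h2] at hh; exact hh
  have hD : IsPGroup p (Subgroup.zpowers x ⊔ Subgroup.zpowers y : Subgroup G) :=
    hzx.to_sup_of_normal_right' hzy hnorm
  have hDc : IsCyclic ↥(Subgroup.zpowers x ⊔ Subgroup.zpowers y : Subgroup G) :=
    isCyclic_of_pgroup P hP hD
  have hcx : Nat.card (Subgroup.zpowers x) = p := by rw [Nat.card_zpowers, hx]
  have hcy : Nat.card (Subgroup.zpowers y) = p := by rw [Nat.card_zpowers, hy]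
  rcases le_or_le_of_le_cyclic hD hDc (le_sup_left : Subgroup.zpowers x ≤ _)
    (le_sup_right : Subgroup.zpowers y ≤ _) with h | h
  · exact Subgroup.eq_of_le_of_card_ge h (by rw [hcx, hcy])
  · exact (Subgroup.eq_of_le_of_card_ge h (by rw [hcx, hcy])).symm

/-- `S4403` -/
theorem structure_thm (hpK : p ∣ Nat.card G) (hO : Cfsg.pPrimeCore p G = ⊥)
    (P : Sylow p G) (hP : IsCyclic ↥(P : Subgroup G)) :
    ((P : Subgroup G).Normal ∧
        Subgroup.centralizer ((P : Subgroup G) : Set G) = (P : Subgroup G) ∧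
      (∀ (_ : (P : Subgroup G).Normal), IsCyclic (G ⧸ (P : Subgroup G))) ∧
        (P : Subgroup G).index ∣ p - 1) ∨
    (IsSimpleGroup ↥(Cfsg.generalizedFittingSubgroup G) ∧
      ¬ IsMulCommutative ↥(Cfsg.generalizedFittingSubgroup G) ∧
      ¬ p ∣ (Cfsg.generalizedFittingSubgroup G).index) := by
  have hPcomm : ∀ a ∈ (P : Subgroup G), ∀ b ∈ (P : Subgroup G), a * b = b * a := by
    intro a ha b hb
    have h1 : (⟨a, ha⟩ : ↥(P : Subgroup G)) * ⟨b, hb⟩ = ⟨b, hb⟩ * ⟨a, ha⟩ :=
      IsMulCommutative.is_comm.comm _ _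
    exact congrArg Subtype.val h1
  have hFit : Cfsg.fittingSubgroup G = Cfsg.pCore p G := by
    rw [Cfsg.Agent.H1.fittingSubgroup_eq_iSup_pCore]
    apply le_antisymm
    · apply iSup_le
      intro q
      by_cases hq : (q : ℕ) = p
      · rw [hq]
      · have h1 := Cfsg.Agent.H1.le_pPrimeCore (Cfsg.Agent.H1.pCore_normal (G := G) (q : ℕ))
          (Cfsg.Agent.H1.pCore_coprime_of_ne hp.out q.2 hq)
        rw [hO] at h1
        exact h1.trans bot_le
    · exact le_iSup (fun q : Nat.Primes => Cfsg.pCore (q : ℕ) G) ⟨p, hp.out⟩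
  by_cases hE : Cfsg.layer G = ⊥
  · left
    have hFs : Cfsg.generalizedFittingSubgroup G = Cfsg.pCore p G := by
      unfold Cfsg.generalizedFittingSubgroup
      rw [hE, bot_sup_eq, hFit]
    have hcent := centralizer_generalizedFittingSubgroup_le (G := G)
    rw [hFs] at hcent
    have hRP : Cfsg.pCore p G ≤ P := Cfsg.Agent.H1.pCore_le_sylow P
    have hPR : (P : Subgroup G) ≤ Cfsg.pCore p G := by
      apply le_trans _ hcent
      intro a ha
      rw [Subgroup.mem_centralizer_iff]
      intro r hr
      exact hPcomm r (hRP hr) a ha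
    have hPeq : (P : Subgroup G) = Cfsg.pCore p G := le_antisymm hPR hRP
    have hPn : (P : Subgroup G).Normal := by
      rw [hPeq]; exact Cfsg.Agent.H1.pCore_normal p
    have hCP : Subgroup.centralizer ((P : Subgroup G) : Set G) = (P : Subgroup G) := by
      apply le_antisymm
      · rw [hPeq]; exact hcent
      · intro a ha
        rw [Subgroup.mem_centralizer_iff]
        intro b hb
        exact hPcomm b hb a ha
    have h := quotient_of_self_centralizing P hP hPn hCP
    exact ⟨hPn, hCP, fun _ => h.1, h.2⟩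
  · right
    obtain ⟨L, hL⟩ : ∃ L : Subgroup G, Cfsg.IsComponent L := by
      by_contra hno
      push Not at hno
      apply hE
      unfold Cfsg.layer
      rw [eq_bot_iff]
      apply sSup_le
      intro K hK
      exact absurd hK (hno K)
    -- components have order divisible by `p`
    have hdvdL : ∀ L : Subgroup G, Cfsg.IsComponent L → p ∣ Nat.card L := by
      intro L hL
      by_contra hnd
      have hcop : (Nat.card (⊤ : Subgroup ↥L)).Coprime p := by
        rw [Subgroup.card_top]
        exact ((Nat.Prime.coprime_iff_not_dvd hp.out).mpr hnd).symm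
      have h1 : (⊤ : Subgroup ↥L) ≤ Cfsg.pPrimeCore p ↥L :=
        Cfsg.Agent.H1.le_pPrimeCore inferInstance hcop
      have h2 := pPrimeCore_map_subtype_le_of_isSubnormal p hL.1
      rw [hO, top_le_iff.mp h1, ← MonoidHom.range_eq_map, Subgroup.range_subtype, le_bot_iff] at h2
      exact quasisimple_ne_bot hL.2 h2
    -- Sylow subgroups of components are cyclic
    have hcycL : ∀ (L : Subgroup G) (S : Sylow p ↥L), IsCyclic ↥(S : Subgroup ↥L) := by
      intro L S
      exact isCyclic_of_injective_pgroup P hP S.isPGroup' (L.subtype.comp (S : Subgroup ↥L).subtype)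
        (L.subtype_injective.comp (S : Subgroup ↥L).subtype_injective)
    have hperf : ∀ L : Subgroup G, Cfsg.IsComponent L → commutator ↥L = ⊤ := by
      intro L hL
      exact hL.2.1.commutator_eq_top
    -- `O_p(G) = 1`
    have hR : Cfsg.pCore p G = ⊥ := by
      by_contra hR1
      obtain ⟨x', hx'⟩ := exists_prime_orderOf_dvd_card' p (hdvdL L hL)
      have hxo : orderOf (x' : G) = p := by rw [Subgroup.orderOf_coe]; exact hx'
      have hzx : IsPGroup p (Subgroup.zpowers (x' : G)) := by
        apply IsPGroup.of_card (n := 1); rw [Nat.card_zpowers, hxo, pow_one]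
      obtain ⟨Q, hQ⟩ := hzx.exists_le_sylow
      have hRQ : Cfsg.pCore p G ≤ Q := Cfsg.Agent.H1.pCore_le_sylow Q
      have hQc : IsCyclic ↥(Q : Subgroup G) := isCyclic_of_pgroup P hP Q.isPGroup'
      have hxR : (x' : G) ∈ Cfsg.pCore p G := by
        rcases le_or_le_of_le_cyclic Q.isPGroup' hQc hRQ hQ with h | h
        · have hcard : Nat.card (Subgroup.zpowers (x' : G)) = p := by rw [Nat.card_zpowers, hxo]
          have h1 : (Nat.card ↥(Cfsg.pCore p G)) ∣ p :=
            (Subgroup.card_dvd_of_le h).trans (dvd_of_eq hcard)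
          rcases (Nat.dvd_prime hp.out).mp h1 with h2 | h2
          · exact absurd (Subgroup.card_eq_one.mp h2) hR1
          · have h3 : Cfsg.pCore p G = Subgroup.zpowers (x' : G) :=
              Subgroup.eq_of_le_of_card_ge h (by rw [hcard, h2])
            rw [h3]; exact Subgroup.mem_zpowers _
        · exact h (Subgroup.mem_zpowers _)
      have hsolv : Group.IsSolvable ↥(Cfsg.pCore p G) := by
        have := (Cfsg.Agent.H1.pCore_isPGroup (G := G) p).isNilpotent
        exact IsNilpotent.to_isSolvable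
      have hLR := component_commutator_normal_solvable hL (Cfsg.pCore p G) hsolv
      rw [commutator_eq_bot_iff_forall_commute] at hLR
      have hx'c : x' ∈ Subgroup.center ↥L := by
        rw [Subgroup.mem_center_iff]
        intro l
        apply Subtype.ext
        rw [Subgroup.coe_mul, Subgroup.coe_mul]
        exact hLR (l : G) l.2 (x' : G) hxR
      have hpc : p ∣ Nat.card (Subgroup.center ↥L) := by
        have h1 := orderOf_dvd_natCard (⟨x', hx'c⟩ : ↥(Subgroup.center ↥L))
        rwa [Subgroup.orderOf_mk, hx'] at h1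
      obtain ⟨S⟩ : Nonempty (Sylow p ↥L) := inferInstance
      exact not_dvd_card_center_of_perfect (hperf L hL) S (hcycL L S) hpc
    have hF0 : Cfsg.fittingSubgroup G = ⊥ := by rw [hFit, hR]
    -- components have trivial centre
    have hZL : ∀ L : Subgroup G, Cfsg.IsComponent L → Subgroup.center ↥L = ⊥ := by
      intro L hL
      have hsub : ((Subgroup.center ↥L).map L.subtype).IsSubnormal := by
        apply Subgroup.IsSubnormal.step _ L (Subgroup.map_subtype_le _) hL.1
        show (((Subgroup.center ↥L).map L.subtype).comap L.subtype).Normal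
        rw [Subgroup.comap_map_eq_self_of_injective L.subtype_injective]
        infer_instance
      have hnil : Group.IsNilpotent ↥((Subgroup.center ↥L).map L.subtype) := by
        apply isNilpotent_of_commutator_eq_bot
        rw [commutator_eq_bot_iff_forall_commute]
        intro a ha b hb
        exact (((mem_map_subtype_center_iff _ b).1 hb).2 a ((mem_map_subtype_center_iff _ a).1 ha).1)
      have h1 := le_fittingSubgroup_of_isSubnormal_of_isNilpotent hsub hnil
      rw [hF0, le_bot_iff] at h1
      exact (Subgroup.map_eq_bot_iff_of_injective _ L.subtype_injective).mp h1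
    -- uniqueness of the component
    have huniq : ∀ L' : Subgroup G, Cfsg.IsComponent L' → L' = L := by
      intro L' hL'
      by_contra hne
      have hcomm := components_commute hL' hL hne
      rw [commutator_eq_bot_iff_forall_commute] at hcomm
      obtain ⟨x', hx'⟩ := exists_prime_orderOf_dvd_card' p (hdvdL L hL)
      obtain ⟨y', hy'⟩ := exists_prime_orderOf_dvd_card' p (hdvdL L' hL')
      have hxo : orderOf (x' : G) = p := by rw [Subgroup.orderOf_coe]; exact hx'
      have hyo : orderOf (y' : G) = p := by rw [Subgroup.orderOf_coe]; exact hy'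
      have hxy : (x' : G) * (y' : G) = (y' : G) * (x' : G) :=
        (hcomm (y' : G) y'.2 (x' : G) x'.2).symm
      have hz := zpowers_eq_of_commute P hP hxo hyo hxy
      have hxL' : (x' : G) ∈ L' := by
        have h1 : (x' : G) ∈ Subgroup.zpowers (y' : G) := by
          rw [← hz]; exact Subgroup.mem_zpowers _
        exact (Subgroup.zpowers_le.mpr y'.2) h1
      have hx'c : x' ∈ Subgroup.center ↥L := by
        rw [Subgroup.mem_center_iff]
        intro l
        apply Subtype.ext
        rw [Subgroup.coe_mul, Subgroup.coe_mul]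
        exact (hcomm (x' : G) hxL' (l : G) l.2).symm
      rw [hZL L hL, Subgroup.mem_bot] at hx'c
      rw [hx'c, orderOf_one] at hx'
      exact hp.out.one_lt.ne hx'
    have hlayer : Cfsg.layer G = L := by
      apply le_antisymm
      · apply layer_le_iff.2
        intro L' hL'
        rw [huniq L' hL']
      · exact component_le_layer hL
    have hFs : Cfsg.generalizedFittingSubgroup G = L := by
      unfold Cfsg.generalizedFittingSubgroup
      rw [hlayer, hF0, sup_bot_eq]
    have hLn : L.Normal := by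
      rw [← hFs]; infer_instance
    have hsimple : IsSimpleGroup ↥L := by
      have h1 : IsSimpleGroup (↥L ⧸ Subgroup.center ↥L) := hL.2.2
      have h2 : Nontrivial ↥L := by
        rw [Subgroup.nontrivial_iff_ne_bot]
        exact quasisimple_ne_bot hL.2
      have e : (↥L ⧸ Subgroup.center ↥L) ≃* ↥L :=
        (QuotientGroup.quotientMulEquivOfEq (hZL L hL)).trans QuotientGroup.quotientBot
      exact IsSimpleGroup.isSimpleGroup_of_surjective e.toMonoidHom e.surjective
    have hnonab : ¬ IsMulCommutative ↥L := by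
      intro hc
      have h1 : Subgroup.center ↥L = ⊤ := by
        rw [eq_top_iff]
        intro x _
        rw [Subgroup.mem_center_iff]
        intro y
        exact hc.is_comm.comm y x
      rw [hZL L hL] at h1
      have h2 : Subsingleton (Subgroup ↥L) := subsingleton_of_bot_eq_top h1
      have h3 : Subsingleton ↥L := Subgroup.subsingleton_iff.mp h2
      apply quasisimple_ne_bot hL.2
      rw [eq_bot_iff]
      intro x hx
      rw [Subgroup.mem_bot]
      have := h3.elim (⟨x, hx⟩ : ↥L) 1
      exact congrArg Subtype.val this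
    rw [hFs]
    refine ⟨hsimple, hnonab, ?_⟩
    -- `p ∤ |G : L|`
    obtain ⟨M, hMdef⟩ : ∃ M : Subgroup G, M = L ⊔ (P : Subgroup G) := ⟨_, rfl⟩
    have hPM : (P : Subgroup G) ≤ M := hMdef ▸ le_sup_right
    have hLM : L ≤ M := hMdef ▸ le_sup_left
    have hMML : ⁅M, M⁆ ≤ L := by
      rw [Subgroup.commutator_le]
      intro a ha b hb
      have hdec : ∀ a ∈ M, ∃ l ∈ L, ∃ y ∈ (P : Subgroup G), l * y = a := by
        intro a ha
        rw [hMdef, ← SetLike.mem_coe, Subgroup.normal_mul] at ha
        obtain ⟨l, hl, y, hy, rfl⟩ := Set.mem_mul.mp ha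
        exact ⟨l, hl, y, hy, rfl⟩
      obtain ⟨l1, hl1, y1, hy1, rfl⟩ := hdec a ha
      obtain ⟨l2, hl2, y2, hy2, rfl⟩ := hdec b hb
      have e1 : QuotientGroup.mk' L l1 = 1 := (QuotientGroup.eq_one_iff l1).mpr hl1
      have e2 : QuotientGroup.mk' L l2 = 1 := (QuotientGroup.eq_one_iff l2).mpr hl2
      rw [← QuotientGroup.eq_one_iff, ← QuotientGroup.mk'_apply, map_commutatorElement, map_mul,
        map_mul, e1, e2, one_mul, one_mul, ← map_commutatorElement,
        commutatorElement_eq_one_iff_commute.mpr (hPcomm y1 hy1 y2 hy2), map_one]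
    obtain ⟨PM, hPMdef⟩ : ∃ PM : Sylow p ↥M, PM = P.subtype hPM := ⟨_, rfl⟩
    have hPMcoe : (PM : Subgroup ↥M) = (P : Subgroup G).subgroupOf M := by
      rw [hPMdef, Sylow.coe_subtype]
    have hPMcyc : IsCyclic ↥(PM : Subgroup ↥M) := by
      rw [hPMcoe]
      have := hP
      exact isCyclic_of_surjective (Subgroup.subgroupOfEquivOfLe hPM).symm.toMonoidHom
        (Subgroup.subgroupOfEquivOfLe hPM).symm.surjective
    have hmapc : (commutator ↥M).map M.subtype = ⁅M, M⁆ := Subgroup.map_subtype_commutator M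
    rcases burnside_cyclic PM hPMcyc with h | ⟨N, hNn, hNcop, hN⟩
    · have h1 : (P : Subgroup G) ≤ L := by
        have h2 : (PM : Subgroup ↥M).map M.subtype ≤ (commutator ↥M).map M.subtype :=
          Subgroup.map_mono h
        rw [hPMcoe, Subgroup.map_subgroupOf_eq_of_le hPM, hmapc] at h2
        exact h2.trans hMML
      intro hdvd
      exact P.not_dvd_index (hdvd.trans (Subgroup.index_dvd_of_le h1))
    · exfalso
      have h1 : L ≤ N.map M.subtype := by
        have h2 : L ≤ ⁅M, M⁆ := by
          rw [← quasisimple_commutator_eq hL.2]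
          exact Subgroup.commutator_mono hLM hLM
        rw [← hmapc] at h2
        exact h2.trans (Subgroup.map_mono hN)
      have h2 : Nat.card L ∣ Nat.card N := by
        have h6 : Nat.card (N.map M.subtype) = Nat.card N :=
          Subgroup.card_map_of_injective M.subtype_injective
        rw [← h6]
        exact Subgroup.card_dvd_of_le h1
      have h3 := hdvdL L hL
      have h4 : p ∣ Nat.card N := h3.trans h2
      have h5 := Nat.dvd_gcd h4 (dvd_refl p)
      rw [hNcop] at h5
      exact hp.out.one_lt.ne' (Nat.dvd_one.mp h5)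

end main

end Cfsg.Agent.H2.CycSyl
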