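import Mathlib

/-!
# Groups with an abelian subgroup of index two

If `M ≤ S` is abelian of index two and `t ∉ M`, then `u ↦ t u t⁻¹ u⁻¹` is a homomorphism `M → S`
whose image is exactly the commutator subgroup of `S`, and `t` inverts this image.
(author: helper2)
-/

set_option autoImplicit false

namespace Cfsg.Agent.H2.IdxTwo

open scoped commutatorElement

variable {S : Type*} [Group S]

/-- the commutator homomorphism `u ↦ t u t⁻¹ u⁻¹` on an abelian normal subgroup -/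
def phi (M : Subgroup S) (hN : M.Normal) (hM : ∀ x ∈ M, ∀ y ∈ M, x * y = y * x) (t : S) :
    M →* S :=
  MonoidHom.mk' (fun u => t * (u : S) * t⁻¹ * (u : S)⁻¹) (by
    intro u v
    have hV : t * (v : S) * t⁻¹ * (v : S)⁻¹ ∈ M :=
      M.mul_mem (hN.conj_mem v v.2 t) (M.inv_mem v.2)
    have h := hM _ hV _ (M.inv_mem u.2)
    calc t * ((u * v : M) : S) * t⁻¹ * ((u * v : M) : S)⁻¹
        = (t * (u : S) * t⁻¹) * ((t * (v : S) * t⁻¹ * (v : S)⁻¹) * (u : S)⁻¹) := by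
          rw [Subgroup.coe_mul]; group
      _ = (t * (u : S) * t⁻¹) * ((u : S)⁻¹ * (t * (v : S) * t⁻¹ * (v : S)⁻¹)) := by rw [h]
      _ = _ := by group)

theorem phi_apply (M : Subgroup S) (hN : M.Normal) (hM : ∀ x ∈ M, ∀ y ∈ M, x * y = y * x) (t : S)
    (u : M) : phi M hN hM t u = t * (u : S) * t⁻¹ * (u : S)⁻¹ := rfl

theorem phi_mem (M : Subgroup S) (hN : M.Normal) (hM : ∀ x ∈ M, ∀ y ∈ M, x * y = y * x) (t : S)
    (u : M) : phi M hN hM t u ∈ M :=
  M.mul_mem (hN.conj_mem u u.2 t) (M.inv_mem u.2)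

/-- powers: `t u^i t⁻¹ u^{-i} = (t u t⁻¹ u⁻¹)^i` -/
theorem comm_pow (M : Subgroup S) (hN : M.Normal) (hM : ∀ x ∈ M, ∀ y ∈ M, x * y = y * x) (t : S)
    (u : S) (hu : u ∈ M) (i : ℕ) :
    t * u ^ i * t⁻¹ * (u ^ i)⁻¹ = (t * u * t⁻¹ * u⁻¹) ^ i := by
  have := map_pow (phi M hN hM t) ⟨u, hu⟩ i
  rw [phi_apply, phi_apply] at this
  simpa using this

variable (M : Subgroup S) (hidx : M.index = 2)

include hidx in
theorem mem_of_not_mem {x y : S} (hx : x ∉ M) (hy : y ∉ M) : x⁻¹ * y ∈ M := by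
  rw [Subgroup.mul_mem_iff_of_index_two hidx]
  constructor
  · intro h; exact absurd (M.inv_mem_iff.mp h) hx
  · intro h; exact absurd h hy

include hidx in
theorem sq_mem (t : S) : t * t ∈ M := by
  rw [Subgroup.mul_mem_iff_of_index_two hidx]

variable (hM : ∀ x ∈ M, ∀ y ∈ M, x * y = y * x) (t : S) (ht : t ∉ M)

include hidx hM ht in
/-- `⁅x, y⁆ = ⁅t, y⁆` for `x ∉ M`, `y ∈ M` -/
theorem comm_eq_of_not_mem {x y : S} (hx : x ∉ M) (hy : y ∈ M) :
    ⁅x, y⁆ = t * y * t⁻¹ * y⁻¹ := by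
  have h1 : t⁻¹ * x ∈ M := mem_of_not_mem M hidx ht hx
  have h2 := hM _ h1 _ hy
  rw [commutatorElement_def]
  calc x * y * x⁻¹ * y⁻¹ = t * ((t⁻¹ * x) * y) * (t⁻¹ * x)⁻¹ * t⁻¹ * y⁻¹ := by group
    _ = t * (y * (t⁻¹ * x)) * (t⁻¹ * x)⁻¹ * t⁻¹ * y⁻¹ := by rw [h2]
    _ = _ := by group

include hidx hM ht in
/-- the commutator subgroup is the image of `phi` -/
theorem commutator_eq_range :
    commutator S = (phi M (Subgroup.normal_of_index_eq_two hidx) hM t).range := by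
  have hN : M.Normal := Subgroup.normal_of_index_eq_two hidx
  apply le_antisymm
  · rw [commutator_def, Subgroup.commutator_le]
    intro x _ y _
    by_cases hx : x ∈ M
    · by_cases hy : y ∈ M
      · have : ⁅x, y⁆ = 1 := by
          rw [commutatorElement_eq_one_iff_mul_comm]
          exact hM x hx y hy
        rw [this]; exact Subgroup.one_mem _
      · have h1 : ⁅y, x⁆ = t * x * t⁻¹ * x⁻¹ := comm_eq_of_not_mem M hidx hM t ht hy hx
        rw [← commutatorElement_inv, h1]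
        exact Subgroup.inv_mem _ ⟨⟨x, hx⟩, rfl⟩
    · by_cases hy : y ∈ M
      · rw [comm_eq_of_not_mem M hidx hM t ht hx hy]
        exact ⟨⟨y, hy⟩, rfl⟩
      · have h1 : x⁻¹ * y ∈ M := mem_of_not_mem M hidx hx hy
        have h2 : x * (x⁻¹ * y) * x⁻¹ ∈ M := hN.conj_mem _ h1 x
        have h3 : ⁅x, y⁆ = ⁅x, x * (x⁻¹ * y) * x⁻¹⁆ := by
          rw [commutatorElement_def, commutatorElement_def]; group
        rw [h3, comm_eq_of_not_mem M hidx hM t ht hx h2]
        exact ⟨⟨_, h2⟩, rfl⟩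
  · rintro _ ⟨u, rfl⟩
    rw [phi_apply, commutator_def]
    exact Subgroup.commutator_mem_commutator (Subgroup.mem_top t) (Subgroup.mem_top (u : S))

include hidx hM ht in
theorem mem_commutator_iff (x : S) :
    x ∈ commutator S ↔ ∃ u ∈ M, x = t * u * t⁻¹ * u⁻¹ := by
  rw [commutator_eq_range M hidx hM t ht]
  constructor
  · rintro ⟨u, rfl⟩
    exact ⟨u, u.2, rfl⟩
  · rintro ⟨u, hu, rfl⟩
    exact ⟨⟨u, hu⟩, rfl⟩

include hidx hM ht in
theorem commutator_le : commutator S ≤ M := by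
  intro x hx
  obtain ⟨u, hu, rfl⟩ := (mem_commutator_iff M hidx hM t ht x).mp hx
  exact M.mul_mem ((Subgroup.normal_of_index_eq_two hidx).conj_mem u hu t) (M.inv_mem hu)

include hidx hM in
/-- `t` inverts each `t u t⁻¹ u⁻¹` -/
theorem conj_comm_eq_inv (u : S) (hu : u ∈ M) :
    t * (t * u * t⁻¹ * u⁻¹) * t⁻¹ = (t * u * t⁻¹ * u⁻¹)⁻¹ := by
  have h1 : t * t ∈ M := sq_mem M hidx t
  have h2 := hM _ h1 _ hu
  calc t * (t * u * t⁻¹ * u⁻¹) * t⁻¹ = ((t * t) * u) * (t * t)⁻¹ * t * u⁻¹ * t⁻¹ := by group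
    _ = (u * (t * t)) * (t * t)⁻¹ * t * u⁻¹ * t⁻¹ := by rw [h2]
    _ = _ := by group

include hidx hM ht in
/-- `t` inverts the commutator subgroup -/
theorem conj_eq_inv_of_mem_commutator (x : S) (hx : x ∈ commutator S) :
    t * x * t⁻¹ = x⁻¹ := by
  obtain ⟨u, hu, rfl⟩ := (mem_commutator_iff M hidx hM t ht x).mp hx
  exact conj_comm_eq_inv M hidx hM t u hu

include hidx hM ht in
/-- if `M` is generated by `a` modulo the centre then the commutator subgroup is cyclic,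
generated by `t a t⁻¹ a⁻¹` -/
theorem commutator_eq_zpowers (a : S) (ha : a ∈ M)
    (hgen : ∀ u ∈ M, ∃ i : ℕ, ∃ z ∈ Subgroup.center S, u = a ^ i * z) :
    commutator S = Subgroup.zpowers (t * a * t⁻¹ * a⁻¹) := by
  have hN : M.Normal := Subgroup.normal_of_index_eq_two hidx
  apply le_antisymm
  · intro x hx
    obtain ⟨u, hu, rfl⟩ := (mem_commutator_iff M hidx hM t ht x).mp hx
    obtain ⟨i, z, hz, rfl⟩ := hgen u hu
    have hz' : t * z = z * t := (Subgroup.mem_center_iff.mp hz t)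
    have : t * (a ^ i * z) * t⁻¹ * (a ^ i * z)⁻¹ = t * a ^ i * t⁻¹ * (a ^ i)⁻¹ := by
      calc t * (a ^ i * z) * t⁻¹ * (a ^ i * z)⁻¹
          = t * a ^ i * (z * t⁻¹) * z⁻¹ * (a ^ i)⁻¹ := by group
        _ = t * a ^ i * (t⁻¹ * z) * z⁻¹ * (a ^ i)⁻¹ := by
            have : z * t⁻¹ = t⁻¹ * z := by
              calc z * t⁻¹ = t⁻¹ * (t * z) * t⁻¹ := by group
                _ = t⁻¹ * (z * t) * t⁻¹ := by rw [hz']
                _ = _ := by group
            rw [this]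
        _ = _ := by group
    rw [this, comm_pow M hN hM t a ha i]
    exact Subgroup.pow_mem _ (Subgroup.mem_zpowers _) _
  · rw [Subgroup.zpowers_le]
    exact (mem_commutator_iff M hidx hM t ht _).mpr ⟨a, ha, rfl⟩

end Cfsg.Agent.H2.IdxTwo
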