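import Mathlib
import Cfsg.Agent.H2.IndexTwoAbelian
import Cfsg.Agent.Lib.Lead.PGroup

/-!
# Taussky's theorem, first half

A group of order `2 ^ n`, `n ≥ 3`, whose commutator subgroup has index four contains an element of
order `2 ^ (n - 1)`.  (author: helper2)
-/

set_option autoImplicit false

namespace Cfsg.Agent.H2.Taussky

open Cfsg.Agent.H2

universe u

/-- a group in which every element squares to one is commutative -/
theorem comm_of_sq_eq_one {S : Type*} [Group S] (h : ∀ x : S, x * x = 1) (x y : S) :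
    x * y = y * x := by
  have h1 : x⁻¹ = x := inv_eq_of_mul_eq_one_right (h x)
  have h2 : y⁻¹ = y := inv_eq_of_mul_eq_one_right (h y)
  have h3 : (x * y)⁻¹ = x * y := inv_eq_of_mul_eq_one_right (h (x * y))
  calc x * y = (x * y)⁻¹ := h3.symm
    _ = y⁻¹ * x⁻¹ := mul_inv_rev _ _
    _ = y * x := by rw [h1, h2]

theorem commutator_eq_bot_of_comm {S : Type*} [Group S] (h : ∀ x y : S, x * y = y * x) :
    commutator S = ⊥ := by
  rw [commutator_eq_bot_iff_center_eq_top, eq_top_iff]
  intro x _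
  rw [Subgroup.mem_center_iff]
  intro g
  exact h g x

theorem comm_of_isCyclic {S : Type*} [Group S] [IsCyclic S] (x y : S) : x * y = y * x := by
  letI := IsCyclic.commGroup (α := S)
  exact mul_comm x y

/-- a non-abelian group of order eight has an element of order four -/
theorem base {S : Type*} [Group S] [Finite S] (hcard : Nat.card S = 8)
    (hidx : (commutator S).index = 4) : ∃ a : S, orderOf a = 4 := by
  by_contra hno
  push_neg at hno
  have hnc : ¬ (∀ x y : S, x * y = y * x) := by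
    intro hc
    rw [commutator_eq_bot_of_comm hc, Subgroup.index_bot, hcard] at hidx
    omega
  apply hnc
  apply comm_of_sq_eq_one
  intro x
  have h8 : orderOf x ∣ 2 ^ 3 := by
    have := orderOf_dvd_natCard x
    rw [hcard] at this
    exact this
  obtain ⟨k, hk, hk2⟩ := (Nat.dvd_prime_pow Nat.prime_two).mp h8
  interval_cases k
  · rw [pow_zero, orderOf_eq_one_iff] at hk2
    rw [hk2, mul_one]
  · have := pow_orderOf_eq_one x
    rw [hk2, pow_one, pow_two] at this
    exact this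
  · exact absurd hk2 (hno x)
  · exfalso
    apply hnc
    haveI : IsCyclic S := isCyclic_of_orderOf_eq_card x (by rw [hk2, hcard]; norm_num)
    exact comm_of_isCyclic

/-- the inductive step -/
theorem step (n : ℕ) (hn : 3 ≤ n) (S : Type u) [Group S] [Finite S]
    (ih : ∀ (Q : Type u) [Group Q] [Finite Q], Nat.card Q = 2 ^ n → (commutator Q).index = 4 →
      ∃ a : Q, orderOf a = 2 ^ (n - 1))
    (hcard : Nat.card S = 2 ^ (n + 1)) (hidx : (commutator S).index = 4) :
    ∃ a : S, orderOf a = 2 ^ n := by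
  haveI : Fact (Nat.Prime 2) := ⟨Nat.prime_two⟩
  have hS : IsPGroup 2 S := IsPGroup.of_card hcard
  have hn1 : n - 1 + 1 = n := by omega
  have hcomm_card : Nat.card (commutator S) = 2 ^ (n - 1) := by
    have h1 := (commutator S).card_mul_index
    rw [hidx, hcard] at h1
    have h2 : 2 ^ (n + 1) = 2 ^ (n - 1) * 4 := by
      have : n + 1 = (n - 1) + 2 := by omega
      rw [this, pow_add]; norm_num
    omega
  have hge4 : 4 ≤ 2 ^ (n - 1) := by
    calc 4 = 2 ^ 2 := by norm_num
      _ ≤ 2 ^ (n - 1) := Nat.pow_le_pow_right (by norm_num) (by omega)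
  have hne : commutator S ≠ ⊥ := by
    intro h
    rw [h, Subgroup.card_bot] at hcomm_card
    omega
  -- a central involution in the commutator subgroup
  obtain ⟨z, hzc, hzZ, hz2⟩ : ∃ z : S, z ∈ commutator S ∧ z ∈ Subgroup.center S ∧
      orderOf z = 2 := by
    have hK := Cfsg.Agent.Lib.Lead.PGroup.normal_inf_center_ne_bot hS (commutator S) hne
    have hKp : IsPGroup 2 (commutator S ⊓ Subgroup.center S : Subgroup S) := hS.to_subgroup _
    haveI : Nontrivial (commutator S ⊓ Subgroup.center S : Subgroup S) :=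
      (Subgroup.nontrivial_iff_ne_bot _).mpr hK
    obtain ⟨m, hm0, hm⟩ := hKp.nontrivial_iff_card.mp inferInstance
    have h2 : 2 ∣ Nat.card (commutator S ⊓ Subgroup.center S : Subgroup S) := by
      rw [hm]; exact dvd_pow_self _ (ne_of_gt hm0)
    obtain ⟨z0, hz0⟩ := exists_prime_orderOf_dvd_card' 2 h2
    refine ⟨(z0 : S), (Subgroup.mem_inf.mp z0.2).1, (Subgroup.mem_inf.mp z0.2).2, ?_⟩
    rw [Subgroup.orderOf_coe]
    exact hz0
  have hz1 : z ≠ 1 := by
    intro h
    rw [h, orderOf_one] at hz2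
    omega
  have hcen : ∀ w ∈ Subgroup.center S, ∀ g : S, Commute w g := fun w hw g =>
    (Subgroup.mem_center_iff.mp hw g).symm
  obtain ⟨Z, hZdef⟩ : ∃ Z : Subgroup S, Z = Subgroup.zpowers z := ⟨_, rfl⟩
  have hZcard : Nat.card Z = 2 := by rw [hZdef, Nat.card_zpowers, hz2]
  have hZle : Z ≤ Subgroup.center S := by rw [hZdef]; exact Subgroup.zpowers_le.mpr hzZ
  have hZcomm : Z ≤ commutator S := by rw [hZdef]; exact Subgroup.zpowers_le.mpr hzc
  haveI hZn : Z.Normal := ⟨fun x hx g => by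
    rw [Subgroup.mem_center_iff.mp (hZle hx) g, mul_inv_cancel_right]; exact hx⟩
  have hZsq : ∀ w ∈ Z, w * w = 1 := by
    intro w hw
    have := pow_card_eq_one' (G := Z) (x := ⟨w, hw⟩)
    rw [hZcard] at this
    have h2 := congrArg Subtype.val this
    rw [Subgroup.coe_pow, Subgroup.coe_one] at h2
    rw [← pow_two]; exact h2
  have hQcard : Nat.card (S ⧸ Z) = 2 ^ n := by
    have h1 := Subgroup.card_eq_card_quotient_mul_card_subgroup Z
    rw [hcard, hZcard, pow_succ] at h1
    omega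
  have hQidx : (commutator (S ⧸ Z)).index = 4 := by
    have h1 : commutator (S ⧸ Z) = (commutator S).map (QuotientGroup.mk' Z) := by
      rw [commutator_def, commutator_def, Subgroup.map_commutator, ← MonoidHom.range_eq_map,
        MonoidHom.range_eq_top.mpr (QuotientGroup.mk'_surjective Z)]
    rw [h1, Subgroup.index_map_eq _ (QuotientGroup.mk'_surjective Z)
      (by rw [QuotientGroup.ker_mk']; exact hZcomm)]
    exact hidx
  obtain ⟨abar, habar⟩ := ih (S ⧸ Z) hQcard hQidx
  obtain ⟨a, rfl⟩ := QuotientGroup.mk'_surjective Z abar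
  have hdvd : 2 ^ (n - 1) ∣ orderOf a := by
    rw [← habar]; exact orderOf_map_dvd (QuotientGroup.mk' Z) a
  have hpowZ : ∀ i : ℕ, a ^ i ∈ Z ↔ 2 ^ (n - 1) ∣ i := by
    intro i
    rw [← QuotientGroup.eq_one_iff, QuotientGroup.mk_pow, ← habar]
    exact (orderOf_dvd_iff_pow_eq_one).symm
  have hpow : a ^ (2 ^ n) = 1 := by
    have h1 : a ^ (2 ^ (n - 1)) ∈ Z := (hpowZ _).mpr dvd_rfl
    have h2 := hZsq _ h1
    rw [← pow_add, ← two_mul, ← pow_succ', hn1] at h2
    exact h2
  obtain ⟨j, hj, hj2⟩ := (Nat.dvd_prime_pow Nat.prime_two).mp (orderOf_dvd_of_pow_eq_one hpow)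
  have hj' : n - 1 ≤ j := by
    rw [hj2] at hdvd
    exact (Nat.pow_dvd_pow_iff_le_right (by norm_num)).mp hdvd
  rcases Nat.lt_or_ge j n with hlt | hge
  swap
  · have : j = n := le_antisymm hj hge
    exact ⟨a, by rw [hj2, this]⟩
  exfalso
  have hjeq : j = n - 1 := by omega
  rw [hjeq] at hj2
  -- `⟨a⟩ ∩ Z = 1`
  have hAZ : ∀ i : ℕ, a ^ i ∈ Z → a ^ i = 1 := by
    intro i hi
    have := (hpowZ i).mp hi
    rw [← hj2] at this
    exact orderOf_dvd_iff_pow_eq_one.mp this
  obtain ⟨M, hMdef⟩ : ∃ M : Subgroup S, M = (Subgroup.zpowers (QuotientGroup.mk' Z a)).comap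
      (QuotientGroup.mk' Z) := ⟨_, rfl⟩
  have hMidx : M.index = 2 := by
    rw [hMdef, Subgroup.index_comap_of_surjective _ (QuotientGroup.mk'_surjective Z)]
    have h1 := (Subgroup.zpowers (QuotientGroup.mk' Z a)).card_mul_index
    rw [Nat.card_zpowers, habar, hQcard] at h1
    have h2 : 2 ^ n = 2 ^ (n - 1) * 2 := by rw [← pow_succ, hn1]
    rw [h2] at h1
    exact Nat.eq_of_mul_eq_mul_left (by positivity) h1
  have haM : a ∈ M := by
    rw [hMdef, Subgroup.mem_comap]; exact Subgroup.mem_zpowers _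
  have hgenZ : ∀ u ∈ M, ∃ i : ℕ, ∃ w ∈ Z, u = a ^ i * w := by
    intro u hu
    rw [hMdef, Subgroup.mem_comap] at hu
    have h1 := (isOfFinOrder_of_finite (QuotientGroup.mk' Z a)).mem_powers_iff_mem_zpowers.mpr hu
    obtain ⟨i, hi⟩ := Submonoid.mem_powers_iff _ _ |>.mp h1
    refine ⟨i, (a ^ i)⁻¹ * u, ?_, by group⟩
    rw [← QuotientGroup.eq]
    rw [QuotientGroup.mk_pow]
    exact hi
  have hgen : ∀ u ∈ M, ∃ i : ℕ, ∃ w ∈ Subgroup.center S, u = a ^ i * w := by
    intro u hu
    obtain ⟨i, w, hw, h⟩ := hgenZ u hu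
    exact ⟨i, w, hZle hw, h⟩
  have hMab : ∀ x ∈ M, ∀ y ∈ M, x * y = y * x := by
    intro x hx y hy
    obtain ⟨i, w1, hw1, rfl⟩ := hgen x hx
    obtain ⟨k, w2, hw2, rfl⟩ := hgen y hy
    have h1 : Commute (a ^ i) (a ^ k) := (Commute.refl a).pow_pow i k
    have h2 : Commute (a ^ i) w2 := (hcen w2 hw2 _).symm
    have h3 : Commute w1 (a ^ k) := hcen w1 hw1 _
    have h4 : Commute w1 w2 := hcen w1 hw1 _
    exact ((h1.mul_right h2).mul_left (h3.mul_right h4)).eq
  obtain ⟨t, ht⟩ : ∃ t : S, t ∉ M := by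
    by_contra hcon
    push_neg at hcon
    have : M = ⊤ := (Subgroup.eq_top_iff' M).mpr hcon
    rw [this, Subgroup.index_top] at hMidx
    omega
  have hcz := IdxTwo.commutator_eq_zpowers M hMidx hMab t ht a haM hgen
  obtain ⟨c, hcdef⟩ : ∃ c : S, c = t * a * t⁻¹ * a⁻¹ := ⟨_, rfl⟩
  rw [← hcdef] at hcz
  have hco : orderOf c = 2 ^ (n - 1) := by
    rw [← Nat.card_zpowers, ← hcz, hcomm_card]
  have hzc' : z ∈ Subgroup.zpowers c := by rw [← hcz]; exact hzc
  obtain ⟨k, hk⟩ := Submonoid.mem_powers_iff _ _ |>.mp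
    ((isOfFinOrder_of_finite c).mem_powers_iff_mem_zpowers.mpr hzc')
  have hzz : z * z = 1 := by
    have := pow_orderOf_eq_one z
    rw [hz2, pow_two] at this
    exact this
  have hk2 : 2 ∣ k := by
    have h1 : c ^ (2 * k) = 1 := by
      rw [two_mul, pow_add, hk]; exact hzz
    have h2 := orderOf_dvd_of_pow_eq_one h1
    rw [hco] at h2
    have h3 : 2 ^ (n - 1) = 2 * (2 * 2 ^ (n - 3)) := by
      have : n - 1 = (n - 3) + 1 + 1 := by omega
      rw [this, pow_succ, pow_succ]; ring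
    rw [h3] at h2
    have h4 : 2 * 2 ^ (n - 3) ∣ k := Nat.dvd_of_mul_dvd_mul_left (by norm_num) h2
    exact dvd_trans (dvd_mul_right 2 _) h4
  obtain ⟨k', rfl⟩ := hk2
  have hdM : c ^ k' ∈ M := by
    have h1 : c ^ k' ∈ commutator S := by
      rw [hcz]; exact Subgroup.pow_mem _ (Subgroup.mem_zpowers c) _
    exact IdxTwo.commutator_le M hMidx hMab t ht h1
  obtain ⟨i, w, hw, hd⟩ := hgenZ _ hdM
  have hzpow : z = a ^ (2 * i) := by
    have hcw : Commute w (a ^ i) := hcen w (hZle hw) _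
    calc z = c ^ k' * c ^ k' := by rw [← hk, two_mul, pow_add]
      _ = (a ^ i * w) * (a ^ i * w) := by rw [hd]
      _ = a ^ i * (w * a ^ i) * w := by group
      _ = a ^ i * (a ^ i * w) * w := by rw [hcw.eq]
      _ = a ^ i * a ^ i * (w * w) := by group
      _ = a ^ (2 * i) := by rw [hZsq w hw, mul_one, ← pow_add, two_mul]
  have hzZ' : z ∈ Z := by rw [hZdef]; exact Subgroup.mem_zpowers z
  rw [hzpow] at hzZ'
  have := hAZ _ hzZ'
  rw [← hzpow] at this
  exact hz1 this

/-- **Taussky**: a group of order `2 ^ n` (`n ≥ 3`) whose commutator subgroup has index four has an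
element of order `2 ^ (n - 1)`. -/
theorem exists_orderOf (n : ℕ) (hn : 3 ≤ n) : ∀ (S : Type u) [Group S] [Finite S],
    Nat.card S = 2 ^ n → (commutator S).index = 4 → ∃ a : S, orderOf a = 2 ^ (n - 1) := by
  induction n, hn using Nat.le_induction with
  | base =>
    intro S _ _ hcard hidx
    exact base (by rw [hcard]; norm_num) hidx
  | succ n hn ih =>
    intro S _ _ hcard hidx
    exact step n hn S ih hcard hidx

end Cfsg.Agent.H2.Taussky
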