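import Mathlib
import Cfsg.Agent.H2.Taussky
import Cfsg.Agent.H2.UniqueOrderP
import Cfsg.Agent.Lib.Helper5.DihedralRecog

/-!
# 2-groups whose commutator subgroup has index four

Structure (Taussky): they are dihedral, semidihedral or generalized quaternion.  (author: helper2)
-/

set_option autoImplicit false

namespace Cfsg.Agent.H2.MaxClassTwo

open Cfsg.Agent.H2

universe u

section struct

variable {S : Type u} [Group S] [Finite S] (n : ℕ) (hn : 3 ≤ n) (hcard : Nat.card S = 2 ^ n)
  (hidx : (commutator S).index = 4) (a : S) (ha : orderOf a = 2 ^ (n - 1))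

include hcard ha hn in
theorem index_zpowers : (Subgroup.zpowers a).index = 2 := by
  have h1 := (Subgroup.zpowers a).card_mul_index
  rw [Nat.card_zpowers, ha, hcard] at h1
  have h2 : 2 ^ n = 2 ^ (n - 1) * 2 := by
    rw [← pow_succ]; congr 1; omega
  rw [h2] at h1
  exact Nat.eq_of_mul_eq_mul_left (by positivity) h1

omit [Finite S] in
theorem zpowers_comm : ∀ x ∈ Subgroup.zpowers a, ∀ y ∈ Subgroup.zpowers a, x * y = y * x := by
  intro x hx y hy
  obtain ⟨i, rfl⟩ := Subgroup.mem_zpowers_iff.mp hx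
  obtain ⟨j, rfl⟩ := Subgroup.mem_zpowers_iff.mp hy
  exact ((Commute.refl a).zpow_zpow i j).eq

theorem zpowers_gen : ∀ u ∈ Subgroup.zpowers a, ∃ i : ℕ, ∃ w ∈ Subgroup.center S,
    u = a ^ i * w := by
  intro u hu
  obtain ⟨i, hi⟩ := Submonoid.mem_powers_iff _ _ |>.mp
    ((isOfFinOrder_of_finite a).mem_powers_iff_mem_zpowers.mpr hu)
  exact ⟨i, 1, Subgroup.one_mem _, by rw [mul_one, hi]⟩

include hcard hidx hn in
theorem card_commutator : Nat.card (commutator S) = 2 ^ (n - 2) := by
  have h1 := (commutator S).card_mul_index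
  rw [hidx, hcard] at h1
  have h2 : 2 ^ n = 2 ^ (n - 2) * 4 := by
    have : n = (n - 2) + 2 := by omega
    conv_lhs => rw [this, pow_add]
    norm_num
  omega

variable (b : S) (hb : b ∉ Subgroup.zpowers a)

include hcard ha hn hb in
theorem commutator_eq : commutator S = Subgroup.zpowers (b * a * b⁻¹ * a⁻¹) :=
  IdxTwo.commutator_eq_zpowers _ (index_zpowers n hn hcard a ha) (zpowers_comm a) b hb a
    (Subgroup.mem_zpowers a) (zpowers_gen a)

include hcard hidx ha hn hb in
theorem orderOf_comm : orderOf (b * a * b⁻¹ * a⁻¹) = 2 ^ (n - 2) := by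
  rw [← Nat.card_zpowers, ← commutator_eq n hn hcard a ha b hb, card_commutator n hn hcard hidx]

include ha hn in
theorem z_sq : a ^ (2 ^ (n - 2)) * a ^ (2 ^ (n - 2)) = 1 := by
  rw [← pow_add, ← two_mul, ← pow_succ']
  have : n - 2 + 1 = n - 1 := by omega
  rw [this, ← ha]
  exact pow_orderOf_eq_one a

include hcard hidx ha hn hb in
/-- the centralizer of `b` in `⟨a⟩` is `{1, z}` -/
theorem fixed (u : S) (hu : u ∈ Subgroup.zpowers a) (hfix : b * u * b⁻¹ = u) :
    u = 1 ∨ u = a ^ (2 ^ (n - 2)) := by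
  have hA2 := index_zpowers n hn hcard a ha
  obtain ⟨i, hi⟩ := Submonoid.mem_powers_iff _ _ |>.mp
    ((isOfFinOrder_of_finite a).mem_powers_iff_mem_zpowers.mpr hu)
  have h1 := IdxTwo.comm_pow _ (Subgroup.normal_of_index_eq_two hA2) (zpowers_comm a) b a
    (Subgroup.mem_zpowers a) i
  rw [hi, hfix, mul_inv_cancel] at h1
  have h2 := orderOf_dvd_of_pow_eq_one h1.symm
  rw [orderOf_comm n hn hcard hidx a ha b hb] at h2
  obtain ⟨j, rfl⟩ := h2
  rw [pow_mul] at hi
  rcases Nat.even_or_odd' j with ⟨k, rfl | rfl⟩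
  · left
    rw [← hi, pow_mul, pow_two, z_sq n hn a ha, one_pow]
  · right
    rw [← hi, pow_succ, pow_mul, pow_two, z_sq n hn a ha, one_pow, one_mul]

include hcard hidx ha hn hb in
theorem inv_or (hA2 : (Subgroup.zpowers a).index = 2) :
    a * (b * a * b⁻¹) = 1 ∨ a * (b * a * b⁻¹) = a ^ (2 ^ (n - 2)) := by
  have hN := Subgroup.normal_of_index_eq_two hA2
  have hc : b * a * b⁻¹ ∈ Subgroup.zpowers a := hN.conj_mem a (Subgroup.mem_zpowers a) b
  apply fixed n hn hcard hidx a ha b hb
  · exact Subgroup.mul_mem _ (Subgroup.mem_zpowers a) hc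
  · have h1 : b * b ∈ Subgroup.zpowers a := IdxTwo.sq_mem _ hA2 b
    have h2 := zpowers_comm a _ h1 a (Subgroup.mem_zpowers a)
    have h3 := zpowers_comm a _ hc a (Subgroup.mem_zpowers a)
    calc b * (a * (b * a * b⁻¹)) * b⁻¹ = (b * a * b⁻¹) * ((b * b) * a * (b * b)⁻¹) := by group
      _ = (b * a * b⁻¹) * (a * (b * b) * (b * b)⁻¹) := by rw [h2]
      _ = (b * a * b⁻¹) * a := by group
      _ = a * (b * a * b⁻¹) := h3

include hcard hidx ha hn hb in
theorem sq_or (hA2 : (Subgroup.zpowers a).index = 2) :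
    b * b = 1 ∨ b * b = a ^ (2 ^ (n - 2)) := by
  apply fixed n hn hcard hidx a ha b hb
  · exact IdxTwo.sq_mem _ hA2 b
  · group

include hcard hidx ha hn hb in
/-- `a` does not commute with `b` -/
theorem not_comm : b * a * b⁻¹ ≠ a := by
  intro h
  have h1 : b * a * b⁻¹ * a⁻¹ = 1 := by rw [h, mul_inv_cancel]
  have h2 := orderOf_comm n hn hcard hidx a ha b hb
  rw [h1, orderOf_one] at h2
  have : 2 ^ 1 ≤ 2 ^ (n - 2) := Nat.pow_le_pow_right (by norm_num) (by omega)
  omega

end struct

section classify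

variable {S : Type u} [Group S] [Finite S]

/-- **Taussky**: a group of order `2 ^ n`, `n ≥ 3`, whose commutator subgroup has index four is
dihedral, semidihedral or generalized quaternion. -/
theorem classify (n : ℕ) (hn : 3 ≤ n) (hcard : Nat.card S = 2 ^ n)
    (hidx : (commutator S).index = 4) :
    Nonempty (S ≃* DihedralGroup (2 ^ (n - 1))) ∨
    (4 ≤ n ∧ ∃ a b : S, orderOf a = 2 ^ (n - 1) ∧ orderOf b = 2 ∧
      b * a * b⁻¹ = a ^ (2 ^ (n - 2) - 1)) ∨
    Nonempty (S ≃* QuaternionGroup (2 ^ (n - 2))) := by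
  obtain ⟨a, ha⟩ := Taussky.exists_orderOf n hn S hcard hidx
  have hA2 := index_zpowers n hn hcard a ha
  obtain ⟨b, hb⟩ : ∃ b : S, b ∉ Subgroup.zpowers a := by
    by_contra hcon
    push_neg at hcon
    have : Subgroup.zpowers a = ⊤ := (Subgroup.eq_top_iff' _).mpr hcon
    rw [this, Subgroup.index_top] at hA2
    omega
  have hn1 : n - 2 + 1 = n - 1 := by omega
  have hz2 := z_sq n hn a ha
  have ha2 : a ^ (2 * 2 ^ (n - 2)) = 1 := by
    rw [← pow_succ', hn1, ← ha]; exact pow_orderOf_eq_one a
  have hb1 : b ≠ 1 := fun h => hb (h ▸ Subgroup.one_mem _)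
  rcases inv_or n hn hcard hidx a ha b hb hA2 with hw | hw
  · -- `b` inverts `a`
    have hinv : b * a * b⁻¹ = a⁻¹ := (inv_eq_of_mul_eq_one_right hw).symm
    rcases sq_or n hn hcard hidx a ha b hb hA2 with hbb | hbb
    · -- dihedral
      left
      have hba : (b * a) * (b * a) = 1 := by
        calc (b * a) * (b * a) = (b * a * b⁻¹) * (b * b) * a := by group
          _ = 1 := by rw [hinv, hbb, mul_one, inv_mul_cancel]
      have hba1 : b * a ≠ 1 := by
        intro h
        apply hb
        have : b = a⁻¹ := eq_inv_of_mul_eq_one_left h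
        rw [this]; exact Subgroup.inv_mem _ (Subgroup.mem_zpowers a)
      apply Cfsg.Agent.Lib.Helper5.DihedralRecog.dihedral_of_involutions (2 ^ (n - 1))
        (by rw [hcard, ← pow_succ']; congr 1; omega) b (b * a)
      · exact orderOf_eq_prime (by rw [pow_two]; exact hbb) hb1
      · exact orderOf_eq_prime (by rw [pow_two]; exact hba) hba1
      · intro h
        have : a = 1 := by
          calc a = b⁻¹ * (b * a) := by group
            _ = b⁻¹ * b := by rw [← h]
            _ = 1 := by group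
        rw [this, orderOf_one] at ha
        have : 0 < 2 ^ (n - 1) := by positivity
        have : 2 ^ 1 ≤ 2 ^ (n - 1) := Nat.pow_le_pow_right (by norm_num) (by omega)
        omega
      · have : b * (b * a) = a := by rw [← mul_assoc, hbb, one_mul]
        rw [this, ha]
    · -- quaternion
      right; right
      haveI : NeZero (2 ^ (n - 2)) := ⟨by positivity⟩
      have hxy : a * b = b * a⁻¹ := by
        have h1 : b * a⁻¹ * b⁻¹ = a := by
          calc b * a⁻¹ * b⁻¹ = (b * a * b⁻¹)⁻¹ := by group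
            _ = a := by rw [hinv, inv_inv]
        calc a * b = (b * a⁻¹ * b⁻¹) * b := by rw [h1]
          _ = b * a⁻¹ := by group
      obtain ⟨f, hfa, hfxa⟩ := UOP.quatHom (2 ^ (n - 2)) a b ha2 hbb hxy
      have hinj := UOP.quatHom_injective (2 ^ (n - 2)) a b f hfa hfxa
        (by rw [ha, ← pow_succ', hn1]) hb
      have hbij : Function.Bijective f := by
        apply hinj.bijective_of_nat_card_le
        rw [Nat.card_eq_fintype_card (α := QuaternionGroup (2 ^ (n - 2))), QuaternionGroup.card,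
          hcard]
        have : 2 ^ n = 4 * 2 ^ (n - 2) := by
          have : n = (n - 2) + 2 := by omega
          conv_lhs => rw [this, pow_add]
          ring
        omega
      exact ⟨(MulEquiv.ofBijective f hbij).symm⟩
  · -- semidihedral
    right; left
    have hconj : b * a * b⁻¹ = a⁻¹ * a ^ (2 ^ (n - 2)) := by
      rw [← hw]; group
    have hn4 : 4 ≤ n := by
      by_contra hlt
      have hn3 : n = 3 := by omega
      subst hn3
      apply not_comm 3 hn hcard hidx a ha b hb
      rw [hconj]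
      norm_num
      rw [pow_two, ← mul_assoc, inv_mul_cancel, one_mul]
    have hpow : a⁻¹ * a ^ (2 ^ (n - 2)) = a ^ (2 ^ (n - 2) - 1) := by
      have h2 : 1 ≤ 2 ^ (n - 2) := Nat.one_le_two_pow
      have : 2 ^ (n - 2) = (2 ^ (n - 2) - 1) + 1 := by omega
      conv_lhs => rw [this, pow_succ']
      group
    refine ⟨hn4, ?_⟩
    rcases sq_or n hn hcard hidx a ha b hb hA2 with hbb | hbb
    · refine ⟨a, b, ha, orderOf_eq_prime (by rw [pow_two]; exact hbb) hb1, ?_⟩
      rw [hconj, hpow]
    · refine ⟨a, b * a, ha, ?_, ?_⟩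
      · apply orderOf_eq_prime
        · rw [pow_two]
          calc (b * a) * (b * a) = (b * a * b⁻¹) * (b * b) * a := by group
            _ = a⁻¹ * (a ^ (2 ^ (n - 2)) * a ^ (2 ^ (n - 2))) * a := by rw [hconj, hbb]; group
            _ = 1 := by rw [hz2]; group
        · intro h
          apply hb
          have : b = a⁻¹ := eq_inv_of_mul_eq_one_left h
          rw [this]; exact Subgroup.inv_mem _ (Subgroup.mem_zpowers a)
      · rw [← hpow, ← hconj]; group

end classify

end Cfsg.Agent.H2.MaxClassTwo
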