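import Mathlib
import Cfsg.Agent.H2.MaxClassTwo

/-!
# 2-groups of maximal class

A group of order `2 ^ n` (`n ≥ 3`) has nilpotency class `n - 1` iff its commutator quotient is a
Klein four-group; then it has a cyclic subgroup of index two and its central quotient is dihedral.
(author: helper2)
-/

set_option autoImplicit false

namespace Cfsg.Agent.H2.MaxClassLCS

open Cfsg.Agent.H2 Cfsg.Agent.H2.MaxClassTwo
open scoped commutatorElement

universe u

/-- a finite `p`-group with cyclic commutator quotient is commutative -/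
theorem comm_of_cyclic_abelianization_aux (p : ℕ) [Fact p.Prime] :
    ∀ (c : ℕ) (G : Type u) [Group G] [Finite G],
    Nat.card G = c → IsPGroup p G → IsCyclic (Abelianization G) → ∀ x y : G, x * y = y * x := by
  intro c
  induction c using Nat.strong_induction_on with
  | _ c ih =>
    intro G _ _ hc hG hcyc
    by_cases htriv : Subsingleton G
    · intro x y
      exact congrArg₂ _ (Subsingleton.elim x y) (Subsingleton.elim y x)
    haveI : Nontrivial G := not_subsingleton_iff_nontrivial.mp htriv
    have hZ : Nontrivial (Subgroup.center G) := hG.center_nontrivial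
    have hlt : Nat.card (G ⧸ Subgroup.center G) < c := by
      have h1 := Subgroup.card_eq_card_quotient_mul_card_subgroup (Subgroup.center G)
      have h2 : 1 < Nat.card (Subgroup.center G) := Finite.one_lt_card
      have h3 : 0 < Nat.card (G ⧸ Subgroup.center G) := Nat.card_pos
      rw [hc] at h1
      nlinarith
    have hQ : IsPGroup p (G ⧸ Subgroup.center G) := hG.to_quotient _
    haveI : IsCyclic (Abelianization (G ⧸ Subgroup.center G)) := by
      apply isCyclic_of_surjective (Abelianization.map (QuotientGroup.mk' (Subgroup.center G)))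
      intro q
      obtain ⟨q', rfl⟩ := QuotientGroup.mk_surjective q
      obtain ⟨g, rfl⟩ := QuotientGroup.mk_surjective q'
      exact ⟨Abelianization.of g, rfl⟩
    have hQc := ih _ hlt (G ⧸ Subgroup.center G) rfl hQ inferInstance
    haveI : IsCyclic (G ⧸ Subgroup.center G) := by
      apply isCyclic_of_injective (Abelianization.of (G := G ⧸ Subgroup.center G))
      rw [← MonoidHom.ker_eq_bot_iff, Abelianization.ker_of]
      exact Taussky.commutator_eq_bot_of_comm hQc
    exact commutative_of_cyclic_center_quotient (QuotientGroup.mk' (Subgroup.center G))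
      (by rw [QuotientGroup.ker_mk'])

theorem comm_of_cyclic_abelianization {G : Type u} [Group G] [Finite G] (p : ℕ) [Fact p.Prime]
    (hG : IsPGroup p G) (hc : IsCyclic (G ⧸ commutator G)) (x y : G) : x * y = y * x :=
  comm_of_cyclic_abelianization_aux p _ G rfl hG hc x y

section lcs

variable {X : Type u} [Group X]

theorem lcs_stable (k : ℕ)
    (h : Subgroup.lowerCentralSeries (⊤ : Subgroup X) (k + 1) = Subgroup.lowerCentralSeries ⊤ k) (j : ℕ) :
    Subgroup.lowerCentralSeries (⊤ : Subgroup X) (k + j) = Subgroup.lowerCentralSeries ⊤ k := by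
  induction j with
  | zero => rfl
  | succ j ih =>
    rw [← add_assoc, Subgroup.lowerCentralSeries_succ, ih, ← Subgroup.lowerCentralSeries_succ, h]

variable [Finite X] [Group.IsNilpotent X]

theorem two_pow_le_card_lcs (j : ℕ) (hj : j ≤ Group.nilpotencyClass X) :
    2 ^ j ≤ Nat.card (Subgroup.lowerCentralSeries (⊤ : Subgroup X) (Group.nilpotencyClass X - j)) := by
  induction j with
  | zero => simpa using Nat.card_pos
  | succ j ih =>
    have ih' := ih (by omega)
    obtain ⟨k, hk⟩ : ∃ k, k = Group.nilpotencyClass X - (j + 1) := ⟨_, rfl⟩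
    have hk1 : Group.nilpotencyClass X - j = k + 1 := by omega
    rw [← hk]
    rw [hk1] at ih'
    have hle : Subgroup.lowerCentralSeries (⊤ : Subgroup X) (k + 1) ≤ Subgroup.lowerCentralSeries ⊤ k :=
      Subgroup.lowerCentralSeries_antitone _ (Nat.le_succ k)
    have hne : Subgroup.lowerCentralSeries (⊤ : Subgroup X) (k + 1) ≠ Subgroup.lowerCentralSeries ⊤ k := by
      intro h
      have h1 := lcs_stable k h (Group.nilpotencyClass X - k)
      have h2 : k + (Group.nilpotencyClass X - k) = Group.nilpotencyClass X := by omega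
      rw [h2, Subgroup.lowerCentralSeries_nilpotencyClass] at h1
      have h3 := Subgroup.lowerCentralSeries_eq_bot_iff_nilpotencyClass_le.mp h1.symm
      omega
    have hdvd : Nat.card (Subgroup.lowerCentralSeries (⊤ : Subgroup X) (k + 1)) ∣
        Nat.card (Subgroup.lowerCentralSeries (⊤ : Subgroup X) k) := Subgroup.card_dvd_of_le hle
    have hlt : Nat.card (Subgroup.lowerCentralSeries (⊤ : Subgroup X) (k + 1)) <
        Nat.card (Subgroup.lowerCentralSeries (⊤ : Subgroup X) k) := by
      exact lt_of_le_of_ne (Subgroup.card_le_of_le hle)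
        (fun h => hne (Subgroup.eq_of_le_of_card_ge hle h.ge))
    obtain ⟨q, hq⟩ := hdvd
    have hq2 : 2 ≤ q := by
      rcases q with _ | _ | q
      · rw [hq] at hlt; omega
      · rw [hq] at hlt; omega
      · omega
    calc 2 ^ (j + 1) = 2 ^ j * 2 := pow_succ 2 j
      _ ≤ Nat.card (Subgroup.lowerCentralSeries (⊤ : Subgroup X) (k + 1)) * q := Nat.mul_le_mul ih' hq2
      _ = _ := hq.symm

end lcs

section main

variable {X : Type u} [Group X] [Finite X]

/-- maximal class implies Klein four commutator quotient -/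
theorem isKleinFour_of_class (n : ℕ) (hn : 3 ≤ n) (hX : Nat.card X = 2 ^ n)
    (hc : Group.nilpotencyClass X = n - 1) : IsKleinFour (X ⧸ commutator X) := by
  haveI : Fact (Nat.Prime 2) := ⟨Nat.prime_two⟩
  have hP : IsPGroup 2 X := IsPGroup.of_card hX
  haveI : Group.IsNilpotent X := hP.isNilpotent
  have h1 := two_pow_le_card_lcs (X := X) (n - 2) (by omega)
  have h2 : Group.nilpotencyClass X - (n - 2) = 1 := by omega
  rw [h2] at h1
  have h1' : 2 ^ (n - 2) ≤ Nat.card (commutator X) := h1
  have h3 := (commutator X).card_mul_index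
  rw [hX] at h3
  have hncyc : ¬ IsCyclic (X ⧸ commutator X) := by
    intro hcyc
    have hcomm := comm_of_cyclic_abelianization 2 hP hcyc
    have h4 : Subgroup.lowerCentralSeries (⊤ : Subgroup X) 1 = ⊥ :=
      Taussky.commutator_eq_bot_of_comm hcomm
    have h5 := Subgroup.lowerCentralSeries_eq_bot_iff_nilpotencyClass_le.mp h4
    omega
  obtain ⟨e, he, he2⟩ := (Nat.dvd_prime_pow Nat.prime_two).mp (Dvd.intro_left _ h3)
  have hcardQ : Nat.card (X ⧸ commutator X) = 2 ^ e := he2
  have he_le : e ≤ 2 := by
    by_contra hlt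
    have h5 : 8 ≤ 2 ^ e := by
      calc 8 = 2 ^ 3 := by norm_num
        _ ≤ 2 ^ e := Nat.pow_le_pow_right (by norm_num) (by omega)
    have h6 : 2 ^ n = 2 ^ (n - 2) * 4 := by
      have : n = (n - 2) + 2 := by omega
      conv_lhs => rw [this, pow_add]
      norm_num
    rw [he2, h6] at h3
    have h7 := Nat.mul_le_mul h1' h5
    rw [h3] at h7
    have h8 : 0 < 2 ^ (n - 2) := by positivity
    linarith
  have he_eq : e = 2 := by
    interval_cases e
    · exfalso
      apply hncyc
      haveI : Subsingleton (X ⧸ commutator X) := by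
        rw [← Finite.card_le_one_iff_subsingleton, hcardQ]; norm_num
      exact isCyclic_of_subsingleton
    · exfalso
      apply hncyc
      exact isCyclic_of_prime_card (p := 2) (by rw [hcardQ]; norm_num)
    · rfl
  subst he_eq
  have hcard4 : Nat.card (X ⧸ commutator X) = 4 := by rw [hcardQ]; norm_num
  refine ⟨hcard4, ?_⟩
  have hsq : ∀ x : X ⧸ commutator X, x ^ 2 = 1 := by
    intro x
    have h8 : orderOf x ∣ 2 ^ 2 := by
      have := orderOf_dvd_natCard x
      rw [hcardQ] at this
      exact this
    obtain ⟨k, hk, hk2⟩ := (Nat.dvd_prime_pow Nat.prime_two).mp h8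
    interval_cases k
    · rw [pow_zero, orderOf_eq_one_iff] at hk2
      rw [hk2, one_pow]
    · have := pow_orderOf_eq_one x
      rw [hk2, pow_one] at this
      exact this
    · exfalso
      apply hncyc
      exact isCyclic_of_orderOf_eq_card x (by rw [hk2, hcardQ])
  have hdvd : Monoid.exponent (X ⧸ commutator X) ∣ 2 :=
    Monoid.exponent_dvd_of_forall_pow_eq_one hsq
  rcases (Nat.dvd_prime Nat.prime_two).mp hdvd with h | h
  · exfalso
    rw [Monoid.exp_eq_one_iff] at h
    rw [← Finite.card_le_one_iff_subsingleton, hcard4] at h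
    omega
  · exact h

/-- the lower central series of a `2`-group whose commutator subgroup has index four -/
theorem class_of_index (n : ℕ) (hn : 3 ≤ n) (hX : Nat.card X = 2 ^ n)
    (hidx : (commutator X).index = 4) : Group.nilpotencyClass X = n - 1 := by
  haveI : Fact (Nat.Prime 2) := ⟨Nat.prime_two⟩
  have hP : IsPGroup 2 X := IsPGroup.of_card hX
  haveI : Group.IsNilpotent X := hP.isNilpotent
  obtain ⟨a, ha⟩ := Taussky.exists_orderOf n hn X hX hidx
  have hA2 := index_zpowers n hn hX a ha
  obtain ⟨b, hb⟩ : ∃ b : X, b ∉ Subgroup.zpowers a := by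
    by_contra hcon
    push_neg at hcon
    have : Subgroup.zpowers a = ⊤ := (Subgroup.eq_top_iff' _).mpr hcon
    rw [this, Subgroup.index_top] at hA2
    omega
  obtain ⟨c, hcdef⟩ : ∃ c : X, c = b * a * b⁻¹ * a⁻¹ := ⟨_, rfl⟩
  have hcomm : commutator X = Subgroup.zpowers c := by
    rw [hcdef]; exact commutator_eq n hn hX a ha b hb
  have hco : orderOf c = 2 ^ (n - 2) := by
    rw [hcdef]; exact orderOf_comm n hn hX hidx a ha b hb
  have hAab := zpowers_comm a
  have hinvert : ∀ x ∈ commutator X, b * x * b⁻¹ = x⁻¹ :=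
    IdxTwo.conj_eq_inv_of_mem_commutator _ hA2 hAab b hb
  have hcA : commutator X ≤ Subgroup.zpowers a := IdxTwo.commutator_le _ hA2 hAab b hb
  -- one step of the lower central series
  have hstep : ∀ d ∈ commutator X, ⁅Subgroup.zpowers d, (⊤ : Subgroup X)⁆ =
      Subgroup.zpowers (d ^ 2) := by
    intro d hd
    have hdle : Subgroup.zpowers d ≤ commutator X := Subgroup.zpowers_le.mpr hd
    apply le_antisymm
    · rw [Subgroup.commutator_le]
      intro g₁ hg₁ g₂ _
      have hg₁c := hdle hg₁
      have hg₁A := hcA hg₁c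
      by_cases hg₂ : g₂ ∈ Subgroup.zpowers a
      · have : ⁅g₁, g₂⁆ = 1 := by
          rw [commutatorElement_eq_one_iff_mul_comm]
          exact hAab g₁ hg₁A g₂ hg₂
        rw [this]; exact Subgroup.one_mem _
      · have h1 : ⁅g₂, g₁⁆ = b * g₁ * b⁻¹ * g₁⁻¹ :=
          IdxTwo.comm_eq_of_not_mem _ hA2 hAab b hb hg₂ hg₁A
        rw [hinvert g₁ hg₁c] at h1
        have h2 : ⁅g₁, g₂⁆ = g₁ * g₁ := by
          rw [← commutatorElement_inv, h1, mul_inv_rev, inv_inv]
        rw [h2]
        obtain ⟨i, rfl⟩ := Submonoid.mem_powers_iff _ _ |>.mp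
          ((isOfFinOrder_of_finite d).mem_powers_iff_mem_zpowers.mpr hg₁)
        rw [← pow_add, ← two_mul, pow_mul]
        exact Subgroup.pow_mem _ (Subgroup.mem_zpowers _) _
    · rw [Subgroup.zpowers_le]
      have h1 : d ^ 2 = ⁅d, b⁆ := by
        rw [commutatorElement_def]
        have h2 : b * d⁻¹ * b⁻¹ = d := by
          calc b * d⁻¹ * b⁻¹ = (b * d * b⁻¹)⁻¹ := by group
            _ = d := by rw [hinvert d hd, inv_inv]
        calc d ^ 2 = d * (b * d⁻¹ * b⁻¹) := by rw [h2, pow_two]
          _ = d * b * d⁻¹ * b⁻¹ := by group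
      rw [h1]
      exact Subgroup.commutator_mem_commutator (Subgroup.mem_zpowers d) (Subgroup.mem_top b)
  have hL : ∀ k : ℕ, Subgroup.lowerCentralSeries (⊤ : Subgroup X) (k + 1) =
      Subgroup.zpowers (c ^ (2 ^ k)) := by
    intro k
    induction k with
    | zero =>
      rw [pow_zero, pow_one]
      exact hcomm
    | succ k ih =>
      rw [Subgroup.lowerCentralSeries_succ, ih, hstep, ← pow_mul, ← pow_succ]
      rw [hcomm]
      exact Subgroup.pow_mem _ (Subgroup.mem_zpowers c) _
  have h1 : Subgroup.lowerCentralSeries (⊤ : Subgroup X) (n - 1) = ⊥ := by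
    have : n - 1 = (n - 2) + 1 := by omega
    rw [this, hL, ← hco, pow_orderOf_eq_one, Subgroup.zpowers_one_eq_bot]
  have h2 : Subgroup.lowerCentralSeries (⊤ : Subgroup X) (n - 2) ≠ ⊥ := by
    have : n - 2 = (n - 3) + 1 := by omega
    rw [this, hL, Ne, Subgroup.zpowers_eq_bot]
    intro h
    have h3 := orderOf_dvd_of_pow_eq_one h
    rw [hco] at h3
    have := (Nat.pow_dvd_pow_iff_le_right (by norm_num)).mp h3
    omega
  have h3 := Subgroup.lowerCentralSeries_eq_bot_iff_nilpotencyClass_le.mp h1
  have h4 : ¬ Group.nilpotencyClass X ≤ n - 2 := fun h =>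
    h2 (Subgroup.lowerCentralSeries_eq_bot_iff_nilpotencyClass_le.mpr h)
  omega

theorem index_of_isKleinFour (h : IsKleinFour (X ⧸ commutator X)) :
    (commutator X).index = 4 := h.card_four

/-- the central quotient is dihedral -/
theorem center_quotient_dihedral (n : ℕ) (hn : 3 ≤ n) (hX : Nat.card X = 2 ^ n)
    (hidx : (commutator X).index = 4) :
    Nonempty (X ⧸ Subgroup.center X ≃* DihedralGroup (2 ^ (n - 2))) := by
  haveI : Fact (Nat.Prime 2) := ⟨Nat.prime_two⟩
  have hP : IsPGroup 2 X := IsPGroup.of_card hX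
  obtain ⟨a, ha⟩ := Taussky.exists_orderOf n hn X hX hidx
  have hA2 := index_zpowers n hn hX a ha
  obtain ⟨b, hb⟩ : ∃ b : X, b ∉ Subgroup.zpowers a := by
    by_contra hcon
    push_neg at hcon
    have : Subgroup.zpowers a = ⊤ := (Subgroup.eq_top_iff' _).mpr hcon
    rw [this, Subgroup.index_top] at hA2
    omega
  have hAab := zpowers_comm a
  have hN : (Subgroup.zpowers a).Normal := Subgroup.normal_of_index_eq_two hA2
  obtain ⟨z, hzdef⟩ : ∃ z : X, z = a ^ (2 ^ (n - 2)) := ⟨_, rfl⟩
  have hzz : z * z = 1 := by rw [hzdef]; exact z_sq n hn a ha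
  have hn1 : n - 2 + 1 = n - 1 := by omega
  -- the centre lies in `⟨a⟩`
  have hZA : ∀ w ∈ Subgroup.center X, w ∈ Subgroup.zpowers a := by
    intro w hw
    by_contra hwA
    have h1 : ⁅w, a⁆ = b * a * b⁻¹ * a⁻¹ :=
      IdxTwo.comm_eq_of_not_mem _ hA2 hAab b hb hwA (Subgroup.mem_zpowers a)
    have h2 : ⁅w, a⁆ = 1 := by
      rw [commutatorElement_eq_one_iff_mul_comm]
      exact (Subgroup.mem_center_iff.mp hw a).symm
    rw [h2] at h1
    apply not_comm n hn hX hidx a ha b hb
    calc b * a * b⁻¹ = (b * a * b⁻¹ * a⁻¹) * a := by group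
      _ = a := by rw [← h1, one_mul]
  have hZ : ∀ w ∈ Subgroup.center X, w = 1 ∨ w = z := by
    intro w hw
    rw [hzdef]
    apply fixed n hn hX hidx a ha b hb w (hZA w hw)
    rw [Subgroup.mem_center_iff.mp hw b, mul_inv_cancel_right]
  have hzcen : z ∈ Subgroup.center X := by
    haveI : Nontrivial X := by
      rw [← Finite.one_lt_card_iff_nontrivial, hX]
      exact Nat.one_lt_two_pow (by omega)
    have hnt : Nontrivial (Subgroup.center X) := hP.center_nontrivial
    obtain ⟨w, hw⟩ := exists_ne (1 : Subgroup.center X)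
    rcases hZ w w.2 with h | h
    · exact absurd (Subtype.ext h) hw
    · rw [← h]; exact w.2
  have hz1 : z ≠ 1 := by
    intro h
    rw [hzdef] at h
    have h3 := orderOf_dvd_of_pow_eq_one h
    rw [ha] at h3
    have := (Nat.pow_dvd_pow_iff_le_right (by norm_num)).mp h3
    omega
  have hzo : orderOf z = 2 := orderOf_eq_prime (by rw [pow_two]; exact hzz) hz1
  have hcen_eq : Subgroup.center X = Subgroup.zpowers z := by
    apply le_antisymm
    · intro w hw
      rcases hZ w hw with h | h
      · rw [h]; exact Subgroup.one_mem _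
      · rw [h]; exact Subgroup.mem_zpowers z
    · exact Subgroup.zpowers_le.mpr hzcen
  have hcencard : Nat.card (Subgroup.center X) = 2 := by
    rw [hcen_eq, Nat.card_zpowers, hzo]
  have hQcard : Nat.card (X ⧸ Subgroup.center X) = 2 * 2 ^ (n - 2) := by
    have h1 := Subgroup.card_eq_card_quotient_mul_card_subgroup (Subgroup.center X)
    rw [hX, hcencard] at h1
    have h2 : 2 ^ n = 2 ^ (n - 2) * 2 * 2 := by
      have : n = (n - 2) + 1 + 1 := by omega
      conv_lhs => rw [this, pow_succ, pow_succ]
    omega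
  have hsq_cen : ∀ g : X, g ∉ Subgroup.zpowers a → g * g ∈ Subgroup.center X := by
    intro g hg
    rcases sq_or n hn hX hidx a ha g hg hA2 with h | h
    · rw [h]; exact Subgroup.one_mem _
    · rw [h, ← hzdef]; exact hzcen
  have hnotcen : ∀ g : X, g ∉ Subgroup.zpowers a → g ∉ Subgroup.center X :=
    fun g hg h => hg (hZA g h)
  have hinv_order : ∀ g : X, g ∉ Subgroup.zpowers a →
      orderOf (QuotientGroup.mk g : X ⧸ Subgroup.center X) = 2 := by
    intro g hg
    apply orderOf_eq_prime
    · rw [← QuotientGroup.mk_pow, QuotientGroup.eq_one_iff, pow_two]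
      exact hsq_cen g hg
    · rw [Ne, QuotientGroup.eq_one_iff]
      exact hnotcen g hg
  have hbaA : b * a ∉ Subgroup.zpowers a := by
    intro h
    apply hb
    have : b = (b * a) * a⁻¹ := by group
    rw [this]
    exact Subgroup.mul_mem _ h (Subgroup.inv_mem _ (Subgroup.mem_zpowers a))
  apply Cfsg.Agent.Lib.Helper5.DihedralRecog.dihedral_of_involutions (2 ^ (n - 2)) hQcard
    (QuotientGroup.mk b) (QuotientGroup.mk (b * a)) (hinv_order b hb) (hinv_order _ hbaA)
  · intro h
    rw [QuotientGroup.eq] at h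
    have h1 : a ∈ Subgroup.center X := by
      have : b⁻¹ * (b * a) = a := by group
      rw [this] at h; exact h
    apply not_comm n hn hX hidx a ha b hb
    rw [Subgroup.mem_center_iff.mp h1 b, mul_inv_cancel_right]
  · have h1 : (QuotientGroup.mk b : X ⧸ Subgroup.center X) * QuotientGroup.mk (b * a) =
        QuotientGroup.mk a := by
      rw [← QuotientGroup.mk_mul, QuotientGroup.eq]
      have : (b * (b * a))⁻¹ * a = (a⁻¹ * (b * b) * a)⁻¹ := by group
      rw [this]
      apply Subgroup.inv_mem
      have h2 := hsq_cen b hb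
      rw [Subgroup.mem_center_iff.mp h2 a⁻¹, inv_mul_cancel_right]
      exact h2
    rw [h1]
    obtain ⟨o, ho⟩ : ∃ o, o = orderOf (QuotientGroup.mk a : X ⧸ Subgroup.center X) := ⟨_, rfl⟩
    rw [← ho]
    have h2 : (QuotientGroup.mk a : X ⧸ Subgroup.center X) ^ o = 1 := by
      rw [ho]; exact pow_orderOf_eq_one _
    rw [← QuotientGroup.mk_pow, QuotientGroup.eq_one_iff] at h2
    have h3 : a ^ (o * 2) = 1 := by
      rw [pow_mul, pow_two]
      rcases hZ _ h2 with h | h
      · rw [h, one_mul]
      · rw [h]; exact hzz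
    have h4 := orderOf_dvd_of_pow_eq_one h3
    rw [ha, ← hn1, pow_succ] at h4
    exact Nat.dvd_of_mul_dvd_mul_right (by norm_num) h4

end main

end Cfsg.Agent.H2.MaxClassLCS
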