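import Mathlib
import Cfsg.Agent.H2.MaxClassLCS

/-!
# Non-abelian 2-groups with a cyclic subgroup of index two

dihedral, generalized quaternion, modular, semidihedral.  (author: helper2)
-/

set_option autoImplicit false

namespace Cfsg.Agent.H2.CycIdxTwo

open Cfsg.Agent.H2 Cfsg.Agent.H2.MaxClassTwo

universe u

variable {G : Type u} [Group G] [Finite G]

/-- an involution of `⟨a⟩`, `a` of order `2 ^ (n - 1)` -/
theorem involution_zpowers (n : ℕ) (hn : 3 ≤ n) (a : G) (ha : orderOf a = 2 ^ (n - 1)) (u : G)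
    (hu : u ∈ Subgroup.zpowers a) (huu : u * u = 1) : u = 1 ∨ u = a ^ (2 ^ (n - 2)) := by
  obtain ⟨i, hi⟩ := Submonoid.mem_powers_iff _ _ |>.mp
    ((isOfFinOrder_of_finite a).mem_powers_iff_mem_zpowers.mpr hu)
  have h1 : a ^ (2 * i) = 1 := by rw [two_mul, pow_add, hi]; exact huu
  have h2 := orderOf_dvd_of_pow_eq_one h1
  have hn1 : n - 1 = (n - 2) + 1 := by omega
  rw [ha, hn1, pow_succ'] at h2
  obtain ⟨j, rfl⟩ := Nat.dvd_of_mul_dvd_mul_left (by norm_num) h2
  rw [pow_mul] at hi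
  have hz := z_sq n hn a ha
  rcases Nat.even_or_odd' j with ⟨k, rfl | rfl⟩
  · left
    rw [← hi, pow_mul, pow_two, hz, one_pow]
  · right
    rw [← hi, pow_succ, pow_mul, pow_two, hz, one_pow, one_mul]

/-- the modular case -/
theorem modular_case (n : ℕ) (hn : 3 ≤ n) (hG : Nat.card G = 2 ^ n) (a : G)
    (ha : orderOf a = 2 ^ (n - 1)) (b : G) (hb : b ∉ Subgroup.zpowers a)
    (hna : ∃ x y : G, x * y ≠ y * x) (hidx : (commutator G).index ≠ 4) :
    4 ≤ n ∧ ∃ b' : G, b' ∉ Subgroup.zpowers a ∧ b' ^ 2 = 1 ∧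
      b' * a * b'⁻¹ = a ^ (1 + 2 ^ (n - 2)) := by
  haveI : Fact (Nat.Prime 2) := ⟨Nat.prime_two⟩
  have hP : IsPGroup 2 G := IsPGroup.of_card hG
  have hA2 := index_zpowers n hn hG a ha
  have hAab := zpowers_comm a
  have hN : (Subgroup.zpowers a).Normal := Subgroup.normal_of_index_eq_two hA2
  have haA := Subgroup.mem_zpowers a
  obtain ⟨c, hcdef⟩ : ∃ c : G, c = b * a * b⁻¹ * a⁻¹ := ⟨_, rfl⟩
  have hcomm : commutator G = Subgroup.zpowers c := by
    rw [hcdef]; exact commutator_eq n hn hG a ha b hb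
  have hcA : c ∈ Subgroup.zpowers a := by
    rw [hcdef]; exact Subgroup.mul_mem _ (hN.conj_mem a haA b) (Subgroup.inv_mem _ haA)
  have hc1 : c ≠ 1 := by
    intro h
    obtain ⟨x, y, hxy⟩ := hna
    apply hxy
    have h1 : commutator G = ⊥ := by rw [hcomm, h, Subgroup.zpowers_one_eq_bot]
    rw [commutator_eq_bot_iff_center_eq_top] at h1
    have : y ∈ Subgroup.center G := h1 ▸ Subgroup.mem_top y
    exact Subgroup.mem_center_iff.mp this x
  have hbab : b * a * b⁻¹ = c * a := by rw [hcdef]; group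
  -- the index is at least eight
  have h3 := (commutator G).card_mul_index
  rw [hG] at h3
  obtain ⟨e, he, he2⟩ := (Nat.dvd_prime_pow Nat.prime_two).mp (Dvd.intro_left _ h3)
  have hcardQ : Nat.card (G ⧸ commutator G) = 2 ^ e := he2
  have hncyc : ¬ IsCyclic (G ⧸ commutator G) := by
    intro hcyc
    obtain ⟨x, y, hxy⟩ := hna
    exact hxy (MaxClassLCS.comm_of_cyclic_abelianization 2 hP hcyc x y)
  have he3 : 3 ≤ e := by
    by_contra hlt
    have : e = 0 ∨ e = 1 ∨ e = 2 := by omega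
    rcases this with rfl | rfl | rfl
    · apply hncyc
      haveI : Subsingleton (G ⧸ commutator G) := by
        rw [← Finite.card_le_one_iff_subsingleton, hcardQ]; norm_num
      exact isCyclic_of_subsingleton
    · apply hncyc
      exact isCyclic_of_prime_card (p := 2) (by rw [hcardQ]; norm_num)
    · apply hidx
      rw [he2]; norm_num
  have hcard_comm : Nat.card (commutator G) = 2 ^ (n - e) := by
    rw [he2] at h3
    have h4 : 2 ^ n = 2 ^ (n - e) * 2 ^ e := by rw [← pow_add]; congr 1; omega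
    rw [h4] at h3
    exact Nat.eq_of_mul_eq_mul_right (by positivity) h3
  have hco : orderOf c = 2 ^ (n - e) := by
    rw [← Nat.card_zpowers, ← hcomm, hcard_comm]
  have hne : 1 ≤ n - e := by
    by_contra hlt
    have : n - e = 0 := by omega
    rw [this, pow_zero, orderOf_eq_one_iff] at hco
    exact hc1 hco
  have hn4 : 4 ≤ n := by omega
  refine ⟨hn4, ?_⟩
  -- `c = a ^ k` with `4 ∣ k`
  obtain ⟨k, hk⟩ := Submonoid.mem_powers_iff _ _ |>.mp
    ((isOfFinOrder_of_finite a).mem_powers_iff_mem_zpowers.mpr hcA)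
  have hk4 : 4 ∣ k := by
    have h1 : c ^ (2 ^ (n - 3)) = 1 := by
      apply orderOf_dvd_iff_pow_eq_one.mp
      rw [hco]
      exact pow_dvd_pow 2 (by omega)
    rw [← hk, ← pow_mul] at h1
    have h2 := orderOf_dvd_of_pow_eq_one h1
    have h5 : n - 1 = (n - 3) + 2 := by omega
    rw [ha, h5, pow_add, mul_comm k] at h2
    have := Nat.dvd_of_mul_dvd_mul_left (by positivity) h2
    norm_num at this
    exact this
  -- `c ^ 2 = 1`
  have hcc : c * c = 1 := by
    have h1 : b * c * b⁻¹ = c⁻¹ := by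
      rw [hcdef]; exact IdxTwo.conj_comm_eq_inv _ hA2 hAab b a haA
    have h2 : b * c * b⁻¹ = c ^ (k + 1) := by
      have hca : Commute c a := hAab c hcA a haA
      calc b * c * b⁻¹ = b * a ^ k * b⁻¹ := by rw [hk]
        _ = (b * a * b⁻¹) ^ k := by rw [conj_pow]
        _ = (c * a) ^ k := by rw [hbab]
        _ = c ^ k * a ^ k := hca.mul_pow k
        _ = c ^ (k + 1) := by rw [hk, pow_succ]
    have h3 : c ^ (k + 2) = 1 := by
      calc c ^ (k + 2) = c ^ (k + 1) * c := pow_succ c (k + 1)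
        _ = c⁻¹ * c := by rw [← h2, h1]
        _ = 1 := inv_mul_cancel c
    have h4 := orderOf_dvd_of_pow_eq_one h3
    rw [hco] at h4
    have h5 : n - e = 1 := by
      by_contra hne'
      have h6 : 2 ≤ n - e := by omega
      have h7 : (2 : ℕ) ^ 2 ∣ 2 ^ (n - e) := pow_dvd_pow 2 h6
      have h8 : 4 ∣ k + 2 := by
        have := dvd_trans h7 h4
        norm_num at this
        exact this
      omega
    rw [h5, pow_one] at hco
    have := pow_orderOf_eq_one c
    rw [hco, pow_two] at this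
    exact this
  have hco2 : orderOf c = 2 := orderOf_eq_prime (by rw [pow_two]; exact hcc) hc1
  have hcz : c = a ^ (2 ^ (n - 2)) := by
    rcases involution_zpowers n hn a ha c hcA hcc with h | h
    · exact absurd h hc1
    · exact h
  have hbab' : b * a * b⁻¹ = a ^ (1 + 2 ^ (n - 2)) := by
    rw [hbab, hcz, add_comm, pow_succ]
  -- `b * b = a ^ (2 * l)`
  have hbbA : b * b ∈ Subgroup.zpowers a := IdxTwo.sq_mem _ hA2 b
  obtain ⟨i, hi⟩ := Submonoid.mem_powers_iff _ _ |>.mp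
    ((isOfFinOrder_of_finite a).mem_powers_iff_mem_zpowers.mpr hbbA)
  have hi2 : 2 ∣ i := by
    have h1 := IdxTwo.comm_pow _ hN hAab b a haA i
    rw [hi, ← hcdef] at h1
    have h2 : b * (b * b) * b⁻¹ * (b * b)⁻¹ = 1 := by group
    rw [h2] at h1
    have := orderOf_dvd_of_pow_eq_one h1.symm
    rw [hco2] at this
    exact this
  obtain ⟨l, rfl⟩ := hi2
  -- the corrected element
  obtain ⟨h₁, hh₁⟩ : ∃ h₁ : ℕ, 2 ^ (n - 3) = h₁ + 1 := ⟨2 ^ (n - 3) - 1, by
    have : 1 ≤ 2 ^ (n - 3) := Nat.one_le_two_pow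
    omega⟩
  have hm : 2 ^ (n - 2) = 2 * (h₁ + 1) := by
    rw [← hh₁, ← pow_succ']; congr 1; omega
  have heven : 2 ∣ h₁ + 1 := by
    rw [← hh₁]
    exact dvd_pow_self 2 (by omega)
  obtain ⟨h', hh'⟩ := heven
  have ha1 : a ^ (4 * (h₁ + 1)) = 1 := by
    have : 4 * (h₁ + 1) = 2 ^ (n - 1) := by
      have h5 : n - 1 = (n - 2) + 1 := by omega
      rw [h5, pow_succ, hm]; ring
    rw [this, ← ha]; exact pow_orderOf_eq_one a
  obtain ⟨u, hudef⟩ : ∃ u : G, u = a ^ (l * h₁) := ⟨_, rfl⟩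
  have huA : u ∈ Subgroup.zpowers a := by
    rw [hudef]; exact Subgroup.pow_mem _ haA _
  refine ⟨b * u, ?_, ?_, ?_⟩
  · intro h
    apply hb
    have : b = (b * u) * u⁻¹ := by group
    rw [this]
    exact Subgroup.mul_mem _ h (Subgroup.inv_mem _ huA)
  · have h1 : b * u * b⁻¹ = a ^ ((1 + 2 ^ (n - 2)) * (l * h₁)) := by
      rw [hudef, ← conj_pow, hbab', ← pow_mul]
    calc (b * u) ^ 2 = (b * u * b⁻¹) * (b * b) * u := by rw [pow_two]; group
      _ = a ^ ((1 + 2 ^ (n - 2)) * (l * h₁) + 2 * l + l * h₁) := by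
          rw [h1, ← hi, hudef, ← pow_add, ← pow_add]
      _ = a ^ (4 * (h₁ + 1) * (l * h')) := by
          congr 1
          rw [hm]
          have : (1 + 2 * (h₁ + 1)) * (l * h₁) + 2 * l + l * h₁ = 2 * l * ((h₁ + 1) * (h₁ + 1)) := by
            ring
          rw [this]
          rw [hh']
          ring
      _ = 1 := by rw [pow_mul, ha1, one_pow]
  · have hua : u * a = a * u := hAab u huA a haA
    calc b * u * a * (b * u)⁻¹ = b * (u * a) * u⁻¹ * b⁻¹ := by group
      _ = b * (a * u) * u⁻¹ * b⁻¹ := by rw [hua]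
      _ = b * a * b⁻¹ := by group
      _ = _ := hbab'

/-- **Classification** of non-abelian `2`-groups with a cyclic subgroup of index two. -/
theorem classify (n : ℕ) (hn : 3 ≤ n) (hG : Nat.card G = 2 ^ n) (a : G)
    (ha : orderOf a = 2 ^ (n - 1)) (hna : ∃ x y : G, x * y ≠ y * x) :
    ∃ b : G, b ∉ Subgroup.zpowers a ∧
      ((b ^ 2 = 1 ∧ b * a * b⁻¹ = a⁻¹) ∨ (b ^ 2 = a ^ (2 ^ (n - 2)) ∧ b * a * b⁻¹ = a⁻¹) ∨
        (4 ≤ n ∧ b ^ 2 = 1 ∧ b * a * b⁻¹ = a ^ (1 + 2 ^ (n - 2))) ∨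
        (4 ≤ n ∧ b ^ 2 = 1 ∧ b * a * b⁻¹ = a ^ (2 ^ (n - 2) - 1))) := by
  have hA2 := index_zpowers n hn hG a ha
  obtain ⟨b, hb⟩ : ∃ b : G, b ∉ Subgroup.zpowers a := by
    by_contra hcon
    push_neg at hcon
    have : Subgroup.zpowers a = ⊤ := (Subgroup.eq_top_iff' _).mpr hcon
    rw [this, Subgroup.index_top] at hA2
    omega
  by_cases hidx : (commutator G).index = 4
  swap
  · obtain ⟨hn4, b', hb', hb'2, hb'a⟩ := modular_case n hn hG a ha b hb hna hidx
    exact ⟨b', hb', Or.inr (Or.inr (Or.inl ⟨hn4, hb'2, hb'a⟩))⟩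
  have hz2 := z_sq n hn a ha
  rcases inv_or n hn hG hidx a ha b hb hA2 with hw | hw
  · have hinv : b * a * b⁻¹ = a⁻¹ := (inv_eq_of_mul_eq_one_right hw).symm
    rcases sq_or n hn hG hidx a ha b hb hA2 with hbb | hbb
    · exact ⟨b, hb, Or.inl ⟨by rw [pow_two]; exact hbb, hinv⟩⟩
    · exact ⟨b, hb, Or.inr (Or.inl ⟨by rw [pow_two]; exact hbb, hinv⟩)⟩
  · have hconj : b * a * b⁻¹ = a⁻¹ * a ^ (2 ^ (n - 2)) := by
      rw [← hw]; group
    have hn4 : 4 ≤ n := by
      by_contra hlt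
      have hn3 : n = 3 := by omega
      subst hn3
      apply not_comm 3 hn hG hidx a ha b hb
      rw [hconj]
      norm_num
      rw [pow_two, ← mul_assoc, inv_mul_cancel, one_mul]
    have hpow : a⁻¹ * a ^ (2 ^ (n - 2)) = a ^ (2 ^ (n - 2) - 1) := by
      have h2 : 1 ≤ 2 ^ (n - 2) := Nat.one_le_two_pow
      have : 2 ^ (n - 2) = (2 ^ (n - 2) - 1) + 1 := by omega
      conv_lhs => rw [this, pow_succ']
      group
    rcases sq_or n hn hG hidx a ha b hb hA2 with hbb | hbb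
    · exact ⟨b, hb, Or.inr (Or.inr (Or.inr ⟨hn4, by rw [pow_two]; exact hbb,
        by rw [hconj, hpow]⟩))⟩
    · refine ⟨b * a, ?_, Or.inr (Or.inr (Or.inr ⟨hn4, ?_, ?_⟩))⟩
      · intro h
        apply hb
        have : b = (b * a) * a⁻¹ := by group
        rw [this]
        exact Subgroup.mul_mem _ h (Subgroup.inv_mem _ (Subgroup.mem_zpowers a))
      · rw [pow_two]
        calc (b * a) * (b * a) = (b * a * b⁻¹) * (b * b) * a := by group
          _ = a⁻¹ * (a ^ (2 ^ (n - 2)) * a ^ (2 ^ (n - 2))) * a := by rw [hconj, hbb]; group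
          _ = 1 := by rw [hz2]; group
      · rw [← hpow, ← hconj]; group

end Cfsg.Agent.H2.CycIdxTwo
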