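import Mathlib
import Cfsg.Agent.H1.NormalRankTwo

set_option autoImplicit false
open scoped commutatorElement

/-!
# Basic tools for the structure of `p`-groups of rank two with `R = [R, A]`
(B&G Theorem 4.18-type statement, used for S1448)
-/

namespace Cfsg.Agent.H2.RankTwoComm

variable {R : Type*} [Group R]

/-- if `g ∉ H`, `g ^ p ∈ H` and `g ^ j ∈ H` then `p ∣ j` -/
lemma dvd_of_pow_mem {p : ℕ} (hp : p.Prime) (H : Subgroup R) {g : R} (hgH : g ∉ H) (hgp : g ^ p ∈ H)
    {j : ℕ} (hj : g ^ j ∈ H) : p ∣ j := by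
  by_contra hnd
  have hcop : Nat.Coprime j p := (Nat.Coprime.symm ((Nat.Prime.coprime_iff_not_dvd hp).mpr hnd))
  obtain ⟨a, -, ha⟩ := Nat.exists_mul_mod_eq_one_of_coprime hcop hp.one_lt
  apply hgH
  have h1 : j * a = p * (j * a / p) + 1 := by
    have := Nat.div_add_mod (j * a) p
    omega
  have h2 : g ^ (j * a) = (g ^ p) ^ (j * a / p) * g := by
    conv_lhs => rw [h1]
    rw [pow_succ, pow_mul]
  have h3 : g = ((g ^ p) ^ (j * a / p))⁻¹ * (g ^ j) ^ a := by
    have h4 : (g ^ j) ^ a = g ^ (j * a) := (pow_mul g j a).symm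
    rw [h4, h2]; group
  rw [h3]
  exact H.mul_mem (H.inv_mem (H.pow_mem hgp _)) (H.pow_mem hj _)

/-- chain decomposition: `H ≤ K`, `|K| = p |H|`, `g ∈ K \ H`, `g ^ p ∈ H`: every element of `K` is `g ^ i * h` -/
lemma chain_decomp [Finite R] {p : ℕ} (hp : p.Prime) (H K : Subgroup R) (hHK : H ≤ K)
    (hcard : Nat.card K = p * Nat.card H) {g : R} (hgK : g ∈ K) (hgH : g ∉ H) (hgp : g ^ p ∈ H) :
    ∀ x ∈ K, ∃ (i : ℕ) (h : R), h ∈ H ∧ x = g ^ i * h := by
  classical
  let f : Fin p × H → K := fun ih => ⟨g ^ (ih.1 : ℕ) * (ih.2 : R),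
    K.mul_mem (K.pow_mem hgK _) (hHK ih.2.2)⟩
  have hinj : Function.Injective f := by
    rintro ⟨i, h⟩ ⟨j, h'⟩ hij
    have hij' : g ^ (i : ℕ) * (h : R) = g ^ (j : ℕ) * (h' : R) := congrArg Subtype.val hij
    have key : ∀ (a b : ℕ) (u v : R), a ≤ b → b < p → u ∈ H → v ∈ H → g ^ a * u = g ^ b * v → a = b := by
      intro a b u v hab hb hu hv he
      have h1 : g ^ (b - a) = u * v⁻¹ := by
        have : g ^ b = g ^ a * g ^ (b - a) := by rw [← pow_add]; congr 1; omega
        rw [this] at he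
        have he2 : u = g ^ (b - a) * v := by
          rw [mul_assoc] at he
          exact mul_left_cancel he
        rw [he2]; group
      have h2 : g ^ (b - a) ∈ H := by rw [h1]; exact H.mul_mem hu (H.inv_mem hv)
      have h3 := dvd_of_pow_mem hp H hgH hgp h2
      have h4 : b - a < p := by omega
      have h5 : b - a = 0 := Nat.eq_zero_of_dvd_of_lt h3 h4
      omega
    have hieq : (i : ℕ) = (j : ℕ) := by
      rcases le_total (i : ℕ) (j : ℕ) with hle | hle
      · exact key i j h h' hle j.2 h.2 h'.2 hij'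
      · exact (key j i h' h hle i.2 h'.2 h.2 hij'.symm).symm
    have hieq' : i = j := Fin.ext hieq
    subst hieq'
    have : (h : R) = (h' : R) := mul_left_cancel hij'
    have : h = h' := Subtype.ext this
    subst this
    rfl
  have hcard2 : Nat.card K ≤ Nat.card (Fin p × H) := by
    rw [Nat.card_prod, Nat.card_fin, hcard]
  have hbij := Function.Injective.bijective_of_nat_card_le hinj hcard2
  intro x hx
  obtain ⟨⟨i, h⟩, hih⟩ := hbij.2 ⟨x, hx⟩
  refine ⟨i, h, h.2, ?_⟩
  have := congrArg Subtype.val hih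
  exact this.symm

/-- `⁅x * y, e⁆ = x * ⁅y, e⁆ * x⁻¹ * ⁅x, e⁆` -/
lemma comm_mul_left (x y e : R) : ⁅x * y, e⁆ = x * ⁅y, e⁆ * x⁻¹ * ⁅x, e⁆ := by
  simp only [commutatorElement_def]; group

/-- `⁅x, y * e⁆ = ⁅x, y⁆ * (y * ⁅x, e⁆ * y⁻¹)` -/
lemma comm_mul_right (x y e : R) : ⁅x, y * e⁆ = ⁅x, y⁆ * (y * ⁅x, e⁆ * y⁻¹) := by
  simp only [commutatorElement_def]; group

lemma comm_inv_swap (x y : R) : ⁅x, y⁆⁻¹ = ⁅y, x⁆ := by
  simp only [commutatorElement_def]; group

/-- if `⁅x, y⁆` commutes with `x` then `⁅x ^ n, y⁆ = ⁅x, y⁆ ^ n` -/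
lemma comm_pow_left (x y : R) (h : Commute ⁅x, y⁆ x) (n : ℕ) : ⁅x ^ n, y⁆ = ⁅x, y⁆ ^ n := by
  induction n with
  | zero => simp
  | succ n ih =>
    have h1 : ⁅x ^ (n + 1), y⁆ = x * ⁅x ^ n, y⁆ * x⁻¹ * ⁅x, y⁆ := by
      simp only [commutatorElement_def, pow_succ']
      group
    rw [h1, ih]
    have h2 : Commute (⁅x, y⁆ ^ n) x := h.pow_left n
    rw [← h2.eq, mul_inv_cancel_right, pow_succ]

/-- if `⁅x, y⁆` commutes with `y` then `⁅x, y ^ n⁆ = ⁅x, y⁆ ^ n` -/
lemma comm_pow_right (x y : R) (h : Commute ⁅x, y⁆ y) (n : ℕ) : ⁅x, y ^ n⁆ = ⁅x, y⁆ ^ n := by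
  have h1 : Commute ⁅y, x⁆ y := by
    rw [← comm_inv_swap x y]
    exact h.inv_left
  have h2 := comm_pow_left y x h1 n
  rw [← comm_inv_swap (y ^ n) x, h2, ← comm_inv_swap x y, inv_pow, inv_inv]

/-- conjugating the second entry by an element commuting with the first -/
lemma comm_conj_of_commute (e g v : R) (h : g * e = e * g) : ⁅e, g * v * g⁻¹⁆ = g * ⁅e, v⁆ * g⁻¹ := by
  have h1 : ⁅e, g * v * g⁻¹⁆ = g * ⁅g⁻¹ * e * g, v⁆ * g⁻¹ := by
    simp only [commutatorElement_def]; group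
  have h2 : g⁻¹ * e * g = e := by rw [mul_assoc, ← h, inv_mul_cancel_left]
  rw [h1, h2]

lemma pow_pred_mul_cancel {p : ℕ} (hp : 0 < p) {g : R} (hg : g ^ p = 1) (i : ℕ) :
    g ^ ((p - 1) * i) * g ^ i = 1 := by
  rw [← pow_add]
  have : (p - 1) * i + i = p * i := by
    calc (p - 1) * i + i = (p - 1 + 1) * i := by ring
      _ = p * i := by rw [Nat.sub_add_cancel hp]
  rw [this, pow_mul, hg, one_pow]

lemma pow_mul_pow_pred_cancel {p : ℕ} (hp : 0 < p) {g : R} (hg : g ^ p = 1) (i : ℕ) :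
    g ^ i * g ^ ((p - 1) * i) = 1 := by
  rw [← pow_add, add_comm, pow_add]
  exact pow_pred_mul_cancel hp hg i

/-- `(x * w) ^ t ∈ x ^ t * W` for normal `W` -/
lemma mul_pow_mem_coset (W : Subgroup R) [hW : W.Normal] (x w : R) (hw : w ∈ W) (t : ℕ) :
    ∃ v ∈ W, (x * w) ^ t = x ^ t * v := by
  induction t with
  | zero => exact ⟨1, W.one_mem, by simp⟩
  | succ t ih =>
    obtain ⟨v, hv, he⟩ := ih
    refine ⟨x⁻¹ * v * x * w, W.mul_mem ?_ hw, ?_⟩
    · have := hW.conj_mem v hv x⁻¹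
      simpa using this
    · rw [pow_succ, he, pow_succ]; group

/-- a subgroup cut out by `x ^ p = 1` is normal -/
lemma normal_of_mem_iff {p : ℕ} (E : Subgroup R) (hE : ∀ x, x ∈ E ↔ x ^ p = 1) : E.Normal := by
  refine ⟨fun x hx g => ?_⟩
  rw [hE] at hx ⊢
  rw [conj_pow, hx]; simp

section structE

variable [Finite R] {p : ℕ} [hp : Fact p.Prime]

/-- every element of a group of prime order `⟨z⟩` is a power of any nontrivial element of it -/
lemma exists_pow_eq_of_prime_order {z c y : R} (hz : orderOf z = p) (hc : c ∈ Subgroup.zpowers z)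
    (hc1 : c ≠ 1) (hy : y ∈ Subgroup.zpowers z) : ∃ i : ℕ, y = c ^ i := by
  have hpp := hp.out
  have hfin : IsOfFinOrder z := isOfFinOrder_of_finite z
  obtain ⟨k, hk'⟩ := (mem_powers_iff_mem_zpowers (x := z) (y := c)).mpr hc
  obtain ⟨l, hl'⟩ := (mem_powers_iff_mem_zpowers (x := z) (y := y)).mpr hy
  have hk'' : z ^ k = c := hk'
  have hl'' : z ^ l = y := hl'
  subst hk'' hl''
  have hk : ¬ p ∣ k := by
    intro hd
    apply hc1
    obtain ⟨t, rfl⟩ := hd
    rw [pow_mul, ← hz, pow_orderOf_eq_one, one_pow]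
  have hcop : Nat.Coprime k p := (Nat.Coprime.symm ((Nat.Prime.coprime_iff_not_dvd hpp).mpr hk))
  obtain ⟨i, -, hi⟩ := Nat.exists_mul_mod_eq_of_coprime l hcop hpp.ne_zero
  refine ⟨i, ?_⟩
  rw [← pow_mul, pow_eq_pow_iff_modEq, hz]
  exact hi.symm

omit [Finite R] in
lemma orderOf_eq_of_mem_zpowers {z c : R} (hz : orderOf z = p) (hc : c ∈ Subgroup.zpowers z)
    (hc1 : c ≠ 1) : orderOf c = p := by
  have hpp := hp.out
  apply orderOf_eq_prime
  · obtain ⟨k, rfl⟩ := Subgroup.mem_zpowers_iff.mp hc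
    rw [← zpow_natCast, ← zpow_mul, mul_comm, zpow_mul, zpow_natCast, ← hz, pow_orderOf_eq_one, one_zpow]
  · exact hc1

/-- structure of a non-abelian group `E` of order `p³` cut out by `x ^ p = 1` in a `p`-group -/
theorem struct_E (hR : IsPGroup p R) (E : Subgroup R) (hE : ∀ x, x ∈ E ↔ x ^ p = 1)
    (hEcard : Nat.card E = p ^ 3) (hnc : ∃ a ∈ E, ∃ b ∈ E, a * b ≠ b * a) :
    ∃ z : R, z ∈ E ∧ z ∈ Subgroup.center R ∧ orderOf z = p ∧
      (∀ a ∈ E, ∀ b ∈ E, ⁅a, b⁆ ∈ Subgroup.zpowers z) ∧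
      (∀ x ∈ E, (∀ e ∈ E, x * e = e * x) → x ∈ Subgroup.zpowers z) := by
  have hpp := hp.out
  have hEn : E.Normal := normal_of_mem_iff E hE
  have hEne : E ≠ ⊥ := by
    intro h
    rw [h, Subgroup.card_bot] at hEcard
    have : 1 < p ^ 3 := Nat.one_lt_pow (by norm_num) hpp.one_lt
    omega
  obtain ⟨z, hzE, hzc, hzo⟩ := Cfsg.Agent.H1.exists_central_order_p hR E hEne
  have hZE : Subgroup.zpowers z ≤ E := Subgroup.zpowers_le.mpr hzE
  have hZcard : Nat.card (Subgroup.zpowers z) = p := by rw [Nat.card_zpowers, hzo]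
  refine ⟨z, hzE, hzc, hzo, ?_, ?_⟩
  · -- commutators
    have hZn : (Subgroup.zpowers z).Normal := by
      refine ⟨fun n hn g => ?_⟩
      have : g * n * g⁻¹ = n := by
        obtain ⟨k, rfl⟩ := Subgroup.mem_zpowers_iff.mp hn
        have hzk : z ^ k ∈ Subgroup.center R := Subgroup.zpow_mem _ hzc k
        rw [Subgroup.mem_center_iff] at hzk
        rw [hzk g]; group
      rw [this]; exact hn
    set N : Subgroup ↥E := (Subgroup.zpowers z).subgroupOf E with hN
    have : N.Normal := by rw [hN]; infer_instance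
    have hNcard : Nat.card N = p := by
      rw [hN, Nat.card_congr (Subgroup.subgroupOfEquivOfLe hZE).toEquiv, hZcard]
    have hQcard : Nat.card (↥E ⧸ N) = p ^ 2 := by
      have h1 := Subgroup.card_eq_card_quotient_mul_card_subgroup N
      rw [hEcard, hNcard] at h1
      have h2 : p ^ 2 * p = Nat.card (↥E ⧸ N) * p := by rw [← h1]; ring
      exact (Nat.eq_of_mul_eq_mul_right hpp.pos h2).symm
    have hQc : IsMulCommutative (↥E ⧸ N) := IsPGroup.isMulCommutative_of_card_eq_prime_sq hQcard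
    intro a ha b hb
    have h1 : (QuotientGroup.mk' N) ⁅(⟨a, ha⟩ : ↥E), ⟨b, hb⟩⁆ = 1 := by
      rw [map_commutatorElement, commutatorElement_eq_one_iff_commute]
      exact hQc.is_comm.comm _ _
    have h2 : ⁅(⟨a, ha⟩ : ↥E), ⟨b, hb⟩⁆ ∈ N := by
      rwa [QuotientGroup.mk'_apply, QuotientGroup.eq_one_iff] at h1
    rw [hN, Subgroup.mem_subgroupOf] at h2
    exact h2
  · -- centre
    obtain ⟨a, haE, b, hbE, hab⟩ := hnc
    set M : Subgroup R := E ⊓ Subgroup.centralizer (E : Set R) with hM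
    have hME : M ≤ E := inf_le_left
    have hzM : Subgroup.zpowers z ≤ M := by
      rw [Subgroup.zpowers_le]
      refine ⟨hzE, ?_⟩
      show z ∈ Subgroup.centralizer (E : Set R)
      rw [Subgroup.mem_centralizer_iff]
      intro e _
      exact ((Subgroup.mem_center_iff.mp hzc) e)
    have hMdvd : Nat.card M ∣ p ^ 3 := by
      rw [← hEcard]; exact Subgroup.card_dvd_of_le hME
    obtain ⟨j, hj3, hj⟩ := (Nat.dvd_prime_pow hpp).mp hMdvd
    have hcomm_of_mem : ∀ h ∈ M, ∀ e ∈ E, h * e = e * h := by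
      intro h hh e he
      have := Subgroup.mem_centralizer_iff.mp hh.2 e he
      exact this.symm
    have hj1 : j = 1 := by
      have hj0 : 1 ≤ j := by
        by_contra hlt
        have : j = 0 := by omega
        rw [this, pow_zero] at hj
        have := Subgroup.card_le_of_le hzM
        rw [hZcard, hj] at this
        have := hpp.one_lt
        omega
      rcases Nat.lt_or_ge j 2 with h | h
      · omega
      exfalso
      rcases Nat.lt_or_ge j 3 with h3 | h3
      · have hj2 : j = 2 := by omega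
        have haM : a ∉ M := fun h => hab (hcomm_of_mem a h b hbE)
        have hap : a ^ p ∈ M := by rw [(hE a).mp haE]; exact M.one_mem
        have hcard : Nat.card E = p * Nat.card M := by rw [hEcard, hj, hj2]; ring
        obtain ⟨i, h, hhM, hb⟩ := chain_decomp hpp M E hME hcard haE haM hap b hbE
        apply hab
        rw [hb]
        have h1 : h * a = a * h := hcomm_of_mem h hhM a haE
        calc a * (a ^ i * h) = a ^ i * (a * h) := by
              rw [← mul_assoc, ← pow_succ', pow_succ, mul_assoc]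
          _ = a ^ i * h * a := by rw [← h1, mul_assoc]
      · have hj3' : j = 3 := by omega
        have hMeq : M = E := by
          apply Subgroup.eq_of_le_of_card_ge hME
          rw [hj, hj3', hEcard]
        have haM : a ∈ M := by rw [hMeq]; exact haE
        exact hab (hcomm_of_mem a haM b hbE)
    have hMeq : Subgroup.zpowers z = M := by
      apply Subgroup.eq_of_le_of_card_ge hzM
      rw [hj, hj1, hZcard, pow_one]
    intro x hxE hx
    rw [hMeq]
    refine ⟨hxE, ?_⟩
    show x ∈ Subgroup.centralizer (E : Set R)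
    rw [Subgroup.mem_centralizer_iff]
    intro e he
    exact (hx e he).symm

lemma card_lt_of_lt' {H K : Subgroup R} (h : H < K) : Nat.card H < Nat.card K := by
  rcases (Subgroup.card_le_of_le h.le).lt_or_eq with h1 | h1
  · exact h1
  · exact absurd (Subgroup.eq_of_le_of_card_ge h.le h1.ge) h.ne

/-- case where `R` acts trivially on `E / Z₀`: every element is inner modulo the centralizer -/
theorem case_one (E : Subgroup R) (hEcard : Nat.card E = p ^ 3)
    {z : R} (hzc : z ∈ Subgroup.center R) (hzo : orderOf z = p)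
    {a b : R} (haE : a ∈ E) (hbE : b ∈ E) (hab : a * b ≠ b * a)
    (hcommZ : ∀ a ∈ E, ∀ b ∈ E, ⁅a, b⁆ ∈ Subgroup.zpowers z)
    (hall : ∀ x : R, ∀ e ∈ E, ⁅x, e⁆ ∈ Subgroup.zpowers z) :
    ∀ x : R, ∃ e ∈ E, ∃ c ∈ Subgroup.centralizer (E : Set R), x = e * c := by
  have hpp := hp.out
  have hcen : ∀ c ∈ Subgroup.zpowers z, ∀ g : R, g * c = c * g := by
    intro c hc g
    obtain ⟨k, rfl⟩ := Subgroup.mem_zpowers_iff.mp hc
    exact Subgroup.mem_center_iff.mp (Subgroup.zpow_mem _ hzc k) g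
  have hconj : ∀ c ∈ Subgroup.zpowers z, ∀ g : R, g * c * g⁻¹ = c := by
    intro c hc g
    rw [hcen c hc g, mul_inv_cancel_right]
  set z₁ := ⁅a, b⁆ with hz₁
  have hz₁Z : z₁ ∈ Subgroup.zpowers z := hcommZ a haE b hbE
  have hz₁1 : z₁ ≠ 1 := by
    intro h
    rw [hz₁, commutatorElement_eq_one_iff_commute] at h
    exact hab h.eq
  have hz₁o : orderOf z₁ = p := orderOf_eq_of_mem_zpowers hzo hz₁Z hz₁1
  have hz₁p : z₁ ^ p = 1 := by rw [← hz₁o, pow_orderOf_eq_one]
  have hba : ⁅b, a⁆ = z₁⁻¹ := by rw [hz₁, comm_inv_swap]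
  intro x
  obtain ⟨i, hi⟩ := exists_pow_eq_of_prime_order hzo hz₁Z hz₁1 (hall x a haE)
  obtain ⟨j, hj⟩ := exists_pow_eq_of_prime_order hzo hz₁Z hz₁1 (hall x b hbE)
  set t := (p - 1) * j with ht
  set e' := b ^ i * a ^ t with he'
  have he'E : e' ∈ E := E.mul_mem (E.pow_mem hbE _) (E.pow_mem haE _)
  set x' := x * e' with hx'
  -- x' commutes with a
  have h1 : ⁅x', a⁆ = 1 := by
    rw [hx', comm_mul_left, he', comm_mul_left]
    have h2 : ⁅a ^ t, a⁆ = 1 := by
      rw [commutatorElement_eq_one_iff_commute]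
      exact (Commute.refl a).pow_left t
    have h3 : ⁅b ^ i, a⁆ = (z₁⁻¹) ^ i := by
      rw [comm_pow_left, hba]
      rw [hba]
      exact (hcen z₁⁻¹ ((Subgroup.zpowers z).inv_mem hz₁Z) b).symm
    rw [h2, h3, hi]
    have h4 : (z₁⁻¹) ^ i ∈ Subgroup.zpowers z := (Subgroup.zpowers z).pow_mem ((Subgroup.zpowers z).inv_mem hz₁Z) i
    have h5 : b ^ i * 1 * (b ^ i)⁻¹ * z₁⁻¹ ^ i = z₁⁻¹ ^ i := by group
    rw [h5, hconj _ h4, inv_pow, inv_mul_cancel]
  have h2 : ⁅x', b⁆ = 1 := by
    rw [hx', comm_mul_left, he', comm_mul_left]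
    have h2 : ⁅b ^ i, b⁆ = 1 := by
      rw [commutatorElement_eq_one_iff_commute]
      exact (Commute.refl b).pow_left i
    have h3 : ⁅a ^ t, b⁆ = z₁ ^ t := by
      rw [comm_pow_left]
      exact (hcen z₁ hz₁Z a).symm
    rw [h2, h3, hj, mul_one]
    have h4 : z₁ ^ t ∈ Subgroup.zpowers z := (Subgroup.zpowers z).pow_mem hz₁Z t
    rw [hconj _ h4, hconj _ h4, ← pow_add, ht]
    have : (p - 1) * j + j = p * j := by
      have := hpp.one_lt
      calc (p - 1) * j + j = (p - 1 + 1) * j := by ring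
        _ = p * j := by rw [Nat.sub_add_cancel hpp.one_lt.le]
    rw [this, pow_mul, hz₁p, one_pow]
  have hxa : x' * a = a * x' := (commutatorElement_eq_one_iff_commute.mp h1).eq
  have hxb : x' * b = b * x' := (commutatorElement_eq_one_iff_commute.mp h2).eq
  -- the centralizer of x' in E is everything
  set K : Subgroup R := E ⊓ Subgroup.centralizer {x'} with hK
  have hKE : K ≤ E := inf_le_left
  have haK : a ∈ K := by
    refine ⟨haE, ?_⟩
    show a ∈ Subgroup.centralizer {x'}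
    rw [Subgroup.mem_centralizer_singleton_iff]
    exact hxa.symm
  have hbK : b ∈ K := by
    refine ⟨hbE, ?_⟩
    show b ∈ Subgroup.centralizer {x'}
    rw [Subgroup.mem_centralizer_singleton_iff]
    exact hxb.symm
  have hKdvd : Nat.card K ∣ p ^ 3 := by rw [← hEcard]; exact Subgroup.card_dvd_of_le hKE
  obtain ⟨n, hn3, hn⟩ := (Nat.dvd_prime_pow hpp).mp hKdvd
  have hKeq : K = E := by
    apply Subgroup.eq_of_le_of_card_ge hKE
    rw [hEcard, hn]
    apply Nat.pow_le_pow_right hpp.pos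
    by_contra hlt
    have hn2 : n ≤ 2 := by omega
    -- K has order at most p², hence abelian
    have hKab : ∀ u v : K, u * v = v * u := by
      have hKp : IsPGroup p K := IsPGroup.of_card hn
      rcases Nat.lt_or_ge n 2 with h | h
      · have hcyc : IsCyclic K := by
          rcases Nat.lt_or_ge n 1 with h0 | h0
          · have hn0 : n = 0 := by omega
            rw [hn0, pow_zero] at hn
            have : Subsingleton K := (Nat.card_eq_one_iff_unique.mp hn).1
            infer_instance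
          · have hn1 : n = 1 := by omega
            rw [hn1, pow_one] at hn
            exact isCyclic_of_prime_card hn
        intro u v
        obtain ⟨g, hg⟩ := hcyc.exists_generator
        obtain ⟨k, rfl⟩ := Subgroup.mem_zpowers_iff.mp (hg u)
        obtain ⟨l, rfl⟩ := Subgroup.mem_zpowers_iff.mp (hg v)
        rw [← zpow_add, ← zpow_add, add_comm]
      · have hn2' : n = 2 := by omega
        rw [hn2'] at hn
        have := IsPGroup.isMulCommutative_of_card_eq_prime_sq hn
        exact fun u v => this.is_comm.comm u v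
    have := hKab ⟨a, haK⟩ ⟨b, hbK⟩
    exact hab (congrArg Subtype.val this)
  have hx'Z : x' ∈ Subgroup.centralizer (E : Set R) := by
    rw [Subgroup.mem_centralizer_iff]
    intro e he
    have heK : e ∈ K := by rw [hKeq]; exact he
    have := heK.2
    have h3 : e ∈ Subgroup.centralizer {x'} := this
    rw [Subgroup.mem_centralizer_singleton_iff] at h3
    exact h3
  refine ⟨e'⁻¹, E.inv_mem he'E, x', hx'Z, ?_⟩
  have h3 := Subgroup.mem_centralizer_iff.mp hx'Z e'⁻¹ (E.inv_mem he'E)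
  rw [h3, hx']; group

end structE

end Cfsg.Agent.H2.RankTwoComm
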