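import Mathlib
import Cfsg.Agent.H2.RankTwoCommA
import Cfsg.Agent.H1.CriticalSubgroup

set_option autoImplicit false
open scoped commutatorElement

/-!
# The main case: `R` acts non-trivially on `E / Z₀`
-/

namespace Cfsg.Agent.H2.RankTwoComm

variable {R : Type*} [Group R]

/-- the preimage in `E` of the fixed points of `R` on `E / Z₀` -/
def Wsub (E Z₀ : Subgroup R) (hZ₀ : ∀ c ∈ Z₀, ∀ g : R, g * c = c * g) : Subgroup R where
  carrier := {x | x ∈ E ∧ ∀ r : R, ⁅r, x⁆ ∈ Z₀}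
  one_mem' := ⟨E.one_mem, fun r => by
    have : ⁅r, (1 : R)⁆ = 1 := by simp [commutatorElement_def]
    rw [this]; exact Z₀.one_mem⟩
  mul_mem' := by
    rintro x y ⟨hxE, hx⟩ ⟨hyE, hy⟩
    refine ⟨E.mul_mem hxE hyE, fun r => ?_⟩
    rw [comm_mul_right]
    have h1 : x * ⁅r, y⁆ * x⁻¹ = ⁅r, y⁆ := by
      rw [hZ₀ _ (hy r) x, mul_inv_cancel_right]
    rw [h1]
    exact Z₀.mul_mem (hx r) (hy r)
  inv_mem' := by
    rintro x ⟨hxE, hx⟩
    refine ⟨E.inv_mem hxE, fun r => ?_⟩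
    have h1 : ⁅r, x⁻¹⁆ = x⁻¹ * ⁅r, x⁆⁻¹ * x := by
      simp only [commutatorElement_def]; group
    rw [h1]
    have h2 : x⁻¹ * ⁅r, x⁆⁻¹ * x = ⁅r, x⁆⁻¹ := by
      have := hZ₀ _ (Z₀.inv_mem (hx r)) x⁻¹
      rw [this, inv_mul_cancel_right]
    rw [h2]
    exact Z₀.inv_mem (hx r)

lemma mem_Wsub {E Z₀ : Subgroup R} {hZ₀ : ∀ c ∈ Z₀, ∀ g : R, g * c = c * g} {x : R} :
    x ∈ Wsub E Z₀ hZ₀ ↔ x ∈ E ∧ ∀ r : R, ⁅r, x⁆ ∈ Z₀ := Iff.rfl

section main
variable [Finite R] {p : ℕ} [hp : Fact p.Prime]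

/-- the main case leads to a contradiction -/
theorem case_two (hR : IsPGroup p R) (E : Subgroup R) (hE : ∀ x, x ∈ E ↔ x ^ p = 1)
    (hEcard : Nat.card E = p ^ 3)
    {z : R} (hzE : z ∈ E) (hzc : z ∈ Subgroup.center R) (hzo : orderOf z = p)
    (hcommZ : ∀ a ∈ E, ∀ b ∈ E, ⁅a, b⁆ ∈ Subgroup.zpowers z)
    (hcenZ : ∀ x ∈ E, (∀ e ∈ E, x * e = e * x) → x ∈ Subgroup.zpowers z)
    (hZcyc : IsCyclic (Subgroup.centralizer (E : Set R)))
    (𝒜 : Set (MulAut R)) (hodd : ∀ σ ∈ 𝒜, ∃ k, Odd k ∧ σ ^ k = 1)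
    (hgen : ∀ N : Subgroup R, (∀ σ ∈ 𝒜, ∀ x : R, σ x * x⁻¹ ∈ N) → N = ⊤)
    {x₀ e : R} (heE : e ∈ E) (hx₀ : ⁅x₀, e⁆ ∉ Subgroup.zpowers z) : False := by
  classical
  have hpp := hp.out
  have hEn : E.Normal := normal_of_mem_iff E hE
  set Z₀ : Subgroup R := Subgroup.zpowers z with hZ₀def
  have hZ0card : Nat.card Z₀ = p := by rw [hZ₀def, Nat.card_zpowers, hzo]
  have hcen : ∀ c ∈ Z₀, ∀ g : R, g * c = c * g := by
    intro c hc g
    obtain ⟨k, rfl⟩ := Subgroup.mem_zpowers_iff.mp hc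
    exact Subgroup.mem_center_iff.mp (Subgroup.zpow_mem _ hzc k) g
  have hconj : ∀ c ∈ Z₀, ∀ g : R, g * c * g⁻¹ = c := by
    intro c hc g
    rw [hcen c hc g, mul_inv_cancel_right]
  have hZ0E : Z₀ ≤ E := Subgroup.zpowers_le.mpr hzE
  have hZ0n : Z₀.Normal := by
    refine ⟨fun n hn g => ?_⟩
    rw [hconj n hn g]; exact hn
  have hexpE : ∀ x ∈ E, x ^ p = 1 := fun x hx => (hE x).mp hx
  -- automorphisms preserve E and Z₀
  have hσE : ∀ (σ : MulAut R) (x : R), x ∈ E → σ x ∈ E := by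
    intro σ x hx
    rw [hE, ← map_pow, (hE x).mp hx, map_one]
  have hσZ0 : ∀ (σ : MulAut R) (x : R), x ∈ Z₀ → σ x ∈ Z₀ := by
    intro σ x hx
    apply hcenZ (σ x) (hσE σ x (hZ0E hx))
    intro y hy
    have h1 : y = σ (σ⁻¹ y) := by simp
    rw [h1, ← map_mul, ← map_mul, hcen x hx (σ⁻¹ y)]
  -- the subgroup W
  set W : Subgroup R := Wsub E Z₀ hcen with hWdef
  have hWE : W ≤ E := fun x hx => (mem_Wsub.mp hx).1
  have hWr : ∀ v ∈ W, ∀ r : R, ⁅r, v⁆ ∈ Z₀ := fun v hv => (mem_Wsub.mp hv).2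
  have hZ0W : Z₀ ≤ W := by
    intro c hc
    refine mem_Wsub.mpr ⟨hZ0E hc, fun r => ?_⟩
    have : ⁅r, c⁆ = 1 := by
      rw [commutatorElement_eq_one_iff_commute]
      exact hcen c hc r
    rw [this]; exact Z₀.one_mem
  have hWn : W.Normal := by
    refine ⟨fun x hx g => ?_⟩
    refine mem_Wsub.mpr ⟨hEn.conj_mem x (hWE hx) g, fun r => ?_⟩
    have h1 : ⁅r, g * x * g⁻¹⁆ = g * ⁅g⁻¹ * r * g, x⁆ * g⁻¹ := by
      simp only [commutatorElement_def]; group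
    rw [h1, hconj _ (hWr x hx _)]
    exact hWr x hx _
  have hσW : ∀ (σ : MulAut R) (x : R), x ∈ W → σ x ∈ W := by
    intro σ x hx
    refine mem_Wsub.mpr ⟨hσE σ x (hWE hx), fun r => ?_⟩
    have h1 : ⁅r, σ x⁆ = σ ⁅σ⁻¹ r, x⁆ := by
      rw [map_commutatorElement]; simp
    rw [h1]
    exact hσZ0 σ _ (hWr x hx _)
  -- e ∉ W
  have heW : e ∉ W := fun h => hx₀ (hWr e h x₀)
  -- an element of W outside Z₀
  have hEnotZ : ¬ E ≤ Z₀ := by
    intro h
    have h1 : Nat.card E ≤ Nat.card Z₀ := Subgroup.card_le_of_le h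
    rw [hEcard, hZ0card] at h1
    have h2 : p ^ 1 < p ^ 3 := Nat.pow_lt_pow_right hpp.one_lt (by norm_num)
    rw [pow_one] at h2
    omega
  obtain ⟨w₀, hw₀E, hw₀Z, -, hw₀c⟩ := Cfsg.Agent.H1.exists_central_order_p_mod hR Z₀ E hEnotZ
  have hw₀W : w₀ ∈ W := by
    refine mem_Wsub.mpr ⟨hw₀E, fun r => ?_⟩
    have h1 : ⁅r, w₀⁆ = (w₀ * r * w₀⁻¹ * r⁻¹)⁻¹ := by
      simp only [commutatorElement_def]; group
    rw [h1]
    exact Z₀.inv_mem (hw₀c r)
  -- card W = p²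
  have hWcard : Nat.card W = p ^ 2 := by
    have hdvd : Nat.card W ∣ p ^ 3 := by rw [← hEcard]; exact Subgroup.card_dvd_of_le hWE
    obtain ⟨n, hn3, hn⟩ := (Nat.dvd_prime_pow hpp).mp hdvd
    have h1 : Z₀ < W := lt_of_le_of_ne hZ0W (fun h => hw₀Z (h ▸ hw₀W))
    have h2 : W < E := lt_of_le_of_ne hWE (fun h => heW (h ▸ heE))
    have h3 := card_lt_of_lt' h1
    have h4 := card_lt_of_lt' h2
    rw [hZ0card, hn] at h3
    rw [hn, hEcard] at h4
    have h5 : 1 < n := by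
      have : p ^ 1 < p ^ n := by rw [pow_one]; exact h3
      exact (Nat.pow_lt_pow_iff_right hpp.one_lt).mp this
    have h6 : n < 3 := (Nat.pow_lt_pow_iff_right hpp.one_lt).mp h4
    have : n = 2 := by omega
    rw [hn, this]
  -- W is abelian
  have hWcomm : ∀ x ∈ W, ∀ y ∈ W, x * y = y * x := by
    intro x hx y hy
    have := IsPGroup.isMulCommutative_of_card_eq_prime_sq hWcard
    exact congrArg Subtype.val (this.is_comm.comm ⟨x, hx⟩ ⟨y, hy⟩)
  -- decomposition of E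
  have hEdec : ∀ x ∈ E, ∃ (i : ℕ) (h : R), h ∈ W ∧ x = e ^ i * h := by
    apply chain_decomp hpp W E hWE _ heE heW
    · rw [hexpE e heE]; exact W.one_mem
    · rw [hEcard, hWcard]; ring
  -- decomposition of W with respect to an element outside Z₀
  have hWdec : ∀ w ∈ W, w ∉ Z₀ → ∀ x ∈ W, ∃ (i : ℕ) (c : R), c ∈ Z₀ ∧ x = w ^ i * c := by
    intro w hw hwZ
    apply chain_decomp hpp Z₀ W hZ0W _ hw hwZ
    · rw [hexpE w (hWE hw)]; exact Z₀.one_mem
    · rw [hWcard, hZ0card]; ring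
  -- an element of W commuting with e is in Z₀
  have hWe : ∀ v ∈ W, v * e = e * v → v ∈ Z₀ := by
    intro v hv hve
    apply hcenZ v (hWE hv)
    intro y hy
    obtain ⟨i, h, hh, rfl⟩ := hEdec y hy
    have h1 : v * e ^ i = e ^ i * v := ((Commute.pow_right (show Commute v e from hve) i)).eq
    rw [← mul_assoc, h1, mul_assoc, hWcomm v hv h hh, mul_assoc]
  -- the pairing with elements of W
  have hpair : ∀ w ∈ W, ∀ (i : ℕ) (h : R), h ∈ W → ⁅e ^ i * h, w⁆ = ⁅e, w⁆ ^ i := by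
    intro w hw i h hh
    rw [comm_mul_left]
    have h1 : ⁅h, w⁆ = 1 := by
      rw [commutatorElement_eq_one_iff_commute]; exact hWcomm h hh w hw
    rw [h1, mul_one, mul_inv_cancel, one_mul, comm_pow_left]
    exact (hcen _ (hcommZ e heE w (hWE hw)) e).symm
  set z₀ := ⁅e, w₀⁆ with hz₀
  have hz₀Z : z₀ ∈ Z₀ := hcommZ e heE w₀ hw₀E
  have hz₀1 : z₀ ≠ 1 := by
    intro h
    rw [hz₀, commutatorElement_eq_one_iff_commute] at h
    exact hw₀Z (hWe w₀ hw₀W h.eq.symm)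
  have hz₀o : orderOf z₀ = p := orderOf_eq_of_mem_zpowers hzo hz₀Z hz₀1
  -- R acts trivially on E / W
  have hRe : ∀ x : R, ⁅x, e⁆ ∈ W := by
    intro x
    have hxe : x * e * x⁻¹ ∈ E := hEn.conj_mem e heE x
    obtain ⟨i, h, hh, hi⟩ := hEdec _ hxe
    have h1 : ⁅x * e * x⁻¹, w₀⁆ = z₀ ^ i := by rw [hi]; exact hpair w₀ hw₀W i h hh
    have h2 : ⁅x * e * x⁻¹, w₀⁆ = z₀ := by
      set c := ⁅x⁻¹, w₀⁆ with hc
      have hcZ : c ∈ Z₀ := hWr w₀ hw₀W x⁻¹
      have h3 : x⁻¹ * w₀ * x = c * w₀ := by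
        rw [hc]; simp only [commutatorElement_def]; group
      have h4 : ⁅x * e * x⁻¹, w₀⁆ = x * ⁅e, x⁻¹ * w₀ * x⁆ * x⁻¹ := by
        simp only [commutatorElement_def]; group
      rw [h4, h3, comm_mul_right]
      have h5 : ⁅e, c⁆ = 1 := by
        rw [commutatorElement_eq_one_iff_commute]; exact hcen c hcZ e
      rw [h5, one_mul, hconj _ hz₀Z c, hconj _ hz₀Z x]
    have h6 : z₀ ^ i = z₀ ^ 1 := by rw [← h1, h2, pow_one]
    rw [pow_eq_pow_iff_modEq, hz₀o] at h6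
    have h7 : e ^ i = e ^ 1 := by
      rw [pow_eq_pow_iff_modEq]
      exact h6.of_dvd (orderOf_dvd_of_pow_eq_one (hexpE e heE))
    rw [h7, pow_one] at hi
    have h8 : ⁅x, e⁆ = e * h * e⁻¹ := by
      rw [commutatorElement_def, hi]
    rw [h8]
    exact hWn.conj_mem h hh e
  -- the centralizer of W
  set B : Subgroup R := Subgroup.centralizer (W : Set R) with hBdef
  have hBmem : ∀ b : R, b ∈ B ↔ ∀ v ∈ W, v * b = b * v := fun b => Subgroup.mem_centralizer_iff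
  have hWB : W ≤ B := by
    intro v hv
    rw [hBmem]
    intro v' hv'
    exact hWcomm v' hv' v hv
  have hσB : ∀ (σ : MulAut R) (b : R), b ∈ B → σ b ∈ B := by
    intro σ b hb
    rw [hBmem] at hb ⊢
    intro v hv
    have h1 : v = σ (σ⁻¹ v) := by simp
    rw [h1, ← map_mul, ← map_mul, hb _ (hσW σ⁻¹ v hv)]
  have hBof : ∀ w ∈ W, w ∉ Z₀ → ∀ b : R, w * b = b * w → b ∈ B := by
    intro w hw hwZ b hwb
    rw [hBmem]
    intro v hv
    obtain ⟨i, c, hc, rfl⟩ := hWdec w hw hwZ v hv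
    have h1 : w ^ i * b = b * w ^ i := (Commute.pow_left (show Commute w b from hwb) i).eq
    rw [mul_assoc, ← hcen c hc b, ← mul_assoc, h1, mul_assoc]
  have hBE : ∀ x : R, ∃ b ∈ B, ∃ t : ℕ, x = b * e ^ t := by
    intro x
    obtain ⟨i, hi⟩ := exists_pow_eq_of_prime_order hzo hz₀Z hz₀1 (hWr w₀ hw₀W x)
    have hb : x * e ^ ((p - 1) * i) ∈ B := by
      apply hBof w₀ hw₀W hw₀Z
      have h1 : ⁅x * e ^ ((p - 1) * i), w₀⁆ = 1 := by
        rw [comm_mul_left, hi]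
        have h2 : ⁅e ^ ((p - 1) * i), w₀⁆ = z₀ ^ ((p - 1) * i) := by
          have := hpair w₀ hw₀W ((p - 1) * i) 1 W.one_mem
          rwa [mul_one] at this
        rw [h2, hconj _ (Z₀.pow_mem hz₀Z _)]
        apply pow_pred_mul_cancel hpp.pos
        rw [← hz₀o, pow_orderOf_eq_one]
      exact ((commutatorElement_eq_one_iff_commute.mp h1).eq).symm
    refine ⟨x * e ^ ((p - 1) * i), hb, (p - 1) * ((p - 1) * i), ?_⟩
    rw [mul_assoc, pow_mul_pow_pred_cancel hpp.pos (hexpE e heE), mul_one]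
  -- the element u
  obtain ⟨u, huB, t₀, hx₀u⟩ := hBE x₀
  have hue : ⁅u, e⁆ = ⁅x₀, e⁆ := by
    rw [hx₀u, comm_mul_left]
    have : ⁅e ^ t₀, e⁆ = 1 := by
      rw [commutatorElement_eq_one_iff_commute]; exact (Commute.refl e).pow_left _
    rw [this]; group
  set w₂ := ⁅u, e⁆ with hw₂
  have hw₂W : w₂ ∈ W := hRe u
  have hw₂Z : w₂ ∉ Z₀ := by
    rw [hue]; exact hx₀
  set z₁ := ⁅e, w₂⁆ with hz₁
  have hz₁Z : z₁ ∈ Z₀ := hcommZ e heE w₂ (hWE hw₂W)
  have hz₁1 : z₁ ≠ 1 := by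
    intro h
    rw [hz₁, commutatorElement_eq_one_iff_commute] at h
    exact hw₂Z (hWe w₂ hw₂W h.eq.symm)
  have hz₁o : orderOf z₁ = p := orderOf_eq_of_mem_zpowers hzo hz₁Z hz₁1
  have hz₁p : z₁ ^ p = 1 := by rw [← hz₁o, pow_orderOf_eq_one]
  have hw2e : ⁅w₂, e⁆ = z₁⁻¹ := by rw [hz₁, comm_inv_swap]
  -- elements of B acting trivially on E / Z₀
  have hB1 : ∀ y ∈ B, ⁅y, e⁆ ∈ Z₀ → ∃ ζ ∈ Subgroup.centralizer (E : Set R), ∃ v ∈ W, y = ζ * v := by
    intro y hy hye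
    obtain ⟨j, hj⟩ := exists_pow_eq_of_prime_order hzo hz₁Z hz₁1 hye
    have h1 : ⁅y * w₂ ^ j, e⁆ = 1 := by
      rw [comm_mul_left, hj]
      have h2 : ⁅w₂ ^ j, e⁆ = (z₁⁻¹) ^ j := by
        rw [comm_pow_left, hw2e]
        rw [hw2e]; exact (hcen _ (Z₀.inv_mem hz₁Z) w₂).symm
      rw [h2, hconj _ (Z₀.pow_mem (Z₀.inv_mem hz₁Z) _), inv_pow, inv_mul_cancel]
    have h3 : (y * w₂ ^ j) * e = e * (y * w₂ ^ j) := (commutatorElement_eq_one_iff_commute.mp h1).eq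
    have h4 : y * w₂ ^ j ∈ B := B.mul_mem hy (hWB (W.pow_mem hw₂W j))
    refine ⟨y * w₂ ^ j, ?_, (w₂ ^ j)⁻¹, W.inv_mem (W.pow_mem hw₂W j), by group⟩
    rw [Subgroup.mem_centralizer_iff]
    intro x hx
    obtain ⟨i, h, hh, rfl⟩ := hEdec x hx
    have h5 : e ^ i * (y * w₂ ^ j) = (y * w₂ ^ j) * e ^ i :=
      ((Commute.pow_right (show Commute (y * w₂ ^ j) e from h3) i).eq).symm
    have h6 : h * (y * w₂ ^ j) = (y * w₂ ^ j) * h := (hBmem _).mp h4 h hh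
    rw [mul_assoc, h6, ← mul_assoc, h5, mul_assoc]
  -- iterated commutators with powers of e
  have hpow : ∀ (b : R) (m : ℕ), ⁅b, e ^ m⁆ ∈ W ∧ ⁅e, ⁅b, e ^ m⁆⁆ = ⁅e, ⁅b, e⁆⁆ ^ m := by
    intro b m
    induction m with
    | zero =>
      have h1 : ⁅b, e ^ 0⁆ = 1 := by simp [commutatorElement_def]
      rw [h1]
      refine ⟨W.one_mem, ?_⟩
      simp [commutatorElement_def]
    | succ m ih =>
      obtain ⟨ih1, ih2⟩ := ih
      have h1 : ⁅b, e ^ (m + 1)⁆ = ⁅b, e ^ m⁆ * (e ^ m * ⁅b, e⁆ * (e ^ m)⁻¹) := by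
        rw [pow_succ, comm_mul_right]
      have h2 : e ^ m * ⁅b, e⁆ * (e ^ m)⁻¹ ∈ W := hWn.conj_mem _ (hRe b) _
      rw [h1]
      refine ⟨W.mul_mem ih1 h2, ?_⟩
      rw [comm_mul_right, ih2]
      have h3 : ⁅e, e ^ m * ⁅b, e⁆ * (e ^ m)⁻¹⁆ = ⁅e, ⁅b, e⁆⁆ := by
        rw [comm_conj_of_commute e (e ^ m) ⁅b, e⁆ ((Commute.refl e).pow_left m).eq]
        exact hconj _ (hcommZ e heE _ (hWE (hRe b))) _
      rw [h3, hconj _ (hcommZ e heE _ (hWE (hRe b))) _, pow_succ]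
  -- the centralizer of E
  set Z : Subgroup R := Subgroup.centralizer (E : Set R) with hZdef
  have hZmem : ∀ ζ : R, ζ ∈ Z ↔ ∀ x ∈ E, x * ζ = ζ * x := fun ζ => Subgroup.mem_centralizer_iff
  have hZn : ∀ ζ ∈ Z, ∀ g : R, g * ζ * g⁻¹ ∈ Z := by
    intro ζ hζ g
    rw [hZmem] at hζ ⊢
    intro x hx
    have hx' : g⁻¹ * x * g ∈ E := by
      have := hEn.conj_mem x hx g⁻¹
      simpa using this
    have h1 := hζ (g⁻¹ * x * g) hx'
    calc x * (g * ζ * g⁻¹) = g * ((g⁻¹ * x * g) * ζ) * g⁻¹ := by group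
      _ = g * (ζ * (g⁻¹ * x * g)) * g⁻¹ := by rw [h1]
      _ = g * ζ * g⁻¹ * x := by group
  have hσZ : ∀ (σ : MulAut R) (ζ : R), ζ ∈ Z → σ ζ ∈ Z := by
    intro σ ζ hζ
    rw [hZmem] at hζ ⊢
    intro x hx
    have h1 : x = σ (σ⁻¹ x) := by simp
    rw [h1, ← map_mul, ← map_mul, hζ _ (hσE σ⁻¹ x hx)]
  have hZB : Z ≤ B := by
    intro ζ hζ
    rw [hBmem]
    intro v hv
    exact (hZmem ζ).mp hζ v (hWE hv)
  obtain ⟨g₀', hg₀'⟩ := hZcyc.exists_generator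
  set g₀ : R := (g₀' : R) with hg₀
  have hg₀Z : g₀ ∈ Z := g₀'.2
  have hZgen : ∀ ζ ∈ Z, ∃ k : ℕ, ζ = g₀ ^ k := by
    intro ζ hζ
    have h1 := hg₀' ⟨ζ, hζ⟩
    have h2 : (⟨ζ, hζ⟩ : Z) ∈ Submonoid.powers g₀' := (mem_powers_iff_mem_zpowers).mpr h1
    obtain ⟨k, hk⟩ := h2
    refine ⟨k, ?_⟩
    have := congrArg Subtype.val hk
    simpa using this.symm
  -- Z is central
  have hZcen : ∀ ζ ∈ Z, ∀ x : R, x * ζ = ζ * x := by
    have hN : Subgroup.centralizer (Z : Set R) = ⊤ := by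
      apply hgen
      intro σ hσ x
      rw [Subgroup.mem_centralizer_iff]
      intro ζ' hζ'
      have key : ∀ ζ ∈ Z, σ x * ζ * (σ x)⁻¹ = x * ζ * x⁻¹ := by
        intro ζ hζ
        obtain ⟨k, rfl⟩ := hZgen ζ hζ
        obtain ⟨i, hi⟩ := hZgen _ (hZn g₀ hg₀Z x)
        obtain ⟨j, hj⟩ := hZgen _ (hσZ σ⁻¹ g₀ hg₀Z)
        have h1 : σ x * g₀ * (σ x)⁻¹ = g₀ ^ i := by
          have h2 : σ x * g₀ * (σ x)⁻¹ = σ (x * σ⁻¹ g₀ * x⁻¹) := by simp
          rw [h2, hj, ← conj_pow, hi, ← pow_mul, mul_comm, pow_mul, ← hj, map_pow]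
          simp
        rw [← conj_pow, ← conj_pow, h1, hi]
      have hζ : x⁻¹ * ζ' * x ∈ Z := by
        have := hZn ζ' hζ' x⁻¹
        simpa using this
      have h := key _ hζ
      have h' : x * (x⁻¹ * ζ' * x) * x⁻¹ = ζ' := by group
      rw [h'] at h
      calc ζ' * (σ x * x⁻¹) = (σ x * (x⁻¹ * ζ' * x) * (σ x)⁻¹) * (σ x * x⁻¹) := by rw [h]
        _ = σ x * x⁻¹ * ζ' := by group
    intro ζ hζ x
    have hx : x ∈ Subgroup.centralizer (Z : Set R) := by rw [hN]; trivial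
    exact (Subgroup.mem_centralizer_iff.mp hx ζ hζ).symm
  -- u ^ p ∈ Z
  have hupZ : u ^ p ∈ Z := by
    have h1 : ⁅u ^ p, e⁆ = 1 := by
      rw [comm_pow_left]
      · exact hexpE w₂ (hWE hw₂W)
      · exact ((hBmem u).mp huB w₂ hw₂W)
    have h2 : u ^ p * e = e * u ^ p := (commutatorElement_eq_one_iff_commute.mp h1).eq
    rw [hZmem]
    intro x hx
    obtain ⟨i, h, hh, rfl⟩ := hEdec x hx
    have h3 : e ^ i * u ^ p = u ^ p * e ^ i :=
      ((Commute.pow_right (show Commute (u ^ p) e from h2) i).eq).symm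
    have h4 : h * u ^ p = u ^ p * h := (hBmem _).mp (B.pow_mem huB p) h hh
    rw [mul_assoc, h4, ← mul_assoc, h3, mul_assoc]
  -- E ∩ B = W
  have hEB : ∀ x ∈ E, x ∈ B → x ∈ W := by
    intro x hx hxB
    obtain ⟨i, h, hh, rfl⟩ := hEdec x hx
    have h1 : ⁅e ^ i * h, w₂⁆ = z₁ ^ i := hpair w₂ hw₂W i h hh
    have h2 : ⁅e ^ i * h, w₂⁆ = 1 := by
      rw [commutatorElement_eq_one_iff_commute]
      exact ((hBmem _).mp hxB w₂ hw₂W).symm
    rw [h2] at h1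
    have h3 : p ∣ i := by rw [← hz₁o]; exact orderOf_dvd_of_pow_eq_one h1.symm
    obtain ⟨k, rfl⟩ := h3
    rw [pow_mul, hexpE e heE, one_pow, one_mul]; exact hh
  -- p divides the order of the generator of Z
  obtain ⟨q₁, hq₁⟩ := hZgen z₁ (hZ0E hz₁Z |> fun _ => by
    rw [hZmem]; intro x _; exact hcen z₁ hz₁Z x)
  have hpg₀ : p ∣ orderOf g₀ := by
    rw [← hz₁o]
    apply orderOf_dvd_of_pow_eq_one
    rw [hq₁, ← pow_mul, mul_comm, pow_mul, pow_orderOf_eq_one, one_pow]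
  -- every automorphism in 𝒜 acts trivially on E / W
  have hσe : ∀ σ ∈ 𝒜, σ e * e⁻¹ ∈ W := by
    intro σ hσ
    obtain ⟨m, w₁, hw₁, hm⟩ := hEdec (σ e) (hσE σ e heE)
    have hvW : ⁅σ u, e⁆ ∈ W := hRe (σ u)
    have hσuB : σ u ∈ B := hσB σ u huB
    obtain ⟨n', hn'⟩ := exists_pow_eq_of_prime_order hzo hz₁Z hz₁1
      (hcommZ e heE ⁅σ u, e⁆ (hWE hvW))
    have hσw₂W : σ w₂ ∈ W := hσW σ w₂ hw₂W
    obtain ⟨l, hl⟩ := exists_pow_eq_of_prime_order hzo hz₁Z hz₁1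
      (hcommZ e heE (σ w₂) (hWE hσw₂W))
    obtain ⟨c, hc⟩ := exists_pow_eq_of_prime_order hzo hz₁Z hz₁1 (hσZ0 σ z₁ hz₁Z)
    -- first relation
    have R1 : z₁ ^ c = z₁ ^ (l * m) := by
      have h1 : σ z₁ = ⁅σ e, σ w₂⁆ := by rw [hz₁, map_commutatorElement]
      rw [← hc, h1, hm, hpair (σ w₂) hσw₂W m w₁ hw₁, hl, ← pow_mul]
    -- second relation
    have R2 : z₁ ^ l = z₁ ^ (n' * m) := by
      have h1 : σ w₂ = ⁅σ u, e ^ m⁆ := by
        have h2 : σ w₂ = ⁅σ u, σ e⁆ := by rw [hw₂, map_commutatorElement]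
        rw [h2, hm, comm_mul_right]
        have h3 : ⁅σ u, w₁⁆ = 1 := by
          rw [commutatorElement_eq_one_iff_commute]
          exact ((hBmem _).mp hσuB w₁ hw₁).symm
        rw [h3, mul_one, mul_inv_cancel, mul_one]
      rw [← hl, h1, (hpow (σ u) m).2, hn', ← pow_mul]
    -- third relation
    have R3 : c ≡ n' [MOD p] := by
      have hyB : σ u * u ^ ((p - 1) * n') ∈ B := B.mul_mem hσuB (B.pow_mem huB _)
      have hye : ⁅σ u * u ^ ((p - 1) * n'), e⁆ ∈ Z₀ := by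
        have h1 : ⁅σ u * u ^ ((p - 1) * n'), e⁆ = w₂ ^ ((p - 1) * n') * ⁅σ u, e⁆ := by
          rw [comm_mul_left]
          have h2 : ⁅u ^ ((p - 1) * n'), e⁆ = w₂ ^ ((p - 1) * n') := by
            rw [comm_pow_left]
            exact ((hBmem u).mp huB w₂ hw₂W)
          rw [h2]
          have h3 : σ u * w₂ ^ ((p - 1) * n') * (σ u)⁻¹ = w₂ ^ ((p - 1) * n') := by
            have := (hBmem _).mp hσuB (w₂ ^ ((p - 1) * n')) (W.pow_mem hw₂W _)
            rw [← this, mul_inv_cancel_right]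
          rw [h3]
        have h4 : w₂ ^ ((p - 1) * n') * ⁅σ u, e⁆ ∈ W := W.mul_mem (W.pow_mem hw₂W _) hvW
        rw [h1]
        apply hWe _ h4
        have h5 : ⁅e, w₂ ^ ((p - 1) * n') * ⁅σ u, e⁆⁆ = 1 := by
          rw [comm_mul_right, hn']
          have h6 : ⁅e, w₂ ^ ((p - 1) * n')⁆ = z₁ ^ ((p - 1) * n') := by
            rw [comm_pow_right]
            exact (hcen z₁ hz₁Z w₂).symm
          rw [h6, hconj _ (Z₀.pow_mem hz₁Z n')]
          exact pow_pred_mul_cancel hpp.pos hz₁p n'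
        exact ((commutatorElement_eq_one_iff_commute.mp h5).eq).symm
      obtain ⟨ζ, hζ, v', hv', hyζ⟩ := hB1 _ hyB hye
      -- σ u commutes with u
      have hσu : σ u = ζ * v' * (u ^ ((p - 1) * n'))⁻¹ := by rw [← hyζ]; group
      have hcu : Commute u (σ u) := by
        rw [hσu]
        have c1 : Commute u ζ := hZcen ζ hζ u
        have c2 : Commute u v' := ((hBmem u).mp huB v' hv').symm
        have c3 : Commute u (u ^ ((p - 1) * n'))⁻¹ := ((Commute.refl u).pow_right _).inv_right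
        exact (c1.mul_right c2).mul_right c3
      have hcζv : Commute ζ v' := (hZcen ζ hζ v').symm
      -- p-th powers
      have hkey : σ (u ^ p) * (u ^ p) ^ ((p - 1) * n') = ζ ^ p := by
        have h1 : (σ u * u ^ ((p - 1) * n')) ^ p = (ζ * v') ^ p := by rw [hyζ]
        rw [(hcu.symm.pow_right _).mul_pow, hcζv.mul_pow, hexpE v' (hWE hv'), mul_one] at h1
        rw [map_pow, ← h1, ← pow_mul, ← pow_mul, mul_comm p]
      obtain ⟨s, hs⟩ := hZgen _ hupZ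
      obtain ⟨r, hr⟩ := hZgen ζ hζ
      obtain ⟨c', hc'⟩ := hZgen _ (hσZ σ g₀ hg₀Z)
      -- p ∤ s
      have hps : ¬ p ∣ s := by
        rintro ⟨s', rfl⟩
        have hζ'Z : g₀ ^ s' ∈ Z := Z.pow_mem hg₀Z s'
        have h1 : (u * (g₀ ^ s')⁻¹) ^ p = 1 := by
          have hc1 : Commute u (g₀ ^ s')⁻¹ := (show Commute u (g₀ ^ s') from hZcen _ hζ'Z u).inv_right
          rw [hc1.mul_pow, hs, inv_pow, ← pow_mul, mul_comm s' p, mul_inv_cancel]
        have h2 : u * (g₀ ^ s')⁻¹ ∈ E := (hE _).mpr h1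
        have h3 : u * (g₀ ^ s')⁻¹ ∈ B := B.mul_mem huB (B.inv_mem (hZB hζ'Z))
        have h4 : u * (g₀ ^ s')⁻¹ ∈ W := hEB _ h2 h3
        apply hw₂Z
        have h5 : u = (u * (g₀ ^ s')⁻¹) * g₀ ^ s' := by group
        have h6 : w₂ = ⁅u * (g₀ ^ s')⁻¹, e⁆ := by
          conv_lhs => rw [hw₂, h5, comm_mul_left]
          have h7 : ⁅g₀ ^ s', e⁆ = 1 := by
            rw [commutatorElement_eq_one_iff_commute]
            exact ((hZmem _).mp hζ'Z e heE).symm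
          rw [h7]; group
        rw [h6]
        exact hcommZ _ (hWE h4) e heE
      -- the congruence
      have h1 : g₀ ^ (c' * s + s * ((p - 1) * n')) = g₀ ^ (r * p) := by
        have h2 : σ (u ^ p) = g₀ ^ (c' * s) := by rw [hs, map_pow, hc', ← pow_mul]
        rw [h2, hs, ← pow_mul, ← pow_add, hr, ← pow_mul] at hkey
        exact hkey
      rw [pow_eq_pow_iff_modEq] at h1
      have h2 : c' * s + s * ((p - 1) * n') ≡ r * p [MOD p] := h1.of_dvd hpg₀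
      have h3 : (p : ℕ) ∣ s * (c' + (p - 1) * n') := by
        have h4 : r * p ≡ 0 [MOD p] := (Nat.modEq_zero_iff_dvd).mpr (dvd_mul_left p r)
        have h5 := (h2.trans h4)
        rw [Nat.modEq_zero_iff_dvd] at h5
        have : c' * s + s * ((p - 1) * n') = s * (c' + (p - 1) * n') := by ring
        rwa [this] at h5
      have h4 : p ∣ c' + (p - 1) * n' := (hpp.dvd_mul.mp h3).resolve_left hps
      have h5 : c' ≡ n' [MOD p] := by
        have h6 : (p - 1) * n' + n' = p * n' := by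
          calc (p - 1) * n' + n' = (p - 1 + 1) * n' := by ring
            _ = p * n' := by rw [Nat.sub_add_cancel hpp.one_lt.le]
        have h7 : c' + (p - 1) * n' + n' ≡ c' [MOD p] := by
          rw [add_assoc, h6]
          show (c' + p * n') % p = c' % p
          exact Nat.add_mul_mod_self_left c' p n'
        have h8 : c' + (p - 1) * n' + n' ≡ n' [MOD p] := by
          have := (Nat.modEq_zero_iff_dvd.mpr h4).add_right n'
          simpa using this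
        exact h7.symm.trans h8
      have h6 : z₁ ^ c = z₁ ^ c' := by
        rw [← hc, hq₁, map_pow, hc', ← pow_mul, ← pow_mul, mul_comm]
      rw [pow_eq_pow_iff_modEq, hz₁o] at h6
      exact h6.trans h5
    -- arithmetic
    rw [pow_eq_pow_iff_modEq, hz₁o] at R1 R2
    have hcne : ¬ p ∣ c := by
      intro hd
      have h1 : σ z₁ = 1 := by
        rw [hc]
        obtain ⟨k, rfl⟩ := hd
        rw [pow_mul, hz₁p, one_pow]
      apply hz₁1
      have := σ.injective (h1.trans (map_one σ).symm)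
      exact this
    have hm2 : ((m : ZMod p)) ^ 2 = 1 := by
      have e1 : (c : ZMod p) = l * m := by
        have := (ZMod.natCast_eq_natCast_iff c (l * m) p).mpr R1
        push_cast at this; exact this
      have e2 : (l : ZMod p) = n' * m := by
        have := (ZMod.natCast_eq_natCast_iff l (n' * m) p).mpr R2
        push_cast at this; exact this
      have e3 : (c : ZMod p) = n' := (ZMod.natCast_eq_natCast_iff c n' p).mpr R3
      have hc0 : (c : ZMod p) ≠ 0 := by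
        rw [Ne, ZMod.natCast_eq_zero_iff]; exact hcne
      have hcm : (c : ZMod p) * (m : ZMod p) ^ 2 = c := by
        calc (c : ZMod p) * (m : ZMod p) ^ 2 = (n' * m) * m := by rw [e3]; ring
          _ = l * m := by rw [e2]
          _ = c := e1.symm
      have h0 : (c : ZMod p) * ((m : ZMod p) ^ 2 - 1) = 0 := by
        rw [mul_sub, hcm, mul_one, sub_self]
      rcases mul_eq_zero.mp h0 with h | h
      · exact absurd h hc0
      · exact sub_eq_zero.mp h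
    -- oddness
    obtain ⟨k, hkodd, hk⟩ := hodd σ hσ
    have hiter : ∀ j : ℕ, ∃ h ∈ W, (σ ^ j) e = e ^ (m ^ j) * h := by
      intro j
      induction j with
      | zero => exact ⟨1, W.one_mem, by simp⟩
      | succ j ih =>
        obtain ⟨h, hh, he⟩ := ih
        have h1 : (σ ^ (j + 1)) e = σ ((σ ^ j) e) := by
          rw [pow_succ', MulAut.mul_apply]
        obtain ⟨v, hv, hv2⟩ := mul_pow_mem_coset W (e ^ m) w₁ hw₁ (m ^ j)
        refine ⟨v * σ h, W.mul_mem hv (hσW σ h hh), ?_⟩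
        rw [h1, he, map_mul, map_pow, hm, hv2, ← pow_mul, pow_succ', mul_assoc]
    obtain ⟨h, hh, hke⟩ := hiter k
    rw [hk, MulAut.one_apply] at hke
    have hmk : z₁ ^ 1 = z₁ ^ (m ^ k) := by
      have h1 : ⁅e, w₂⁆ = ⁅e ^ (m ^ k) * h, w₂⁆ := by rw [← hke]
      rw [hpair w₂ hw₂W (m ^ k) h hh] at h1
      rw [pow_one]; exact h1
    rw [pow_eq_pow_iff_modEq, hz₁o] at hmk
    have hmk' : ((m : ZMod p)) ^ k = 1 := by
      have := (ZMod.natCast_eq_natCast_iff 1 (m ^ k) p).mpr hmk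
      push_cast at this; exact this.symm
    have hm1 : (m : ZMod p) = 1 := by
      obtain ⟨q, rfl⟩ := hkodd
      rw [pow_succ, pow_mul, hm2, one_pow, one_mul] at hmk'
      exact hmk'
    have hm1' : m ≡ 1 [MOD p] := by
      have := (ZMod.natCast_eq_natCast_iff m 1 p).mp (by push_cast; exact hm1)
      exact this
    have hem : e ^ m = e ^ 1 := by
      rw [pow_eq_pow_iff_modEq]
      exact hm1'.of_dvd (orderOf_dvd_of_pow_eq_one (hexpE e heE))
    rw [hm, hem, pow_one]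
    have : e * w₁ * e⁻¹ ∈ W := hWn.conj_mem w₁ hw₁ e
    exact this
  -- conclusion: B = ⊤
  have hBtop : B = ⊤ := by
    apply hgen
    intro σ hσ x
    obtain ⟨b, hb, t, rfl⟩ := hBE x
    have h1 := hσe σ hσ
    have h2 : σ e = e * (e⁻¹ * (σ e * e⁻¹) * e) := by group
    have h3 : e⁻¹ * (σ e * e⁻¹) * e ∈ W := by
      have := hWn.conj_mem _ h1 e⁻¹
      simpa using this
    obtain ⟨v, hv, h4⟩ := mul_pow_mem_coset W e (e⁻¹ * (σ e * e⁻¹) * e) h3 t
    have h5 : σ (b * e ^ t) * (b * e ^ t)⁻¹ = σ b * (e ^ t * v * (e ^ t)⁻¹) * b⁻¹ := by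
      rw [map_mul, map_pow, h2, h4]; group
    rw [h5]
    exact B.mul_mem (B.mul_mem (hσB σ b hb) (hWB (hWn.conj_mem v hv _))) (B.inv_mem hb)
  have heB : e ∈ B := by rw [hBtop]; trivial
  apply hz₁1
  rw [hz₁, commutatorElement_eq_one_iff_commute]
  exact ((hBmem e).mp heB w₂ hw₂W).symm

end main

end Cfsg.Agent.H2.RankTwoComm
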