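import Mathlib
import Cfsg.Prelude.Def_CaseTheorems
import Cfsg.Agent.H2.RankTwoCommB
import Cfsg.Agent.H2.UniqueOrderP

set_option autoImplicit false
open scoped commutatorElement

/-!
# Structure of a rank two `p`-group `R = [R, A]` whose `Ω₁` has order `p³`
-/

namespace Cfsg.Agent.H2.RankTwoComm

universe u

variable {R : Type u} [Group R] [Finite R] {p : ℕ} [hp : Fact p.Prime]

/-- the centralizer of `E` is cyclic -/
theorem centralizer_cyclic (hp2 : p ≠ 2) (hR : IsPGroup p R) (E : Subgroup R) (hE : ∀ x, x ∈ E ↔ x ^ p = 1)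
    {z : R} (hzo : orderOf z = p)
    (hcenZ : ∀ x ∈ E, (∀ e ∈ E, x * e = e * x) → x ∈ Subgroup.zpowers z) :
    IsCyclic (Subgroup.centralizer (E : Set R)) := by
  have hpp := hp.out
  set Z : Subgroup R := Subgroup.centralizer (E : Set R) with hZdef
  have hZp : IsPGroup p Z := hR.to_subgroup Z
  have hkey : ∀ H : Subgroup Z, Nat.card H = p → H.map Z.subtype = Subgroup.zpowers z := by
    intro H hH
    have hle : H.map Z.subtype ≤ Subgroup.zpowers z := by
      rintro _ ⟨x, hx, rfl⟩
      have hxp : (x : Z) ^ p = 1 := by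
        have h1 : (⟨x, hx⟩ : H) ^ p = 1 := by rw [← hH]; exact pow_card_eq_one'
        have := congrArg Subtype.val h1
        simpa using this
      have hxp' : ((x : R)) ^ p = 1 := by
        have := congrArg Subtype.val hxp
        simpa using this
      apply hcenZ _ ((hE _).mpr hxp')
      intro e he
      have := Subgroup.mem_centralizer_iff.mp x.2 e he
      exact this.symm
    apply Subgroup.eq_of_le_of_card_ge hle
    rw [Nat.card_zpowers, hzo, Subgroup.card_map_of_injective Z.subtype_injective, hH]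
  have huniq : ∀ H K : Subgroup Z, Nat.card H = p → Nat.card K = p → H = K := by
    intro H K hH hK
    apply Subgroup.map_injective Z.subtype_injective
    rw [hkey H hH, hkey K hK]
  rcases Cfsg.Agent.H2.UOP.main p hZp huniq with h | ⟨h, -⟩
  · exact h
  · exact absurd h hp2

/-- the structure theorem in the case `|Ω₁(R)| = p³` -/
theorem main_struct (hp3 : 3 < p) (hR : IsPGroup p R) (hrk : Cfsg.PRankLE p 2 R)
    (E : Subgroup R) (hE : ∀ x, x ∈ E ↔ x ^ p = 1) (hEcard : Nat.card E = p ^ 3)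
    (𝒜 : Set (MulAut R)) (hodd : ∀ σ ∈ 𝒜, ∃ k, Odd k ∧ σ ^ k = 1)
    (hgen : ∀ N : Subgroup R, (∀ σ ∈ 𝒜, ∀ x : R, σ x * x⁻¹ ∈ N) → N = ⊤) :
    (∃ a ∈ E, ∃ b ∈ E, a * b ≠ b * a) ∧ IsCyclic (Subgroup.centralizer (E : Set R)) ∧
      (∀ x : R, ∃ e ∈ E, ∃ c ∈ Subgroup.centralizer (E : Set R), x = e * c) ∧
      Subgroup.closure {x : R | x ∈ Subgroup.centralizer (E : Set R) ∧ x ^ p = 1} = ⁅E, E⁆ := by
  have hpp := hp.out
  have hp2 : p ≠ 2 := by omega
  -- E is not abelian
  have hnc : ∃ a ∈ E, ∃ b ∈ E, a * b ≠ b * a := by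
    by_contra hcon
    push Not at hcon
    have hEc : IsMulCommutative E := ⟨⟨fun a b => Subtype.ext (hcon a.1 a.2 b.1 b.2)⟩⟩
    have := hrk E hEc (fun a ha => (hE a).mp ha)
    rw [hEcard] at this
    have h2 : p ^ 2 < p ^ 3 := Nat.pow_lt_pow_right hpp.one_lt (by norm_num)
    omega
  obtain ⟨z, hzE, hzc, hzo, hcommZ, hcenZ⟩ := struct_E hR E hE hEcard hnc
  have hZcyc := centralizer_cyclic hp2 hR E hE hzo hcenZ
  have hcen : ∀ c ∈ Subgroup.zpowers z, ∀ g : R, g * c = c * g := by
    intro c hc g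
    obtain ⟨k, rfl⟩ := Subgroup.mem_zpowers_iff.mp hc
    exact Subgroup.mem_center_iff.mp (Subgroup.zpow_mem _ hzc k) g
  refine ⟨hnc, hZcyc, ?_, ?_⟩
  · -- E * Z = R
    by_cases hcase : ∀ x : R, ∀ e ∈ E, ⁅x, e⁆ ∈ Subgroup.zpowers z
    · obtain ⟨a, haE, b, hbE, hab⟩ := hnc
      exact case_one E hEcard hzc hzo haE hbE hab hcommZ hcase
    · exfalso
      push Not at hcase
      obtain ⟨x₀, e, heE, hx₀⟩ := hcase
      exact case_two hR E hE hEcard hzE hzc hzo hcommZ hcenZ hZcyc 𝒜 hodd hgen heE hx₀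
  · -- the elements of order p of Z
    have hset : {x : R | x ∈ Subgroup.centralizer (E : Set R) ∧ x ^ p = 1} =
        ((Subgroup.zpowers z : Subgroup R) : Set R) := by
      ext x
      constructor
      · rintro ⟨hxZ, hxp⟩
        apply hcenZ x ((hE x).mpr hxp)
        intro e he
        exact (Subgroup.mem_centralizer_iff.mp hxZ e he).symm
      · intro hx
        have hx' : x ∈ Subgroup.zpowers z := hx
        refine ⟨?_, ?_⟩
        · rw [Subgroup.mem_centralizer_iff]
          intro e _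
          exact hcen x hx' e
        · exact (hE x).mp ((Subgroup.zpowers_le.mpr hzE) hx')
    rw [hset, Subgroup.closure_eq]
    apply le_antisymm
    · obtain ⟨a, haE, b, hbE, hab⟩ := hnc
      have h1 : ⁅a, b⁆ ∈ Subgroup.zpowers z := hcommZ a haE b hbE
      have h2 : ⁅a, b⁆ ≠ 1 := by
        intro h
        rw [commutatorElement_eq_one_iff_commute] at h
        exact hab h.eq
      intro y hy
      obtain ⟨i, rfl⟩ := exists_pow_eq_of_prime_order hzo h1 h2 hy
      exact Subgroup.pow_mem _ (Subgroup.commutator_mem_commutator haE hbE) i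
    · rw [Subgroup.commutator_le]
      intro a ha b hb
      exact hcommZ a ha b hb

end Cfsg.Agent.H2.RankTwoComm
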