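import Mathlib
import Cfsg.Prelude.Def_PLocal
import Cfsg.Agent.H2.RegularPGroup
import Cfsg.Agent.Lib.Helper7.CentrallyLarge2

/-!
# Regular `p`-groups with cyclic derived subgroup: `|R| |C(R)| = |G| |Z(G)|` for `Z(G) ≤ R`

(author: helper2)

In a regular `p`-group `G` with cyclic derived subgroup, the Chermak–Delgado measure
`|R| · |C_G(R)|` is monotone in `R`; hence it is constant `= |G| · |Z(G)|` on the subgroups
containing the center.  Consequences: double centralizers, class sizes, abelian subgroups.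
-/

set_option autoImplicit false

namespace Cfsg.Agent.H2.CDD

open scoped commutatorElement
open Cfsg.Agent.Lib.Helper7 (cdm)

variable {G : Type*} [Group G] [Finite G] {p : ℕ} [Fact p.Prime]

/-- regularity, commutator form: `a ^ q` commutes with `b` iff `⁅a, b⁆ ^ q = 1` -/
theorem commute_pow_iff (hG : Cfsg.IsRegularPGroup p G) (a b : G) (k : ℕ) :
    Commute (a ^ p ^ k) b ↔ ⁅a, b⁆ ^ p ^ k = 1 := by
  have h := RegP.commute_pow_iff hG a⁻¹ b⁻¹ k
  rw [inv_inv, inv_inv] at h
  rw [commutatorElement_def, ← h, inv_pow]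
  exact (Commute.inv_inv_iff (a := a ^ p ^ k) (b := b)).symm

theorem commute_pow_iff' (hG : Cfsg.IsRegularPGroup p G) (a b : G) (k : ℕ) :
    Commute a (b ^ p ^ k) ↔ ⁅a, b⁆ ^ p ^ k = 1 := by
  have h := commute_pow_iff hG b a k
  rw [← commutatorElement_inv, inv_pow, inv_eq_one] at h
  exact ⟨fun hc => h.mp hc.symm, fun hc => (h.mpr hc).symm⟩

omit [Finite G] in
theorem commutatorElement_mem_commutator (x y : G) : ⁅x, y⁆ ∈ commutator G := by
  rw [commutator_def]
  exact Subgroup.commutator_mem_commutator (Subgroup.mem_top _) (Subgroup.mem_top _)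

omit [Finite G] in
/-- an element of order dividing `p` of the cyclic derived subgroup of a `p`-group is central -/
theorem mem_center_of_pow_p (hP : IsPGroup p G) (hc : IsCyclic (commutator G)) (z : G)
    (hz : z ∈ commutator G) (hzp : z ^ p = 1) : z ∈ Subgroup.center G := by
  rw [Subgroup.mem_center_iff]
  intro x
  obtain ⟨⟨c, hcG⟩, hgen⟩ := hc.exists_generator
  have hn : (commutator G).Normal := inferInstance
  obtain ⟨k, hk⟩ : ∃ k : ℤ, x * c * x⁻¹ = c ^ k := by
    have h1 := hgen ⟨x * c * x⁻¹, hn.conj_mem c hcG x⟩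
    obtain ⟨k, hk⟩ := Subgroup.mem_zpowers_iff.mp h1
    refine ⟨k, ?_⟩
    have h2 := congrArg Subtype.val hk
    simpa using h2.symm
  obtain ⟨m, hm⟩ : ∃ m : ℤ, z = c ^ m := by
    have h1 := hgen ⟨z, hz⟩
    obtain ⟨m, hm⟩ := Subgroup.mem_zpowers_iff.mp h1
    refine ⟨m, ?_⟩
    have h2 := congrArg Subtype.val hm
    simpa using h2.symm
  have h1 : x * z * x⁻¹ = z ^ k := by
    rw [hm, ← conj_zpow, hk, ← zpow_mul, ← zpow_mul, mul_comm]
  have h2 : ∀ j : ℕ, x ^ j * z * (x ^ j)⁻¹ = z ^ (k ^ j) := by
    intro j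
    induction j with
    | zero => simp
    | succ j ih =>
      have e1 : x ^ (j + 1) * z * (x ^ (j + 1))⁻¹ = x * (x ^ j * z * (x ^ j)⁻¹) * x⁻¹ := by
        rw [pow_succ']; group
      rw [e1, ih, ← conj_zpow, h1, ← zpow_mul, pow_succ']
  obtain ⟨e, he⟩ := hP x
  have h3 : z = z ^ (k ^ (p ^ e)) := by
    have := h2 (p ^ e)
    rw [he] at this
    simpa using this
  have h4 : k ^ (p ^ e) ≡ k [ZMOD (p : ℤ)] := by
    rw [← ZMod.intCast_eq_intCast_iff]
    push_cast
    exact ZMod.pow_card_pow _
  have h5 : (orderOf z : ℤ) ∣ (p : ℤ) := by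
    exact_mod_cast orderOf_dvd_of_pow_eq_one hzp
  have h6 : z ^ (k ^ (p ^ e)) = z ^ k := zpow_eq_zpow_iff_modEq.mpr (h4.of_dvd h5)
  have h7 : x * z * x⁻¹ = z := by rw [h1, ← h6, ← h3]
  calc x * z = x * z * x⁻¹ * x := by group
    _ = z * x := by rw [h7]

theorem p_mul_card_le_of_lt (hP : IsPGroup p G) {H K : Subgroup G} (h : H < K) :
    p * Nat.card H ≤ Nat.card K := by
  have hpp : p.Prime := Fact.out
  obtain ⟨a, ha⟩ := (hP.to_subgroup H).exists_card_eq
  obtain ⟨b, hb⟩ := (hP.to_subgroup K).exists_card_eq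
  have hlt : Nat.card H < Nat.card K := by
    by_contra hnot
    have := Subgroup.eq_of_le_of_card_ge h.le (not_lt.mp hnot)
    exact h.ne this
  rw [ha, hb] at hlt ⊢
  have hab : a < b := (Nat.pow_lt_pow_iff_right hpp.one_lt).mp hlt
  calc p * p ^ a = p ^ (a + 1) := by rw [pow_succ']
    _ ≤ p ^ b := Nat.pow_le_pow_right hpp.pos hab

/-- the key step: passing from `C(R₀)` to `C(R₀) ∩ C(g)` costs at most a factor `p`
when `g ^ p ∈ R₀` -/
theorem card_centralizer_le (hG : Cfsg.IsRegularPGroup p G) (hc : IsCyclic (commutator G))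
    (R₀ : Subgroup G) (g : G) (hg : g ^ p ∈ R₀) :
    Nat.card (Subgroup.centralizer (R₀ : Set G)) ≤
      p * Nat.card (Subgroup.centralizer (R₀ : Set G) ⊓ Subgroup.centralizer {g} : Subgroup G) := by
  have hpp : p.Prime := Fact.out
  have hcen : ∀ y ∈ Subgroup.centralizer (R₀ : Set G),
      ⁅g, y⁆ ∈ Subgroup.center G ∧ ⁅g, y⁆ ^ p = 1 := by
    intro y hy
    have h1 : Commute (g ^ p ^ 1) y := by
      rw [pow_one]
      exact Subgroup.mem_centralizer_iff.mp hy (g ^ p) hg
    have h2 : ⁅g, y⁆ ^ p = 1 := by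
      have := (commute_pow_iff hG g y 1).mp h1
      rwa [pow_one] at this
    exact ⟨mem_center_of_pow_p hG.1 hc _ (commutatorElement_mem_commutator g y) h2, h2⟩
  let f : ↥(Subgroup.centralizer (R₀ : Set G)) →* G :=
    MonoidHom.mk' (fun y => ⁅g, (y : G)⁆) (by
      intro x y
      have hz := (hcen y y.2).1
      rw [Subgroup.mem_center_iff] at hz
      have e1 : ⁅g, ((x * y : ↥(Subgroup.centralizer (R₀ : Set G))) : G)⁆ =
          ⁅g, (x : G)⁆ * ((x : G) * ⁅g, (y : G)⁆ * (x : G)⁻¹) := by
        rw [Subgroup.coe_mul]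
        simp only [commutatorElement_def]; group
      rw [e1, hz (x : G)]
      group)
  have hfapp : ∀ y, f y = ⁅g, (y : G)⁆ := fun y => rfl
  have hker : Nat.card f.ker =
      Nat.card (Subgroup.centralizer (R₀ : Set G) ⊓ Subgroup.centralizer {g} : Subgroup G) := by
    have h1 : f.ker = (Subgroup.centralizer (R₀ : Set G) ⊓ Subgroup.centralizer {g}).subgroupOf
        (Subgroup.centralizer (R₀ : Set G)) := by
      ext y
      rw [MonoidHom.mem_ker, Subgroup.mem_subgroupOf, Subgroup.mem_inf, hfapp,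
        commutatorElement_eq_one_iff_commute, Subgroup.mem_centralizer_singleton_iff]
      constructor
      · intro h
        exact ⟨y.2, h.eq.symm⟩
      · intro h
        exact h.2.symm
    rw [h1]
    exact Nat.card_congr (Subgroup.subgroupOfEquivOfLe inf_le_left).toEquiv
  have hrange : Nat.card f.range ∣ p := by
    have hle : f.range ≤ commutator G := by
      rintro _ ⟨y, rfl⟩
      exact commutatorElement_mem_commutator _ _
    have hcyc : IsCyclic f.range := Subgroup.isCyclic_of_le hle
    rw [← IsCyclic.exponent_eq_card]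
    apply Monoid.exponent_dvd_of_forall_pow_eq_one
    rintro ⟨_, y, rfl⟩
    apply Subtype.ext
    rw [Subgroup.coe_pow]
    exact (hcen y y.2).2
  calc Nat.card (Subgroup.centralizer (R₀ : Set G))
      = Nat.card f.ker * f.ker.index := (Subgroup.card_mul_index _).symm
    _ = Nat.card f.ker * Nat.card f.range := by rw [Subgroup.index_ker]
    _ ≤ Nat.card (Subgroup.centralizer (R₀ : Set G) ⊓ Subgroup.centralizer {g} : Subgroup G) * p :=
        Nat.mul_le_mul hker.le (Nat.le_of_dvd hpp.pos hrange)
    _ = _ := mul_comm _ _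

omit [Finite G] in
theorem centralizer_sup_zpowers (R₀ : Subgroup G) (g : G) :
    Subgroup.centralizer ((R₀ ⊔ Subgroup.zpowers g : Subgroup G) : Set G) =
      Subgroup.centralizer (R₀ : Set G) ⊓ Subgroup.centralizer {g} := by
  apply le_antisymm
  · apply le_inf
    · exact Subgroup.centralizer_le (by exact_mod_cast (le_sup_left : R₀ ≤ R₀ ⊔ Subgroup.zpowers g))
    · apply Subgroup.centralizer_le
      intro x hx
      rw [Set.mem_singleton_iff] at hx
      rw [hx]
      exact (le_sup_right : Subgroup.zpowers g ≤ R₀ ⊔ Subgroup.zpowers g) (Subgroup.mem_zpowers g)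
  · intro x hx
    rw [Subgroup.mem_inf] at hx
    have h1 : R₀ ⊔ Subgroup.zpowers g ≤ Subgroup.centralizer {x} := by
      apply sup_le
      · intro r hr
        rw [Subgroup.mem_centralizer_singleton_iff]
        exact Subgroup.mem_centralizer_iff.mp hx.1 r hr
      · rw [Subgroup.zpowers_le, Subgroup.mem_centralizer_singleton_iff]
        exact (Subgroup.mem_centralizer_singleton_iff.mp hx.2).symm
    rw [Subgroup.mem_centralizer_iff]
    intro h hh
    have := h1 hh
    rw [Subgroup.mem_centralizer_singleton_iff] at this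
    exact this

theorem cdm_le_step (hG : Cfsg.IsRegularPGroup p G) (hc : IsCyclic (commutator G))
    (R₀ : Subgroup G) (g : G) (hg : g ^ p ∈ R₀) (hg' : g ∉ R₀) :
    cdm R₀ ≤ cdm (R₀ ⊔ Subgroup.zpowers g) := by
  unfold cdm
  rw [centralizer_sup_zpowers]
  have h1 := card_centralizer_le hG hc R₀ g hg
  have hlt : R₀ < R₀ ⊔ Subgroup.zpowers g := by
    apply lt_of_le_of_ne le_sup_left
    intro h
    apply hg'
    rw [h]
    exact (le_sup_right : Subgroup.zpowers g ≤ R₀ ⊔ Subgroup.zpowers g) (Subgroup.mem_zpowers g)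
  have h2 := p_mul_card_le_of_lt hG.1 hlt
  calc Nat.card R₀ * Nat.card (Subgroup.centralizer (R₀ : Set G))
      ≤ Nat.card R₀ * (p * Nat.card (Subgroup.centralizer (R₀ : Set G) ⊓
          Subgroup.centralizer {g} : Subgroup G)) := Nat.mul_le_mul_left _ h1
    _ = (p * Nat.card R₀) * Nat.card (Subgroup.centralizer (R₀ : Set G) ⊓
          Subgroup.centralizer {g} : Subgroup G) := by ring
    _ ≤ _ := Nat.mul_le_mul_right _ h2

/-- the Chermak–Delgado measure is monotone -/
theorem cdm_mono (hG : Cfsg.IsRegularPGroup p G) (hc : IsCyclic (commutator G))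
    {R₀ R : Subgroup G} (h : R₀ ≤ R) : cdm R₀ ≤ cdm R := by
  classical
  induction' hk : Nat.card R - Nat.card R₀ using Nat.strong_induction_on with k ih generalizing R₀
  by_cases heq : R₀ = R
  · rw [heq]
  · obtain ⟨x, hxR, hxR₀⟩ := SetLike.exists_of_lt (lt_of_le_of_ne h heq)
    obtain ⟨e, he⟩ := hG.1 x
    have hex : ∃ j, x ^ p ^ j ∈ R₀ := ⟨e, he ▸ R₀.one_mem⟩
    have hj : x ^ p ^ (Nat.find hex) ∈ R₀ := Nat.find_spec hex
    have hj0 : Nat.find hex ≠ 0 := by
      intro h0
      apply hxR₀
      have := hj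
      rw [h0] at this
      simpa using this
    obtain ⟨i, hi⟩ := Nat.exists_eq_succ_of_ne_zero hj0
    have hgi : x ^ p ^ i ∉ R₀ := Nat.find_min hex (by omega : i < Nat.find hex)
    have hgp : (x ^ p ^ i) ^ p ∈ R₀ := by
      rw [← pow_mul, ← pow_succ, ← Nat.succ_eq_add_one, ← hi]
      exact hj
    have h1 := cdm_le_step hG hc R₀ (x ^ p ^ i) hgp hgi
    have hle : R₀ ⊔ Subgroup.zpowers (x ^ p ^ i) ≤ R :=
      sup_le h ((Subgroup.zpowers_le).mpr (R.pow_mem hxR _))
    have hlt : R₀ < R₀ ⊔ Subgroup.zpowers (x ^ p ^ i) := by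
      apply lt_of_le_of_ne le_sup_left
      intro h'
      apply hgi
      rw [h']
      exact (le_sup_right : Subgroup.zpowers (x ^ p ^ i) ≤ _) (Subgroup.mem_zpowers _)
    have hpp : p.Prime := Fact.out
    have h3 := p_mul_card_le_of_lt hG.1 hlt
    have h4 : Nat.card R₀ < Nat.card ↥(R₀ ⊔ Subgroup.zpowers (x ^ p ^ i)) := by
      have : 0 < Nat.card R₀ := Nat.card_pos
      have : 2 * Nat.card R₀ ≤ p * Nat.card R₀ := Nat.mul_le_mul_right _ hpp.two_le
      omega
    have h5 : Nat.card ↥(R₀ ⊔ Subgroup.zpowers (x ^ p ^ i)) ≤ Nat.card R :=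
      Subgroup.card_le_of_le hle
    have h2 := ih (Nat.card R - Nat.card ↥(R₀ ⊔ Subgroup.zpowers (x ^ p ^ i))) (by omega) hle rfl
    exact h1.trans h2

omit [Finite G] in
theorem centralizer_center :
    Subgroup.centralizer ((Subgroup.center G : Subgroup G) : Set G) = ⊤ :=
  Subgroup.centralizer_eq_top_iff_subset.mpr le_rfl

omit [Finite G] in
theorem cdm_center : cdm (Subgroup.center G) = Nat.card G * Nat.card (Subgroup.center G) := by
  unfold cdm
  rw [centralizer_center, Subgroup.card_top, mul_comm]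

omit [Finite G] in
theorem centralizer_sup_center (R : Subgroup G) :
    Subgroup.centralizer ((R ⊔ Subgroup.center G : Subgroup G) : Set G) =
      Subgroup.centralizer (R : Set G) := by
  apply le_antisymm
  · exact Subgroup.centralizer_le (by exact_mod_cast (le_sup_left : R ≤ R ⊔ Subgroup.center G))
  · intro x hx
    have h1 : R ⊔ Subgroup.center G ≤ Subgroup.centralizer {x} := by
      apply sup_le
      · intro r hr
        rw [Subgroup.mem_centralizer_singleton_iff]
        exact Subgroup.mem_centralizer_iff.mp hx r hr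
      · intro z hz
        rw [Subgroup.mem_centralizer_singleton_iff]
        exact ((Subgroup.mem_center_iff.mp hz) x).symm
    rw [Subgroup.mem_centralizer_iff]
    intro h hh
    have := h1 hh
    rw [Subgroup.mem_centralizer_singleton_iff] at this
    exact this

/-- **duality** -/
theorem duality (hG : Cfsg.IsRegularPGroup p G) (hc : IsCyclic (commutator G))
    (R : Subgroup G) (hZ : Subgroup.center G ≤ R) :
    cdm R = Nat.card G * Nat.card (Subgroup.center G) :=
  le_antisymm ((cdm_mono hG hc le_top).trans_eq Cfsg.Agent.Lib.Helper7.cdm_top)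
    (cdm_center.symm.le.trans (cdm_mono hG hc hZ))

theorem cdm_le (hG : Cfsg.IsRegularPGroup p G) (hc : IsCyclic (commutator G))
    (R : Subgroup G) : cdm R ≤ Nat.card G * Nat.card (Subgroup.center G) :=
  (cdm_mono hG hc le_top).trans_eq Cfsg.Agent.Lib.Helper7.cdm_top

theorem cdm_eq_iff (hG : Cfsg.IsRegularPGroup p G) (hc : IsCyclic (commutator G))
    (R : Subgroup G) :
    cdm R = Nat.card G * Nat.card (Subgroup.center G) ↔ Subgroup.center G ≤ R := by
  constructor
  · intro h
    have h2 := duality hG hc (R ⊔ Subgroup.center G) le_sup_right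
    unfold cdm at h h2
    rw [centralizer_sup_center] at h2
    have h3 : Nat.card R = Nat.card ↥(R ⊔ Subgroup.center G) :=
      Nat.eq_of_mul_eq_mul_right Nat.card_pos (h.trans h2.symm)
    have h4 : R = R ⊔ Subgroup.center G := Subgroup.eq_of_le_of_card_ge le_sup_left h3.symm.le
    rw [h4]
    exact le_sup_right
  · exact duality hG hc R

/-- `S3887` in general form -/
theorem isCentralizerLarge_iff (hG : Cfsg.IsRegularPGroup p G) (hc : IsCyclic (commutator G))
    (R : Subgroup G) : Cfsg.IsCentralizerLarge R ↔ Subgroup.center G ≤ R := by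
  have hmax : Cfsg.maxCentralizerProduct G = Nat.card G * Nat.card (Subgroup.center G) := by
    apply le_antisymm
    · obtain ⟨D, hD⟩ := Cfsg.Agent.Lib.Helper7.exists_cdm_eq_maxCentralizerProduct (X := G)
      rw [← hD]
      exact cdm_le hG hc D
    · rw [← Cfsg.Agent.Lib.Helper7.cdm_top]
      exact Cfsg.Agent.Lib.Helper7.cdm_le_maxCentralizerProduct ⊤
  rw [Cfsg.Agent.Lib.Helper7.isCentralizerLarge_iff_cdm, hmax]
  exact cdm_eq_iff hG hc R

/-- double centralizers -/
theorem centralizer_centralizer (hG : Cfsg.IsRegularPGroup p G) (hc : IsCyclic (commutator G))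
    (R : Subgroup G) (hZ : Subgroup.center G ≤ R) :
    Subgroup.centralizer (Subgroup.centralizer (R : Set G) : Set G) = R := by
  have h1 := duality hG hc R hZ
  have h2 := duality hG hc (Subgroup.centralizer (R : Set G)) (Subgroup.center_le_centralizer _)
  unfold cdm at h1 h2
  have h3 : Nat.card ↥(Subgroup.centralizer (Subgroup.centralizer (R : Set G) : Set G)) =
      Nat.card R := by
    have : Nat.card ↥(Subgroup.centralizer (R : Set G)) *
        Nat.card ↥(Subgroup.centralizer (Subgroup.centralizer (R : Set G) : Set G)) =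
        Nat.card ↥(Subgroup.centralizer (R : Set G)) * Nat.card R := by
      rw [h2, ← h1, mul_comm]
    exact Nat.eq_of_mul_eq_mul_left Nat.card_pos this
  exact (Subgroup.eq_of_le_of_card_ge (Cfsg.Agent.Lib.Helper7.le_centralizer_centralizer R)
    h3.le).symm

/-- `S3885` in general form -/
theorem eq_center_centralizer (hG : Cfsg.IsRegularPGroup p G) (hc : IsCyclic (commutator G))
    (K : Subgroup G) (hK : IsMulCommutative ↥K) (hZ : Subgroup.center G ≤ K) :
    K = Subgroup.centralizer (K : Set G) ⊓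
      Subgroup.centralizer (Subgroup.centralizer (K : Set G) : Set G) := by
  rw [centralizer_centralizer hG hc K hZ]
  exact (inf_eq_right.mpr
    ((Cfsg.Agent.Lib.Helper7.isMulCommutative_iff_le_centralizer K).mp hK)).symm

omit [Finite G] in
theorem card_zpowers_sup (N : Subgroup G) [N.Normal] (g : G) :
    Nat.card ↥(Subgroup.zpowers g ⊔ N) =
      Nat.card N * orderOf (QuotientGroup.mk g : G ⧸ N) := by
  have h1 : N.relIndex (Subgroup.zpowers g ⊔ N) =
      Nat.card ↥((Subgroup.zpowers g ⊔ N).map (QuotientGroup.mk' N)) := by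
    have := Subgroup.relIndex_ker (QuotientGroup.mk' N) (K := Subgroup.zpowers g ⊔ N)
    rwa [QuotientGroup.ker_mk'] at this
  have h2 : (Subgroup.zpowers g ⊔ N).map (QuotientGroup.mk' N) =
      Subgroup.zpowers (QuotientGroup.mk g : G ⧸ N) := by
    rw [Subgroup.map_sup, MonoidHom.map_zpowers, QuotientGroup.map_mk'_self, sup_bot_eq]
    rfl
  rw [h2, Nat.card_zpowers] at h1
  have h3 : Nat.card N * N.relIndex (Subgroup.zpowers g ⊔ N) =
      Nat.card ↥(Subgroup.zpowers g ⊔ N) := by
    rw [← Subgroup.relIndex_bot_left, ← Subgroup.relIndex_bot_left,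
      Subgroup.relIndex_mul_relIndex _ _ _ bot_le le_sup_right]
  rw [← h3, h1]

/-- the size of a conjugacy class is the order modulo the center -/
theorem index_centralizer_singleton (hG : Cfsg.IsRegularPGroup p G)
    (hc : IsCyclic (commutator G)) (g : G) :
    (Subgroup.centralizer ({g} : Set G)).index =
      orderOf (QuotientGroup.mk g : G ⧸ Subgroup.center G) := by
  have h1 := duality hG hc (Subgroup.center G ⊔ Subgroup.zpowers g) le_sup_left
  unfold cdm at h1
  rw [centralizer_sup_zpowers, centralizer_center, top_inf_eq, sup_comm, card_zpowers_sup] at h1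
  have h2 := Subgroup.card_mul_index (Subgroup.centralizer ({g} : Set G))
  have h3 : Nat.card ↥(Subgroup.center G) *
      (orderOf (QuotientGroup.mk g : G ⧸ Subgroup.center G) *
        Nat.card ↥(Subgroup.centralizer ({g} : Set G))) =
      Nat.card ↥(Subgroup.center G) *
        (Nat.card ↥(Subgroup.centralizer ({g} : Set G)) *
          (Subgroup.centralizer ({g} : Set G)).index) := by
    rw [h2, ← mul_assoc, h1, mul_comm]
  have h4 := Nat.eq_of_mul_eq_mul_left Nat.card_pos h3
  rw [mul_comm] at h4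
  exact (Nat.eq_of_mul_eq_mul_left Nat.card_pos h4).symm

theorem card_sq_le_of_comm (hG : Cfsg.IsRegularPGroup p G) (hc : IsCyclic (commutator G))
    (L : Subgroup G) (hL : IsMulCommutative ↥L) :
    Nat.card L ^ 2 ≤ Nat.card G * Nat.card (Subgroup.center G) := by
  have h1 := (Cfsg.Agent.Lib.Helper7.isMulCommutative_iff_le_centralizer L).mp hL
  have h2 := cdm_le hG hc L
  unfold cdm at h2
  calc Nat.card L ^ 2 = Nat.card L * Nat.card L := sq _
    _ ≤ Nat.card L * Nat.card ↥(Subgroup.centralizer (L : Set G)) :=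
        Nat.mul_le_mul_left _ (Subgroup.card_le_of_le h1)
    _ ≤ _ := h2

omit [Finite G] in
theorem comm_sup_zpowers (L : Subgroup G) (hL : IsMulCommutative ↥L) (x : G)
    (hx : x ∈ Subgroup.centralizer (L : Set G)) :
    IsMulCommutative ↥(L ⊔ Subgroup.zpowers x) := by
  rw [Cfsg.Agent.Lib.Helper7.isMulCommutative_iff_le_centralizer, centralizer_sup_zpowers]
  have h1 := (Cfsg.Agent.Lib.Helper7.isMulCommutative_iff_le_centralizer L).mp hL
  apply sup_le
  · apply le_inf h1
    intro l hl
    rw [Subgroup.mem_centralizer_singleton_iff]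
    exact (Subgroup.mem_centralizer_iff.mp hx l hl)
  · rw [Subgroup.zpowers_le]
    exact ⟨hx, Subgroup.mem_centralizer_singleton_iff.mpr rfl⟩

omit [Finite G] in
theorem comm_sup_center (L : Subgroup G) (hL : IsMulCommutative ↥L) :
    IsMulCommutative ↥(L ⊔ Subgroup.center G) := by
  rw [Cfsg.Agent.Lib.Helper7.isMulCommutative_iff_le_centralizer, centralizer_sup_center]
  exact sup_le ((Cfsg.Agent.Lib.Helper7.isMulCommutative_iff_le_centralizer L).mp hL)
    (Subgroup.center_le_centralizer _)

omit [Finite G] in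
theorem center_le_of_maximal_comm (L : Subgroup G)
    (hL : Maximal (fun K : Subgroup G => IsMulCommutative ↥K) L) : Subgroup.center G ≤ L :=
  le_sup_right.trans (hL.2 (comm_sup_center L hL.1) le_sup_left)

omit [Finite G] in
theorem centralizer_eq_of_maximal_comm (L : Subgroup G)
    (hL : Maximal (fun K : Subgroup G => IsMulCommutative ↥K) L) :
    Subgroup.centralizer (L : Set G) = L := by
  apply le_antisymm
  · intro x hx
    have h1 := hL.2 (comm_sup_zpowers L hL.1 x hx) le_sup_left
    exact h1 ((le_sup_right : Subgroup.zpowers x ≤ _) (Subgroup.mem_zpowers x))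
  · exact (Cfsg.Agent.Lib.Helper7.isMulCommutative_iff_le_centralizer L).mp hL.1

theorem card_sq_eq_of_maximal_comm (hG : Cfsg.IsRegularPGroup p G) (hc : IsCyclic (commutator G))
    (L : Subgroup G) (hL : Maximal (fun K : Subgroup G => IsMulCommutative ↥K) L) :
    Nat.card L ^ 2 = Nat.card G * Nat.card (Subgroup.center G) := by
  have h1 := duality hG hc L (center_le_of_maximal_comm L hL)
  unfold cdm at h1
  rw [centralizer_eq_of_maximal_comm L hL] at h1
  rw [sq, h1]

end Cfsg.Agent.H2.CDD
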