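import Mathlib
import Cfsg.Prelude.Def_OddOrderLocal
import Cfsg.Prelude.Def_BaumannBlocks
import Cfsg.Agent.H2.CyclicDerivedRegular
import Cfsg.Agent.H2.CyclicDerivedDuality
import Cfsg.Agent.H1.PGroup
import Cfsg.Agent.H1.Card
import Cfsg.Agent.Lib.Helper7.Core

/-!
# Metacyclic `p`-groups for odd `p`

(author: helper2)
-/

set_option autoImplicit false

namespace Cfsg.Agent.H2.MetaOdd

open scoped commutatorElement
open Cfsg.Agent.Lib.Helper7 (cdm)

variable {G : Type*} [Group G]

/-- a pair of generators of a metacyclic group, together with regularity -/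
structure Ctx (p : ℕ) (a b : G) : Prop where
  reg : Cfsg.IsRegularPGroup p G
  normal : (Subgroup.zpowers a).Normal
  gen : ∀ g : G, ∃ i j : ℤ, g = a ^ i * b ^ j

theorem exists_gens (hmc : Cfsg.IsMetacyclic G) :
    ∃ a b : G, (Subgroup.zpowers a).Normal ∧ ∀ g : G, ∃ i j : ℤ, g = a ^ i * b ^ j := by
  obtain ⟨N, hN, hNc, hQc⟩ := hmc
  obtain ⟨⟨a, haN⟩, ha⟩ := hNc.exists_generator
  obtain ⟨q, hq⟩ := hQc.exists_generator
  obtain ⟨b, rfl⟩ := QuotientGroup.mk_surjective q
  have hNa : Subgroup.zpowers a = N := by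
    ext x
    constructor
    · intro hx
      obtain ⟨k, rfl⟩ := Subgroup.mem_zpowers_iff.mp hx
      exact N.zpow_mem haN k
    · intro hx
      obtain ⟨k, hk⟩ := Subgroup.mem_zpowers_iff.mp (ha ⟨x, hx⟩)
      rw [Subgroup.mem_zpowers_iff]
      refine ⟨k, ?_⟩
      have := congrArg Subtype.val hk
      simpa using this
  refine ⟨a, b, hNa ▸ hN, ?_⟩
  intro g
  obtain ⟨j, hj⟩ := Subgroup.mem_zpowers_iff.mp (hq (QuotientGroup.mk g))
  have h1 : g * (b ^ j)⁻¹ ∈ N := by
    rw [← QuotientGroup.eq_one_iff, QuotientGroup.mk_mul, QuotientGroup.mk_inv,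
      QuotientGroup.mk_zpow, hj, mul_inv_cancel]
  rw [← hNa] at h1
  obtain ⟨i, hi⟩ := Subgroup.mem_zpowers_iff.mp h1
  exact ⟨i, j, by rw [hi]; group⟩

theorem regular [Finite G] {p : ℕ} [Fact p.Prime] (hp : p ≠ 2) (hG : IsPGroup p G)
    (hmc : Cfsg.IsMetacyclic G) : Cfsg.IsRegularPGroup p G := by
  obtain ⟨N, hN, hNc, hQc⟩ := hmc
  exact CycDer.regular_of_metacyclic hp hG N hNc hQc

theorem exists_ctx [Finite G] {p : ℕ} [Fact p.Prime] (hp : p ≠ 2) (hG : IsPGroup p G)
    (hmc : Cfsg.IsMetacyclic G) : ∃ a b : G, Ctx p a b := by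
  obtain ⟨a, b, h1, h2⟩ := exists_gens hmc
  exact ⟨a, b, regular hp hG hmc, h1, h2⟩

/-- subgroups of metacyclic groups are metacyclic -/
theorem isMetacyclic_subgroup (hmc : Cfsg.IsMetacyclic G) (H : Subgroup G) :
    Cfsg.IsMetacyclic ↥H := by
  obtain ⟨N, hN, hNc, hQc⟩ := hmc
  have hn : (N.subgroupOf H).Normal := hN.subgroupOf H
  refine ⟨N.subgroupOf H, hn, ?_, ?_⟩
  · let f : ↥(N.subgroupOf H) →* ↥N :=
      { toFun := fun x => ⟨(x : H), x.2⟩
        map_one' := rfl
        map_mul' := fun _ _ => rfl }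
    have hf : Function.Injective f := by
      intro x y hxy
      have := congrArg Subtype.val hxy
      exact Subtype.ext (Subtype.ext this)
    exact isCyclic_of_injective f hf
  · let f : ↥H →* G ⧸ N := (QuotientGroup.mk' N).comp H.subtype
    have hle : N.subgroupOf H ≤ f.ker := by
      intro x hx
      rw [MonoidHom.mem_ker]
      exact (QuotientGroup.eq_one_iff _).mpr hx
    let φ : ↥H ⧸ N.subgroupOf H →* G ⧸ N := QuotientGroup.lift (N.subgroupOf H) f hle
    have hφ : Function.Injective φ := by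
      rw [injective_iff_map_eq_one]
      intro q hq
      obtain ⟨h, rfl⟩ := QuotientGroup.mk_surjective q
      have h1 : ((h : G) : G ⧸ N) = 1 := hq
      rw [QuotientGroup.eq_one_iff, Subgroup.mem_subgroupOf]
      exact (QuotientGroup.eq_one_iff _).mp h1
    exact isCyclic_of_injective φ hφ

namespace Ctx

variable {p : ℕ} {a b : G}

theorem closure_eq_top (h : Ctx p a b) : Subgroup.closure ({a, b} : Set G) = ⊤ := by
  rw [eq_top_iff]
  intro g _
  obtain ⟨i, j, rfl⟩ := h.gen g
  exact mul_mem (zpow_mem (Subgroup.subset_closure (by simp)) i)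
    (zpow_mem (Subgroup.subset_closure (by simp)) j)

theorem mem_center_iff (h : Ctx p a b) (z : G) :
    z ∈ Subgroup.center G ↔ Commute z a ∧ Commute z b := by
  constructor
  · intro hz
    rw [Subgroup.mem_center_iff] at hz
    exact ⟨(hz a).symm, (hz b).symm⟩
  · rintro ⟨h1, h2⟩
    rw [Subgroup.mem_center_iff]
    intro g
    obtain ⟨i, j, rfl⟩ := h.gen g
    exact (((h1.zpow_right i).mul_right (h2.zpow_right j)).eq).symm

/-- subgroups of `⟨a⟩` are normal in `G` -/
theorem normal_of_le (h : Ctx p a b) (H : Subgroup G) (hH : H ≤ Subgroup.zpowers a) :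
    H.Normal := by
  constructor
  intro x hx g
  obtain ⟨k, rfl⟩ := Subgroup.mem_zpowers_iff.mp (hH hx)
  have h1 := h.normal.conj_mem a (Subgroup.mem_zpowers a) g
  obtain ⟨m, hm⟩ := Subgroup.mem_zpowers_iff.mp h1
  rw [← conj_zpow, ← hm, ← zpow_mul, mul_comm, zpow_mul]
  exact H.zpow_mem hx m

theorem commutator_mem (h : Ctx p a b) : ⁅a, b⁆ ∈ Subgroup.zpowers a := by
  have h1 := h.normal.conj_mem a (Subgroup.mem_zpowers a) b
  have : ⁅a, b⁆ = a * (b * a * b⁻¹)⁻¹ := by rw [commutatorElement_def]; group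
  rw [this]
  exact mul_mem (Subgroup.mem_zpowers a) (inv_mem h1)

theorem commutator_eq (h : Ctx p a b) : commutator G = Subgroup.zpowers ⁅a, b⁆ := by
  apply le_antisymm
  · have hn : (Subgroup.zpowers ⁅a, b⁆).Normal :=
      h.normal_of_le _ ((Subgroup.zpowers_le).mpr h.commutator_mem)
    have h1 := RegP.commutator_closure_le ({a, b} : Set G) (Subgroup.zpowers ⁅a, b⁆)
      (by rw [Subgroup.normalizer_eq_top]; exact le_top)
      (by
        intro s hs t ht
        have hs' : s = a ∨ s = b := hs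
        have ht' : t = a ∨ t = b := ht
        rcases hs' with hs' | hs' <;> rcases ht' with ht' | ht' <;> rw [hs', ht']
        · rw [commutatorElement_self]; exact one_mem _
        · exact Subgroup.mem_zpowers _
        · have e : ⁅b, a⁆ = ⁅a, b⁆⁻¹ := (commutatorElement_inv a b).symm
          rw [e]
          exact (Subgroup.zpowers ⁅a, b⁆).inv_mem (Subgroup.mem_zpowers _)
        · rw [commutatorElement_self]; exact one_mem _)
    rwa [h.closure_eq_top, ← commutator_def] at h1
  · rw [Subgroup.zpowers_le]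
    exact CDD.commutatorElement_mem_commutator a b

theorem cyclic (h : Ctx p a b) : IsCyclic (commutator G) := by
  rw [h.commutator_eq]
  infer_instance

theorem card_commutator (h : Ctx p a b) : Nat.card (commutator G) = orderOf ⁅a, b⁆ := by
  rw [h.commutator_eq, Nat.card_zpowers]

end Ctx

theorem zpowers_sup_center_le (x : G) :
    Subgroup.zpowers x ⊔ Subgroup.center G ≤ Subgroup.centralizer {x} := by
  apply sup_le
  · rw [Subgroup.zpowers_le]
    exact Subgroup.mem_centralizer_singleton_iff.mpr rfl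
  · intro z hz
    rw [Subgroup.mem_centralizer_singleton_iff]
    exact ((Subgroup.mem_center_iff.mp hz) x).symm

/-- two elements of `p`-groups with the same vanishing `p`-power powers have the same order -/
theorem orderOf_eq_of_pow_iff {p : ℕ} [Fact p.Prime] {G₁ G₂ : Type*} [Group G₁] [Group G₂]
    (h₁ : IsPGroup p G₁) (h₂ : IsPGroup p G₂) (x : G₁) (y : G₂)
    (h : ∀ k : ℕ, x ^ p ^ k = 1 ↔ y ^ p ^ k = 1) : orderOf x = orderOf y := by
  obtain ⟨e₁, he₁⟩ := h₁.exists_orderOf_eq_pow x
  obtain ⟨e₂, he₂⟩ := h₂.exists_orderOf_eq_pow y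
  apply Nat.dvd_antisymm
  · rw [he₂, orderOf_dvd_iff_pow_eq_one, h, ← he₂]
    exact pow_orderOf_eq_one y
  · rw [he₁, orderOf_dvd_iff_pow_eq_one, ← h, ← he₁]
    exact pow_orderOf_eq_one x

namespace Ctx

variable [Finite G] {p : ℕ} [Fact p.Prime] {a b : G}

theorem orderOf_mk_a (h : Ctx p a b) :
    orderOf (QuotientGroup.mk a : G ⧸ Subgroup.center G) = Nat.card (commutator G) := by
  rw [h.card_commutator]
  apply orderOf_eq_of_pow_iff (h.reg.1.to_quotient _) h.reg.1
  intro k
  rw [← QuotientGroup.mk_pow, QuotientGroup.eq_one_iff, h.mem_center_iff,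
    ← CDD.commute_pow_iff h.reg a b k]
  constructor
  · intro h1; exact h1.2
  · intro h1; exact ⟨(Commute.refl a).pow_left _, h1⟩

theorem orderOf_mk_b (h : Ctx p a b) :
    orderOf (QuotientGroup.mk b : G ⧸ Subgroup.center G) = Nat.card (commutator G) := by
  rw [h.card_commutator]
  apply orderOf_eq_of_pow_iff (h.reg.1.to_quotient _) h.reg.1
  intro k
  rw [← QuotientGroup.mk_pow, QuotientGroup.eq_one_iff, h.mem_center_iff,
    ← CDD.commute_pow_iff' h.reg a b k]
  constructor
  · intro h1; exact h1.1.symm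
  · intro h1; exact ⟨h1.symm, (Commute.refl b).pow_left _⟩

omit [Finite G] [Fact p.Prime] in
theorem inf_eq (h : Ctx p a b) :
    (Subgroup.zpowers a ⊔ Subgroup.center G) ⊓ (Subgroup.zpowers b ⊔ Subgroup.center G) =
      Subgroup.center G := by
  apply le_antisymm
  · intro x hx
    rw [Subgroup.mem_inf] at hx
    rw [h.mem_center_iff]
    exact ⟨Subgroup.mem_centralizer_singleton_iff.mp (zpowers_sup_center_le a hx.1),
      Subgroup.mem_centralizer_singleton_iff.mp (zpowers_sup_center_le b hx.2)⟩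
  · exact le_inf le_sup_right le_sup_right

omit [Finite G] [Fact p.Prime] in
theorem sup_eq (h : Ctx p a b) :
    (Subgroup.zpowers b ⊔ Subgroup.center G) ⊔ (Subgroup.zpowers a ⊔ Subgroup.center G) = ⊤ := by
  rw [eq_top_iff, ← h.closure_eq_top, Subgroup.closure_le]
  intro x hx
  rcases hx with rfl | rfl
  · exact (le_sup_right : Subgroup.zpowers x ⊔ Subgroup.center G ≤ _)
      ((le_sup_left : Subgroup.zpowers x ≤ _) (Subgroup.mem_zpowers x))
  · exact (le_sup_left : Subgroup.zpowers x ⊔ Subgroup.center G ≤ _)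
      ((le_sup_left : Subgroup.zpowers x ≤ _) (Subgroup.mem_zpowers x))

/-- `|G| = |Z(G)| · |G'|²` -/
theorem card_eq (h : Ctx p a b) :
    Nat.card G = Nat.card (Subgroup.center G) * Nat.card (commutator G) ^ 2 := by
  have hn := h.normal
  have h1 := Cfsg.Agent.H1.card_sup_mul_card_inf (Subgroup.zpowers b ⊔ Subgroup.center G)
    (Subgroup.zpowers a ⊔ Subgroup.center G)
    (by rw [Subgroup.normalizer_eq_top]; exact le_top)
  rw [h.sup_eq, inf_comm, h.inf_eq, CDD.card_zpowers_sup, CDD.card_zpowers_sup, h.orderOf_mk_a,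
    h.orderOf_mk_b, Subgroup.card_top] at h1
  have h2 : Nat.card G * Nat.card (Subgroup.center G) =
      (Nat.card (Subgroup.center G) * Nat.card (commutator G) ^ 2) *
        Nat.card (Subgroup.center G) := by
    rw [h1]; ring
  exact Nat.eq_of_mul_eq_mul_right Nat.card_pos h2

/-- `S3879` -/
theorem index_center (h : Ctx p a b) :
    (Subgroup.center G).index = Nat.card (commutator G) ^ 2 := by
  have h1 := Subgroup.card_mul_index (Subgroup.center G)
  rw [h.card_eq] at h1
  exact Nat.eq_of_mul_eq_mul_left Nat.card_pos h1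

end Ctx

/-! ### the subgroups generated by `p ^ s`-th powers -/

/-- the subgroup generated by the `p ^ s`-th powers -/
def pw (p s : ℕ) (G : Type*) [Group G] : Subgroup G :=
  Subgroup.closure {x : G | ∃ y : G, y ^ p ^ s = x}

theorem pow_mem_pw (p s : ℕ) (y : G) : y ^ p ^ s ∈ pw p s G :=
  Subgroup.subset_closure ⟨y, rfl⟩

theorem pw_anti (p : ℕ) {s t : ℕ} (h : s ≤ t) : pw p t G ≤ pw p s G := by
  unfold pw
  rw [Subgroup.closure_le]
  rintro x ⟨y, rfl⟩
  have : y ^ p ^ t = (y ^ p ^ (t - s)) ^ p ^ s := by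
    rw [← pow_mul, ← pow_add, Nat.sub_add_cancel h]
  rw [this]
  exact pow_mem_pw p s _

theorem mem_centralizer_iff_le (H : Subgroup G) (x : G) :
    x ∈ Subgroup.centralizer (H : Set G) ↔ H ≤ Subgroup.centralizer {x} := by
  constructor
  · intro hx r hr
    rw [Subgroup.mem_centralizer_singleton_iff]
    exact Subgroup.mem_centralizer_iff.mp hx r hr
  · intro h
    rw [Subgroup.mem_centralizer_iff]
    intro r hr
    exact Subgroup.mem_centralizer_singleton_iff.mp (h hr)

theorem mem_centralizer_pw_iff [Finite G] {p : ℕ} [Fact p.Prime]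
    (hreg : Cfsg.IsRegularPGroup p G) (s : ℕ) (x : G) :
    x ∈ Subgroup.centralizer (pw p s G : Set G) ↔ x ^ p ^ s ∈ Subgroup.center G := by
  rw [mem_centralizer_iff_le, Subgroup.mem_center_iff]
  unfold pw
  rw [Subgroup.closure_le]
  constructor
  · intro h g
    have h1 : g ^ p ^ s ∈ Subgroup.centralizer {x} := h ⟨g, rfl⟩
    rw [Subgroup.mem_centralizer_singleton_iff] at h1
    have h2 : Commute x (g ^ p ^ s) := h1.symm
    have h3 := (CDD.commute_pow_iff' hreg x g s).mp h2
    exact ((CDD.commute_pow_iff hreg x g s).mpr h3).eq.symm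
  · rintro h _ ⟨g, rfl⟩
    rw [SetLike.mem_coe, Subgroup.mem_centralizer_singleton_iff]
    have h1 : Commute (x ^ p ^ s) g := (h g).symm
    have h3 := (CDD.commute_pow_iff hreg x g s).mp h1
    exact ((CDD.commute_pow_iff' hreg x g s).mpr h3).eq.symm

theorem pow_card_commutator_mem_center [Finite G] {p : ℕ} [Fact p.Prime]
    (hreg : Cfsg.IsRegularPGroup p G) {n : ℕ} (hn : Nat.card (commutator G) = p ^ n) (y : G) :
    y ^ p ^ n ∈ Subgroup.center G := by
  rw [Subgroup.mem_center_iff]
  intro g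
  have h1 : ⁅y, g⁆ ^ p ^ n = 1 := by
    have h2 := pow_card_eq_one' (G := ↥(commutator G))
      (x := ⟨⁅y, g⁆, CDD.commutatorElement_mem_commutator y g⟩)
    rw [hn] at h2
    have := congrArg Subtype.val h2
    simpa using this
  exact ((CDD.commute_pow_iff hreg y g n).mpr h1).eq.symm

namespace Ctx

variable [Finite G] {p : ℕ} [Fact p.Prime] {a b : G}

theorem card_As (h : Ctx p a b) {n : ℕ} (hn : Nat.card (commutator G) = p ^ n) {s : ℕ}
    (hs : s ≤ n) :
    Nat.card ↥(Subgroup.zpowers (a ^ p ^ s) ⊔ Subgroup.center G) =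
      Nat.card (Subgroup.center G) * p ^ (n - s) := by
  have hpp : p.Prime := Fact.out
  have hd : p ^ s ∣ orderOf (QuotientGroup.mk a : G ⧸ Subgroup.center G) := by
    rw [h.orderOf_mk_a, hn]; exact pow_dvd_pow p hs
  rw [CDD.card_zpowers_sup, QuotientGroup.mk_pow,
    orderOf_pow_of_dvd (pow_ne_zero _ hpp.ne_zero) hd, h.orderOf_mk_a, hn, Nat.pow_div hs hpp.pos]

theorem card_Bs (h : Ctx p a b) {n : ℕ} (hn : Nat.card (commutator G) = p ^ n) {s : ℕ}
    (hs : s ≤ n) :
    Nat.card ↥(Subgroup.zpowers (b ^ p ^ s) ⊔ Subgroup.center G) =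
      Nat.card (Subgroup.center G) * p ^ (n - s) := by
  have hpp : p.Prime := Fact.out
  have hd : p ^ s ∣ orderOf (QuotientGroup.mk b : G ⧸ Subgroup.center G) := by
    rw [h.orderOf_mk_b, hn]; exact pow_dvd_pow p hs
  rw [CDD.card_zpowers_sup, QuotientGroup.mk_pow,
    orderOf_pow_of_dvd (pow_ne_zero _ hpp.ne_zero) hd, h.orderOf_mk_b, hn, Nat.pow_div hs hpp.pos]

theorem card_Rs_ge (h : Ctx p a b) {n : ℕ} (hn : Nat.card (commutator G) = p ^ n) {s : ℕ}
    (hs : s ≤ n) :
    Nat.card (Subgroup.center G) * p ^ (2 * (n - s)) ≤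
      Nat.card ↥(pw p s G ⊔ Subgroup.center G) := by
  have hA : Subgroup.zpowers (a ^ p ^ s) ⊔ Subgroup.center G ≤ pw p s G ⊔ Subgroup.center G :=
    sup_le_sup_right ((Subgroup.zpowers_le).mpr (pow_mem_pw p s a)) _
  have hB : Subgroup.zpowers (b ^ p ^ s) ⊔ Subgroup.center G ≤ pw p s G ⊔ Subgroup.center G :=
    sup_le_sup_right ((Subgroup.zpowers_le).mpr (pow_mem_pw p s b)) _
  have hinf : (Subgroup.zpowers (a ^ p ^ s) ⊔ Subgroup.center G) ⊓
      (Subgroup.zpowers (b ^ p ^ s) ⊔ Subgroup.center G) = Subgroup.center G := by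
    apply le_antisymm
    · refine le_trans (inf_le_inf ?_ ?_) h.inf_eq.le
      · exact sup_le_sup_right ((Subgroup.zpowers_le).mpr
          (pow_mem (Subgroup.mem_zpowers a) _)) _
      · exact sup_le_sup_right ((Subgroup.zpowers_le).mpr
          (pow_mem (Subgroup.mem_zpowers b) _)) _
    · exact le_inf le_sup_right le_sup_right
  have h1 := Cfsg.Agent.Lib.Helper7.card_mul_card_le_card_sup_mul_card_inf
    (Subgroup.zpowers (a ^ p ^ s) ⊔ Subgroup.center G)
    (Subgroup.zpowers (b ^ p ^ s) ⊔ Subgroup.center G)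
  rw [hinf, h.card_As hn hs, h.card_Bs hn hs] at h1
  have h2 : Nat.card ↥((Subgroup.zpowers (a ^ p ^ s) ⊔ Subgroup.center G) ⊔
      (Subgroup.zpowers (b ^ p ^ s) ⊔ Subgroup.center G)) ≤
      Nat.card ↥(pw p s G ⊔ Subgroup.center G) :=
    Subgroup.card_le_of_le (sup_le hA hB)
  have h3 : Nat.card (Subgroup.center G) * p ^ (2 * (n - s)) * Nat.card (Subgroup.center G) ≤
      Nat.card ↥(pw p s G ⊔ Subgroup.center G) * Nat.card (Subgroup.center G) := by
    calc Nat.card (Subgroup.center G) * p ^ (2 * (n - s)) * Nat.card (Subgroup.center G)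
        = Nat.card (Subgroup.center G) * p ^ (n - s) *
          (Nat.card (Subgroup.center G) * p ^ (n - s)) := by ring
      _ ≤ _ := h1
      _ ≤ _ := Nat.mul_le_mul_right _ h2
  exact Nat.le_of_mul_le_mul_right h3 Nat.card_pos

theorem card_centralizer_pw_le (h : Ctx p a b) {n : ℕ} (hn : Nat.card (commutator G) = p ^ n)
    {t : ℕ} (ht : t ≤ n) :
    Nat.card ↥(Subgroup.centralizer (pw p t G : Set G)) ≤
      Nat.card (Subgroup.center G) * p ^ (2 * t) := by
  have hpp : p.Prime := Fact.out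
  have h1 := CDD.duality h.reg h.cyclic (pw p t G ⊔ Subgroup.center G) le_sup_right
  unfold cdm at h1
  rw [CDD.centralizer_sup_center, h.card_eq, hn] at h1
  have h2 := h.card_Rs_ge hn ht
  have h3 : Nat.card (Subgroup.center G) * p ^ (2 * (n - t)) *
      Nat.card ↥(Subgroup.centralizer (pw p t G : Set G)) ≤
      Nat.card (Subgroup.center G) * p ^ (2 * (n - t)) *
        (Nat.card (Subgroup.center G) * p ^ (2 * t)) := by
    calc Nat.card (Subgroup.center G) * p ^ (2 * (n - t)) *
          Nat.card ↥(Subgroup.centralizer (pw p t G : Set G))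
        ≤ Nat.card ↥(pw p t G ⊔ Subgroup.center G) *
          Nat.card ↥(Subgroup.centralizer (pw p t G : Set G)) := Nat.mul_le_mul_right _ h2
      _ = Nat.card (Subgroup.center G) * (p ^ n) ^ 2 * Nat.card (Subgroup.center G) := h1
      _ = _ := by
        have : (p ^ n) ^ 2 = p ^ (2 * (n - t)) * p ^ (2 * t) := by
          rw [← pow_mul, ← pow_add]; congr 1; omega
        rw [this]; ring
  exact Nat.le_of_mul_le_mul_left h3
    (Nat.mul_pos Nat.card_pos (pow_pos hpp.pos _))

theorem Rs_eq (h : Ctx p a b) {n : ℕ} (hn : Nat.card (commutator G) = p ^ n) {s : ℕ}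
    (hs : s ≤ n) :
    pw p s G ⊔ Subgroup.center G = Subgroup.centralizer (pw p (n - s) G : Set G) ∧
      Nat.card ↥(pw p s G ⊔ Subgroup.center G) =
        Nat.card (Subgroup.center G) * p ^ (2 * (n - s)) := by
  have hle : pw p s G ⊔ Subgroup.center G ≤ Subgroup.centralizer (pw p (n - s) G : Set G) := by
    apply sup_le _ (Subgroup.center_le_centralizer _)
    unfold pw
    rw [Subgroup.closure_le]
    rintro _ ⟨y, rfl⟩
    rw [SetLike.mem_coe]
    have := (mem_centralizer_pw_iff h.reg (n - s) (y ^ p ^ s)).mpr (by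
      rw [← pow_mul, ← pow_add, Nat.add_sub_cancel' hs]
      exact pow_card_commutator_mem_center h.reg hn y)
    exact this
  have h1 := h.card_centralizer_pw_le hn (Nat.sub_le n s)
  have h2 := h.card_Rs_ge hn hs
  exact ⟨Subgroup.eq_of_le_of_card_ge hle (h1.trans h2),
    le_antisymm ((Subgroup.card_le_of_le hle).trans h1) h2⟩

theorem center_le_pw (h : Ctx p a b) {n : ℕ} (hn : Nat.card (commutator G) = p ^ n) :
    Subgroup.center G ≤ pw p n G := by
  intro z hz
  obtain ⟨i, j, rfl⟩ := h.gen z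
  have hza := (h.mem_center_iff _).mp hz
  have hbj : b ^ j ∈ Subgroup.center G := by
    rw [h.mem_center_iff]
    refine ⟨?_, (Commute.refl b).zpow_left j⟩
    have e : b ^ j = (a ^ i)⁻¹ * (a ^ i * b ^ j) := by group
    rw [e]
    exact (((Commute.refl a).zpow_left i).inv_left).mul_left hza.1
  have hai : a ^ i ∈ Subgroup.center G := by
    have e : a ^ i = (a ^ i * b ^ j) * (b ^ j)⁻¹ := by group
    rw [e]
    exact mul_mem hz (inv_mem hbj)
  have h1 : (QuotientGroup.mk b : G ⧸ Subgroup.center G) ^ j = 1 := by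
    rw [← QuotientGroup.mk_zpow, QuotientGroup.eq_one_iff]; exact hbj
  have h2 : (QuotientGroup.mk a : G ⧸ Subgroup.center G) ^ i = 1 := by
    rw [← QuotientGroup.mk_zpow, QuotientGroup.eq_one_iff]; exact hai
  rw [← orderOf_dvd_iff_zpow_eq_one, h.orderOf_mk_b, hn] at h1
  rw [← orderOf_dvd_iff_zpow_eq_one, h.orderOf_mk_a, hn] at h2
  obtain ⟨j', rfl⟩ := h1
  obtain ⟨i', rfl⟩ := h2
  have e1 : a ^ ((p ^ n : ℕ) * i' : ℤ) = (a ^ i') ^ p ^ n := by
    rw [mul_comm, zpow_mul, zpow_natCast]
  have e2 : b ^ ((p ^ n : ℕ) * j' : ℤ) = (b ^ j') ^ p ^ n := by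
    rw [mul_comm, zpow_mul, zpow_natCast]
  rw [e1, e2]
  exact mul_mem (pow_mem_pw p n _) (pow_mem_pw p n _)

theorem pw_eq (h : Ctx p a b) {n : ℕ} (hn : Nat.card (commutator G) = p ^ n) {s : ℕ}
    (hs : s ≤ n) :
    pw p s G = Subgroup.centralizer (pw p (n - s) G : Set G) ∧
      Nat.card ↥(pw p s G) = Nat.card (Subgroup.center G) * p ^ (2 * (n - s)) := by
  have h1 : pw p s G ⊔ Subgroup.center G = pw p s G :=
    sup_eq_left.mpr ((h.center_le_pw hn).trans (pw_anti p hs))
  have h2 := h.Rs_eq hn hs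
  rw [h1] at h2
  exact h2

theorem pw_eq_center (h : Ctx p a b) {n : ℕ} (hn : Nat.card (commutator G) = p ^ n) :
    pw p n G = Subgroup.center G := by
  apply le_antisymm _ (h.center_le_pw hn)
  intro x hx
  rw [(h.pw_eq hn le_rfl).1, mem_centralizer_pw_iff h.reg, Nat.sub_self, pow_zero, pow_one] at hx
  exact hx

theorem index_centralizer_eq_pow (h : Ctx p a b) (g : G) :
    ∃ m : ℕ, (Subgroup.centralizer ({g} : Set G)).index = p ^ m := by
  have hpp : p.Prime := Fact.out
  obtain ⟨N, hN⟩ := h.reg.1.exists_card_eq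
  have h1 := Subgroup.index_dvd_card (Subgroup.centralizer ({g} : Set G))
  rw [hN] at h1
  obtain ⟨m, -, hm⟩ := (Nat.dvd_prime_pow hpp).mp h1
  exact ⟨m, hm⟩

/-- `S3882`, first part -/
theorem mem_pw_iff (h : Ctx p a b) {n : ℕ} (hn : Nat.card (commutator G) = p ^ n) {s : ℕ}
    (hs : s ≤ n) (g : G) :
    g ∈ pw p s G ↔ (Subgroup.centralizer ({g} : Set G)).index ≤ p ^ (n - s) := by
  have hpp : p.Prime := Fact.out
  have h1 : g ∈ pw p s G ↔ g ∈ Subgroup.centralizer (pw p (n - s) G : Set G) := by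
    rw [← (h.pw_eq hn hs).1]
  rw [h1, mem_centralizer_pw_iff h.reg, ← QuotientGroup.eq_one_iff, QuotientGroup.mk_pow,
    ← orderOf_dvd_iff_pow_eq_one, ← CDD.index_centralizer_singleton h.reg h.cyclic g]
  obtain ⟨m, hm⟩ := h.index_centralizer_eq_pow g
  rw [hm]
  constructor
  · intro hd
    exact Nat.le_of_dvd (pow_pos hpp.pos _) hd
  · intro hle
    exact pow_dvd_pow p ((Nat.pow_le_pow_iff_right hpp.one_lt).mp hle)

/-- `S3881` -/
theorem card_class_eq (h : Ctx p a b) {n : ℕ} (hn : Nat.card (commutator G) = p ^ n) {i : ℕ}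
    (hi : 1 ≤ i) (hin : i ≤ n) :
    Nat.card {g : G // (Subgroup.centralizer ({g} : Set G)).index = p ^ i} =
      Nat.card (Subgroup.center G) * (p ^ (2 * i) - p ^ (2 * i - 2)) := by
  have hpp : p.Prime := Fact.out
  have hset : {g : G | (Subgroup.centralizer ({g} : Set G)).index = p ^ i} =
      (pw p (n - i) G : Set G) \ (pw p (n - i + 1) G : Set G) := by
    ext g
    rw [Set.mem_sdiff, SetLike.mem_coe, SetLike.mem_coe, h.mem_pw_iff hn (Nat.sub_le n i),
      h.mem_pw_iff hn (by omega : n - i + 1 ≤ n)]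
    have e1 : n - (n - i) = i := by omega
    have e2 : n - (n - i + 1) = i - 1 := by omega
    rw [e1, e2]
    obtain ⟨m, hm⟩ := h.index_centralizer_eq_pow g
    rw [Set.mem_ofPred_eq, hm, Nat.pow_le_pow_iff_right hpp.one_lt,
      Nat.pow_le_pow_iff_right hpp.one_lt, (Nat.pow_right_injective hpp.two_le).eq_iff]
    omega
  have hsub : (pw p (n - i + 1) G : Set G) ⊆ (pw p (n - i) G : Set G) := by
    have := pw_anti (G := G) p (by omega : n - i ≤ n - i + 1)
    exact_mod_cast this
  have hc1 : (pw p (n - i) G : Set G).ncard = Nat.card (Subgroup.center G) * p ^ (2 * i) := by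
    have h1 := (h.pw_eq hn (Nat.sub_le n i)).2
    have e1 : n - (n - i) = i := by omega
    rw [e1] at h1
    rw [← h1]
    exact (Nat.card_coe_set_eq _).symm
  have hc2 : (pw p (n - i + 1) G : Set G).ncard =
      Nat.card (Subgroup.center G) * p ^ (2 * i - 2) := by
    have h1 := (h.pw_eq hn (by omega : n - i + 1 ≤ n)).2
    have e2 : 2 * (n - (n - i + 1)) = 2 * i - 2 := by omega
    rw [e2] at h1
    rw [← h1]
    exact (Nat.card_coe_set_eq _).symm
  change Nat.card ↥{g : G | (Subgroup.centralizer ({g} : Set G)).index = p ^ i} = _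
  rw [Nat.card_coe_set_eq, hset, Set.ncard_sdiff hsub, hc1, hc2, Nat.mul_sub]

end Ctx

/-! ### maximal subgroups and the induction -/

theorem cyclic_commutator (hmc : Cfsg.IsMetacyclic G) : IsCyclic (commutator G) := by
  obtain ⟨N, hN, hNc, hQc⟩ := hmc
  have h1 : commutator G ≤ N := by
    rw [← Subgroup.Normal.quotient_commutative_iff_commutator_le]
    exact ⟨⟨fun x y => (IsCyclic.commGroup (α := G ⧸ N)).mul_comm x y⟩⟩
  exact Subgroup.isCyclic_of_le h1

namespace Ctx

variable [Finite G] {p : ℕ} [Fact p.Prime] {a b : G}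

theorem exists_card_commutator (h : Ctx p a b) : ∃ n : ℕ, Nat.card (commutator G) = p ^ n :=
  (h.reg.1.to_subgroup _).exists_card_eq

theorem center_le_coatom (h : Ctx p a b) (hna : commutator G ≠ ⊥) (M : Subgroup G)
    (hM : IsCoatom M) : Subgroup.center G ≤ M := by
  obtain ⟨n, hn⟩ := h.exists_card_commutator
  have hn0 : n ≠ 0 := by
    rintro rfl
    rw [pow_zero] at hn
    exact hna (Subgroup.card_eq_one.mp hn)
  obtain ⟨hMn, hMi⟩ := Cfsg.Agent.H1.coatom_normal_index_of_pgroup h.reg.1 M hM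
  rw [← h.pw_eq_center hn]
  refine (pw_anti p (Nat.one_le_iff_ne_zero.mpr hn0)).trans ?_
  unfold pw
  rw [Subgroup.closure_le]
  rintro _ ⟨y, rfl⟩
  rw [pow_one, ← hMi]
  exact Subgroup.pow_index_mem M y

theorem centralizer_coatom_le (h : Ctx p a b) (hna : commutator G ≠ ⊥) (M : Subgroup G)
    (hM : IsCoatom M) : Subgroup.centralizer (M : Set G) ≤ M := by
  intro x hx
  by_contra hxM
  have h1 : M ⊔ Subgroup.zpowers x = ⊤ := by
    apply hM.2
    apply lt_of_le_of_ne le_sup_left
    intro h'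
    apply hxM
    rw [h']
    exact (le_sup_right : Subgroup.zpowers x ≤ _) (Subgroup.mem_zpowers x)
  have h2 : M ⊔ Subgroup.zpowers x ≤ Subgroup.centralizer {x} := by
    apply sup_le
    · exact (mem_centralizer_iff_le M x).mp hx
    · rw [Subgroup.zpowers_le]
      exact Subgroup.mem_centralizer_singleton_iff.mpr rfl
  have h3 : x ∈ Subgroup.center G := by
    rw [Subgroup.mem_center_iff]
    intro g
    have : g ∈ Subgroup.centralizer {x} := h2 (h1 ▸ Subgroup.mem_top g)
    exact Subgroup.mem_centralizer_singleton_iff.mp this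
  exact hxM (h.center_le_coatom hna M hM h3)

theorem card_coatom (h : Ctx p a b) (hna : commutator G ≠ ⊥) (M : Subgroup G)
    (hM : IsCoatom M) :
    Nat.card ↥M * Nat.card ↥(Subgroup.center ↥M) =
      Nat.card G * Nat.card ↥(Subgroup.center G) := by
  rw [Cfsg.Agent.Lib.Helper7.card_center_subgroup,
    inf_eq_right.mpr (h.centralizer_coatom_le hna M hM)]
  exact CDD.duality h.reg h.cyclic M (h.center_le_coatom hna M hM)

end Ctx

theorem not_comm_subgroup {R : Subgroup G} (hR : ¬ IsMulCommutative ↥R) :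
    ∃ x ∈ R, ∃ y ∈ R, x * y ≠ y * x := by
  by_contra hcon
  apply hR
  rw [isMulCommutative_iff]
  intro x y
  by_contra hxy
  apply hcon
  refine ⟨x, x.2, y, y.2, ?_⟩
  intro h'
  apply hxy
  exact Subtype.ext h'

theorem commutator_ne_bot_of_not_comm {R : Subgroup G} (hR : ¬ IsMulCommutative ↥R) :
    commutator G ≠ ⊥ := by
  obtain ⟨x, -, y, -, hxy⟩ := not_comm_subgroup hR
  intro hbot
  apply hxy
  have h1 := CDD.commutatorElement_mem_commutator x y
  rw [hbot, Subgroup.mem_bot] at h1
  exact commutatorElement_eq_one_iff_mul_comm.mp h1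

universe u

/-- every non-abelian subgroup `R` satisfies `|R| |Z(R)| = |G| |Z(G)|` -/
theorem nonabelian_measure {p : ℕ} [Fact p.Prime] (hp : p ≠ 2) :
    ∀ (N : ℕ) (G : Type u) [Group G] [Finite G], Nat.card G = N → IsPGroup p G →
      Cfsg.IsMetacyclic G → ∀ R : Subgroup G, ¬ IsMulCommutative ↥R →
        Nat.card ↥R * Nat.card ↥(Subgroup.center ↥R) =
          Nat.card G * Nat.card ↥(Subgroup.center G) := by
  intro N
  induction N using Nat.strong_induction_on with
  | _ N ih =>
    intro G _ _ hN hG hmc R hR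
    rcases eq_top_or_exists_le_coatom R with hRtop | ⟨M, hM, hRM⟩
    · subst hRtop
      rw [Subgroup.card_top]
      congr 1
      exact Nat.card_congr (Subgroup.centerCongr Subgroup.topEquiv).toEquiv
    · obtain ⟨a, b, h⟩ := exists_ctx hp hG hmc
      have hna := commutator_ne_bot_of_not_comm hR
      have hlt : Nat.card ↥M < N := by
        rw [← hN]
        by_contra hcon
        have := (Subgroup.card_eq_iff_eq_top M).mp
          (le_antisymm (Subgroup.card_le_card_group M) (not_lt.mp hcon))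
        exact hM.1 this
      let e : ↥(R.subgroupOf M) ≃* ↥R := Subgroup.subgroupOfEquivOfLe hRM
      have hR' : ¬ IsMulCommutative ↥(R.subgroupOf M) := by
        intro hc
        apply hR
        rw [isMulCommutative_iff] at hc ⊢
        intro x y
        have := hc (e.symm x) (e.symm y)
        have h2 := congrArg e this
        simpa using h2
      have h1 := ih (Nat.card ↥M) hlt ↥M rfl (hG.to_subgroup M) (isMetacyclic_subgroup hmc M)
        (R.subgroupOf M) hR'
      rw [Nat.card_congr e.toEquiv, Nat.card_congr (Subgroup.centerCongr e).toEquiv] at h1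
      rw [h1]
      exact h.card_coatom hna M hM

/-! ### the statements -/

section statements

variable {G : Type u} [Group G] [Finite G] {p : ℕ} [Fact p.Prime]

/-- `|G| |Z(G)| = |G : G'|²` -/
theorem card_mul_card_center (hp : p ≠ 2) (hG : IsPGroup p G) (hmc : Cfsg.IsMetacyclic G) :
    Nat.card G * Nat.card ↥(Subgroup.center G) = (commutator G).index ^ 2 := by
  obtain ⟨a, b, h⟩ := exists_ctx hp hG hmc
  have h1 := h.card_eq
  have h2 := Subgroup.card_mul_index (commutator G)
  have h3 : (commutator G).index =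
      Nat.card ↥(Subgroup.center G) * Nat.card ↥(commutator G) := by
    have : Nat.card ↥(commutator G) * (commutator G).index =
        Nat.card ↥(commutator G) *
          (Nat.card ↥(Subgroup.center G) * Nat.card ↥(commutator G)) := by
      rw [h2, h1]; ring
    exact Nat.eq_of_mul_eq_mul_left Nat.card_pos this
  rw [h3, h1]; ring

theorem card_center_lt_of_not_comm {R : Subgroup G} (hR : ¬ IsMulCommutative ↥R) :
    Nat.card ↥(Subgroup.center ↥R) < Nat.card ↥R := by
  apply lt_of_le_of_ne (Subgroup.card_le_card_group _)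
  intro h
  apply hR
  have h1 := (Subgroup.card_eq_iff_eq_top _).mp h
  rw [isMulCommutative_iff]
  intro x y
  have hx : x ∈ Subgroup.center ↥R := h1 ▸ Subgroup.mem_top x
  exact ((Subgroup.mem_center_iff.mp hx) y).symm

/-- `S3880` -/
theorem abelian_iff (hp : p ≠ 2) (hG : IsPGroup p G) (hmc : Cfsg.IsMetacyclic G)
    (L : Subgroup G) :
    (IsMulCommutative ↥L ↔ Nat.card ↥L ≤ (commutator G).index) ∧
      (Maximal (fun K : Subgroup G => IsMulCommutative ↥K) L ↔
        Nat.card ↥L = (commutator G).index) := by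
  have hreg := regular hp hG hmc
  have hcyc := cyclic_commutator hmc
  have hkey := card_mul_card_center hp hG hmc
  have hab : ∀ K : Subgroup G, IsMulCommutative ↥K → Nat.card ↥K ≤ (commutator G).index := by
    intro K hK
    have h1 := CDD.card_sq_le_of_comm hreg hcyc K hK
    rw [hkey] at h1
    exact (Nat.pow_le_pow_iff_left (by norm_num)).mp h1
  have hba : ∀ K : Subgroup G, Nat.card ↥K ≤ (commutator G).index → IsMulCommutative ↥K := by
    intro K hK
    by_contra hna
    have h1 := nonabelian_measure hp (Nat.card G) G rfl hG hmc K hna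
    rw [hkey] at h1
    have h2 := card_center_lt_of_not_comm hna
    have h3 : Nat.card ↥K * Nat.card ↥(Subgroup.center ↥K) < Nat.card ↥K * Nat.card ↥K :=
      Nat.mul_lt_mul_of_pos_left h2 Nat.card_pos
    have h4 : Nat.card ↥K * Nat.card ↥K ≤ (commutator G).index ^ 2 := by
      rw [sq]; exact Nat.mul_le_mul hK hK
    omega
  refine ⟨⟨hab L, hba L⟩, ?_, ?_⟩
  · intro hL
    have h1 := CDD.card_sq_eq_of_maximal_comm hreg hcyc L hL
    rw [hkey] at h1
    exact Nat.pow_left_injective (by norm_num : (2 : ℕ) ≠ 0) h1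
  · intro hL
    refine ⟨hba L hL.le, ?_⟩
    intro K hK hLK
    have h1 := hab K hK
    rw [← hL] at h1
    exact (Subgroup.eq_of_le_of_card_ge hLK h1).symm.le

/-- `S3886` -/
theorem centrally_large (hp : p ≠ 2) (hG : IsPGroup p G) (hmc : Cfsg.IsMetacyclic G) :
    Cfsg.maxCentralProduct G = (commutator G).index ^ 2 ∧
      ∀ R : Subgroup G, Cfsg.IsCentrallyLarge R ↔
        (¬ IsMulCommutative ↥R ∨ Maximal (fun K : Subgroup G => IsMulCommutative ↥K) R) := by
  have hreg := regular hp hG hmc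
  have hcyc := cyclic_commutator hmc
  have hkey := card_mul_card_center hp hG hmc
  have hmax : Cfsg.maxCentralProduct G = (commutator G).index ^ 2 := by
    rw [← hkey]
    apply le_antisymm
    · obtain ⟨D, hD⟩ := Cfsg.Agent.Lib.Helper7.exists_zm_eq_maxCentralProduct (X := G)
      rw [← hD]
      exact (Cfsg.Agent.Lib.Helper7.zm_le_cdm D).trans (CDD.cdm_le hreg hcyc D)
    · have h1 := Cfsg.Agent.Lib.Helper7.zm_le_maxCentralProduct (⊤ : Subgroup G)
      unfold Cfsg.Agent.Lib.Helper7.zm at h1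
      rw [Subgroup.card_top, top_inf_eq, Subgroup.coe_top, Subgroup.centralizer_univ] at h1
      exact h1
  refine ⟨hmax, ?_⟩
  intro R
  unfold Cfsg.IsCentrallyLarge
  rw [hmax]
  have hcomm : IsMulCommutative ↥R → Nat.card ↥(Subgroup.center ↥R) = Nat.card ↥R := by
    intro hR
    rw [Cfsg.Agent.Lib.Helper7.card_center_subgroup, inf_eq_left.mpr
      ((Cfsg.Agent.Lib.Helper7.isMulCommutative_iff_le_centralizer R).mp hR)]
  constructor
  · intro h1
    by_cases hR : IsMulCommutative ↥R
    · right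
      rw [(abelian_iff hp hG hmc R).2]
      rw [hcomm hR, ← sq] at h1
      exact Nat.pow_left_injective (by norm_num : (2 : ℕ) ≠ 0) h1
    · left; exact hR
  · rintro (hR | hR)
    · rw [nonabelian_measure hp (Nat.card G) G rfl hG hmc R hR, hkey]
    · have h1 := (abelian_iff hp hG hmc R).2.mp hR
      rw [hcomm hR.1, h1, sq]

/-- `S3887` -/
theorem centralizer_large_iff (hp : p ≠ 2) (hG : IsPGroup p G) (hmc : Cfsg.IsMetacyclic G)
    (R : Subgroup G) : Cfsg.IsCentralizerLarge R ↔ Subgroup.center G ≤ R :=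
  CDD.isCentralizerLarge_iff (regular hp hG hmc) (cyclic_commutator hmc) R

/-- `S3885` -/
theorem eq_center_centralizer (hp : p ≠ 2) (hG : IsPGroup p G) (hmc : Cfsg.IsMetacyclic G)
    (K : Subgroup G) (hK : IsMulCommutative ↥K) (hZ : Subgroup.center G ≤ K) :
    K = Subgroup.centralizer (K : Set G) ⊓
      Subgroup.centralizer (Subgroup.centralizer (K : Set G) : Set G) :=
  CDD.eq_center_centralizer (regular hp hG hmc) (cyclic_commutator hmc) K hK hZ

omit [Finite G] [Fact p.Prime] in
theorem mem_commutator_pow_card {n : ℕ} (hn : Nat.card (commutator G) = p ^ n) (z : G)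
    (hz : z ∈ commutator G) : z ^ p ^ n = 1 := by
  have h2 := pow_card_eq_one' (G := ↥(commutator G)) (x := ⟨z, hz⟩)
  rw [hn] at h2
  have := congrArg Subtype.val h2
  simpa using this

/-- `S3883` -/
theorem not_mem_frattini_iff (hp : p ≠ 2) (hG : IsPGroup p G) (hmc : Cfsg.IsMetacyclic G)
    (hna : ¬ IsMulCommutative G) (g : G) :
    g ∉ frattini G ↔ IsMulCommutative ↥(Subgroup.centralizer ({g} : Set G)) := by
  have hpp : p.Prime := Fact.out
  obtain ⟨a, b, h⟩ := exists_ctx hp hG hmc
  have hreg := h.reg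
  have hcyc := h.cyclic
  obtain ⟨n, hn⟩ := h.exists_card_commutator
  have hcomm_ne : commutator G ≠ ⊥ := by
    intro hbot
    apply hna
    rw [isMulCommutative_iff]
    intro x y
    have h1 := CDD.commutatorElement_mem_commutator x y
    rw [hbot, Subgroup.mem_bot] at h1
    exact commutatorElement_eq_one_iff_mul_comm.mp h1
  have hn0 : n ≠ 0 := by
    rintro rfl
    rw [pow_zero] at hn
    exact hcomm_ne (Subgroup.card_eq_one.mp hn)
  have h1n : 1 ≤ n := Nat.one_le_iff_ne_zero.mpr hn0
  have hfr : frattini G = pw p 1 G := by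
    apply le_antisymm
    · apply Cfsg.Agent.Lib.Helper7.frattini_le_of_elemAb_quotient p
      · intro x y
        rw [← commutatorElement_def, (h.pw_eq hn h1n).1, mem_centralizer_pw_iff hreg]
        apply CDD.mem_center_of_pow_p hG hcyc
        · exact pow_mem (CDD.commutatorElement_mem_commutator x y) _
        · rw [← pow_mul, ← pow_succ, Nat.sub_add_cancel h1n]
          exact mem_commutator_pow_card hn _ (CDD.commutatorElement_mem_commutator x y)
      · intro x
        have := pow_mem_pw p 1 x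
        rwa [pow_one] at this
    · unfold pw
      rw [Subgroup.closure_le]
      rintro _ ⟨y, rfl⟩
      rw [pow_one]
      exact Cfsg.Agent.H1.pow_p_mem_frattini hG y
  rw [hfr, h.mem_pw_iff hn h1n]
  have hidx := CDD.index_centralizer_singleton hreg hcyc g
  obtain ⟨m, hm⟩ := h.index_centralizer_eq_pow g
  have hmn : m ≤ n := by
    have h2 : (QuotientGroup.mk g : G ⧸ Subgroup.center G) ^ p ^ n = 1 := by
      rw [← QuotientGroup.mk_pow, QuotientGroup.eq_one_iff]
      exact pow_card_commutator_mem_center hreg hn g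
    have h3 := orderOf_dvd_of_pow_eq_one h2
    rw [← hidx, hm] at h3
    exact (Nat.pow_dvd_pow_iff_le_right hpp.one_lt).mp h3
  have hcardC := Subgroup.card_mul_index (Subgroup.centralizer ({g} : Set G))
  have hcardG := h.card_eq
  rw [hn] at hcardG
  constructor
  · intro hnot
    have hmeq : m = n := by
      rw [hm, Nat.pow_le_pow_iff_right hpp.one_lt] at hnot
      omega
    have hle := zpowers_sup_center_le g
    have hcard1 : Nat.card ↥(Subgroup.zpowers g ⊔ Subgroup.center G) =
        Nat.card ↥(Subgroup.center G) * p ^ n := by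
      rw [CDD.card_zpowers_sup, ← hidx, hm, hmeq]
    have hcard2 : Nat.card ↥(Subgroup.centralizer ({g} : Set G)) =
        Nat.card ↥(Subgroup.center G) * p ^ n := by
      rw [hm, hmeq, hcardG] at hcardC
      have : Nat.card ↥(Subgroup.centralizer ({g} : Set G)) * p ^ n =
          (Nat.card ↥(Subgroup.center G) * p ^ n) * p ^ n := by
        rw [hcardC]; ring
      exact Nat.eq_of_mul_eq_mul_right (pow_pos hpp.pos n) this
    have heq : Subgroup.zpowers g ⊔ Subgroup.center G = Subgroup.centralizer ({g} : Set G) :=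
      Subgroup.eq_of_le_of_card_ge hle (by rw [hcard1, hcard2])
    rw [← heq]
    exact CDD.comm_sup_center (Subgroup.zpowers g) inferInstance
  · intro hab hle
    have h2 := CDD.card_sq_le_of_comm hreg hcyc _ hab
    rw [hcardG] at h2
    have h3 : Nat.card ↥(Subgroup.centralizer ({g} : Set G)) ≤
        Nat.card ↥(Subgroup.center G) * p ^ n := by
      have : Nat.card ↥(Subgroup.centralizer ({g} : Set G)) ^ 2 ≤
          (Nat.card ↥(Subgroup.center G) * p ^ n) ^ 2 := by
        calc _ ≤ _ := h2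
          _ = _ := by ring
      exact (Nat.pow_le_pow_iff_left (by norm_num)).mp this
    rw [hcardG] at hcardC
    have h4 : Nat.card ↥(Subgroup.center G) * p ^ n * p ^ n ≤
        Nat.card ↥(Subgroup.center G) * p ^ n * p ^ (n - 1) := by
      calc Nat.card ↥(Subgroup.center G) * p ^ n * p ^ n
          = Nat.card ↥(Subgroup.centralizer ({g} : Set G)) *
            (Subgroup.centralizer ({g} : Set G)).index := by rw [hcardC]; ring
        _ ≤ _ := Nat.mul_le_mul h3 hle
    have h5 := Nat.le_of_mul_le_mul_left h4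
      (Nat.mul_pos Nat.card_pos (pow_pos hpp.pos n))
    rw [Nat.pow_le_pow_iff_right hpp.one_lt] at h5
    omega

end statements

/-! ### factorization -/

namespace Ctx

variable {G : Type*} [Group G] [Finite G] {p : ℕ} [Fact p.Prime] {a b : G}

omit [Finite G] [Fact p.Prime] in
theorem factor_of_pow_eq_one (_h : Ctx p a b) [(Subgroup.zpowers a).Normal] (b' : G) (v : ℕ)
    (hord : orderOf (QuotientGroup.mk b' : G ⧸ Subgroup.zpowers a) = p ^ v)
    (hcard : Nat.card G = orderOf a * p ^ v) (hb' : b' ^ p ^ v = 1) :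
    ∃ A B : Subgroup G, IsCyclic ↥A ∧ IsCyclic ↥B ∧ A ⊓ B = ⊥ ∧
      Nat.card ↥A * Nat.card ↥B = Nat.card G := by
  refine ⟨Subgroup.zpowers a, Subgroup.zpowers b', inferInstance, inferInstance, ?_, ?_⟩
  · rw [Subgroup.eq_bot_iff_forall]
    intro x hx
    rw [Subgroup.mem_inf] at hx
    obtain ⟨j, rfl⟩ := Subgroup.mem_zpowers_iff.mp hx.2
    have h1 : (QuotientGroup.mk b' : G ⧸ Subgroup.zpowers a) ^ j = 1 := by
      rw [← QuotientGroup.mk_zpow, QuotientGroup.eq_one_iff]; exact hx.1
    rw [← orderOf_dvd_iff_zpow_eq_one, hord] at h1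
    have h2 : (orderOf b' : ℤ) ∣ j :=
      dvd_trans (by exact_mod_cast orderOf_dvd_of_pow_eq_one hb') h1
    exact orderOf_dvd_iff_zpow_eq_one.mp h2
  · rw [Nat.card_zpowers, Nat.card_zpowers, hcard]
    congr 1
    apply Nat.dvd_antisymm (orderOf_dvd_of_pow_eq_one hb')
    rw [← hord]
    exact orderOf_map_dvd (QuotientGroup.mk' _) b'

/-- `S3884` -/
theorem exists_factorization (h : Ctx p a b) :
    ∃ A B : Subgroup G, IsCyclic ↥A ∧ IsCyclic ↥B ∧ A ⊓ B = ⊥ ∧
      Nat.card ↥A * Nat.card ↥B = Nat.card G := by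
  have hpp : p.Prime := Fact.out
  have := h.normal
  have hG := h.reg.1
  have hgenQ : ∀ q : G ⧸ Subgroup.zpowers a,
      q ∈ Subgroup.zpowers (QuotientGroup.mk b : G ⧸ Subgroup.zpowers a) := by
    intro q
    obtain ⟨g, rfl⟩ := QuotientGroup.mk_surjective q
    obtain ⟨i, j, rfl⟩ := h.gen g
    rw [Subgroup.mem_zpowers_iff]
    refine ⟨j, ?_⟩
    rw [QuotientGroup.mk_mul, QuotientGroup.mk_zpow, QuotientGroup.mk_zpow]
    have : (QuotientGroup.mk a : G ⧸ Subgroup.zpowers a) = 1 :=
      (QuotientGroup.eq_one_iff a).mpr (Subgroup.mem_zpowers a)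
    rw [this, one_zpow, one_mul]
  obtain ⟨v, hv⟩ := (hG.to_quotient (Subgroup.zpowers a)).exists_orderOf_eq_pow
    (QuotientGroup.mk b : G ⧸ Subgroup.zpowers a)
  have hcard : Nat.card G = orderOf a * p ^ v := by
    rw [Subgroup.card_eq_card_quotient_mul_card_subgroup (Subgroup.zpowers a),
      ← orderOf_eq_card_of_forall_mem_zpowers hgenQ, hv, Nat.card_zpowers, mul_comm]
  by_cases hb1 : b ^ p ^ v = 1
  · exact h.factor_of_pow_eq_one b v hv hcard hb1
  · have hbN : b ^ p ^ v ∈ Subgroup.zpowers a := by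
      rw [← QuotientGroup.eq_one_iff, QuotientGroup.mk_pow, ← hv]
      exact pow_orderOf_eq_one _
    obtain ⟨t, ht⟩ := (Submonoid.mem_powers_iff _ _).mp (mem_powers_iff_mem_zpowers.mpr hbN)
    have ht0 : t ≠ 0 := by
      rintro rfl
      rw [pow_zero] at ht
      exact hb1 ht.symm
    obtain ⟨u, k, hk, rfl⟩ := Nat.exists_eq_pow_mul_and_not_dvd ht0 p hpp.ne_one
    obtain ⟨α, hα⟩ := hG.exists_orderOf_eq_pow a
    have hcop : (orderOf a).Coprime k := by
      rw [hα]
      exact Nat.Coprime.pow_left _ ((Nat.Prime.coprime_iff_not_dvd hpp).mpr hk)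
    have ha₁ord : orderOf (a ^ k) = p ^ α := by rw [hcop.orderOf_pow, hα]
    have ha₁u : (a ^ k) ^ p ^ u = b ^ p ^ v := by rw [← pow_mul, mul_comm, ht]
    have ha₁N : a ^ k ∈ Subgroup.zpowers a := pow_mem (Subgroup.mem_zpowers a) k
    rcases le_or_gt v u with hvu | huv
    · have hx : ((a ^ k) ^ p ^ (u - v)) ^ p ^ v = b ^ p ^ v := by
        rw [← pow_mul, ← pow_add, Nat.sub_add_cancel hvu, ha₁u]
      have hb' := (RegP.main h.reg ((a ^ k) ^ p ^ (u - v)) b v).mp hx
      apply h.factor_of_pow_eq_one (((a ^ k) ^ p ^ (u - v))⁻¹ * b) v _ hcard hb'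
      have : (QuotientGroup.mk (((a ^ k) ^ p ^ (u - v))⁻¹ * b) : G ⧸ Subgroup.zpowers a) =
          QuotientGroup.mk b := by
        rw [QuotientGroup.mk_mul, QuotientGroup.mk_inv,
          (QuotientGroup.eq_one_iff _).mpr (pow_mem ha₁N _), inv_one, one_mul]
      rw [this]
      exact hv
    · have hy : (a ^ k) ^ p ^ u = (b ^ p ^ (v - u)) ^ p ^ u := by
        rw [ha₁u, ← pow_mul, ← pow_add, Nat.sub_add_cancel huv.le]
      have ha' := (RegP.main h.reg (a ^ k) (b ^ p ^ (v - u)) u).mp hy
      obtain ⟨a', ha'def⟩ : ∃ a' : G, a' = (a ^ k)⁻¹ * b ^ p ^ (v - u) := ⟨_, rfl⟩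
      rw [← ha'def] at ha'
      have hmk : (QuotientGroup.mk a' : G ⧸ Subgroup.zpowers a) =
          (QuotientGroup.mk b : G ⧸ Subgroup.zpowers a) ^ p ^ (v - u) := by
        rw [ha'def, QuotientGroup.mk_mul, QuotientGroup.mk_inv,
          (QuotientGroup.eq_one_iff _).mpr ha₁N, inv_one, one_mul, QuotientGroup.mk_pow]
      have hmkord : orderOf (QuotientGroup.mk a' : G ⧸ Subgroup.zpowers a) = p ^ u := by
        rw [hmk, orderOf_pow_of_dvd (pow_ne_zero _ hpp.ne_zero)
          (by rw [hv]; exact pow_dvd_pow p (Nat.sub_le v u)), hv,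
          Nat.pow_div (Nat.sub_le v u) hpp.pos]
        congr 1
        omega
      have ha'ord : orderOf a' = p ^ u :=
        Nat.dvd_antisymm (orderOf_dvd_of_pow_eq_one ha')
          (by rw [← hmkord]; exact orderOf_map_dvd (QuotientGroup.mk' _) _)
      have huα : u < α := by
        by_contra hcon
        apply hb1
        rw [← ha₁u]
        have : orderOf (a ^ k) ∣ p ^ u := by
          rw [ha₁ord]; exact pow_dvd_pow p (not_lt.mp hcon)
        exact orderOf_dvd_iff_pow_eq_one.mp this
      have hbord : orderOf b = p ^ v * p ^ (α - u) := by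
        have hd : p ^ v ∣ orderOf b := by
          rw [← hv]; exact orderOf_map_dvd (QuotientGroup.mk' _) b
        have h1 := orderOf_pow_of_dvd (pow_ne_zero v hpp.ne_zero) hd
        rw [← ha₁u, orderOf_pow_of_dvd (pow_ne_zero u hpp.ne_zero)
          (by rw [ha₁ord]; exact pow_dvd_pow p huα.le), ha₁ord, Nat.pow_div huα.le hpp.pos] at h1
        rw [h1, Nat.mul_div_cancel' hd]
      have hA'N : ∀ i : ℕ, a' ^ i ∈ Subgroup.zpowers a → a' ^ i = 1 := by
        intro i hi
        have h1 : (QuotientGroup.mk a' : G ⧸ Subgroup.zpowers a) ^ i = 1 := by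
          rw [← QuotientGroup.mk_pow, QuotientGroup.eq_one_iff]; exact hi
        rw [← orderOf_dvd_iff_pow_eq_one, hmkord, ← ha'ord] at h1
        exact orderOf_dvd_iff_pow_eq_one.mp h1
      refine ⟨Subgroup.zpowers a', Subgroup.zpowers b, inferInstance, inferInstance, ?_, ?_⟩
      · rw [Subgroup.eq_bot_iff_forall]
        intro x hx
        rw [Subgroup.mem_inf] at hx
        obtain ⟨i, hi⟩ := (Submonoid.mem_powers_iff _ _).mp (mem_powers_iff_mem_zpowers.mpr hx.1)
        obtain ⟨j, hj⟩ := (Submonoid.mem_powers_iff _ _).mp (mem_powers_iff_mem_zpowers.mpr hx.2)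
        by_cases hj0 : j = 0
        · rw [← hj, hj0, pow_zero]
        obtain ⟨r, j', hj', rfl⟩ := Nat.exists_eq_pow_mul_and_not_dvd hj0 p hpp.ne_one
        rcases le_or_gt v r with hvr | hrv
        · have hxN : x ∈ Subgroup.zpowers a := by
            rw [← hj]
            have : b ^ (p ^ r * j') = (b ^ p ^ v) ^ (p ^ (r - v) * j') := by
              rw [← pow_mul, ← mul_assoc, ← pow_add, Nat.add_sub_cancel' hvr]
            rw [this]
            exact pow_mem hbN _
          rw [← hi] at hxN ⊢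
          exact hA'N i hxN
        · exfalso
          obtain ⟨β, hβ⟩ := hG.exists_orderOf_eq_pow (b ^ p ^ r)
          have hcop' : Nat.Coprime j' (orderOf (b ^ p ^ r)) := by
            rw [hβ]
            exact Nat.Coprime.pow_right _
              ((Nat.Prime.coprime_iff_not_dvd hpp).mpr hj').symm
          obtain ⟨m, hm⟩ := exists_pow_eq_self_of_coprime hcop'
          have hw : b ^ p ^ r ∈ Subgroup.zpowers a' := by
            rw [← hm, ← pow_mul b, hj]
            exact pow_mem hx.1 m
          have hbv : b ^ p ^ v ∈ Subgroup.zpowers a' := by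
            have : b ^ p ^ v = (b ^ p ^ r) ^ p ^ (v - r) := by
              rw [← pow_mul, ← pow_add, Nat.add_sub_cancel' hrv.le]
            rw [this]
            exact pow_mem hw _
          obtain ⟨i', hi'⟩ := (Submonoid.mem_powers_iff _ _).mp (mem_powers_iff_mem_zpowers.mpr hbv)
          apply hb1
          rw [← hi']
          apply hA'N
          rw [hi']
          exact hbN
      · rw [Nat.card_zpowers, Nat.card_zpowers, ha'ord, hbord, hcard, hα, ← pow_add, ← pow_add,
          ← pow_add]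
        congr 1
        omega

end Ctx

end Cfsg.Agent.H2.MetaOdd
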