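import Mathlib

/-!
# Automorphisms acting trivially on the Frattini quotient (helper2)

* `exists_generating_finset`: if `Φ(P)` has index `p ^ r` then `P` is generated by at most `r` elements.
* `card_dvd_of_trivial_on_frattini_quotient`: a group `A` of automorphisms of `P` (of order `p ^ n`)
  acting trivially on `P / Φ(P)` (index `p ^ r`) has order dividing `p ^ (r * (n - r))`.
-/

set_option autoImplicit false

namespace Cfsg.Agent.H2.AutFrat

variable {P : Type*} [Group P] [Finite P]

theorem exists_generating_finset {p r : ℕ} (hp : p.Prime) (hr : (frattini P).index = p ^ r) :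
    ∃ s : Finset P, s.card ≤ r ∧ Subgroup.closure (s : Set P) = ⊤ := by
  classical
  have key : ∀ k ≤ r, ∃ s : Finset P, s.card ≤ k ∧
      (frattini P ⊔ Subgroup.closure (s : Set P)).index ∣ p ^ (r - k) := by
    intro k
    induction k with
    | zero =>
      intro _
      refine ⟨∅, le_rfl, ?_⟩
      simp [hr]
    | succ k ih =>
      intro hk
      obtain ⟨s, hs, hdvd⟩ := ih (by omega)
      by_cases htop : frattini P ⊔ Subgroup.closure (s : Set P) = ⊤
      · refine ⟨s, by omega, ?_⟩
        rw [htop, Subgroup.index_top]
        exact one_dvd _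
      · obtain ⟨x, hx⟩ : ∃ x : P, x ∉ frattini P ⊔ Subgroup.closure (s : Set P) := by
          by_contra hcon
          push Not at hcon
          exact htop (eq_top_iff.mpr fun x _ => hcon x)
        refine ⟨insert x s, (Finset.card_insert_le x s).trans (by omega), ?_⟩
        have hle : frattini P ⊔ Subgroup.closure (s : Set P) ≤
            frattini P ⊔ Subgroup.closure ((insert x s : Finset P) : Set P) := by
          refine sup_le_sup_left (Subgroup.closure_mono ?_) _
          rw [Finset.coe_insert]
          exact Set.subset_insert _ _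
        have hxin : x ∈ frattini P ⊔ Subgroup.closure ((insert x s : Finset P) : Set P) := by
          apply (le_sup_right : Subgroup.closure ((insert x s : Finset P) : Set P) ≤ _)
          apply Subgroup.subset_closure
          rw [Finset.coe_insert]
          exact Set.mem_insert _ _
        have hlt : frattini P ⊔ Subgroup.closure (s : Set P) <
            frattini P ⊔ Subgroup.closure ((insert x s : Finset P) : Set P) :=
          lt_of_le_of_ne hle (fun h => hx (h ▸ hxin))
        have hd1 := Subgroup.index_dvd_of_le hle
        obtain ⟨a, ha, hia⟩ := (Nat.dvd_prime_pow hp).mp hdvd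
        obtain ⟨b, hb, hib⟩ := (Nat.dvd_prime_pow hp).mp (hia ▸ hd1)
        rw [hib]
        apply pow_dvd_pow
        have hne : b ≠ a := by
          intro hba
          have h1 : (frattini P ⊔ Subgroup.closure ((insert x s : Finset P) : Set P)).index =
              (frattini P ⊔ Subgroup.closure (s : Set P)).index := by rw [hib, hia, hba]
          have h2 := Subgroup.card_mul_index (frattini P ⊔ Subgroup.closure (s : Set P))
          have h3 := Subgroup.card_mul_index
            (frattini P ⊔ Subgroup.closure ((insert x s : Finset P) : Set P))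
          rw [h1] at h3
          have hpos : 0 < (frattini P ⊔ Subgroup.closure (s : Set P)).index :=
            Nat.pos_of_ne_zero Subgroup.index_ne_zero_of_finite
          have h4 : Nat.card ↥(frattini P ⊔ Subgroup.closure ((insert x s : Finset P) : Set P)) =
              Nat.card ↥(frattini P ⊔ Subgroup.closure (s : Set P)) :=
            Nat.eq_of_mul_eq_mul_right hpos (h3.trans h2.symm)
          exact hlt.ne (Subgroup.eq_of_le_of_card_ge hle h4.le)
        omega
  obtain ⟨s, hs, hdvd⟩ := key r le_rfl
  refine ⟨s, hs, ?_⟩
  rw [Nat.sub_self, pow_zero, Nat.dvd_one, Subgroup.index_eq_one, sup_comm] at hdvd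
  exact frattini_nongenerating hdvd

/-- S4207. -/
theorem card_dvd_of_trivial_on_frattini_quotient {p n r : ℕ} [hp : Fact p.Prime]
    (hP : Nat.card P = p ^ n) (hr : (frattini P).index = p ^ r) (A : Subgroup (MulAut P))
    (hA : ∀ α ∈ A, ∀ x : P, α x * x⁻¹ ∈ frattini P) : Nat.card A ∣ p ^ (r * (n - r)) := by
  classical
  obtain ⟨s, hs, hgen⟩ := exists_generating_finset hp.out hr
  -- |Φ| = p^(n-r)
  have hrn : r ≤ n := by
    have h1 : p ^ r ∣ p ^ n := by
      rw [← hr, ← hP]; exact Subgroup.index_dvd_card _
    exact (Nat.pow_dvd_pow_iff_le_right hp.out.one_lt).mp h1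
  have hΦ : Nat.card (frattini P) = p ^ (n - r) := by
    have h1 := Subgroup.card_mul_index (frattini P)
    rw [hr, hP] at h1
    have h2 : p ^ n = p ^ (n - r) * p ^ r := by rw [← pow_add]; congr 1; omega
    rw [h2] at h1
    exact Nat.eq_of_mul_eq_mul_right (pow_pos hp.out.pos r) h1
  -- the set X of lifts
  let X := {y : {x // x ∈ s} → P // ∀ i, y i * (i : P)⁻¹ ∈ frattini P}
  let act : A → X → X := fun α y => ⟨fun i => (α : MulAut P) (y.1 i), by
    intro i
    have h1 := hA α α.2 (y.1 i)
    have h2 := y.2 i
    have : (α : MulAut P) (y.1 i) * (i : P)⁻¹ =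
        ((α : MulAut P) (y.1 i) * (y.1 i)⁻¹) * (y.1 i * (i : P)⁻¹) := by group
    rw [this]
    exact (frattini P).mul_mem h1 h2⟩
  let inst : MulAction A X :=
    { smul := act
      one_smul := by
        intro y
        apply Subtype.ext
        funext i
        rfl
      mul_smul := by
        intro α β y
        apply Subtype.ext
        funext i
        rfl }
  have hstab : ∀ y : X, MulAction.stabilizer A y = ⊥ := by
    intro y
    rw [eq_bot_iff]
    intro α hα
    rw [MulAction.mem_stabilizer_iff] at hα
    have hfix : ∀ i, (α : MulAut P) (y.1 i) = y.1 i := by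
      intro i
      have := congrArg (fun z : X => z.1 i) hα
      exact this
    -- range y generates P
    have hgen' : Subgroup.closure (Set.range y.1) = ⊤ := by
      apply frattini_nongenerating
      rw [eq_top_iff, ← hgen, Subgroup.closure_le]
      intro i hi
      have h1 := y.2 ⟨i, hi⟩
      have h2 : i = (y.1 ⟨i, hi⟩ * i⁻¹)⁻¹ * y.1 ⟨i, hi⟩ := by group
      rw [h2]
      rw [sup_comm]
      exact Subgroup.mul_mem_sup ((frattini P).inv_mem h1)
        (Subgroup.subset_closure ⟨⟨i, hi⟩, rfl⟩)
    have h3 : ((α : MulAut P)).toMonoidHom = MonoidHom.id P := by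
      apply MonoidHom.eq_of_eqOn_dense hgen'
      rintro _ ⟨i, rfl⟩
      exact hfix i
    rw [Subgroup.mem_bot]
    apply Subtype.ext
    ext x
    have := congrArg (fun f : P →* P => f x) h3
    exact this
  have e := MulAction.selfEquivOrbitsQuotientProd hstab
  have hcardX : Nat.card X = Nat.card (Quotient (MulAction.orbitRel A X)) * Nat.card A := by
    rw [Nat.card_congr e, Nat.card_prod]
  -- |X| = |Φ|^|s|
  have eX : X ≃ ({x // x ∈ s} → frattini P) :=
    { toFun := fun y i => ⟨y.1 i * (i : P)⁻¹, y.2 i⟩
      invFun := fun z => ⟨fun i => (z i : P) * (i : P), by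
        intro i
        have : (z i : P) * (i : P) * (i : P)⁻¹ = (z i : P) := by group
        rw [this]; exact (z i).2⟩
      left_inv := by
        intro y
        apply Subtype.ext
        funext i
        simp
      right_inv := by
        intro z
        funext i
        apply Subtype.ext
        simp }
  have hcardX' : Nat.card X = p ^ ((n - r) * s.card) := by
    rw [Nat.card_congr eX, Nat.card_fun, hΦ, ← pow_mul]
    congr 2
    rw [Nat.card_eq_fintype_card]
    simp
  have h1 : Nat.card A ∣ p ^ ((n - r) * s.card) := by
    rw [← hcardX', hcardX]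
    exact Dvd.intro_left _ rfl
  refine h1.trans (pow_dvd_pow p ?_)
  rw [mul_comm r]
  exact Nat.mul_le_mul_left _ hs

end Cfsg.Agent.H2.AutFrat
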