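import Mathlib
import Cfsg.Prelude.Def_Blocks
import Cfsg.Agent.Lib.helper3.BlockIdem2
import Cfsg.Agent.Lib.helper3.Irr11
import Cfsg.Agent.Lib.helper3.PrincNormal

/-!
# Alperin–Dade (S4551), piece P1: the lemmas (U) and (AVG)
-/

set_option autoImplicit false
set_option linter.style.haveILetI false
set_option linter.unusedSectionVars false

namespace Cfsg.Agent.H2.AD

open Cfsg Cfsg.Agent.Lib.helper3.Block Cfsg.Agent.Lib.helper3.LocalM
open Cfsg.Agent.Lib.helper3.Irr Cfsg.Agent.Lib.helper3.CharBasic Cfsg.Agent.Lib.helper3.IndFun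
open scoped ComplexConjugate

universe u

section U

variable {X : Type u} [Group X] [Finite X] {p : ℕ} [Fact p.Prime] {M : Ideal AlgInt}

/-- The class of an element centralizing a Sylow `p`-subgroup has size prime to `p`. -/
theorem not_dvd_index_centralizer_of_mem (Q : Sylow p X) (c : X)
    (hc : c ∈ Subgroup.centralizer ((Q : Subgroup X) : Set X)) :
    ¬ p ∣ (Subgroup.centralizer ({c} : Set X)).index := by
  have hle : (Q : Subgroup X) ≤ Subgroup.centralizer ({c} : Set X) := by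
    intro q hq
    rw [Subgroup.mem_centralizer_iff]
    intro y hy
    rw [Set.mem_singleton_iff] at hy
    subst hy
    rw [Subgroup.mem_centralizer_iff] at hc
    exact (hc q hq).symm
  intro h
  exact Q.not_dvd_index (h.trans (Subgroup.index_dvd_of_le hle))

/-- (U): for `χ` in the principal block and `c` centralizing a Sylow `p`-subgroup,
`χ(c)/χ(1) ≡ 1`. -/
theorem princ_ratio (hM : IsPModular p M) (Q : Sylow p X) (c : X)
    (hc : c ∈ Subgroup.centralizer ((Q : Subgroup X) : Set X)) (χ : IrrCharacter X)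
    (hχ : χ ∈ principalBlock M X) :
    MemLocalIdeal M ((χ : X → ℂ) c / (χ : X → ℂ) 1 - 1) := by
  haveI := isPrime_of_isPModular hM
  have h1 : MemLocalIdeal M (centralChar (fun _ : X => (1 : ℂ)) c - centralChar (χ : X → ℂ) c) :=
    hχ c
  obtain ⟨n, hn⟩ : ∃ n : ℕ, n = (Subgroup.centralizer ({c} : Set X)).index := ⟨_, rfl⟩
  have hpn : ¬ p ∣ n := by
    rw [hn]
    exact not_dvd_index_centralizer_of_mem Q c hc
  have hn0 : (n : ℂ) ≠ 0 := by
    have : n ≠ 0 := by
      rintro rfl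
      exact hpn (dvd_zero p)
    exact_mod_cast this
  have hχ1 : (χ : X → ℂ) 1 ≠ 0 := apply_one_ne_zero χ.2
  have hr : MemLocalRing M (-(1 : ℂ) / (n : ℂ)) := by
    refine ⟨-1, (n : AlgInt), ?_, ?_⟩
    · intro h
      exact hpn ((natCast_mem_iff hM n).mp h)
    · simp
  have h2 := memLocalIdeal_mul_localRing hr h1
  have h3 : -(1 : ℂ) / (n : ℂ)
      * (centralChar (fun _ : X => (1 : ℂ)) c - centralChar (χ : X → ℂ) c)
      = (χ : X → ℂ) c / (χ : X → ℂ) 1 - 1 := by
    unfold centralChar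
    rw [← hn]
    field_simp
    ring
  rw [h3] at h2
  exact h2

theorem princ_ratio_memLocalRing (hM : IsPModular p M) (Q : Sylow p X) (c : X)
    (hc : c ∈ Subgroup.centralizer ((Q : Subgroup X) : Set X)) (χ : IrrCharacter X)
    (hχ : χ ∈ principalBlock M X) :
    MemLocalRing M ((χ : X → ℂ) c / (χ : X → ℂ) 1) := by
  haveI := isPrime_of_isPModular hM
  obtain ⟨a, b, ha, hb, hab⟩ := princ_ratio hM Q c hc χ hχ
  refine ⟨a + b, b, hb, ?_⟩
  have hb0 := coe_ne_zero_of_notMem hb
  push_cast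
  rw [add_div, hab, div_self hb0]
  ring

theorem princ_apply_ne_zero (hM : IsPModular p M) (Q : Sylow p X) (c : X)
    (hc : c ∈ Subgroup.centralizer ((Q : Subgroup X) : Set X)) (χ : IrrCharacter X)
    (hχ : χ ∈ principalBlock M X) : (χ : X → ℂ) c ≠ 0 := by
  haveI := isPrime_of_isPModular hM
  intro h0
  have h := princ_ratio hM Q c hc χ hχ
  rw [h0, zero_div, zero_sub] at h
  have h1 := memLocalIdeal_neg h
  rw [neg_neg] at h1
  exact not_memLocalIdeal_one h1

end U

section AVG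

variable {S : Type*} [Group S] [Finite S] {p : ℕ} [Fact p.Prime] {M : Ideal AlgInt}

/-- (AVG): a function on a `p'`-group all of whose normalized values are `≡ 1` has nonzero sum. -/
theorem avg_ne_zero (hM : IsPModular p M) (hS : ¬ p ∣ Nat.card S) (β : S → ℂ) (_hβ1 : β 1 ≠ 0)
    (h : ∀ x : S, MemLocalIdeal M (β x / β 1 - 1)) : ∑ᶠ x : S, β x ≠ 0 := by
  classical
  haveI := isPrime_of_isPModular hM
  letI : Fintype S := Fintype.ofFinite S
  rw [finsum_eq_sum_of_fintype]
  intro h0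
  -- sum of (β x / β 1 - 1) = - |S|
  have h1 : MemLocalIdeal M (∑ x : S, (β x / β 1 - 1)) :=
    memLocalIdeal_sum _ _ (fun x _ => h x)
  have h2 : ∑ x : S, (β x / β 1 - 1) = -(Nat.card S : ℂ) := by
    rw [Finset.sum_sub_distrib, ← Finset.sum_div, h0, zero_div, zero_sub, Finset.sum_const,
      Finset.card_univ, Nat.card_eq_fintype_card]
    simp
  rw [h2] at h1
  have h3 := memLocalIdeal_neg h1
  rw [neg_neg] at h3
  have h4 : ((Nat.card S : AlgInt) : ℂ) = (Nat.card S : ℂ) := by simp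
  rw [← h4] at h3
  exact hS ((natCast_mem_iff hM _).mp (mem_of_memLocalIdeal h3))

/-- An irreducible character of a `p'`-group all of whose normalized values are `≡ 1` is
trivial. -/
theorem irr_eq_one_of_ratio (hM : IsPModular p M) (hS : ¬ p ∣ Nat.card S) (β : S → ℂ)
    (hβ : IsIrrCharacter S β) (h : ∀ x : S, MemLocalIdeal M (β x / β 1 - 1)) :
    ∀ x : S, β x = 1 := by
  classical
  letI : Fintype S := Fintype.ofFinite S
  have hne := avg_ne_zero hM hS β (apply_one_ne_zero hβ) h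
  rw [finsum_eq_sum_of_fintype] at hne
  have h1 : classInner β (fun _ : S => (1 : ℂ)) ≠ 0 := by
    rw [classInner_apply]
    simp only [map_one, mul_one]
    apply mul_ne_zero
    · exact inv_ne_zero (by exact_mod_cast Nat.card_pos.ne')
    · exact hne
  have h2 : β = fun _ : S => (1 : ℂ) := by
    by_contra hcon
    exact h1 (irr_classInner_eq_zero hβ isIrrCharacter_one hcon)
  intro x
  rw [h2]

end AVG

section USE

variable {X : Type u} [Group X] [Finite X] {p : ℕ} [Fact p.Prime] {M : Ideal AlgInt}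

/-- If `N ⊔ C = ⊤` with `N` normal, every element is a product `n * c`. -/
theorem exists_mul_of_sup_eq_top (N C : Subgroup X) [hN : N.Normal] (hsup : N ⊔ C = ⊤) (g : X) :
    ∃ n ∈ N, ∃ c ∈ C, g = n * c := by
  have hg : g ∈ N ⊔ C := by
    rw [hsup]
    exact Subgroup.mem_top g
  rw [← SetLike.mem_coe, Subgroup.normal_mul] at hg
  obtain ⟨n, hn, c, hc, rfl⟩ := Set.mem_mul.mp hg
  exact ⟨n, hn, c, hc, rfl⟩

/-- (AVG), quotient form: an irreducible character of `X ⧸ N` whose normalized values at the images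
of the elements centralizing a Sylow `p`-subgroup are `≡ 1` is trivial. -/
theorem irr_quot_eq_one (hM : IsPModular p M) (N : Subgroup X) [hN : N.Normal]
    (hidx : ¬ p ∣ N.index) (Q : Sylow p X)
    (hsup : N ⊔ Subgroup.centralizer ((Q : Subgroup X) : Set X) = ⊤)
    (β : IrrCharacter (X ⧸ N))
    (h : ∀ c ∈ Subgroup.centralizer ((Q : Subgroup X) : Set X),
      MemLocalIdeal M ((β : X ⧸ N → ℂ) (c : X ⧸ N) / (β : X ⧸ N → ℂ) 1 - 1)) :
    ∀ q : X ⧸ N, (β : X ⧸ N → ℂ) q = 1 := by
  have hS : ¬ p ∣ Nat.card (X ⧸ N) := by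
    rw [← Subgroup.index_eq_card]
    exact hidx
  apply irr_eq_one_of_ratio hM hS _ β.2
  intro x
  obtain ⟨g, rfl⟩ := QuotientGroup.mk_surjective x
  obtain ⟨n, hn, c, hc, rfl⟩ := exists_mul_of_sup_eq_top N _ hsup g
  have : ((n * c : X) : X ⧸ N) = (c : X ⧸ N) := by
    rw [QuotientGroup.mk_mul, (QuotientGroup.eq_one_iff n).mpr hn, one_mul]
  rw [this]
  exact h c hc

/-- A root of unity of order prime to `p` that is `≡ 1` is `1`. -/
theorem eq_one_of_pow_eq_one_of_memLocalIdeal (hM : IsPModular p M) {ω : ℂ} (hω : IsIntegral ℤ ω)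
    (d : ℕ) (hd : ¬ p ∣ d) (hpow : ω ^ d = 1) (h1 : MemLocalIdeal M (ω - 1)) : ω = 1 := by
  haveI := isPrime_of_isPModular hM
  by_contra hne
  have hgeom : ∑ j ∈ Finset.range d, ω ^ j = 0 := by
    have h2 := geom_sum_mul ω d
    rw [hpow, sub_self] at h2
    rcases mul_eq_zero.mp h2 with h3 | h3
    · exact h3
    · exact absurd (sub_eq_zero.mp h3) hne
  have hj : ∀ j : ℕ, MemLocalIdeal M (ω ^ j - 1) := by
    intro j
    have h2 : ω ^ j - 1 = (∑ i ∈ Finset.range j, ω ^ i) * (ω - 1) := by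
      rw [geom_sum_mul]
    rw [h2]
    apply memLocalIdeal_mul_integral h1
    exact IsIntegral.sum _ (fun i _ => hω.pow i)
  have hsum : MemLocalIdeal M (∑ j ∈ Finset.range d, (ω ^ j - 1)) :=
    memLocalIdeal_sum _ _ (fun j _ => hj j)
  rw [Finset.sum_sub_distrib, hgeom, zero_sub, Finset.sum_const, Finset.card_range] at hsum
  have h3 := memLocalIdeal_neg hsum
  rw [neg_neg] at h3
  have h4 : ((d : AlgInt) : ℂ) = d • (1 : ℂ) := by simp
  rw [← h4] at h3
  exact hd ((natCast_mem_iff hM _).mp (mem_of_memLocalIdeal h3))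

/-- (AVG), linear form: a linear character of `X`, trivial on `N`, that is `≡ 1` at the elements
centralizing a Sylow `p`-subgroup, is trivial. -/
theorem linear_eq_one (hM : IsPModular p M) (N : Subgroup X) [hN : N.Normal]
    (hidx : ¬ p ∣ N.index) (Q : Sylow p X)
    (hsup : N ⊔ Subgroup.centralizer ((Q : Subgroup X) : Set X) = ⊤)
    (lam : X → ℂ) (hlam : IsCharacter X lam) (h1 : lam 1 = 1) (hlN : ∀ n : N, lam n = 1)
    (hc : ∀ c ∈ Subgroup.centralizer ((Q : Subgroup X) : Set X), MemLocalIdeal M (lam c - 1)) :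
    ∀ g : X, lam g = 1 := by
  intro g
  obtain ⟨n, hn, c, hcc, rfl⟩ := exists_mul_of_sup_eq_top N _ hsup g
  rw [Cfsg.Agent.Lib.helper3.Lin.map_mul_of_apply_one_eq_one hlam h1, hlN ⟨n, hn⟩, one_mul]
  apply eq_one_of_pow_eq_one_of_memLocalIdeal hM
    (Cfsg.Agent.Lib.helper3.Lin.isIntegral_of_isCharacter hlam c) N.index hidx _ (hc c hcc)
  have h2 := Cfsg.Agent.Lib.helper3.Lin.pow_eq_one_of_linear hlam h1
  have h3 : c ^ N.index ∈ N := Subgroup.pow_index_mem N c
  have h4 : lam (c ^ N.index) = 1 := hlN ⟨_, h3⟩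
  have h5 : lam (c ^ N.index) = lam c ^ N.index := by
    rw [← Cfsg.Agent.Lib.helper3.Lin.toHom_apply hlam h1, map_pow,
      Cfsg.Agent.Lib.helper3.Lin.toHom_apply]
  rw [← h5, h4]

end USE

end Cfsg.Agent.H2.AD
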