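import Mathlib
import Cfsg.Agent.S4435
import Cfsg.Agent.S4436
import Cfsg.Agent.S4492
import Cfsg.Agent.Lib.helper3.QuotDefect3
import Cfsg.Agent.Lib.helper3.FR6
import Cfsg.Agent.Lib.helper3.FongB6
import Cfsg.Agent.Lib.helper3.SecMain11
import Cfsg.Agent.Lib.helper3.Ito
import Cfsg.Agent.Lib.Lead.PSolvable

/-!
# Fong's bound for heights in `p`-solvable groups: the Fong–Reynolds reduction  (author: helper2)

`main` reduces `ht(χ) ≤ ν_p |P : Z(P)|` to the degree bound for a `G`-invariant character of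
`O_{p'}(G)` (hypothesis `hdeg`).
-/

set_option autoImplicit false
set_option linter.style.haveILetI false

namespace Cfsg.Agent.H2.FongHt

open Cfsg Cfsg.Agent.Lib.helper3.Irr Cfsg.Agent.Lib.helper3.Block Cfsg.Agent.Lib.helper3.FongB
open Cfsg.Agent.Lib.helper3.LocalM

universe u

/-- isomorphic groups have centres of the same index -/
theorem index_center_congr {A B : Type*} [Group A] [Group B] (e : A ≃* B) :
    (Subgroup.center A).index = (Subgroup.center B).index := by
  have h : (Subgroup.center A).map (e : A →* B) = Subgroup.center B := by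
    ext b
    rw [Subgroup.mem_map, Subgroup.mem_center_iff]
    constructor
    · rintro ⟨a, ha, rfl⟩ b'
      obtain ⟨a', rfl⟩ := e.surjective b'
      rw [Subgroup.mem_center_iff] at ha
      change e a' * e a = e a * e a'
      rw [← map_mul, ← map_mul, ha a']
    · intro hb
      refine ⟨e.symm b, ?_, e.apply_symm_apply b⟩
      rw [Subgroup.mem_center_iff]
      intro a'
      apply e.injective
      rw [map_mul, map_mul, e.apply_symm_apply]
      exact hb (e a')
  rw [← h]
  exact (Subgroup.index_map_equiv _ e).symm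

/-- the hypothesis: the degree bound over an invariant character of `O_{p'}(G)` -/
def DegreeBound (p : ℕ) [Fact p.Prime] : Prop :=
  ∀ (G : Type u) [Group G] [Finite G], Cfsg.IsPSolvable p G →
    ∀ (N : Subgroup G) [hN : N.Normal] (_ : N = Cfsg.pPrimeCore p G) (θ : IrrCharacter ↥N)
      (_ : ∀ (g : G) (n : ↥N),
        (θ : ↥N → ℂ) ⟨g * n * g⁻¹, hN.conj_mem n n.2 g⟩ = (θ : ↥N → ℂ) n)
      (χ : IrrCharacter G)
      (_ : ∀ [Fintype ↥N], classInner (fun n : ↥N => (χ : G → ℂ) n) (θ : ↥N → ℂ) ≠ 0)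
      (S : Sylow p G),
      (Cfsg.charDegree (χ : G → ℂ)).factorization p ≤
        ((Subgroup.center ↥(S : Subgroup G)).index).factorization p

theorem main (p : ℕ) [Fact p.Prime] (M : Ideal Cfsg.AlgInt) (hM : Cfsg.IsPModular p M)
    (hdeg : DegreeBound.{u} p) :
    ∀ (n : ℕ) (G : Type u) [Group G] [Finite G], Nat.card G = n → Cfsg.IsPSolvable p G →
      ∀ (B : Set (IrrCharacter G)), Cfsg.IsPBlock M B → ∀ (P : Subgroup G),
      Cfsg.IsDefectGroup p M B P → ∀ χ : IrrCharacter G, χ ∈ B →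
      Cfsg.blockHeight p B (χ : G → ℂ) ≤ ((Subgroup.center ↥P).index).factorization p := by
  intro n
  induction n using Nat.strong_induction_on with
  | _ n ih =>
    intro G _ _ hn hsolv B hB P hP χ hχ
    classical
    haveI hMp := isPrime_of_isPModular hM
    have hp : p.Prime := Fact.out
    letI : Fintype G := Fintype.ofFinite G
    set N : Subgroup G := Cfsg.pPrimeCore p G with hNdef
    haveI hN : N.Normal := Cfsg.Agent.H1.pPrimeCore_normal p
    letI : Fintype ↥N := Fintype.ofFinite _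
    have hNp : ¬ p ∣ Nat.card ↥N :=
      (Nat.Prime.coprime_iff_not_dvd hp).1 (Cfsg.Agent.H1.pPrimeCore_coprime p).symm
    -- a constituent of the restriction
    have hχc := isCharacter_of_isIrrCharacter χ.2
    have hres : IsCharacter ↥N (fun n : ↥N => (χ : G → ℂ) n) := isCharacter_restrict hχc N
    have hres0 : (fun n : ↥N => (χ : G → ℂ) n) ≠ 0 := by
      intro h
      have := congrFun h 1
      exact apply_one_ne_zero χ.2 this
    obtain ⟨θ, hθ⟩ := exists_constituent hres hres0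
    set b : Set (IrrCharacter ↥N) := {θ} with hbdef
    have hb : Cfsg.IsPBlock M b := ⟨θ, (blockOf_eq_singleton hM hNp θ).symm⟩
    set T : Subgroup G := inertia N (θ : ↥N → ℂ) with hTdef
    letI : Fintype ↥T := Fintype.ofFinite _
    have hNT : N ≤ T := le_inertia N _ (isClassFunction_of_isCharacter
      (isCharacter_of_isIrrCharacter θ.2))
    have hT : ∀ g : G, g ∈ T ↔ ∀ θ₁ ∈ b, ∀ θ' : IrrCharacter ↥N,
        (∀ n : ↥N, (θ' : ↥N → ℂ) n = (θ₁ : ↥N → ℂ) ⟨g * n * g⁻¹, hN.conj_mem n n.2 g⟩) →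
        θ' ∈ b := by
      intro g
      rw [hTdef, mem_inertia_iff]
      constructor
      · intro h θ₁ hθ₁ θ' hθ'
        rw [hbdef, Set.mem_singleton_iff] at hθ₁ ⊢
        subst hθ₁
        apply Subtype.ext
        funext n
        rw [hθ' n, h n]
      · intro h n
        have h1 := h θ (Set.mem_singleton θ)
          ⟨Cfsg.Agent.Lib.helper3.Irr.conjFun N (θ : ↥N → ℂ) g,
            Cfsg.Agent.Lib.helper3.Irr.isIrrCharacter_conjFun N θ.2 g⟩ (fun n => rfl)
        rw [hbdef, Set.mem_singleton_iff] at h1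
        have h2 := congrArg (fun t : IrrCharacter ↥N => (t : ↥N → ℂ) n) h1
        exact h2
    by_cases hTtop : T = ⊤
    · -- θ is invariant
      have hinv : ∀ (g : G) (n : ↥N), (θ : ↥N → ℂ) ⟨g * n * g⁻¹, hN.conj_mem n n.2 g⟩ =
          (θ : ↥N → ℂ) n := by
        intro g n
        have hg : g ∈ T := by rw [hTtop]; trivial
        rw [hTdef, mem_inertia_iff] at hg
        exact hg n
      obtain ⟨B₀, hB₀, hmem, _, hdef⟩ := Cfsg.Agent.S4492.result p M hM hsolv N rfl θ hinv
      have hχB₀ : χ ∈ B₀ := (hmem χ).2 hθ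
      have hBB₀ : B = B₀ := isPBlock_eq_of_mem hB hB₀ χ hχ hχB₀
      obtain ⟨S, hS⟩ := hdef P (hBB₀ ▸ hP)
      subst hS
      have h1 : Cfsg.blockHeight p B (χ : G → ℂ) ≤
          (Cfsg.charDegree (χ : G → ℂ)).factorization p := Nat.sub_le _ _
      refine h1.trans ?_
      refine hdeg G hsolv N rfl θ hinv χ ?_ S
      intro inst
      convert hθ using 2
    · -- Fong–Reynolds
      have hcovB : ∃ χ' ∈ B, ∃ θ' ∈ b, Cfsg.classInner (fun n : ↥N => (χ' : G → ℂ) n)
          (θ' : ↥N → ℂ) ≠ 0 := ⟨χ, hχ, θ, Set.mem_singleton θ, hθ⟩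
      have FR := Cfsg.Agent.S4435.result p M hM N b hb T hT hNT
      obtain ⟨B', hB', hcov', hind⟩ := FR.2.2 B hB hcovB
      obtain ⟨B₁, hind₁, _, _, hiff⟩ := FR.1 B' hB' hcov'
      have FR2 := Cfsg.Agent.S4436.result p M hM N b hb T hT hNT B' hB' hcov' B hind
      have hB₁B : B₁ = B := by
        obtain ⟨ψ₀, hψ₀, _⟩ := hcov'
        obtain ⟨χ₀, hχ₀B, hχ₀, _⟩ := FR2.2 ψ₀ hψ₀
        have hχ₀B₁ : χ₀ ∈ B₁ := (hiff χ₀).2 ⟨ψ₀, hψ₀, hχ₀⟩
        exact isPBlock_eq_of_mem hind₁.2.1 hB χ₀ hχ₀B₁ hχ₀B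
      obtain ⟨ψ, hψ, hχψ⟩ := (hiff χ).1 (hB₁B ▸ hχ)
      obtain ⟨χ', _, hχ'ψ, hht⟩ := FR2.2 ψ hψ
      have hχχ' : χ' = χ := Subtype.ext (by rw [hχ'ψ, hχψ])
      rw [hχχ'] at hht
      obtain ⟨D, hD⟩ := exists_isDefectGroup hM B' hB'
      have hDmap := FR2.1 D hD
      obtain ⟨x, hx⟩ := defectGroup_conj_eq hM hB hP hDmap
      -- `P ≅ D`
      have e1 : ↥D ≃* ↥(D.map T.subtype) :=
        Subgroup.equivMapOfInjective D T.subtype T.subtype_injective
      have e2 : ↥(D.map T.subtype) ≃* ↥((D.map T.subtype).map (MulAut.conj x).toMonoidHom) :=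
        Subgroup.equivMapOfInjective _ (MulAut.conj x).toMonoidHom (MulAut.conj x).injective
      have e3 : ↥((D.map T.subtype).map (MulAut.conj x).toMonoidHom) ≃* ↥P :=
        MulEquiv.subgroupCongr hx
      have hidx : (Subgroup.center ↥D).index = (Subgroup.center ↥P).index :=
        index_center_congr ((e1.trans e2).trans e3)
      -- induction
      have hTsolv : Cfsg.IsPSolvable p ↥T :=
        Cfsg.Agent.Lib.Lead.PSolvable.IsPSolvable.subgroup T hsolv
      have hcardT : Nat.card ↥T < n := by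
        rw [← hn]
        have hle : Nat.card ↥T ≤ Nat.card G := Subgroup.card_le_card_group T
        rcases Nat.lt_or_ge (Nat.card ↥T) (Nat.card G) with h | h
        · exact h
        · exact absurd (Subgroup.eq_top_of_card_eq T (le_antisymm hle h)) hTtop
      have hih := ih (Nat.card ↥T) hcardT ↥T rfl hTsolv B' hB' D hD ψ hψ
      rw [hht, ← hidx]
      exact hih

end Cfsg.Agent.H2.FongHt
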