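import Mathlib

set_option autoImplicit false

namespace Cfsg.Agent.H2

open scoped commutatorElement

variable {G : Type*} [Group G]

/-- In a finite perfect group, a Sylow `p`-subgroup central in its normalizer is trivial
(Burnside's transfer theorem). -/
theorem sylow_eq_bot_of_perfect_of_normalizer_le_centralizer [Finite G] {p : ℕ} [Fact p.Prime]
    (hperf : commutator G = ⊤) (P : Sylow p G)
    (hP : Subgroup.normalizer ((P : Subgroup G) : Set G) ≤ Subgroup.centralizer (P : Set G)) :
    (P : Subgroup G) = ⊥ := by
  have hcomm : ∀ a b : P, a * b = b * a :=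
    fun a b => Subtype.ext (hP (Subgroup.le_normalizer b.2) a a.2)
  set f := MonoidHom.transferSylow P hP with hf
  have hker : f.ker = ⊤ := by
    rw [eq_top_iff, ← hperf, commutator_def, Subgroup.commutator_le]
    intro a _ b _
    rw [MonoidHom.mem_ker, map_commutatorElement, commutatorElement_def]
    rw [hcomm (f a) (f b)]
    group
  have := MonoidHom.ker_transferSylow_isComplement' P hP
  rw [← hf, hker, Subgroup.isComplement'_top_left] at this
  exact this

/-- A Sylow `p`-subgroup is contained in every normal subgroup of index prime to `p`. -/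
theorem sylow_le_of_normal_of_not_dvd_index [Finite G] {p : ℕ} [Fact p.Prime]
    (P : Sylow p G) (N : Subgroup G) [N.Normal] (hN : ¬ p ∣ N.index) : (P : Subgroup G) ≤ N := by
  have h1 : IsPGroup p ((P : Subgroup G).map (QuotientGroup.mk' N)) := P.2.map _
  obtain ⟨n, hn⟩ := IsPGroup.iff_card.1 h1
  have h2 : Nat.card ((P : Subgroup G).map (QuotientGroup.mk' N)) ∣ N.index := by
    rw [Subgroup.index_eq_card]
    exact Subgroup.card_subgroup_dvd_card _
  have hn0 : n = 0 := by
    by_contra h
    apply hN
    rw [hn] at h2
    exact (dvd_pow_self p h).trans h2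
  rw [hn0, pow_zero, Subgroup.card_eq_one] at hn
  rw [Subgroup.map_eq_bot_iff, QuotientGroup.ker_mk'] at hn
  exact hn

end Cfsg.Agent.H2
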