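import Mathlib
import Cfsg.Prelude.Def_Local
import Cfsg.Agent.H2.PPrimeCore
import Cfsg.Agent.H2.Transfer

/-!
`p`-components (helper2).
-/

set_option autoImplicit false
open scoped commutatorElement Pointwise

namespace Cfsg.Agent.H2

section

variable {G : Type*} [Group G]

/-- A finite quasisimple group whose central quotient is a `p'`-group is itself a `p'`-group. -/
theorem quasisimple_coprime_of_not_dvd_index_center (L : Type*) [Group L] [Finite L]
    (hL : Cfsg.IsQuasisimple L) (p : ℕ) [Fact p.Prime]
    (h : ¬ p ∣ (Subgroup.center L).index) : (Nat.card L).Coprime p := by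
  obtain ⟨P⟩ : Nonempty (Sylow p L) := inferInstance
  have hPZ : (P : Subgroup L) ≤ Subgroup.center L :=
    sylow_le_of_normal_of_not_dvd_index P _ h
  have hPbot : (P : Subgroup L) = ⊥ := by
    apply sylow_eq_bot_of_perfect_of_normalizer_le_centralizer hL.1.commutator_eq_top P
    intro x _
    rw [Subgroup.mem_centralizer_iff]
    intro y hy
    exact (Subgroup.mem_center_iff.1 (hPZ hy) x).symm
  rw [Nat.coprime_comm, Nat.Prime.coprime_iff_not_dvd Fact.out]
  intro hdvd
  exact P.ne_bot_of_dvd_card hdvd hPbot

/-- A component of a finite group with `O_{p'}(G) = 1` does not have order prime to `p`. -/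
theorem component_not_coprime [Finite G] (p : ℕ) (hO : Cfsg.pPrimeCore p G = ⊥)
    {L : Subgroup G} (hL : Cfsg.IsComponent L) : ¬ (Nat.card L).Coprime p := by
  intro hc
  have := le_pPrimeCore_of_isSubnormal p hL.1 hc
  rw [hO, le_bot_iff] at this
  exact quasisimple_ne_bot hL.2 this

end

section PComponent

variable {X : Type*} [Group X] [Finite X] (p : ℕ) [Fact p.Prime]

theorem isSubnormal_of_normal_in {K N : Subgroup X} (hK : K.IsSubnormal) (hNK : N ≤ K)
    (hn : K ≤ Subgroup.normalizer (N : Set X)) : N.IsSubnormal :=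
  Subgroup.IsSubnormal.step N K hNK hK ((Subgroup.normal_subgroupOf_iff_le_normalizer hNK).2 hn)

/-- A `p`-component is perfect. -/
theorem pComponent_commutator_eq {K : Subgroup X} (hK : Cfsg.IsPComponent p K) : ⁅K, K⁆ = K := by
  have hle : ⁅K, K⁆ ≤ K := Subgroup.le_normalizer_iff_commutator_le_right.1 Subgroup.le_normalizer
  apply hK.2.2 _ (isSubnormal_of_normal_in hK.1 hle
    (Subgroup.le_normalizer.trans (normalizer_le_normalizer_commutator K))) hle
  rw [Subgroup.map_commutator]
  exact quasisimple_commutator_eq hK.2.1.2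

theorem card_map_coprime {p : ℕ} {Y : Type*} [Group Y] (f : X →* Y) (H : Subgroup X)
    (h : (Nat.card H).Coprime p) : (Nat.card (H.map f)).Coprime p :=
  Nat.Coprime.coprime_dvd_left (Subgroup.card_map_dvd H f) h

/-- The order of a `p`-component is divisible by `p`. -/
theorem pComponent_dvd_card {K : Subgroup X} (hK : Cfsg.IsPComponent p K) : p ∣ Nat.card K := by
  by_contra h
  have hc : (Nat.card K).Coprime p :=
    ((Nat.Prime.coprime_iff_not_dvd Fact.out).2 h).symm
  exact component_not_coprime p (pPrimeCore_quotient_eq_bot p) hK.2.1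
    (card_map_coprime _ K hc)

/-- Minimality of a `p`-component among subnormal perfect subgroups of order divisible by `p`. -/
theorem pComponent_minimal {K : Subgroup X} (hK : Cfsg.IsPComponent p K) (H : Subgroup X)
    (hHK : H ≤ K) (hH : H.IsSubnormal) (hperf : ⁅H, H⁆ = H) (hp : p ∣ Nat.card H) : H = K := by
  set π := QuotientGroup.mk' (Cfsg.pPrimeCore p X) with hπ
  have hHbar : (H.map π).IsSubnormal := hH.map (QuotientGroup.mk'_surjective _)
  have hle : H.map π ≤ K.map π := Subgroup.map_mono hHK
  rcases IsQuasisimple.eq_top_or_le_center hK.2.1.2 ((H.map π).subgroupOf (K.map π))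
    hHbar.subgroupOf with h | h
  · apply hK.2.2 H hH hHK
    rw [Subgroup.subgroupOf_eq_top] at h
    exact le_antisymm hle h
  · exfalso
    have hab : ⁅H.map π, H.map π⁆ = ⊥ := by
      rw [commutator_eq_bot_iff_forall_commute]
      intro a ha b hb
      have := Subgroup.mem_center_iff.1 (h (show (⟨a, hle ha⟩ : K.map π) ∈ _ from
        Subgroup.mem_subgroupOf.2 ha)) ⟨b, hle hb⟩
      exact (congrArg Subtype.val this).symm
    rw [← Subgroup.map_commutator, hperf] at hab
    have hHO : H ≤ Cfsg.pPrimeCore p X := by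
      rw [← QuotientGroup.ker_mk' (Cfsg.pPrimeCore p X)]
      exact (Subgroup.map_eq_bot_iff _).1 hab
    have hc : (Nat.card H).Coprime p :=
      Nat.Coprime.coprime_dvd_left (Subgroup.card_dvd_of_le hHO)
        (Cfsg.Agent.H1.pPrimeCore_coprime p)
    exact (Nat.Prime.coprime_iff_not_dvd Fact.out).1 hc.symm hp

end PComponent

end Cfsg.Agent.H2
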