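import Mathlib
import Cfsg.Prelude.Def_Local
import Cfsg.Agent.H2.PComponent

/-!
`K / O_{p'}(K)` for a `p`-component `K` (helper2).
-/

set_option autoImplicit false
open scoped commutatorElement Pointwise

namespace Cfsg.Agent.H2

section

variable {X : Type*} [Group X] [Finite X] (p : ℕ) [Fact p.Prime]

/-- For a subnormal subgroup `K`, `O_{p'}(K) = K ∩ O_{p'}(X)`. -/
theorem pPrimeCore_eq_subgroupOf_of_isSubnormal {K : Subgroup X} (hK : K.IsSubnormal) :
    Cfsg.pPrimeCore p K = (Cfsg.pPrimeCore p X).subgroupOf K := by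
  apply le_antisymm
  · intro x hx
    rw [Subgroup.mem_subgroupOf]
    exact pPrimeCore_map_subtype_le_of_isSubnormal p hK (Subgroup.mem_map_of_mem _ hx)
  · apply Cfsg.Agent.H1.le_pPrimeCore inferInstance
    have h1 : Nat.card ((Cfsg.pPrimeCore p X).subgroupOf K) ∣ Nat.card (Cfsg.pPrimeCore p X) := by
      rw [← Subgroup.inf_subgroupOf_right,
        Nat.card_congr (Subgroup.subgroupOfEquivOfLe (inf_le_right : Cfsg.pPrimeCore p X ⊓ K ≤ K)).toEquiv]
      exact Subgroup.card_dvd_of_le inf_le_left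
    exact Nat.Coprime.coprime_dvd_left h1 (Cfsg.Agent.H1.pPrimeCore_coprime p)

/-- The image of a subgroup `K` in `X / N` is isomorphic to `K / (N ∩ K)`. -/
noncomputable def quotientSubgroupOfEquivMap (N : Subgroup X) [N.Normal] (K : Subgroup X) :
    K ⧸ N.subgroupOf K ≃* K.map (QuotientGroup.mk' N) :=
  (QuotientGroup.quotientMulEquivOfEq (by
      ext x
      rw [MonoidHom.mem_ker, Subgroup.mem_subgroupOf]
      constructor
      · intro hx
        apply Subtype.ext
        show QuotientGroup.mk' N (x : X) = 1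
        exact (QuotientGroup.eq_one_iff _).2 hx
      · intro hx
        have := congrArg Subtype.val hx
        exact (QuotientGroup.eq_one_iff _).1 this :
      N.subgroupOf K = ((QuotientGroup.mk' N).subgroupMap K).ker)).trans
    (QuotientGroup.quotientKerEquivOfSurjective _ ((QuotientGroup.mk' N).subgroupMap_surjective K))

/-- For a `p`-component `K`, the quotient `K / O_{p'}(K)` is quasisimple. -/
theorem pComponent_quotient_isQuasisimple {K : Subgroup X} (hK : Cfsg.IsPComponent p K) :
    Cfsg.IsQuasisimple (K ⧸ Cfsg.pPrimeCore p K) := by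
  have e1 : K ⧸ Cfsg.pPrimeCore p K ≃* K ⧸ (Cfsg.pPrimeCore p X).subgroupOf K :=
    QuotientGroup.quotientMulEquivOfEq (pPrimeCore_eq_subgroupOf_of_isSubnormal p hK.1)
  exact (isQuasisimple_congr (e1.trans (quotientSubgroupOfEquivMap _ K))).2 hK.2.1.2

end

end Cfsg.Agent.H2

namespace Cfsg.Agent.H2

/-- A perfect group `K` with a central subgroup `O` such that `K / O` is quasisimple is
quasisimple. -/
theorem isQuasisimple_of_quotient_central {K : Type*} [Group K] (hperf : Group.IsPerfect K)
    (O : Subgroup K) [O.Normal] (hO : O ≤ Subgroup.center K)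
    (hQ : Cfsg.IsQuasisimple (K ⧸ O)) : Cfsg.IsQuasisimple K := by
  refine ⟨hperf, ?_⟩
  let φ : K →* (K ⧸ O) ⧸ Subgroup.center (K ⧸ O) :=
    (QuotientGroup.mk' (Subgroup.center (K ⧸ O))).comp (QuotientGroup.mk' O)
  have hφ : Function.Surjective φ :=
    (QuotientGroup.mk'_surjective _).comp (QuotientGroup.mk'_surjective _)
  have hker : φ.ker = Subgroup.center K := by
    apply le_antisymm
    · -- Z₁ = ker φ centralizes K
      have h1 : ⁅φ.ker, (⊤ : Subgroup K)⁆ ≤ O := by
        rw [Subgroup.commutator_le]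
        intro z hz k _
        rw [MonoidHom.mem_ker] at hz
        have hz' : QuotientGroup.mk' O z ∈ Subgroup.center (K ⧸ O) := by
          rw [← QuotientGroup.ker_mk' (Subgroup.center (K ⧸ O))]
          exact hz
        have := Subgroup.mem_center_iff.1 hz' (QuotientGroup.mk' O k)
        rw [← QuotientGroup.eq_one_iff, commutatorElement_def]
        show QuotientGroup.mk' O (z * k * z⁻¹ * k⁻¹) = 1
        rw [map_mul, map_mul, map_mul, map_inv, map_inv, ← this]
        group
      have h2 : ⁅⁅φ.ker, (⊤ : Subgroup K)⁆, (⊤ : Subgroup K)⁆ = ⊥ := by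
        rw [eq_bot_iff]
        calc ⁅⁅φ.ker, (⊤ : Subgroup K)⁆, (⊤ : Subgroup K)⁆ ≤ ⁅Subgroup.center K, ⊤⁆ :=
              Subgroup.commutator_mono (h1.trans hO) le_rfl
          _ = ⊥ := Subgroup.commutator_center_left _
      have h3 : ⁅⁅(⊤ : Subgroup K), φ.ker⁆, (⊤ : Subgroup K)⁆ = ⊥ := by
        rw [Subgroup.commutator_comm ⊤ φ.ker]; exact h2
      have h4 : ⁅⁅(⊤ : Subgroup K), (⊤ : Subgroup K)⁆, φ.ker⁆ = ⊥ :=
        Subgroup.commutator_commutator_eq_bot_of_rotate h3 h2
      have h5 : ⁅(⊤ : Subgroup K), (⊤ : Subgroup K)⁆ = ⊤ := hperf.commutator_eq_top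
      rw [h5] at h4
      exact Subgroup.commutator_top_left_eq_bot_iff_le_center.1 h4
    · intro z hz
      rw [MonoidHom.mem_ker]
      show QuotientGroup.mk' (Subgroup.center (K ⧸ O)) (QuotientGroup.mk' O z) = 1
      rw [← MonoidHom.mem_ker, QuotientGroup.ker_mk', Subgroup.mem_center_iff]
      intro q
      obtain ⟨k, rfl⟩ := QuotientGroup.mk'_surjective O q
      rw [← map_mul, ← map_mul, Subgroup.mem_center_iff.1 hz k]
  exact ((QuotientGroup.quotientMulEquivOfEq hker.symm).trans
    (QuotientGroup.quotientKerEquivOfSurjective φ hφ)).isSimpleGroup_congr.2 hQ.2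

end Cfsg.Agent.H2
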