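import Mathlib
import Cfsg.Prelude.Def_Local
import Cfsg.Agent.H2.PComponent2

/-!
Existence, uniqueness and normality of `p`-components (helper2).
-/

set_option autoImplicit false
open scoped commutatorElement Pointwise

namespace Cfsg.Agent.H2

/-- `x` is a `p`-element. -/
def IsPElt {Y : Type*} [Group Y] (p : ℕ) (x : Y) : Prop := ∃ k : ℕ, x ^ p ^ k = 1

theorem IsPElt.map {Y Z : Type*} [Group Y] [Group Z] {p : ℕ} {x : Y} (h : IsPElt p x) (f : Y →* Z) :
    IsPElt p (f x) := by
  obtain ⟨k, hk⟩ := h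
  exact ⟨k, by rw [← map_pow, hk, map_one]⟩

theorem IsPElt.of_map_injective {Y Z : Type*} [Group Y] [Group Z] {p : ℕ} {x : Y} (f : Y →* Z)
    (hf : Function.Injective f) (h : IsPElt p (f x)) : IsPElt p x := by
  obtain ⟨k, hk⟩ := h
  refine ⟨k, hf ?_⟩
  rw [map_pow, hk, map_one]

/-- A `p`-element lies in every normal subgroup of index prime to `p`. -/
theorem IsPElt.mem_of_normal_of_coprime_index {Y : Type*} [Group Y] [Finite Y] {p : ℕ} {x : Y}
    (h : IsPElt p x) (N : Subgroup Y) [N.Normal] (hN : (N.index).Coprime p) : x ∈ N := by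
  obtain ⟨k, hk⟩ := h
  have h1 : orderOf (QuotientGroup.mk' N x) ∣ p ^ k := by
    apply orderOf_dvd_of_pow_eq_one
    rw [← map_pow, hk, map_one]
  have h2 : orderOf (QuotientGroup.mk' N x) ∣ N.index := by
    rw [Subgroup.index_eq_card]
    exact orderOf_dvd_natCard _
  have h3 : orderOf (QuotientGroup.mk' N x) = 1 :=
    Nat.Coprime.eq_one_of_dvd (Nat.Coprime.coprime_dvd_left h2 (hN.pow_right k)) h1
  rw [orderOf_eq_one_iff] at h3
  exact (QuotientGroup.eq_one_iff x).1 h3

/-- Chain lemma: if `H` is subnormal in `Y`, `O` is a normal `p'`-subgroup and `HO = Y`, then `H`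
contains every `p`-element of `Y`. -/
theorem IsPElt.mem_of_isSubnormal_of_sup_eq_top {Y : Type*} [Group Y] [Finite Y] {p : ℕ}
    (O : Subgroup Y) [O.Normal] (hO : (Nat.card O).Coprime p) {H : Subgroup Y}
    (hH : H.IsSubnormal) (hHO : H ⊔ O = ⊤) {x : Y} (hx : IsPElt p x) : x ∈ H := by
  induction hH with
  | top => exact Subgroup.mem_top x
  | step H K hHK hK hN ih =>
    have hKO : K ⊔ O = ⊤ := by
      rw [eq_top_iff, ← hHO]; exact sup_le_sup_right hHK O
    have hxK : x ∈ K := ih hKO
    -- index of H in K divides |O|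
    have hidx : H.index ∣ Nat.card O := by
      have h1 : Nat.card (H ⊔ O : Subgroup Y) ∣ Nat.card H * Nat.card O :=
        Cfsg.Agent.H1.card_sup_dvd_of_normal H O
      rw [hHO, Subgroup.card_top, ← Subgroup.card_mul_index H] at h1
      exact Nat.dvd_of_mul_dvd_mul_left Nat.card_pos h1
    have hrel : (H.subgroupOf K).index ∣ Nat.card O := by
      have : H.relIndex K ∣ H.index := Subgroup.relIndex_dvd_index_of_le hHK
      exact this.trans hidx
    have hcop : ((H.subgroupOf K).index).Coprime p := Nat.Coprime.coprime_dvd_left hrel hO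
    have hxK' : IsPElt p (⟨x, hxK⟩ : K) :=
      IsPElt.of_map_injective K.subtype K.subtype_injective hx
    have := hxK'.mem_of_normal_of_coprime_index (H.subgroupOf K) hcop
    exact Subgroup.mem_subgroupOf.1 this

end Cfsg.Agent.H2

namespace Cfsg.Agent.H2

section

variable {X : Type*} [Group X] [Finite X] (p : ℕ) [Fact p.Prime]

/-- A normal subgroup of `p'`-index of a `p`-component `K` is `K` itself. -/
theorem pComponent_eq_top_of_normal_of_coprime_index {K : Subgroup X} (hK : Cfsg.IsPComponent p K)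
    (N : Subgroup ↥K) [N.Normal] (hidx : (N.index).Coprime p) : N = ⊤ := by
  set π := QuotientGroup.mk' (Cfsg.pPrimeCore p X) with hπ
  let f : K →* K.map π := π.subgroupMap K
  have hf : Function.Surjective f := π.subgroupMap_surjective K
  have hNfn : (N.map f).Normal := Subgroup.Normal.map inferInstance f hf
  have hqs : Cfsg.IsQuasisimple (K.map π) := hK.2.1.2
  rcases IsQuasisimple.eq_top_or_le_center hqs (N.map f) hNfn.isSubnormal with h | h
  · -- N' = K by minimality
    have hN'K : N.map K.subtype ≤ K := map_subtype_le _ _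
    have hsn : (N.map K.subtype).IsSubnormal :=
      isSubnormal_of_normal_in hK.1 hN'K (le_normalizer_map_subtype_of_normal K N)
    have himg : (N.map K.subtype).map π = K.map π := by
      apply le_antisymm (Subgroup.map_mono hN'K)
      intro x hx
      have : (⟨x, hx⟩ : K.map π) ∈ N.map f := by rw [h]; exact Subgroup.mem_top _
      obtain ⟨n, hn, hfn⟩ := Subgroup.mem_map.1 this
      refine ⟨(n : X), ⟨n, hn, rfl⟩, ?_⟩
      exact congrArg Subtype.val hfn
    have := hK.2.2 _ hsn hN'K himg
    apply Subgroup.map_injective K.subtype_injective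
    rw [this, ← MonoidHom.range_eq_map, Subgroup.range_subtype]
  · exfalso
    have h1 : (Subgroup.center (K.map π)).index ∣ (N.map f).index := Subgroup.index_dvd_of_le h
    have h2 : (N.map f).index ∣ N.index := Subgroup.index_map_dvd N hf
    have h3 : ¬ p ∣ (Subgroup.center (K.map π)).index := by
      intro hp
      exact (Nat.Prime.coprime_iff_not_dvd Fact.out).1 hidx.symm (hp.trans (h1.trans h2))
    have h4 := quasisimple_coprime_of_not_dvd_index_center (K.map π) hqs p h3
    exact component_not_coprime p (pPrimeCore_quotient_eq_bot p) hK.2.1 h4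

/-- A `p`-component is generated by its `p`-elements: any subgroup containing all `p`-elements of
`K` contains `K`. -/
theorem pComponent_le_of_forall_pElt {K : Subgroup X} (hK : Cfsg.IsPComponent p K)
    (M : Subgroup X) (h : ∀ x ∈ K, IsPElt p x → x ∈ M) : K ≤ M := by
  set N : Subgroup K := Subgroup.closure {x : K | IsPElt p x} with hN
  have hNn : N.Normal := by
    constructor
    intro n hn g
    induction hn using Subgroup.closure_induction with
    | mem x hx =>
      apply Subgroup.subset_closure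
      exact hx.map (MulAut.conj g).toMonoidHom
    | one => simp
    | mul a b _ _ ha hb =>
      have : g * (a * b) * g⁻¹ = (g * a * g⁻¹) * (g * b * g⁻¹) := by group
      rw [this]; exact Subgroup.mul_mem _ ha hb
    | inv a _ ha =>
      have : g * a⁻¹ * g⁻¹ = (g * a * g⁻¹)⁻¹ := by group
      rw [this]; exact Subgroup.inv_mem _ ha
  have hidx : (N.index).Coprime p := by
    obtain ⟨P⟩ : Nonempty (Sylow p K) := inferInstance
    have hPN : (P : Subgroup K) ≤ N := by
      intro x hx
      apply Subgroup.subset_closure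
      obtain ⟨k, hk⟩ := P.2 ⟨x, hx⟩
      exact ⟨k, by simpa using congrArg Subtype.val hk⟩
    have h1 : N.index ∣ (P : Subgroup K).index := Subgroup.index_dvd_of_le hPN
    exact Nat.Coprime.coprime_dvd_left h1
      ((Nat.Prime.coprime_iff_not_dvd Fact.out).2 P.not_dvd_index).symm
  have hNtop := pComponent_eq_top_of_normal_of_coprime_index p hK N hidx
  have h1 : N ≤ M.subgroupOf K := by
    rw [hN, Subgroup.closure_le]
    intro x hx
    exact Subgroup.mem_subgroupOf.2 (h x x.2 (hx.map K.subtype))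
  intro x hx
  have : (⟨x, hx⟩ : K) ∈ N := by rw [hNtop]; exact Subgroup.mem_top _
  exact Subgroup.mem_subgroupOf.1 (h1 this)

/-- If the image of a `p`-component `K` in `X / O_{p'}(X)` lies in the image of a subnormal
subgroup `H`, then `K ≤ H`. -/
theorem pComponent_le_of_map_le {K : Subgroup X} (hK : Cfsg.IsPComponent p K) {H : Subgroup X}
    (hH : H.IsSubnormal)
    (hle : K.map (QuotientGroup.mk' (Cfsg.pPrimeCore p X)) ≤
      H.map (QuotientGroup.mk' (Cfsg.pPrimeCore p X))) : K ≤ H := by
  have hKY : K ≤ H ⊔ Cfsg.pPrimeCore p X := by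
    have := Subgroup.comap_mono (f := QuotientGroup.mk' (Cfsg.pPrimeCore p X)) hle
    rw [Subgroup.comap_map_eq, Subgroup.comap_map_eq, QuotientGroup.ker_mk'] at this
    exact le_sup_left.trans this
  apply pComponent_le_of_forall_pElt p hK
  intro x hxK hx
  -- work in Y = H ⊔ O
  have hOn : ((Cfsg.pPrimeCore p X).subgroupOf (H ⊔ Cfsg.pPrimeCore p X)).Normal := inferInstance
  have hOc : (Nat.card ((Cfsg.pPrimeCore p X).subgroupOf (H ⊔ Cfsg.pPrimeCore p X))).Coprime p := by
    rw [Nat.card_congr (Subgroup.subgroupOfEquivOfLe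
      (le_sup_right : Cfsg.pPrimeCore p X ≤ H ⊔ Cfsg.pPrimeCore p X)).toEquiv]
    exact Cfsg.Agent.H1.pPrimeCore_coprime p
  have hsup : H.subgroupOf (H ⊔ Cfsg.pPrimeCore p X) ⊔
      (Cfsg.pPrimeCore p X).subgroupOf (H ⊔ Cfsg.pPrimeCore p X) = ⊤ := by
    exact codisjoint_iff.1 (Subgroup.codisjoint_subgroupOf_sup _ _)
  have hx' : IsPElt p (⟨x, hKY hxK⟩ : (H ⊔ Cfsg.pPrimeCore p X : Subgroup X)) :=
    IsPElt.of_map_injective (Subgroup.subtype _) (Subgroup.subtype_injective _) hx
  have := hx'.mem_of_isSubnormal_of_sup_eq_top _ hOc hH.subgroupOf hsup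
  exact Subgroup.mem_subgroupOf.1 this

end

end Cfsg.Agent.H2

namespace Cfsg.Agent.H2

section

variable {X : Type*} [Group X] [Finite X] (p : ℕ) [Fact p.Prime]

/-- A subnormal subgroup `H` contains every `p`-element of `H O_{p'}(X)`. -/
theorem mem_of_isPElt_of_mem_sup {H : Subgroup X} (hH : H.IsSubnormal) {y : X}
    (hy : y ∈ H ⊔ Cfsg.pPrimeCore p X) (hyp : IsPElt p y) : y ∈ H := by
  have hOc : (Nat.card ((Cfsg.pPrimeCore p X).subgroupOf (H ⊔ Cfsg.pPrimeCore p X))).Coprime p := by
    rw [Nat.card_congr (Subgroup.subgroupOfEquivOfLe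
      (le_sup_right : Cfsg.pPrimeCore p X ≤ H ⊔ Cfsg.pPrimeCore p X)).toEquiv]
    exact Cfsg.Agent.H1.pPrimeCore_coprime p
  have hsup : H.subgroupOf (H ⊔ Cfsg.pPrimeCore p X) ⊔
      (Cfsg.pPrimeCore p X).subgroupOf (H ⊔ Cfsg.pPrimeCore p X) = ⊤ :=
    codisjoint_iff.1 (Subgroup.codisjoint_subgroupOf_sup _ _)
  have hy' : IsPElt p (⟨y, hy⟩ : (H ⊔ Cfsg.pPrimeCore p X : Subgroup X)) :=
    IsPElt.of_map_injective (Subgroup.subtype _) (Subgroup.subtype_injective _) hyp
  have := hy'.mem_of_isSubnormal_of_sup_eq_top _ hOc hH.subgroupOf hsup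
  exact Subgroup.mem_subgroupOf.1 this

/-- A `p`-component `K` and a subnormal subgroup `H`: `K ≤ H` or `⁅K, H⁆ ≤ O_{p'}(X)`. -/
theorem pComponent_le_or_commutator_le {K : Subgroup X} (hK : Cfsg.IsPComponent p K)
    {H : Subgroup X} (hH : H.IsSubnormal) : K ≤ H ∨ ⁅K, H⁆ ≤ Cfsg.pPrimeCore p X := by
  rcases component_le_or_commutator_eq_bot _ (H.map (QuotientGroup.mk' (Cfsg.pPrimeCore p X)))
    hK.2.1 (hH.map (QuotientGroup.mk'_surjective _)) with h | h
  · left; exact pComponent_le_of_map_le p hK hH h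
  · right
    rw [← Subgroup.map_commutator, Subgroup.map_eq_bot_iff, QuotientGroup.ker_mk'] at h
    exact h

/-- A `p`-component is determined by its image in `X / O_{p'}(X)`. -/
theorem pComponent_unique {K₁ K₂ : Subgroup X} (h₁ : Cfsg.IsPComponent p K₁)
    (h₂ : Cfsg.IsPComponent p K₂)
    (h : K₁.map (QuotientGroup.mk' (Cfsg.pPrimeCore p X)) =
      K₂.map (QuotientGroup.mk' (Cfsg.pPrimeCore p X))) : K₁ = K₂ :=
  h₂.2.2 K₁ h₁.1 (pComponent_le_of_map_le p h₁ h₂.1 h.le) h

/-- Above every component of `X / O_{p'}(X)` there is a `p`-component. -/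
theorem exists_pComponent_map_eq (Kbar : Subgroup (X ⧸ Cfsg.pPrimeCore p X))
    (hKbar : Cfsg.IsComponent Kbar) :
    ∃ K : Subgroup X, Cfsg.IsPComponent p K ∧
      K.map (QuotientGroup.mk' (Cfsg.pPrimeCore p X)) = Kbar := by
  let S : Set (Subgroup X) :=
    {H | H.IsSubnormal ∧ H.map (QuotientGroup.mk' (Cfsg.pPrimeCore p X)) = Kbar}
  have hne : S.Nonempty :=
    ⟨Kbar.comap (QuotientGroup.mk' (Cfsg.pPrimeCore p X)), hKbar.1.comap _,
      Subgroup.map_comap_eq_self_of_surjective (QuotientGroup.mk'_surjective _) _⟩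
  obtain ⟨K, ⟨hKsn, hKmap⟩, hKmin⟩ := WellFounded.has_min wellFounded_lt S hne
  refine ⟨K, ⟨hKsn, hKmap ▸ hKbar, ?_⟩, hKmap⟩
  intro H hH hHK hmap
  by_contra hne
  exact hKmin H ⟨hH, hmap.trans hKmap⟩ (lt_of_le_of_ne hHK hne)

/-- Two `p`-components normalize each other. -/
theorem pComponent_le_normalizer {K J : Subgroup X} (hK : Cfsg.IsPComponent p K)
    (hJ : Cfsg.IsPComponent p J) : J ≤ Subgroup.normalizer (K : Set X) := by
  rcases pComponent_le_or_commutator_le p hK hJ.1 with h | h
  · -- then K = J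
    have hle : K.map (QuotientGroup.mk' (Cfsg.pPrimeCore p X)) ≤
        J.map (QuotientGroup.mk' (Cfsg.pPrimeCore p X)) := Subgroup.map_mono h
    rcases IsQuasisimple.eq_top_or_le_center hJ.2.1.2
      ((K.map (QuotientGroup.mk' (Cfsg.pPrimeCore p X))).subgroupOf
        (J.map (QuotientGroup.mk' (Cfsg.pPrimeCore p X)))) hK.2.1.1.subgroupOf with h1 | h1
    · rw [Subgroup.subgroupOf_eq_top] at h1
      have := pComponent_unique p hK hJ (le_antisymm hle h1)
      rw [this]; exact Subgroup.le_normalizer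
    · exfalso
      -- K̄ is abelian
      have hab : ⁅K.map (QuotientGroup.mk' (Cfsg.pPrimeCore p X)),
          K.map (QuotientGroup.mk' (Cfsg.pPrimeCore p X))⁆ = ⊥ := by
        rw [commutator_eq_bot_iff_forall_commute]
        intro a ha b hb
        have := Subgroup.mem_center_iff.1 (h1 (show (⟨a, hle ha⟩ :
          J.map (QuotientGroup.mk' (Cfsg.pPrimeCore p X))) ∈ _ from
          Subgroup.mem_subgroupOf.2 ha)) ⟨b, hle hb⟩
        exact (congrArg Subtype.val this).symm
      rw [quasisimple_commutator_eq hK.2.1.2] at hab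
      exact quasisimple_ne_bot hK.2.1.2 hab
  · -- [K,J] ≤ O
    intro j hj
    rw [← map_conj_eq_self_iff_mem_normalizer]
    apply map_conj_eq_of_le
    rw [Subgroup.map_le_iff_le_comap]
    apply pComponent_le_of_forall_pElt p hK
    intro x hxK hx
    rw [Subgroup.mem_comap]
    show j * x * j⁻¹ ∈ K
    apply mem_of_isPElt_of_mem_sup p hK.1
    · have h1 : ⁅j, x⁆ ∈ Cfsg.pPrimeCore p X := by
        apply h
        rw [Subgroup.commutator_comm]
        exact Subgroup.commutator_mem_commutator hj hxK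
      have : j * x * j⁻¹ = x * (x⁻¹ * ⁅j, x⁆ * x) := by
        rw [commutatorElement_def]; group
      rw [this]
      exact Subgroup.mul_mem _ (Subgroup.mem_sup_left hxK)
        (Subgroup.mem_sup_right ((inferInstance : (Cfsg.pPrimeCore p X).Normal).conj_mem' _ h1 x))
    · exact hx.map (MulAut.conj j).toMonoidHom

/-- Every `p`-component is normal in the `p`-layer. -/
theorem pLayer_le_normalizer {K : Subgroup X} (hK : Cfsg.IsPComponent p K) :
    Cfsg.pLayer p X ≤ Subgroup.normalizer (K : Set X) :=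
  sSup_le (fun _ hJ => pComponent_le_normalizer p hK hJ)

theorem pComponent_le_pLayer {K : Subgroup X} (hK : Cfsg.IsPComponent p K) :
    K ≤ Cfsg.pLayer p X := le_sSup hK

end

end Cfsg.Agent.H2
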