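import Mathlib
import Cfsg.Prelude.Def_Local
import Cfsg.Agent.H2.Equivariant
import Cfsg.Agent.H2.PComponent3
import Cfsg.Agent.H1.Cores

/-!
Isomorphism invariance of `p`-components, the `p`-layer, `O_{p',p}` and of the "relative" cores
`O_{p'}(H)` for subgroups `H` (helper2).
-/

set_option autoImplicit false

namespace Cfsg.Agent.H2

section

variable {A B : Type*} [Group A] [Group B]

theorem map_symm_map_equiv (e : A ≃* B) (H : Subgroup B) :
    (H.map e.symm.toMonoidHom).map e.toMonoidHom = H := by
  rw [Subgroup.map_map]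
  have : e.toMonoidHom.comp e.symm.toMonoidHom = MonoidHom.id B := by
    ext x; simp
  rw [this, Subgroup.map_id]

theorem map_equiv_map_symm (e : A ≃* B) (H : Subgroup A) :
    (H.map e.toMonoidHom).map e.symm.toMonoidHom = H := by
  rw [Subgroup.map_map]
  have : e.symm.toMonoidHom.comp e.toMonoidHom = MonoidHom.id A := by
    ext x; simp
  rw [this, Subgroup.map_id]

variable [Finite A] [Finite B]

/-- The isomorphism `A / O_{p'}(A) ≃ B / O_{p'}(B)` induced by an isomorphism `A ≃ B`. -/
noncomputable def quotientPPrimeCoreEquiv (p : ℕ) (e : A ≃* B) :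
    A ⧸ Cfsg.pPrimeCore p A ≃* B ⧸ Cfsg.pPrimeCore p B :=
  QuotientGroup.congr (Cfsg.pPrimeCore p A) (Cfsg.pPrimeCore p B) e (pPrimeCore_map_equiv p e)

theorem quotientPPrimeCoreEquiv_mk (p : ℕ) (e : A ≃* B) (a : A) :
    quotientPPrimeCoreEquiv p e (QuotientGroup.mk' (Cfsg.pPrimeCore p A) a) =
      QuotientGroup.mk' (Cfsg.pPrimeCore p B) (e a) := rfl

theorem map_mk'_map_equiv (p : ℕ) (e : A ≃* B) (K : Subgroup A) :
    (K.map e.toMonoidHom).map (QuotientGroup.mk' (Cfsg.pPrimeCore p B)) =
      (K.map (QuotientGroup.mk' (Cfsg.pPrimeCore p A))).map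
        (quotientPPrimeCoreEquiv p e).toMonoidHom := by
  rw [Subgroup.map_map, Subgroup.map_map]
  congr 1

/-- `p`-components are preserved by isomorphisms. -/
theorem isPComponent_map_equiv (p : ℕ) (e : A ≃* B) {K : Subgroup A}
    (hK : Cfsg.IsPComponent p K) : Cfsg.IsPComponent p (K.map e.toMonoidHom) := by
  refine ⟨hK.1.map e.surjective, ?_, ?_⟩
  · rw [map_mk'_map_equiv]
    exact component_map_equiv _ hK.2.1
  · intro H hH hHK hmap
    have h1 : H.map e.symm.toMonoidHom ≤ K := by
      have := Subgroup.map_mono (f := e.symm.toMonoidHom) hHK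
      rwa [map_equiv_map_symm] at this
    have h2 : (H.map e.symm.toMonoidHom).map (QuotientGroup.mk' (Cfsg.pPrimeCore p A)) =
        K.map (QuotientGroup.mk' (Cfsg.pPrimeCore p A)) := by
      have h3 : ((H.map e.symm.toMonoidHom).map e.toMonoidHom).map
          (QuotientGroup.mk' (Cfsg.pPrimeCore p B)) =
          (K.map e.toMonoidHom).map (QuotientGroup.mk' (Cfsg.pPrimeCore p B)) := by
        rw [map_symm_map_equiv]; exact hmap
      rw [map_mk'_map_equiv p e (H.map e.symm.toMonoidHom), map_mk'_map_equiv p e K] at h3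
      exact Subgroup.map_injective (quotientPPrimeCoreEquiv p e).injective h3
    have h4 := hK.2.2 _ (hH.map e.symm.surjective) h1 h2
    rw [← h4, map_symm_map_equiv]

theorem pLayer_map_equiv (p : ℕ) (e : A ≃* B) :
    (Cfsg.pLayer p A).map e.toMonoidHom = Cfsg.pLayer p B :=
  map_sSup_eq_of_forall e _ _ (fun _ hN => isPComponent_map_equiv p e hN)
    (fun _ hN => isPComponent_map_equiv p e.symm hN)

end

section

variable {X : Type*} [Group X]

/-- a subgroup fixed by all inner automorphisms is normal -/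
theorem normal_of_forall_map_conj_le (N : Subgroup X)
    (h : ∀ g : X, N.map (MulAut.conj g).toMonoidHom ≤ N) : N.Normal := by
  constructor
  intro n hn g
  exact h g ⟨n, hn, rfl⟩

variable [Finite X]

theorem pLayer_normal (p : ℕ) : (Cfsg.pLayer p X).Normal :=
  normal_of_forall_map_conj_le _ (fun g => (pLayer_map_equiv p (MulAut.conj g)).le)

instance pPrimePCore_normal (p : ℕ) : (Cfsg.pPrimePCore p X).Normal := by
  unfold Cfsg.pPrimePCore
  infer_instance

end

section Relative

variable {X Y : Type*} [Group X] [Group Y]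

theorem pPrimeCore_subgroup_map_equiv_aux (p : ℕ) (e : X ≃* Y) (H : Subgroup X) :
    ((Cfsg.pPrimeCore p H).map H.subtype).map (e : X →* Y) =
      (Cfsg.pPrimeCore p (H.map (e : X →* Y))).map (H.map (e : X →* Y)).subtype := by
  rw [← pPrimeCore_map_equiv p (e.subgroupMap H), Subgroup.map_map, Subgroup.map_map]
  rfl

/-- `O_{p'}(H)`, viewed in the ambient group, is carried by an isomorphism `e` to
`O_{p'}(e(H))`. -/
theorem pPrimeCore_subgroup_map_equiv (p : ℕ) (e : X ≃* Y) (H : Subgroup X) :
    ((Cfsg.pPrimeCore p H).map H.subtype).map e.toMonoidHom =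
      (Cfsg.pPrimeCore p (H.map e.toMonoidHom)).map (H.map e.toMonoidHom).subtype :=
  pPrimeCore_subgroup_map_equiv_aux p e H

theorem centralizer_map_equiv (e : X ≃* Y) (H : Subgroup X) :
    (Subgroup.centralizer (H : Set X)).map e.toMonoidHom =
      Subgroup.centralizer ((H.map e.toMonoidHom : Subgroup Y) : Set Y) := by
  ext y
  constructor
  · rintro ⟨x, hx, rfl⟩
    rw [Subgroup.mem_centralizer_iff]
    rintro _ ⟨h, hh, rfl⟩
    have := Subgroup.mem_centralizer_iff.1 hx h hh
    show e h * e x = e x * e h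
    rw [← e.map_mul, ← e.map_mul, this]
  · intro hy
    refine ⟨e.symm y, ?_, by simp⟩
    show e.symm y ∈ Subgroup.centralizer (H : Set X)
    rw [Subgroup.mem_centralizer_iff]
    intro h hh
    have := Subgroup.mem_centralizer_iff.1 hy (e h) ⟨h, hh, rfl⟩
    apply e.injective
    rw [e.map_mul, e.map_mul, e.apply_symm_apply]
    exact this

end Relative

end Cfsg.Agent.H2
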