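import Mathlib
import Cfsg.Prelude.Def_Solvable
import Cfsg.Agent.H1.Cores
import Cfsg.Agent.Lib.helper3.Berger1

/-!
# Chief factors above a normal subgroup with solvable quotient (helper2)
-/

set_option autoImplicit false
set_option linter.unusedSectionVars false
set_option linter.style.haveILetI false
set_option linter.deprecated false

namespace Cfsg.Agent.H2.BG

open Cfsg.Agent.H1

variable {G : Type*} [Group G] [Finite G]

/-- a minimal normal subgroup -/
theorem exists_minimal_normal [Nontrivial G] :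
    ∃ N : Subgroup G, N.Normal ∧ N ≠ ⊥ ∧
      ∀ K : Subgroup G, K.Normal → K ≤ N → K = ⊥ ∨ K = N := by
  classical
  have hex : ∃ n : ℕ, ∃ N : Subgroup G, N.Normal ∧ N ≠ ⊥ ∧ Nat.card N = n :=
    ⟨_, ⊤, inferInstance, top_ne_bot, rfl⟩
  obtain ⟨N, hNn, hNb, hNc⟩ := Nat.find_spec hex
  refine ⟨N, hNn, hNb, ?_⟩
  intro K hK hKN
  by_contra hcon
  push Not at hcon
  have hlt : Nat.card K < Nat.find hex := by
    rw [← hNc]
    by_contra hge
    push Not at hge
    exact hcon.2 (Subgroup.eq_of_le_of_card_ge hKN hge)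
  exact Nat.find_min hex hlt ⟨K, hK, hcon.1, rfl⟩

/-- a chief factor `F₁/F` of prime power order above `F` when `G/F` is solvable and nontrivial -/
theorem exists_chief_factor (F : Subgroup G) [hFn : F.Normal] (hsolv : Group.IsSolvable (G ⧸ F))
    (hne : F ≠ ⊤) :
    ∃ (q a : ℕ) (F₁ : Subgroup G), q.Prime ∧ F₁.Normal ∧ F < F₁ ∧ F.relIndex F₁ = q ^ a ∧
      ∀ B : Subgroup G, B.Normal → F ≤ B → B ≤ F₁ → B = F ∨ B = F₁ := by
  have hnt : Nontrivial (G ⧸ F) := by
    rw [← not_subsingleton_iff_nontrivial]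
    intro hs
    apply hne
    rw [eq_top_iff]
    intro g _
    rw [← QuotientGroup.eq_one_iff]
    exact Subsingleton.elim _ _
  obtain ⟨M, hMn, hMb, hMmin⟩ := exists_minimal_normal (G := G ⧸ F)
  obtain ⟨-, q, a, hq, hcard⟩ :=
    Cfsg.Agent.Lib.helper3.Berger.minimal_normal_solvable M hMb hMmin
  have hsurj : Function.Surjective (QuotientGroup.mk' F) := QuotientGroup.mk'_surjective F
  have hker : (QuotientGroup.mk' F).ker = F := QuotientGroup.ker_mk' F
  have hFle : F ≤ M.comap (QuotientGroup.mk' F) := by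
    intro x hx
    rw [Subgroup.mem_comap, QuotientGroup.mk'_apply, (QuotientGroup.eq_one_iff x).mpr hx]
    exact M.one_mem
  have hmapcomap : (M.comap (QuotientGroup.mk' F)).map (QuotientGroup.mk' F) = M :=
    Subgroup.map_comap_eq_self_of_surjective hsurj M
  refine ⟨q, a, M.comap (QuotientGroup.mk' F), hq, hMn.comap _, ?_, ?_, ?_⟩
  · refine lt_of_le_of_ne hFle ?_
    intro heq
    apply hMb
    rw [← hmapcomap, ← heq, eq_bot_iff]
    rintro _ ⟨x, hx, rfl⟩
    rw [Subgroup.mem_bot, QuotientGroup.mk'_apply, QuotientGroup.eq_one_iff]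
    exact hx
  · have h1 := Subgroup.relIndex_comap (⊥ : Subgroup (G ⧸ F)) (QuotientGroup.mk' F)
      (M.comap (QuotientGroup.mk' F))
    rw [hmapcomap, Subgroup.relIndex_bot_left, hcard] at h1
    rw [← h1, MonoidHom.comap_bot, hker]
  · intro B hB hFB hBle
    have hBn : (B.map (QuotientGroup.mk' F)).Normal := hB.map _ hsurj
    have hBM : B.map (QuotientGroup.mk' F) ≤ M := Subgroup.map_le_iff_le_comap.mpr hBle
    have hcm : (B.map (QuotientGroup.mk' F)).comap (QuotientGroup.mk' F) = B := by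
      rw [Subgroup.comap_map_eq, hker]
      exact sup_eq_left.mpr hFB
    rcases hMmin _ hBn hBM with h0 | h0
    · left
      apply le_antisymm _ hFB
      rw [← hcm, h0]
      intro x hx
      rw [Subgroup.mem_comap, Subgroup.mem_bot, QuotientGroup.mk'_apply,
        QuotientGroup.eq_one_iff] at hx
      exact hx
    · right
      rw [← hcm, h0]

/-- `O_q(G)` has index prime to `q` in the Fitting subgroup -/
theorem not_dvd_relIndex_pCore_fitting {q : ℕ} [hq : Fact q.Prime] :
    ¬ q ∣ (Cfsg.pCore q G).relIndex (Cfsg.fittingSubgroup G) := by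
  have hle : Cfsg.fittingSubgroup G ≤ Cfsg.pCore q G ⊔ Cfsg.pPrimeCore q G := by
    rw [fittingSubgroup_eq_iSup_pCore]
    apply iSup_le
    intro r
    by_cases hr : (r : ℕ) = q
    · rw [hr]; exact le_sup_left
    · exact le_trans (le_pPrimeCore inferInstance (pCore_coprime_of_ne hq.out r.2 hr)) le_sup_right
  have hYK : Cfsg.pCore q G ≤ Cfsg.fittingSubgroup G :=
    le_fittingSubgroup inferInstance (pCore_isPGroup (G := G) q).isNilpotent
  have h1 : (Cfsg.pCore q G).relIndex (Cfsg.fittingSubgroup G) ∣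
      (Cfsg.pCore q G).relIndex (Cfsg.pCore q G ⊔ Cfsg.pPrimeCore q G) :=
    Dvd.intro _ (Subgroup.relIndex_mul_relIndex _ _ _ hYK hle)
  have h2 : (Cfsg.pCore q G).relIndex (Cfsg.pCore q G ⊔ Cfsg.pPrimeCore q G) =
      (Cfsg.pCore q G).relIndex (Cfsg.pPrimeCore q G) := Subgroup.relIndex_sup_left _ _
  have h3 : (Cfsg.pCore q G).relIndex (Cfsg.pPrimeCore q G) ∣ Nat.card (Cfsg.pPrimeCore q G) :=
    Subgroup.relIndex_dvd_card _ _
  intro hp
  have : q ∣ Nat.card (Cfsg.pPrimeCore q G) := (hp.trans h1).trans (h2 ▸ h3)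
  exact (Nat.Prime.coprime_iff_not_dvd hq.out).mp (pPrimeCore_coprime (G := G) q).symm this

end Cfsg.Agent.H2.BG
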