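import Mathlib

/-!
Orbit–stabilizer for conjugation by a subgroup, in elementary form (helper2).
-/

set_option autoImplicit false

namespace Cfsg.Agent.H2

variable {G : Type*} [Group G]

/-- the set of conjugates of `g` by elements of the subgroup `D` -/
def conjOrbit (D : Subgroup G) (g : G) : Set G := {y | ∃ x ∈ D, y = x * g * x⁻¹}

theorem mem_conjOrbit (D : Subgroup G) (g y : G) :
    y ∈ conjOrbit D g ↔ ∃ x ∈ D, y = x * g * x⁻¹ := Iff.rfl

theorem self_mem_conjOrbit (D : Subgroup G) (g : G) : g ∈ conjOrbit D g :=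
  ⟨1, D.one_mem, by simp⟩

/-- orbit–stabilizer: `|D| = |g^D| · |C_D(g)|` -/
theorem card_eq_card_conjOrbit_mul (D : Subgroup G) (g : G) :
    Nat.card D = Nat.card (conjOrbit D g) *
      Nat.card (D ⊓ Subgroup.centralizer ({g} : Set G) : Subgroup G) := by
  have h1 := Subgroup.card_eq_card_quotient_mul_card_subgroup
    ((Subgroup.centralizer ({g} : Set G)).subgroupOf D)
  rw [h1]
  congr 1
  · apply Nat.card_congr
    refine Equiv.ofBijective (Quotient.lift (fun x : D =>
      (⟨(x : G) * g * (x : G)⁻¹, x, x.2, rfl⟩ : conjOrbit D g)) ?_) ⟨?_, ?_⟩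
    · intro a b hab
      have hab' : a⁻¹ * b ∈ (Subgroup.centralizer ({g} : Set G)).subgroupOf D :=
        QuotientGroup.leftRel_apply.1 hab
      rw [Subgroup.mem_subgroupOf, Subgroup.mem_centralizer_iff] at hab'
      have h2 := hab' g (Set.mem_singleton g)
      apply Subtype.ext
      show (a : G) * g * (a : G)⁻¹ = (b : G) * g * (b : G)⁻¹
      have h3 : g * ((a : G)⁻¹ * (b : G)) = ((a : G)⁻¹ * (b : G)) * g := by simpa using h2
      calc (a : G) * g * (a : G)⁻¹ = (a : G) * (g * ((a : G)⁻¹ * (b : G))) * (b : G)⁻¹ := by group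
        _ = (a : G) * (((a : G)⁻¹ * (b : G)) * g) * (b : G)⁻¹ := by rw [h3]
        _ = _ := by group
    · intro qa qb
      induction qa using Quotient.inductionOn with | _ a => ?_
      induction qb using Quotient.inductionOn with | _ b => ?_
      intro h
      apply Quotient.sound
      apply QuotientGroup.leftRel_apply.2
      rw [Subgroup.mem_subgroupOf, Subgroup.mem_centralizer_iff]
      intro y hy
      rw [Set.mem_singleton_iff] at hy
      subst hy
      have h2 : (a : G) * y * (a : G)⁻¹ = (b : G) * y * (b : G)⁻¹ := congrArg Subtype.val h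
      show y * ((a : G)⁻¹ * (b : G)) = ((a : G)⁻¹ * (b : G)) * y
      calc y * ((a : G)⁻¹ * (b : G)) = (a : G)⁻¹ * ((a : G) * y * (a : G)⁻¹) * (b : G) := by group
        _ = (a : G)⁻¹ * ((b : G) * y * (b : G)⁻¹) * (b : G) := by rw [h2]
        _ = _ := by group
    · rintro ⟨_, x, hx, rfl⟩
      exact ⟨Quotient.mk'' ⟨x, hx⟩, rfl⟩
  · rw [inf_comm]
    have : (Subgroup.centralizer ({g} : Set G)).subgroupOf D =
        (Subgroup.centralizer ({g} : Set G) ⊓ D).subgroupOf D := by simp
    rw [this]
    exact Nat.card_congr (Subgroup.subgroupOfEquivOfLe inf_le_right).toEquiv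

theorem card_conjOrbit [Finite G] (D : Subgroup G) (g : G) :
    Nat.card (conjOrbit D g) =
      Nat.card D / Nat.card (D ⊓ Subgroup.centralizer ({g} : Set G) : Subgroup G) := by
  rw [card_eq_card_conjOrbit_mul D g]
  exact (Nat.mul_div_cancel _ Nat.card_pos).symm

end Cfsg.Agent.H2
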