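import Mathlib
import Cfsg.Agent.H2.ConjOrbit

/-!
# Products of conjugacy classes of coprime sizes (helper2)

Basic lemmas behind the Bertram–Herzog–Mann analysis of the class-size graphs.
-/

set_option autoImplicit false

namespace Cfsg.Agent.H2.ClassProd

variable {G : Type*} [Group G]

/-- class size, as the index of the centralizer -/
noncomputable abbrev cs (x : G) : ℕ := (Subgroup.centralizer ({x} : Set G)).index

/-- the conjugacy class as a set -/
def cl (x : G) : Set G := {y | ∃ g : G, y = g * x * g⁻¹}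

theorem mem_cl (x y : G) : y ∈ cl x ↔ ∃ g : G, y = g * x * g⁻¹ := Iff.rfl

theorem self_mem_cl (x : G) : x ∈ cl x := ⟨1, by simp⟩

theorem conj_mem_cl (x g : G) : g * x * g⁻¹ ∈ cl x := ⟨g, rfl⟩

theorem cl_conj (x g : G) : cl (g * x * g⁻¹) = cl x := by
  ext y
  constructor
  · rintro ⟨h, rfl⟩
    exact ⟨h * g, by group⟩
  · rintro ⟨h, rfl⟩
    exact ⟨h * g⁻¹, by group⟩

theorem cl_eq_of_mem {x y : G} (h : y ∈ cl x) : cl y = cl x := by
  obtain ⟨g, rfl⟩ := h
  exact cl_conj x g

theorem mem_centralizer_singleton (x g : G) :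
    g ∈ Subgroup.centralizer ({x} : Set G) ↔ g * x = x * g := by
  rw [Subgroup.mem_centralizer_iff]
  constructor
  · intro h; exact (h x rfl).symm
  · intro h y hy
    rw [Set.mem_singleton_iff] at hy
    subst hy
    exact h.symm

theorem card_cl [Finite G] (x : G) : Nat.card (cl x) = cs x := by
  have h1 := Cfsg.Agent.H2.card_eq_card_conjOrbit_mul (⊤ : Subgroup G) x
  have h2 : Cfsg.Agent.H2.conjOrbit (⊤ : Subgroup G) x = cl x := by
    ext y
    constructor
    · rintro ⟨g, -, rfl⟩; exact ⟨g, rfl⟩
    · rintro ⟨g, rfl⟩; exact ⟨g, Subgroup.mem_top g, rfl⟩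
  rw [h2, top_inf_eq, Subgroup.card_top] at h1
  have h3 := (Subgroup.centralizer ({x} : Set G)).card_mul_index
  have hpos : 0 < Nat.card (Subgroup.centralizer ({x} : Set G)) := Nat.card_pos
  have : Nat.card (cl x) * Nat.card (Subgroup.centralizer ({x} : Set G)) =
      cs x * Nat.card (Subgroup.centralizer ({x} : Set G)) := by
    rw [← h1, ← h3, mul_comm]
  exact Nat.eq_of_mul_eq_mul_right hpos this

theorem cs_pos [Finite G] (x : G) : 0 < cs x :=
  Nat.pos_of_ne_zero Subgroup.index_ne_zero_of_finite

theorem cs_conj [Finite G] (x g : G) : cs (g * x * g⁻¹) = cs x := by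
  rw [← card_cl, ← card_cl, cl_conj]

theorem centralizer_inv (x : G) :
    Subgroup.centralizer ({x⁻¹} : Set G) = Subgroup.centralizer ({x} : Set G) := by
  ext g
  rw [mem_centralizer_singleton, mem_centralizer_singleton]
  constructor
  · intro h
    calc g * x = x * (x⁻¹ * g) * x := by group
      _ = x * (g * x⁻¹) * x := by rw [h]
      _ = x * g := by group
  · intro h
    calc g * x⁻¹ = x⁻¹ * (x * g) * x⁻¹ := by group
      _ = x⁻¹ * (g * x) * x⁻¹ := by rw [h]
      _ = x⁻¹ * g := by group

theorem cs_inv (x : G) : cs x⁻¹ = cs x := by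
  unfold cs; rw [centralizer_inv]

theorem centralizer_mul_central (x z : G) (hz : z ∈ Subgroup.center G) :
    Subgroup.centralizer ({x * z} : Set G) = Subgroup.centralizer ({x} : Set G) := by
  ext g
  rw [mem_centralizer_singleton, mem_centralizer_singleton]
  have hz' := Subgroup.mem_center_iff.1 hz
  constructor
  · intro h
    have h1 : g * x * z = x * g * z := by
      calc g * x * z = g * (x * z) := by group
        _ = x * z * g := h
        _ = x * (z * g) := by group
        _ = x * (g * z) := by rw [(hz' g).symm]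
        _ = x * g * z := by group
    exact mul_right_cancel h1
  · intro h
    calc g * (x * z) = (g * x) * z := by group
      _ = (x * g) * z := by rw [h]
      _ = x * (g * z) := by group
      _ = x * (z * g) := by rw [hz' g]
      _ = x * z * g := by group

theorem cs_mul_central (x z : G) (hz : z ∈ Subgroup.center G) : cs (x * z) = cs x := by
  unfold cs; rw [centralizer_mul_central x z hz]

theorem cs_eq_one_iff (x : G) : cs x = 1 ↔ x ∈ Subgroup.center G := by
  unfold cs
  rw [Subgroup.index_eq_one, Subgroup.mem_center_iff]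
  constructor
  · intro h g
    have : g ∈ Subgroup.centralizer ({x} : Set G) := by rw [h]; exact Subgroup.mem_top g
    exact (mem_centralizer_singleton x g).1 this
  · intro h
    rw [eq_top_iff]
    intro g _
    exact (mem_centralizer_singleton x g).2 (h g)

/-- two subgroups of coprime index factorize the group -/
theorem exists_mul_of_coprime_index [Finite G] (A B : Subgroup G) (h : A.index.Coprime B.index)
    (g : G) : ∃ a ∈ A, ∃ b ∈ B, g = a * b := by
  have h1 : (A ⊓ B).index = A.index * B.index := by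
    apply Nat.le_antisymm Subgroup.index_inf_le
    apply Nat.le_of_dvd (Nat.pos_of_ne_zero Subgroup.index_ne_zero_of_finite)
    exact Nat.Coprime.mul_dvd_of_dvd_of_dvd h (Subgroup.index_dvd_of_le inf_le_left)
      (Subgroup.index_dvd_of_le inf_le_right)
  have h2 : B.relIndex A = B.index := by
    have h3 := Subgroup.relIndex_mul_index (inf_le_left : A ⊓ B ≤ A)
    rw [Subgroup.inf_relIndex_left, h1, mul_comm] at h3
    exact Nat.eq_of_mul_eq_mul_left (Nat.pos_of_ne_zero Subgroup.index_ne_zero_of_finite) h3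
  -- the orbit of the base coset under `A`
  have h4 : (MulAction.orbit A ((1 : G) : G ⧸ B)).ncard = Nat.card (G ⧸ B) := by
    rw [← MulAction.index_stabilizer]
    have h5 : MulAction.stabilizer A ((1 : G) : G ⧸ B) = B.subgroupOf A := by
      ext a
      rw [MulAction.mem_stabilizer_iff, Subgroup.mem_subgroupOf]
      have : a • ((1 : G) : G ⧸ B) = (((a : G) * 1 : G) : G ⧸ B) := rfl
      rw [this, mul_one, QuotientGroup.eq]
      constructor
      · intro h6
        have := B.inv_mem h6
        simpa using this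
      · intro h6
        have := B.inv_mem h6
        simpa using this
    rw [h5]
    exact h2
  have h6 : MulAction.orbit A ((1 : G) : G ⧸ B) = Set.univ := by
    apply Set.eq_of_subset_of_ncard_le (Set.subset_univ _) _ Set.finite_univ
    rw [h4, Set.ncard_univ]
  have h7 : ((g : G) : G ⧸ B) ∈ MulAction.orbit A ((1 : G) : G ⧸ B) := by
    rw [h6]; exact Set.mem_univ _
  obtain ⟨a, ha⟩ := h7
  change a • ((1 : G) : G ⧸ B) = _ at ha
  have h8 : a • ((1 : G) : G ⧸ B) = (((a : G) * 1 : G) : G ⧸ B) := rfl
  rw [h8, mul_one, QuotientGroup.eq] at ha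
  exact ⟨a, a.2, (a : G)⁻¹ * g, ha, by group⟩

theorem index_inf_of_coprime [Finite G] (A B : Subgroup G) (h : A.index.Coprime B.index) :
    (A ⊓ B).index = A.index * B.index := by
  apply Nat.le_antisymm Subgroup.index_inf_le
  apply Nat.le_of_dvd (Nat.pos_of_ne_zero Subgroup.index_ne_zero_of_finite)
  exact Nat.Coprime.mul_dvd_of_dvd_of_dvd h (Subgroup.index_dvd_of_le inf_le_left)
    (Subgroup.index_dvd_of_le inf_le_right)

/-- **L1**: for coprime class sizes, the conjugates of `a` are its conjugates under `C(b)` -/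
theorem conj_eq_conj_of_coprime [Finite G] (a b : G) (h : (cs a).Coprime (cs b)) (g : G) :
    ∃ k ∈ Subgroup.centralizer ({b} : Set G), g * a * g⁻¹ = k * a * k⁻¹ := by
  obtain ⟨k, hk, c, hc, rfl⟩ := exists_mul_of_coprime_index
    (Subgroup.centralizer ({b} : Set G)) (Subgroup.centralizer ({a} : Set G)) h.symm g
  refine ⟨k, hk, ?_⟩
  have hc' := (mem_centralizer_singleton a c).1 hc
  calc k * c * a * (k * c)⁻¹ = k * (c * a) * c⁻¹ * k⁻¹ := by group
    _ = k * (a * c) * c⁻¹ * k⁻¹ := by rw [hc']
    _ = k * a * k⁻¹ := by group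

/-- **L2**: for coprime class sizes, the product of the classes is the class of the product -/
theorem mul_conj_mem_cl [Finite G] (a b : G) (h : (cs a).Coprime (cs b)) (g k : G) :
    (g * a * g⁻¹) * (k * b * k⁻¹) ∈ cl (a * b) := by
  obtain ⟨u, hu, hu'⟩ := conj_eq_conj_of_coprime a b h (k⁻¹ * g)
  have hub := (mem_centralizer_singleton b u).1 hu
  refine ⟨k * u, ?_⟩
  have h1 : g * a * g⁻¹ = k * ((k⁻¹ * g) * a * (k⁻¹ * g)⁻¹) * k⁻¹ := by group
  rw [h1, hu']
  have h2 : u * b * u⁻¹ = b := by rw [hub]; group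
  calc k * (u * a * u⁻¹) * k⁻¹ * (k * b * k⁻¹) = k * (u * a * u⁻¹ * b) * k⁻¹ := by group
    _ = k * (u * a * u⁻¹ * (u * b * u⁻¹)) * k⁻¹ := by rw [h2]
    _ = k * u * (a * b) * (k * u)⁻¹ := by group

theorem cs_eq_of_mem_cl [Finite G] {x y : G} (h : y ∈ cl x) : cs y = cs x := by
  obtain ⟨g, rfl⟩ := h
  exact cs_conj x g

/-- **L3a** -/
theorem cs_le_cs_mul_left [Finite G] (a b : G) (h : (cs a).Coprime (cs b)) :
    cs a ≤ cs (a * b) := by
  rw [← card_cl, ← card_cl]
  have hf : ∀ y : cl a, (y : G) * b ∈ cl (a * b) := by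
    rintro ⟨_, g, rfl⟩
    have := mul_conj_mem_cl a b h g 1
    simpa using this
  apply Nat.card_le_card_of_injective (fun y : cl a => (⟨(y : G) * b, hf y⟩ : cl (a * b)))
  intro y y' hyy
  have := congrArg Subtype.val hyy
  simp only at this
  exact Subtype.ext (mul_right_cancel this)

/-- **L3b** -/
theorem cs_le_cs_mul_right [Finite G] (a b : G) (h : (cs a).Coprime (cs b)) :
    cs b ≤ cs (a * b) := by
  rw [← card_cl, ← card_cl]
  have hf : ∀ y : cl b, a * (y : G) ∈ cl (a * b) := by
    rintro ⟨_, g, rfl⟩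
    have := mul_conj_mem_cl a b h 1 g
    simpa using this
  apply Nat.card_le_card_of_injective (fun y : cl b => (⟨a * (y : G), hf y⟩ : cl (a * b)))
  intro y y' hyy
  have := congrArg Subtype.val hyy
  simp only at this
  exact Subtype.ext (mul_left_cancel this)

/-- **L3c** -/
theorem cs_mul_dvd [Finite G] (a b : G) (h : (cs a).Coprime (cs b)) :
    cs (a * b) ∣ cs a * cs b := by
  have h1 := index_inf_of_coprime (Subgroup.centralizer ({a} : Set G))
    (Subgroup.centralizer ({b} : Set G)) h
  have h2 : Subgroup.centralizer ({a} : Set G) ⊓ Subgroup.centralizer ({b} : Set G) ≤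
      Subgroup.centralizer ({a * b} : Set G) := by
    intro g hg
    rw [Subgroup.mem_inf, mem_centralizer_singleton, mem_centralizer_singleton] at hg
    rw [mem_centralizer_singleton]
    calc g * (a * b) = (g * a) * b := by group
      _ = (a * g) * b := by rw [hg.1]
      _ = a * (g * b) := by group
      _ = a * (b * g) := by rw [hg.2]
      _ = a * b * g := by group
  have h3 := Subgroup.index_dvd_of_le h2
  rw [h1] at h3
  exact h3

/-- **L4** -/
theorem mul_not_mem_center [Finite G] (a b : G) (h : (cs a).Coprime (cs b))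
    (ha : a ∉ Subgroup.center G) : a * b ∉ Subgroup.center G := by
  intro hz
  apply ha
  have h1 : b = a⁻¹ * (a * b) := by group
  have h2 : cs b = cs a := by
    rw [h1, cs_mul_central _ _ hz, cs_inv]
  rw [h2, Nat.coprime_self] at h
  exact (cs_eq_one_iff a).1 h

/-- **L5** -/
theorem mul_mul_conj_inv_mem_cl [Finite G] (a b : G) (h : (cs a).Coprime (cs b))
    (heq : cs (a * b) = cs a) (g : G) : a * b * (g * b⁻¹ * g⁻¹) ∈ cl a := by
  have h1 : (cs (a * b)).Coprime (cs b⁻¹) := by rw [heq, cs_inv]; exact h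
  have h2 := mul_conj_mem_cl (a * b) b⁻¹ h1 1 g
  have h3 : a * b * b⁻¹ = a := by group
  rw [h3] at h2
  simpa using h2

/-- invariance of the whole class -/
theorem cl_mul_invariant [Finite G] (a b : G) (h : (cs a).Coprime (cs b))
    (heq : cs (a * b) = cs a) (y : G) (hy : y ∈ cl a) (g : G) :
    y * (b * (g * b⁻¹ * g⁻¹)) ∈ cl a := by
  have hy1 : cs y = cs a := cs_eq_of_mem_cl hy
  have hyb : y * b ∈ cl (a * b) := by
    obtain ⟨k, rfl⟩ := hy
    have := mul_conj_mem_cl a b h k 1
    simpa using this
  have h2 : cs (y * b) = cs y := by rw [cs_eq_of_mem_cl hyb, heq, hy1]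
  have h3 := mul_mul_conj_inv_mem_cl y b (hy1 ▸ h) h2 g
  rw [cl_eq_of_mem hy, mul_assoc] at h3
  exact h3

/-- a finite set right-invariant under a set of elements is invariant under their closure -/
theorem right_invariant_closure [Finite G] (T S : Set G) (h : ∀ y ∈ T, ∀ s ∈ S, y * s ∈ T) :
    ∀ y ∈ T, ∀ n ∈ Subgroup.closure S, y * n ∈ T := by
  have hS : ∀ s ∈ S, ∀ y, y ∈ T ↔ y * s ∈ T := by
    intro s hs y
    refine ⟨fun hy => h y hy s hs, fun hy => ?_⟩
    have hinj : Function.Injective (fun t : T => (⟨(t : G) * s, h t t.2 s hs⟩ : T)) := by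
      intro t t' htt
      have := congrArg Subtype.val htt
      simp only at this
      exact Subtype.ext (mul_right_cancel this)
    obtain ⟨t, ht⟩ := (Finite.injective_iff_surjective.1 hinj) ⟨y * s, hy⟩
    have := congrArg Subtype.val ht
    simp only at this
    rw [← mul_right_cancel this]
    exact t.2
  let M : Subgroup G :=
    { carrier := {n | ∀ y, y ∈ T ↔ y * n ∈ T}
      one_mem' := by intro y; simp
      mul_mem' := by
        intro n₁ n₂ h1 h2 y
        rw [h1 y, h2 (y * n₁), mul_assoc]
      inv_mem' := by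
        intro n h1 y
        rw [h1 (y * n⁻¹), inv_mul_cancel_right] }
  have hle : Subgroup.closure S ≤ M := by
    rw [Subgroup.closure_le]
    intro s hs
    exact hS s hs
  intro y hy n hn
  exact (hle hn y).1 hy

/-- a class right-invariant under a subgroup has size divisible by its order -/
theorem card_dvd_cs_of_invariant [Finite G] (N : Subgroup G) (a : G)
    (h : ∀ y ∈ cl a, ∀ n ∈ N, y * n ∈ cl a) : Nat.card N ∣ cs a := by
  rw [← card_cl]
  have h1 : cl a = (QuotientGroup.mk : G → G ⧸ N) ⁻¹' ((QuotientGroup.mk : G → G ⧸ N) '' cl a) := by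
    ext y
    constructor
    · intro hy; exact ⟨y, hy, rfl⟩
    · rintro ⟨y', hy', hyy⟩
      rw [QuotientGroup.eq] at hyy
      have := h y' hy' _ hyy
      rwa [mul_inv_cancel_left] at this
  rw [h1, QuotientGroup.card_preimage_mk]
  exact Dvd.intro _ rfl

/-- second isomorphism theorem, numerically, for a non-normal `H` -/
theorem relIndex_sup_of_normal [Finite G] (H N : Subgroup G) [N.Normal] :
    H.relIndex (H ⊔ N) = H.relIndex N := by
  have e1 := Subgroup.relIndex_mul_index (le_sup_left : H ≤ H ⊔ N)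
  have e2 := Subgroup.relIndex_mul_index (le_sup_right : N ≤ H ⊔ N)
  rw [Subgroup.relIndex_sup_right] at e2
  have e3 := Subgroup.relIndex_mul_index (inf_le_left : H ⊓ N ≤ H)
  rw [Subgroup.inf_relIndex_left] at e3
  have e4 := Subgroup.relIndex_mul_index (inf_le_right : H ⊓ N ≤ N)
  rw [Subgroup.inf_relIndex_right] at e4
  have hpos1 : 0 < (H ⊔ N).index := Nat.pos_of_ne_zero Subgroup.index_ne_zero_of_finite
  have hpos2 : 0 < N.relIndex H := by
    rw [Subgroup.relIndex]
    exact Nat.pos_of_ne_zero Subgroup.index_ne_zero_of_finite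
  have h5 : N.relIndex H * H.index = H.relIndex N * N.index := by rw [e3, e4]
  have h6 : (N.relIndex H * (H ⊔ N).index) * H.relIndex (H ⊔ N) =
      (N.relIndex H * (H ⊔ N).index) * H.relIndex N := by
    calc (N.relIndex H * (H ⊔ N).index) * H.relIndex (H ⊔ N)
        = N.relIndex H * (H.relIndex (H ⊔ N) * (H ⊔ N).index) := by ring
      _ = N.relIndex H * H.index := by rw [e1]
      _ = H.relIndex N * N.index := h5
      _ = H.relIndex N * (N.relIndex H * (H ⊔ N).index) := by rw [e2]
      _ = (N.relIndex H * (H ⊔ N).index) * H.relIndex N := by ring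
  exact Nat.eq_of_mul_eq_mul_left (Nat.mul_pos hpos2 hpos1) h6

/-- for `N` normal, `|N : N ∩ H|` divides `|G : H|` -/
theorem relIndex_dvd_index_of_normal' [Finite G] (H N : Subgroup G) [N.Normal] :
    H.relIndex N ∣ H.index := by
  rw [← relIndex_sup_of_normal]
  exact Subgroup.relIndex_dvd_index_of_le le_sup_left

/-- a normal subgroup of order coprime to a class size centralizes the class -/
theorem le_centralizer_of_coprime [Finite G] (N : Subgroup G) [hN : N.Normal] (d : G)
    (h : (Nat.card N).Coprime (cs d)) : N ≤ Subgroup.centralizer ({d} : Set G) := by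
  have h1 : (Subgroup.centralizer ({d} : Set G)).relIndex N ∣ cs d :=
    relIndex_dvd_index_of_normal' _ N
  have h2 : (Subgroup.centralizer ({d} : Set G)).relIndex N ∣ Nat.card N := by
    rw [Subgroup.relIndex]
    exact Subgroup.index_dvd_card _
  have h3 := Nat.dvd_gcd h2 h1
  rw [Nat.Coprime] at h
  rw [h, Nat.dvd_one] at h3
  exact Subgroup.relIndex_eq_one.1 h3

end Cfsg.Agent.H2.ClassProd
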