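import Mathlib
import Cfsg.Prelude.Def_Local
import Cfsg.Agent.H2.LocalFStar2
import Cfsg.Agent.H2.FStar

/-!
Groups of characteristic `p` type: `F*(X)` is a `p`-group (helper2).
-/

set_option autoImplicit false

namespace Cfsg.Agent.H2

/-- `F*(X)` is a `p`-group -/
def IsCharP (p : ℕ) (X : Type*) [Group X] : Prop :=
  IsPGroup p (Cfsg.generalizedFittingSubgroup X)

section

variable {X : Type*} [Group X]

/-- a perfect solvable subgroup is trivial -/
theorem eq_bot_of_commutator_eq_of_isSolvable (S : Subgroup X) (hperf : ⁅S, S⁆ = S)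
    [hS : Group.IsSolvable S] : S = ⊥ := by
  by_contra hne
  have hnt : Nontrivial S := (Subgroup.nontrivial_iff_ne_bot S).2 hne
  have hlt := Group.IsSolvable.commutator_lt_top_of_nontrivial S
  apply hlt.ne
  apply Subgroup.map_injective S.subtype_injective
  rw [commutator_def, Subgroup.map_commutator, ← MonoidHom.range_eq_map, Subgroup.range_subtype,
    hperf]

theorem eq_bot_of_commutator_eq_of_isPGroup [Finite X] {p : ℕ} [Fact p.Prime] (S : Subgroup X)
    (hperf : ⁅S, S⁆ = S) (hS : IsPGroup p S) : S = ⊥ := by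
  have : Group.IsNilpotent S := hS.isNilpotent
  exact eq_bot_of_commutator_eq_of_isSolvable S hperf

theorem isPGroup_of_map_subtype {p : ℕ} {N : Subgroup X} (A : Subgroup N)
    (h : IsPGroup p (A.map N.subtype)) : IsPGroup p A :=
  h.of_injective (A.equivMapOfInjective N.subtype N.subtype_injective).toMonoidHom
    (A.equivMapOfInjective N.subtype N.subtype_injective).injective

variable [Finite X] (p : ℕ) [Fact p.Prime]

theorem isCharP_iff : IsCharP p X ↔
    Cfsg.layer X = ⊥ ∧ ∀ q : ℕ, q.Prime → q ≠ p → Cfsg.pCore q X = ⊥ := by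
  constructor
  · intro h
    constructor
    · rw [eq_bot_iff]
      apply layer_le_iff.2
      intro K hK
      exfalso
      have hKp : IsPGroup p K :=
        h.to_le ((component_le_layer hK).trans layer_le_generalizedFittingSubgroup)
      exact quasisimple_ne_bot hK.2
        (eq_bot_of_commutator_eq_of_isPGroup K (quasisimple_commutator_eq hK.2) hKp)
    · intro q hq hqp
      have := Fact.mk hq
      rw [eq_bot_iff]
      intro x hx
      rw [Subgroup.mem_bot]
      have hxF : x ∈ Cfsg.generalizedFittingSubgroup X := by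
        apply fittingSubgroup_le_generalizedFittingSubgroup
        rw [Cfsg.Agent.H1.fittingSubgroup_eq_iSup_pCore]
        exact Subgroup.mem_iSup_of_mem (⟨q, hq⟩ : Nat.Primes) hx
      have hdisj := IsPGroup.disjoint_of_ne q p hqp (Cfsg.pCore q X)
        (Cfsg.generalizedFittingSubgroup X) (Cfsg.Agent.H1.pCore_isPGroup q) h
      exact Subgroup.disjoint_def.1 hdisj hx hxF
  · rintro ⟨h1, h2⟩
    unfold IsCharP
    rw [generalizedFittingSubgroup_eq_pCore_of_forall p h1 h2]
    exact Cfsg.Agent.H1.pCore_isPGroup p

theorem IsCharP.centralizer_pCore_le (h : IsCharP p X) :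
    Subgroup.centralizer ((Cfsg.pCore p X : Subgroup X) : Set X) ≤ Cfsg.pCore p X := by
  have h' := (isCharP_iff p).1 h
  have := centralizer_generalizedFittingSubgroup_le (G := X)
  rwa [generalizedFittingSubgroup_eq_pCore_of_forall p h'.1 h'.2] at this

omit [Finite X] [Fact p.Prime] in
theorem IsCharP.congr {Y : Type*} [Group Y] (e : X ≃* Y) (h : IsCharP p X) : IsCharP p Y := by
  unfold IsCharP at *
  rw [← generalizedFittingSubgroup_map_equiv e]
  exact h.map _

omit [Fact p.Prime] in
/-- a subnormal subgroup of a group of characteristic `p` type has characteristic `p` type -/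
theorem IsCharP.of_isSubnormal (h : IsCharP p X) {N : Subgroup X} (hN : N.IsSubnormal) :
    IsCharP p N := by
  apply isPGroup_of_map_subtype
  rw [map_generalizedFittingSubgroup_eq_of_isSubnormal hN]
  exact h.to_le inf_le_left

/-- `p`-local subgroups of a group of characteristic `p` type have characteristic `p` type -/
theorem IsCharP.normalizer (h : IsCharP p X) (P : Subgroup X) (hP : IsPGroup p P) :
    IsCharP p (Subgroup.normalizer (P : Set X)) := by
  unfold IsCharP
  rw [generalizedFittingSubgroup_eq_pCore_of_local p (h.centralizer_pCore_le p) P _ hP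
    Subgroup.le_normalizer le_rfl (Subgroup.centralizer_le_normalizer _)]
  exact Cfsg.Agent.H1.pCore_isPGroup p

theorem normalizer_le_normalizer_centralizer' {Z : Type*} [Group Z] (A : Subgroup Z) :
    Subgroup.normalizer (A : Set Z) ≤
      Subgroup.normalizer ((Subgroup.centralizer (A : Set Z) : Subgroup Z) : Set Z) := by
  have key : ∀ g ∈ Subgroup.normalizer (A : Set Z), ∀ c ∈ Subgroup.centralizer (A : Set Z),
      g * c * g⁻¹ ∈ Subgroup.centralizer (A : Set Z) := by
    intro g hg c hc
    rw [Subgroup.mem_centralizer_iff]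
    intro a ha
    have ha' : g⁻¹ * a * g⁻¹⁻¹ ∈ A :=
      (Subgroup.mem_normalizer_iff.1 (Subgroup.inv_mem _ hg) a).1 ha
    have h1 := Subgroup.mem_centralizer_iff.1 hc _ ha'
    calc a * (g * c * g⁻¹) = g * ((g⁻¹ * a * g⁻¹⁻¹) * c) * g⁻¹ := by group
      _ = g * (c * (g⁻¹ * a * g⁻¹⁻¹)) * g⁻¹ := by rw [h1]
      _ = g * c * g⁻¹ * a := by group
  intro g hg
  rw [Subgroup.mem_normalizer_iff]
  intro c
  constructor
  · exact key g hg c
  · intro h
    have := key g⁻¹ (Subgroup.inv_mem _ hg) _ h
    have e : g⁻¹ * (g * c * g⁻¹) * g⁻¹⁻¹ = c := by group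
    rwa [e] at this

/-- centralizers of `p`-subgroups of a group of characteristic `p` type have characteristic `p`
type -/
theorem IsCharP.centralizer (h : IsCharP p X) (P : Subgroup X) (hP : IsPGroup p P) :
    IsCharP p (Subgroup.centralizer (P : Set X)) := by
  have hN := h.normalizer p P hP
  have hle : Subgroup.centralizer (P : Set X) ≤ Subgroup.normalizer (P : Set X) :=
    Subgroup.centralizer_le_normalizer _
  have hn : ((Subgroup.centralizer (P : Set X)).subgroupOf (Subgroup.normalizer (P : Set X))).Normal :=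
    (Subgroup.normal_subgroupOf_iff_le_normalizer hle).2 (normalizer_le_normalizer_centralizer' P)
  have h1 := hN.of_isSubnormal p hn.isSubnormal
  exact h1.congr p (Subgroup.subgroupOfEquivOfLe hle)

/-- an extension of a group of characteristic `p` type by a `p`-group has characteristic `p`
type -/
theorem IsCharP.of_normal (H : Subgroup X) [hHn : H.Normal] (h : IsCharP p H)
    (hq : ∀ x : X, ∃ k : ℕ, x ^ p ^ k ∈ H) : IsCharP p X := by
  have hH := (isCharP_iff p).1 h
  have hquot : IsPGroup p (X ⧸ H) := by
    intro y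
    obtain ⟨x, rfl⟩ := QuotientGroup.mk_surjective y
    obtain ⟨k, hk⟩ := hq x
    refine ⟨k, ?_⟩
    rw [← QuotientGroup.mk_pow]
    exact (QuotientGroup.eq_one_iff _).2 hk
  rw [isCharP_iff]
  constructor
  · rw [eq_bot_iff]
    apply layer_le_iff.2
    intro K hK
    exfalso
    have hKH : K ≤ H := by
      have hb : K.map (QuotientGroup.mk' H) = ⊥ := by
        apply eq_bot_of_commutator_eq_of_isPGroup (p := p)
        · rw [← Subgroup.map_commutator, quasisimple_commutator_eq hK.2]
        · exact hquot.to_subgroup _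
      rw [Subgroup.map_eq_bot_iff, QuotientGroup.ker_mk'] at hb
      exact hb
    have hK' := component_subgroupOf hK hKH
    have hle : K.subgroupOf H ≤ Cfsg.layer H := component_le_layer hK'
    rw [hH.1, le_bot_iff] at hle
    exact quasisimple_ne_bot hK'.2 hle
  · intro q hqp hne
    have := Fact.mk hqp
    have hQH : Cfsg.pCore q X ≤ H := by
      intro x hx
      obtain ⟨k, hk⟩ := hq x
      obtain ⟨m, hm⟩ := (IsPGroup.iff_orderOf.1 (Cfsg.Agent.H1.pCore_isPGroup (G := X) q)) ⟨x, hx⟩
      rw [Subgroup.orderOf_mk] at hm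
      have hcop : (orderOf x).Coprime (p ^ k) := by
        rw [hm]
        apply Nat.Coprime.pow
        exact (Nat.coprime_primes hqp Fact.out).2 hne
      obtain ⟨j, hj⟩ := exists_pow_eq_self_of_coprime hcop.symm
      rw [← hj]
      exact H.pow_mem hk j
    have hQn : ((Cfsg.pCore q X).subgroupOf H).Normal := inferInstance
    have hQq : IsPGroup q ((Cfsg.pCore q X).subgroupOf H) :=
      (Cfsg.Agent.H1.pCore_isPGroup q).comap_of_injective H.subtype H.subtype_injective
    have hle := Cfsg.Agent.H1.le_pCore hQn hQq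
    rw [hH.2 q hqp hne, le_bot_iff, Subgroup.subgroupOf_eq_bot] at hle
    rw [eq_bot_iff]
    intro x hx
    exact Subgroup.disjoint_def.1 hle hx (hQH hx)

end

end Cfsg.Agent.H2
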