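import Mathlib

/-!
A fixed-point lemma for coprime action on cosets (helper2).
-/

set_option autoImplicit false

namespace Cfsg.Agent.H2

section

variable {G : Type*} [Group G]

/-- the elements `z` normalizing `M` and stabilizing the coset `y M` under conjugation -/
def cosetStab (M : Subgroup G) (y : G) : Subgroup G where
  carrier := {z | z ∈ Subgroup.normalizer (M : Set G) ∧ y⁻¹ * z * y * z⁻¹ ∈ M}
  one_mem' := ⟨Subgroup.one_mem _, by simp [Subgroup.one_mem]⟩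
  mul_mem' := by
    rintro z₁ z₂ ⟨h1, h1'⟩ ⟨h2, h2'⟩
    refine ⟨Subgroup.mul_mem _ h1 h2, ?_⟩
    have e : y⁻¹ * (z₁ * z₂) * y * (z₁ * z₂)⁻¹ =
        (y⁻¹ * z₁ * y * z₁⁻¹) * (z₁ * (y⁻¹ * z₂ * y * z₂⁻¹) * z₁⁻¹) := by group
    show y⁻¹ * (z₁ * z₂) * y * (z₁ * z₂)⁻¹ ∈ M
    rw [e]
    exact M.mul_mem h1' ((Subgroup.mem_normalizer_iff.1 h1 _).1 h2')
  inv_mem' := by
    rintro z ⟨h1, h1'⟩
    refine ⟨Subgroup.inv_mem _ h1, ?_⟩
    have e : y⁻¹ * z⁻¹ * y * z⁻¹⁻¹ = z⁻¹ * (y⁻¹ * z * y * z⁻¹)⁻¹ * z⁻¹⁻¹ := by group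
    show y⁻¹ * z⁻¹ * y * z⁻¹⁻¹ ∈ M
    rw [e]
    exact (Subgroup.mem_normalizer_iff.1 (Subgroup.inv_mem _ h1) _).1 (M.inv_mem h1')

theorem cosetStab_conj_mem (M : Subgroup G) (y : G) {z : G} (hz : z ∈ cosetStab M y) {g : G}
    (hg : y⁻¹ * g ∈ M) : y⁻¹ * (z * g * z⁻¹) ∈ M := by
  have e : y⁻¹ * (z * g * z⁻¹) = (y⁻¹ * z * y * z⁻¹) * (z * (y⁻¹ * g) * z⁻¹) := by group
  rw [e]
  exact M.mul_mem hz.2 ((Subgroup.mem_normalizer_iff.1 hz.1 _).1 hg)

/-- the conjugation action of `cosetStab M y` on the coset `y M` -/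
instance cosetStabAction (M : Subgroup G) (y : G) :
    MulAction (cosetStab M y) {g : G // y⁻¹ * g ∈ M} where
  smul z g := ⟨(z : G) * g * (z : G)⁻¹, cosetStab_conj_mem M y z.2 g.2⟩
  one_smul g := by
    apply Subtype.ext
    show ((1 : cosetStab M y) : G) * g * ((1 : cosetStab M y) : G)⁻¹ = g
    simp
  mul_smul z₁ z₂ g := by
    apply Subtype.ext
    show ((z₁ * z₂ : cosetStab M y) : G) * g * ((z₁ * z₂ : cosetStab M y) : G)⁻¹ =
      (z₁ : G) * ((z₂ : G) * g * (z₂ : G)⁻¹) * (z₁ : G)⁻¹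
    push_cast
    group

theorem cosetStabAction_smul_coe (M : Subgroup G) (y : G) (z : cosetStab M y)
    (g : {g : G // y⁻¹ * g ∈ M}) : ((z • g : {g : G // y⁻¹ * g ∈ M}) : G) = z * g * (z : G)⁻¹ := rfl

/-- Coprime fixed points on cosets: if a `p`-subgroup `B` normalizes a `p'`-subgroup `M` and
stabilizes the coset `y M` (under conjugation), then some element of `y M` is centralized by `B`. -/
theorem exists_mem_coset_fixed {p : ℕ} [Fact p.Prime] (B M : Subgroup G) [Finite M]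
    (hB : IsPGroup p B) (hM : ¬ p ∣ Nat.card M) (y : G) (hBy : B ≤ cosetStab M y) :
    ∃ m ∈ M, ∀ b ∈ B, b * (y * m) * b⁻¹ = y * m := by
  have hB' : IsPGroup p (B.subgroupOf (cosetStab M y)) :=
    hB.comap_of_injective _ (Subgroup.subtype_injective _)
  have hcard : Nat.card {g : G // y⁻¹ * g ∈ M} = Nat.card M := by
    apply Nat.card_congr
    exact {
      toFun := fun g => ⟨y⁻¹ * g, g.2⟩
      invFun := fun m => ⟨y * m, by simp⟩
      left_inv := fun g => by apply Subtype.ext; simp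
      right_inv := fun m => by apply Subtype.ext; simp }
  obtain ⟨g, hg⟩ := hB'.nonempty_fixed_point_of_prime_not_dvd_card {g : G // y⁻¹ * g ∈ M}
    (by rw [hcard]; exact hM)
  refine ⟨y⁻¹ * g, g.2, ?_⟩
  intro b hb
  have := hg ⟨⟨b, hBy hb⟩, Subgroup.mem_subgroupOf.2 hb⟩
  have h2 := congrArg Subtype.val this
  have e : y * (y⁻¹ * (g : G)) = g := by group
  rw [e]
  exact h2

end

end Cfsg.Agent.H2
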