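import Mathlib
import Cfsg.Prelude.Def_Local
import Cfsg.Agent.H2.PComponent3

/-!
Images of components in quotients (helper2).
-/

set_option autoImplicit false
open scoped commutatorElement Pointwise

namespace Cfsg.Agent.H2

/-- A quotient of a quasisimple group by a central subgroup is quasisimple. -/
theorem isQuasisimple_quotient_of_le_center {L : Type*} [Group L] (hL : Cfsg.IsQuasisimple L)
    (N : Subgroup L) [N.Normal] (hN : N ≤ Subgroup.center L) : Cfsg.IsQuasisimple (L ⧸ N) := by
  have hperf := hL.1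
  refine ⟨inferInstance, ?_⟩
  let φ : L →* (L ⧸ N) ⧸ Subgroup.center (L ⧸ N) :=
    (QuotientGroup.mk' (Subgroup.center (L ⧸ N))).comp (QuotientGroup.mk' N)
  have hφ : Function.Surjective φ :=
    (QuotientGroup.mk'_surjective _).comp (QuotientGroup.mk'_surjective _)
  have hker : φ.ker = Subgroup.center L := by
    apply le_antisymm
    · have h1 : ⁅φ.ker, (⊤ : Subgroup L)⁆ ≤ N := by
        rw [Subgroup.commutator_le]
        intro z hz k _
        rw [MonoidHom.mem_ker] at hz
        have hz' : QuotientGroup.mk' N z ∈ Subgroup.center (L ⧸ N) := by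
          rw [← QuotientGroup.ker_mk' (Subgroup.center (L ⧸ N))]
          exact hz
        have := Subgroup.mem_center_iff.1 hz' (QuotientGroup.mk' N k)
        rw [← QuotientGroup.eq_one_iff, commutatorElement_def]
        show QuotientGroup.mk' N (z * k * z⁻¹ * k⁻¹) = 1
        rw [map_mul, map_mul, map_mul, map_inv, map_inv, ← this]
        group
      have h2 : ⁅⁅φ.ker, (⊤ : Subgroup L)⁆, (⊤ : Subgroup L)⁆ = ⊥ := by
        rw [eq_bot_iff]
        calc ⁅⁅φ.ker, (⊤ : Subgroup L)⁆, (⊤ : Subgroup L)⁆ ≤ ⁅Subgroup.center L, ⊤⁆ :=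
              Subgroup.commutator_mono (h1.trans hN) le_rfl
          _ = ⊥ := Subgroup.commutator_center_left _
      have h3 : ⁅⁅(⊤ : Subgroup L), φ.ker⁆, (⊤ : Subgroup L)⁆ = ⊥ := by
        rw [Subgroup.commutator_comm ⊤ φ.ker]; exact h2
      have h4 : ⁅⁅(⊤ : Subgroup L), (⊤ : Subgroup L)⁆, φ.ker⁆ = ⊥ :=
        Subgroup.commutator_commutator_eq_bot_of_rotate h3 h2
      have h5 : ⁅(⊤ : Subgroup L), (⊤ : Subgroup L)⁆ = ⊤ := hperf.commutator_eq_top
      rw [h5] at h4
      exact Subgroup.commutator_top_left_eq_bot_iff_le_center.1 h4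
    · intro z hz
      rw [MonoidHom.mem_ker]
      show QuotientGroup.mk' (Subgroup.center (L ⧸ N)) (QuotientGroup.mk' N z) = 1
      rw [← MonoidHom.mem_ker, QuotientGroup.ker_mk', Subgroup.mem_center_iff]
      intro q
      obtain ⟨k, rfl⟩ := QuotientGroup.mk'_surjective N q
      rw [← map_mul, ← map_mul, Subgroup.mem_center_iff.1 hz k]
  exact ((QuotientGroup.quotientMulEquivOfEq hker.symm).trans
    (QuotientGroup.quotientKerEquivOfSurjective φ hφ)).isSimpleGroup_congr.1 hL.2

section

variable {X : Type*} [Group X] [Finite X]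

/-- The image of a component in a quotient by a normal subgroup is trivial or a component. -/
theorem component_map_mk' (N : Subgroup X) [N.Normal] {L : Subgroup X} (hL : Cfsg.IsComponent L) :
    L ≤ N ∨ Cfsg.IsComponent (L.map (QuotientGroup.mk' N)) := by
  by_cases hLN : L ≤ N
  · left; exact hLN
  · right
    refine ⟨hL.1.map (QuotientGroup.mk'_surjective N), ?_⟩
    have hn : (N.subgroupOf L).Normal := inferInstance
    have hc : N.subgroupOf L ≤ Subgroup.center L := by
      rcases IsQuasisimple.eq_top_or_le_center hL.2 (N.subgroupOf L) hn.isSubnormal with h | h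
      · exfalso; exact hLN (Subgroup.subgroupOf_eq_top.1 h)
      · exact h
    exact (isQuasisimple_congr (quotientSubgroupOfEquivMap N L)).1
      (isQuasisimple_quotient_of_le_center hL.2 _ hc)

/-- The image of the layer in a quotient lies in the layer of the quotient. -/
theorem layer_map_mk'_le (N : Subgroup X) [N.Normal] :
    (Cfsg.layer X).map (QuotientGroup.mk' N) ≤ Cfsg.layer (X ⧸ N) := by
  rw [Subgroup.map_le_iff_le_comap]
  apply layer_le_iff.2
  intro L hL
  rw [← Subgroup.map_le_iff_le_comap]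
  rcases component_map_mk' N hL with h | h
  · have : L.map (QuotientGroup.mk' N) = ⊥ := by
      rw [Subgroup.map_eq_bot_iff, QuotientGroup.ker_mk']; exact h
    rw [this]; exact bot_le
  · exact component_le_layer h

/-- The image of the `p`-layer in `X / O_{p'}(X)` is the layer of the quotient. -/
theorem pLayer_map_mk'_eq (p : ℕ) [Fact p.Prime] :
    (Cfsg.pLayer p X).map (QuotientGroup.mk' (Cfsg.pPrimeCore p X)) =
      Cfsg.layer (X ⧸ Cfsg.pPrimeCore p X) := by
  apply le_antisymm
  · rw [Subgroup.map_le_iff_le_comap]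
    apply sSup_le
    intro K hK
    rw [← Subgroup.map_le_iff_le_comap]
    exact component_le_layer hK.2.1
  · apply layer_le_iff.2
    intro Kbar hKbar
    obtain ⟨K, hK, hmap⟩ := exists_pComponent_map_eq p Kbar hKbar
    rw [← hmap]
    exact Subgroup.map_mono (pComponent_le_pLayer p hK)

/-- The preimage of `E(X / O_{p'}(X))` is `L_{p'}(X) O_{p'}(X)`. -/
theorem comap_layer_quotient_pPrimeCore (p : ℕ) [Fact p.Prime] :
    (Cfsg.layer (X ⧸ Cfsg.pPrimeCore p X)).comap (QuotientGroup.mk' (Cfsg.pPrimeCore p X)) =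
      Cfsg.pLayer p X ⊔ Cfsg.pPrimeCore p X := by
  rw [← pLayer_map_mk'_eq p, Subgroup.comap_map_eq, QuotientGroup.ker_mk']

end

end Cfsg.Agent.H2
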