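import Mathlib
import Cfsg.Prelude.Def_Local
import Cfsg.Agent.H2.Layer
import Cfsg.Agent.H2.LayerQuotient
import Cfsg.Agent.H2.PComponent
import Cfsg.Agent.Lib.Lead.Subnormal
import Cfsg.Agent.H1.CoprimeAction
import Cfsg.Agent.H1.MinNonPClosed
import Cfsg.Agent.H1.Cores

/-!
Diagonal subgroups of orbits of components under an element of prime order (helper2); used for
`[L, O_{p'}(C_G(x))] = 1`.
-/

set_option autoImplicit false
open scoped commutatorElement Pointwise

namespace Cfsg.Agent.H2.DiagComp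

section basic

variable {G : Type*} [Group G]

/-- the conjugate `g L g⁻¹` -/
abbrev cj (g : G) (L : Subgroup G) : Subgroup G := L.map (MulAut.conj g).toMonoidHom

lemma mem_cj {g y : G} {L : Subgroup G} : y ∈ cj g L ↔ g⁻¹ * y * g ∈ L := by
  constructor
  · rintro ⟨l, hl, rfl⟩
    have : g⁻¹ * ((MulAut.conj g).toMonoidHom l) * g = l := by
      simp [MulAut.conj_apply, mul_assoc]
    rw [this]; exact hl
  · intro h
    refine ⟨g⁻¹ * y * g, h, ?_⟩
    simp [MulAut.conj_apply, mul_assoc]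

lemma conj_mem_cj {g l : G} {L : Subgroup G} (hl : l ∈ L) : g * l * g⁻¹ ∈ cj g L :=
  ⟨l, hl, by simp [MulAut.conj_apply]⟩

lemma cj_mul (g h : G) (L : Subgroup G) : cj (g * h) L = cj g (cj h L) := by
  ext y
  rw [mem_cj, mem_cj, mem_cj]
  have : (g * h)⁻¹ * y * (g * h) = h⁻¹ * (g⁻¹ * y * g) * h := by group
  rw [this]

lemma cj_one (L : Subgroup G) : cj 1 L = L := by
  ext y; simp [mem_cj]

lemma cj_pow_eq {g : G} {L : Subgroup G} (h : cj g L = L) (a : ℕ) : cj (g ^ a) L = L := by
  induction a with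
  | zero => rw [pow_zero, cj_one]
  | succ a ih => rw [pow_succ, cj_mul, h, ih]

lemma cj_injective (g : G) {A B : Subgroup G} (h : cj g A = cj g B) : A = B :=
  Subgroup.map_injective (MulAut.conj g).injective h

/-- the partial diagonal product `∏_{i<k} x^i l x^{-i}` -/
def dk (x l : G) : ℕ → G
  | 0 => 1
  | k + 1 => dk x l k * (x ^ k * l * (x ^ k)⁻¹)

@[simp] lemma dk_zero (x l : G) : dk x l 0 = 1 := rfl

lemma dk_succ (x l : G) (k : ℕ) : dk x l (k + 1) = dk x l k * (x ^ k * l * (x ^ k)⁻¹) := rfl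

lemma dk_one_elt (x : G) (k : ℕ) : dk x 1 k = 1 := by
  induction k with
  | zero => rfl
  | succ k ih => rw [dk_succ, ih]; group

lemma dk_succ_left (x l : G) (k : ℕ) : dk x l (k + 1) = l * (x * dk x l k * x⁻¹) := by
  induction k with
  | zero => simp [dk_succ]
  | succ k ih =>
    conv_rhs => rw [dk_succ x l k]
    rw [dk_succ x l (k + 1), ih]
    have : x ^ (k + 1) * l * (x ^ (k + 1))⁻¹ = x * (x ^ k * l * (x ^ k)⁻¹) * x⁻¹ := by
      rw [pow_succ']; group
    rw [this]; group

lemma dk_conj (x l n : G) (hn : n * x = x * n) (k : ℕ) :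
    n * dk x l k * n⁻¹ = dk x (n * l * n⁻¹) k := by
  induction k with
  | zero => simp
  | succ k ih =>
    rw [dk_succ, dk_succ, ← ih]
    have hk : n * x ^ k = x ^ k * n := (Commute.pow_right hn k : Commute n (x ^ k)).eq
    have hk' : (x ^ k)⁻¹ * n⁻¹ = n⁻¹ * (x ^ k)⁻¹ := by
      rw [← mul_inv_rev, ← mul_inv_rev, hk]
    calc n * (dk x l k * (x ^ k * l * (x ^ k)⁻¹)) * n⁻¹
        = n * dk x l k * n⁻¹ * (n * x ^ k * l * ((x ^ k)⁻¹ * n⁻¹)) := by group
      _ = n * dk x l k * n⁻¹ * (x ^ k * (n * l * n⁻¹) * (x ^ k)⁻¹) := by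
          rw [hk, hk']; group

lemma dk_mem (x : G) {l : G} {L : Subgroup G} (hl : l ∈ L) (k : ℕ) :
    dk x l k ∈ ⨆ i ∈ Finset.range k, cj (x ^ i) L := by
  induction k with
  | zero => simp
  | succ k ih =>
    rw [dk_succ]
    refine mul_mem ?_ ?_
    · have hle : (⨆ i ∈ Finset.range k, cj (x ^ i) L) ≤ ⨆ i ∈ Finset.range (k + 1), cj (x ^ i) L :=
        biSup_mono (fun i hi =>
          Finset.mem_range.2 (Nat.lt_succ_of_lt (Finset.mem_range.1 hi)))
      exact hle ih
    · exact (le_iSup₂ (f := fun i (_ : i ∈ Finset.range (k + 1)) => cj (x ^ i) L) k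
        (Finset.mem_range.2 (Nat.lt_succ_self k))) (conj_mem_cj hl)

end basic

section orbit

variable {G : Type*} [Group G] {x : G} {L : Subgroup G} {p : ℕ}

/-- the commuting hypothesis on the orbit `L, xLx⁻¹, …` -/
def OrbitComm (x : G) (L : Subgroup G) (p : ℕ) : Prop :=
  ∀ i j : ℕ, i < j → j < p → ∀ a ∈ cj (x ^ i) L, ∀ b ∈ cj (x ^ j) L, a * b = b * a

lemma iSup_le_centralizer (hP : OrbitComm x L p) {k : ℕ} (hk : k < p) :
    (⨆ i ∈ Finset.range k, cj (x ^ i) L) ≤ Subgroup.centralizer (cj (x ^ k) L : Set G) := by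
  apply iSup₂_le
  intro i hi a ha
  rw [Subgroup.mem_centralizer_iff]
  intro b hb
  exact (hP i k (Finset.mem_range.1 hi) hk a ha b hb).symm

lemma dk_mul (hP : OrbitComm x L p) {l l' : G} (hl : l ∈ L) (hl' : l' ∈ L) {k : ℕ} (hk : k ≤ p) :
    dk x (l * l') k = dk x l k * dk x l' k := by
  induction k with
  | zero => simp
  | succ k ih =>
    rw [dk_succ, dk_succ, dk_succ, ih (Nat.le_of_succ_le hk)]
    have hc : dk x l' k * (x ^ k * l * (x ^ k)⁻¹) = (x ^ k * l * (x ^ k)⁻¹) * dk x l' k := by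
      have h1 := iSup_le_centralizer hP (Nat.lt_of_succ_le hk) (dk_mem x hl' k)
      exact ((Subgroup.mem_centralizer_iff.1 h1) _ (conj_mem_cj hl)).symm
    calc dk x l k * dk x l' k * (x ^ k * (l * l') * (x ^ k)⁻¹)
        = dk x l k * (dk x l' k * (x ^ k * l * (x ^ k)⁻¹)) * (x ^ k * l' * (x ^ k)⁻¹) := by group
      _ = dk x l k * ((x ^ k * l * (x ^ k)⁻¹) * dk x l' k) * (x ^ k * l' * (x ^ k)⁻¹) := by rw [hc]
      _ = _ := by group

lemma cj_le_centralizer (hP : OrbitComm x L p) {k : ℕ} (h0 : 0 < k) (hk : k < p) :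
    cj (x ^ k) L ≤ Subgroup.centralizer (L : Set G) := by
  intro b hb
  rw [Subgroup.mem_centralizer_iff]
  intro a ha
  exact hP 0 k h0 hk a (by rw [pow_zero, cj_one]; exact ha) b hb

/-- `dk x l k = l * b` with `b` centralizing `L`, for `1 ≤ k ≤ p`. -/
lemma dk_eq_mul (hP : OrbitComm x L p) {l : G} (hl : l ∈ L) {k : ℕ} (hk1 : 1 ≤ k) (hk : k ≤ p) :
    ∃ b ∈ Subgroup.centralizer (L : Set G), dk x l k = l * b := by
  induction k with
  | zero => omega
  | succ k ih =>
    rcases Nat.eq_zero_or_pos k with h0 | h0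
    · subst h0
      refine ⟨1, one_mem _, ?_⟩
      simp [dk_succ]
    · obtain ⟨b, hb, hbe⟩ := ih h0 (Nat.le_of_succ_le hk)
      refine ⟨b * (x ^ k * l * (x ^ k)⁻¹), mul_mem hb ?_, ?_⟩
      · exact cj_le_centralizer hP h0 (Nat.lt_of_succ_le hk) (conj_mem_cj hl)
      · rw [dk_succ, hbe, mul_assoc]

lemma dk_comm (hP : OrbitComm x L p) (hxp : x ^ p = 1) (hp1 : 1 ≤ p) {l : G} (hl : l ∈ L) :
    x * dk x l p = dk x l p * x := by
  obtain ⟨b, hb, hbe⟩ := dk_eq_mul hP hl hp1 le_rfl
  have h1 : dk x l (p + 1) = dk x l p * l := by rw [dk_succ, hxp]; group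
  have h2 := dk_succ_left x l p
  have h3 : dk x l p * l = l * dk x l p := by
    rw [hbe]
    have := (Subgroup.mem_centralizer_iff.1 hb) l hl
    calc l * b * l = l * (b * l) := by group
      _ = l * (l * b) := by rw [this]
  have h4 : x * dk x l p * x⁻¹ = dk x l p := by
    have : l * (x * dk x l p * x⁻¹) = l * dk x l p := by rw [← h2, h1, h3]
    exact mul_left_cancel this
  calc x * dk x l p = (x * dk x l p * x⁻¹) * x := by group
    _ = dk x l p * x := by rw [h4]

/-- the diagonal homomorphism `l ↦ ∏_{i<p} x^i l x^{-i}` -/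
def diag (hP : OrbitComm x L p) : ↥L →* G where
  toFun l := dk x (l : G) p
  map_one' := dk_one_elt x p
  map_mul' a b := dk_mul hP a.2 b.2 le_rfl

lemma diag_apply (hP : OrbitComm x L p) (l : ↥L) : diag hP l = dk x (l : G) p := rfl

lemma diag_ker_le_center (hP : OrbitComm x L p) (hp1 : 1 ≤ p) :
    (diag hP).ker ≤ Subgroup.center ↥L := by
  intro l hl
  rw [MonoidHom.mem_ker, diag_apply] at hl
  obtain ⟨b, hb, hbe⟩ := dk_eq_mul hP l.2 hp1 le_rfl
  rw [hl] at hbe
  have hlb : (l : G) = b⁻¹ := eq_inv_of_mul_eq_one_left hbe.symm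
  rw [Subgroup.mem_center_iff]
  intro y
  apply Subtype.ext
  have hc : (l : G) ∈ Subgroup.centralizer (L : Set G) := by rw [hlb]; exact inv_mem hb
  exact (Subgroup.mem_centralizer_iff.1 hc) y y.2

lemma diag_range_isQuasisimple (hP : OrbitComm x L p) (hp1 : 1 ≤ p)
    (hL : Cfsg.IsQuasisimple ↥L) : Cfsg.IsQuasisimple ↥(diag hP).range :=
  (isQuasisimple_congr (QuotientGroup.quotientKerEquivRange (diag hP))).1
    (isQuasisimple_quotient_of_le_center hL _ (diag_ker_le_center hP hp1))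

lemma diag_range_le_centralizer (hP : OrbitComm x L p) (hxp : x ^ p = 1) (hp1 : 1 ≤ p) :
    (diag hP).range ≤ Subgroup.centralizer ({x} : Set G) := by
  rintro _ ⟨l, rfl⟩
  rw [Subgroup.mem_centralizer_iff]
  intro y hy
  rw [Set.mem_singleton_iff] at hy
  subst hy
  exact dk_comm hP hxp hp1 l.2

lemma diag_range_le (hP : OrbitComm x L p) :
    (diag hP).range ≤ ⨆ i ∈ Finset.range p, cj (x ^ i) L := by
  rintro _ ⟨l, rfl⟩
  exact dk_mem x l.2 p

/-- elements of the orbit product commuting with `x` normalize the diagonal -/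
lemma conj_mem_diag_range (hP : OrbitComm x L p) {n : G} (hn : n * x = x * n)
    (hnN : n ∈ ⨆ i ∈ Finset.range p, cj (x ^ i) L) {d : G} (hd : d ∈ (diag hP).range) :
    n * d * n⁻¹ ∈ (diag hP).range := by
  obtain ⟨l, rfl⟩ := hd
  have hle : (⨆ i ∈ Finset.range p, cj (x ^ i) L) ≤ L ⊔ Subgroup.centralizer (L : Set G) := by
    apply iSup₂_le
    intro i hi
    rcases Nat.eq_zero_or_pos i with h0 | h0
    · subst h0; rw [pow_zero, cj_one]; exact le_sup_left
    · exact (cj_le_centralizer hP h0 (Finset.mem_range.1 hi)).trans le_sup_right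
  obtain ⟨a, ha, c, hc, hac⟩ := (Cfsg.Agent.H1.mem_sup_of_le_normalizer L
    (Subgroup.centralizer (L : Set G)) (Subgroup.centralizer_le_normalizer _)).1 (hle hnN)
  have hcl : c * (l : G) * c⁻¹ = l := by
    have := (Subgroup.mem_centralizer_iff.1 hc) l l.2
    rw [← this]; group
  have hnl : n * (l : G) * n⁻¹ = a * l * a⁻¹ := by
    rw [hac]
    calc a * c * (l : G) * (a * c)⁻¹ = a * (c * l * c⁻¹) * a⁻¹ := by group
      _ = a * l * a⁻¹ := by rw [hcl]
  refine ⟨⟨a * l * a⁻¹, L.mul_mem (L.mul_mem ha l.2) (L.inv_mem ha)⟩, ?_⟩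
  rw [diag_apply, diag_apply, dk_conj x l n hn p, hnl]

end orbit

section main

variable {G : Type*} [Group G] [Finite G] (p : ℕ) [Fact p.Prime]

lemma component_cj {L : Subgroup G} (hL : Cfsg.IsComponent L) (g : G) :
    Cfsg.IsComponent (cj g L) := component_conj hL g

lemma cj_pow_ne {x : G} (hx : orderOf x = p) {L : Subgroup G} (hxL : cj x L ≠ L) {m : ℕ}
    (h0 : 0 < m) (hm : m < p) : cj (x ^ m) L ≠ L := by
  intro h
  have hpp : p.Prime := Fact.out
  have hcop : Nat.Coprime m (orderOf x) := by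
    rw [hx]
    exact Nat.Coprime.symm ((Nat.Prime.coprime_iff_not_dvd hpp).2 (Nat.not_dvd_of_pos_of_lt h0 hm))
  obtain ⟨a, ha⟩ := exists_pow_eq_self_of_coprime hcop
  have := cj_pow_eq h a
  rw [ha] at this
  exact hxL this

lemma orbitComm {x : G} (hx : orderOf x = p) {L : Subgroup G} (hL : Cfsg.IsComponent L)
    (hxL : cj x L ≠ L) : OrbitComm x L p := by
  intro i j hij hj a ha b hb
  have hne : cj (x ^ i) L ≠ cj (x ^ j) L := by
    intro h
    have e : x ^ j = x ^ i * x ^ (j - i) := by rw [← pow_add]; congr 1; omega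
    rw [e, cj_mul] at h
    have h' := cj_injective _ h
    exact cj_pow_ne p hx hxL (by omega) (by omega) h'.symm
  have hc := components_commute (component_cj hL _) (component_cj hL _) hne
  exact (commutator_eq_bot_iff_forall_commute _ _).1 hc a ha b hb

lemma iSup_isSubnormal (x : G) {L : Subgroup G} (hL : L.IsSubnormal) (k : ℕ) :
    (⨆ i ∈ Finset.range k, cj (x ^ i) L).IsSubnormal := by
  have : (⨆ i ∈ Finset.range k, cj (x ^ i) L) =
      sSup ((fun i => cj (x ^ i) L) '' (Finset.range k : Set ℕ)) := by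
    rw [sSup_image]; simp
  rw [this]
  apply Cfsg.Agent.Lib.Lead.Subnormal.sSup_isSubnormal
  rintro _ ⟨i, _, rfl⟩
  exact hL.map (MulAut.conj (x ^ i)).surjective

theorem commutator_eq_bot_of_moved (hO : Cfsg.pPrimeCore p G = ⊥) (x : G) (hx : orderOf x = p)
    (L : Subgroup G) (hL : Cfsg.IsComponent L) (hxL : cj x L ≠ L) :
    ⁅L, Cfsg.centralizerPPrimeCore p x⁆ = ⊥ := by
  have hpp : p.Prime := Fact.out
  have hp1 : 1 ≤ p := hpp.one_lt.le
  have hP := orbitComm p hx hL hxL
  have hxp : x ^ p = 1 := by rw [← hx]; exact pow_orderOf_eq_one x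
  obtain ⟨C, hCdef⟩ : ∃ C, C = Subgroup.centralizer ({x} : Set G) := ⟨_, rfl⟩
  obtain ⟨W', hW'def⟩ : ∃ W' : Subgroup ↥C, W' = Cfsg.pPrimeCore p ↥C := ⟨_, rfl⟩
  have hW'n : W'.Normal := by rw [hW'def]; infer_instance
  have hW'c : (Nat.card W').Coprime p := by rw [hW'def]; exact Cfsg.Agent.H1.pPrimeCore_coprime p
  have hWeq : Cfsg.centralizerPPrimeCore p x = W'.map C.subtype := by
    subst hCdef; subst hW'def; rfl
  rw [hWeq]
  obtain ⟨W, hWdef⟩ : ∃ W, W = W'.map C.subtype := ⟨_, rfl⟩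
  rw [← hWdef]
  obtain ⟨D, hDdef⟩ : ∃ D, D = (diag hP).range := ⟨_, rfl⟩
  obtain ⟨N, hNdef⟩ : ∃ N, N = ⨆ i ∈ Finset.range p, cj (x ^ i) L := ⟨_, rfl⟩
  have hDC : D ≤ C := by rw [hDdef, hCdef]; exact diag_range_le_centralizer hP hxp hp1
  have hDN : D ≤ N := by rw [hDdef, hNdef]; exact diag_range_le hP
  have hNsub : N.IsSubnormal := by rw [hNdef]; exact iSup_isSubnormal x hL.1 p
  have hCx : ∀ c ∈ C, c * x = x * c := by
    intro c hc
    rw [hCdef] at hc
    exact ((Subgroup.mem_centralizer_iff.1 hc) x (Set.mem_singleton x)).symm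
  have hDq : Cfsg.IsQuasisimple ↥D := by
    rw [hDdef]; exact diag_range_isQuasisimple hP hp1 hL.2
  -- `D` is a component of `C`
  have hD' : Cfsg.IsComponent (D.subgroupOf C) := by
    refine ⟨?_, (isQuasisimple_subgroupOf hDC).2 hDq⟩
    apply isSubnormal_of_normal_in (K := N.subgroupOf C) hNsub.subgroupOf
    · intro c hc
      exact Subgroup.mem_subgroupOf.2 (hDN (Subgroup.mem_subgroupOf.1 hc))
    · intro c hc
      apply Cfsg.Agent.H1.mem_normalizer_of_conj_mem
      intro d hd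
      rw [Subgroup.mem_subgroupOf] at hd ⊢
      rw [hDdef] at hd ⊢
      have hcN : (c : G) ∈ ⨆ i ∈ Finset.range p, cj (x ^ i) L := by
        rw [← hNdef]; exact Subgroup.mem_subgroupOf.1 hc
      exact conj_mem_diag_range hP (hCx c c.2) hcN hd
  -- Step 1: `W` centralizes `D`
  have hDW : ∀ d ∈ D, ∀ w ∈ W, d * w = w * d := by
    rcases component_le_or_commutator_eq_bot (D.subgroupOf C) W' hD' hW'n.isSubnormal with h | h
    · exfalso
      have hcD : (Nat.card D).Coprime p := by
        have h1 : Nat.card (D.subgroupOf C) ∣ Nat.card W' := Subgroup.card_dvd_of_le h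
        have h2 : Nat.card (D.subgroupOf C) = Nat.card D :=
          Nat.card_congr (Subgroup.subgroupOfEquivOfLe hDC).toEquiv
        rw [h2] at h1
        exact Nat.Coprime.coprime_dvd_left h1 hW'c
      have hidx : ¬ p ∣ (Subgroup.center ↥L).index := by
        intro hdiv
        have h3 : (Subgroup.center ↥L).index ∣ (diag hP).ker.index :=
          Subgroup.index_dvd_of_le (diag_ker_le_center hP hp1)
        have h4 : (diag hP).ker.index = Nat.card D := by
          rw [hDdef]; exact Subgroup.index_ker _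
        rw [h4] at h3
        have : p ∣ Nat.card D := hdiv.trans h3
        exact hpp.one_lt.ne' (Nat.Coprime.eq_one_of_dvd hcD.symm this)
      exact component_not_coprime p hO hL
        (quasisimple_coprime_of_not_dvd_index_center ↥L hL.2 p hidx)
    · intro d hd w hw
      rw [hWdef] at hw
      obtain ⟨w', hw', rfl⟩ := hw
      have := (commutator_eq_bot_iff_forall_commute _ _).1 h ⟨d, hDC hd⟩
        (Subgroup.mem_subgroupOf.2 hd) w' hw'
      exact congrArg Subtype.val this
  have hWC : W ≤ C := by rw [hWdef]; exact map_subtype_le _ _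
  have hdw : ∀ w ∈ W, ∀ l : G, ∀ hl : l ∈ L, w * dk x l p * w⁻¹ = dk x l p := by
    intro w hw l hl
    have hd : dk x l p ∈ D := by rw [hDdef]; exact ⟨⟨l, hl⟩, rfl⟩
    rw [← hDW _ hd w hw]; group
  have hWord : ∀ w ∈ W, (orderOf w).Coprime p := by
    intro w hw
    have h1 : orderOf (⟨w, hw⟩ : ↥W) ∣ Nat.card W := orderOf_dvd_natCard _
    rw [Subgroup.orderOf_mk] at h1
    have h2 : Nat.card W = Nat.card W' := by
      rw [hWdef]; exact Subgroup.card_map_of_injective (Subgroup.subtype_injective _)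
    rw [h2] at h1
    exact Nat.Coprime.coprime_dvd_left h1 hW'c
  -- Step 2: every `w ∈ W` normalizes `L`
  have hWL : ∀ w ∈ W, cj w L = L := by
    intro w hw
    have hwx : w * x = x * w := hCx w (hWC hw)
    have h2a : ∃ i : ℕ, cj w L = cj (x ^ i) L := by
      by_contra hcon
      push Not at hcon
      have h1 : ∀ i, i < p → cj w (cj (x ^ i) L) ≤ Subgroup.centralizer (L : Set G) := by
        intro i hi
        have hne : cj w (cj (x ^ i) L) ≠ L := by
          intro h
          apply hcon (p - i)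
          have hcomm : w * x ^ i = x ^ i * w := (Commute.pow_right hwx i : Commute w (x ^ i)).eq
          rw [← cj_mul, hcomm, cj_mul] at h
          apply cj_injective (x ^ i)
          rw [h, ← cj_mul, ← pow_add, (by omega : i + (p - i) = p), hxp, cj_one]
        have hc := components_commute (component_cj (component_cj hL _) w) hL hne
        exact Subgroup.commutator_eq_bot_iff_le_centralizer.1 hc
      have h2 : cj w N ≤ Subgroup.centralizer (L : Set G) := by
        have : cj w N = ⨆ i ∈ Finset.range p, cj w (cj (x ^ i) L) := by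
          rw [hNdef]; simp only [cj, Subgroup.map_iSup]
        rw [this]
        exact iSup₂_le (fun i hi => h1 i (Finset.mem_range.1 hi))
      have h3 : ∀ l : ↥L, (l : G) ∈ Subgroup.centralizer (L : Set G) := by
        intro l
        obtain ⟨b, hb, hbe⟩ := dk_eq_mul hP l.2 hp1 le_rfl
        have hd : dk x l p ∈ D := by rw [hDdef]; exact ⟨l, rfl⟩
        have hdc : dk x (l : G) p ∈ Subgroup.centralizer (L : Set G) := by
          rw [← hdw w hw l l.2]; exact h2 (conj_mem_cj (hDN hd))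
        have : (l : G) = dk x l p * b⁻¹ := by rw [hbe]; group
        rw [this]; exact mul_mem hdc (inv_mem hb)
      have h4 : ⁅L, L⁆ = ⊥ := by
        rw [Subgroup.commutator_eq_bot_iff_le_centralizer]
        intro l hl
        exact h3 ⟨l, hl⟩
      rw [quasisimple_commutator_eq hL.2] at h4
      exact quasisimple_ne_bot hL.2 h4
    obtain ⟨i, hi⟩ := h2a
    have hpow : ∀ n : ℕ, cj (w ^ n) L = cj ((x ^ i) ^ n) L := by
      intro n
      induction n with
      | zero => rw [pow_zero, pow_zero]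
      | succ n ih =>
        have hcomm : w * (x ^ i) ^ n = (x ^ i) ^ n * w :=
          (Commute.pow_right (Commute.pow_right hwx i) n : Commute w ((x ^ i) ^ n)).eq
        rw [pow_succ', cj_mul, ih, ← cj_mul, hcomm, cj_mul, hi, ← cj_mul, ← pow_succ]
    have hm := hpow (orderOf w)
    rw [pow_orderOf_eq_one, cj_one] at hm
    by_cases hdiv : p ∣ i
    · have : x ^ i = 1 := by
        rw [← hx] at hdiv; exact orderOf_dvd_iff_pow_eq_one.1 hdiv
      rw [hi, this, cj_one]
    · exfalso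
      have hcop : Nat.Coprime (i * orderOf w) (orderOf x) := by
        rw [hx]
        exact Nat.Coprime.mul_left ((Nat.Prime.coprime_iff_not_dvd hpp).2 hdiv).symm (hWord w hw)
      obtain ⟨a, ha⟩ := exists_pow_eq_self_of_coprime hcop
      have := cj_pow_eq (g := x ^ (i * orderOf w)) (by rw [pow_mul]; exact hm.symm) a
      rw [ha] at this
      exact hxL this
  -- Step 3
  have hcomm : ⁅W, L⁆ ≤ Subgroup.centralizer (L : Set G) := by
    rw [Subgroup.commutator_le]
    intro w hw l hl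
    obtain ⟨b, hb, hbe⟩ := dk_eq_mul hP hl hp1 le_rfl
    have h1 : w * l * w⁻¹ * (w * b * w⁻¹) = l * b := by
      rw [← hbe, ← hdw w hw l hl, hbe]; group
    have hwb : w * b * w⁻¹ ∈ Subgroup.centralizer (L : Set G) := by
      rw [Subgroup.mem_centralizer_iff]
      intro a ha
      have ha' : w⁻¹ * a * w ∈ L := by
        rw [← mem_cj, hWL w hw]; exact ha
      have := (Subgroup.mem_centralizer_iff.1 hb) _ ha'
      calc a * (w * b * w⁻¹) = w * ((w⁻¹ * a * w) * b) * w⁻¹ := by group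
        _ = w * (b * (w⁻¹ * a * w)) * w⁻¹ := by rw [this]
        _ = w * b * w⁻¹ * a := by group
    have hc : b * (w * b * w⁻¹)⁻¹ ∈ Subgroup.centralizer (L : Set G) :=
      mul_mem hb (inv_mem hwb)
    have h2 : ⁅w, l⁆ = l * (b * (w * b * w⁻¹)⁻¹) * l⁻¹ := by
      rw [commutatorElement_def]
      have : w * l * w⁻¹ = l * b * (w * b * w⁻¹)⁻¹ := by rw [← h1]; group
      rw [this]; group
    have h3 : l * (b * (w * b * w⁻¹)⁻¹) * l⁻¹ = b * (w * b * w⁻¹)⁻¹ := by
      have := (Subgroup.mem_centralizer_iff.1 hc) l hl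
      rw [this]; group
    rw [h2, h3]; exact hc
  have e1 : ⁅⁅W, L⁆, L⁆ = ⊥ := Subgroup.commutator_eq_bot_iff_le_centralizer.2 hcomm
  have e2 : ⁅⁅L, W⁆, L⁆ = ⊥ := by rw [Subgroup.commutator_comm L W]; exact e1
  have e3 := Subgroup.commutator_commutator_eq_bot_of_rotate e2 e1
  rw [quasisimple_commutator_eq hL.2] at e3
  exact e3

theorem commutator_eq_bot_of_fixed (hO : Cfsg.pPrimeCore p G = ⊥) (x : G)
    (L : Subgroup G) (hL : Cfsg.IsComponent L) (hxL : cj x L = L)
    (hne : ⁅L, Subgroup.zpowers x⁆ ≠ L) :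
    ⁅L, Cfsg.centralizerPPrimeCore p x⁆ = ⊥ := by
  obtain ⟨Z, hZdef⟩ : ∃ Z, Z = Subgroup.zpowers x := ⟨_, rfl⟩
  rw [← hZdef] at hne
  have hxn : x ∈ Subgroup.normalizer (L : Set G) := by
    rw [Subgroup.mem_normalizer_iff]
    intro h
    constructor
    · intro hh
      have : x * h * x⁻¹ ∈ cj x L := conj_mem_cj hh
      rwa [hxL] at this
    · intro hh
      rw [← hxL, mem_cj] at hh
      have e : x⁻¹ * (x * h * x⁻¹) * x = h := by group
      rwa [e] at hh
  have hZn : Z ≤ Subgroup.normalizer (L : Set G) := by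
    rw [hZdef, Subgroup.zpowers_le]; exact hxn
  obtain ⟨T, hTdef⟩ : ∃ T, T = ⁅L, Z⁆ := ⟨_, rfl⟩
  have hTL : T ≤ L := by
    rw [hTdef]; exact Subgroup.le_normalizer_iff_commutator_le_left.mp hZn
  have hTn : (T.subgroupOf L).Normal := by
    rw [Subgroup.normal_subgroupOf_iff_le_normalizer hTL, hTdef]
    exact Subgroup.normalizer_commutator_ge_left L Z
  have hLZ : ⁅L, Z⁆ = ⊥ := by
    rcases IsQuasisimple.eq_top_or_le_center hL.2 (T.subgroupOf L) hTn.isSubnormal with h | h
    · exfalso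
      apply hne
      rw [← hTdef]
      exact le_antisymm hTL (Subgroup.subgroupOf_eq_top.1 h)
    · have hTc : T ≤ Subgroup.centralizer (L : Set G) := by
        intro t ht
        rw [Subgroup.mem_centralizer_iff]
        intro l hl
        have h1 : (⟨t, hTL ht⟩ : ↥L) ∈ Subgroup.center ↥L := h (Subgroup.mem_subgroupOf.2 ht)
        have h2 := (Subgroup.mem_center_iff.1 h1) ⟨l, hl⟩
        exact congrArg Subtype.val h2
      rw [hTdef] at hTc
      have e1 : ⁅⁅L, Z⁆, L⁆ = ⊥ := Subgroup.commutator_eq_bot_iff_le_centralizer.2 hTc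
      have e2 : ⁅⁅Z, L⁆, L⁆ = ⊥ := by rw [Subgroup.commutator_comm Z L]; exact e1
      have e3 := Subgroup.commutator_commutator_eq_bot_of_rotate e1 e2
      rw [quasisimple_commutator_eq hL.2] at e3
      exact e3
  obtain ⟨C, hCdef⟩ : ∃ C, C = Subgroup.centralizer ({x} : Set G) := ⟨_, rfl⟩
  obtain ⟨W', hW'def⟩ : ∃ W' : Subgroup ↥C, W' = Cfsg.pPrimeCore p ↥C := ⟨_, rfl⟩
  have hW'n : W'.Normal := by rw [hW'def]; infer_instance
  have hW'c : (Nat.card W').Coprime p := by rw [hW'def]; exact Cfsg.Agent.H1.pPrimeCore_coprime p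
  have hWeq : Cfsg.centralizerPPrimeCore p x = W'.map C.subtype := by
    subst hCdef; subst hW'def; rfl
  rw [hWeq]
  have hLC : L ≤ C := by
    intro l hl
    rw [hCdef, Subgroup.mem_centralizer_iff]
    intro y hy
    rw [Set.mem_singleton_iff] at hy
    subst hy
    have := (commutator_eq_bot_iff_forall_commute _ _).1 hLZ l hl y
      (by rw [hZdef]; exact Subgroup.mem_zpowers y)
    exact this.symm
  have hWC : W'.map C.subtype ≤ C := map_subtype_le _ _
  have hsub : (W'.map C.subtype).subgroupOf C = W' :=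
    Subgroup.comap_map_eq_self_of_injective (Subgroup.subtype_injective _) _
  rw [← commutator_subgroupOf_eq_bot_iff hLC hWC, hsub]
  rcases component_le_or_commutator_eq_bot (L.subgroupOf C) W' (component_subgroupOf hL hLC)
    hW'n.isSubnormal with h | h
  · exfalso
    have h1 : Nat.card (L.subgroupOf C) ∣ Nat.card W' := Subgroup.card_dvd_of_le h
    have h2 : Nat.card (L.subgroupOf C) = Nat.card L :=
      Nat.card_congr (Subgroup.subgroupOfEquivOfLe hLC).toEquiv
    rw [h2] at h1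
    exact component_not_coprime p hO hL (Nat.Coprime.coprime_dvd_left h1 hW'c)
  · exact h

theorem main (hO : Cfsg.pPrimeCore p G = ⊥) (x : G) (hx : orderOf x = p)
    (L : Subgroup G) (hL : Cfsg.IsComponent L) (hne : ⁅L, Subgroup.zpowers x⁆ ≠ L) :
    ⁅L, Cfsg.centralizerPPrimeCore p x⁆ = ⊥ := by
  by_cases hxL : cj x L = L
  · exact commutator_eq_bot_of_fixed p hO x L hL hxL hne
  · exact commutator_eq_bot_of_moved p hO x hx L hL hxL

end main

end Cfsg.Agent.H2.DiagComp
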