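import Mathlib
import Cfsg.Prelude.Def_Balance
import Cfsg.Agent.H2.DiagComp
import Cfsg.Agent.H1.MinNonPClosed
import Cfsg.Agent.H1.CoprimeAction
import Cfsg.Agent.S0023
import Cfsg.Agent.S0024
import Cfsg.Agent.S0025
import Cfsg.Agent.S1280
import Cfsg.Agent.S1282

/-!
The Transitivity Theorem for solvable signalizer functors (helper2).
-/

set_option autoImplicit false
open scoped commutatorElement Pointwise

namespace Cfsg.Agent.H2.Transitivity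

open Cfsg.Agent.H2.DiagComp

section

variable {G : Type*} [Group G] [Finite G] (p : ℕ) [Fact p.Prime] (A : Subgroup G)
  (θ : G → Subgroup G)

/-- elementwise invariance from normalizer form -/
lemma conj_mem_of_le_normalizer {A U : Subgroup G} (h : A ≤ Subgroup.normalizer (U : Set G))
    {b u : G} (hb : b ∈ A) (hu : u ∈ U) : b * u * b⁻¹ ∈ U :=
  (Subgroup.mem_normalizer_iff.1 (h hb) u).1 hu

lemma le_normalizer_of_conj_mem {A U : Subgroup G} (h : ∀ b ∈ A, ∀ u ∈ U, b * u * b⁻¹ ∈ U) :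
    A ≤ Subgroup.normalizer (U : Set G) :=
  fun b hb => Cfsg.Agent.H1.mem_normalizer_of_conj_mem U b (h b hb)

/-- an `A`-invariant subgroup of a member of the family is in the family -/
lemma family_of_le {U V : Subgroup G} (hU : U ∈ Cfsg.signalizerFamily p A θ) (hVU : V ≤ U)
    (hV : ∀ b ∈ A, ∀ v ∈ V, b * v * b⁻¹ ∈ V) : V ∈ Cfsg.signalizerFamily p A θ := by
  obtain ⟨h1, h2, h3, h4⟩ := hU
  refine ⟨?_, ?_, hV, ?_⟩
  · exact Group.isSolvable_of_isSolvable_injective (Subgroup.inclusion_injective hVU)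
  · intro hdiv
    exact h2 (hdiv.trans (Subgroup.card_dvd_of_le hVU))
  · intro a ha ha1
    exact (inf_le_inf_right _ hVU).trans (h4 a ha ha1)

lemma signalizerInf_le {a : G} (ha : a ∈ A) (ha1 : a ≠ 1) : Cfsg.signalizerInf A θ ≤ θ a :=
  iInf_le (fun a : {a : G // a ∈ A ∧ a ≠ 1} => θ (a : G)) ⟨a, ha, ha1⟩

variable {p A θ}

/-- elements of `θ(C_G(A))` commute with `A` -/
lemma signalizerInf_comm (hθ : Cfsg.IsSignalizerFunctor p A θ) {c : G}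
    (hc : c ∈ Cfsg.signalizerInf A θ) {b : G} (hb : b ∈ A) : b * c = c * b := by
  by_cases hb1 : b = 1
  · rw [hb1, one_mul, mul_one]
  · have h1 : c ∈ θ b := signalizerInf_le A θ hb hb1 hc
    have h2 := hθ.1 b hb hb1 h1
    exact (Subgroup.mem_centralizer_iff.1 h2) b (Set.mem_singleton b)

/-- conjugation by `θ(C_G(A))` preserves the family -/
lemma cj_mem_family (hθ : Cfsg.IsSignalizerFunctor p A θ) {U : Subgroup G}
    (hU : U ∈ Cfsg.signalizerFamily p A θ) {c : G} (hc : c ∈ Cfsg.signalizerInf A θ) :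
    cj c U ∈ Cfsg.signalizerFamily p A θ := by
  obtain ⟨h1, h2, h3, h4⟩ := hU
  refine ⟨?_, ?_, ?_, ?_⟩
  · exact Group.isSolvable_of_surjective ((MulAut.conj c).toMonoidHom.subgroupMap_surjective U)
  · rw [Subgroup.card_map_of_injective (MulAut.conj c).injective]; exact h2
  · intro b hb u hu
    rw [mem_cj] at hu ⊢
    have hbc := signalizerInf_comm hθ hc hb
    have hbc' : c⁻¹ * b = b * c⁻¹ := by
      have : c⁻¹ * (b * c) * c⁻¹ = c⁻¹ * (c * b) * c⁻¹ := by rw [hbc]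
      calc c⁻¹ * b = c⁻¹ * (b * c) * c⁻¹ := by group
        _ = c⁻¹ * (c * b) * c⁻¹ := this
        _ = b * c⁻¹ := by group
    have hbc'' : b⁻¹ * c = c * b⁻¹ := by
      calc b⁻¹ * c = b⁻¹ * (c * b) * b⁻¹ := by group
        _ = b⁻¹ * (b * c) * b⁻¹ := by rw [hbc]
        _ = c * b⁻¹ := by group
    have e : c⁻¹ * (b * u * b⁻¹) * c = b * (c⁻¹ * u * c) * b⁻¹ := by
      calc c⁻¹ * (b * u * b⁻¹) * c = (c⁻¹ * b) * u * (b⁻¹ * c) := by group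
        _ = (b * c⁻¹) * u * (c * b⁻¹) := by rw [hbc', hbc'']
        _ = b * (c⁻¹ * u * c) * b⁻¹ := by group
    rw [e]
    exact h3 b hb _ hu
  · intro a ha ha1 u hu
    obtain ⟨hu1, hu2⟩ := hu
    have hu1 : u ∈ cj c U := hu1
    have hu2 : u ∈ Subgroup.centralizer ({a} : Set G) := hu2
    rw [mem_cj] at hu1
    have hca : c ∈ θ a := signalizerInf_le A θ ha ha1 hc
    have hac := signalizerInf_comm hθ hc ha
    have hau : a * u = u * a := (Subgroup.mem_centralizer_iff.1 hu2) a (Set.mem_singleton a)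
    have h5 : c⁻¹ * u * c ∈ U ⊓ Subgroup.centralizer ({a} : Set G) := by
      refine ⟨hu1, ?_⟩
      show c⁻¹ * u * c ∈ Subgroup.centralizer ({a} : Set G)
      rw [Subgroup.mem_centralizer_iff]
      intro y hy
      rw [Set.mem_singleton_iff] at hy
      subst hy
      have hyc' : y * c⁻¹ = c⁻¹ * y := by
        calc y * c⁻¹ = c⁻¹ * (c * y) * c⁻¹ := by group
          _ = c⁻¹ * (y * c) * c⁻¹ := by rw [hac]
          _ = c⁻¹ * y := by group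
      calc y * (c⁻¹ * u * c) = (y * c⁻¹) * u * c := by group
        _ = c⁻¹ * (y * u) * c := by rw [hyc']; group
        _ = c⁻¹ * (u * y) * c := by rw [hau]
        _ = c⁻¹ * u * (y * c) := by group
        _ = c⁻¹ * u * (c * y) := by rw [hac]
        _ = c⁻¹ * u * c * y := by group
    have h6 : c⁻¹ * u * c ∈ θ a := h4 a ha ha1 h5
    have e : u = c * (c⁻¹ * u * c) * c⁻¹ := by group
    rw [e]
    exact mul_mem (mul_mem hca h6) (inv_mem hca)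

/-- `Q` is a maximal `q`-subgroup in the family -/
def IsMaxQ (p : ℕ) (A : Subgroup G) (θ : G → Subgroup G) (q : ℕ) (Q : Subgroup G) : Prop :=
  Q ∈ Cfsg.signalizerFamily p A θ ∧ IsPGroup q ↥Q ∧
    ∀ R ∈ Cfsg.signalizerFamily p A θ, IsPGroup q ↥R → Q ≤ R → R = Q

lemma IsMaxQ.conj (hθ : Cfsg.IsSignalizerFunctor p A θ) {q : ℕ} {Q : Subgroup G}
    (hQ : IsMaxQ p A θ q Q) {c : G} (hc : c ∈ Cfsg.signalizerInf A θ) :
    IsMaxQ p A θ q (cj c Q) := by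
  refine ⟨cj_mem_family hθ hQ.1 hc, hQ.2.1.map _, ?_⟩
  intro R hR hRq hle
  have hc' : c⁻¹ ∈ Cfsg.signalizerInf A θ := inv_mem hc
  have h1 : Q ≤ cj c⁻¹ R := by
    intro x hx
    rw [mem_cj, inv_inv]
    exact hle (conj_mem_cj hx)
  have h2 := hQ.2.2 (cj c⁻¹ R) (cj_mem_family hθ hR hc') (hRq.map _) h1
  rw [← h2, ← cj_mul, mul_inv_cancel, cj_one]

/-- every `q`-subgroup in the family lies in a maximal one -/
lemma exists_isMaxQ_ge {q : ℕ} {P : Subgroup G} (hP : P ∈ Cfsg.signalizerFamily p A θ)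
    (hPq : IsPGroup q ↥P) : ∃ Q, IsMaxQ p A θ q Q ∧ P ≤ Q := by
  have hne : Nonempty {R : Subgroup G // R ∈ Cfsg.signalizerFamily p A θ ∧ IsPGroup q ↥R ∧ P ≤ R} :=
    ⟨⟨P, hP, hPq, le_rfl⟩⟩
  obtain ⟨Q, hQ⟩ := Finite.exists_max
    (fun R : {R : Subgroup G // R ∈ Cfsg.signalizerFamily p A θ ∧ IsPGroup q ↥R ∧ P ≤ R} =>
      Nat.card (R : Subgroup G))
  refine ⟨Q.1, ⟨Q.2.1, Q.2.2.1, ?_⟩, Q.2.2.2⟩
  intro R hR hRq hle
  have h1 := hQ ⟨R, hR, hRq, Q.2.2.2.trans hle⟩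
  exact (Subgroup.eq_of_le_of_card_ge hle h1).symm

end

section main

variable {G : Type*} [Group G] [Finite G] {p : ℕ} [Fact p.Prime] {A : Subgroup G}
  {θ : G → Subgroup G}

lemma theta_mem_family (hθ : Cfsg.IsSolvableSignalizerFunctor p A θ) {a : G} (ha : a ∈ A)
    (ha1 : a ≠ 1) : θ a ∈ Cfsg.signalizerFamily p A θ :=
  ⟨hθ.2 a ha ha1, hθ.1.2.1 a ha ha1, hθ.1.2.2.1 a ha ha1,
    fun b hb hb1 => hθ.1.2.2.2 a ha ha1 b hb hb1⟩

lemma isPGroup_of_elementaryAbelian (hA : Cfsg.IsElementaryAbelian p A) : IsPGroup p ↥A := by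
  intro a
  refine ⟨1, ?_⟩
  apply Subtype.ext
  simpa using hA.2 a a.2

lemma coprime_card_of_family (hA : Cfsg.IsElementaryAbelian p A) {M : Subgroup G}
    (hM : M ∈ Cfsg.signalizerFamily p A θ) : (Nat.card ↥A).Coprime (Nat.card ↥M) := by
  have hpp : p.Prime := Fact.out
  obtain ⟨k, hk⟩ := (isPGroup_of_elementaryAbelian hA).exists_card_eq
  rw [hk]
  exact Nat.Coprime.pow_left k ((Nat.Prime.coprime_iff_not_dvd hpp).2 hM.2.1)

lemma mem_signalizerInf_of_family {M : Subgroup G} (hM : M ∈ Cfsg.signalizerFamily p A θ)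
    {c : G} (hcM : c ∈ M) (hcA : c ∈ Subgroup.centralizer (A : Set G)) :
    c ∈ Cfsg.signalizerInf A θ := by
  unfold Cfsg.signalizerInf
  rw [Subgroup.mem_iInf]
  rintro ⟨b, hb, hb1⟩
  refine hM.2.2.2 b hb hb1 ⟨hcM, ?_⟩
  exact Subgroup.centralizer_le (Set.singleton_subset_iff.2 hb) hcA

theorem transitivity_aux (hA : Cfsg.IsElementaryAbelian p A) (hA3 : p ^ 3 ≤ Nat.card ↥A)
    (hθ : Cfsg.IsSolvableSignalizerFunctor p A θ) (q : ℕ) [Fact q.Prime] (hqp : q ≠ p) :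
    ∀ n : ℕ, ∀ Q₁ Q₂ : Subgroup G, IsMaxQ p A θ q Q₁ → IsMaxQ p A θ q Q₂ →
      Nat.card G - Nat.card ↥(Q₁ ⊓ Q₂ : Subgroup G) = n →
      ∃ c ∈ Cfsg.signalizerInf A θ, cj c Q₁ = Q₂ := by
  have hpp : p.Prime := Fact.out
  intro n
  induction n using Nat.strong_induction_on with
  | _ n ih =>
    intro Q₁ Q₂ hQ₁ hQ₂ hn
    by_cases hD1 : Q₁ ⊓ Q₂ = Q₁
    · have hle : Q₁ ≤ Q₂ := inf_eq_left.1 hD1
      have := hQ₁.2.2 Q₂ hQ₂.1 hQ₂.2.1 hle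
      exact ⟨1, one_mem _, by rw [cj_one, this]⟩
    by_cases hD2 : Q₁ ⊓ Q₂ = Q₂
    · have hle : Q₂ ≤ Q₁ := inf_eq_right.1 hD2
      have := hQ₂.2.2 Q₁ hQ₁.1 hQ₁.2.1 hle
      exact ⟨1, one_mem _, by rw [cj_one, this]⟩
    have hA₁ : A ≤ Subgroup.normalizer (Q₁ : Set G) := le_normalizer_of_conj_mem hQ₁.1.2.2.1
    have hA₂ : A ≤ Subgroup.normalizer (Q₂ : Set G) := le_normalizer_of_conj_mem hQ₂.1.2.2.1
    obtain ⟨a, ha, ha1, hR₁, hR₂⟩ := Cfsg.Agent.S1282.result p A hA hA3 q hqp Q₁ Q₂ hQ₁.2.1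
      hQ₂.2.1 hA₁ hA₂ hD1 hD2
    obtain ⟨D, hDdef⟩ : ∃ D, D = Q₁ ⊓ Q₂ := ⟨_, rfl⟩
    rw [← hDdef] at hR₁ hR₂ hn
    have hDinv : ∀ b ∈ A, ∀ u ∈ D, b * u * b⁻¹ ∈ D := by
      rw [hDdef]
      intro b hb u hu
      exact ⟨hQ₁.1.2.2.1 b hb u hu.1, hQ₂.1.2.2.1 b hb u hu.2⟩
    have hDQ₁ : D ≤ Q₁ := by rw [hDdef]; exact inf_le_left
    have hDQ₂ : D ≤ Q₂ := by rw [hDdef]; exact inf_le_right
    have hDF : D ∈ Cfsg.signalizerFamily p A θ := family_of_le p A θ hQ₁.1 hDQ₁ hDinv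
    have hAD : A ≤ Subgroup.normalizer (D : Set G) := le_normalizer_of_conj_mem hDinv
    obtain ⟨H, hHdef⟩ : ∃ H, H = θ a ⊓ Subgroup.normalizer (D : Set G) := ⟨_, rfl⟩
    have hθaF := theta_mem_family hθ ha ha1
    have hHinv : ∀ b ∈ A, ∀ u ∈ H, b * u * b⁻¹ ∈ H := by
      rw [hHdef]
      intro b hb u hu
      refine ⟨hθaF.2.2.1 b hb u hu.1, ?_⟩
      have hu2 : u ∈ Subgroup.normalizer (D : Set G) := hu.2
      show b * u * b⁻¹ ∈ Subgroup.normalizer (D : Set G)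
      exact (Subgroup.normalizer (D : Set G)).mul_mem
        ((Subgroup.normalizer (D : Set G)).mul_mem (hAD hb) hu2)
        ((Subgroup.normalizer (D : Set G)).inv_mem (hAD hb))
    have hHF : H ∈ Cfsg.signalizerFamily p A θ :=
      family_of_le p A θ hθaF (by rw [hHdef]; exact inf_le_left) hHinv
    have hHn : H ≤ Subgroup.normalizer (D : Set G) := by rw [hHdef]; exact inf_le_right
    have hp2 : p ^ 2 ≤ Nat.card ↥A :=
      le_trans (Nat.pow_le_pow_right hpp.pos (by norm_num)) hA3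
    have hMF : D ⊔ H ∈ Cfsg.signalizerFamily p A θ :=
      Cfsg.Agent.S1280.result p A hA hp2 θ hθ D H hDF hHF hHn
    obtain ⟨M, hMdef⟩ : ∃ M, M = D ⊔ H := ⟨_, rfl⟩
    rw [← hMdef] at hMF
    have hDM : D ≤ M := by rw [hMdef]; exact le_sup_left
    have hHM : H ≤ M := by rw [hMdef]; exact le_sup_right
    -- the subgroups `U_i = M ∩ Q_i`
    have hU : ∀ Q : Subgroup G, IsMaxQ p A θ q Q → D ≤ Q →
        ¬ (Subgroup.normalizer (D : Set G) ⊓ Q ⊓ Subgroup.centralizer {a} ≤ D) →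
        (∀ b ∈ A, ∀ u ∈ M ⊓ Q, b * u * b⁻¹ ∈ M ⊓ Q) ∧ IsPGroup q ↥(M ⊓ Q : Subgroup G) ∧
          D ≤ M ⊓ Q ∧ ¬ (M ⊓ Q ≤ D) := by
      intro Q hQ hDQ hR
      refine ⟨?_, ?_, le_inf hDM hDQ, ?_⟩
      · intro b hb u hu
        exact ⟨hMF.2.2.1 b hb u hu.1, hQ.1.2.2.1 b hb u hu.2⟩
      · exact hQ.2.1.to_le inf_le_right
      · intro hle
        apply hR
        intro x hx
        apply hle
        obtain ⟨⟨hx1, hx2⟩, hx3⟩ := hx
        refine ⟨hHM ?_, hx2⟩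
        rw [hHdef]
        exact ⟨hQ.1.2.2.2 a ha ha1 ⟨hx2, hx3⟩, hx1⟩
    obtain ⟨hU₁inv, hU₁q, hDU₁, hU₁D⟩ := hU Q₁ hQ₁ hDQ₁ hR₁
    obtain ⟨hU₂inv, hU₂q, hDU₂, hU₂D⟩ := hU Q₂ hQ₂ hDQ₂ hR₂
    have hAM : A ≤ Subgroup.normalizer (M : Set G) := le_normalizer_of_conj_mem hMF.2.2.1
    have hcop := coprime_card_of_family hA hMF
    obtain ⟨P₁, hUP₁, hAP₁⟩ := Cfsg.Agent.S0025.result A M hAM hcop (Or.inr hMF.1) q (M ⊓ Q₁)
      inf_le_left hU₁q (le_normalizer_of_conj_mem hU₁inv)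
    obtain ⟨P₂, hUP₂, hAP₂⟩ := Cfsg.Agent.S0025.result A M hAM hcop (Or.inr hMF.1) q (M ⊓ Q₂)
      inf_le_left hU₂q (le_normalizer_of_conj_mem hU₂inv)
    obtain ⟨c, hcA, hcP⟩ := Cfsg.Agent.S0024.result A M hAM hcop (Or.inr hMF.1) q P₁ P₂ hAP₁ hAP₂
    have hcC : (c : G) ∈ Cfsg.signalizerInf A θ := mem_signalizerInf_of_family hMF c.2 hcA
    have hP₂eq : (P₂ : Subgroup ↥M).map M.subtype = cj (c : G) ((P₁ : Subgroup ↥M).map M.subtype) := by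
      rw [← hcP]
      exact Cfsg.Agent.H1.sylow_smul_map_subtype M P₁ c
    have hP₁F : (P₁ : Subgroup ↥M).map M.subtype ∈ Cfsg.signalizerFamily p A θ :=
      family_of_le p A θ hMF (Cfsg.Agent.H2.map_subtype_le _ _)
        (fun b hb u hu => conj_mem_of_le_normalizer hAP₁ hb hu)
    have hP₂F : (P₂ : Subgroup ↥M).map M.subtype ∈ Cfsg.signalizerFamily p A θ :=
      family_of_le p A θ hMF (Cfsg.Agent.H2.map_subtype_le _ _)
        (fun b hb u hu => conj_mem_of_le_normalizer hAP₂ hb hu)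
    obtain ⟨Q₁', hQ₁', hPQ₁⟩ := exists_isMaxQ_ge hP₁F (P₁.isPGroup'.map _)
    obtain ⟨Q₂', hQ₂', hPQ₂⟩ := exists_isMaxQ_ge hP₂F (P₂.isPGroup'.map _)
    have key : ∀ X Y : Subgroup G, IsMaxQ p A θ q X → IsMaxQ p A θ q Y → ∀ W : Subgroup G,
        W ≤ X → W ≤ Y → D ≤ W → ¬ W ≤ D → ∃ c ∈ Cfsg.signalizerInf A θ, cj c X = Y := by
      intro X Y hX hY W hWX hWY hDW hWD
      have h1 : Nat.card ↥D < Nat.card ↥W := by
        by_contra h
        have := Subgroup.eq_of_le_of_card_ge hDW (not_lt.1 h)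
        exact hWD (by rw [this])
      have hlt : Nat.card ↥D < Nat.card ↥(X ⊓ Y : Subgroup G) :=
        h1.trans_le (Subgroup.card_le_of_le (le_inf hWX hWY))
      have hle : Nat.card ↥(X ⊓ Y : Subgroup G) ≤ Nat.card G := Subgroup.card_le_card_group _
      apply ih (Nat.card G - Nat.card ↥(X ⊓ Y : Subgroup G)) ?_ X Y hX hY rfl
      omega
    obtain ⟨c₁, hc₁, e₁⟩ := key Q₁ Q₁' hQ₁ hQ₁' (M ⊓ Q₁) inf_le_right (hUP₁.trans hPQ₁) hDU₁ hU₁D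
    obtain ⟨c₂, hc₂, e₂⟩ := key Q₂ Q₂' hQ₂ hQ₂' (M ⊓ Q₂) inf_le_right (hUP₂.trans hPQ₂) hDU₂ hU₂D
    obtain ⟨c₃, hc₃, e₃⟩ := key (cj (c : G) Q₁') Q₂' (hQ₁'.conj hθ.1 hcC) hQ₂' (M ⊓ Q₂)
      (by rw [hP₂eq] at hUP₂; exact hUP₂.trans (Subgroup.map_mono hPQ₁))
      (hUP₂.trans hPQ₂) hDU₂ hU₂D
    refine ⟨c₂⁻¹ * c₃ * c * c₁, mul_mem (mul_mem (mul_mem (inv_mem hc₂) hc₃) hcC) hc₁, ?_⟩
    rw [cj_mul, cj_mul, cj_mul, e₁, e₃, ← e₂, ← cj_mul, inv_mul_cancel, cj_one]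

/-- The Transitivity Theorem. -/
theorem transitivity (hA : Cfsg.IsElementaryAbelian p A) (hA3 : p ^ 3 ≤ Nat.card ↥A)
    (hθ : Cfsg.IsSolvableSignalizerFunctor p A θ) (q : ℕ) [Fact q.Prime]
    (Q₁ Q₂ : Subgroup G) (hQ₁ : IsMaxQ p A θ q Q₁) (hQ₂ : IsMaxQ p A θ q Q₂) :
    ∃ c ∈ Cfsg.signalizerInf A θ, cj c Q₁ = Q₂ := by
  by_cases hqp : q = p
  · subst hqp
    have h1 : ∀ Q : Subgroup G, IsMaxQ q A θ q Q → Q = ⊥ := by
      intro Q hQ
      obtain ⟨k, hk⟩ := hQ.2.1.exists_card_eq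
      have h2 := hQ.1.2.1
      rw [hk] at h2
      have hk0 : k = 0 := by
        by_contra hk0
        exact h2 (dvd_pow_self q hk0)
      rw [hk0, pow_zero] at hk
      exact Subgroup.card_eq_one.1 hk
    refine ⟨1, one_mem _, ?_⟩
    rw [cj_one, h1 Q₁ hQ₁, h1 Q₂ hQ₂]
  · exact transitivity_aux hA hA3 hθ q hqp _ Q₁ Q₂ hQ₁ hQ₂ rfl

end main

end Cfsg.Agent.H2.Transitivity
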