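import Mathlib
import Cfsg.Prelude.Def_Local
import Cfsg.Agent.H2.HyperplaneGen
import Cfsg.Agent.H2.Transitivity
import Cfsg.Agent.S0027
import Cfsg.Agent.S0044
import Cfsg.Agent.S0206
import Cfsg.Agent.S0552
import Cfsg.Agent.H1.Cores
import Cfsg.Agent.H2.Equivariant

/-!
The Thompson dihedral lemma: an elementary abelian `2`-group `A` of rank `d` acting faithfully on
a solvable group `L` of odd order; there are generators `a i` of `A` and elements `x i ∈ L` of
prime order, pairwise commuting, with `a i` inverting `x i` and centralizing the other `x j`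
(helper2).
-/

set_option autoImplicit false
open scoped commutatorElement Pointwise

namespace Cfsg.Agent.H2.DihedralLemma

open Cfsg.Agent.H2.Transitivity

variable {G : Type*} [Group G]

lemma mem_centralizer_zpowers {x y : G} :
    y ∈ Subgroup.centralizer ((Subgroup.zpowers x : Subgroup G) : Set G) ↔ x * y = y * x := by
  constructor
  · intro h
    exact Subgroup.mem_centralizer_iff.1 h x (Subgroup.mem_zpowers x)
  · intro h
    rw [Subgroup.mem_centralizer_iff]
    intro z hz
    obtain ⟨k, rfl⟩ := Subgroup.mem_zpowers_iff.1 hz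
    have : Commute x y := h
    exact (this.zpow_left k).eq

lemma inv_eq_self_of_mul_self {b : G} (hb : b * b = 1) : b⁻¹ = b :=
  inv_eq_of_mul_eq_one_right hb

/-- an element moved by an involution produces an inverted element -/
lemma inverted_of_involution {b : G} (hb : b * b = 1) (y : G) :
    b * (y⁻¹ * (b * y * b⁻¹)) * b⁻¹ = (y⁻¹ * (b * y * b⁻¹))⁻¹ := by
  have hbi : b⁻¹ = b := inv_eq_self_of_mul_self hb
  have h1 : b * (y⁻¹ * (b * y * b⁻¹)) * b⁻¹ = b * y⁻¹ * b * y * (b⁻¹ * b⁻¹) := by group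
  have h2 : (y⁻¹ * (b * y * b⁻¹))⁻¹ = b * y⁻¹ * b⁻¹ * y := by group
  rw [h1, h2, hbi, hb, mul_one]

lemma inverted_pow {a x : G} (h : a * x * a⁻¹ = x⁻¹) (k : ℕ) : a * x ^ k * a⁻¹ = (x ^ k)⁻¹ := by
  rw [← conj_pow, h, inv_pow]

lemma zpowers_le_centralizer_self (b : G) :
    Subgroup.zpowers b ≤ Subgroup.centralizer ((Subgroup.zpowers b : Subgroup G) : Set G) := by
  rw [Subgroup.zpowers_le, mem_centralizer_zpowers]

lemma normalizer_le_normalizer_centralizer' (D : Subgroup G) :
    Subgroup.normalizer (D : Set G) ≤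
      Subgroup.normalizer ((Subgroup.centralizer (D : Set G) : Subgroup G) : Set G) := by
  have key : ∀ g ∈ Subgroup.normalizer (D : Set G), ∀ c ∈ Subgroup.centralizer (D : Set G),
      g * c * g⁻¹ ∈ Subgroup.centralizer (D : Set G) := by
    intro g hg c hc
    rw [Subgroup.mem_centralizer_iff]
    intro x hx
    have hg' : g⁻¹ ∈ Subgroup.normalizer (D : Set G) := inv_mem hg
    have h1 : g⁻¹ * x * g⁻¹⁻¹ ∈ D := (Subgroup.mem_normalizer_iff.1 hg' x).1 hx
    rw [inv_inv] at h1
    have h2 := Subgroup.mem_centralizer_iff.1 hc _ h1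
    calc x * (g * c * g⁻¹) = g * ((g⁻¹ * x * g) * c) * g⁻¹ := by group
      _ = g * (c * (g⁻¹ * x * g)) * g⁻¹ := by rw [h2]
      _ = g * c * g⁻¹ * x := by group
  intro g hg
  rw [Subgroup.mem_normalizer_iff]
  intro c
  constructor
  · exact key g hg c
  · intro h
    have := key g⁻¹ (inv_mem hg) _ h
    have e : g⁻¹ * (g * c * g⁻¹) * g⁻¹⁻¹ = c := by group
    rwa [e] at this

lemma normalizer_inf_le (Y C : Subgroup G) :
    Subgroup.normalizer (Y : Set G) ⊓ Subgroup.normalizer (C : Set G) ≤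
      Subgroup.normalizer ((Y ⊓ C : Subgroup G) : Set G) := by
  intro a ha
  rw [Subgroup.mem_normalizer_iff]
  intro x
  rw [Subgroup.mem_inf, Subgroup.mem_inf, ← Subgroup.mem_normalizer_iff.1 ha.1 x,
    ← Subgroup.mem_normalizer_iff.1 ha.2 x]

/-- Thompson's `A × B`-lemma in the form needed here: an involution `b` acting on the nilpotent
group `L` of odd order and centralizing `C_L(x)` for some `x ∈ L` centralizes `L`. -/
theorem le_centralizer_of_nilpotent [Finite G] (L : Subgroup G) (hLn : Group.IsNilpotent ↥L)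
    (hLodd : Odd (Nat.card ↥L)) (b x : G) (hb : b * b = 1)
    (hbL : b ∈ Subgroup.normalizer (L : Set G)) (hxL : x ∈ L)
    (hcent : L ⊓ Subgroup.centralizer ((Subgroup.zpowers x : Subgroup G) : Set G) ≤
      Subgroup.centralizer ((Subgroup.zpowers b : Subgroup G) : Set G)) :
    L ≤ Subgroup.centralizer ((Subgroup.zpowers b : Subgroup G) : Set G) := by
  by_contra hcon
  obtain ⟨Q, hQdef⟩ : ∃ Q : Subgroup G, Q = Subgroup.zpowers b := ⟨_, rfl⟩
  rw [← hQdef] at hcent hcon
  obtain ⟨M, hMdef⟩ : ∃ M : Subgroup G, M = L ⊓ Subgroup.centralizer (Q : Set G) := ⟨_, rfl⟩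
  have hML : M ≤ L := by rw [hMdef]; exact inf_le_left
  have hMQ : M ≤ Subgroup.centralizer (Q : Set G) := by rw [hMdef]; exact inf_le_right
  have hQQ : Q ≤ Subgroup.centralizer (Q : Set G) := by
    rw [hQdef]; exact zpowers_le_centralizer_self b
  have hbQ : b ∈ Q := by rw [hQdef]; exact Subgroup.mem_zpowers b
  -- the normalizer condition
  have hH : M.subgroupOf L < ⊤ := by
    rw [lt_top_iff_ne_top, Ne, Subgroup.subgroupOf_eq_top]
    intro h
    exact hcon (h.trans hMQ)
  have hnc := Group.normalizerCondition_of_isNilpotent (G := ↥L) (M.subgroupOf L) hH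
  obtain ⟨z, hzN, hzH⟩ := SetLike.exists_of_lt hnc
  have hzM : (z : G) ∉ M := fun h => hzH (Subgroup.mem_subgroupOf.2 h)
  obtain ⟨N, hNdef⟩ : ∃ N : Subgroup G, N = L ⊓ Subgroup.normalizer (M : Set G) := ⟨_, rfl⟩
  have hNL : N ≤ L := by rw [hNdef]; exact inf_le_left
  have hNM : N ≤ Subgroup.normalizer (M : Set G) := by rw [hNdef]; exact inf_le_right
  have hzNn : (z : G) ∈ N := by
    rw [hNdef]
    refine ⟨z.2, ?_⟩
    show (z : G) ∈ Subgroup.normalizer (M : Set G)
    rw [Subgroup.mem_normalizer_iff]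
    intro m
    constructor
    · intro hm
      have := (Subgroup.mem_normalizer_iff.1 hzN ⟨m, hML hm⟩).1 (Subgroup.mem_subgroupOf.2 hm)
      exact Subgroup.mem_subgroupOf.1 this
    · intro hm
      have hmL : m ∈ L := by
        have h1 : (z : G)⁻¹ * ((z : G) * m * (z : G)⁻¹) * (z : G) ∈ L :=
          L.mul_mem (L.mul_mem (L.inv_mem z.2) (hML hm)) z.2
        have e : (z : G)⁻¹ * ((z : G) * m * (z : G)⁻¹) * (z : G) = m := by group
        rwa [e] at h1
      have := (Subgroup.mem_normalizer_iff.1 hzN ⟨m, hmL⟩).2 (Subgroup.mem_subgroupOf.2 hm)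
      exact Subgroup.mem_subgroupOf.1 this
  -- `Q` normalizes `N`
  have hbM : b ∈ Subgroup.normalizer (M : Set G) := by
    rw [hMdef]
    apply normalizer_inf_le
    exact ⟨hbL, normalizer_le_normalizer_centralizer' Q (Subgroup.le_normalizer hbQ)⟩
  have hbN : b ∈ Subgroup.normalizer (N : Set G) := by
    rw [hNdef]
    apply normalizer_inf_le
    exact ⟨hbL, Subgroup.le_normalizer hbM⟩
  have hQN : Q ≤ Subgroup.normalizer (N : Set G) := by
    rw [hQdef, Subgroup.zpowers_le]; exact hbN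
  -- coprimality
  have hQcard : Nat.card ↥Q ∣ 2 := by
    rw [hQdef, Nat.card_zpowers]
    exact orderOf_dvd_of_pow_eq_one (by rw [pow_two, hb])
  have hNodd : Odd (Nat.card ↥N) := by
    obtain ⟨c, hc⟩ := Subgroup.card_dvd_of_le hNL
    rw [hc] at hLodd
    exact (Nat.odd_mul.1 hLodd).1
  have hcop : (Nat.card ↥Q).Coprime (Nat.card ↥N) := by
    apply Nat.Coprime.coprime_dvd_left hQcard
    exact (Nat.coprime_two_left.2 hNodd)
  have hQsolv : Group.IsSolvable ↥Q := by
    have : IsCyclic ↥Q := by rw [hQdef]; infer_instance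
    have hc : IsMulCommutative ↥Q := inferInstance
    exact Group.isSolvable_of_comm (fun a b => isMulCommutative_iff.1 hc a b)
  have h27 := Cfsg.Agent.S0027.result Q N hQN hcop (Or.inl hQsolv)
  -- three subgroups
  have h1 : ⁅⁅Q, M⁆, N⁆ = ⊥ := by
    have : ⁅Q, M⁆ = ⊥ := by
      rw [Subgroup.commutator_comm, Subgroup.commutator_eq_bot_iff_le_centralizer]
      exact hMQ
    rw [this, Subgroup.commutator_bot_left]
  have h2 : ⁅⁅M, N⁆, Q⁆ = ⊥ := by
    rw [Subgroup.commutator_eq_bot_iff_le_centralizer]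
    refine le_trans ?_ hMQ
    exact Subgroup.le_normalizer_iff_commutator_le_left.1 hNM
  have h3 : ⁅⁅N, Q⁆, M⁆ = ⊥ := Subgroup.commutator_commutator_eq_bot_of_rotate h1 h2
  rw [Subgroup.commutator_eq_bot_iff_le_centralizer] at h3
  have hNQN : ⁅N, Q⁆ ≤ N := Subgroup.le_normalizer_iff_commutator_le_left.1 hQN
  have hxM : Subgroup.zpowers x ≤ M := by
    rw [Subgroup.zpowers_le, hMdef]
    refine ⟨hxL, hcent ⟨hxL, ?_⟩⟩
    show x ∈ Subgroup.centralizer ((Subgroup.zpowers x : Subgroup G) : Set G)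
    rw [mem_centralizer_zpowers]
  have h4 : ⁅N, Q⁆ ≤ Subgroup.centralizer (Q : Set G) := by
    refine le_trans ?_ hcent
    refine le_inf (hNQN.trans hNL) (h3.trans ?_)
    exact Subgroup.centralizer_le hxM
  have h5 : ⁅⁅N, Q⁆, Q⁆ = ⊥ := Subgroup.commutator_eq_bot_iff_le_centralizer.2 h4
  rw [h27, Subgroup.commutator_eq_bot_iff_le_centralizer] at h5
  exact hzM (by rw [hMdef]; exact ⟨z.2, h5 hzNn⟩)

lemma mem_centralizer_iff_le {b : G} {X : Subgroup G} :
    b ∈ Subgroup.centralizer (X : Set G) ↔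
      X ≤ Subgroup.centralizer ((Subgroup.zpowers b : Subgroup G) : Set G) := by
  constructor
  · intro h y hy
    show y ∈ Subgroup.centralizer ((Subgroup.zpowers b : Subgroup G) : Set G)
    rw [mem_centralizer_zpowers]
    exact (Subgroup.mem_centralizer_iff.1 h y hy).symm
  · intro h
    rw [Subgroup.mem_centralizer_iff]
    intro y hy
    have := h hy
    rw [mem_centralizer_zpowers] at this
    exact this.symm

section selection

variable [Finite G]

/-- an element of `A` acting nontrivially on `L` acts nontrivially on the fixed points of some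
hyperplane, which is then exactly the kernel of the action of `A` on these fixed points -/
theorem exists_hyperplane_moving (A L : Subgroup G) (hA : Cfsg.IsElementaryAbelian 2 A)
    (hAL : A ≤ Subgroup.normalizer (L : Set G)) (hLodd : Odd (Nat.card ↥L))
    (b₁ : G) (hb₁A : b₁ ∈ A) (hb₁ : b₁ ∉ Subgroup.centralizer (L : Set G)) :
    ∃ H : Subgroup G, H ≤ A ∧ H.relIndex A = 2 ∧ b₁ ∉ H ∧
      b₁ ∉ Subgroup.centralizer ((L ⊓ Subgroup.centralizer (H : Set G) : Subgroup G) : Set G) ∧
      ∀ b ∈ A,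
        b ∈ Subgroup.centralizer ((L ⊓ Subgroup.centralizer (H : Set G) : Subgroup G) : Set G) →
          b ∈ H := by
  have : Fact (Nat.Prime 2) := ⟨Nat.prime_two⟩
  have h2L : ¬ 2 ∣ Nat.card ↥L := by
    rw [← even_iff_two_dvd, Nat.not_even_iff_odd]; exact hLodd
  have hgen := Cfsg.Agent.H2.HyperGen.eq_hyperGen (p := 2) A L hA h2L hAL
  have hex : ∃ H : {B : Subgroup G // B ≤ A ∧ B.relIndex A ≤ 2},
      b₁ ∉ Subgroup.centralizer
        ((L ⊓ Subgroup.centralizer ((H : Subgroup G) : Set G) : Subgroup G) : Set G) := by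
    by_contra hcon
    push Not at hcon
    apply hb₁
    rw [mem_centralizer_iff_le, hgen]
    unfold Cfsg.Agent.H2.HyperGen.hyperGen
    apply iSup_le
    intro H
    exact mem_centralizer_iff_le.1 (hcon H)
  obtain ⟨⟨H, hHA, hHidx⟩, hH⟩ := hex
  have hHc : ∀ h ∈ H,
      h ∈ Subgroup.centralizer ((L ⊓ Subgroup.centralizer (H : Set G) : Subgroup G) : Set G) := by
    intro h hh
    rw [Subgroup.mem_centralizer_iff]
    intro y hy
    exact (Subgroup.mem_centralizer_iff.1 hy.2 h hh).symm
  have hb₁H : b₁ ∉ H := fun h => hH (hHc b₁ h)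
  obtain ⟨K, hKdef⟩ : ∃ K : Subgroup G, K = A ⊓
      Subgroup.centralizer ((L ⊓ Subgroup.centralizer (H : Set G) : Subgroup G) : Set G) :=
    ⟨_, rfl⟩
  have hHK : H ≤ K := by
    rw [hKdef]; exact le_inf hHA hHc
  have hKA : K ≤ A := by rw [hKdef]; exact inf_le_left
  have hmul := Subgroup.relIndex_mul_relIndex H K A hHK hKA
  have hKA1 : K.relIndex A ≠ 1 := by
    rw [Ne, Subgroup.relIndex_eq_one]
    intro h
    have := h hb₁A
    rw [hKdef] at this
    exact hH this.2
  have hKA0 : K.relIndex A ≠ 0 := Subgroup.index_ne_zero_of_finite (H := K.subgroupOf A)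
  have hHK0 : H.relIndex K ≠ 0 := Subgroup.index_ne_zero_of_finite (H := H.subgroupOf K)
  have hHK1 : H.relIndex K = 1 := by
    by_contra hne
    have h1 : 2 ≤ H.relIndex K := by omega
    have h2 : 2 ≤ K.relIndex A := by omega
    have : 4 ≤ H.relIndex K * K.relIndex A := by nlinarith
    omega
  have hKH : K ≤ H := Subgroup.relIndex_eq_one.1 hHK1
  have hHA1 : H.relIndex A ≠ 1 := by
    rw [Ne, Subgroup.relIndex_eq_one]
    intro h
    exact hb₁H (h hb₁A)
  have hHA0 : H.relIndex A ≠ 0 := Subgroup.index_ne_zero_of_finite (H := H.subgroupOf A)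
  refine ⟨H, hHA, by omega, hb₁H, hH, ?_⟩
  intro b hbA hb
  apply hKH
  rw [hKdef]
  exact ⟨hbA, hb⟩

/-- choice of the complement: there is `a' ∈ A \ B` such that `B` acts faithfully on the
centralizer of `a'` in `L` -/
theorem exists_good_complement (A L B : Subgroup G) (hA : Cfsg.IsElementaryAbelian 2 A)
    (hAL : A ≤ Subgroup.normalizer (L : Set G)) (hLodd : Odd (Nat.card ↥L))
    (hfaith : A ⊓ Subgroup.centralizer (L : Set G) = ⊥) (hBA : B ≤ A)
    (hB2 : B.relIndex A = 2) :
    ∃ a' ∈ A, a' ∉ B ∧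
      B ⊓ Subgroup.centralizer ((L ⊓ Subgroup.centralizer
        ((Subgroup.zpowers a' : Subgroup G) : Set G) : Subgroup G) : Set G) = ⊥ := by
  have key : ∀ k : ℕ, ∀ D : Subgroup G, D ≤ A →
      (∀ b ∈ A, b ∈ Subgroup.centralizer
        ((L ⊓ Subgroup.centralizer (D : Set G) : Subgroup G) : Set G) → b ∈ D) →
      ¬ D ≤ B → Nat.card ↥(D ⊓ B : Subgroup G) = k →
      ∃ D' : Subgroup G, D' ≤ A ∧
        (∀ b ∈ A, b ∈ Subgroup.centralizer
          ((L ⊓ Subgroup.centralizer (D' : Set G) : Subgroup G) : Set G) → b ∈ D') ∧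
        ¬ D' ≤ B ∧ D' ⊓ B = ⊥ := by
    intro k
    induction k using Nat.strong_induction_on with | _ k ih => ?_
    intro D hDA hQ hDB hk
    by_cases hbot : D ⊓ B = ⊥
    · exact ⟨D, hDA, hQ, hDB, hbot⟩
    obtain ⟨b₁, hb₁DB, hb₁1⟩ : ∃ b₁ : G, b₁ ∈ D ⊓ B ∧ b₁ ≠ 1 := by
      obtain ⟨b, hb⟩ := (Subgroup.ne_bot_iff_exists_ne_one).1 hbot
      exact ⟨(b : G), b.2, fun h => hb (Subtype.ext h)⟩
    have hb₁A : b₁ ∈ A := hDA hb₁DB.1
    have hb₁L : b₁ ∉ Subgroup.centralizer (L : Set G) := by
      intro h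
      have : b₁ ∈ A ⊓ Subgroup.centralizer (L : Set G) := ⟨hb₁A, h⟩
      rw [hfaith, Subgroup.mem_bot] at this
      exact hb₁1 this
    obtain ⟨H, hHA, hH2, hb₁H, -, hHker⟩ := exists_hyperplane_moving A L hA hAL hLodd b₁ hb₁A hb₁L
    have hlt : Nat.card ↥(D ⊓ H ⊓ B : Subgroup G) < k := by
      by_contra hge
      push Not at hge
      have hle : D ⊓ H ⊓ B ≤ D ⊓ B := inf_le_inf_right _ inf_le_left
      have := Subgroup.eq_of_le_of_card_ge hle (by rw [hk]; exact hge)
      have h1 : b₁ ∈ D ⊓ H ⊓ B := by rw [this]; exact hb₁DB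
      exact hb₁H h1.1.2
    refine ih _ hlt (D ⊓ H) (inf_le_left.trans hDA) ?_ ?_ rfl
    · intro b hbA hb
      refine ⟨hQ b hbA ?_, hHker b hbA ?_⟩
      · refine Subgroup.centralizer_le ?_ hb
        intro y hy
        exact ⟨hy.1, Subgroup.centralizer_le (show ((D ⊓ H : Subgroup G) : Set G) ⊆ (D : Set G)
          from fun z hz => hz.1) hy.2⟩
      · refine Subgroup.centralizer_le ?_ hb
        intro y hy
        exact ⟨hy.1, Subgroup.centralizer_le (show ((D ⊓ H : Subgroup G) : Set G) ⊆ (H : Set G)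
          from fun z hz => hz.2) hy.2⟩
    · obtain ⟨d, hdD, hdB⟩ := SetLike.not_le_iff_exists.1 hDB
      by_cases hdH : d ∈ H
      · exact fun h => hdB (h ⟨hdD, hdH⟩)
      · have hidx : (H.subgroupOf A).index = 2 := hH2
        have h1 := Subgroup.mul_mem_iff_of_index_two hidx
          (a := (⟨d, hDA hdD⟩ : ↥A)) (b := (⟨b₁, hb₁A⟩ : ↥A))
        have h2 : (⟨d, hDA hdD⟩ : ↥A) * ⟨b₁, hb₁A⟩ ∈ H.subgroupOf A := by
          rw [h1]
          constructor
          · intro h; exact absurd (Subgroup.mem_subgroupOf.1 h) hdH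
          · intro h; exact absurd (Subgroup.mem_subgroupOf.1 h) hb₁H
        have h3 : d * b₁ ∈ H := Subgroup.mem_subgroupOf.1 h2
        intro h
        have h4 : d * b₁ ∈ B := h ⟨D.mul_mem hdD hb₁DB.1, h3⟩
        have h5 : d * b₁ * b₁⁻¹ ∈ B := B.mul_mem h4 (B.inv_mem hb₁DB.2)
        rw [mul_inv_cancel_right] at h5
        exact hdB h5
  have hAB : ¬ A ≤ B := by
    intro h
    have := Subgroup.relIndex_eq_one.2 h
    omega
  obtain ⟨D', hD'A, hQ', hD'B, hD'bot⟩ := key _ A le_rfl (fun b hb _ => hb) hAB rfl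
  obtain ⟨a', ha'D, ha'B⟩ := SetLike.not_le_iff_exists.1 hD'B
  refine ⟨a', hD'A ha'D, ha'B, ?_⟩
  rw [eq_bot_iff]
  intro b hb
  rw [Subgroup.mem_bot]
  have hbD' : b ∈ D' := by
    apply hQ' b (hBA hb.1)
    refine Subgroup.centralizer_le ?_ hb.2
    intro y hy
    refine ⟨hy.1, Subgroup.centralizer_le ?_ hy.2⟩
    intro z hz
    exact (Subgroup.zpowers_le.2 ha'D) hz
  have : b ∈ D' ⊓ B := ⟨hbD', hb.1⟩
  rw [hD'bot, Subgroup.mem_bot] at this
  exact this

end selection

section core

variable [Finite G]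

omit [Finite G] in
lemma isNilpotent_of_le {H K : Subgroup G} (h : H ≤ K) (hK : Group.IsNilpotent ↥K) :
    Group.IsNilpotent ↥H := by
  have : Group.IsNilpotent ↥(H.subgroupOf K) := inferInstance
  exact Group.nilpotent_of_mulEquiv (Subgroup.subgroupOfEquivOfLe h)

omit [Finite G] in
lemma odd_card_of_le {H K : Subgroup G} (h : H ≤ K) (hK : Odd (Nat.card ↥K)) :
    Odd (Nat.card ↥H) := by
  obtain ⟨c, hc⟩ := Subgroup.card_dvd_of_le h
  rw [hc] at hK
  exact (Nat.odd_mul.1 hK).1

omit [Finite G] in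
lemma elementaryAbelian_of_le {A B : Subgroup G} (hA : Cfsg.IsElementaryAbelian 2 A) (hBA : B ≤ A) :
    Cfsg.IsElementaryAbelian 2 B := by
  refine ⟨⟨⟨fun a b => ?_⟩⟩, fun b hb => hA.2 b (hBA hb)⟩
  have := isMulCommutative_iff.1 hA.1 ⟨a, hBA a.2⟩ ⟨b, hBA b.2⟩
  apply Subtype.ext
  show (a : G) * (b : G) = (b : G) * (a : G)
  exact congrArg Subtype.val this

omit [Finite G] in
lemma comm_of_elementaryAbelian {A : Subgroup G} (hA : Cfsg.IsElementaryAbelian 2 A) {a b : G}
    (ha : a ∈ A) (hb : b ∈ A) : a * b = b * a := by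
  have := isMulCommutative_iff.1 hA.1 ⟨a, ha⟩ ⟨b, hb⟩
  exact congrArg Subtype.val this

omit [Finite G] in
lemma mul_self_of_elementaryAbelian {A : Subgroup G} (hA : Cfsg.IsElementaryAbelian 2 A) {a : G}
    (ha : a ∈ A) : a * a = 1 := by
  rw [← pow_two]; exact hA.2 a ha

omit [Finite G] in
/-- a subgroup strictly between... : an index-two subgroup is maximal -/
lemma eq_of_relIndex_two {B K A : Subgroup G} (hBK : B ≤ K) (hKA : K ≤ A)
    (hB2 : B.relIndex A = 2) (hne : ¬ K ≤ B) : A ≤ K := by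
  have hmul := Subgroup.relIndex_mul_relIndex B K A hBK hKA
  have h1 : B.relIndex K ≠ 1 := by
    rw [Ne, Subgroup.relIndex_eq_one]; exact hne
  rw [← Subgroup.relIndex_eq_one]
  have h0 : B.relIndex K ≠ 0 := by
    intro h; rw [h, zero_mul] at hmul; omega
  have h0' : K.relIndex A ≠ 0 := by
    intro h; rw [h, mul_zero] at hmul; omega
  by_contra hne1
  have h2 : 2 ≤ B.relIndex K := by omega
  have h3 : 2 ≤ K.relIndex A := by omega
  have : 4 ≤ B.relIndex K * K.relIndex A := by nlinarith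
  omega

/-- The Thompson dihedral lemma, element form, for nilpotent `L`. -/
theorem core : ∀ d : ℕ, ∀ A L : Subgroup G, Group.IsNilpotent ↥L → Odd (Nat.card ↥L) →
    Cfsg.IsElementaryAbelian 2 A → Nat.card ↥A = 2 ^ d →
    A ≤ Subgroup.normalizer (L : Set G) → A ⊓ Subgroup.centralizer (L : Set G) = ⊥ →
    ∃ a x : Fin d → G, (∀ i, a i ∈ A) ∧ (∀ i, x i ∈ L) ∧ (∀ i, (orderOf (x i)).Prime) ∧
      (∀ i, a i * x i * (a i)⁻¹ = (x i)⁻¹) ∧ (∀ i j, i ≠ j → a j * x i = x i * a j) ∧
      (∀ i j, i ≠ j → x i * x j = x j * x i) ∧ Subgroup.closure (Set.range a) = A ∧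
      (∀ b ∈ A, (∀ i, b * x i = x i * b) → b = 1) := by
  intro d
  induction d with
  | zero =>
    intro A L _ _ _ hcard _ _
    have hA : A = ⊥ := by
      rw [pow_zero] at hcard
      exact Subgroup.card_eq_one.1 hcard
    refine ⟨fun i => i.elim0, fun i => i.elim0, fun i => i.elim0, fun i => i.elim0,
      fun i => i.elim0, fun i => i.elim0, fun i => i.elim0, fun i => i.elim0, ?_, ?_⟩
    · rw [hA, Set.range_eq_empty, Subgroup.closure_empty]
    · intro b hb _
      rw [hA, Subgroup.mem_bot] at hb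
      exact hb
  | succ d ih =>
    intro A L hLn hLodd hA hcard hAL hfaith
    have h2L : ¬ 2 ∣ Nat.card ↥L := by
      rw [← even_iff_two_dvd, Nat.not_even_iff_odd]; exact hLodd
    -- a nontrivial element of `A`
    have hAne : A ≠ ⊥ := by
      intro h
      rw [h, Subgroup.card_bot] at hcard
      have : 2 ≤ 2 ^ (d + 1) := by
        calc 2 = 2 ^ 1 := by norm_num
          _ ≤ 2 ^ (d + 1) := Nat.pow_le_pow_right (by norm_num) (by omega)
      omega
    obtain ⟨b₀, hb₀A, hb₀1⟩ : ∃ b₀ : G, b₀ ∈ A ∧ b₀ ≠ 1 := by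
      obtain ⟨b, hb⟩ := (Subgroup.ne_bot_iff_exists_ne_one).1 hAne
      exact ⟨(b : G), b.2, fun h => hb (Subtype.ext h)⟩
    have hb₀L : b₀ ∉ Subgroup.centralizer (L : Set G) := by
      intro h
      have : b₀ ∈ A ⊓ Subgroup.centralizer (L : Set G) := ⟨hb₀A, h⟩
      rw [hfaith, Subgroup.mem_bot] at this
      exact hb₀1 this
    obtain ⟨B, hBA, hB2, hb₀B, hb₀mov, -⟩ :=
      exists_hyperplane_moving A L hA hAL hLodd b₀ hb₀A hb₀L
    have hb₀sq : b₀ * b₀ = 1 := mul_self_of_elementaryAbelian hA hb₀A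
    -- an inverted element
    have hACB : A ≤ Subgroup.centralizer (B : Set G) := by
      intro c hc
      rw [Subgroup.mem_centralizer_iff]
      intro e he
      exact comm_of_elementaryAbelian hA (hBA he) hc
    obtain ⟨y, hy, hyb⟩ : ∃ y ∈ L ⊓ Subgroup.centralizer (B : Set G), y * b₀ ≠ b₀ * y := by
      by_contra hcon
      push Not at hcon
      apply hb₀mov
      rw [Subgroup.mem_centralizer_iff]
      exact hcon
    obtain ⟨x₀, hx₀def⟩ : ∃ x₀ : G, x₀ = y⁻¹ * (b₀ * y * b₀⁻¹) := ⟨_, rfl⟩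
    have hx₀mem : x₀ ∈ L ⊓ Subgroup.centralizer (B : Set G) := by
      rw [hx₀def]
      refine (L ⊓ Subgroup.centralizer (B : Set G)).mul_mem
        ((L ⊓ Subgroup.centralizer (B : Set G)).inv_mem hy) ⟨?_, ?_⟩
      · exact conj_mem_of_le_normalizer hAL hb₀A hy.1
      · exact (Subgroup.centralizer (B : Set G)).mul_mem
          ((Subgroup.centralizer (B : Set G)).mul_mem (hACB hb₀A) hy.2)
          ((Subgroup.centralizer (B : Set G)).inv_mem (hACB hb₀A))
    have hx₀1 : x₀ ≠ 1 := by
      intro h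
      rw [hx₀def, inv_mul_eq_one] at h
      apply hyb
      conv_lhs => rw [h]
      group
    have hx₀inv : b₀ * x₀ * b₀⁻¹ = x₀⁻¹ := by
      rw [hx₀def]; exact inverted_of_involution hb₀sq y
    -- an inverted element of prime order
    have hn1 : orderOf x₀ ≠ 1 := by
      rw [Ne, orderOf_eq_one_iff]; exact hx₀1
    have hn0 : orderOf x₀ ≠ 0 := (orderOf_pos x₀).ne'
    obtain ⟨p, hpdef⟩ : ∃ p : ℕ, p = (orderOf x₀).minFac := ⟨_, rfl⟩
    have hpp : p.Prime := by rw [hpdef]; exact Nat.minFac_prime hn1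
    have hpdvd : p ∣ orderOf x₀ := by rw [hpdef]; exact Nat.minFac_dvd _
    obtain ⟨x, hxdef⟩ : ∃ x : G, x = x₀ ^ (orderOf x₀ / p) := ⟨_, rfl⟩
    have hxord : orderOf x = p := by
      rw [hxdef]; exact orderOf_pow_orderOf_div hn0 hpdvd
    have hxmem : x ∈ L ⊓ Subgroup.centralizer (B : Set G) := by
      rw [hxdef]; exact (L ⊓ Subgroup.centralizer (B : Set G)).pow_mem hx₀mem _
    have hxinv : b₀ * x * b₀⁻¹ = x⁻¹ := by
      rw [hxdef]; exact inverted_pow hx₀inv _
    have hxL : x ∈ L := hxmem.1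
    have hp2 : p ≠ 2 := by
      intro h
      apply h2L
      rw [← h, ← hxord]
      have := orderOf_dvd_natCard (⟨x, hxL⟩ : ↥L)
      rwa [Subgroup.orderOf_mk] at this
    have hxne : x ≠ x⁻¹ := by
      intro h
      have h1 : x ^ 2 = 1 := by
        rw [pow_two]
        nth_rewrite 2 [h]
        exact mul_inv_cancel x
      have h2 : p ∣ 2 := by rw [← hxord]; exact orderOf_dvd_of_pow_eq_one h1
      exact hp2 ((Nat.prime_dvd_prime_iff_eq hpp Nat.prime_two).1 h2)
    have hBx : ∀ e ∈ B, e * x = x * e := by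
      intro e he
      exact (Subgroup.mem_centralizer_iff.1 hxmem.2 e he)
    -- every element of `A` outside `B` inverts `x`
    have hidx : (B.subgroupOf A).index = 2 := hB2
    have hinvall : ∀ c ∈ A, c ∉ B → c * x * c⁻¹ = x⁻¹ := by
      intro c hcA hcB
      have h1 := Subgroup.mul_mem_iff_of_index_two hidx
        (a := (⟨c, hcA⟩ : ↥A)) (b := (⟨b₀, hb₀A⟩ : ↥A))
      have h2 : (⟨c, hcA⟩ : ↥A) * ⟨b₀, hb₀A⟩ ∈ B.subgroupOf A := by
        rw [h1]
        constructor
        · intro h; exact absurd (Subgroup.mem_subgroupOf.1 h) hcB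
        · intro h; exact absurd (Subgroup.mem_subgroupOf.1 h) hb₀B
      have h3 : c * b₀ ∈ B := Subgroup.mem_subgroupOf.1 h2
      have h4 := hBx _ h3
      have hb₀i : b₀⁻¹ = b₀ := inv_eq_self_of_mul_self hb₀sq
      calc c * x * c⁻¹ = (c * b₀) * (b₀ * x * b₀⁻¹) * (c * b₀)⁻¹ := by
            have : (c * b₀) * (b₀ * x * b₀⁻¹) * (c * b₀)⁻¹ = c * (b₀ * b₀) * x * (b₀⁻¹ * b₀⁻¹) * c⁻¹ := by
              group
            rw [this, hb₀i, hb₀sq]; group
        _ = (c * b₀) * x⁻¹ * (c * b₀)⁻¹ := by rw [hxinv]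
        _ = x⁻¹ := by
            have h5 : (c * b₀) * x⁻¹ = x⁻¹ * (c * b₀) := by
              have : Commute (c * b₀) x := h4
              exact this.inv_right.eq
            rw [h5]; group
    -- the centralizer of `x`
    have hAx : A ≤ Subgroup.normalizer ((Subgroup.zpowers x : Subgroup G) : Set G) := by
      apply le_normalizer_of_conj_mem
      intro c hc u hu
      obtain ⟨k, rfl⟩ := Subgroup.mem_zpowers_iff.1 hu
      rw [← conj_zpow]
      apply Subgroup.zpow_mem
      by_cases hcB : c ∈ B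
      · have : c * x * c⁻¹ = x := by rw [hBx c hcB]; group
        rw [this]; exact Subgroup.mem_zpowers x
      · rw [hinvall c hc hcB]
        exact Subgroup.inv_mem _ (Subgroup.mem_zpowers x)
    obtain ⟨L', hL'def⟩ : ∃ L' : Subgroup G,
        L' = L ⊓ Subgroup.centralizer ((Subgroup.zpowers x : Subgroup G) : Set G) := ⟨_, rfl⟩
    have hL'L : L' ≤ L := by rw [hL'def]; exact inf_le_left
    have hxL' : x ∈ L' := by
      rw [hL'def]
      refine ⟨hxL, ?_⟩
      show x ∈ Subgroup.centralizer ((Subgroup.zpowers x : Subgroup G) : Set G)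
      rw [mem_centralizer_zpowers]
    have hAL' : A ≤ Subgroup.normalizer (L' : Set G) := by
      rw [hL'def]
      refine le_trans ?_ (normalizer_inf_le _ _)
      exact le_inf hAL (hAx.trans (normalizer_le_normalizer_centralizer' _))
    have hL'n : Group.IsNilpotent ↥L' := isNilpotent_of_le hL'L hLn
    have hL'odd : Odd (Nat.card ↥L') := odd_card_of_le hL'L hLodd
    have hfaith' : A ⊓ Subgroup.centralizer (L' : Set G) = ⊥ := by
      rw [eq_bot_iff]
      intro b hb
      rw [Subgroup.mem_bot]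
      have hbsq : b * b = 1 := mul_self_of_elementaryAbelian hA hb.1
      have h1 := le_centralizer_of_nilpotent L hLn hLodd b x hbsq (hAL hb.1) hxL
        (by rw [← hL'def]; exact mem_centralizer_iff_le.1 hb.2)
      have h2 : b ∈ A ⊓ Subgroup.centralizer (L : Set G) := ⟨hb.1, mem_centralizer_iff_le.2 h1⟩
      rw [hfaith, Subgroup.mem_bot] at h2
      exact h2
    -- the complement
    obtain ⟨a', ha'A, ha'B, hgood⟩ :=
      exists_good_complement A L' B hA hAL' hL'odd hfaith' hBA hB2
    obtain ⟨L'', hL''def⟩ : ∃ L'' : Subgroup G,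
        L'' = L' ⊓ Subgroup.centralizer ((Subgroup.zpowers a' : Subgroup G) : Set G) := ⟨_, rfl⟩
    rw [← hL''def] at hgood
    have hL''L' : L'' ≤ L' := by rw [hL''def]; exact inf_le_left
    have hBcard : Nat.card ↥B = 2 ^ d := by
      have h1 := (B.subgroupOf A).card_mul_index
      rw [hidx, Nat.card_congr (Subgroup.subgroupOfEquivOfLe hBA).toEquiv, hcard, pow_succ] at h1
      exact Nat.eq_of_mul_eq_mul_right (by norm_num) h1
    have hBa' : B ≤ Subgroup.normalizer ((Subgroup.zpowers a' : Subgroup G) : Set G) := by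
      refine le_trans ?_ (Subgroup.centralizer_le_normalizer _)
      intro e he
      show e ∈ Subgroup.centralizer ((Subgroup.zpowers a' : Subgroup G) : Set G)
      rw [mem_centralizer_zpowers]
      exact comm_of_elementaryAbelian hA ha'A (hBA he)
    have hBL'' : B ≤ Subgroup.normalizer (L'' : Set G) := by
      rw [hL''def]
      refine le_trans ?_ (normalizer_inf_le _ _)
      exact le_inf (hBA.trans hAL') (hBa'.trans (normalizer_le_normalizer_centralizer' _))
    obtain ⟨a, xs, h1, h2, h3, h4, h5, h6, h7, h8⟩ :=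
      ih B L'' (isNilpotent_of_le hL''L' hL'n) (odd_card_of_le hL''L' hL'odd)
        (elementaryAbelian_of_le hA hBA) hBcard hBL'' hgood
    have hxs : ∀ i, a' * xs i = xs i * a' ∧ x * xs i = xs i * x := by
      intro i
      have hi := h2 i
      rw [hL''def] at hi
      have hi1 : xs i ∈ L' := hi.1
      rw [hL'def] at hi1
      exact ⟨mem_centralizer_zpowers.1 hi.2, mem_centralizer_zpowers.1 hi1.2⟩
    refine ⟨Fin.cons a' a, Fin.cons x xs, ?_, ?_, ?_, ?_, ?_, ?_, ?_, ?_⟩
    · intro i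
      refine Fin.cases ?_ (fun j => ?_) i
      · rw [Fin.cons_zero]; exact ha'A
      · rw [Fin.cons_succ]; exact hBA (h1 j)
    · intro i
      refine Fin.cases ?_ (fun j => ?_) i
      · rw [Fin.cons_zero]; exact hxL
      · rw [Fin.cons_succ]; exact hL'L (hL''L' (h2 j))
    · intro i
      refine Fin.cases ?_ (fun j => ?_) i
      · rw [Fin.cons_zero, hxord]; exact hpp
      · rw [Fin.cons_succ]; exact h3 j
    · intro i
      refine Fin.cases ?_ (fun j => ?_) i
      · rw [Fin.cons_zero, Fin.cons_zero]; exact hinvall a' ha'A ha'B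
      · rw [Fin.cons_succ, Fin.cons_succ]; exact h4 j
    · intro i
      refine Fin.cases ?_ (fun i' => ?_) i
      · intro j
        refine Fin.cases ?_ (fun j' => ?_) j
        · intro h; exact absurd rfl h
        · intro _
          rw [Fin.cons_zero, Fin.cons_succ]
          exact hBx _ (h1 j')
      · intro j
        refine Fin.cases ?_ (fun j' => ?_) j
        · intro _
          rw [Fin.cons_zero, Fin.cons_succ]
          exact (hxs i').1
        · intro h
          rw [Fin.cons_succ, Fin.cons_succ]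
          exact h5 i' j' (fun e => h (by rw [e]))
    · intro i
      refine Fin.cases ?_ (fun i' => ?_) i
      · intro j
        refine Fin.cases ?_ (fun j' => ?_) j
        · intro h; exact absurd rfl h
        · intro _
          rw [Fin.cons_zero, Fin.cons_succ]
          exact (hxs j').2
      · intro j
        refine Fin.cases ?_ (fun j' => ?_) j
        · intro _
          rw [Fin.cons_zero, Fin.cons_succ]
          exact ((hxs i').2).symm
        · intro h
          rw [Fin.cons_succ, Fin.cons_succ]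
          exact h6 i' j' (fun e => h (by rw [e]))
    · rw [Fin.range_cons]
      apply le_antisymm
      · rw [Subgroup.closure_le]
        intro g hg
        rcases hg with rfl | ⟨j, rfl⟩
        · exact ha'A
        · exact hBA (h1 j)
      · apply eq_of_relIndex_two (B := B) _ _ hB2
        · intro h
          exact ha'B (h (Subgroup.subset_closure (Set.mem_insert _ _)))
        · rw [← h7]
          exact Subgroup.closure_mono (Set.subset_insert _ _)
        · rw [Subgroup.closure_le]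
          intro g hg
          rcases hg with rfl | ⟨j, rfl⟩
          · exact ha'A
          · exact hBA (h1 j)
    · intro b hbA hb
      have hb0 := hb 0
      rw [Fin.cons_zero] at hb0
      have hbB : b ∈ B := by
        by_contra hbB
        have := hinvall b hbA hbB
        rw [hb0] at this
        apply hxne
        rw [← this]; group
      apply h8 b hbB
      intro i
      have := hb i.succ
      rwa [Fin.cons_succ] at this

end core

section solvable

variable [Finite G]

/-- an involution acting on a solvable group of odd order and centralizing its Fitting subgroup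
centralizes the group -/
theorem mem_centralizer_of_centralizes_fitting (L : Subgroup G) (hLs : Group.IsSolvable ↥L)
    (hLodd : Odd (Nat.card ↥L)) (b : G) (hb : b * b = 1)
    (hbL : b ∈ Subgroup.normalizer (L : Set G))
    (hbF : b ∈ Subgroup.centralizer
      (((Cfsg.fittingSubgroup ↥L).map L.subtype : Subgroup G) : Set G)) :
    b ∈ Subgroup.centralizer (L : Set G) := by
  obtain ⟨σ, hσdef⟩ : ∃ σ : MulAut ↥L, σ = L.normalizerMonoidHom ⟨b, hbL⟩ := ⟨_, rfl⟩
  have hσapp : ∀ y : ↥L, ((σ y : ↥L) : G) = b * y * b⁻¹ := by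
    intro y; rw [hσdef]; rfl
  have hσ2 : σ ^ 2 = 1 := by
    rw [hσdef, ← map_pow]
    have : (⟨b, hbL⟩ : ↥(Subgroup.normalizer (L : Set G))) ^ 2 = 1 := by
      apply Subtype.ext
      show b ^ 2 = 1
      rw [pow_two, hb]
    rw [this, map_one]
  have hcop : (orderOf σ).Coprime (Nat.card ↥L) := by
    apply Nat.Coprime.coprime_dvd_left (orderOf_dvd_of_pow_eq_one hσ2)
    exact Nat.coprime_two_left.2 hLodd
  have hσF : ∀ y ∈ Cfsg.fittingSubgroup ↥L, σ y = y := by
    intro y hy
    apply Subtype.ext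
    rw [hσapp]
    have h1 : (y : G) ∈ (Cfsg.fittingSubgroup ↥L).map L.subtype := ⟨y, hy, rfl⟩
    have h2 := Subgroup.mem_centralizer_iff.1 hbF _ h1
    rw [← h2]; group
  have hσ1 : σ = MulEquiv.refl ↥L := by
    by_contra hne
    exact Cfsg.Agent.S0552.result σ hσF hne hcop
  rw [Subgroup.mem_centralizer_iff]
  intro y hy
  have h1 := hσapp ⟨y, hy⟩
  rw [hσ1] at h1
  have h2 : y = b * y * b⁻¹ := h1
  conv_lhs => rw [h2]
  group

/-- The Thompson dihedral lemma, element form, for solvable `L` of odd order. -/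
theorem core_solvable (d : ℕ) (A L : Subgroup G) (hLs : Group.IsSolvable ↥L)
    (hLodd : Odd (Nat.card ↥L)) (hA : Cfsg.IsElementaryAbelian 2 A) (hcard : Nat.card ↥A = 2 ^ d)
    (hAL : A ≤ Subgroup.normalizer (L : Set G))
    (hfaith : A ⊓ Subgroup.centralizer (L : Set G) = ⊥) :
    ∃ a x : Fin d → G, (∀ i, a i ∈ A) ∧ (∀ i, x i ∈ L) ∧ (∀ i, (orderOf (x i)).Prime) ∧
      (∀ i, a i * x i * (a i)⁻¹ = (x i)⁻¹) ∧ (∀ i j, i ≠ j → a j * x i = x i * a j) ∧
      (∀ i j, i ≠ j → x i * x j = x j * x i) ∧ Subgroup.closure (Set.range a) = A ∧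
      (∀ b ∈ A, (∀ i, b * x i = x i * b) → b = 1) := by
  obtain ⟨F, hFdef⟩ : ∃ F : Subgroup G, F = (Cfsg.fittingSubgroup ↥L).map L.subtype := ⟨_, rfl⟩
  have hFL : F ≤ L := by rw [hFdef]; exact Subgroup.map_subtype_le _
  have hFn : Group.IsNilpotent ↥F := by
    have h1 : Group.IsNilpotent ↥(Cfsg.fittingSubgroup ↥L) :=
      Cfsg.Agent.H1.fittingSubgroup_nilpotent
    rw [hFdef]
    exact Group.nilpotent_of_mulEquiv
      ((Cfsg.fittingSubgroup ↥L).equivMapOfInjective L.subtype L.subtype_injective)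
  have hAF : A ≤ Subgroup.normalizer (F : Set G) := by
    rw [hFdef]
    exact hAL.trans (Cfsg.Agent.H2.normalizer_le_normalizer_fittingSubgroup L)
  have hfaithF : A ⊓ Subgroup.centralizer (F : Set G) = ⊥ := by
    rw [eq_bot_iff]
    intro b hb
    rw [Subgroup.mem_bot]
    have h1 := mem_centralizer_of_centralizes_fitting L hLs hLodd b
      (mul_self_of_elementaryAbelian hA hb.1) (hAL hb.1) (by rw [← hFdef]; exact hb.2)
    have h2 : b ∈ A ⊓ Subgroup.centralizer (L : Set G) := ⟨hb.1, h1⟩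
    rw [hfaith, Subgroup.mem_bot] at h2
    exact h2
  obtain ⟨a, x, h1, h2, h3, h4, h5, h6, h7, h8⟩ :=
    core d A F hFn (odd_card_of_le hFL hLodd) hA hcard hAF hfaithF
  exact ⟨a, x, h1, fun i => hFL (h2 i), h3, h4, h5, h6, h7, h8⟩

end solvable

section consequences

variable [Finite G]

omit [Finite G] in
/-- consequences of the configuration produced by `core` -/
theorem orderOf_a_eq_two {A L : Subgroup G} (hLodd : Odd (Nat.card ↥L))
    (hA : Cfsg.IsElementaryAbelian 2 A) {a x : G} (haA : a ∈ A) (hxL : x ∈ L)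
    (hx : (orderOf x).Prime) (hinv : a * x * a⁻¹ = x⁻¹) : orderOf a = 2 ∧ orderOf x ≠ 2 := by
  have h2L : ¬ 2 ∣ Nat.card ↥L := by
    rw [← even_iff_two_dvd, Nat.not_even_iff_odd]; exact hLodd
  have hx2 : orderOf x ≠ 2 := by
    intro h
    apply h2L
    rw [← h]
    have := orderOf_dvd_natCard (⟨x, hxL⟩ : ↥L)
    rwa [Subgroup.orderOf_mk] at this
  refine ⟨?_, hx2⟩
  have : Fact (Nat.Prime 2) := ⟨Nat.prime_two⟩
  apply orderOf_eq_prime
  · rw [pow_two]; exact mul_self_of_elementaryAbelian hA haA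
  · intro h
    rw [h, one_mul, inv_one, mul_one] at hinv
    have h1 : x ^ 2 = 1 := by
      rw [pow_two]
      nth_rewrite 2 [hinv]
      exact mul_inv_cancel x
    have h2 : orderOf x ∣ 2 := orderOf_dvd_of_pow_eq_one h1
    exact hx2 ((Nat.prime_dvd_prime_iff_eq hx Nat.prime_two).1 h2)

/-- the dihedral group generated by an involution and an element it inverts -/
theorem nonempty_dihedral {a x : G} (ha : orderOf a = 2) (hx1 : x ≠ 1) (hx2 : orderOf x ≠ 2)
    (hinv : a * x * a⁻¹ = x⁻¹) :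
    Nonempty (↥(Subgroup.zpowers a ⊔ Subgroup.zpowers x : Subgroup G) ≃*
      DihedralGroup (orderOf x)) := by
  have haa : a * a = 1 := by
    rw [← pow_two, ← ha]; exact pow_orderOf_eq_one a
  have hai : a⁻¹ = a := inv_eq_self_of_mul_self haa
  have hax2 : (a * x) * (a * x) = 1 := by
    have : (a * x) * (a * x) = (a * x * a⁻¹) * (a * a) * x := by group
    rw [this, hinv, haa]; group
  have hax1 : a * x ≠ 1 := by
    intro h
    have h1 : x = a⁻¹ := eq_inv_of_mul_eq_one_right h
    rw [hai] at h1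
    exact hx2 (by rw [h1]; exact ha)
  have : Fact (Nat.Prime 2) := ⟨Nat.prime_two⟩
  have hax : orderOf (a * x) = 2 := orderOf_eq_prime (by rw [pow_two]; exact hax2) hax1
  have hne : a ≠ a * x := by
    intro h
    apply hx1
    have : a * 1 = a * x := by rw [mul_one]; exact h
    exact (mul_left_cancel this).symm
  obtain ⟨e⟩ := Cfsg.Agent.S0206.result a (a * x) ha hax hne
  have hprod : a * (a * x) = x := by rw [← mul_assoc, haa, one_mul]
  rw [hprod] at e
  have hcl : Subgroup.closure ({a, a * x} : Set G) = Subgroup.zpowers a ⊔ Subgroup.zpowers x := by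
    apply le_antisymm
    · rw [Subgroup.closure_le]
      intro g hg
      rcases hg with rfl | hg
      · exact (le_sup_left : Subgroup.zpowers g ≤ _) (Subgroup.mem_zpowers g)
      · rw [Set.mem_singleton_iff] at hg
        rw [hg]
        exact Subgroup.mul_mem _
          ((le_sup_left : Subgroup.zpowers a ≤ _) (Subgroup.mem_zpowers a))
          ((le_sup_right : Subgroup.zpowers x ≤ _) (Subgroup.mem_zpowers x))
    · apply sup_le
      · rw [Subgroup.zpowers_le]
        exact Subgroup.subset_closure (Set.mem_insert _ _)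
      · rw [Subgroup.zpowers_le]
        have h1 : a ∈ Subgroup.closure ({a, a * x} : Set G) :=
          Subgroup.subset_closure (Set.mem_insert _ _)
        have h2 : a * x ∈ Subgroup.closure ({a, a * x} : Set G) :=
          Subgroup.subset_closure (Set.mem_insert_of_mem _ rfl)
        have h3 := Subgroup.mul_mem _ (Subgroup.inv_mem _ h1) h2
        rwa [inv_mul_cancel_left] at h3
  exact ⟨(MulEquiv.subgroupCongr hcl.symm).trans e⟩

omit [Finite G] in
/-- an involution inverting or centralizing `x` normalizes `⟨x⟩` -/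
theorem mem_normalizer_zpowers {c x : G} (hc : c * c = 1)
    (h : c * x * c⁻¹ ∈ Subgroup.zpowers x) :
    c ∈ Subgroup.normalizer ((Subgroup.zpowers x : Subgroup G) : Set G) := by
  have key : ∀ u ∈ Subgroup.zpowers x, c * u * c⁻¹ ∈ Subgroup.zpowers x := by
    intro u hu
    obtain ⟨k, rfl⟩ := Subgroup.mem_zpowers_iff.1 hu
    rw [← conj_zpow]
    exact Subgroup.zpow_mem _ h _
  rw [Subgroup.mem_normalizer_iff]
  intro u
  refine ⟨key u, fun hu => ?_⟩
  have := key _ hu
  have hci : c⁻¹ = c := inv_eq_self_of_mul_self hc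
  have e : c * (c * u * c⁻¹) * c⁻¹ = (c * c) * u * (c⁻¹ * c⁻¹) := by group
  rw [e, hci, hc, one_mul, mul_one] at this
  exact this

end consequences

end Cfsg.Agent.H2.DihedralLemma
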