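import Mathlib
import Cfsg.Prelude.Def_Local
import Cfsg.Agent.S0027
import Cfsg.Agent.S0028
import Cfsg.Agent.H1.Cores
import Cfsg.Agent.H2.Components
import Cfsg.Agent.H2.Layer
import Cfsg.Agent.H2.Equivariant
import Cfsg.Agent.H2.LocalFStar
import Cfsg.Agent.H2.LocalLayer
import Cfsg.Agent.H2.EqualOrderSylow
import Cfsg.Agent.H2.DihedralLemma

/-!
# Bender's lemma on maximal subgroups (helper2)

`A` a maximal subgroup of a simple group, `F = F*(A)`, `S` subnormal in `F` with `C_F(S) ≤ S`,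
`S ≤ B`: then `O_q(B) ∩ A = 1` for `q ∉ π(F(A))` and `[O_p(B), O^p(F)] = 1` for `p ∈ π(F(A))`.
-/

set_option autoImplicit false
open scoped commutatorElement

namespace Cfsg.Agent.H2.BenderLemma

open Cfsg.Agent.H2

section general

variable {G : Type*} [Group G]

/-- Thompson's `A × B`-lemma for a nilpotent group `R` acted on coprimely by `Q`:
if `Q` centralizes `S0 ≤ R` and `C_R(S0)`, then `Q` centralizes `R`. -/
theorem nilpotent_AxB [Finite G] (R Q S0 : Subgroup G) (hRn : Group.IsNilpotent ↥R)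
    (hQR : Q ≤ Subgroup.normalizer (R : Set G)) (hcop : (Nat.card ↥Q).Coprime (Nat.card ↥R))
    (hS0 : S0 ≤ R) (hS0Q : S0 ≤ Subgroup.centralizer (Q : Set G))
    (hC : R ⊓ Subgroup.centralizer (S0 : Set G) ≤ Subgroup.centralizer (Q : Set G)) :
    R ≤ Subgroup.centralizer (Q : Set G) := by
  by_contra hcon
  obtain ⟨M, hMdef⟩ : ∃ M : Subgroup G, M = R ⊓ Subgroup.centralizer (Q : Set G) := ⟨_, rfl⟩
  have hML : M ≤ R := by rw [hMdef]; exact inf_le_left
  have hMQ : M ≤ Subgroup.centralizer (Q : Set G) := by rw [hMdef]; exact inf_le_right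
  have hS0M : S0 ≤ M := by rw [hMdef]; exact le_inf hS0 hS0Q
  have hH : M.subgroupOf R < ⊤ := by
    rw [lt_top_iff_ne_top, Ne, Subgroup.subgroupOf_eq_top]
    intro h
    exact hcon (h.trans hMQ)
  have hnc := Group.normalizerCondition_of_isNilpotent (G := ↥R) (M.subgroupOf R) hH
  obtain ⟨z, hzN, hzH⟩ := SetLike.exists_of_lt hnc
  have hzM : (z : G) ∉ M := fun h => hzH (Subgroup.mem_subgroupOf.2 h)
  obtain ⟨N, hNdef⟩ : ∃ N : Subgroup G, N = R ⊓ Subgroup.normalizer (M : Set G) := ⟨_, rfl⟩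
  have hNL : N ≤ R := by rw [hNdef]; exact inf_le_left
  have hNM : N ≤ Subgroup.normalizer (M : Set G) := by rw [hNdef]; exact inf_le_right
  have hzNn : (z : G) ∈ N := by
    rw [hNdef]
    refine ⟨z.2, ?_⟩
    show (z : G) ∈ Subgroup.normalizer (M : Set G)
    rw [Subgroup.mem_normalizer_iff]
    intro m
    constructor
    · intro hm
      have := (Subgroup.mem_normalizer_iff.1 hzN ⟨m, hML hm⟩).1 (Subgroup.mem_subgroupOf.2 hm)
      exact Subgroup.mem_subgroupOf.1 this
    · intro hm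
      have hmL : m ∈ R := by
        have h1 : (z : G)⁻¹ * ((z : G) * m * (z : G)⁻¹) * (z : G) ∈ R :=
          R.mul_mem (R.mul_mem (R.inv_mem z.2) (hML hm)) z.2
        have e : (z : G)⁻¹ * ((z : G) * m * (z : G)⁻¹) * (z : G) = m := by group
        rwa [e] at h1
      have := (Subgroup.mem_normalizer_iff.1 hzN ⟨m, hmL⟩).2 (Subgroup.mem_subgroupOf.2 hm)
      exact Subgroup.mem_subgroupOf.1 this
  -- `Q` normalizes `M` and `N`
  have hQM : Q ≤ Subgroup.normalizer (M : Set G) := by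
    intro b hb
    rw [hMdef]
    apply DihedralLemma.normalizer_inf_le
    exact ⟨hQR hb, DihedralLemma.normalizer_le_normalizer_centralizer' Q (Subgroup.le_normalizer hb)⟩
  have hQN : Q ≤ Subgroup.normalizer (N : Set G) := by
    intro b hb
    rw [hNdef]
    apply DihedralLemma.normalizer_inf_le
    exact ⟨hQR hb, Subgroup.le_normalizer (hQM hb)⟩
  have hcop' : (Nat.card ↥Q).Coprime (Nat.card ↥N) :=
    Nat.Coprime.coprime_dvd_right (Subgroup.card_dvd_of_le hNL) hcop
  have hNsolv : Group.IsSolvable ↥N := by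
    haveI : Group.IsNilpotent ↥N := DihedralLemma.isNilpotent_of_le hNL hRn
    infer_instance
  have h27 := Cfsg.Agent.S0027.result Q N hQN hcop' (Or.inr hNsolv)
  have h1 : ⁅⁅Q, M⁆, N⁆ = ⊥ := by
    have : ⁅Q, M⁆ = ⊥ := by
      rw [Subgroup.commutator_comm, Subgroup.commutator_eq_bot_iff_le_centralizer]
      exact hMQ
    rw [this, Subgroup.commutator_bot_left]
  have h2 : ⁅⁅M, N⁆, Q⁆ = ⊥ := by
    rw [Subgroup.commutator_eq_bot_iff_le_centralizer]
    refine le_trans ?_ hMQ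
    exact Subgroup.le_normalizer_iff_commutator_le_left.1 hNM
  have h3 : ⁅⁅N, Q⁆, M⁆ = ⊥ := Subgroup.commutator_commutator_eq_bot_of_rotate h1 h2
  rw [Subgroup.commutator_eq_bot_iff_le_centralizer] at h3
  have hNQN : ⁅N, Q⁆ ≤ N := Subgroup.le_normalizer_iff_commutator_le_left.1 hQN
  have h4 : ⁅N, Q⁆ ≤ Subgroup.centralizer (Q : Set G) := by
    refine le_trans ?_ hC
    refine le_inf (hNQN.trans hNL) (h3.trans ?_)
    exact Subgroup.centralizer_le hS0M
  have h5 : ⁅⁅N, Q⁆, Q⁆ = ⊥ := Subgroup.commutator_eq_bot_iff_le_centralizer.2 h4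
  rw [h27, Subgroup.commutator_eq_bot_iff_le_centralizer] at h5
  exact hzM (by rw [hMdef]; exact ⟨z.2, h5 hzNn⟩)

/-- splitting an element into its `p`-part and `p'`-part, both powers of the element -/
theorem exists_pow_mul_pow [Finite G] (p : ℕ) [Fact p.Prime] (g : G) :
    ∃ a b : ℤ, g = g ^ a * g ^ b ∧ (∃ k : ℕ, (g ^ a) ^ p ^ k = 1) ∧
      (orderOf (g ^ b)).Coprime p := by
  have hpp : p.Prime := Fact.out
  have hn : orderOf g ≠ 0 := (orderOf_pos g).ne'
  obtain ⟨k, m, hm, hkm⟩ := Nat.exists_eq_pow_mul_and_not_dvd hn p hpp.ne_one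
  have hcop : Nat.Coprime (p ^ k) m :=
    Nat.Coprime.pow_left k ((Nat.Prime.coprime_iff_not_dvd hpp).2 hm)
  have hb := Nat.gcd_eq_gcd_ab (p ^ k) m
  rw [hcop] at hb
  refine ⟨(m : ℤ) * Nat.gcdB (p ^ k) m, ((p ^ k : ℕ) : ℤ) * Nat.gcdA (p ^ k) m, ?_, ⟨k, ?_⟩, ?_⟩
  · rw [← zpow_add]
    have : (m : ℤ) * Nat.gcdB (p ^ k) m + ((p ^ k : ℕ) : ℤ) * Nat.gcdA (p ^ k) m = 1 := by
      rw [add_comm]; exact_mod_cast hb.symm
    rw [this, zpow_one]
  · rw [← zpow_natCast, ← zpow_mul]
    have : (m : ℤ) * Nat.gcdB (p ^ k) m * ((p ^ k : ℕ) : ℤ) =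
        ((orderOf g : ℕ) : ℤ) * Nat.gcdB (p ^ k) m := by
      rw [hkm]; push_cast; ring
    rw [this, zpow_mul, zpow_natCast, pow_orderOf_eq_one, one_zpow]
  · have h1 : (g ^ (((p ^ k : ℕ) : ℤ) * Nat.gcdA (p ^ k) m)) ^ m = 1 := by
      rw [← zpow_natCast, ← zpow_mul]
      have : ((p ^ k : ℕ) : ℤ) * Nat.gcdA (p ^ k) m * (m : ℤ) =
          ((orderOf g : ℕ) : ℤ) * Nat.gcdA (p ^ k) m := by
        rw [hkm]; push_cast; ring
      rw [this, zpow_mul, zpow_natCast, pow_orderOf_eq_one, one_zpow]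
    have h2 := orderOf_dvd_of_pow_eq_one h1
    exact Nat.Coprime.coprime_dvd_left h2 ((Nat.Prime.coprime_iff_not_dvd hpp).2 hm).symm

/-- `K ≤ D ⊔ U` with `D` normal and `U` a `p`-group: the `p'`-elements of `K` lie in `D`. -/
theorem mem_of_coprime_of_le_sup [Finite G] (p : ℕ) [Fact p.Prime] (K D U : Subgroup G)
    [hD : D.Normal] (hU : IsPGroup p U) (hK : K ≤ D ⊔ U) (y : G) (hy : y ∈ K)
    (hcop : (orderOf y).Coprime p) : y ∈ D := by
  have hy' : y ∈ (↑(D ⊔ U) : Set G) := hK hy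
  rw [Subgroup.normal_mul] at hy'
  obtain ⟨d, hd, u, hu, hdu⟩ := Set.mem_mul.1 hy'
  have h1 : (QuotientGroup.mk' D) y = (QuotientGroup.mk' D) u := by
    rw [← hdu, map_mul]
    have : (QuotientGroup.mk' D) d = 1 := by
      rw [QuotientGroup.mk'_apply, QuotientGroup.eq_one_iff]; exact hd
    rw [this, one_mul]
  obtain ⟨k, hk⟩ := hU ⟨u, hu⟩
  have hk' : u ^ p ^ k = 1 := by
    have := congrArg Subtype.val hk
    simpa using this
  have h2 : orderOf ((QuotientGroup.mk' D) y) ∣ p ^ k := by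
    rw [h1]
    exact (orderOf_map_dvd _ u).trans (orderOf_dvd_of_pow_eq_one hk')
  have h3 : orderOf ((QuotientGroup.mk' D) y) ∣ orderOf y := orderOf_map_dvd _ y
  have h4 : orderOf ((QuotientGroup.mk' D) y) = 1 := by
    have h5 : (orderOf y).Coprime (p ^ k) := Nat.Coprime.pow_right k hcop
    exact Nat.eq_one_of_dvd_coprimes h5 h3 h2
  rw [orderOf_eq_one_iff, QuotientGroup.mk'_apply, QuotientGroup.eq_one_iff] at h4
  exact h4

end general

section internal

variable {H : Type*} [Group H] [Finite H] (S : Subgroup H)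

/-- the standing hypotheses on `S`: subnormal in `F*(H)` and self-centralizing there -/
structure Hyp : Prop where
  le : S ≤ Cfsg.generalizedFittingSubgroup H
  sn : (S.subgroupOf (Cfsg.generalizedFittingSubgroup H)).IsSubnormal
  cent : Cfsg.generalizedFittingSubgroup H ⊓ Subgroup.centralizer (S : Set H) ≤ S

variable {S}

theorem Hyp.component_le (h : Hyp S) {L : Subgroup H} (hL : Cfsg.IsComponent L) : L ≤ S := by
  have hLF : L ≤ Cfsg.generalizedFittingSubgroup H :=
    (component_le_layer hL).trans layer_le_generalizedFittingSubgroup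
  have hL' := component_subgroupOf hL hLF
  rcases component_le_or_commutator_eq_bot _ _ hL' h.sn with h1 | h1
  · intro x hx
    have : (⟨x, hLF hx⟩ : Cfsg.generalizedFittingSubgroup H) ∈
        S.subgroupOf (Cfsg.generalizedFittingSubgroup H) :=
      h1 (Subgroup.mem_subgroupOf.2 hx)
    exact Subgroup.mem_subgroupOf.1 this
  · rw [commutator_subgroupOf_eq_bot_iff hLF h.le,
      Subgroup.commutator_eq_bot_iff_le_centralizer] at h1
    exact (le_inf hLF h1).trans h.cent

theorem Hyp.layer_le (h : Hyp S) : Cfsg.layer H ≤ S :=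
  layer_le_iff.2 (fun _ hL => h.component_le hL)

/-- Dedekind: `S = E (S ∩ F)` -/
theorem Hyp.exists_mul (h : Hyp S) {s : H} (hs : s ∈ S) :
    ∃ e ∈ Cfsg.layer H, ∃ f ∈ S ⊓ Cfsg.fittingSubgroup H, s = e * f := by
  have hn := layer_normal (G := H)
  have hs' : s ∈ (↑(Cfsg.layer H ⊔ Cfsg.fittingSubgroup H) : Set H) := h.le hs
  rw [Subgroup.normal_mul] at hs'
  obtain ⟨e, he, f, hf, hef⟩ := Set.mem_mul.1 hs'
  refine ⟨e, he, f, ⟨?_, hf⟩, hef.symm⟩
  have : f = e⁻¹ * s := by rw [← hef]; group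
  rw [this]
  exact S.mul_mem (S.inv_mem (h.layer_le he)) hs

/-- elements of the layer and of the Fitting subgroup commute -/
theorem commute_layer_fitting {e f : H} (he : e ∈ Cfsg.layer H)
    (hf : f ∈ Cfsg.fittingSubgroup H) : e * f = f * e := by
  have h1 := layer_commutator_fittingSubgroup (G := H)
  rw [commutator_eq_bot_iff_forall_commute] at h1
  exact h1 e he f hf

/-- an element of `F(H)` centralizing `S ∩ F(H)` lies in `S` -/
theorem Hyp.mem_of_centralizes (h : Hyp S) {x : H} (hx : x ∈ Cfsg.fittingSubgroup H)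
    (hc : ∀ f ∈ S ⊓ Cfsg.fittingSubgroup H, x * f = f * x) : x ∈ S := by
  apply h.cent
  refine ⟨fittingSubgroup_le_generalizedFittingSubgroup hx, ?_⟩
  show x ∈ Subgroup.centralizer (S : Set H)
  rw [Subgroup.mem_centralizer_iff]
  intro s hs
  obtain ⟨e, he, f, hf, rfl⟩ := h.exists_mul hs
  have h1 := commute_layer_fitting he hx
  have h2 := hc f hf
  calc e * f * x = e * (f * x) := by group
    _ = e * (x * f) := by rw [h2]
    _ = (e * x) * f := by group
    _ = (x * e) * f := by rw [h1]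
    _ = x * (e * f) := by group

/-- a solvable subgroup normalized by `S` is centralized by the layer -/
theorem Hyp.layer_le_centralizer (h : Hyp S) (Y : Subgroup H) (hY : Group.IsSolvable ↥Y)
    (hSY : S ≤ Subgroup.normalizer (Y : Set H)) :
    Cfsg.layer H ≤ Subgroup.centralizer (Y : Set H) := by
  apply layer_le_iff.2
  intro L hL
  rw [← Subgroup.commutator_eq_bot_iff_le_centralizer]
  exact component_commutator_solvable_eq_bot L Y hL hY ((h.component_le hL).trans hSY)

/-- a `q`-subgroup of a group of order prime to `q` is trivial -/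
theorem eq_bot_of_isPGroup_of_not_dvd (q : ℕ) [Fact q.Prime] (K F : Subgroup H) (hKF : K ≤ F)
    (hK : IsPGroup q K) (hq : ¬ q ∣ Nat.card ↥F) : K = ⊥ := by
  obtain ⟨n, hn⟩ := hK.exists_card_eq
  have h1 := Subgroup.card_dvd_of_le hKF
  rw [hn] at h1
  rcases Nat.eq_zero_or_pos n with h0 | h0
  · rw [h0, pow_zero] at hn
    exact Subgroup.card_eq_one.1 hn
  · exfalso
    exact hq ((dvd_pow_self q h0.ne').trans h1)

/-- **Part (a)**: an `S`-invariant `q`-subgroup is trivial when `q ∤ |F(H)|`. -/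
theorem Hyp.partA (h : Hyp S) (q : ℕ) [Fact q.Prime]
    (hq : ¬ q ∣ Nat.card ↥(Cfsg.fittingSubgroup H)) (X : Subgroup H) (hX : IsPGroup q X)
    (hSX : S ≤ Subgroup.normalizer (X : Set H)) : X = ⊥ := by
  have hXn : Group.IsNilpotent ↥X := hX.isNilpotent
  have hXs : Group.IsSolvable ↥X := inferInstance
  have h1 := h.layer_le_centralizer X hXs hSX
  have hFn : (Cfsg.fittingSubgroup H).Normal := inferInstance
  have h2 : X ⊓ Cfsg.fittingSubgroup H = ⊥ :=
    eq_bot_of_isPGroup_of_not_dvd q _ _ inf_le_right (hX.to_le inf_le_left) hq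
  have hXF : X ≤ Subgroup.normalizer ((Cfsg.fittingSubgroup H : Subgroup H) : Set H) := by
    rw [Subgroup.normalizer_eq_top_iff.2 hFn]; exact le_top
  have h3 : S ⊓ Cfsg.fittingSubgroup H ≤ Subgroup.centralizer (X : Set H) := by
    rw [← Subgroup.commutator_eq_bot_iff_le_centralizer, eq_bot_iff, ← h2]
    apply le_inf
    · exact Subgroup.le_normalizer_iff_commutator_le_right.1 (inf_le_left.trans hSX)
    · exact (Subgroup.commutator_mono inf_le_right le_rfl).trans
        (Subgroup.le_normalizer_iff_commutator_le_left.1 hXF)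
  have hcop : (Nat.card ↥X).Coprime (Nat.card ↥(Cfsg.fittingSubgroup H)) := by
    obtain ⟨n, hn⟩ := hX.exists_card_eq
    rw [hn]
    exact Nat.Coprime.pow_left n ((Nat.Prime.coprime_iff_not_dvd Fact.out).2 hq)
  have h4 : Cfsg.fittingSubgroup H ≤ Subgroup.centralizer (X : Set H) := by
    apply nilpotent_AxB (Cfsg.fittingSubgroup H) X (S ⊓ Cfsg.fittingSubgroup H)
      Cfsg.Agent.H1.fittingSubgroup_nilpotent hXF hcop inf_le_right h3
    intro x hx
    have hxS : x ∈ S := by
      apply h.mem_of_centralizes hx.1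
      intro f hf
      exact (Subgroup.mem_centralizer_iff.1 hx.2 f hf).symm
    exact h3 ⟨hxS, hx.1⟩
  have h5 : Cfsg.generalizedFittingSubgroup H ≤ Subgroup.centralizer (X : Set H) := sup_le h1 h4
  have h6 : X ≤ Subgroup.centralizer (Cfsg.generalizedFittingSubgroup H : Set H) :=
    Subgroup.le_centralizer_iff.1 h5
  have h7 : X ≤ Cfsg.generalizedFittingSubgroup H ⊓
      Subgroup.centralizer (Cfsg.generalizedFittingSubgroup H : Set H) :=
    le_inf (h6.trans centralizer_generalizedFittingSubgroup_le) h6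
  have h8 : Cfsg.generalizedFittingSubgroup H ⊓
      Subgroup.centralizer (Cfsg.generalizedFittingSubgroup H : Set H) ≤ Cfsg.fittingSubgroup H := by
    apply Cfsg.Agent.H1.le_fittingSubgroup inferInstance
    apply isNilpotent_of_commutator_eq_bot
    rw [commutator_eq_bot_iff_forall_commute]
    intro a ha b hb
    exact (Subgroup.mem_centralizer_iff.1 hb.2 a ha.1)
  rw [eq_bot_iff, ← h2]
  exact le_inf le_rfl (h7.trans h8)

section partB

variable (p : ℕ) [Fact p.Prime]

/-- the `p'`-part `O_{p'}(F(H))` of the Fitting subgroup -/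
def Rp (H : Type*) [Group H] : Subgroup H := Cfsg.fittingSubgroup H ⊓ Cfsg.pPrimeCore p H

instance Rp_normal : (Rp p H).Normal := by
  unfold Rp; infer_instance

theorem Rp_coprime : (Nat.card ↥(Rp p H)).Coprime p :=
  Nat.Coprime.coprime_dvd_left (Subgroup.card_dvd_of_le inf_le_right)
    (Cfsg.Agent.H1.pPrimeCore_coprime p)

theorem Rp_nilpotent : Group.IsNilpotent ↥(Rp p H) :=
  DihedralLemma.isNilpotent_of_le inf_le_left Cfsg.Agent.H1.fittingSubgroup_nilpotent

theorem pCore_le_fitting (q : ℕ) [Fact q.Prime] : Cfsg.pCore q H ≤ Cfsg.fittingSubgroup H :=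
  Cfsg.Agent.H1.le_fittingSubgroup inferInstance (Cfsg.Agent.H1.pCore_isPGroup q).isNilpotent

theorem pCore_le_Rp (q : ℕ) [Fact q.Prime] (hq : q ≠ p) : Cfsg.pCore q H ≤ Rp p H :=
  le_inf (pCore_le_fitting q)
    (Cfsg.Agent.H1.le_pPrimeCore inferInstance
      (Cfsg.Agent.H1.pCore_coprime_of_ne (Fact.out : p.Prime) (Fact.out : q.Prime) hq))

theorem fitting_eq_sup : Cfsg.fittingSubgroup H = Cfsg.pCore p H ⊔ Rp p H := by
  apply le_antisymm
  · rw [Cfsg.Agent.H1.fittingSubgroup_eq_iSup_pCore]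
    apply iSup_le
    intro q
    haveI : Fact (q : ℕ).Prime := ⟨q.2⟩
    by_cases hq : (q : ℕ) = p
    · rw [hq]; exact le_sup_left
    · exact (pCore_le_Rp p (q : ℕ) hq).trans le_sup_right
  · exact sup_le (pCore_le_fitting p) inf_le_left

theorem pCore_inf_Rp : Cfsg.pCore p H ⊓ Rp p H = ⊥ := by
  rw [eq_bot_iff]
  intro x hx
  rw [Subgroup.mem_bot]
  apply Cfsg.Agent.H2.eq_one_of_isPGroup_of_coprime (Cfsg.Agent.H1.pCore_isPGroup p) hx.1
  have h1 : orderOf x ∣ Nat.card ↥(Rp p H) := by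
    have := orderOf_dvd_natCard (⟨x, hx.2⟩ : Rp p H)
    rwa [Subgroup.orderOf_mk] at this
  exact Nat.Coprime.coprime_dvd_left h1 (Rp_coprime p)

theorem commute_pCore_Rp {u r : H} (hu : u ∈ Cfsg.pCore p H) (hr : r ∈ Rp p H) :
    u * r = r * u := by
  have h1 : ⁅Cfsg.pCore p H, Rp p H⁆ = ⊥ := by
    apply Cfsg.Agent.H2.commutator_eq_bot_of_disjoint _ _ (pCore_inf_Rp p)
    · rw [Subgroup.normalizer_eq_top_iff.2 (Rp_normal p)]; exact le_top
    · rw [Subgroup.normalizer_eq_top_iff.2 (Cfsg.Agent.H1.pCore_normal p)]; exact le_top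
  rw [commutator_eq_bot_iff_forall_commute] at h1
  exact h1 u hu r hr

theorem mem_pCore_of_pow {x : H} (hx : x ∈ Cfsg.fittingSubgroup H) {k : ℕ}
    (hk : x ^ p ^ k = 1) : x ∈ Cfsg.pCore p H :=
  EqOrdSyl.mem_pCore_of_mem_nilpotent_normal (Cfsg.fittingSubgroup H)
    Cfsg.Agent.H1.fittingSubgroup_nilpotent p x hx k hk

theorem mem_Rp_of_coprime {x : H} (hx : x ∈ Cfsg.fittingSubgroup H)
    (hc : (orderOf x).Coprime p) : x ∈ Rp p H := by
  apply mem_of_coprime_of_le_sup p (Cfsg.fittingSubgroup H) (Rp p H) (Cfsg.pCore p H)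
    (Cfsg.Agent.H1.pCore_isPGroup p) _ x hx hc
  rw [fitting_eq_sup p, sup_comm]

variable {p}

/-- an element of the Fitting subgroup commuting with `O_p` and `O_{p'}(F)` lies in `S` -/
theorem Hyp.mem_of_commute (h : Hyp S) {z : H} (hz : z ∈ Cfsg.fittingSubgroup H)
    (h1 : ∀ u ∈ Cfsg.pCore p H, z * u = u * z) (h2 : ∀ r ∈ Rp p H, z * r = r * z) : z ∈ S := by
  apply h.mem_of_centralizes hz
  intro f hf
  have hf' : f ∈ (↑(Rp p H ⊔ Cfsg.pCore p H) : Set H) := by
    rw [sup_comm, ← fitting_eq_sup p]; exact hf.2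
  rw [Subgroup.normal_mul] at hf'
  obtain ⟨r, hr, u, hu, rfl⟩ := Set.mem_mul.1 hf'
  calc z * (r * u) = (z * r) * u := by group
    _ = (r * z) * u := by rw [h2 r hr]
    _ = r * (z * u) := by group
    _ = r * (u * z) := by rw [h1 u hu]
    _ = r * u * z := by group

theorem Hyp.mem_of_central_pCore (h : Hyp S) {z : H} (hz : z ∈ Cfsg.pCore p H)
    (h1 : ∀ u ∈ Cfsg.pCore p H, z * u = u * z) : z ∈ S :=
  h.mem_of_commute (pCore_le_fitting p hz) h1 (fun _ hr => commute_pCore_Rp p hz hr)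

theorem Hyp.mem_of_central_Rp (h : Hyp S) {z : H} (hz : z ∈ Rp p H)
    (h1 : ∀ r ∈ Rp p H, z * r = r * z) : z ∈ S :=
  h.mem_of_commute (p := p) hz.1 (fun _ hu => (commute_pCore_Rp p hu hz).symm) h1

/-- an element of `O_{p'}(F)` centralizing `S ∩ O_{p'}(F)` lies in `S` -/
theorem Hyp.mem_of_centralizes_Rp (h : Hyp S) {x : H} (hx : x ∈ Rp p H)
    (hc : ∀ f ∈ S ⊓ Rp p H, x * f = f * x) : x ∈ S := by
  apply h.mem_of_centralizes hx.1
  intro f hf
  obtain ⟨a, b, hab, ⟨k, hk⟩, hcop⟩ := exists_pow_mul_pow p f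
  have ha : f ^ a ∈ Cfsg.pCore p H :=
    mem_pCore_of_pow p ((Cfsg.fittingSubgroup H).zpow_mem hf.2 a) hk
  have hb : f ^ b ∈ S ⊓ Rp p H :=
    ⟨S.zpow_mem hf.1 b, mem_Rp_of_coprime p ((Cfsg.fittingSubgroup H).zpow_mem hf.2 b) hcop⟩
  have h1 := commute_pCore_Rp p ha hx
  have h2 := hc _ hb
  rw [hab]
  calc x * (f ^ a * f ^ b) = (x * f ^ a) * f ^ b := by group
    _ = (f ^ a * x) * f ^ b := by rw [h1]
    _ = f ^ a * (x * f ^ b) := by group
    _ = f ^ a * (f ^ b * x) := by rw [h2]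
    _ = f ^ a * f ^ b * x := by group

/-- stage 2: an `S`-invariant `p`-subgroup is centralized by `S ∩ O_{p'}(F)` -/
theorem Hyp.stage2 (_h : Hyp S) (Y : Subgroup H) (hY : IsPGroup p Y)
    (hSY : S ≤ Subgroup.normalizer (Y : Set H)) :
    S ⊓ Rp p H ≤ Subgroup.centralizer (Y : Set H) := by
  have h2 : Y ⊓ Rp p H = ⊥ := by
    rw [eq_bot_iff]
    intro x hx
    rw [Subgroup.mem_bot]
    apply Cfsg.Agent.H2.eq_one_of_isPGroup_of_coprime hY hx.1
    have h1 : orderOf x ∣ Nat.card ↥(Rp p H) := by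
      have := orderOf_dvd_natCard (⟨x, hx.2⟩ : Rp p H)
      rwa [Subgroup.orderOf_mk] at this
    exact Nat.Coprime.coprime_dvd_left h1 (Rp_coprime p)
  have hYR : Y ≤ Subgroup.normalizer ((Rp p H : Subgroup H) : Set H) := by
    rw [Subgroup.normalizer_eq_top_iff.2 (Rp_normal p)]; exact le_top
  rw [← Subgroup.commutator_eq_bot_iff_le_centralizer, eq_bot_iff, ← h2]
  apply le_inf
  · exact Subgroup.le_normalizer_iff_commutator_le_right.1 (inf_le_left.trans hSY)
  · exact (Subgroup.commutator_mono inf_le_right le_rfl).trans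
      (Subgroup.le_normalizer_iff_commutator_le_left.1 hYR)

/-- stage 3: a `p`-subgroup centralizing `S ∩ O_{p'}(F)` centralizes `O_{p'}(F)` -/
theorem Hyp.stage3 (h : Hyp S) (Y : Subgroup H) (hY : IsPGroup p Y)
    (hc : S ⊓ Rp p H ≤ Subgroup.centralizer (Y : Set H)) :
    Rp p H ≤ Subgroup.centralizer (Y : Set H) := by
  have hYR : Y ≤ Subgroup.normalizer ((Rp p H : Subgroup H) : Set H) := by
    rw [Subgroup.normalizer_eq_top_iff.2 (Rp_normal p)]; exact le_top
  have hcop : (Nat.card ↥Y).Coprime (Nat.card ↥(Rp p H)) := by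
    obtain ⟨n, hn⟩ := hY.exists_card_eq
    rw [hn]
    exact Nat.Coprime.pow_left n (Rp_coprime p).symm
  apply nilpotent_AxB (Rp p H) Y (S ⊓ Rp p H) (Rp_nilpotent p) hYR hcop inf_le_right hc
  intro x hx
  have hxS : x ∈ S := by
    apply h.mem_of_centralizes_Rp hx.1
    intro f hf
    exact (Subgroup.mem_centralizer_iff.1 hx.2 f hf).symm
  exact hc ⟨hxS, hx.1⟩

variable (p)

/-- the `p'`-elements of `F*(H)` lie in `E(H) O_{p'}(F(H))` -/
theorem mem_layer_sup_Rp {y : H} (hy : y ∈ Cfsg.generalizedFittingSubgroup H)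
    (hc : (orderOf y).Coprime p) : y ∈ Cfsg.layer H ⊔ Rp p H := by
  have hn := layer_normal (G := H)
  haveI : (Cfsg.layer H ⊔ Rp p H).Normal := inferInstance
  apply mem_of_coprime_of_le_sup p (Cfsg.generalizedFittingSubgroup H) (Cfsg.layer H ⊔ Rp p H)
    (Cfsg.pCore p H) (Cfsg.Agent.H1.pCore_isPGroup p) _ y hy hc
  show Cfsg.layer H ⊔ Cfsg.fittingSubgroup H ≤ _
  rw [fitting_eq_sup p]
  apply sup_le (le_sup_left.trans le_sup_left)
  exact sup_le le_sup_right (le_sup_right.trans le_sup_left)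

end partB

end internal

section ambient

variable {G : Type*} [Group G] [Finite G] (A : Subgroup G)

/-- the internal hypotheses from the ambient ones -/
theorem hyp_of_ambient (S : Subgroup G)
    (hSF : S ≤ (Cfsg.generalizedFittingSubgroup ↥A).map A.subtype)
    (hSsn : (S.subgroupOf ((Cfsg.generalizedFittingSubgroup ↥A).map A.subtype)).IsSubnormal)
    (hSC : (Cfsg.generalizedFittingSubgroup ↥A).map A.subtype ⊓ Subgroup.centralizer (S : Set G) ≤ S) :
    Hyp (S.subgroupOf A) := by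
  have hSA : S ≤ A := hSF.trans (map_subtype_le _ _)
  refine ⟨?_, ?_, ?_⟩
  · intro x hx
    obtain ⟨y, hy, hyx⟩ := hSF (Subgroup.mem_subgroupOf.1 hx)
    have : y = x := Subtype.ext hyx
    rw [← this]; exact hy
  · have hinj : Function.Injective A.subtype := A.subtype_injective
    have h1 := hSsn.comap
      ((Cfsg.generalizedFittingSubgroup ↥A).equivMapOfInjective A.subtype hinj).toMonoidHom
    have h2 : (S.subgroupOf ((Cfsg.generalizedFittingSubgroup ↥A).map A.subtype)).comap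
        ((Cfsg.generalizedFittingSubgroup ↥A).equivMapOfInjective A.subtype hinj).toMonoidHom =
        (S.subgroupOf A).subgroupOf (Cfsg.generalizedFittingSubgroup ↥A) := by
      ext z
      rw [Subgroup.mem_comap, Subgroup.mem_subgroupOf, Subgroup.mem_subgroupOf,
        Subgroup.mem_subgroupOf]
      rfl
    rw [h2] at h1
    exact h1
  · intro x hx
    rw [Subgroup.mem_subgroupOf]
    apply hSC
    refine ⟨⟨x, hx.1, rfl⟩, ?_⟩
    show (x : G) ∈ Subgroup.centralizer (S : Set G)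
    rw [Subgroup.mem_centralizer_iff]
    intro s hs
    have h1 := Subgroup.mem_centralizer_iff.1 hx.2 ⟨s, hSA hs⟩ (Subgroup.mem_subgroupOf.2 hs)
    exact congrArg Subtype.val h1

/-- conjugation by elements of `B` preserves the image of a normal subgroup of `B` -/
theorem conj_mem_map_subtype (B : Subgroup G) (N : Subgroup ↥B) [N.Normal] {b y : G}
    (hb : b ∈ B) (hy : y ∈ N.map B.subtype) : b * y * b⁻¹ ∈ N.map B.subtype :=
  (Subgroup.mem_normalizer_iff.1 (le_normalizer_map_subtype_of_normal B N hb) y).1 hy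

/-- **Bender's lemma, part (a)**, with the internal hypotheses. -/
theorem partA_ambient' (S : Subgroup G) (h : Hyp (S.subgroupOf A))
    (B : Subgroup G) (hSB : S ≤ B) (q : ℕ) (hq : q.Prime)
    (hqF : ¬ q ∣ Nat.card ↥(Cfsg.fittingSubgroup ↥A)) :
    (Cfsg.pCore q ↥B).map B.subtype ⊓ A = ⊥ := by
  haveI : Fact q.Prime := ⟨hq⟩
  obtain ⟨Pq, hPq⟩ : ∃ Pq : Subgroup G, Pq = (Cfsg.pCore q ↥B).map B.subtype := ⟨_, rfl⟩
  rw [← hPq]
  have hPqp : IsPGroup q Pq := by
    rw [hPq]; exact (Cfsg.Agent.H1.pCore_isPGroup q).map _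
  have hX : IsPGroup q ((Pq ⊓ A).subgroupOf A) := (hPqp.to_le inf_le_left).comap_subtype
  have hSX : S.subgroupOf A ≤ Subgroup.normalizer (((Pq ⊓ A).subgroupOf A : Subgroup ↥A) : Set ↥A) := by
    apply Transitivity.le_normalizer_of_conj_mem
    intro s hs x hx
    rw [Subgroup.mem_subgroupOf] at hs hx ⊢
    refine ⟨?_, (s * x * s⁻¹).2⟩
    have : ((s * x * s⁻¹ : ↥A) : G) = (s : G) * (x : G) * (s : G)⁻¹ := by
      simp
    rw [this, hPq]
    apply conj_mem_map_subtype B _ (hSB hs)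
    rw [← hPq]; exact hx.1
  have h1 := h.partA q hqF _ hX hSX
  rw [Subgroup.subgroupOf_eq_bot, disjoint_iff, inf_assoc, inf_idem] at h1
  exact h1

/-- **Bender's lemma, part (a)**. -/
theorem partA_ambient (S : Subgroup G)
    (hSF : S ≤ (Cfsg.generalizedFittingSubgroup ↥A).map A.subtype)
    (hSsn : (S.subgroupOf ((Cfsg.generalizedFittingSubgroup ↥A).map A.subtype)).IsSubnormal)
    (hSC : (Cfsg.generalizedFittingSubgroup ↥A).map A.subtype ⊓ Subgroup.centralizer (S : Set G) ≤ S)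
    (B : Subgroup G) (hSB : S ≤ B) (q : ℕ) (hq : q.Prime)
    (hqF : ¬ q ∣ Nat.card ↥(Cfsg.fittingSubgroup ↥A)) :
    (Cfsg.pCore q ↥B).map B.subtype ⊓ A = ⊥ :=
  partA_ambient' A S (hyp_of_ambient A S hSF hSsn hSC) B hSB q hq hqF

/-- in a simple group, the normalizer of the image of a nontrivial normal subgroup of a maximal
subgroup `A` is `A` -/
theorem normalizer_map_le_of_coatom [IsSimpleGroup G] (hA : IsCoatom A) (K : Subgroup ↥A)
    [K.Normal] (hK : K ≠ ⊥) :
    Subgroup.normalizer ((K.map A.subtype : Subgroup G) : Set G) ≤ A := by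
  have h1 := le_normalizer_map_subtype_of_normal A K
  by_cases htop : Subgroup.normalizer ((K.map A.subtype : Subgroup G) : Set G) = ⊤
  · exfalso
    have hn : (K.map A.subtype).Normal := Subgroup.normalizer_eq_top_iff.1 htop
    rcases hn.eq_bot_or_eq_top with h2 | h2
    · apply hK
      rwa [Subgroup.map_eq_bot_iff_of_injective _ A.subtype_injective] at h2
    · apply hA.1
      rw [eq_top_iff, ← h2]
      exact map_subtype_le _ _
  · rw [(hA.le_iff_eq htop).1 h1]

/-- a subgroup of `A` centralizing `Y.subgroupOf A` has image centralizing `Y` when `Y ≤ A` -/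
theorem map_le_centralizer_of_le {Y : Subgroup G} (hYA : Y ≤ A) {K : Subgroup ↥A}
    (hK : K ≤ Subgroup.centralizer ((Y.subgroupOf A : Subgroup ↥A) : Set ↥A)) :
    K.map A.subtype ≤ Subgroup.centralizer (Y : Set G) := by
  rintro _ ⟨k, hk, rfl⟩
  rw [Subgroup.mem_centralizer_iff]
  intro y hy
  have := Subgroup.mem_centralizer_iff.1 (hK hk) ⟨y, hYA hy⟩ (Subgroup.mem_subgroupOf.2 hy)
  exact congrArg Subtype.val this

theorem le_centralizer_subgroupOf_of_map_le {Y : Subgroup G} {K : Subgroup ↥A}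
    (hK : K.map A.subtype ≤ Subgroup.centralizer (Y : Set G)) :
    K ≤ Subgroup.centralizer ((Y.subgroupOf A : Subgroup ↥A) : Set ↥A) := by
  intro k hk
  rw [Subgroup.mem_centralizer_iff]
  intro y hy
  have h1 : (k : G) ∈ Subgroup.centralizer (Y : Set G) := hK ⟨k, hk, rfl⟩
  have := Subgroup.mem_centralizer_iff.1 h1 (y : G) (Subgroup.mem_subgroupOf.1 hy)
  exact Subtype.ext this

/-- **Bender's lemma, part (b)**, with the internal hypotheses. -/
theorem partB_ambient' [IsSimpleGroup G] (hA : IsCoatom A) (S : Subgroup G) (hSA : S ≤ A)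
    (h : Hyp (S.subgroupOf A))
    (B : Subgroup G) (hSB : S ≤ B) (p : ℕ) [Fact p.Prime]
    (hpF : p ∣ Nat.card ↥(Cfsg.fittingSubgroup ↥A)) :
    (Cfsg.layer ↥A ⊔ Rp p ↥A).map A.subtype ≤
      Subgroup.centralizer (((Cfsg.pCore p ↥B).map B.subtype : Subgroup G) : Set G) := by
  obtain ⟨P, hPdef⟩ : ∃ P : Subgroup G, P = (Cfsg.pCore p ↥B).map B.subtype := ⟨_, rfl⟩
  rw [← hPdef]
  have hPp : IsPGroup p P := by
    rw [hPdef]; exact (Cfsg.Agent.H1.pCore_isPGroup p).map _
  have hBP : B ≤ Subgroup.normalizer (P : Set G) := by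
    rw [hPdef]; exact le_normalizer_map_subtype_of_normal B _
  have hSP : S ≤ Subgroup.normalizer (P : Set G) := hSB.trans hBP
  obtain ⟨S', hS'def⟩ : ∃ S' : Subgroup ↥A, S' = S.subgroupOf A := ⟨_, rfl⟩
  rw [← hS'def] at h
  have hS'map : S'.map A.subtype = S := by
    rw [hS'def, Subgroup.map_subgroupOf_eq_of_le hSA]
  -- `U = O_p(A) ≠ 1`
  have hU : Cfsg.pCore p ↥A ≠ ⊥ := by
    intro hU
    have h1 := fitting_eq_sup (H := ↥A) p
    rw [hU, bot_sup_eq] at h1
    have h2 := Rp_coprime (H := ↥A) p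
    rw [← h1] at h2
    exact (Nat.Prime.coprime_iff_not_dvd Fact.out).1 h2.symm hpF
  -- the centre of `U`
  obtain ⟨ZU, hZUdef⟩ : ∃ ZU : Subgroup ↥A,
      ZU = (Subgroup.center (Cfsg.pCore p ↥A)).map (Cfsg.pCore p ↥A).subtype := ⟨_, rfl⟩
  have hZUn : ZU.Normal := by rw [hZUdef]; exact map_subtype_center_normal _
  have hZUne : ZU ≠ ⊥ := by
    rw [hZUdef, Ne, Subgroup.map_eq_bot_iff_of_injective _ (Subgroup.subtype_injective _)]
    haveI : Nontrivial ↥(Cfsg.pCore p ↥A) := (Subgroup.nontrivial_iff_ne_bot _).2 hU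
    exact (Cfsg.Agent.H1.pCore_isPGroup p).bot_lt_center.ne'
  obtain ⟨Sp, hSpdef⟩ : ∃ Sp : Subgroup ↥A, Sp = S' ⊓ Cfsg.pCore p ↥A := ⟨_, rfl⟩
  have hZUS : ZU ≤ Sp := by
    intro z hz
    rw [hZUdef, mem_map_subtype_center_iff] at hz
    rw [hSpdef]
    refine ⟨h.mem_of_central_pCore hz.1 (fun u hu => (hz.2 u hu).symm), hz.1⟩
  obtain ⟨SpG, hSpG⟩ : ∃ SpG : Subgroup G, SpG = Sp.map A.subtype := ⟨_, rfl⟩
  have hSpGS : SpG ≤ S := by
    rw [hSpG, ← hS'map]; apply Subgroup.map_mono; rw [hSpdef]; exact inf_le_left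
  have hSpGp : IsPGroup p SpG := by
    rw [hSpG]
    apply IsPGroup.map
    rw [hSpdef]
    exact (Cfsg.Agent.H1.pCore_isPGroup p).to_le inf_le_right
  -- `S` normalizes `SpG`
  have hSSpG : S ≤ Subgroup.normalizer (SpG : Set G) := by
    apply Transitivity.le_normalizer_of_conj_mem
    intro s hs t ht
    rw [hSpG] at ht ⊢
    obtain ⟨t', ht', rfl⟩ := ht
    refine ⟨⟨s, hSA hs⟩ * t' * ⟨s, hSA hs⟩⁻¹, ?_, by simp⟩
    rw [hSpdef] at ht' ⊢
    refine ⟨?_, ?_⟩
    · have hs' : (⟨s, hSA hs⟩ : ↥A) ∈ S' := by rw [hS'def]; exact Subgroup.mem_subgroupOf.2 hs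
      exact S'.mul_mem (S'.mul_mem hs' ht'.1) (S'.inv_mem hs')
    · exact (Cfsg.Agent.H1.pCore_normal p).conj_mem _ ht'.2 _
  -- `P1 = C_P(SpG) ≤ A`
  obtain ⟨P1, hP1def⟩ : ∃ P1 : Subgroup G, P1 = P ⊓ Subgroup.centralizer (SpG : Set G) := ⟨_, rfl⟩
  have hP1A : P1 ≤ A := by
    refine le_trans ?_ (normalizer_map_le_of_coatom A hA ZU hZUne)
    refine le_trans ?_ (Subgroup.centralizer_le_normalizer _)
    rw [hP1def]
    refine inf_le_right.trans (Subgroup.centralizer_le ?_)
    rw [hSpG]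
    exact Subgroup.map_mono hZUS
  have hSP1 : S ≤ Subgroup.normalizer (P1 : Set G) := by
    intro s hs
    rw [hP1def]
    apply DihedralLemma.normalizer_inf_le
    exact ⟨hSP hs, DihedralLemma.normalizer_le_normalizer_centralizer' SpG (hSSpG hs)⟩
  have hP1p : IsPGroup p P1 := by rw [hP1def]; exact hPp.to_le inf_le_left
  have hYp : IsPGroup p (P1.subgroupOf A) := hP1p.comap_subtype
  have hS'Y : S' ≤ Subgroup.normalizer ((P1.subgroupOf A : Subgroup ↥A) : Set ↥A) := by
    apply Transitivity.le_normalizer_of_conj_mem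
    intro s hs y hy
    rw [Subgroup.mem_subgroupOf] at hy ⊢
    rw [hS'def, Subgroup.mem_subgroupOf] at hs
    have : ((s * y * s⁻¹ : ↥A) : G) = (s : G) * (y : G) * (s : G)⁻¹ := by simp
    rw [this]
    exact Transitivity.conj_mem_of_le_normalizer hSP1 hs hy
  have hYs : Group.IsSolvable ↥(P1.subgroupOf A) := by
    haveI : Group.IsNilpotent ↥(P1.subgroupOf A) := hYp.isNilpotent
    infer_instance
  -- stage 2 (internal)
  have hE1 := h.layer_le_centralizer _ hYs hS'Y
  have hR1 := h.stage2 _ hYp hS'Y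
  have hE1G := map_le_centralizer_of_le A hP1A hE1
  have hR1G := map_le_centralizer_of_le A hP1A hR1
  -- `S ∩ R` centralizes `P`
  have hSRP : (S' ⊓ Rp p ↥A).map A.subtype ≤ Subgroup.centralizer (P : Set G) := by
    apply Cfsg.Agent.S0028.result p SpG _ P hSpGp _ hPp _ (hSpGS.trans hSP) _ _
    · rw [Nat.card_congr (Subgroup.equivMapOfInjective _ _ A.subtype_injective).toEquiv.symm]
      exact Nat.Coprime.coprime_dvd_left (Subgroup.card_dvd_of_le inf_le_right) (Rp_coprime p)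
    · rw [hSpG]
      rintro _ ⟨u, hu, rfl⟩
      rw [Subgroup.mem_centralizer_iff]
      rintro _ ⟨r, hr, rfl⟩
      rw [hSpdef] at hu
      have := commute_pCore_Rp p hu.2 hr.2
      have h2 := congrArg Subtype.val this
      simpa using h2.symm
    · refine le_trans ?_ hSP
      rw [← hS'map]
      exact Subgroup.map_mono inf_le_left
    · rw [← hP1def]
      exact Subgroup.le_centralizer_iff.1 hR1G
  -- components centralize `P`
  have hEP : ∀ L : Subgroup ↥A, Cfsg.IsComponent L →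
      L.map A.subtype ≤ Subgroup.centralizer (P : Set G) := by
    intro L hL
    have hq : Cfsg.IsQuasisimple ↥(L.map A.subtype) :=
      (isQuasisimple_map_of_injective _ A.subtype_injective L).2 hL.2
    haveI : Group.IsPerfect ↥(L.map A.subtype) := hq.1
    have hres := pResidual_eq_top_of_isPerfect p ↥(L.map A.subtype)
    have hLS : L.map A.subtype ≤ S := by
      rw [← hS'map]; exact Subgroup.map_mono (h.component_le hL)
    apply le_centralizer_of_pq p SpG P (L.map A.subtype) hSpGp hPp hres _ (hSpGS.trans hSP)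
      (hLS.trans hSP)
    · rw [← hP1def]
      exact (Subgroup.map_mono (component_le_layer hL)).trans hE1G
    · rw [hSpG]
      rintro _ ⟨l, hl, rfl⟩
      rw [Subgroup.mem_centralizer_iff]
      rintro _ ⟨u, hu, rfl⟩
      rw [hSpdef] at hu
      have := commute_layer_fitting (component_le_layer hL hl) (pCore_le_fitting p hu.2)
      have h2 := congrArg Subtype.val this
      simpa using h2.symm
  -- stage 3
  have hRP : (Rp p ↥A).map A.subtype ≤ Subgroup.centralizer (P : Set G) := by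
    by_cases hR : Rp p ↥A = ⊥
    · rw [hR, Subgroup.map_bot]; exact bot_le
    · obtain ⟨ZR, hZRdef⟩ : ∃ ZR : Subgroup ↥A,
          ZR = (Subgroup.center (Rp p ↥A)).map (Rp p ↥A).subtype := ⟨_, rfl⟩
      have hZRn : ZR.Normal := by
        rw [hZRdef]
        haveI := Rp_normal (H := ↥A) p
        exact map_subtype_center_normal _
      have hZRne : ZR ≠ ⊥ := by
        rw [hZRdef, Ne, Subgroup.map_eq_bot_iff_of_injective _ (Subgroup.subtype_injective _)]
        haveI : Nontrivial ↥(Rp p ↥A) := (Subgroup.nontrivial_iff_ne_bot _).2 hR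
        haveI := Rp_nilpotent (H := ↥A) p
        exact Group.IsNilpotent.center_ne_bot _
      have hZRS : ZR ≤ S' ⊓ Rp p ↥A := by
        intro z hz
        rw [hZRdef, mem_map_subtype_center_iff] at hz
        exact ⟨h.mem_of_central_Rp hz.1 (fun r hr => (hz.2 r hr).symm), hz.1⟩
      have hPA : P ≤ A := by
        refine le_trans ?_ (normalizer_map_le_of_coatom A hA ZR hZRne)
        refine le_trans ?_ (Subgroup.centralizer_le_normalizer _)
        exact Subgroup.le_centralizer_iff.1 ((Subgroup.map_mono hZRS).trans hSRP)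
      have h3 := h.stage3 (P.subgroupOf A) hPp.comap_subtype
        (le_centralizer_subgroupOf_of_map_le A hSRP)
      exact map_le_centralizer_of_le A hPA h3
  -- conclusion
  rw [Subgroup.map_sup]
  apply sup_le _ hRP
  rw [Subgroup.map_le_iff_le_comap]
  apply layer_le_iff.2
  intro L hL
  rw [← Subgroup.map_le_iff_le_comap]
  exact hEP L hL

/-- **Bender's lemma, part (b)**, in the form: the image of `O_p(B)` centralizes
`E(A) O_{p'}(F(A))`. -/
theorem partB_ambient [IsSimpleGroup G] (hA : IsCoatom A) (S : Subgroup G)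
    (hSF : S ≤ (Cfsg.generalizedFittingSubgroup ↥A).map A.subtype)
    (hSsn : (S.subgroupOf ((Cfsg.generalizedFittingSubgroup ↥A).map A.subtype)).IsSubnormal)
    (hSC : (Cfsg.generalizedFittingSubgroup ↥A).map A.subtype ⊓ Subgroup.centralizer (S : Set G) ≤ S)
    (B : Subgroup G) (hSB : S ≤ B) (p : ℕ) [Fact p.Prime]
    (hpF : p ∣ Nat.card ↥(Cfsg.fittingSubgroup ↥A)) :
    (Cfsg.layer ↥A ⊔ Rp p ↥A).map A.subtype ≤
      Subgroup.centralizer (((Cfsg.pCore p ↥B).map B.subtype : Subgroup G) : Set G) :=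
  partB_ambient' A hA S (hSF.trans (map_subtype_le _ _)) (hyp_of_ambient A S hSF hSsn hSC) B hSB p hpF

/-- the `p'`-elements of `F*(A)` lie in `E(A) O_{p'}(F(A))` -/
theorem pResidual_map_le (p : ℕ) [Fact p.Prime] :
    (Cfsg.pResidual p ↥(Cfsg.generalizedFittingSubgroup ↥A)).map
      (Cfsg.generalizedFittingSubgroup ↥A).subtype ≤ Cfsg.layer ↥A ⊔ Rp p ↥A := by
  rw [Subgroup.map_le_iff_le_comap]
  unfold Cfsg.pResidual
  rw [Subgroup.closure_le]
  intro g hg
  rw [SetLike.mem_coe, Subgroup.mem_comap]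
  apply mem_layer_sup_Rp p g.2
  rw [Set.mem_ofPred_eq, ← Subgroup.orderOf_coe] at hg
  exact hg

end ambient

end Cfsg.Agent.H2.BenderLemma
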