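import Mathlib

/-!
# Gaschütz's theorem (existence and conjugacy of complements of an abelian normal subgroup)
-/

namespace Cfsg.Agent.H2.Gasch

open scoped IsMulCommutative

variable {G : Type*} [Group G]

section kappa

variable (K A : Subgroup G) [K.Normal]

open scoped Classical in
/-- the `K`-component of an element of `K A` -/
noncomputable def kap (u : G) : K :=
  if h : ∃ k : K, (k : G)⁻¹ * u ∈ A then Classical.choose h else 1

lemma exists_of_mem_sup {u : G} (h : u ∈ K ⊔ A) : ∃ k : K, (k : G)⁻¹ * u ∈ A := by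
  have h1 : u ∈ (↑(K ⊔ A) : Set G) := h
  rw [Subgroup.normal_mul] at h1
  obtain ⟨k, hk, a, ha, rfl⟩ := Set.mem_mul.mp h1
  exact ⟨⟨k, hk⟩, by simpa using ha⟩

lemma kap_spec {u : G} (h : u ∈ K ⊔ A) : ((kap K A u : K) : G)⁻¹ * u ∈ A := by
  have h1 := exists_of_mem_sup K A h
  unfold kap
  rw [dif_pos h1]
  exact Classical.choose_spec h1

lemma kap_unique (hKA : K ⊓ A = ⊥) {u : G} (k : K) (hk : (k : G)⁻¹ * u ∈ A) : kap K A u = k := by
  have h1 : ∃ k : K, (k : G)⁻¹ * u ∈ A := ⟨k, hk⟩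
  have h2 : ((kap K A u : K) : G)⁻¹ * u ∈ A := by
    unfold kap
    rw [dif_pos h1]
    exact Classical.choose_spec h1
  have h3 : ((kap K A u : K) : G)⁻¹ * (k : G) ∈ K ⊓ A := by
    refine ⟨K.mul_mem (K.inv_mem (kap K A u).2) k.2, ?_⟩
    have := A.mul_mem h2 (A.inv_mem hk)
    have e : ((kap K A u : K) : G)⁻¹ * u * ((k : G)⁻¹ * u)⁻¹ = ((kap K A u : K) : G)⁻¹ * (k : G) := by
      group
    rwa [e] at this
  rw [hKA, Subgroup.mem_bot, inv_mul_eq_one] at h3
  exact Subtype.ext h3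

lemma kap_coe (hKA : K ⊓ A = ⊥) (k : K) : kap K A (k : G) = k :=
  kap_unique K A hKA k (by rw [inv_mul_cancel]; exact A.one_mem)

lemma kap_eq_one_iff (hKA : K ⊓ A = ⊥) {u : G} (hu : u ∈ K ⊔ A) : kap K A u = 1 ↔ u ∈ A := by
  constructor
  · intro h
    have := kap_spec K A hu
    rwa [h, Subgroup.coe_one, inv_one, one_mul] at this
  · intro h
    exact kap_unique K A hKA 1 (by rwa [Subgroup.coe_one, inv_one, one_mul])

lemma kap_mul [IsMulCommutative K] (hKA : K ⊓ A = ⊥) {u u' : G} (hu : u ∈ K ⊔ A)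
    (hu' : u' ∈ K ⊔ A) :
    kap K A (u * u') = kap K A u * MulAut.conjNormal u (kap K A u') := by
  apply kap_unique K A hKA
  have ha := kap_spec K A hu
  have ha' := kap_spec K A hu'
  obtain ⟨κ, hκ⟩ : ∃ κ : K, κ = kap K A u := ⟨_, rfl⟩
  obtain ⟨κ', hκ'⟩ : ∃ κ' : K, κ' = kap K A u' := ⟨_, rfl⟩
  rw [← hκ] at ha ⊢
  rw [← hκ'] at ha' ⊢
  -- commutation inside K
  have hcomm : (κ : G) * (u * (κ' : G)⁻¹ * u⁻¹) = (u * (κ' : G)⁻¹ * u⁻¹) * (κ : G) := by
    have hmem : u * (κ' : G)⁻¹ * u⁻¹ ∈ K := by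
      have := (inferInstance : K.Normal).conj_mem _ (K.inv_mem κ'.2) u
      exact this
    have := mul_comm' κ (⟨_, hmem⟩ : K)
    exact congrArg Subtype.val this
  have e : ((κ * MulAut.conjNormal u κ' : K) : G)⁻¹ * (u * u')
      = ((κ : G)⁻¹ * u) * ((κ' : G)⁻¹ * u') := by
    rw [Subgroup.coe_mul, MulAut.conjNormal_apply, mul_inv_rev]
    have e1 : (u * (κ' : G) * u⁻¹)⁻¹ = u * (κ' : G)⁻¹ * u⁻¹ := by group
    rw [e1]
    -- (u κ'⁻¹ u⁻¹) κ⁻¹ u u' = κ⁻¹ u κ'⁻¹ u'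
    have hc : Commute (κ : G) (u * (κ' : G)⁻¹ * u⁻¹) := hcomm
    have e2 : (u * (κ' : G)⁻¹ * u⁻¹) * (κ : G)⁻¹ = (κ : G)⁻¹ * (u * (κ' : G)⁻¹ * u⁻¹) :=
      hc.inv_left.eq.symm
    rw [e2]; group
  rw [e]
  exact A.mul_mem ha ha'

end kappa

section psi

variable (K U A : Subgroup G) [K.Normal]

/-- the `U`-part of `g * q.out` -/
noncomputable def ups (g : G) (q : G ⧸ U) : G := ((g • q).out)⁻¹ * g * q.out

lemma smul_eq_mk (g : G) (q : G ⧸ U) : g • q = ((g * q.out : G) : G ⧸ U) := by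
  conv_lhs => rw [← QuotientGroup.out_eq' q]
  rfl

lemma ups_mem (g : G) (q : G ⧸ U) : ups U g q ∈ U := by
  unfold ups
  have h1 : (((g • q).out : G) : G ⧸ U) = ((g * q.out : G) : G ⧸ U) := by
    rw [QuotientGroup.out_eq', smul_eq_mk]
  rw [QuotientGroup.eq] at h1
  rwa [mul_assoc]

lemma out_mul_ups (g : G) (q : G ⧸ U) : (g • q).out * ups U g q = g * q.out := by
  unfold ups; group

/-- the `s`-th factor of `psi g` -/
noncomputable def fac (g : G) (s : G ⧸ U) : K :=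
  MulAut.conjNormal ((g • s).out) (kap K A (ups U g s))

variable [Fintype (G ⧸ U)] [IsMulCommutative K]

/-- the averaged crossed homomorphism -/
noncomputable def psi (g : G) : K := ∏ q : G ⧸ U, fac K U A g q

lemma fac_mul (hKA : K ⊓ A = ⊥) (hU : K ⊔ A = U) (g g' : G) (q : G ⧸ U) :
    fac K U A (g * g') q = fac K U A g (g' • q) * MulAut.conjNormal g (fac K U A g' q) := by
  unfold fac
  have h1 : ups U (g * g') q = ups U g (g' • q) * ups U g' q := by
    unfold ups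
    rw [mul_smul]; group
  have hm1 : ups U g (g' • q) ∈ K ⊔ A := hU ▸ ups_mem U g (g' • q)
  have hm2 : ups U g' q ∈ K ⊔ A := hU ▸ ups_mem U g' q
  rw [h1, kap_mul K A hKA hm1 hm2, map_mul, mul_smul]
  congr 1
  rw [← MulAut.mul_apply, ← map_mul, ← MulAut.mul_apply, ← map_mul, out_mul_ups]

lemma psi_mul (hKA : K ⊓ A = ⊥) (hU : K ⊔ A = U) (g g' : G) :
    psi K U A (g * g') = psi K U A g * MulAut.conjNormal g (psi K U A g') := by
  unfold psi
  rw [map_prod, ← Equiv.prod_comp (MulAction.toPerm g') (fun s => fac K U A g s),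
    ← Finset.prod_mul_distrib]
  apply Finset.prod_congr rfl
  intro q _
  rw [fac_mul K U A hKA hU]
  rfl

lemma psi_coe (hKA : K ⊓ A = ⊥) (hU : K ⊔ A = U) (k : K) :
    psi K U A (k : G) = k ^ Fintype.card (G ⧸ U) := by
  unfold psi
  rw [← Finset.card_univ, ← Finset.prod_const]
  apply Finset.prod_congr rfl
  intro q _
  have hKU : K ≤ U := hU ▸ le_sup_left
  have hmem : (q.out)⁻¹ * (k : G) * q.out ∈ K := by
    have := (inferInstance : K.Normal).conj_mem _ k.2 (q.out)⁻¹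
    rwa [inv_inv] at this
  have h1 : (k : G) • q = q := by
    rw [smul_eq_mk]
    conv_rhs => rw [← QuotientGroup.out_eq' q]
    rw [QuotientGroup.eq]
    have : ((k : G) * q.out)⁻¹ * q.out = ((q.out)⁻¹ * (k : G) * q.out)⁻¹ := by group
    rw [this]
    exact U.inv_mem (hKU hmem)
  unfold fac ups
  rw [h1]
  have h2 := kap_coe K A hKA ⟨_, hmem⟩
  simp only at h2
  rw [h2]
  apply Subtype.ext
  rw [MulAut.conjNormal_apply]
  simp only
  group

end psi

section crossed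

variable (K : Subgroup G) [K.Normal] [IsMulCommutative K]

lemma conjNormal_coe_apply (k x : K) : MulAut.conjNormal (k : G) x = x := by
  apply Subtype.ext
  rw [MulAut.conjNormal_apply]
  have := mul_comm' k x
  have h2 : (k : G) * (x : G) = (x : G) * (k : G) := congrArg Subtype.val this
  rw [h2, mul_inv_cancel_right]

/-- the kernel of a crossed homomorphism `ψ : G → K` with `ψ k = k ^ n`, `n` prime to `|K|`,
is a complement of `K`. -/
theorem exists_complement_of_crossed [Finite G] (ψ : G → K) (n : ℕ)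
    (hcop : (Nat.card K).Coprime n)
    (hmul : ∀ g g', ψ (g * g') = ψ g * MulAut.conjNormal g (ψ g'))
    (hK : ∀ k : K, ψ (k : G) = k ^ n) :
    ∃ H : Subgroup G, Subgroup.IsComplement' K H ∧ ∀ g, g ∈ H ↔ ψ g = 1 := by
  have h1 : ψ 1 = 1 := by
    have := hmul 1 1
    rw [mul_one, map_one, MulAut.one_apply] at this
    exact (mul_eq_left (a := ψ 1)).mp this.symm
  obtain ⟨H, hH⟩ : ∃ H : Subgroup G, ∀ g, g ∈ H ↔ ψ g = 1 := by
    refine ⟨{ carrier := {g | ψ g = 1}, mul_mem' := ?_, one_mem' := h1, inv_mem' := ?_ },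
      fun g => Iff.rfl⟩
    · intro a b ha hb
      change ψ (a * b) = 1
      rw [hmul, show ψ a = 1 from ha, show ψ b = 1 from hb, map_one, one_mul]
    · intro a ha
      change ψ a⁻¹ = 1
      have := hmul a⁻¹ a
      rw [inv_mul_cancel, h1, show ψ a = 1 from ha, map_one, mul_one] at this
      exact this.symm
  refine ⟨H, ?_, hH⟩
  apply Subgroup.isComplement'_of_disjoint_and_mul_eq_univ
  · rw [disjoint_iff, eq_bot_iff]
    intro x hx
    have hxK : x ∈ K := hx.1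
    have hxH : x ∈ H := hx.2
    rw [hH] at hxH
    have h2 := hK ⟨x, hxK⟩
    simp only at h2
    rw [hxH] at h2
    have h3 : (powCoprime hcop) ⟨x, hxK⟩ = (powCoprime hcop) 1 := by
      rw [powCoprime_apply, powCoprime_apply, one_pow, ← h2]
    have h4 := (powCoprime hcop).injective h3
    rw [Subgroup.mem_bot]
    exact congrArg Subtype.val h4
  · rw [Set.eq_univ_iff_forall]
    intro g
    obtain ⟨k, hk⟩ := (powCoprime hcop).surjective (ψ g)
    rw [powCoprime_apply] at hk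
    refine Set.mem_mul.mpr ⟨(k : G), k.2, (k : G)⁻¹ * g, ?_, by group⟩
    rw [SetLike.mem_coe, hH, hmul]
    have h5 : ((k : G)⁻¹) = ((k⁻¹ : K) : G) := rfl
    rw [h5, conjNormal_coe_apply, hK, inv_pow, hk, inv_mul_cancel]

end crossed

section existence

/-- **Gaschütz, existence.** -/
theorem exists_complement [Finite G] (K U : Subgroup G) [K.Normal] [IsMulCommutative K]
    (hcop : (Nat.card K).Coprime U.index)
    (A : Subgroup G) (hAK : K ⊓ A = ⊥) (hKA : K ⊔ A = U) :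
    ∃ H : Subgroup G, Subgroup.IsComplement' K H := by
  classical
  have := Fintype.ofFinite (G ⧸ U)
  have hn : Fintype.card (G ⧸ U) = U.index := by
    rw [Subgroup.index_eq_card, Nat.card_eq_fintype_card]
  obtain ⟨H, hH, -⟩ := exists_complement_of_crossed K (psi K U A) (Fintype.card (G ⧸ U))
    (hn ▸ hcop) (psi_mul K U A hAK hKA) (psi_coe K U A hAK hKA)
  exact ⟨H, hH⟩

end existence

section conjugacy

open scoped Pointwise

/-- **Gaschütz, conjugacy.** -/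
theorem conj_complements [Finite G] (K U : Subgroup G) [K.Normal] [IsMulCommutative K]
    (hKU : K ≤ U) (hcop : (Nat.card K).Coprime U.index)
    (H₀ H₁ : Subgroup G) (h₀ : Subgroup.IsComplement' K H₀) (h₁ : Subgroup.IsComplement' K H₁)
    (hU : H₀ ⊓ U = H₁ ⊓ U) :
    ∃ g : G, MulAut.conj g • H₀ = H₁ := by
  classical
  have := Fintype.ofFinite (G ⧸ U)
  have hn : Fintype.card (G ⧸ U) = U.index := by
    rw [Subgroup.index_eq_card, Nat.card_eq_fintype_card]
  obtain ⟨n, hndef⟩ : ∃ n, n = Fintype.card (G ⧸ U) := ⟨_, rfl⟩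
  have hcop' : (Nat.card K).Coprime n := by rw [hndef, hn]; exact hcop
  have hd0 : K ⊓ H₀ = ⊥ := h₀.disjoint.eq_bot
  have hd1 : K ⊓ H₁ = ⊥ := h₁.disjoint.eq_bot
  have hs0 : ∀ g : G, g ∈ K ⊔ H₀ := fun g => h₀.sup_eq_top ▸ Subgroup.mem_top g
  have hs1 : ∀ g : G, g ∈ K ⊔ H₁ := fun g => h₁.sup_eq_top ▸ Subgroup.mem_top g
  obtain ⟨φ₀, hφ₀⟩ : ∃ φ₀ : G → K, φ₀ = kap K H₀ := ⟨_, rfl⟩
  obtain ⟨φ₁, hφ₁⟩ : ∃ φ₁ : G → K, φ₁ = kap K H₁ := ⟨_, rfl⟩
  have hmul0 : ∀ g g', φ₀ (g * g') = φ₀ g * MulAut.conjNormal g (φ₀ g') := by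
    intro g g'; rw [hφ₀]; exact kap_mul K H₀ hd0 (hs0 g) (hs0 g')
  have hmul1 : ∀ g g', φ₁ (g * g') = φ₁ g * MulAut.conjNormal g (φ₁ g') := by
    intro g g'; rw [hφ₁]; exact kap_mul K H₁ hd1 (hs1 g) (hs1 g')
  obtain ⟨δ, hδ⟩ : ∃ δ : G → K, δ = fun g => φ₀ g * (φ₁ g)⁻¹ := ⟨_, rfl⟩
  have hδmul : ∀ g g', δ (g * g') = δ g * MulAut.conjNormal g (δ g') := by
    intro g g'
    simp only [hδ]
    rw [hmul0, hmul1, map_mul, map_inv, mul_inv]
    exact mul_mul_mul_comm _ _ _ _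
  have hδU : ∀ u ∈ U, δ u = 1 := by
    intro u hu
    simp only [hδ]
    rw [mul_inv_eq_one]
    symm
    rw [hφ₁]
    apply kap_unique K H₁ hd1
    have h1 : ((φ₀ u : K) : G)⁻¹ * u ∈ H₀ := by rw [hφ₀]; exact kap_spec K H₀ (hs0 u)
    have h2 : ((φ₀ u : K) : G)⁻¹ * u ∈ U := U.mul_mem (U.inv_mem (hKU (φ₀ u).2)) hu
    have h3 : ((φ₀ u : K) : G)⁻¹ * u ∈ H₀ ⊓ U := ⟨h1, h2⟩
    rw [hU] at h3
    exact h3.1
  have hδmulU : ∀ g, ∀ u ∈ U, δ (g * u) = δ g := by
    intro g u hu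
    rw [hδmul, hδU u hu, map_one, mul_one]
  obtain ⟨c, hc⟩ : ∃ c : K, c = ∏ q : G ⧸ U, δ (q.out) := ⟨_, rfl⟩
  have hc1 : ∀ g : G, ∏ q : G ⧸ U, δ (g * q.out) = c := by
    intro g
    rw [hc, ← Equiv.prod_comp (MulAction.toPerm g) (fun s : G ⧸ U => δ (s.out))]
    apply Finset.prod_congr rfl
    intro q _
    rw [← out_mul_ups U g q, hδmulU _ _ (ups_mem U g q)]
    rfl
  have hc2 : ∀ g : G, ∏ q : G ⧸ U, δ (g * q.out) = δ g ^ n * MulAut.conjNormal g c := by
    intro g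
    rw [hc, map_prod, hndef, ← Finset.card_univ, ← Finset.prod_const, ← Finset.prod_mul_distrib]
    apply Finset.prod_congr rfl
    intro q _
    exact hδmul g _
  obtain ⟨d, hd⟩ := (powCoprime hcop').surjective c
  rw [powCoprime_apply] at hd
  have hδd : ∀ g : G, δ g = d * (MulAut.conjNormal g d)⁻¹ := by
    intro g
    apply (powCoprime hcop').injective
    rw [powCoprime_apply, powCoprime_apply, mul_pow, inv_pow, ← map_pow, hd]
    have := (hc2 g).symm.trans (hc1 g)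
    rw [eq_mul_inv_iff_mul_eq]
    exact this
  have hφ₀eq : ∀ g, φ₀ g = δ g * φ₁ g := by
    intro g
    simp only [hδ]
    rw [inv_mul_cancel_right]
  have hle : ∀ h ∈ H₁, (d : G)⁻¹ * h * (d : G) ∈ H₀ := by
    intro h hh
    have h1 : φ₁ h = 1 := by
      rw [hφ₁]; exact (kap_eq_one_iff K H₁ hd1 (hs1 h)).mpr hh
    have h2 : φ₁ ((d : G)⁻¹ * h * (d : G)) = d⁻¹ * MulAut.conjNormal h d := by
      rw [mul_assoc, hmul1, hmul1, h1, one_mul]
      have e1 : ((d : G)⁻¹) = ((d⁻¹ : K) : G) := rfl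
      rw [e1, conjNormal_coe_apply]
      congr 1
      · rw [hφ₁]; exact kap_coe K H₁ hd1 d⁻¹
      · rw [hφ₁, kap_coe K H₁ hd1 d]
    have h3 : MulAut.conjNormal ((d : G)⁻¹ * h * (d : G)) d = MulAut.conjNormal h d := by
      rw [map_mul, map_mul, MulAut.mul_apply, MulAut.mul_apply, conjNormal_coe_apply]
      have e1 : ((d : G)⁻¹) = ((d⁻¹ : K) : G) := rfl
      rw [e1, conjNormal_coe_apply]
    have h4 : φ₀ ((d : G)⁻¹ * h * (d : G)) = 1 := by
      rw [hφ₀eq, hδd, h2, h3]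
      rw [mul_mul_mul_comm, mul_inv_cancel, inv_mul_cancel, one_mul]
    rw [hφ₀] at h4
    exact (kap_eq_one_iff K H₀ hd0 (hs0 _)).mp h4
  refine ⟨(d : G), ?_⟩
  have hcard : Nat.card H₀ = Nat.card H₁ := by
    have e0 := h₀.card_mul_card
    have e1 := h₁.card_mul_card
    exact Nat.eq_of_mul_eq_mul_left Nat.card_pos (e0.trans e1.symm)
  have hle' : H₁ ≤ MulAut.conj (d : G) • H₀ := by
    intro h hh
    rw [Subgroup.mem_pointwise_smul_iff_inv_smul_mem, MulAut.smul_def, MulAut.conj_inv_apply]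
    exact hle h hh
  symm
  apply Subgroup.eq_of_le_of_card_ge hle'
  rw [← hcard]
  exact le_of_eq (Nat.card_congr (Subgroup.equivSMul (MulAut.conj (d : G)) H₀).toEquiv).symm

end conjugacy

end Cfsg.Agent.H2.Gasch
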