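import Mathlib
import Cfsg.Agent.H1.Card
import Cfsg.Agent.H2.ConjMap
import Cfsg.Agent.Lib.Helper7.SylowLib

/-!
# Marshall Hall's product formula for Sylow numbers (helper2)

`n_p(G) = n_p(G/K) * n_p(K) * n_p(N_{PK}(P ∩ K)/(P ∩ K))` for `K ⊴ G`, `P ∈ Syl_p(G)`.
-/

set_option autoImplicit false

namespace Cfsg.Agent.H2.SylProd

open Cfsg.Agent.H2 Cfsg.Agent.H1

variable {G : Type*} [Group G] [Finite G] {p : ℕ} [Fact p.Prime]

theorem card_sylow_quotient (K : Subgroup G) [K.Normal] (P : Sylow p G) :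
    Nat.card (Sylow p (G ⧸ K)) =
      (Subgroup.normalizer (((P : Subgroup G) ⊔ K : Subgroup G) : Set G)).index := by
  have hsurj := QuotientGroup.mk'_surjective K
  have h0 : Nat.card (Sylow p (G ⧸ K)) = (Subgroup.normalizer
      (((P.mapSurjective hsurj : Sylow p (G ⧸ K)) : Subgroup (G ⧸ K)) : Set (G ⧸ K))).index :=
    Sylow.card_eq_index_normalizer _
  rw [h0, Sylow.coe_mapSurjective]
  have h1 : (Subgroup.normalizer (((P : Subgroup G).map (QuotientGroup.mk' K) : Subgroup (G ⧸ K)) :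
      Set (G ⧸ K))).comap (QuotientGroup.mk' K) =
      Subgroup.normalizer (((P : Subgroup G) ⊔ K : Subgroup G) : Set G) := by
    rw [Subgroup.comap_normalizer_eq_of_surjective _ hsurj, Subgroup.comap_map_eq,
      QuotientGroup.ker_mk']
  rw [← h1, Subgroup.index_comap_of_surjective _ hsurj]

theorem not_dvd_relIndex_normal (K : Subgroup G) [K.Normal] (P : Sylow p G) :
    ¬ p ∣ (P : Subgroup G).relIndex K := by
  have hPK : (P : Subgroup G) ≤ Subgroup.normalizer (K : Set G) := by
    rw [Subgroup.normalizer_eq_top]; exact le_top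
  have h1 := relIndex_inf_eq_relIndex_sup (P : Subgroup G) K hPK
  rw [Subgroup.inf_relIndex_right] at h1
  rw [h1]
  intro hd
  have h2 := Subgroup.relIndex_mul_index (le_sup_left : (P : Subgroup G) ≤ (P : Subgroup G) ⊔ K)
  exact P.not_dvd_index (h2 ▸ Dvd.dvd.mul_right hd _)

theorem card_sylow_normal (K : Subgroup G) [K.Normal] (P : Sylow p G) :
    Nat.card (Sylow p K) =
      (Subgroup.normalizer (((P : Subgroup G) ⊓ K : Subgroup G) : Set G)).relIndex K := by
  have hp1 : IsPGroup p ((P : Subgroup G).subgroupOf K) := P.2.comap_subtype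
  have hp2 : ¬ p ∣ ((P : Subgroup G).subgroupOf K).index := not_dvd_relIndex_normal K P
  have h0 : Nat.card (Sylow p K) = (Subgroup.normalizer
      (((hp1.toSylow hp2 : Sylow p K) : Subgroup K) : Set K)).index :=
    Sylow.card_eq_index_normalizer _
  rw [h0, IsPGroup.toSylow_coe,
    ← Subgroup.inf_subgroupOf_right, ← Subgroup.subgroupOf_normalizer_eq inf_le_right]
  rfl

theorem card_sylow_section (P : Sylow p G) (N D : Subgroup G) (hPN : (P : Subgroup G) ≤ N)
    (hDP : D ≤ (P : Subgroup G)) [hn : (D.subgroupOf N).Normal] :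
    Nat.card (Sylow p (↥N ⧸ D.subgroupOf N)) =
      (Subgroup.normalizer ((P : Subgroup G) : Set G)).relIndex N := by
  have hsurj := QuotientGroup.mk'_surjective (D.subgroupOf N)
  have h0 : Nat.card (Sylow p (↥N ⧸ D.subgroupOf N)) = (Subgroup.normalizer
      ((((P.subtype hPN).mapSurjective hsurj : Sylow p (↥N ⧸ D.subgroupOf N)) :
        Subgroup (↥N ⧸ D.subgroupOf N)) : Set (↥N ⧸ D.subgroupOf N))).index :=
    Sylow.card_eq_index_normalizer _
  rw [h0, Sylow.coe_mapSurjective, Sylow.coe_subtype]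
  have h1 : (Subgroup.normalizer ((((P : Subgroup G).subgroupOf N).map
      (QuotientGroup.mk' (D.subgroupOf N)) : Subgroup (↥N ⧸ D.subgroupOf N)) :
      Set (↥N ⧸ D.subgroupOf N))).comap (QuotientGroup.mk' (D.subgroupOf N)) =
      Subgroup.normalizer (((P : Subgroup G).subgroupOf N : Subgroup N) : Set N) := by
    rw [Subgroup.comap_normalizer_eq_of_surjective _ hsurj, Subgroup.comap_map_eq,
      QuotientGroup.ker_mk']
    congr 2
    rw [sup_eq_left]
    intro x hx
    exact hDP hx
  rw [← Subgroup.index_comap_of_surjective _ hsurj, h1,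
    ← Subgroup.subgroupOf_normalizer_eq hPN]
  rfl

/-- The index identity behind Hall's formula. -/
theorem index_formula (K : Subgroup G) [K.Normal] (P : Sylow p G) (N : Subgroup G)
    (hN : N = ((P : Subgroup G) ⊔ K) ⊓
      Subgroup.normalizer (((P : Subgroup G) ⊓ K : Subgroup G) : Set G)) :
    (Subgroup.normalizer ((P : Subgroup G) : Set G)).index =
      (Subgroup.normalizer (((P : Subgroup G) ⊔ K : Subgroup G) : Set G)).index *
      (Subgroup.normalizer (((P : Subgroup G) ⊓ K : Subgroup G) : Set G)).relIndex K *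
      (Subgroup.normalizer ((P : Subgroup G) : Set G)).relIndex N := by
  -- notation
  obtain ⟨A, hA⟩ : ∃ A, A = Subgroup.normalizer ((P : Subgroup G) : Set G) := ⟨_, rfl⟩
  obtain ⟨L, hL⟩ : ∃ L, L = Subgroup.normalizer (((P : Subgroup G) ⊔ K : Subgroup G) : Set G) :=
    ⟨_, rfl⟩
  obtain ⟨M, hM⟩ : ∃ M, M = Subgroup.normalizer (((P : Subgroup G) ⊓ K : Subgroup G) : Set G) :=
    ⟨_, rfl⟩
  rw [← hA, ← hL, ← hM]
  rw [← hM] at hN
  have hKconj : ∀ g : G, K.map (MulAut.conj g).toMonoidHom = K := by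
    intro g
    rw [map_conj_eq_self_iff_mem_normalizer, Subgroup.normalizer_eq_top]; trivial
  have hPA : (P : Subgroup G) ≤ A := hA ▸ Subgroup.le_normalizer
  have hAL : A ≤ L := by
    intro g hg
    rw [hL, ← map_conj_eq_self_iff_mem_normalizer, Subgroup.map_sup, hKconj,
      (map_conj_eq_self_iff_mem_normalizer _ g).mpr (hA ▸ hg)]
  have hAM : A ≤ M := by
    intro g hg
    rw [hM, ← map_conj_eq_self_iff_mem_normalizer,
      Subgroup.map_inf _ _ _ (MulAut.conj g).injective, hKconj,
      (map_conj_eq_self_iff_mem_normalizer _ g).mpr (hA ▸ hg)]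
  have hPM : (P : Subgroup G) ≤ M := hPA.trans hAM
  have hPKM : (P : Subgroup G) ⊓ K ≤ M := hM ▸ Subgroup.le_normalizer
  -- Frattini: L = A ⊔ K
  have hLAK : L = A ⊔ K := by
    apply le_antisymm
    · intro g hg
      have hg' : ((P : Subgroup G) ⊔ K).map (MulAut.conj g).toMonoidHom = (P : Subgroup G) ⊔ K :=
        (map_conj_eq_self_iff_mem_normalizer _ g).mpr (hL ▸ hg)
      have hQle : (P : Subgroup G).map (MulAut.conj g).toMonoidHom ≤ (P : Subgroup G) ⊔ K := by
        rw [← hg']; exact Subgroup.map_mono le_sup_left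
      have hS1 := Cfsg.Agent.Lib.Helper7.IsSylowIn.of_sylow_le P
        (le_sup_left : (P : Subgroup G) ≤ (P : Subgroup G) ⊔ K)
      have hS2 : Cfsg.Agent.Lib.Helper7.IsSylowIn p
          ((P : Subgroup G).map (MulAut.conj g).toMonoidHom) ((P : Subgroup G) ⊔ K) :=
        ⟨hQle, by rw [card_map_conj]; exact hS1.2⟩
      obtain ⟨h, hh, hconj⟩ := hS1.conj hS2
      have h3 : h⁻¹ * g ∈ A := by
        rw [hA, ← map_conj_eq_self_iff_mem_normalizer, map_conj_mul, hconj, ← map_conj_mul,
          inv_mul_cancel, map_conj_one]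
      have h4 : g = h * (h⁻¹ * g) := by group
      rw [h4]
      have h5 : h ∈ A ⊔ K := (sup_le (hPA.trans le_sup_left) le_sup_right) hh
      exact (A ⊔ K).mul_mem h5 (Subgroup.mem_sup_left h3)
    · refine sup_le hAL ?_
      intro k hk
      rw [hL, ← map_conj_eq_self_iff_mem_normalizer]
      exact map_conj_eq_of_mem _ (Subgroup.mem_sup_right hk)
  -- step 1
  have e1 : A.index = A.relIndex L * L.index := (Subgroup.relIndex_mul_index hAL).symm
  -- step 2
  have hAK : A ≤ Subgroup.normalizer (K : Set G) := by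
    rw [Subgroup.normalizer_eq_top]; exact le_top
  have e2 : A.relIndex L = (A ⊓ K).relIndex K := by
    rw [hLAK, ← relIndex_inf_eq_relIndex_sup A K hAK]
  -- step 3
  have e3 : (A ⊓ K).relIndex K = (A ⊓ K).relIndex (M ⊓ K) * (M ⊓ K).relIndex K :=
    (Subgroup.relIndex_mul_relIndex (A ⊓ K) (M ⊓ K) K (inf_le_inf_right K hAM) inf_le_right).symm
  -- step 4 : N and N ⊓ A
  have hNeq : N = (P : Subgroup G) ⊔ (M ⊓ K) := by
    rw [hN]
    apply le_antisymm
    · rintro x ⟨hx1, hx2⟩
      obtain ⟨a, ha, k, hk, rfl⟩ := Subgroup.mem_sup_of_normal_right.mp hx1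
      have hkM : k ∈ M := by
        have : k = a⁻¹ * (a * k) := by group
        rw [this]
        exact M.mul_mem (M.inv_mem (hPM ha)) hx2
      exact Subgroup.mul_mem_sup ha ⟨hkM, hk⟩
    · exact sup_le (le_inf le_sup_left hPM) (le_inf (inf_le_right.trans le_sup_right) inf_le_left)
  have hNA : A ⊓ N = (P : Subgroup G) ⊔ (A ⊓ K) := by
    apply le_antisymm
    · rintro x ⟨hx1, hx2⟩
      rw [hN] at hx2
      obtain ⟨a, ha, k, hk, rfl⟩ := Subgroup.mem_sup_of_normal_right.mp hx2.1
      have hkA : k ∈ A := by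
        have : k = a⁻¹ * (a * k) := by group
        rw [this]
        exact A.mul_mem (A.inv_mem (hPA ha)) hx1
      exact Subgroup.mul_mem_sup ha ⟨hkA, hk⟩
    · refine sup_le (le_inf hPA ?_) (le_inf inf_le_left ?_)
      · rw [hNeq]; exact le_sup_left
      · rw [hNeq]; exact (inf_le_inf_right K hAM).trans le_sup_right
  have hPnorm1 : (P : Subgroup G) ≤ Subgroup.normalizer ((M ⊓ K : Subgroup G) : Set G) := by
    intro a ha
    rw [← map_conj_eq_self_iff_mem_normalizer, Subgroup.map_inf _ _ _ (MulAut.conj a).injective,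
      hKconj, map_conj_eq_of_mem M (hPM ha)]
  have hPnorm2 : (P : Subgroup G) ≤ Subgroup.normalizer ((A ⊓ K : Subgroup G) : Set G) := by
    intro a ha
    rw [← map_conj_eq_self_iff_mem_normalizer, Subgroup.map_inf _ _ _ (MulAut.conj a).injective,
      hKconj, map_conj_eq_of_mem A (hPA ha)]
  have c1 := card_sup_mul_card_inf (P : Subgroup G) (M ⊓ K) hPnorm1
  have c2 := card_sup_mul_card_inf (P : Subgroup G) (A ⊓ K) hPnorm2
  have hi1 : (P : Subgroup G) ⊓ (M ⊓ K) = (P : Subgroup G) ⊓ K := by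
    apply le_antisymm
    · exact le_inf inf_le_left (inf_le_right.trans inf_le_right)
    · exact le_inf inf_le_left (le_inf hPKM inf_le_right)
  have hi2 : (P : Subgroup G) ⊓ (A ⊓ K) = (P : Subgroup G) ⊓ K := by
    apply le_antisymm
    · exact le_inf inf_le_left (inf_le_right.trans inf_le_right)
    · exact le_inf inf_le_left (le_inf (inf_le_left.trans hPA) inf_le_right)
  rw [hi1, ← hNeq] at c1
  rw [hi2, ← hNA] at c2
  have c3 : Nat.card N = (A ⊓ N).relIndex N * Nat.card (A ⊓ N : Subgroup G) :=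
    card_eq_relIndex_mul_card inf_le_right
  have c4 : Nat.card (M ⊓ K : Subgroup G) =
      (A ⊓ K).relIndex (M ⊓ K) * Nat.card (A ⊓ K : Subgroup G) :=
    card_eq_relIndex_mul_card (inf_le_inf_right K hAM)
  have e4 : A.relIndex N = (A ⊓ K).relIndex (M ⊓ K) := by
    rw [← Subgroup.inf_relIndex_right A N]
    have hpos1 : 0 < Nat.card (A ⊓ N : Subgroup G) := Nat.card_pos
    have hpos2 : 0 < Nat.card ((P : Subgroup G) ⊓ K : Subgroup G) := Nat.card_pos
    have key : (A ⊓ N).relIndex N * (Nat.card (A ⊓ N : Subgroup G) *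
        Nat.card ((P : Subgroup G) ⊓ K : Subgroup G)) =
        (A ⊓ K).relIndex (M ⊓ K) * (Nat.card (A ⊓ N : Subgroup G) *
        Nat.card ((P : Subgroup G) ⊓ K : Subgroup G)) := by
      calc (A ⊓ N).relIndex N * (Nat.card (A ⊓ N : Subgroup G) *
            Nat.card ((P : Subgroup G) ⊓ K : Subgroup G))
          = Nat.card N * Nat.card ((P : Subgroup G) ⊓ K : Subgroup G) := by rw [c3]; ring
        _ = Nat.card (P : Subgroup G) * Nat.card (M ⊓ K : Subgroup G) := c1
        _ = (A ⊓ K).relIndex (M ⊓ K) *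
            (Nat.card (P : Subgroup G) * Nat.card (A ⊓ K : Subgroup G)) := by rw [c4]; ring
        _ = (A ⊓ K).relIndex (M ⊓ K) * (Nat.card (A ⊓ N : Subgroup G) *
            Nat.card ((P : Subgroup G) ⊓ K : Subgroup G)) := by rw [c2]
    exact Nat.eq_of_mul_eq_mul_right (Nat.mul_pos hpos1 hpos2) key
  rw [e1, e2, e3, e4, Subgroup.inf_relIndex_right M K]
  ring

/-- Hall's formula (statement S4341). -/
theorem card_sylow_eq_mul (K : Subgroup G) [K.Normal] (P : Sylow p G) (N : Subgroup G)
    (hN : N = ((P : Subgroup G) ⊔ K) ⊓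
      Subgroup.normalizer (((P : Subgroup G) ⊓ K : Subgroup G) : Set G))
    [hn : (((P : Subgroup G) ⊓ K).subgroupOf N).Normal] :
    Nat.card (Sylow p G) =
      Nat.card (Sylow p (G ⧸ K)) * Nat.card (Sylow p K) *
        Nat.card (Sylow p (N ⧸ ((P : Subgroup G) ⊓ K).subgroupOf N)) := by
  have hPN : (P : Subgroup G) ≤ N := by
    rw [hN]
    refine le_inf le_sup_left ?_
    intro a ha
    rw [← map_conj_eq_self_iff_mem_normalizer, Subgroup.map_inf _ _ _ (MulAut.conj a).injective,
      map_conj_eq_of_mem _ ha]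
    congr 1
    rw [map_conj_eq_self_iff_mem_normalizer, Subgroup.normalizer_eq_top]; trivial
  rw [Sylow.card_eq_index_normalizer P, card_sylow_quotient K P, card_sylow_normal K P,
    card_sylow_section P N ((P : Subgroup G) ⊓ K) hPN inf_le_left]
  exact index_formula K P N hN

end Cfsg.Agent.H2.SylProd
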