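import Mathlib
import Cfsg.Agent.H2.AD1
import Cfsg.Agent.Lib.helper3.Gallagher3
import Cfsg.Agent.Lib.helper3.CentType1
import Cfsg.Agent.Lib.helper3.AbelianInertia
import Cfsg.Agent.Lib.helper3.Inflate2

/-!
# Alperin–Dade (S4551), piece P2: Step A (abelian quotient)
-/

set_option autoImplicit false
set_option linter.style.haveILetI false
set_option linter.unusedSectionVars false

namespace Cfsg.Agent.H2.AD

open Cfsg Cfsg.Agent.Lib.helper3.Block Cfsg.Agent.Lib.helper3.LocalM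
open Cfsg.Agent.Lib.helper3.Irr Cfsg.Agent.Lib.helper3.CharBasic Cfsg.Agent.Lib.helper3.IndFun
open scoped ComplexConjugate

universe u

variable {X : Type u} [Group X] [Finite X] {p : ℕ} [Fact p.Prime] {M : Ideal AlgInt}

theorem quotient_comm_of_comm_mem (N : Subgroup X) [hN : N.Normal]
    (hab : ∀ a b : X, a * b * a⁻¹ * b⁻¹ ∈ N) : ∀ a b : X ⧸ N, a * b = b * a := by
  intro a b
  obtain ⟨a, rfl⟩ := QuotientGroup.mk_surjective a
  obtain ⟨b, rfl⟩ := QuotientGroup.mk_surjective b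
  rw [← QuotientGroup.mk_mul, ← QuotientGroup.mk_mul, QuotientGroup.eq]
  have : (a * b)⁻¹ * (b * a) = b⁻¹ * a⁻¹ * b⁻¹⁻¹ * a⁻¹⁻¹ := by group
  rw [this]
  exact hab b⁻¹ a⁻¹

open Classical in
/-- The norm of the restriction to `N` as a sum over the linear characters of the abelian
quotient. -/
theorem classInner_restrict_eq_sum [Fintype X] (N : Subgroup X) [hN : N.Normal] [Fintype N]
    [Fintype (X ⧸ N)] (hcomm : ∀ a b : X ⧸ N, a * b = b * a) (χ : X → ℂ) :
    classInner (fun n : N => χ n) (fun n : N => χ n)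
      = ∑ lam : IrrCharacter (X ⧸ N), classInner (inflate N (lam : X ⧸ N → ℂ) * χ) χ := by
  have hcol : ∀ q : X ⧸ N, ∑ lam : IrrCharacter (X ⧸ N), (lam : X ⧸ N → ℂ) q
      = if q = 1 then (Nat.card (X ⧸ N) : ℂ) else 0 := by
    intro q
    have h0 := Cfsg.Agent.Lib.helper3.CentType.column_orthogonality_comm hcomm q 1
    have h1 : ∑ lam : IrrCharacter (X ⧸ N), (lam : X ⧸ N → ℂ) q
        = ∑ β : IrrCharacter (X ⧸ N), (β : X ⧸ N → ℂ) q * conj ((β : X ⧸ N → ℂ) 1) := by
      apply Finset.sum_congr rfl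
      intro lam _
      rw [apply_one_eq_one_of_comm hcomm lam.2, map_one, mul_one]
    rw [h1, h0]
    by_cases hq : q = 1
    · rw [if_pos hq, if_pos hq]
    · rw [if_neg hq, if_neg hq]
  have h1 : ∑ lam : IrrCharacter (X ⧸ N), classInner (inflate N (lam : X ⧸ N → ℂ) * χ) χ
      = (Nat.card X : ℂ)⁻¹ * ∑ g : X,
          (∑ lam : IrrCharacter (X ⧸ N), (lam : X ⧸ N → ℂ) (g : X ⧸ N)) * (χ g * conj (χ g)) := by
    simp_rw [classInner_apply]
    rw [← Finset.mul_sum, Finset.sum_comm]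
    congr 1
    apply Finset.sum_congr rfl
    intro g _
    rw [Finset.sum_mul]
    apply Finset.sum_congr rfl
    intro lam _
    rw [Pi.mul_apply, inflate_apply]
    ring
  rw [h1]
  simp_rw [hcol]
  have h2 : ∑ g : X, (if (g : X ⧸ N) = 1 then (Nat.card (X ⧸ N) : ℂ) else 0) * (χ g * conj (χ g))
      = (Nat.card (X ⧸ N) : ℂ) * ∑ n : N, χ n * conj (χ n) := by
    have h3 : ∀ g : X, (if (g : X ⧸ N) = 1 then (Nat.card (X ⧸ N) : ℂ) else 0)
        * (χ g * conj (χ g))
        = if g ∈ N then (Nat.card (X ⧸ N) : ℂ) * (χ g * conj (χ g)) else 0 := by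
      intro g
      by_cases hg : g ∈ N
      · rw [if_pos hg, if_pos ((QuotientGroup.eq_one_iff g).mpr hg)]
      · rw [if_neg hg, if_neg (fun h => hg ((QuotientGroup.eq_one_iff g).mp h)), zero_mul]
    simp_rw [h3]
    rw [← Finset.sum_filter, Finset.mul_sum]
    exact Finset.sum_subtype (Finset.univ.filter (· ∈ N)) (by simp)
      (fun g => (Nat.card (X ⧸ N) : ℂ) * (χ g * conj (χ g)))
  rw [h2, classInner_apply]
  have hcard : (Nat.card X : ℂ) = (Nat.card N : ℂ) * (Nat.card (X ⧸ N) : ℂ) := by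
    rw [← Subgroup.index_eq_card, ← Nat.cast_mul, Subgroup.card_mul_index]
  have hN0 : (Nat.card N : ℂ) ≠ 0 := card_ne_zero_complex N
  have hQ0 : (Nat.card (X ⧸ N) : ℂ) ≠ 0 := by
    have : Nat.card (X ⧸ N) ≠ 0 := Nat.card_pos.ne'
    exact_mod_cast this
  rw [hcard]
  field_simp

/-- Step A (a): a character in the principal block restricts irreducibly to `N` when `X ⧸ N` is
abelian and `X = N · C_X(Q)`. -/
theorem restrict_irr_of_abelian (hM : IsPModular p M) (N : Subgroup X) [hN : N.Normal]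
    (Q : Sylow p X) (hsup : N ⊔ Subgroup.centralizer ((Q : Subgroup X) : Set X) = ⊤)
    (hab : ∀ a b : X, a * b * a⁻¹ * b⁻¹ ∈ N) (χ : IrrCharacter X)
    (hχ : χ ∈ principalBlock M X) : IsIrrCharacter N (fun n : N => (χ : X → ℂ) n) := by
  classical
  letI : Fintype X := Fintype.ofFinite X
  letI : Fintype N := Fintype.ofFinite N
  letI : Fintype (X ⧸ N) := Fintype.ofFinite _
  have hcomm := quotient_comm_of_comm_mem N hab
  have hχc := isCharacter_of_isIrrCharacter χ.2
  apply isIrrCharacter_of_classInner_self_eq_one (isCharacter_restrict hχc N)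
  rw [classInner_restrict_eq_sum N hcomm]
  have hterm : ∀ lam : IrrCharacter (X ⧸ N),
      classInner (inflate N (lam : X ⧸ N → ℂ) * (χ : X → ℂ)) (χ : X → ℂ)
        = if lam = Cfsg.Agent.Lib.helper3.PrincOnly.one (X ⧸ N) then 1 else 0 := by
    intro lam
    have hlamc : IsCharacter X (inflate N (lam : X ⧸ N → ℂ)) :=
      isCharacter_of_isIrrCharacter (isIrrCharacter_inflate N lam.2)
    have hlam1 : inflate N (lam : X ⧸ N → ℂ) 1 = 1 := by
      rw [inflate_apply, QuotientGroup.mk_one]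
      exact apply_one_eq_one_of_comm hcomm lam.2
    have hirr : IsIrrCharacter X (inflate N (lam : X ⧸ N → ℂ) * (χ : X → ℂ)) :=
      isIrrCharacter_linear_mul hlamc hlam1 χ.2
    by_cases hl : lam = Cfsg.Agent.Lib.helper3.PrincOnly.one (X ⧸ N)
    · rw [if_pos hl]
      have : inflate N (lam : X ⧸ N → ℂ) * (χ : X → ℂ) = (χ : X → ℂ) := by
        funext g
        rw [Pi.mul_apply, inflate_apply, hl]
        show (1 : ℂ) * _ = _
        rw [one_mul]
      rw [this]
      exact irr_classInner_self χ.2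
    · rw [if_neg hl]
      apply irr_classInner_eq_zero hirr χ.2
      intro heq
      apply hl
      apply Subtype.ext
      funext q
      show (lam : X ⧸ N → ℂ) q = 1
      obtain ⟨g, rfl⟩ := QuotientGroup.mk_surjective q
      obtain ⟨n, hn, c, hc, rfl⟩ := exists_mul_of_sup_eq_top N _ hsup g
      have hq : ((n * c : X) : X ⧸ N) = (c : X ⧸ N) := by
        rw [QuotientGroup.mk_mul, (QuotientGroup.eq_one_iff n).mpr hn, one_mul]
      rw [hq]
      have h1 := congrFun heq c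
      rw [Pi.mul_apply, inflate_apply] at h1
      have h2 := princ_apply_ne_zero hM Q c hc χ hχ
      exact mul_right_cancel₀ h2 (by rw [h1, one_mul])
  simp_rw [hterm]
  rw [Finset.sum_ite_eq' Finset.univ]
  simp

/-- Step A for an abelian quotient. -/
theorem stepA_abelian (hM : IsPModular p M) (N : Subgroup X) [hN : N.Normal]
    (hidx : ¬ p ∣ N.index) (Q : Sylow p X)
    (hsup : N ⊔ Subgroup.centralizer ((Q : Subgroup X) : Set X) = ⊤)
    (hab : ∀ a b : X, a * b * a⁻¹ * b⁻¹ ∈ N) :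
    (∀ χ ∈ principalBlock M X, ∃ θ ∈ principalBlock M ↥N,
        ∀ n : N, (χ : X → ℂ) n = (θ : N → ℂ) n) ∧
      ∀ θ ∈ principalBlock M ↥N, ∃! χ : IrrCharacter X,
        χ ∈ principalBlock M X ∧ ∀ n : N, (χ : X → ℂ) n = (θ : N → ℂ) n := by
  classical
  letI : Fintype X := Fintype.ofFinite X
  letI : Fintype N := Fintype.ofFinite N
  haveI := isPrime_of_isPModular hM
  have hA : ∀ χ ∈ principalBlock M X, ∃ θ ∈ principalBlock M ↥N,
      ∀ n : N, (χ : X → ℂ) n = (θ : N → ℂ) n := by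
    intro χ hχ
    have hirr := restrict_irr_of_abelian hM N Q hsup hab χ hχ
    refine ⟨⟨_, hirr⟩, ?_, fun n => rfl⟩
    apply constituent_mem_principalBlock hM N χ hχ
    show classInner (fun n : N => (χ : X → ℂ) n) (fun n : N => (χ : X → ℂ) n) ≠ 0
    rw [irr_classInner_self hirr]
    exact one_ne_zero
  refine ⟨hA, ?_⟩
  intro θ hθ
  obtain ⟨χ, hχ, hne⟩ := exists_over_mem_principalBlock hM N θ hθ
  have hirr := restrict_irr_of_abelian hM N Q hsup hab χ hχ
  have hres : (fun n : N => (χ : X → ℂ) n) = (θ : N → ℂ) := by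
    by_contra hcon
    exact hne (irr_classInner_eq_zero hirr θ.2 hcon)
  refine ⟨χ, ⟨hχ, fun n => congrFun hres n⟩, ?_⟩
  rintro χ' ⟨hχ', hres'⟩
  have hres2 : ∀ n : N, (χ' : X → ℂ) n = (χ : X → ℂ) n := by
    intro n
    rw [hres' n, ← congrFun hres n]
  obtain ⟨β, hβc, hβ1, hβN, hβ⟩ := exists_linear_mul_of_restrict_eq N (χ : X → ℂ) (χ' : X → ℂ)
    χ.2 χ'.2 hirr hres2
  have hβone : ∀ g : X, β g = 1 := by
    apply linear_eq_one hM N hidx Q hsup β hβc hβ1 hβN
    intro c hc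
    have h1 := princ_ratio hM Q c hc χ hχ
    have h2 := princ_ratio hM Q c hc χ' hχ'
    have hχ1 : (χ : X → ℂ) 1 ≠ 0 := apply_one_ne_zero χ.2
    have e1 : (χ' : X → ℂ) c = β c * (χ : X → ℂ) c := by
      rw [hβ, Pi.mul_apply]
    have e2 : (χ' : X → ℂ) 1 = (χ : X → ℂ) 1 := by
      rw [hβ, Pi.mul_apply, hβ1, one_mul]
    have h3 : β c - 1 = ((χ' : X → ℂ) c / (χ' : X → ℂ) 1 - 1)
        - β c * ((χ : X → ℂ) c / (χ : X → ℂ) 1 - 1) := by
      rw [e1, e2]
      field_simp
      ring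
    rw [h3]
    exact memLocalIdeal_sub h2 (memLocalIdeal_mul_integral h1
      (Cfsg.Agent.Lib.helper3.Lin.isIntegral_of_isCharacter hβc c))
  apply Subtype.ext
  rw [hβ]
  funext g
  rw [Pi.mul_apply, hβone g, one_mul]

/-- Commutators lie in a normal subgroup of prime index. -/
theorem comm_mem_of_index_prime (N : Subgroup X) [hN : N.Normal] (hprime : (N.index).Prime)
    (a b : X) : a * b * a⁻¹ * b⁻¹ ∈ N := by
  haveI : Fact (Nat.card (X ⧸ N)).Prime := ⟨by rw [← Subgroup.index_eq_card]; exact hprime⟩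
  haveI : IsCyclic (X ⧸ N) := isCyclic_of_prime_card (p := Nat.card (X ⧸ N)) rfl
  have hc : ∀ x y : X ⧸ N, x * y = y * x := fun x y => IsCyclic.commGroup.mul_comm x y
  rw [← QuotientGroup.eq_one_iff]
  simp only [QuotientGroup.mk_mul, QuotientGroup.mk_inv]
  rw [hc (a : X ⧸ N) (b : X ⧸ N)]
  group

/-- Step A for a quotient of prime order. -/
theorem stepA_prime (hM : IsPModular p M) (N : Subgroup X) [hN : N.Normal]
    (hidx : ¬ p ∣ N.index) (Q : Sylow p X)
    (hsup : N ⊔ Subgroup.centralizer ((Q : Subgroup X) : Set X) = ⊤)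
    (hprime : (N.index).Prime) :
    (∀ χ ∈ principalBlock M X, ∃ θ ∈ principalBlock M ↥N,
        ∀ n : N, (χ : X → ℂ) n = (θ : N → ℂ) n) ∧
      ∀ θ ∈ principalBlock M ↥N, ∃! χ : IrrCharacter X,
        χ ∈ principalBlock M X ∧ ∀ n : N, (χ : X → ℂ) n = (θ : N → ℂ) n :=
  stepA_abelian hM N hidx Q hsup (comm_mem_of_index_prime N hprime)

end Cfsg.Agent.H2.AD
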