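import Mathlib
import Cfsg.Agent.H2.AD2
import Cfsg.Agent.Lib.helper3.IrrCongr
import Cfsg.Agent.Lib.helper3.Q8Seven1

/-!
# Alperin–Dade (S4551), piece P2: Corollary A' (invariance of the principal block of `N`)
-/

set_option autoImplicit false
set_option linter.style.haveILetI false
set_option linter.unusedSectionVars false

namespace Cfsg.Agent.H2.AD

open Cfsg Cfsg.Agent.Lib.helper3.Block Cfsg.Agent.Lib.helper3.LocalM
open Cfsg.Agent.Lib.helper3.Irr Cfsg.Agent.Lib.helper3.CharBasic Cfsg.Agent.Lib.helper3.IndFun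
open scoped ComplexConjugate

universe u

variable {X : Type u} [Group X] [Finite X] {p : ℕ} [Fact p.Prime] {M : Ideal AlgInt}

/-- A Sylow `p`-subgroup lies in every normal subgroup of index prime to `p`. -/
theorem sylow_le_of_not_dvd_index (N : Subgroup X) [hN : N.Normal] (hidx : ¬ p ∣ N.index)
    (Q : Sylow p X) : (Q : Subgroup X) ≤ N := by
  intro q hq
  by_contra hqN
  obtain ⟨k, hk⟩ := Q.isPGroup' ⟨q, hq⟩
  have hk' : q ^ (p ^ k) = 1 := by
    have := congrArg Subtype.val hk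
    simpa using this
  have h1 : ((q : X ⧸ N)) ^ (p ^ k) = 1 := by
    rw [← QuotientGroup.mk_pow, hk', QuotientGroup.mk_one]
  have h2 : orderOf (q : X ⧸ N) ∣ p ^ k := orderOf_dvd_of_pow_eq_one h1
  obtain ⟨j, -, hj⟩ := (Nat.dvd_prime_pow (Fact.out : p.Prime)).mp h2
  rcases Nat.eq_zero_or_pos j with h0 | h0
  · rw [h0, pow_zero, orderOf_eq_one_iff] at hj
    exact hqN ((QuotientGroup.eq_one_iff q).mp hj)
  · have h3 : p ∣ orderOf (q : X ⧸ N) := by
      rw [hj]
      exact dvd_pow_self p h0.ne'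
    have h4 : orderOf (q : X ⧸ N) ∣ Nat.card (X ⧸ N) := orderOf_dvd_natCard _
    rw [← Subgroup.index_eq_card] at h4
    exact hidx (h3.trans h4)

/-- A character in the principal block of `N` is invariant under the elements centralizing a
Sylow `p`-subgroup. -/
theorem invariant_centralizer (hM : IsPModular p M) (N : Subgroup X) [hN : N.Normal]
    (hidx : ¬ p ∣ N.index) (Q : Sylow p X) (θ : IrrCharacter ↥N)
    (hθ : θ ∈ principalBlock M ↥N) (c : X)
    (hc : c ∈ Subgroup.centralizer ((Q : Subgroup X) : Set X)) (n : N) :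
    (θ : N → ℂ) ⟨c * n * c⁻¹, hN.conj_mem n n.2 c⟩ = (θ : N → ℂ) n := by
  classical
  -- the subgroup `H = N⟨c⟩`
  obtain ⟨H, hH⟩ : ∃ H : Subgroup X, H = N ⊔ Subgroup.zpowers c := ⟨_, rfl⟩
  have hNH : N ≤ H := by rw [hH]; exact le_sup_left
  have hcH : c ∈ H := by
    rw [hH]
    exact (le_sup_right : Subgroup.zpowers c ≤ _) (Subgroup.mem_zpowers c)
  have hQN := sylow_le_of_not_dvd_index N hidx Q
  have hQH : (Q : Subgroup X) ≤ H := hQN.trans hNH
  letI : Fintype N := Fintype.ofFinite N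
  letI : Fintype H := Fintype.ofFinite H
  letI : Fintype (N.subgroupOf H) := Fintype.ofFinite _
  -- hypotheses of Step A in `H`
  have hidx' : ¬ p ∣ (N.subgroupOf H).index := by
    intro h
    exact hidx (h.trans (Subgroup.relIndex_dvd_index_of_normal N H))
  -- every element of `H` is `n * c ^ k`
  have hdec : ∀ h : H, ∃ m ∈ N, ∃ k : ℤ, (h : X) = m * c ^ k := by
    intro h
    have hh : (h : X) ∈ N ⊔ Subgroup.zpowers c := by rw [← hH]; exact h.2
    rw [← SetLike.mem_coe, Subgroup.normal_mul] at hh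
    obtain ⟨m, hm, z, hz, hmz⟩ := Set.mem_mul.mp hh
    obtain ⟨k, rfl⟩ := Subgroup.mem_zpowers_iff.mp hz
    exact ⟨m, hm, k, hmz.symm⟩
  have hczH : ∀ k : ℤ, c ^ k ∈ H := fun k => H.zpow_mem hcH k
  have hsup' : N.subgroupOf H ⊔ Subgroup.centralizer (((Q.subtype hQH : Sylow p H) :
      Subgroup H) : Set H) = ⊤ := by
    rw [eq_top_iff]
    intro h _
    obtain ⟨m, hm, k, hk⟩ := hdec h
    have h1 : h = (⟨m, hNH hm⟩ : H) * ⟨c ^ k, hczH k⟩ := Subtype.ext hk
    rw [h1]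
    apply Subgroup.mul_mem_sup
    · exact Subgroup.mem_subgroupOf.mpr hm
    · rw [Subgroup.mem_centralizer_iff]
      intro q hq
      rw [SetLike.mem_coe, Sylow.coe_subtype, Subgroup.mem_subgroupOf] at hq
      apply Subtype.ext
      show (q : X) * c ^ k = c ^ k * (q : X)
      have h2 : c ^ k ∈ Subgroup.centralizer ((Q : Subgroup X) : Set X) :=
        Subgroup.zpow_mem _ hc k
      rw [Subgroup.mem_centralizer_iff] at h2
      exact h2 (q : X) hq
  have hab' : ∀ a b : H, a * b * a⁻¹ * b⁻¹ ∈ N.subgroupOf H := by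
    intro a b
    obtain ⟨m, hm, k, hk⟩ := hdec a
    obtain ⟨m', hm', k', hk'⟩ := hdec b
    rw [Subgroup.mem_subgroupOf]
    show (a : X) * (b : X) * (a : X)⁻¹ * (b : X)⁻¹ ∈ N
    rw [← QuotientGroup.eq_one_iff, hk, hk']
    simp only [QuotientGroup.mk_mul, QuotientGroup.mk_inv, QuotientGroup.mk_zpow,
      (QuotientGroup.eq_one_iff m).mpr hm, (QuotientGroup.eq_one_iff m').mpr hm', one_mul]
    have hcomm : Commute ((c : X ⧸ N) ^ k) ((c : X ⧸ N) ^ k') :=
      ((Commute.refl (c : X ⧸ N)).zpow_left k).zpow_right k'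
    rw [hcomm.eq]
    group
  -- transport `θ` to `N.subgroupOf H`
  obtain ⟨ι, hι⟩ : ∃ ι : ↥(N.subgroupOf H) ≃* ↥N, ι = Subgroup.subgroupOfEquivOfLe hNH := ⟨_, rfl⟩
  have hθ' : irrCongr ι θ ∈ principalBlock M ↥(N.subgroupOf H) := by
    rw [← image_irrCongr_principalBlock (M := M) ι]
    exact ⟨θ, hθ, rfl⟩
  obtain ⟨χ, ⟨-, hχres⟩, -⟩ := (stepA_abelian hM (N.subgroupOf H) hidx' (Q.subtype hQH) hsup'
    hab').2 (irrCongr ι θ) hθ'
  -- evaluate
  have hval : ∀ (x : X) (hx : x ∈ N), (χ : H → ℂ) ⟨x, hNH hx⟩ = (θ : N → ℂ) ⟨x, hx⟩ := by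
    intro x hx
    have h1 := hχres ⟨⟨x, hNH hx⟩, Subgroup.mem_subgroupOf.mpr hx⟩
    rw [irrCongr_apply] at h1
    rw [h1, hι]
    rfl
  have hcf := isClassFunction_of_isCharacter (isCharacter_of_isIrrCharacter χ.2)
  have h2 := hcf (⟨(n : X), hNH n.2⟩ : H) ⟨c, hcH⟩
  rw [← hval (c * n * c⁻¹) (hN.conj_mem n n.2 c), ← hval (n : X) n.2]
  exact h2

/-- Corollary A': under the hypotheses of the theorem, every character in the principal block of
`N` is invariant in `X`. -/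
theorem invariant_of_hyp (hM : IsPModular p M) (N : Subgroup X) [hN : N.Normal]
    (hidx : ¬ p ∣ N.index) (Q : Sylow p X)
    (hsup : N ⊔ Subgroup.centralizer ((Q : Subgroup X) : Set X) = ⊤) (θ : IrrCharacter ↥N)
    (hθ : θ ∈ principalBlock M ↥N) (g : X) (n : N) :
    (θ : N → ℂ) ⟨g * n * g⁻¹, hN.conj_mem n n.2 g⟩ = (θ : N → ℂ) n := by
  obtain ⟨m, hm, c, hc, rfl⟩ := exists_mul_of_sup_eq_top N _ hsup g
  have h1 := invariant_centralizer hM N hidx Q θ hθ c hc n
  have hcf := isClassFunction_of_isCharacter (isCharacter_of_isIrrCharacter θ.2)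
  have h2 := hcf (⟨c * n * c⁻¹, hN.conj_mem n n.2 c⟩ : N) ⟨m, hm⟩
  rw [← h1, ← h2]
  refine congrArg _ (Subtype.ext ?_)
  show m * c * n * (m * c)⁻¹ = m * (c * n * c⁻¹) * m⁻¹
  group

end Cfsg.Agent.H2.AD
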