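import Mathlib
import Cfsg.Prelude.Def_Blocks
import Cfsg.Agent.H2.AD1
import Cfsg.Agent.Lib.helper3.Gallagher2
import Cfsg.Agent.Lib.helper3.Clifford
import Cfsg.Agent.Lib.helper3.Inflate2
import Cfsg.Agent.Lib.Helper8.AD1

/-!
# Alperin–Dade (S4551), piece (B7): existence of principal-block extensions gives the statement
-/

set_option autoImplicit false
set_option linter.style.haveILetI false
set_option linter.unusedSectionVars false

namespace Cfsg.Agent.H2.AD

open Cfsg Cfsg.Agent.Lib.helper3.Block Cfsg.Agent.Lib.helper3.LocalM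
open Cfsg.Agent.Lib.helper3.Irr Cfsg.Agent.Lib.helper3.CharBasic Cfsg.Agent.Lib.helper3.IndFun
open scoped ComplexConjugate

universe u

section GAL

variable {G : Type*} [Group G]

/-- Gallagher, surjectivity: an irreducible character lying over the irreducible restriction of
`η` to the normal subgroup `N` is `β η` with `β ∈ Irr(G/N)`. -/
theorem exists_inflate_mul_of_over [Fintype G] (N : Subgroup G) [hN : N.Normal] [Fintype N]
    (η χ : G → ℂ) (hη : IsIrrCharacter G η) (hχ : IsIrrCharacter G χ)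
    (hηN : IsIrrCharacter N (fun n : N => η n))
    (hover : classInner (fun n : N => χ n) (fun n : N => η n) ≠ 0) :
    ∃ β : IrrCharacter (G ⧸ N), χ = inflate N (β : G ⧸ N → ℂ) * η := by
  classical
  have hηc := isCharacter_of_isIrrCharacter hη
  have hcf := isClassFunction_of_isCharacter hηc
  have hcf' := isClassFunction_of_isCharacter (isCharacter_of_isIrrCharacter hχ)
  have hprodeq : ((fun _ : N => (1 : ℂ)) * fun n : N => η n) = fun n : N => η n := by
    funext n; simp
  obtain ⟨e, he, hΨ, hrig⟩ := gallagher_aux N (fun _ => 1) (fun n : N => η n)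
    isIrrCharacter_one (fun _ _ => rfl) (fun g n => hcf n g) (by rw [hprodeq]; exact hηN)
    η hηc (apply_one_ne_zero hη) (fun _ => rfl)
  rw [hprodeq] at hΨ
  have h1 : classInner (indFun N (fun n : N => η n)) χ ≠ 0 := by
    rw [frobenius_reciprocity N _ χ hcf']
    intro h0
    apply hover
    have hsw := classInner_conj_symm (fun n : N => χ n) (fun n : N => η n)
    exact (map_eq_zero _).mp (hsw.trans h0)
  rw [hΨ, classInner_sum_left] at h1
  obtain ⟨β, -, hβ⟩ := Finset.exists_ne_zero_of_sum_ne_zero h1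
  rw [classInner_smul_left] at hβ
  have hβ0 : e β ≠ 0 := by
    intro h0
    rw [h0, Nat.cast_zero, zero_mul] at hβ
    exact hβ rfl
  have hβ1 : classInner ((β : G → ℂ) * η) χ ≠ 0 := right_ne_zero_of_mul hβ
  have hβc := isCharacter_of_isIrrCharacter β.2
  have hirr : IsIrrCharacter G ((β : G → ℂ) * η) :=
    isIrrCharacter_of_classInner_self_eq_one (isCharacter_mul hβc hηc) (hrig β hβ0).1
  have heq : (β : G → ℂ) * η = χ := by
    by_contra hne
    exact hβ1 (irr_classInner_eq_zero hirr hχ hne)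
  -- `β` has `N` in its kernel
  have hne0 : classInner (fun n : N => (β : G → ℂ) n) (fun _ : N => (1 : ℂ)) ≠ 0 := by
    intro h0
    have hsw := classInner_conj_symm (fun _ : N => (1 : ℂ)) (fun n : N => (β : G → ℂ) n)
    have h2 : classInner (fun _ : N => (1 : ℂ)) (fun n : N => (β : G → ℂ) n) = 0 :=
      (map_eq_zero _).mp (hsw.trans h0)
    rw [← frobenius_reciprocity N _ _ (isClassFunction_of_isCharacter hβc), he] at h2
    exact hβ0 (by exact_mod_cast h2)
  have hcl := clifford N (β : G → ℂ) β.2 (fun _ : N => (1 : ℂ)) isIrrCharacter_one hne0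
  have hset : {ψ : N → ℂ | ∃ g : G, ψ = fun n : N =>
      (fun _ : N => (1 : ℂ)) ⟨g * n * g⁻¹, hN.conj_mem n n.2 g⟩} = {fun _ : N => (1 : ℂ)} := by
    ext ψ
    simp only [Set.mem_ofPred_eq, Set.mem_singleton_iff]
    constructor
    · rintro ⟨g, hg⟩
      exact hg
    · intro h
      exact ⟨1, h⟩
  rw [hset, finsum_mem_singleton] at hcl
  have hval : ∀ n : N, (β : G → ℂ) n = (β : G → ℂ) 1 := by
    intro n
    have h3 := congrFun hcl n
    have h4 := congrFun hcl 1
    simp only [Pi.smul_apply, smul_eq_mul, mul_one] at h3 h4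
    rw [h3]
    exact h4.symm
  obtain ⟨ψ, hψ, hψeq⟩ := exists_eq_inflate β.2 N (fun g n hn =>
    apply_mul_of_apply_eq_one hβc (hval ⟨n, hn⟩) g)
  refine ⟨⟨ψ, hψ⟩, ?_⟩
  rw [← heq, hψeq]

end GAL

section LOC

variable {p : ℕ} {M : Ideal AlgInt}

/-- Dividing an element of the local ideal by a number `≡ 1` stays in the local ideal. -/
theorem memLocalIdeal_div_of_sub_one [hMp : M.IsPrime] {z u : ℂ} (hz : MemLocalIdeal M z)
    (hu : MemLocalIdeal M (u - 1)) : MemLocalIdeal M (z / u) := by
  obtain ⟨a, b, ha, hb, hab⟩ := hz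
  obtain ⟨a', b', ha', hb', hab'⟩ := hu
  have hb0 : (b : ℂ) ≠ 0 := by
    intro h0
    apply hb
    have : b = 0 := Subtype.ext h0
    rw [this]
    exact M.zero_mem
  have hb'0 : (b' : ℂ) ≠ 0 := by
    intro h0
    apply hb'
    have : b' = 0 := Subtype.ext h0
    rw [this]
    exact M.zero_mem
  have hsum : a' + b' ∉ M := by
    intro h
    apply hb'
    have := M.sub_mem h ha'
    simpa using this
  have hsum0 : ((a' + b' : AlgInt) : ℂ) ≠ 0 := by
    intro h0
    apply hsum
    have : a' + b' = 0 := Subtype.ext h0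
    rw [this]
    exact M.zero_mem
  have hu' : u = ((a' + b' : AlgInt) : ℂ) / (b' : ℂ) := by
    have : u = (a' : ℂ) / (b' : ℂ) + 1 := by rw [hab']; ring
    rw [this]
    push_cast
    field_simp
  refine ⟨a * b', b * (a' + b'), M.mul_mem_right _ ha, ?_, ?_⟩
  · intro h
    rcases hMp.mem_or_mem h with h | h
    · exact hb h
    · exact hsum h
  · rw [← hab, hu']
    push_cast
    push_cast at hsum0
    field_simp

end LOC

section B7

variable {X : Type u} [Group X] [Finite X] {p : ℕ} [Fact p.Prime] {M : Ideal AlgInt}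

/-- Two principal-block characters of `X`, one restricting irreducibly to `N` and the other
lying over that restriction, coincide. -/
theorem eq_of_over (hM : IsPModular p M) (N : Subgroup X) [hN : N.Normal] [Fintype N]
    (hidx : ¬ p ∣ N.index) (Q : Sylow p X)
    (hsup : N ⊔ Subgroup.centralizer ((Q : Subgroup X) : Set X) = ⊤)
    (χ η : IrrCharacter X) (hχ : χ ∈ principalBlock M X) (hη : η ∈ principalBlock M X)
    (hηN : IsIrrCharacter N (fun n : N => (η : X → ℂ) n))
    (hover : classInner (fun n : N => (χ : X → ℂ) n) (fun n : N => (η : X → ℂ) n) ≠ 0) :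
    χ = η := by
  classical
  letI : Fintype X := Fintype.ofFinite X
  haveI := isPrime_of_isPModular hM
  obtain ⟨β, hβ⟩ := exists_inflate_mul_of_over N (η : X → ℂ) (χ : X → ℂ) η.2 χ.2 hηN hover
  have hβ1 : ∀ q : X ⧸ N, (β : X ⧸ N → ℂ) q = 1 := by
    apply irr_quot_eq_one hM N hidx Q hsup β
    intro c hc
    have hu := princ_ratio hM Q c hc η hη
    have hv := princ_ratio hM Q c hc χ hχ
    have hη1 : (η : X → ℂ) 1 ≠ 0 := apply_one_ne_zero η.2
    have hηc : (η : X → ℂ) c ≠ 0 := princ_apply_ne_zero hM Q c hc η hη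
    have hβ10 : (β : X ⧸ N → ℂ) 1 ≠ 0 := apply_one_ne_zero β.2
    have hχc : (χ : X → ℂ) c = (β : X ⧸ N → ℂ) (c : X ⧸ N) * (η : X → ℂ) c := by
      rw [hβ, Pi.mul_apply, inflate_apply]
    have hχ1 : (χ : X → ℂ) 1 = (β : X ⧸ N → ℂ) 1 * (η : X → ℂ) 1 := by
      rw [hβ, Pi.mul_apply, inflate_apply, QuotientGroup.mk_one]
    have hdiff : MemLocalIdeal M (((χ : X → ℂ) c / (χ : X → ℂ) 1 - 1)
        - ((η : X → ℂ) c / (η : X → ℂ) 1 - 1)) := memLocalIdeal_sub hv hu
    have hdiv := memLocalIdeal_div_of_sub_one hdiff hu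
    have heq : (((χ : X → ℂ) c / (χ : X → ℂ) 1 - 1)
        - ((η : X → ℂ) c / (η : X → ℂ) 1 - 1)) / ((η : X → ℂ) c / (η : X → ℂ) 1)
        = (β : X ⧸ N → ℂ) (c : X ⧸ N) / (β : X ⧸ N → ℂ) 1 - 1 := by
      rw [hχc, hχ1]
      field_simp
      ring
    rw [heq] at hdiv
    exact hdiv
  apply Subtype.ext
  rw [hβ]
  funext g
  rw [Pi.mul_apply, inflate_apply, hβ1, one_mul]

/-- (B7): if every principal-block character of `N` has some extension in the principal block
of `X`, the full statement of the Alperin–Dade theorem holds for `(X, N)`. -/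
theorem stmt_of_exists_ext (hM : IsPModular p M) (N : Subgroup X) [hN : N.Normal]
    (hidx : ¬ p ∣ N.index) (Q : Sylow p X)
    (hsup : N ⊔ Subgroup.centralizer ((Q : Subgroup X) : Set X) = ⊤)
    (h : ∀ θ ∈ principalBlock M ↥N, ∃ χ : IrrCharacter X, χ ∈ principalBlock M X ∧
      ∀ n : N, (χ : X → ℂ) n = (θ : ↥N → ℂ) n) :
    Cfsg.Agent.Lib.Helper8.AD.Stmt M X N := by
  classical
  letI : Fintype X := Fintype.ofFinite X
  letI : Fintype N := Fintype.ofFinite N
  constructor
  · intro χ hχ
    -- a constituent of the restriction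
    have hres := isCharacter_restrict (isCharacter_of_isIrrCharacter χ.2) N
    obtain ⟨θ, hθ⟩ : ∃ θ : IrrCharacter N,
        classInner (fun n : N => (χ : X → ℂ) n) (θ : N → ℂ) ≠ 0 := by
      by_contra hcon
      push Not at hcon
      have hdec := isCharacter_eq_sum_classInner hres
      have hzero : (fun n : N => (χ : X → ℂ) n) = 0 := by
        rw [hdec]
        apply Finset.sum_eq_zero
        intro θ _
        rw [hcon θ, zero_smul]
      have h1 := congrFun hzero 1
      exact apply_one_ne_zero χ.2 h1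
    have hθB := constituent_mem_principalBlock hM N χ hχ θ hθ
    obtain ⟨η, hη, hηres⟩ := h θ hθB
    have hηfun : (fun n : N => (η : X → ℂ) n) = (θ : N → ℂ) := by
      funext n; exact hηres n
    have hχη : χ = η := by
      apply eq_of_over hM N hidx Q hsup χ η hχ hη
      · rw [hηfun]; exact θ.2
      · rw [hηfun]; exact hθ
    exact ⟨θ, hθB, fun n => by rw [hχη]; exact hηres n⟩
  · intro θ hθB
    obtain ⟨η, hη, hηres⟩ := h θ hθB
    have hηfun : (fun n : N => (η : X → ℂ) n) = (θ : N → ℂ) := by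
      funext n; exact hηres n
    refine ⟨η, ⟨hη, hηres⟩, ?_⟩
    rintro χ ⟨hχ, hχres⟩
    have hχfun : (fun n : N => (χ : X → ℂ) n) = (θ : N → ℂ) := by
      funext n; exact hχres n
    apply eq_of_over hM N hidx Q hsup χ η hχ hη
    · rw [hηfun]; exact θ.2
    · rw [hηfun, hχfun, irr_classInner_self θ.2]
      exact one_ne_zero

end B7

end Cfsg.Agent.H2.AD
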