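import Mathlib
import Cfsg.Prelude.Def_Blocks
import Cfsg.Agent.Lib.helper3.PrincIdem3

/-!
# S4937, step (6): membership in the principal block from the cyclic-over-`N` subgroups

If `χ` is an irreducible character of `G` whose restriction to every subgroup `N ⊔ ⟨y⟩`,
`y` a `p`-regular element, is (the function of) an irreducible character in the principal block,
then for every subgroup `J ≥ N`, any irreducible character of `J` given by the restriction of `χ`
lies in the principal block of `J`.
-/

set_option autoImplicit false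
set_option linter.style.haveILetI false
set_option linter.unusedSectionVars false

namespace Cfsg.Agent.H2.AE

open Cfsg Cfsg.Agent.Lib.helper3.Block Cfsg.Agent.Lib.helper3.LocalM
open scoped ComplexConjugate

universe u

variable {G : Type u} [Group G] [Fintype G] {p : ℕ} {M : Ideal AlgInt}

open Classical in
/-- The deviation `χ(y)/χ(1) - 1` on `p`-regular elements, zero elsewhere. -/
noncomputable def dev (p : ℕ) (χ : G → ℂ) (y : G) : ℂ :=
  if p ∣ orderOf y then 0 else χ y / χ 1 - 1

open Classical in
/-- The sum of the deviations over a subgroup. -/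
noncomputable def devT (p : ℕ) (χ : G → ℂ) (A : Subgroup G) : ℂ :=
  ∑ y : G, if y ∈ A then dev p χ y else 0

open Classical in
/-- The sum of the deviations over the elements generating `A` over `N`. -/
noncomputable def devS (p : ℕ) (χ : G → ℂ) (N A : Subgroup G) : ℂ :=
  ∑ y : G, if N ⊔ Subgroup.zpowers y = A then dev p χ y else 0

/-- `regOmega - regCount` of a restriction is the sum of the deviations. -/
theorem regOmega_sub_regCount_eq_devT (χ : G → ℂ) (J : Subgroup G) [Fintype J] (ξ : ↥J → ℂ)
    (hξ : ∀ a : J, ξ a = χ a) :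
    regOmega p ξ - regCount p ↥J = devT p χ J := by
  classical
  unfold regOmega regCount devT
  rw [← Finset.sum_sub_distrib, ← Finset.sum_filter]
  rw [Finset.sum_subtype (Finset.univ.filter (fun y : G => y ∈ J)) (p := fun y : G => y ∈ J)
    (fun x => by simp) (fun y => dev p χ y)]
  apply Finset.sum_congr rfl
  intro a _
  unfold dev
  rw [hξ a, hξ 1, Subgroup.orderOf_coe, Subgroup.coe_one]
  by_cases h : p ∣ orderOf a
  · simp only [if_pos h]
    ring
  · simp only [if_neg h]
    ring

open Classical in
/-- Decomposition of the deviation sum of a subgroup `A ≥ N` according to the subgroup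
generated over `N`. -/
theorem devT_eq_sum_devS [Fintype (Subgroup G)] (χ : G → ℂ) (N A : Subgroup G) (hNA : N ≤ A) :
    devT p χ A = ∑ A' : Subgroup G, if A' ≤ A then devS p χ N A' else 0 := by
  classical
  unfold devT devS
  have h1 : ∀ A' : Subgroup G, (if A' ≤ A then
      (∑ y : G, if N ⊔ Subgroup.zpowers y = A' then dev p χ y else 0) else 0)
      = ∑ y : G, if N ⊔ Subgroup.zpowers y = A' then (if A' ≤ A then dev p χ y else 0) else 0 := by
    intro A'
    by_cases h : A' ≤ A
    · rw [if_pos h]
      apply Finset.sum_congr rfl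
      intro y _
      rw [if_pos h]
    · rw [if_neg h]
      symm
      apply Finset.sum_eq_zero
      intro y _
      rw [if_neg h, ite_self]
  rw [Finset.sum_congr rfl (fun A' _ => h1 A'), Finset.sum_comm]
  apply Finset.sum_congr rfl
  intro y _
  rw [Finset.sum_ite_eq Finset.univ (N ⊔ Subgroup.zpowers y)
    (fun A' => if A' ≤ A then dev p χ y else 0), if_pos (Finset.mem_univ _)]
  have hiff : y ∈ A ↔ N ⊔ Subgroup.zpowers y ≤ A := by
    constructor
    · intro hy
      exact sup_le hNA ((Subgroup.zpowers_le).mpr hy)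
    · intro h
      exact h (le_sup_right (a := N) (Subgroup.mem_zpowers y))
  by_cases hy : y ∈ A
  · rw [if_pos hy, if_pos (hiff.mp hy)]
  · rw [if_neg hy, if_neg (fun h => hy (hiff.mpr h))]

variable [hp : Fact p.Prime]

/-- The sum of the deviations over a subgroup on which `χ` restricts into the principal block lies
in the local ideal. -/
theorem memLocalIdeal_devT_of_mem (hM : IsPModular p M) (χ : G → ℂ) (A : Subgroup G)
    (ξ : IrrCharacter ↥A) (hξB : ξ ∈ principalBlock M ↥A)
    (hξ : ∀ a : A, (ξ : ↥A → ℂ) a = χ a) : MemLocalIdeal M (devT p χ A) := by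
  classical
  letI : Fintype ↥A := Fintype.ofFinite _
  rw [← regOmega_sub_regCount_eq_devT χ A (ξ : ↥A → ℂ) hξ]
  exact memLocalIdeal_regOmega_sub hM ξ hξB

/-- The partial sums `devS` all lie in the local ideal. -/
theorem memLocalIdeal_devS (hM : IsPModular p M) (N : Subgroup G) (χ : G → ℂ)
    (hcyc : ∀ y : G, ¬ p ∣ orderOf y → ∃ ξ : IrrCharacter ↥(N ⊔ Subgroup.zpowers y),
      ξ ∈ principalBlock M ↥(N ⊔ Subgroup.zpowers y) ∧
        ∀ a : ↥(N ⊔ Subgroup.zpowers y), (ξ : ↥(N ⊔ Subgroup.zpowers y) → ℂ) a = χ a) :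
    ∀ (n : ℕ) (A : Subgroup G), Nat.card A = n → MemLocalIdeal M (devS p χ N A) := by
  classical
  letI : Fintype (Subgroup G) := Fintype.ofFinite _
  haveI hMp := isPrime_of_isPModular hM
  have hMtop : M ≠ ⊤ := hM.2.1.ne_top
  intro n
  induction n using Nat.strong_induction_on with
  | _ n ih =>
    intro A hA
    by_cases hex : ∃ y : G, ¬ p ∣ orderOf y ∧ N ⊔ Subgroup.zpowers y = A
    · obtain ⟨y, hy, rfl⟩ := hex
      obtain ⟨ξ, hξB, hξ⟩ := hcyc y hy
      have hT := memLocalIdeal_devT_of_mem hM χ _ ξ hξB hξ
      rw [devT_eq_sum_devS χ N _ le_sup_left,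
        ← Finset.add_sum_erase Finset.univ _ (Finset.mem_univ (N ⊔ Subgroup.zpowers y)),
        if_pos le_rfl] at hT
      have hrest : MemLocalIdeal M (∑ A' ∈ Finset.univ.erase (N ⊔ Subgroup.zpowers y),
          if A' ≤ N ⊔ Subgroup.zpowers y then devS p χ N A' else 0) := by
        apply memLocalIdeal_sum
        intro A' hA'
        by_cases hle : A' ≤ N ⊔ Subgroup.zpowers y
        · rw [if_pos hle]
          have hne : A' ≠ N ⊔ Subgroup.zpowers y := (Finset.mem_erase.mp hA').1
          have hlt : Nat.card A' < n := by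
            rw [← hA]
            have hcle : Nat.card A' ≤ Nat.card ↥(N ⊔ Subgroup.zpowers y) :=
              Subgroup.card_le_of_le hle
            rcases Nat.lt_or_ge (Nat.card A') (Nat.card ↥(N ⊔ Subgroup.zpowers y)) with h | h
            · exact h
            · exact absurd (Subgroup.eq_of_le_of_card_ge hle h) hne
          exact ih _ hlt A' rfl
        · rw [if_neg hle]
          exact memLocalIdeal_zero hMtop
      have := memLocalIdeal_sub hT hrest
      rwa [add_sub_cancel_right] at this
    · have h0 : devS p χ N A = 0 := by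
        unfold devS
        apply Finset.sum_eq_zero
        intro y _
        by_cases hyA : N ⊔ Subgroup.zpowers y = A
        · rw [if_pos hyA]
          unfold dev
          by_cases hy : p ∣ orderOf y
          · rw [if_pos hy]
          · exact absurd ⟨y, hy, hyA⟩ hex
        · rw [if_neg hyA]
      rw [h0]
      exact memLocalIdeal_zero hMtop

/-- **Step (6) of S4937.**  If `χ` restricts into the principal block of every `N ⊔ ⟨y⟩` with `y`
`p`-regular, then every irreducible character of a subgroup `J ≥ N` that is the restriction of `χ`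
lies in the principal block of `J`. -/
theorem mem_principalBlock_of_cyclic (hM : IsPModular p M) (N : Subgroup G) (χ : G → ℂ)
    (hcyc : ∀ y : G, ¬ p ∣ orderOf y → ∃ ξ : IrrCharacter ↥(N ⊔ Subgroup.zpowers y),
      ξ ∈ principalBlock M ↥(N ⊔ Subgroup.zpowers y) ∧
        ∀ a : ↥(N ⊔ Subgroup.zpowers y), (ξ : ↥(N ⊔ Subgroup.zpowers y) → ℂ) a = χ a)
    (J : Subgroup G) (hNJ : N ≤ J) (ξ : IrrCharacter ↥J)
    (hξ : ∀ a : J, (ξ : ↥J → ℂ) a = χ a) : ξ ∈ principalBlock M ↥J := by
  classical
  letI : Fintype (Subgroup G) := Fintype.ofFinite _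
  letI : Fintype ↥J := Fintype.ofFinite _
  haveI hMp := isPrime_of_isPModular hM
  have hMtop : M ≠ ⊤ := hM.2.1.ne_top
  have hT : MemLocalIdeal M (devT p χ J) := by
    rw [devT_eq_sum_devS χ N J hNJ]
    apply memLocalIdeal_sum
    intro A' _
    by_cases hle : A' ≤ J
    · rw [if_pos hle]
      exact memLocalIdeal_devS hM N χ hcyc _ A' rfl
    · rw [if_neg hle]
      exact memLocalIdeal_zero hMtop
  rw [← regOmega_sub_regCount_eq_devT χ J (ξ : ↥J → ℂ) hξ] at hT
  apply mem_principalBlock_of_regOmega hM ξ
  intro h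
  obtain ⟨n, hn, hpn⟩ := exists_regCount_eq (G := ↥J) hM
  have h2 := memLocalIdeal_sub h hT
  rw [sub_sub_cancel, hn] at h2
  have h3 : (((n : ℕ) : AlgInt) : ℂ) = (n : ℂ) := by simp
  rw [← h3] at h2
  have h4 := mem_of_memLocalIdeal h2
  rw [natCast_mem_iff hM] at h4
  exact hpn h4

end Cfsg.Agent.H2.AE
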