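import Mathlib
import Cfsg.Agent.Lib.helper3.HallNilp

/-!
# S4937: group-theoretic preliminaries

* `IsPPow p n k` : the exponent `k` computes `p'`-parts in groups of order dividing `n`.
* `Good p N J` : `N ≤ J` and `p ∤ |J : N|`.
* `good_hyp` : a good subgroup inside `N·C_G(P)`, `P` a Sylow `p`-subgroup of `N`, satisfies the
  hypotheses of the Alperin–Dade theorem.
* `pow_mul_of_isNilpotent` : the `p'`-part map is multiplicative on nilpotent groups.
-/

set_option autoImplicit false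
set_option linter.style.haveILetI false
set_option linter.unusedSectionVars false

namespace Cfsg.Agent.H2.AE

open Cfsg.Agent.Lib.helper3.HallNilp

universe u

section PPow

/-- `k ≡ 0` modulo the `p`-part of `n` and `k ≡ 1` modulo the `p'`-part of `n`. -/
def IsPPow (p n k : ℕ) : Prop :=
  ∃ a m : ℕ, n = p ^ a * m ∧ ¬ p ∣ m ∧ p ^ a ∣ k ∧ k ≡ 1 [MOD m]

theorem exists_isPPow (p n : ℕ) [hp : Fact p.Prime] (hn : n ≠ 0) : ∃ k, IsPPow p n k := by
  obtain ⟨a, m, hm, hnm⟩ := Nat.exists_eq_pow_mul_and_not_dvd hn p hp.out.ne_one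
  have hco : Nat.Coprime (p ^ a) m :=
    Nat.Coprime.pow_left a ((Nat.Prime.coprime_iff_not_dvd hp.out).mpr hm)
  obtain ⟨k, hk1, hk2⟩ := Nat.chineseRemainder hco 0 1
  exact ⟨k, a, m, hnm, hm, (Nat.modEq_zero_iff_dvd).mp hk1, hk2⟩

variable {p n k : ℕ} [hp : Fact p.Prime]

/-- Elements of `p'`-order dividing `n` are fixed by the `k`-th power map. -/
theorem IsPPow.pow_eq_self {α : Type*} [Monoid α] (hk : IsPPow p n k) (z : α) (d : ℕ)
    (hd : d ∣ n) (hpd : ¬ p ∣ d) (hz : z ^ d = 1) : z ^ k = z := by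
  obtain ⟨a, m, hnm, hm, hak, hkm⟩ := hk
  have hco : Nat.Coprime d (p ^ a) :=
    Nat.Coprime.pow_right a ((Nat.Prime.coprime_iff_not_dvd hp.out).mpr hpd).symm
  have hdm : d ∣ m := by
    rw [hnm] at hd
    exact hco.dvd_of_dvd_mul_left hd
  have hkd : k ≡ 1 [MOD d] := hkm.of_dvd hdm
  rw [pow_eq_pow_mod k hz, hkd, ← pow_eq_pow_mod 1 hz, pow_one]

/-- Elements of `p`-power order dividing `n` are killed by the `k`-th power map. -/
theorem IsPPow.pow_eq_one {α : Type*} [Monoid α] (hk : IsPPow p n k) (z : α) (j : ℕ)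
    (hj : p ^ j ∣ n) (hz : z ^ (p ^ j) = 1) : z ^ k = 1 := by
  obtain ⟨a, m, hnm, hm, hak, hkm⟩ := hk
  have hco : Nat.Coprime (p ^ j) m :=
    Nat.Coprime.pow_left j ((Nat.Prime.coprime_iff_not_dvd hp.out).mpr hm)
  have hja : p ^ j ∣ p ^ a := by
    rw [hnm] at hj
    exact hco.dvd_of_dvd_mul_right hj
  obtain ⟨t, ht⟩ := hja.trans hak
  rw [ht, pow_mul, hz, one_pow]

/-- The `k`-th power of an element of order dividing `n` is `p`-regular. -/
theorem IsPPow.not_dvd_orderOf_pow {α : Type*} [Group α] (hk : IsPPow p n k) (z : α)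
    (hz : z ^ n = 1) : ¬ p ∣ orderOf (z ^ k) := by
  obtain ⟨a, m, hnm, hm, hak, hkm⟩ := hk
  intro hdvd
  apply hm
  apply hdvd.trans
  apply orderOf_dvd_of_pow_eq_one
  obtain ⟨t, ht⟩ := hak
  rw [← pow_mul, ht, mul_right_comm, ← hnm, pow_mul, hz, one_pow]

end PPow

section Good

variable {G : Type u} [Group G] {p : ℕ}

/-- `J` contains `N` with index prime to `p`. -/
def Good (p : ℕ) (N J : Subgroup G) : Prop :=
  N ≤ J ∧ ¬ p ∣ N.relIndex J

theorem good_sup (N : Subgroup G) [N.Normal] (K : Subgroup G) (hK : ¬ p ∣ Nat.card K) :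
    Good p N (N ⊔ K) := by
  refine ⟨le_sup_left, ?_⟩
  rw [Subgroup.relIndex_sup_left]
  exact fun h => hK (h.trans (Subgroup.relIndex_dvd_card N K))

theorem good_sup_zpowers (N : Subgroup G) [N.Normal] (h : G) (hh : ¬ p ∣ orderOf h) :
    Good p N (N ⊔ Subgroup.zpowers h) := by
  apply good_sup
  rw [Nat.card_zpowers]
  exact hh

theorem Good.relIndex_dvd_card {N J : Subgroup G} (_hJ : Good p N J) :
    N.relIndex J ∣ Nat.card G :=
  (Subgroup.relIndex_dvd_card N J).trans (Subgroup.card_subgroup_dvd_card J)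

theorem pow_relIndex_mem (N : Subgroup G) [N.Normal] (J : Subgroup G) (x : G) (hx : x ∈ J) :
    x ^ N.relIndex J ∈ N := by
  have h := Subgroup.pow_index_mem (N.subgroupOf J) (⟨x, hx⟩ : ↥J)
  rw [Subgroup.mem_subgroupOf] at h
  exact h

variable [hp : Fact p.Prime] [Finite G]

/-- A good subgroup contained in `N·C_G(P)` satisfies the hypotheses of the Alperin–Dade
theorem, with Sylow subgroup the image of `P`. -/
theorem good_hyp (N : Subgroup G) [hN : N.Normal] (P : Sylow p ↥N) (J : Subgroup G)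
    (hJ : Good p N J)
    (hle : J ≤ N ⊔ Subgroup.centralizer
      (((P : Subgroup ↥N).map N.subtype : Subgroup G) : Set G)) :
    ∃ Q' : Sylow p ↥J,
      (∀ c : ↥J, c ∈ Subgroup.centralizer ((Q' : Subgroup ↥J) : Set ↥J) ↔
        (c : G) ∈ Subgroup.centralizer
          (((P : Subgroup ↥N).map N.subtype : Subgroup G) : Set G)) ∧
      N.subgroupOf J ⊔ Subgroup.centralizer ((Q' : Subgroup ↥J) : Set ↥J) = ⊤ ∧
      ¬ p ∣ (N.subgroupOf J).index := by
  obtain ⟨PG, hPGdef⟩ : ∃ PG : Subgroup G, PG = (P : Subgroup ↥N).map N.subtype := ⟨_, rfl⟩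
  rw [← hPGdef] at hle ⊢
  have hPGN : PG ≤ N := by
    rw [hPGdef]
    exact Subgroup.map_subtype_le _
  have hPGJ : PG ≤ J := hPGN.trans hJ.1
  have hPGp : IsPGroup p ↥PG := by
    rw [hPGdef]
    exact P.2.map _
  have hpg : IsPGroup p ↥(PG.subgroupOf J) := hPGp.comap_subtype
  have hsub : PG.subgroupOf N = (P : Subgroup ↥N) := by
    rw [hPGdef]
    exact Subgroup.comap_map_eq_self_of_injective N.subtype_injective _
  have hidx : ¬ p ∣ (PG.subgroupOf J).index := by
    have h1 : PG.relIndex N * N.relIndex J = PG.relIndex J :=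
      Subgroup.relIndex_mul_relIndex PG N J hPGN hJ.1
    have h2 : PG.relIndex N = (P : Subgroup ↥N).index := by
      unfold Subgroup.relIndex
      rw [hsub]
    show ¬ p ∣ PG.relIndex J
    rw [← h1, h2]
    intro h
    rcases (Nat.Prime.dvd_mul hp.out).mp h with h | h
    · exact P.not_dvd_index h
    · exact hJ.2 h
  refine ⟨hpg.toSylow hidx, ?_, ?_, hJ.2⟩
  · intro c
    show c ∈ Subgroup.centralizer ((PG.subgroupOf J : Subgroup ↥J) : Set ↥J) ↔ _
    rw [Subgroup.mem_centralizer_iff, Subgroup.mem_centralizer_iff]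
    constructor
    · intro h g hg
      have := h ⟨g, hPGJ hg⟩ (by
        rw [SetLike.mem_coe, Subgroup.mem_subgroupOf]
        exact hg)
      exact congrArg Subtype.val this
    · intro h g hg
      rw [SetLike.mem_coe, Subgroup.mem_subgroupOf] at hg
      exact Subtype.ext (h (g : G) hg)
  · rw [eq_top_iff]
    intro a _
    have ha : (a : G) ∈ N ⊔ Subgroup.centralizer ((PG : Subgroup G) : Set G) := hle a.2
    rw [← SetLike.mem_coe, Subgroup.normal_mul] at ha
    obtain ⟨n, hn, c, hc, hnc⟩ := Set.mem_mul.mp ha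
    have hnJ : n ∈ J := hJ.1 hn
    have hcJ : c ∈ J := by
      have : c = n⁻¹ * (a : G) := by rw [← hnc]; group
      rw [this]
      exact J.mul_mem (J.inv_mem hnJ) a.2
    have hmul : a = (⟨n, hnJ⟩ : ↥J) * ⟨c, hcJ⟩ := Subtype.ext hnc.symm
    rw [hmul]
    apply Subgroup.mul_mem_sup
    · rw [Subgroup.mem_subgroupOf]
      exact hn
    · show (⟨c, hcJ⟩ : ↥J) ∈ Subgroup.centralizer ((PG.subgroupOf J : Subgroup ↥J) : Set ↥J)
      rw [Subgroup.mem_centralizer_iff]
      intro g hg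
      rw [SetLike.mem_coe, Subgroup.mem_subgroupOf] at hg
      rw [SetLike.mem_coe, Subgroup.mem_centralizer_iff] at hc
      exact Subtype.ext (hc (g : G) hg)

end Good

section Nilp

variable {p n k : ℕ} [hp : Fact p.Prime]

/-- On a nilpotent group the `p'`-part map `x ↦ x ^ k` is multiplicative. -/
theorem pow_mul_of_isNilpotent {E : Type*} [Group E] [Finite E] [Group.IsNilpotent E]
    (hk : IsPPow p n k) (hn : Nat.card E ∣ n) (x y : E) : (x * y) ^ k = x ^ k * y ^ k := by
  obtain ⟨K, hKn, hKmem, -⟩ := exists_hall_pprime (E := E) p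
  obtain ⟨P⟩ : Nonempty (Sylow p E) := inferInstance
  haveI hPn : (P : Subgroup E).Normal := inferInstance
  have hzn : ∀ z : E, z ^ n = 1 := by
    intro z
    obtain ⟨t, rfl⟩ := hn
    rw [pow_mul, pow_card_eq_one', one_pow]
  have hreg : ∀ z : E, z ^ k ∈ K := fun z =>
    (hKmem _).mpr (hk.not_dvd_orderOf_pow z (hzn z))
  have hq : ∀ w : E ⧸ (P : Subgroup E), w ^ k = w := by
    intro w
    apply hk.pow_eq_self w (P : Subgroup E).index ?_ P.not_dvd_index ?_
    · exact (Subgroup.index_dvd_card _).trans hn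
    · rw [Subgroup.index_eq_card]
      exact pow_card_eq_one'
  have hinj : ∀ u ∈ K, (QuotientGroup.mk' (P : Subgroup E) u) = 1 → u = 1 := by
    intro u hu h1
    have huP : u ∈ (P : Subgroup E) := (QuotientGroup.eq_one_iff u).mp h1
    obtain ⟨j, hj⟩ := (IsPGroup.iff_orderOf.mp P.2) ⟨u, huP⟩
    have hou : orderOf u = p ^ j := by
      rw [← hj, Subgroup.orderOf_mk]
    have hnd := (hKmem u).mp hu
    rcases Nat.eq_zero_or_pos j with h0 | hpos
    · rw [h0, pow_zero, orderOf_eq_one_iff] at hou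
      exact hou
    · exfalso
      apply hnd
      rw [hou]
      exact dvd_pow_self p hpos.ne'
  have hmem : ((x * y) ^ k)⁻¹ * (x ^ k * y ^ k) ∈ K :=
    K.mul_mem (K.inv_mem (hreg _)) (K.mul_mem (hreg x) (hreg y))
  have h1 := hinj _ hmem (by
    rw [map_mul, map_inv, map_pow, map_mul (QuotientGroup.mk' (P : Subgroup E)) (x ^ k),
      map_pow, map_pow, hq, hq, hq, map_mul]
    group)
  exact inv_mul_eq_one.mp h1

end Nilp

end Cfsg.Agent.H2.AE
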