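import Mathlib
import Cfsg.Prelude.Def_Blocks
import Cfsg.Agent.S4551
import Cfsg.Agent.H2.AD1
import Cfsg.Agent.H2.AE2
import Cfsg.Agent.Lib.Helper8.AD6
import Cfsg.Agent.Lib.helper3.Gallagher3
import Cfsg.Agent.Lib.helper3.CycExt2
import Cfsg.Agent.Lib.helper3.Irr12
import Cfsg.Agent.Lib.helper3.Lin

/-!
# S4937: the local data on the good subgroups

For a subgroup `J ≥ N` satisfying the Alperin–Dade hypotheses (`LocHyp`), the character `θ` of
the principal block of `N` has a unique extension `θ_J` in the principal block of `J`, and an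
extension `ψ` of `θ` to `G` restricts to `J` as `λ_J θ_J` for a linear character `λ_J` of `J/N`.
We prove the compatibility of the `λ_J` with inclusions and with conjugation.
-/

set_option autoImplicit false
set_option linter.style.haveILetI false
set_option linter.unusedSectionVars false
set_option maxHeartbeats 1000000

namespace Cfsg.Agent.H2.AE

open Cfsg Cfsg.Agent.Lib.helper3.Block Cfsg.Agent.Lib.helper3.LocalM
open Cfsg.Agent.Lib.helper3.Irr Cfsg.Agent.Lib.helper3.CharBasic Cfsg.Agent.Lib.helper3.IndFun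
open Cfsg.Agent.H2.AD Cfsg.Agent.Lib.helper3.ADB Cfsg.Agent.Lib.Helper8.AD
open scoped ComplexConjugate

universe u

section LOCAL

variable {X : Type u} [Group X] [Finite X] {p : ℕ} [hp : Fact p.Prime] {M : Ideal AlgInt}

/-- A character of `X` agreeing on `N` with `ψ ∈ B₀(X)` (irreducible on `N`) and congruent to its
degree on the centralizer of the Sylow subgroup equals `ψ`. -/
theorem eq_of_char_congr (hM : IsPModular p M) (N : Subgroup X) [N.Normal]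
    (hidx : ¬ p ∣ N.index) (Q : Sylow p X)
    (hsup : N ⊔ Subgroup.centralizer ((Q : Subgroup X) : Set X) = ⊤)
    (ψ : IrrCharacter X) (hψ : ψ ∈ principalBlock M X)
    (hψN : IsIrrCharacter ↥N (fun n : N => (ψ : X → ℂ) n))
    (η : X → ℂ) (hηchar : IsCharacter X η) (hres : ∀ n : N, η n = (ψ : X → ℂ) n)
    (hηc : ∀ c ∈ Subgroup.centralizer ((Q : Subgroup X) : Set X),
      MemLocalIdeal M (η c / η 1 - 1)) :
    ∀ x : X, η x = (ψ : X → ℂ) x := by
  classical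
  haveI hMp : M.IsPrime := hM.2.1.isPrime
  letI : Fintype X := Fintype.ofFinite _
  letI : Fintype ↥N := Fintype.ofFinite _
  have hηN : IsIrrCharacter ↥N (fun n : N => η n) := by
    have : (fun n : N => η n) = fun n : N => (ψ : X → ℂ) n := funext hres
    rw [this]
    exact hψN
  have hηirr : IsIrrCharacter X η :=
    Cfsg.Agent.Lib.helper3.CycExt.isIrrCharacter_of_restrict N hηchar hηN
  obtain ⟨β, hβc, hβ1, hβN, hβη⟩ := exists_linear_mul_of_restrict_eq N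
    (ψ : X → ℂ) η ψ.2 hηirr hψN hres
  have h11 : η 1 = (ψ : X → ℂ) 1 := hres 1
  have hβcent : ∀ c ∈ Subgroup.centralizer ((Q : Subgroup X) : Set X),
      MemLocalIdeal M (β c - 1) := by
    intro c hc
    have hu := princ_ratio hM Q c hc ψ hψ
    have hv := hηc c hc
    rw [h11, hβη, Pi.mul_apply] at hv
    have hβint : IsIntegral ℤ (β c) :=
      Cfsg.Agent.Lib.helper3.Lin.isIntegral_of_isCharacter hβc c
    have h3 : β c - 1 = (β c * (ψ : X → ℂ) c / (ψ : X → ℂ) 1 - 1)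
        - β c * ((ψ : X → ℂ) c / (ψ : X → ℂ) 1 - 1) := by ring
    rw [h3]
    exact memLocalIdeal_sub hv (memLocalIdeal_mul_integral hu hβint)
  have hβone := linear_eq_one hM N hidx Q hsup β hβc hβ1 hβN hβcent
  intro x
  rw [hβη, Pi.mul_apply, hβone x, one_mul]

/-- Two multiplicative functions, trivial on `N`, which agree after multiplication with a
principal-block character on the centralizer of the Sylow subgroup, are equal. -/
theorem lin_unique (hM : IsPModular p M) (N : Subgroup X) [N.Normal] (Q : Sylow p X)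
    (hsup : N ⊔ Subgroup.centralizer ((Q : Subgroup X) : Set X) = ⊤)
    (ψ : IrrCharacter X) (hψ : ψ ∈ principalBlock M X) (lam lam' : X → ℂ)
    (hmul : ∀ a b : X, lam (a * b) = lam a * lam b)
    (hmul' : ∀ a b : X, lam' (a * b) = lam' a * lam' b)
    (hN : ∀ n ∈ N, lam n = 1) (hN' : ∀ n ∈ N, lam' n = 1)
    (hc : ∀ c ∈ Subgroup.centralizer ((Q : Subgroup X) : Set X),
      lam c * (ψ : X → ℂ) c = lam' c * (ψ : X → ℂ) c) :
    ∀ x : X, lam x = lam' x := by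
  intro x
  obtain ⟨n, hn, c, hcc, rfl⟩ := Cfsg.Agent.H2.AD.exists_mul_of_sup_eq_top N _ hsup x
  rw [hmul, hmul', hN n hn, hN' n hn, one_mul, one_mul]
  exact mul_right_cancel₀ (princ_apply_ne_zero hM Q c hcc ψ hψ) (hc c hcc)

end LOCAL

section GLOBAL

variable {G : Type u} [Group G] [Finite G] {p : ℕ} [hp : Fact p.Prime] {M : Ideal AlgInt}

/-- The Alperin–Dade hypotheses for the pair `(J, N)`, the centralizer of the Sylow subgroup of
`J` being `C ∩ J`. -/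
def LocHyp (p : ℕ) (N C J : Subgroup G) : Prop :=
  N ≤ J ∧ ∃ Q' : Sylow p ↥J,
    (∀ c : ↥J, c ∈ Subgroup.centralizer ((Q' : Subgroup ↥J) : Set ↥J) ↔ (c : G) ∈ C) ∧
    N.subgroupOf J ⊔ Subgroup.centralizer ((Q' : Subgroup ↥J) : Set ↥J) = ⊤ ∧
    ¬ p ∣ (N.subgroupOf J).index

/-- Unique extension to the principal block of a subgroup with `LocHyp`. -/
theorem LocHyp.extU (hM : IsPModular p M) (N : Subgroup G) [N.Normal] {C J : Subgroup G}
    (hJ : LocHyp p N C J) : ExtU M N J hJ.1 := by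
  obtain ⟨hNJ, Q', hQc, hsup', hidx'⟩ := hJ
  exact extU_of_stmt N J hNJ
    (Cfsg.Agent.S4551.result p M hM (N.subgroupOf J) hidx' Q' hsup')

/-- Irreducibility on `N.subgroupOf J` from irreducibility on `N`. -/
theorem irr_subgroupOf (N J : Subgroup G) (hNJ : N ≤ J) (ξ : ↥J → ℂ) (θ : ↥N → ℂ)
    (hθ : IsIrrCharacter ↥N θ) (hres : ∀ n : N, ξ ⟨n, hNJ n.2⟩ = θ n) :
    IsIrrCharacter ↥(N.subgroupOf J) (fun n' : ↥(N.subgroupOf J) => ξ n') := by
  have h := isIrrCharacter_comp_mulEquiv (Subgroup.subgroupOfEquivOfLe hNJ) hθ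
  have heq : (fun n' : ↥(N.subgroupOf J) => ξ n')
      = fun h : ↥(N.subgroupOf J) => θ (Subgroup.subgroupOfEquivOfLe hNJ h) := by
    funext n'
    rw [← hres]
    rfl
  rw [heq]
  exact h

/-- **Lemma R'** in global form: the principal-block extensions are compatible with
inclusions of subgroups satisfying `LocHyp`. -/
theorem lemma_R_global (hM : IsPModular p M) (N : Subgroup G) [N.Normal] {C J₁ J : Subgroup G}
    (h₁ : LocHyp p N C J₁) (h : LocHyp p N C J) (h12 : J₁ ≤ J)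
    (ξ : IrrCharacter ↥J) (hξ : ξ ∈ principalBlock M ↥J)
    (ξ₁ : IrrCharacter ↥J₁) (hξ₁ : ξ₁ ∈ principalBlock M ↥J₁)
    (hirr : IsIrrCharacter ↥N (fun n : N => (ξ₁ : ↥J₁ → ℂ) ⟨n, h₁.1 n.2⟩))
    (hres : ∀ n : N, (ξ : ↥J → ℂ) ⟨n, h.1 n.2⟩ = (ξ₁ : ↥J₁ → ℂ) ⟨n, h₁.1 n.2⟩) :
    ∀ x : J₁, (ξ : ↥J → ℂ) ⟨x, h12 x.2⟩ = (ξ₁ : ↥J₁ → ℂ) x := by
  obtain ⟨hNJ₁, Q₁, hQ₁c, hsup₁, hidx₁⟩ := h₁
  obtain ⟨hNJ, Q, hQc, hsup, hidx⟩ := h
  have hirr' := irr_subgroupOf N J₁ hNJ₁ (ξ₁ : ↥J₁ → ℂ) _ hirr (fun _ => rfl)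
  have key := eq_of_char_congr hM (N.subgroupOf J₁) hidx₁ Q₁ hsup₁ ξ₁ hξ₁ hirr'
    (fun x : J₁ => (ξ : ↥J → ℂ) (Subgroup.inclusion h12 x))
    (isCharacter_comp (isCharacter_of_isIrrCharacter ξ.2) (Subgroup.inclusion h12))
    (fun n' => by
      have hn : ((n' : ↥J₁) : G) ∈ N := Subgroup.mem_subgroupOf.1 n'.2
      exact hres ⟨((n' : ↥J₁) : G), hn⟩)
    (fun c hc => by
      have hcC : ((c : ↥J₁) : G) ∈ C := (hQ₁c c).1 hc
      have hc' : Subgroup.inclusion h12 c ∈ Subgroup.centralizer ((Q : Subgroup ↥J) : Set ↥J) :=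
        (hQc _).2 hcC
      have := princ_ratio hM Q _ hc' ξ hξ
      rw [map_one]
      exact this)
  intro x
  exact key x

/-- Uniqueness of the linear factor, global form. -/
theorem lin_unique_global (hM : IsPModular p M) (N : Subgroup G) [N.Normal] {C J : Subgroup G}
    (h : LocHyp p N C J) (ξ : IrrCharacter ↥J) (hξ : ξ ∈ principalBlock M ↥J)
    (lam lam' : ↥J → ℂ)
    (hmul : ∀ a b : ↥J, lam (a * b) = lam a * lam b)
    (hmul' : ∀ a b : ↥J, lam' (a * b) = lam' a * lam' b)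
    (hN : ∀ a : ↥J, (a : G) ∈ N → lam a = 1) (hN' : ∀ a : ↥J, (a : G) ∈ N → lam' a = 1)
    (hc : ∀ c : ↥J, (c : G) ∈ C → lam c * (ξ : ↥J → ℂ) c = lam' c * (ξ : ↥J → ℂ) c) :
    ∀ a : ↥J, lam a = lam' a := by
  obtain ⟨hNJ, Q, hQc, hsup, hidx⟩ := h
  exact lin_unique hM (N.subgroupOf J) Q hsup ξ hξ lam lam' hmul hmul'
    (fun n hn => hN n (Subgroup.mem_subgroupOf.1 hn))
    (fun n hn => hN' n (Subgroup.mem_subgroupOf.1 hn))
    (fun c hcc => hc c ((hQc c).1 hcc))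

/-- The linear factor: `ψ|_J = λ · ξ` when both restrict irreducibly to the same character
of `N`. -/
theorem exists_lin (N : Subgroup G) [N.Normal] (J : Subgroup G) (hNJ : N ≤ J)
    (θ : IrrCharacter ↥N) (ψ : G → ℂ) (hψc : IsCharacter G ψ)
    (hψ : ∀ n : N, ψ n = (θ : ↥N → ℂ) n)
    (ξ : IrrCharacter ↥J) (hξres : ∀ n : N, (ξ : ↥J → ℂ) ⟨n, hNJ n.2⟩ = (θ : ↥N → ℂ) n) :
    ∃ lam : ↥J → ℂ, IsCharacter ↥J lam ∧ lam 1 = 1 ∧ (∀ a : ↥J, (a : G) ∈ N → lam a = 1) ∧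
      ∀ a : ↥J, ψ a = lam a * (ξ : ↥J → ℂ) a := by
  classical
  letI : Fintype ↥J := Fintype.ofFinite _
  letI : Fintype ↥(N.subgroupOf J) := Fintype.ofFinite _
  have hξN := irr_subgroupOf N J hNJ (ξ : ↥J → ℂ) _ θ.2 hξres
  have hψJ : IsCharacter ↥J (fun a : J => ψ a) := isCharacter_restrict hψc J
  have hresN : ∀ n' : ↥(N.subgroupOf J), (fun a : J => ψ a) n' = (ξ : ↥J → ℂ) n' := by
    intro n'
    have hn : ((n' : ↥J) : G) ∈ N := Subgroup.mem_subgroupOf.1 n'.2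
    have h1 := hψ ⟨((n' : ↥J) : G), hn⟩
    have h2 := hξres ⟨((n' : ↥J) : G), hn⟩
    show ψ ((n' : ↥J) : G) = _
    rw [h1, ← h2]
  have hψN : IsIrrCharacter ↥(N.subgroupOf J)
      (fun n' : ↥(N.subgroupOf J) => (fun a : J => ψ a) n') := by
    have : (fun n' : ↥(N.subgroupOf J) => (fun a : J => ψ a) n')
        = fun n' : ↥(N.subgroupOf J) => (ξ : ↥J → ℂ) n' := funext hresN
    rw [this]
    exact hξN
  have hψirr : IsIrrCharacter ↥J (fun a : J => ψ a) :=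
    Cfsg.Agent.Lib.helper3.CycExt.isIrrCharacter_of_restrict (N.subgroupOf J) hψJ hψN
  obtain ⟨β, hβc, hβ1, hβN, hβη⟩ := exists_linear_mul_of_restrict_eq (N.subgroupOf J)
    (ξ : ↥J → ℂ) (fun a : J => ψ a) ξ.2 hψirr hξN hresN
  refine ⟨β, hβc, hβ1, ?_, ?_⟩
  · intro a ha
    exact hβN ⟨a, Subgroup.mem_subgroupOf.2 ha⟩
  · intro a
    have := congrFun hβη a
    rw [Pi.mul_apply] at this
    exact this

/-- The data of a linear factor on `J`, as a function on `G`. -/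
structure LinData (M : Ideal AlgInt) (N : Subgroup G) (θ : IrrCharacter ↥N) (ψ : G → ℂ)
    (J : Subgroup G) (lam : G → ℂ) : Prop where
  char : IsCharacter ↥J (fun a : J => lam a)
  one : lam 1 = 1
  trivN : ∀ n ∈ N, lam n = 1
  fact : ∀ (hNJ : N ≤ J) (ξ : IrrCharacter ↥J), ξ ∈ principalBlock M ↥J →
    (∀ n : N, (ξ : ↥J → ℂ) ⟨n, hNJ n.2⟩ = (θ : ↥N → ℂ) n) →
      ∀ a : ↥J, ψ a = lam a * (ξ : ↥J → ℂ) a

theorem LinData.mul {N : Subgroup G} {θ : IrrCharacter ↥N} {ψ : G → ℂ} {J : Subgroup G}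
    {lam : G → ℂ} (d : LinData M N θ ψ J lam) (a b : G) (ha : a ∈ J) (hb : b ∈ J) :
    lam (a * b) = lam a * lam b :=
  Cfsg.Agent.Lib.helper3.Lin.map_mul_of_apply_one_eq_one d.char d.one ⟨a, ha⟩ ⟨b, hb⟩

theorem LinData.pow {N : Subgroup G} {θ : IrrCharacter ↥N} {ψ : G → ℂ} {J : Subgroup G}
    {lam : G → ℂ} (d : LinData M N θ ψ J lam) (a : G) (ha : a ∈ J) (n : ℕ) :
    lam (a ^ n) = lam a ^ n := by
  induction n with
  | zero => rw [pow_zero, pow_zero, d.one]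
  | succ n ih => rw [pow_succ, pow_succ, d.mul _ _ (J.pow_mem ha n) ha, ih]

theorem LinData.norm {N : Subgroup G} {θ : IrrCharacter ↥N} {ψ : G → ℂ} {J : Subgroup G}
    {lam : G → ℂ} (d : LinData M N θ ψ J lam) (a : G) (ha : a ∈ J) :
    lam a * conj (lam a) = 1 := by
  have h1 : lam a ^ orderOf a = 1 := by
    rw [← d.pow a ha, pow_orderOf_eq_one, d.one]
  have h2 : ‖lam a‖ = 1 :=
    Complex.norm_eq_one_of_pow_eq_one h1 (orderOf_pos a).ne'
  rw [Complex.mul_conj, Complex.normSq_eq_norm_sq, h2]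
  simp

/-- Existence of the linear factors on all subgroups satisfying `LocHyp`. -/
theorem exists_linData (hM : IsPModular p M) (N : Subgroup G) [N.Normal] (C : Subgroup G)
    (θ : IrrCharacter ↥N) (hθ : θ ∈ principalBlock M ↥N) (ψ : G → ℂ) (hψc : IsCharacter G ψ)
    (hψ : ∀ n : N, ψ n = (θ : ↥N → ℂ) n) :
    ∃ L : Subgroup G → G → ℂ, ∀ J : Subgroup G, LocHyp p N C J → LinData M N θ ψ J (L J) := by
  classical
  have key : ∀ J : Subgroup G, ∃ lam : G → ℂ, LocHyp p N C J → LinData M N θ ψ J lam := by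
    intro J
    by_cases hJ : LocHyp p N C J
    · have hNJ := hJ.1
      obtain ⟨ξ, ⟨hξB, hξres⟩, hξu⟩ := hJ.extU hM N θ hθ
      obtain ⟨lam, hlamc, hlam1, hlamN, hfact⟩ := exists_lin N J hNJ θ ψ hψc hψ ξ hξres
      refine ⟨fun g => if hg : g ∈ J then lam ⟨g, hg⟩ else 1, fun _ => ?_⟩
      have hfun : (fun a : J => (fun g => if hg : g ∈ J then lam ⟨g, hg⟩ else 1) (a : G)) = lam := by
        funext a
        simp only
        rw [dif_pos a.2]
      refine ⟨?_, ?_, ?_, ?_⟩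
      · rw [hfun]
        exact hlamc
      · rw [dif_pos J.one_mem]
        exact hlam1
      · intro n hn
        rw [dif_pos (hNJ hn)]
        exact hlamN ⟨n, hNJ hn⟩ hn
      · intro hNJ' ξ' hξ'B hξ'res a
        have hξξ : ξ' = ξ := hξu ξ' ⟨hξ'B, hξ'res⟩
        rw [hξξ]
        rw [dif_pos a.2]
        exact hfact a
    · exact ⟨fun _ => 1, fun h => absurd h hJ⟩
  choose L hL using key
  exact ⟨L, hL⟩

/-- Compatibility of the linear factors with inclusion. -/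
theorem linData_mono (hM : IsPModular p M) (N : Subgroup G) [N.Normal] {C J₁ J : Subgroup G}
    (h₁ : LocHyp p N C J₁) (h : LocHyp p N C J) (h12 : J₁ ≤ J)
    (θ : IrrCharacter ↥N) (hθ : θ ∈ principalBlock M ↥N) (ψ : G → ℂ)
    (lam₁ lam : G → ℂ) (d₁ : LinData M N θ ψ J₁ lam₁) (d : LinData M N θ ψ J lam) :
    ∀ x ∈ J₁, lam x = lam₁ x := by
  obtain ⟨ξ, ⟨hξB, hξres⟩, -⟩ := h.extU hM N θ hθ
  obtain ⟨ξ₁, ⟨hξ₁B, hξ₁res⟩, -⟩ := h₁.extU hM N θ hθ
  have hirr : IsIrrCharacter ↥N (fun n : N => (ξ₁ : ↥J₁ → ℂ) ⟨n, h₁.1 n.2⟩) := by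
    have : (fun n : N => (ξ₁ : ↥J₁ → ℂ) ⟨n, h₁.1 n.2⟩) = (θ : ↥N → ℂ) := funext hξ₁res
    rw [this]
    exact θ.2
  have hR := lemma_R_global hM N h₁ h h12 ξ hξB ξ₁ hξ₁B hirr
    (fun n => by rw [hξres, hξ₁res])
  have key := lin_unique_global hM N h₁ ξ₁ hξ₁B (fun a : J₁ => lam a) (fun a : J₁ => lam₁ a)
    (fun a b => d.mul a b (h12 a.2) (h12 b.2))
    (fun a b => d₁.mul a b a.2 b.2)
    (fun a ha => d.trivN a ha) (fun a ha => d₁.trivN a ha)
    (fun c _ => by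
      have e1 := d.fact h.1 ξ hξB hξres ⟨c, h12 c.2⟩
      have e2 := d₁.fact h₁.1 ξ₁ hξ₁B hξ₁res c
      rw [← e2, ← hR c]
      exact e1.symm)
  intro x hx
  exact key ⟨x, hx⟩

/-- Compatibility of the linear factors with conjugation. -/
theorem linData_conj (hM : IsPModular p M) (N : Subgroup G) [hN : N.Normal] {C J J' : Subgroup G}
    (h : LocHyp p N C J) (h' : LocHyp p N C J')
    (θ : IrrCharacter ↥N) (hθ : θ ∈ principalBlock M ↥N) (ψ : G → ℂ)
    (hψcf : ∀ g y : G, ψ (y * g * y⁻¹) = ψ g) (hψ : ∀ n : N, ψ n = (θ : ↥N → ℂ) n)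
    (lam lam' : G → ℂ) (d : LinData M N θ ψ J lam) (d' : LinData M N θ ψ J' lam')
    (y : G) (ι : ↥J ≃* ↥J') (hι : ∀ x : ↥J, ((ι x : ↥J') : G) = y * (x : G) * y⁻¹) :
    ∀ x ∈ J, lam' (y * x * y⁻¹) = lam x := by
  obtain ⟨ξ, ⟨hξB, hξres⟩, hξu⟩ := h.extU hM N θ hθ
  obtain ⟨ξ', ⟨hξ'B, hξ'res⟩, -⟩ := h'.extU hM N θ hθ
  obtain ⟨ξ'', hξ''app, hξ''B⟩ := exists_irr_comp (M := M) ι ξ'
  have hξ''res : ∀ n : N, (ξ'' : ↥J → ℂ) ⟨n, h.1 n.2⟩ = (θ : ↥N → ℂ) n := by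
    intro n
    rw [hξ''app]
    have hmem : y * (n : G) * y⁻¹ ∈ N := hN.conj_mem n n.2 y
    have h1 : ι ⟨n, h.1 n.2⟩ = ⟨((⟨y * (n : G) * y⁻¹, hmem⟩ : ↥N) : G), h'.1 hmem⟩ := by
      apply Subtype.ext
      rw [hι]
    rw [h1, hξ'res, ← hψ, ← hψ]
    exact hψcf n y
  have hξξ : ξ'' = ξ := hξu ξ'' ⟨hξ''B hξ'B, hξ''res⟩
  have key := lin_unique_global hM N h ξ hξB (fun a : J => lam' (ι a : ↥J')) (fun a : J => lam a)
    (fun a b => by
      rw [map_mul, Subgroup.coe_mul]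
      exact d'.mul _ _ (ι a).2 (ι b).2)
    (fun a b => d.mul a b a.2 b.2)
    (fun a ha => by
      apply d'.trivN
      rw [hι]
      exact hN.conj_mem a ha y)
    (fun a ha => d.trivN a ha)
    (fun c _ => by
      have e1 := d'.fact h'.1 ξ' hξ'B hξ'res (ι c)
      have e2 := d.fact h.1 ξ hξB hξres c
      rw [← e2, ← hξξ, hξ''app, ← e1, hι]
      exact hψcf c y)
  intro x hx
  have := key ⟨x, hx⟩
  simp only at this
  rw [hι] at this
  exact this

end GLOBAL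

end Cfsg.Agent.H2.AE
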