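import Mathlib
import Cfsg.Prelude.Def_Blocks
import Cfsg.Agent.H2.AE3
import Cfsg.Agent.Lib.Helper4.AD4
import Cfsg.Agent.Lib.Helper8.AD7
import Cfsg.Agent.Lib.helper3.BrauerInd5
import Cfsg.Agent.Lib.helper3.AbelianInertia
import Cfsg.Agent.Lib.helper3.Irr9

/-!
# S4937: the twisting linear character `μ` and the extension `χ = ψ · conj μ`

`μ(g) := λ_{N⟨g'⟩}(g')`, `g' = g ^ k` the `p'`-part of `g`.  It is a class function whose
restriction to every elementary subgroup is a linear character, hence (Brauer) a linear character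
of `G`; on every good subgroup `J` it agrees with `λ_J`.
-/

set_option autoImplicit false
set_option linter.style.haveILetI false
set_option linter.unusedSectionVars false
set_option maxHeartbeats 1000000

namespace Cfsg.Agent.H2.AE

open Cfsg Cfsg.Agent.Lib.helper3.Block Cfsg.Agent.Lib.helper3.LocalM
open Cfsg.Agent.Lib.helper3.Irr Cfsg.Agent.Lib.helper3.CharBasic Cfsg.Agent.Lib.helper3.IndFun
open Cfsg.Agent.H2.AD Cfsg.Agent.Lib.helper3.ADB Cfsg.Agent.Lib.Helper8.AD
open Cfsg.Agent.Lib.helper3.HallNilp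
open scoped ComplexConjugate

universe u

variable {G : Type u} [Group G] [Finite G] {p : ℕ} [hp : Fact p.Prime] {M : Ideal AlgInt}

/-- A subgroup all of whose elements are `p`-regular has order prime to `p`. -/
theorem not_dvd_card_of_forall_regular (K : Subgroup G) (hK : ∀ x ∈ K, ¬ p ∣ orderOf x) :
    ¬ p ∣ Nat.card K := by
  intro hdvd
  obtain ⟨x, hx⟩ := exists_prime_orderOf_dvd_card' p hdvd
  apply hK (x : G) x.2
  rw [Subgroup.orderOf_coe, hx]

section MU

variable (hM : IsPModular p M) (N : Subgroup G) [hN : N.Normal] (C : Subgroup G)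
  (hloc : ∀ J : Subgroup G, Good p N J → LocHyp p N C J)
  (θ : IrrCharacter ↥N) (hθ : θ ∈ principalBlock M ↥N) (ψ : G → ℂ)
  (hψcf : ∀ g y : G, ψ (y * g * y⁻¹) = ψ g) (hψ : ∀ n : N, ψ n = (θ : ↥N → ℂ) n)
  (L : Subgroup G → G → ℂ) (hL : ∀ J : Subgroup G, LocHyp p N C J → LinData M N θ ψ J (L J))
  (k : ℕ) (hk : IsPPow p (Nat.card G) k)

include hk in
theorem pow_k_regular (g : G) : ¬ p ∣ orderOf (g ^ k) :=
  hk.not_dvd_orderOf_pow g pow_card_eq_one'

include hloc hk in
theorem locHyp_pow_k (g : G) : LocHyp p N C (N ⊔ Subgroup.zpowers (g ^ k)) :=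
  hloc _ (good_sup_zpowers N _ (pow_k_regular k hk g))

theorem mem_sup_zpowers_self (h : G) : h ∈ N ⊔ Subgroup.zpowers h :=
  le_sup_right (a := N) (Subgroup.mem_zpowers h)

include hM hloc hθ hψcf hψ hL hk in
/-- `μ` is a class function. -/
theorem mu_conj (g y : G) :
    L (N ⊔ Subgroup.zpowers ((y * g * y⁻¹) ^ k)) ((y * g * y⁻¹) ^ k)
      = L (N ⊔ Subgroup.zpowers (g ^ k)) (g ^ k) := by
  rw [conj_pow]
  have h1 := locHyp_pow_k N C hloc k hk g
  have h2 : LocHyp p N C (N ⊔ Subgroup.zpowers (y * g ^ k * y⁻¹)) := by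
    have := locHyp_pow_k N C hloc k hk (y * g * y⁻¹)
    rwa [conj_pow] at this
  exact linData_conj hM N h1 h2 θ hθ ψ hψcf hψ _ _ (hL _ h1) (hL _ h2) y
    (Cfsg.Agent.Lib.Helper4.AD.conjSup N y (g ^ k)) (fun _ => rfl) (g ^ k)
    (mem_sup_zpowers_self N _)

include hM hloc hθ hL hk in
/-- On a subgroup with `LocHyp`, `μ` agrees with the linear factor. -/
theorem mu_eq (J : Subgroup G) (hJ : LocHyp p N C J) (x : G) (hx : x ∈ J) :
    L (N ⊔ Subgroup.zpowers (x ^ k)) (x ^ k) = L J x := by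
  have h1 := locHyp_pow_k N C hloc k hk x
  have hxk : x ^ k ∈ J := J.pow_mem hx k
  have hle : N ⊔ Subgroup.zpowers (x ^ k) ≤ J :=
    sup_le hJ.1 ((Subgroup.zpowers_le).mpr hxk)
  have e1 := linData_mono hM N h1 hJ hle θ hθ ψ _ _ (hL _ h1) (hL _ hJ) (x ^ k)
    (mem_sup_zpowers_self N _)
  rw [← e1, (hL _ hJ).pow x hx k]
  have hidx' : ¬ p ∣ N.relIndex J := by
    obtain ⟨-, Q, -, -, hidx⟩ := hJ
    exact hidx
  apply hk.pow_eq_self (L J x) (N.relIndex J)
    ((Subgroup.relIndex_dvd_card N J).trans (Subgroup.card_subgroup_dvd_card J)) hidx'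
  rw [← (hL _ hJ).pow x hx]
  exact (hL _ hJ).trivN _ (pow_relIndex_mem N J x hx)

include hM hloc hθ hL hk in
/-- `μ` restricts to a character on every elementary subgroup. -/
theorem mu_elementary (q : ℕ) (E : Subgroup G) (hq : q.Prime) (hE : IsElementary q ↥E) :
    IsCharacter ↥E (fun e : E => L (N ⊔ Subgroup.zpowers ((e : G) ^ k)) ((e : G) ^ k)) := by
  haveI : Fact q.Prime := ⟨hq⟩
  haveI hnil : Group.IsNilpotent ↥E :=
    Cfsg.Agent.Lib.helper3.BrauerInd.isNilpotent_of_isElementary hE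
  obtain ⟨K, hKn, hKmem, -⟩ := exists_hall_pprime (E := ↥E) p
  obtain ⟨KG, hKG⟩ : ∃ KG : Subgroup G, KG = K.map E.subtype := ⟨_, rfl⟩
  have hKGreg : ∀ x ∈ KG, ¬ p ∣ orderOf x := by
    intro x hx
    rw [hKG] at hx
    obtain ⟨e, he, rfl⟩ := Subgroup.mem_map.mp hx
    have := (hKmem e).mp he
    rwa [Subgroup.coe_subtype, Subgroup.orderOf_coe]
  have hJ : LocHyp p N C (N ⊔ KG) :=
    hloc _ (good_sup N KG (not_dvd_card_of_forall_regular KG hKGreg))
  have hpowmem : ∀ e : E, (e : G) ^ k ∈ KG := by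
    intro e
    rw [hKG]
    refine Subgroup.mem_map.mpr ⟨e ^ k, ?_, ?_⟩
    · rw [hKmem]
      exact hk.not_dvd_orderOf_pow e (by
        have : (e : G) ^ Nat.card G = 1 := pow_card_eq_one'
        exact Subtype.ext (by rw [Subgroup.coe_pow, this, Subgroup.coe_one]))
    · rw [Subgroup.coe_subtype, Subgroup.coe_pow]
  have hpowJ : ∀ e : E, (e : G) ^ k ∈ N ⊔ KG := fun e => le_sup_right (a := N) (hpowmem e)
  -- the `p'`-part map as a homomorphism `E → J`
  let π : ↥E →* ↥(N ⊔ KG) :=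
    { toFun := fun e => ⟨(e : G) ^ k, hpowJ e⟩
      map_one' := by
        apply Subtype.ext
        simp
      map_mul' := by
        intro a b
        apply Subtype.ext
        have h := pow_mul_of_isNilpotent (E := ↥E) hk (Subgroup.card_subgroup_dvd_card E) a b
        have h2 := congrArg (Subtype.val) h
        simpa using h2 }
  have hchar := isCharacter_comp (hL _ hJ).char π
  have hfun : (fun e : E => L (N ⊔ Subgroup.zpowers ((e : G) ^ k)) ((e : G) ^ k))
      = fun e : E => (fun a : ↥(N ⊔ KG) => L (N ⊔ KG) a) (π e) := by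
    funext e
    have h1 := locHyp_pow_k N C hloc k hk (e : G)
    have hle : N ⊔ Subgroup.zpowers ((e : G) ^ k) ≤ N ⊔ KG :=
      sup_le le_sup_left ((Subgroup.zpowers_le).mpr (hpowJ e))
    have e1 := linData_mono hM N h1 hJ hle θ hθ ψ _ _ (hL _ h1) (hL _ hJ) ((e : G) ^ k)
      (mem_sup_zpowers_self N _)
    exact e1.symm
  rw [hfun]
  exact hchar

end MU

/-- **Core A of S4937.**  If every good subgroup satisfies the Alperin–Dade hypotheses and
`θ ∈ B₀(N)` extends to `G`, then some extension `χ` of `θ` restricts into the principal block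
of every subgroup `J ≥ N` satisfying the hypotheses. -/
theorem exists_ext_good (hM : IsPModular p M) (N : Subgroup G) [hN : N.Normal] (C : Subgroup G)
    (hloc : ∀ J : Subgroup G, Good p N J → LocHyp p N C J)
    (θ : IrrCharacter ↥N) (hθ : θ ∈ principalBlock M ↥N) (ψ : IrrCharacter G)
    (hψ : ∀ n : N, (ψ : G → ℂ) n = (θ : ↥N → ℂ) n) :
    ∃ χ : IrrCharacter G, (∀ n : N, (χ : G → ℂ) n = (θ : ↥N → ℂ) n) ∧
      ∀ J : Subgroup G, LocHyp p N C J → ∃ ξ : IrrCharacter ↥J,
        ξ ∈ principalBlock M ↥J ∧ ∀ a : J, (ξ : ↥J → ℂ) a = (χ : G → ℂ) a := by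
  classical
  letI : Fintype G := Fintype.ofFinite G
  have hψc : IsCharacter G (ψ : G → ℂ) := isCharacter_of_isIrrCharacter ψ.2
  have hψcf : ∀ g y : G, (ψ : G → ℂ) (y * g * y⁻¹) = (ψ : G → ℂ) g :=
    fun g y => isClassFunction_of_isCharacter hψc g y
  obtain ⟨L, hL⟩ := exists_linData hM N C θ hθ (ψ : G → ℂ) hψc hψ
  obtain ⟨k, hk⟩ := exists_isPPow p (Nat.card G) Nat.card_pos.ne'
  obtain ⟨μ, hμdef⟩ : ∃ μ : G → ℂ,
      μ = fun g => L (N ⊔ Subgroup.zpowers (g ^ k)) (g ^ k) := ⟨_, rfl⟩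
  -- `μ` is an irreducible (linear) character
  have hμnorm : ∀ g : G, μ g * conj (μ g) = 1 := by
    intro g
    rw [hμdef]
    exact (hL _ (locHyp_pow_k N C hloc k hk g)).norm _ (mem_sup_zpowers_self N _)
  have hμ1 : μ 1 = 1 := by
    rw [hμdef]
    simp only
    rw [one_pow]
    have := (hL _ (locHyp_pow_k N C hloc k hk (1 : G))).one
    rwa [one_pow] at this
  obtain ⟨μ', hμ'⟩ := exists_irr_of_elementary μ
    (fun y g => by
      rw [hμdef]
      exact mu_conj hM N C hloc θ hθ (ψ : G → ℂ) hψcf hψ L hL k hk g y)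
    (fun q E hq hE => by
      rw [hμdef]
      exact mu_elementary hM N C hloc θ hθ (ψ : G → ℂ) L hL k hk q E hq hE)
    (by
      rw [finsum_eq_sum_of_fintype, Finset.sum_congr rfl (fun g _ => hμnorm g)]
      simp [Nat.card_eq_fintype_card])
    ⟨1, Nat.one_pos, by rw [hμ1]; simp⟩
  have hμc : IsCharacter G μ := by
    have : (μ' : G → ℂ) = μ := funext hμ'
    rw [← this]
    exact isCharacter_of_isIrrCharacter μ'.2
  have hμconj : IsCharacter G (fun g => conj (μ g)) := isCharacter_conj hμc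
  have hχirr : IsIrrCharacter G ((fun g => conj (μ g)) * (ψ : G → ℂ)) :=
    isIrrCharacter_linear_mul hμconj (by rw [hμ1, map_one]) ψ.2
  have hNgood : Good p N N := ⟨le_rfl, by
    rw [Subgroup.relIndex_self]
    exact hp.out.not_dvd_one⟩
  refine ⟨⟨_, hχirr⟩, ?_, ?_⟩
  · intro n
    show conj (μ n) * (ψ : G → ℂ) n = _
    have h1 : μ n = 1 := by
      rw [hμdef]
      simp only
      rw [mu_eq hM N C hloc θ hθ (ψ : G → ℂ) L hL k hk N (hloc N hNgood) n n.2]
      exact (hL _ (hloc N hNgood)).trivN n n.2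
    rw [h1, map_one, one_mul, hψ]
  · intro J hJ
    obtain ⟨ξ, ⟨hξB, hξres⟩, -⟩ := hJ.extU hM N θ hθ
    refine ⟨ξ, hξB, fun a => ?_⟩
    show _ = conj (μ a) * (ψ : G → ℂ) a
    have h1 : μ a = L J a := by
      rw [hμdef]
      exact mu_eq hM N C hloc θ hθ (ψ : G → ℂ) L hL k hk J hJ a a.2
    have h2 := (hL _ hJ).fact hJ.1 ξ hξB hξres a
    have h3 := (hL _ hJ).norm a a.2
    rw [h1, h2, ← mul_assoc, mul_comm (conj (L J a)), h3, one_mul]

end Cfsg.Agent.H2.AE
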