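import Mathlib
import Cfsg.Prelude.Def_Blocks
import Cfsg.Agent.H2.AE1
import Cfsg.Agent.H2.AE4
import Cfsg.Agent.Lib.Helper4.PRX0
import Cfsg.Agent.Lib.Helper4.PRX2

/-!
# S4892, piece P-D: the S4937 cores in the `Agrees` shape
-/

set_option autoImplicit false
set_option linter.style.haveILetI false
set_option linter.unusedSectionVars false
set_option linter.unusedVariables false

namespace Cfsg.Agent.H2.AE

open Cfsg Cfsg.Agent.Lib.helper3.ADB Cfsg.Agent.Lib.Helper4.PRX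

universe u

variable {G : Type u} [Group G] [Finite G] {p : ℕ} [hp : Fact p.Prime] {M : Ideal AlgInt}

/-- S4937 steps (1)–(5) in the `Agrees` shape, abstract form. -/
theorem exists_agrees_of_loc (hM : IsPModular p M) (N : Subgroup G) [hN : N.Normal]
    (C : Subgroup G)
    (hloc : ∀ J : Subgroup G, N ≤ J → ¬ p ∣ N.relIndex J → LocHyp p N C J)
    (θ : IrrCharacter ↥N) (hθ : θ ∈ principalBlock M ↥N) (ψ : IrrCharacter G)
    (hψ : ∀ n : N, (ψ : G → ℂ) n = (θ : ↥N → ℂ) n) :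
    ∃ η : IrrCharacter G, (∀ n : N, (η : G → ℂ) n = (θ : ↥N → ℂ) n) ∧
      Agrees M p N θ (η : G → ℂ) := by
  obtain ⟨χ, hχN, hχJ⟩ := exists_ext_good hM N C (fun J hJ => hloc J hJ.1 hJ.2) θ hθ ψ hψ
  refine ⟨χ, hχN, ?_⟩
  intro J hNJ hJ ψJ hψJB hψJres h
  have hL := hloc J hNJ hJ
  obtain ⟨ξ, hξB, hξ⟩ := hχJ J hL
  obtain ⟨ξ₀, -, hu⟩ := hL.extU hM N θ hθ
  have e1 : ξ = ξ₀ := hu ξ ⟨hξB, fun n => by rw [hξ]; exact hχN n⟩
  have e2 : ψJ = ξ₀ := hu ψJ ⟨hψJB, hψJres⟩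
  rw [← hξ h, e1, e2]

/-- S4937 steps (1)–(5) in the `Agrees` shape, for the hypotheses of S4892. -/
theorem exists_agrees (hM : IsPModular p M) (N : Subgroup G) [hN : N.Normal] (Q : Sylow p ↥N)
    (hidx : ∃ a : ℕ, (N ⊔ Subgroup.centralizer
      (((Q : Subgroup ↥N).map N.subtype : Subgroup G) : Set G)).index = p ^ a)
    (θ : IrrCharacter ↥N) (hθ : θ ∈ principalBlock M ↥N) (ψ : IrrCharacter G)
    (hψ : ∀ n : N, (ψ : G → ℂ) n = (θ : ↥N → ℂ) n) :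
    ∃ η : IrrCharacter G, (∀ n : N, (η : G → ℂ) n = (θ : ↥N → ℂ) n) ∧
      Agrees M p N θ (η : G → ℂ) := by
  obtain ⟨a, ha⟩ := hidx
  haveI := normal_sup_centralizer N Q
  apply exists_agrees_of_loc hM N (Subgroup.centralizer
      (((Q : Subgroup ↥N).map N.subtype : Subgroup G) : Set G)) ?_ θ hθ ψ hψ
  intro J hNJ hJ
  exact ⟨hNJ, good_hyp N Q J ⟨hNJ, hJ⟩ (good_le N _ le_sup_left a ha J hNJ hJ)⟩

/-- S4937 step (6) with `J = G` in the `Agrees` shape. -/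
theorem mem_principalBlock_of_agrees (hM : IsPModular p M) (N : Subgroup G) [hN : N.Normal]
    (θ : IrrCharacter ↥N) (hθ : θ ∈ principalBlock M ↥N)
    (hgood : ∀ (J : Subgroup G) (hNJ : N ≤ J), ¬ p ∣ N.relIndex J → HypAt p N J)
    (hext : ∀ (J : Subgroup G) (hNJ : N ≤ J), ¬ p ∣ N.relIndex J → ExtU M N J hNJ)
    (η : IrrCharacter G) (hηN : ∀ n : N, (η : G → ℂ) n = (θ : ↥N → ℂ) n)
    (hη : Agrees M p N θ (η : G → ℂ)) : η ∈ principalBlock M G := by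
  classical
  letI : Fintype G := Fintype.ofFinite G
  have hcyc : ∀ y : G, ¬ p ∣ orderOf y → ∃ ξ : IrrCharacter ↥(N ⊔ Subgroup.zpowers y),
      ξ ∈ principalBlock M ↥(N ⊔ Subgroup.zpowers y) ∧
        ∀ a : ↥(N ⊔ Subgroup.zpowers y),
          (ξ : ↥(N ⊔ Subgroup.zpowers y) → ℂ) a = (η : G → ℂ) a := by
    intro y hy
    have hg := Cfsg.Agent.H2.AE.good_sup_zpowers N y hy
    obtain ⟨ξ, ⟨hξB, hξres⟩, -⟩ := hext _ hg.1 hg.2 θ hθ
    exact ⟨ξ, hξB, fun a => (hη _ hg.1 hg.2 ξ hξB hξres a).symm⟩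
  -- the restriction to `⊤`
  obtain ⟨ξ, hξapp, -⟩ := Cfsg.Agent.Lib.Helper8.AD.exists_irr_comp (M := M)
    (Subgroup.topEquiv : (⊤ : Subgroup G) ≃* G) η
  have hξB : ξ ∈ principalBlock M ↥(⊤ : Subgroup G) :=
    mem_principalBlock_of_cyclic hM N (η : G → ℂ) hcyc ⊤ le_top ξ (fun a => hξapp a)
  obtain ⟨χ', hχ'app, hχ'B⟩ := Cfsg.Agent.Lib.Helper8.AD.exists_irr_comp (M := M)
    (Subgroup.topEquiv : (⊤ : Subgroup G) ≃* G).symm ξ
  have hχχ' : χ' = η := by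
    apply Subtype.ext
    funext g
    rw [hχ'app, hξapp]
    rfl
  rw [← hχχ']
  exact hχ'B hξB

end Cfsg.Agent.H2.AE
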