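import Mathlib

set_option autoImplicit false

namespace Cfsg.Agent.H2.SingerField

theorem card_of_aut {F : Type*} [Field F] [Finite F] (φ : F ≃+* F) (r : ℕ) (hr : r.Prime)
    (hφr : φ ^ r = 1) (hφ1 : φ ≠ 1) (hfixed : ∀ f, φ f = f → f = 0 ∨ f = 1) :
    Nat.card F = 2 ^ r := by
  classical
  let H : Subgroup (RingAut F) := Subgroup.zpowers φ
  have hH : Nat.card H = r := by
    rw [Nat.card_zpowers]
    have : Fact r.Prime := ⟨hr⟩
    exact orderOf_eq_prime hφr hφ1
  have : Finite H := Nat.finite_of_card_ne_zero (by rw [hH]; exact hr.pos.ne')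
  have : Fintype H := Fintype.ofFinite H
  have hfr := FixedPoints.finrank_eq_card H F
  rw [Fintype.card_eq_nat_card, hH] at hfr
  have hK : Nat.card (FixedPoints.subfield H F) = 2 := by
    rw [Nat.card_eq_two_iff]
    refine ⟨0, 1, zero_ne_one, ?_⟩
    ext x
    simp only [Set.mem_insert_iff, Set.mem_singleton_iff, Set.mem_univ, iff_true]
    have hx := x.2
    have h1 : φ (x : F) = x := hx ⟨φ, Subgroup.mem_zpowers φ⟩
    rcases hfixed _ h1 with h | h
    · left; exact Subtype.ext h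
    · right; exact Subtype.ext h
  rw [Module.natCard_eq_pow_finrank (K := FixedPoints.subfield H F) (V := F), hK, hfr]

/-- conjugation ring hom -/
def conjHom {R : Type*} [Ring R] (τ τ' : R) (hττ' : τ * τ' = 1) (hτ'τ : τ' * τ = 1) : R →+* R where
  toFun f := τ * f * τ'
  map_one' := by rw [mul_one, hττ']
  map_mul' f g := by
    calc τ * (f * g) * τ' = τ * f * 1 * g * τ' := by rw [mul_one]; noncomm_ring
      _ = τ * f * τ' * (τ * g * τ') := by rw [← hτ'τ]; noncomm_ring
  map_zero' := by rw [mul_zero, zero_mul]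
  map_add' f g := by rw [mul_add, add_mul]

theorem mul_app {A : Type*} [AddCommGroup A] (f g : AddMonoid.End A) (x : A) :
    (f * g) x = f (g x) := rfl

theorem sub_app {A : Type*} [AddCommGroup A] (f g : AddMonoid.End A) (x : A) :
    (f - g) x = f x - g x := rfl

theorem main {A : Type*} [AddCommGroup A] (d : ℕ) (hcard : Nat.card A = 2 ^ d)
    (S : Set (AddMonoid.End A)) (hcomm : ∀ s ∈ S, ∀ t ∈ S, s * t = t * s)
    (hinv : ∀ s ∈ S, ∃ t ∈ S, s * t = 1)
    (v₀ : A) (hv₀ : v₀ ≠ 0) (htrans : ∀ x : A, x ≠ 0 → ∃ s ∈ S, s v₀ = x)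
    (τ τ' : AddMonoid.End A) (hττ' : τ * τ' = 1) (hτ'τ : τ' * τ = 1) (hτv : τ v₀ = v₀)
    (hnorm : ∀ s ∈ S, τ * s * τ' ∈ S)
    (hfix : ∀ x, τ x = x → x = 0 ∨ x = v₀)
    (r : ℕ) (hr : r.Prime) (hτr : τ ^ r = 1)
    (hne : ∃ s ∈ S, τ * s * τ' ≠ s) : d = r := by
  classical
  let F : Subring (AddMonoid.End A) := Subring.closure S
  have hSF : S ⊆ F := Subring.subset_closure
  have hFc : ∀ f ∈ F, ∀ g ∈ F, f * g = g * f := by
    have := Subring.isMulCommutative_closure hcomm
    intro f hf g hg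
    have h := mul_comm' (⟨f, hf⟩ : Subring.closure S) ⟨g, hg⟩
    exact congrArg Subtype.val h
  have ev_inj : ∀ f ∈ F, f v₀ = 0 → f = 0 := by
    intro f hf h0
    ext x
    by_cases hx : x = 0
    · rw [hx, map_zero, map_zero]
    · obtain ⟨s, hs, rfl⟩ := htrans x hx
      have h1 : (f * s) v₀ = (s * f) v₀ := by rw [hFc f hf s (hSF hs)]
      rw [mul_app, mul_app, h0, map_zero] at h1
      rw [h1]; rfl
  have ev_inj2 : ∀ f ∈ F, ∀ g ∈ F, f v₀ = g v₀ → f = g := by
    intro f hf g hg h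
    have := ev_inj (f - g) (F.sub_mem hf hg) (by rw [sub_app, h, sub_self])
    exact sub_eq_zero.1 this
  have hFS : ∀ f ∈ F, f ≠ 0 → f ∈ S := by
    intro f hf hf0
    have h1 : f v₀ ≠ 0 := fun h => hf0 (ev_inj f hf h)
    obtain ⟨s, hs, hsv⟩ := htrans _ h1
    rw [ev_inj2 f hf s (hSF hs) hsv.symm]
    exact hs
  have h01 : (0 : F) ≠ 1 := by
    intro h
    have h' : (0 : AddMonoid.End A) = 1 := congrArg Subtype.val h
    have := congrArg (fun f : AddMonoid.End A => f v₀) h'
    exact hv₀ this.symm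
  have hF : IsField F := by
    refine ⟨⟨0, 1, h01⟩, ?_, ?_⟩
    · intro f g
      exact Subtype.ext (hFc f f.2 g g.2)
    · intro f hf
      have hf' : (f : AddMonoid.End A) ≠ 0 := fun h => hf (Subtype.ext h)
      obtain ⟨t, ht, hft⟩ := hinv _ (hFS f f.2 hf')
      exact ⟨⟨t, hSF ht⟩, Subtype.ext hft⟩
  have hcardF : Nat.card F = Nat.card A := by
    apply Nat.card_eq_of_bijective (fun f : F => (f : AddMonoid.End A) v₀)
    constructor
    · intro f g h
      exact Subtype.ext (ev_inj2 f f.2 g g.2 h)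
    · intro x
      by_cases hx : x = 0
      · exact ⟨0, by simp [hx]⟩
      · obtain ⟨s, hs, hsv⟩ := htrans x hx
        exact ⟨⟨s, hSF hs⟩, hsv⟩
  have hFfin : Finite F := Nat.finite_of_card_ne_zero (by rw [hcardF, hcard]; positivity)
  let c := conjHom τ τ' hττ' hτ'τ
  have hc : ∀ f, c f = τ * f * τ' := fun _ => rfl
  have hcF : ∀ f ∈ F, c f ∈ F := by
    have : F ≤ F.comap c := by
      apply Subring.closure_le.2
      intro s hs
      exact hSF (hnorm s hs)
    exact fun f hf => this hf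
  let φ0 : F →+* F := c.restrict F F hcF
  have hφ0 : ∀ f : F, ((φ0 f : F) : AddMonoid.End A) = τ * f * τ' := fun _ => rfl
  have hφ0inj : Function.Injective φ0 := by
    intro f g h
    have h1 : τ * (f : AddMonoid.End A) * τ' = τ * g * τ' := by
      rw [← hφ0, ← hφ0, h]
    apply Subtype.ext
    calc (f : AddMonoid.End A) = τ' * (τ * f * τ') * τ := by
          rw [show τ' * (τ * (f : AddMonoid.End A) * τ') * τ = (τ' * τ) * f * (τ' * τ) by noncomm_ring,
            hτ'τ, one_mul, mul_one]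
      _ = τ' * (τ * g * τ') * τ := by rw [h1]
      _ = g := by
          rw [show τ' * (τ * (g : AddMonoid.End A) * τ') * τ = (τ' * τ) * g * (τ' * τ) by noncomm_ring,
            hτ'τ, one_mul, mul_one]
  let φe : F ≃+* F := RingEquiv.ofBijective φ0 (Finite.injective_iff_bijective.1 hφ0inj)
  have hφe : ∀ f : F, ((φe f : F) : AddMonoid.End A) = τ * f * τ' := fun _ => rfl
  have hτ'r : τ' ^ r = 1 := by
    have hcm : Commute τ' τ := by
      show τ' * τ = τ * τ'
      rw [hτ'τ, hττ']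
    have := hcm.mul_pow r
    rw [hτ'τ, one_pow, hτr, mul_one] at this
    exact this.symm
  have hpow : ∀ k : ℕ, ∀ f : F, (((φe ^ k) f : F) : AddMonoid.End A) = τ ^ k * f * τ' ^ k := by
    intro k
    induction k with
    | zero => intro f; simp
    | succ k ih =>
      intro f
      rw [pow_succ, RingAut.mul_apply, ih, hφe, pow_succ, pow_succ']
      noncomm_ring
  have hφr : φe ^ r = 1 := by
    ext f
    rw [hpow, hτr, hτ'r, one_mul, mul_one]
    rfl
  have hφ1 : φe ≠ 1 := by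
    obtain ⟨s, hs, hne⟩ := hne
    intro h
    apply hne
    have := hφe ⟨s, hSF hs⟩
    rw [h] at this
    exact this.symm
  have hfixed : ∀ f : F, φe f = f → f = 0 ∨ f = 1 := by
    intro f hf
    have h1 : τ * (f : AddMonoid.End A) * τ' = f := by rw [← hφe, hf]
    have h2 : τ * (f : AddMonoid.End A) = f * τ := by
      calc τ * (f : AddMonoid.End A) = τ * f * (τ' * τ) := by rw [hτ'τ, mul_one]
        _ = (τ * f * τ') * τ := by noncomm_ring
        _ = f * τ := by rw [h1]
    have h3 : τ ((f : AddMonoid.End A) v₀) = (f : AddMonoid.End A) v₀ := by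
      have := congrArg (fun g : AddMonoid.End A => g v₀) h2
      simp only [mul_app, hτv] at this
      exact this
    rcases hfix _ h3 with h | h
    · left
      exact Subtype.ext (ev_inj f f.2 h)
    · right
      exact Subtype.ext (ev_inj2 f f.2 1 F.one_mem h)
  let _ : Field F := IsField.toField hF
  have key := card_of_aut φe r hr hφr hφ1 hfixed
  rw [hcardF, hcard] at key
  exact Nat.pow_right_injective (le_refl 2) key

theorem main_mul {V : Type*} [Group V] (hV : ∀ x y : V, x * y = y * x) (d : ℕ)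
    (hcard : Nat.card V = 2 ^ d)
    (S : Set (MulAut V)) (hcomm : ∀ s ∈ S, ∀ t ∈ S, s * t = t * s)
    (hinv : ∀ s ∈ S, s⁻¹ ∈ S)
    (v₀ : V) (hv₀ : v₀ ≠ 1) (htrans : ∀ x : V, x ≠ 1 → ∃ s ∈ S, s v₀ = x)
    (τ : MulAut V) (hτv : τ v₀ = v₀)
    (hnorm : ∀ s ∈ S, τ * s * τ⁻¹ ∈ S)
    (hfix : ∀ x, τ x = x → x = 1 ∨ x = v₀)
    (r : ℕ) (hr : r.Prime) (hτr : τ ^ r = 1)
    (hne : ∃ s ∈ S, τ * s * τ⁻¹ ≠ s) : d = r := by
  classical
  let _ : CommGroup V := { ‹Group V› with mul_comm := hV }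
  let Φ : MulAut V →* AddMonoid.End (Additive V) :=
    { toFun := fun e => MonoidHom.toAdditive e.toMonoidHom
      map_one' := rfl
      map_mul' := fun _ _ => rfl }
  have hΦ : ∀ (e : MulAut V) (x : V), Φ e (Additive.ofMul x) = Additive.ofMul (e x) := fun _ _ => rfl
  have hΦinj : Function.Injective Φ := by
    intro e₁ e₂ h
    ext x
    have := congrArg (fun f : AddMonoid.End (Additive V) => f (Additive.ofMul x)) h
    simp only [hΦ] at this
    exact Additive.ofMul.injective this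
  refine main (A := Additive V) d hcard (Φ '' S) ?_ ?_ (Additive.ofMul v₀) ?_ ?_ (Φ τ) (Φ τ⁻¹)
    ?_ ?_ ?_ ?_ ?_ r hr ?_ ?_
  · rintro _ ⟨s, hs, rfl⟩ _ ⟨t, ht, rfl⟩
    rw [← map_mul, ← map_mul, hcomm s hs t ht]
  · rintro _ ⟨s, hs, rfl⟩
    refine ⟨Φ s⁻¹, ⟨s⁻¹, hinv s hs, rfl⟩, ?_⟩
    rw [← map_mul, mul_inv_cancel, map_one]
  · intro h
    exact hv₀ (Additive.ofMul.injective h)
  · intro x hx
    have hx' : Additive.toMul x ≠ 1 := by
      intro h
      apply hx
      exact Additive.toMul.injective h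
    obtain ⟨s, hs, hsv⟩ := htrans _ hx'
    refine ⟨Φ s, ⟨s, hs, rfl⟩, ?_⟩
    rw [hΦ, hsv]
    rfl
  · rw [← map_mul, mul_inv_cancel, map_one]
  · rw [← map_mul, inv_mul_cancel, map_one]
  · rw [hΦ, hτv]
  · rintro _ ⟨s, hs, rfl⟩
    refine ⟨τ * s * τ⁻¹, hnorm s hs, ?_⟩
    rw [map_mul, map_mul]
  · intro x hx
    have h1 : τ (Additive.toMul x) = Additive.toMul x := by
      have := hΦ τ (Additive.toMul x)
      rw [ofMul_toMul, hx] at this
      exact (Additive.ofMul.injective this).symm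
    rcases hfix _ h1 with h | h
    · left
      exact Additive.toMul.injective h
    · right
      exact Additive.toMul.injective h
  · rw [← map_pow, hτr, map_one]
  · obtain ⟨s, hs, hne⟩ := hne
    refine ⟨Φ s, ⟨s, hs, rfl⟩, ?_⟩
    rw [← map_mul, ← map_mul]
    intro h
    exact hne (hΦinj h)

end Cfsg.Agent.H2.SingerField
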