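import Mathlib
import Cfsg.Prelude.Def_Solvable
import Cfsg.Agent.Lib.Helper4.FrobThm
import Cfsg.Agent.Lib.Helper4.TwoTransC
import Cfsg.Agent.H2.SingerField
import Cfsg.Agent.H2.CNSolvable
import Cfsg.Agent.S0033

/-!
# Doubly transitive groups with a regular normal subgroup in which only the identity fixes three
points: the degree is `2 ^ p` with `p` prime

(author: helper2)
-/

set_option autoImplicit false

namespace Cfsg.Agent.H2.ZassRegular

open MulAction Cfsg
open scoped Pointwise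

variable {G Ω : Type*} [Group G] [MulAction G Ω]

theorem exists_fix_map (h2 : IsMultiplyPretransitive G Ω 2) {a b x : Ω} (hab : a ≠ b)
    (hax : x ≠ a) : ∃ g : G, g • a = a ∧ g • b = x := by
  rw [is_two_pretransitive_iff] at h2
  exact h2 hab hax.symm

/-- the Frobenius kernel of a point stabilizer in a doubly transitive group in which only the
identity fixes three points -/
theorem exists_kernel [Finite G] [FaithfulSMul G Ω] (h2 : IsMultiplyPretransitive G Ω 2)
    (h3 : ∀ g : G, ∀ a b c : Ω, a ≠ b → b ≠ c → a ≠ c → g • a = a → g • b = b → g • c = c → g = 1)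
    (g₀ : G) (hg₀ : g₀ ≠ 1) (a b : Ω) (hab : a ≠ b) (hga : g₀ • a = a) (hgb : g₀ • b = b) :
    ∃ K : Subgroup G, (∀ k ∈ K, k • a = a) ∧ (∀ k ∈ K, k ≠ 1 → ∀ x, x ≠ a → k • x ≠ x) ∧
      (∀ x, x ≠ a → ∃ k ∈ K, k • b = x) ∧
      (∀ h : G, h • a = a → ∀ k ∈ K, h * k * h⁻¹ ∈ K) := by
  classical
  let H₀ : Subgroup G := stabilizer G a
  let H : Subgroup H₀ := (stabilizer G b).subgroupOf H₀
  have hHmem : ∀ x : H₀, x ∈ H ↔ (x : G) • b = b := by
    intro x
    rw [Subgroup.mem_subgroupOf, mem_stabilizer_iff]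
  have hH₀mem : ∀ x : G, x ∈ H₀ ↔ x • a = a := fun x => mem_stabilizer_iff
  -- a third point
  obtain ⟨c, hca, hcb⟩ : ∃ c : Ω, c ≠ a ∧ c ≠ b := by
    by_contra hcon
    push Not at hcon
    apply hg₀
    apply FaithfulSMul.eq_of_smul_eq_smul (α := Ω)
    intro x
    rw [one_smul]
    by_cases hx : x = a
    · rw [hx, hga]
    · rw [hcon x hx, hgb]
  have hFrob : IsFrobeniusComplement H := by
    refine ⟨?_, ?_, ?_⟩
    · intro h
      have h1 : (⟨g₀, (hH₀mem g₀).2 hga⟩ : H₀) ∈ H := (hHmem _).2 hgb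
      rw [h, Subgroup.mem_bot] at h1
      exact hg₀ (congrArg Subtype.val h1)
    · intro h
      obtain ⟨g, hga', hgb'⟩ := exists_fix_map h2 hab hca
      have h1 : (⟨g, (hH₀mem g).2 hga'⟩ : H₀) ∈ H := by rw [h]; exact Subgroup.mem_top _
      rw [hHmem] at h1
      exact hcb (hgb'.symm.trans h1)
    · intro g hg
      rw [eq_bot_iff]
      intro x hx
      rw [Subgroup.mem_inf] at hx
      obtain ⟨hx1, hx2⟩ := hx
      rw [Subgroup.mem_bot]
      rw [Subgroup.mem_pointwise_smul_iff_inv_smul_mem, hHmem] at hx2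
      rw [hHmem] at hx1 hg
      have hxa : (x : G) • a = a := (hH₀mem _).1 x.2
      have hga' : (g : G) • a = a := (hH₀mem _).1 g.2
      have h4 : (x : G) • ((g : G) • b) = (g : G) • b := by
        have : ((MulAut.conj g)⁻¹ • x : H₀) = g⁻¹ * x * g := by
          rw [← map_inv, MulAut.smul_def, MulAut.conj_apply, inv_inv]
        rw [this] at hx2
        simp only [Subgroup.coe_mul, Subgroup.coe_inv, mul_smul] at hx2
        rw [inv_smul_eq_iff] at hx2
        exact hx2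
      have h5 : (g : G) • b ≠ a := by
        intro h
        rw [← hga'] at h
        exact hab (MulAction.injective _ h).symm
      apply Subtype.ext
      exact h3 (x : G) a b ((g : G) • b) hab (Ne.symm hg) h5.symm hxa hx1 h4
  obtain ⟨K₀, hK₀, hK₀n, hK₀c⟩ := Cfsg.Agent.Lib.Helper4.FrobThm.frobenius_theorem H hFrob
  refine ⟨K₀.map H₀.subtype, ?_, ?_, ?_, ?_⟩
  · rintro _ ⟨k, -, rfl⟩
    exact (hH₀mem _).1 k.2
  · rintro _ ⟨k, hk, rfl⟩ hk1 x hxa hkx
    have hk1' : k ≠ 1 := by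
      intro h
      apply hk1
      rw [h]
      rfl
    have hk' : k ∈ frobeniusKernel H := by rw [← hK₀]; exact hk
    rcases hk' with h | h
    · exact hk1' h
    · obtain ⟨g, hga', hgb'⟩ := exists_fix_map h2 hab hxa
      apply h ⟨g, (hH₀mem g).2 hga'⟩
      rw [Subgroup.mem_pointwise_smul_iff_inv_smul_mem, hHmem]
      have : ((MulAut.conj (⟨g, (hH₀mem g).2 hga'⟩ : H₀))⁻¹ • k : H₀) =
          (⟨g, (hH₀mem g).2 hga'⟩ : H₀)⁻¹ * k * ⟨g, (hH₀mem g).2 hga'⟩ := by
        rw [← map_inv, MulAut.smul_def, MulAut.conj_apply, inv_inv]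
      rw [this]
      simp only [Subgroup.coe_mul, Subgroup.coe_inv, mul_smul]
      rw [inv_smul_eq_iff, hgb']
      exact hkx
  · intro x hxa
    obtain ⟨g, hga', hgb'⟩ := exists_fix_map h2 hab hxa
    obtain ⟨⟨⟨k, hk⟩, ⟨h, hh⟩⟩, hkh⟩ := hK₀c.2 ⟨g, (hH₀mem g).2 hga'⟩
    refine ⟨(k : G), ⟨k, hk, rfl⟩, ?_⟩
    have h1 : (k : G) * (h : G) = g := congrArg Subtype.val hkh
    have hh' : (h : G) • b = b := (hHmem h).1 hh
    rw [← hgb', ← h1, mul_smul, hh']
  · rintro h hha _ ⟨k, hk, rfl⟩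
    refine ⟨(⟨h, (hH₀mem h).2 hha⟩ : H₀) * k * (⟨h, (hH₀mem h).2 hha⟩ : H₀)⁻¹,
      hK₀n.conj_mem k hk _, ?_⟩
    simp

theorem regular_eq (N : Subgroup G) (hNr : ∀ a : Ω, stabilizer N a = ⊥) {n m : G} (hn : n ∈ N)
    (hm : m ∈ N) (a : Ω) (h : n • a = m • a) : n = m := by
  have h1 : (⟨m⁻¹ * n, N.mul_mem (N.inv_mem hm) hn⟩ : N) ∈ stabilizer N a := by
    rw [mem_stabilizer_iff]
    show (m⁻¹ * n) • a = a
    rw [mul_smul, h, inv_smul_smul]
  rw [hNr a, Subgroup.mem_bot] at h1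
  have h2 : m⁻¹ * n = 1 := congrArg Subtype.val h1
  rw [inv_mul_eq_one] at h2
  exact h2.symm

/-- a regular normal subgroup of a doubly transitive group in which some non-identity element
fixes two points and only the identity fixes three is an elementary abelian 2-group -/
theorem regular_normal_two [Finite G] [Finite Ω] [FaithfulSMul G Ω]
    (h2 : IsMultiplyPretransitive G Ω 2)
    (h3 : ∀ g : G, ∀ a b c : Ω, a ≠ b → b ≠ c → a ≠ c → g • a = a → g • b = b → g • c = c → g = 1)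
    (g₀ : G) (hg₀ : g₀ ≠ 1) (a b : Ω) (hab : a ≠ b) (hga : g₀ • a = a) (hgb : g₀ • b = b)
    (N : Subgroup G) [hNn : N.Normal] (hNt : IsPretransitive N Ω)
    (hNr : ∀ a : Ω, stabilizer N a = ⊥) :
    (∀ x ∈ N, ∀ y ∈ N, x * y = y * x) ∧ (∀ n ∈ N, n ^ 2 = 1) := by
  obtain ⟨⟨nb, hnb⟩, hnb'⟩ := hNt.exists_smul_eq a b
  replace hnb' : nb • a = b := hnb'
  have hnb1 : nb ≠ 1 := by
    intro h
    rw [h, one_smul] at hnb'
    exact hab hnb'
  have hN : N ≠ ⊥ := by
    intro h
    rw [h, Subgroup.mem_bot] at hnb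
    exact hnb1 hnb
  have hmin : ∀ M : Subgroup G, M.Normal → M ≤ N → M = ⊥ ∨ M = N := by
    intro M hMn hMN
    by_cases hM : M = ⊥
    · left; exact hM
    · right
      have hMt := Cfsg.Agent.Lib.Helper4.TwoTransMin.isPretransitive_of_normal M h2 hM
      apply le_antisymm hMN
      intro n hn
      obtain ⟨⟨m, hm⟩, hm'⟩ := hMt.exists_smul_eq a (n • a)
      replace hm' : m • a = n • a := hm'
      rw [← regular_eq N hNr (hMN hm) hn a hm']
      exact hm
  obtain ⟨hcomm, q, hq, hexp⟩ := Cfsg.Agent.Lib.Helper4.TwoTransMin.regular_case N h2 hN hmin hNr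
  have hcomm' : ∀ x ∈ N, ∀ y ∈ N, x * y = y * x := by
    intro x hx y hy
    have := mul_comm' (⟨x, hx⟩ : N) ⟨y, hy⟩
    exact congrArg Subtype.val this
  refine ⟨hcomm', ?_⟩
  -- g₀ commutes with nb
  have hc : g₀ * nb * g₀⁻¹ = nb := by
    apply regular_eq N hNr (hNn.conj_mem nb hnb g₀) hnb a
    rw [mul_smul, mul_smul, inv_smul_eq_iff.2 hga.symm, hnb', hgb]
  have hnb2 : nb ^ 2 = 1 := by
    by_contra hne
    apply hg₀
    have h5 : g₀ • (nb ^ 2 • a) = nb ^ 2 • a := by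
      have : g₀ * nb ^ 2 = nb ^ 2 * g₀ := by
        have h6 : g₀ * nb = nb * g₀ := by
          calc g₀ * nb = (g₀ * nb * g₀⁻¹) * g₀ := by group
            _ = nb * g₀ := by rw [hc]
        rw [pow_two, ← mul_assoc, h6, mul_assoc, h6, mul_assoc]
      rw [← mul_smul, this, mul_smul, hga]
    refine h3 g₀ a b (nb ^ 2 • a) hab ?_ ?_ hga hgb h5
    · intro h
      rw [← hnb', pow_two, mul_smul] at h
      have := MulAction.injective nb h
      rw [hnb'] at this
      exact hab this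
    · intro h
      apply hne
      apply regular_eq N hNr (N.pow_mem hnb 2) N.one_mem a
      rw [one_smul, ← h]
  have hq2 : q = 2 := by
    have h1 : orderOf nb = 2 := orderOf_eq_prime hnb2 hnb1
    have h2 : orderOf nb ∣ q := orderOf_dvd_of_pow_eq_one (hexp nb hnb)
    rw [h1] at h2
    exact ((Nat.prime_dvd_prime_iff_eq Nat.prime_two hq).1 h2).symm
  intro n hn
  rw [← hq2]
  exact hexp n hn

/-- the conjugation action of a subgroup `H` normalizing `K` -/
def conjOn (K H : Subgroup G) (hH : ∀ h ∈ H, ∀ k ∈ K, h * k * h⁻¹ ∈ K) : H →* MulAut K where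
  toFun h :=
    { toFun := fun k => ⟨h * k * (h : G)⁻¹, hH h h.2 k k.2⟩
      invFun := fun k => ⟨(h : G)⁻¹ * k * h, by
        have := hH (h : G)⁻¹ (H.inv_mem h.2) k k.2
        rwa [inv_inv] at this⟩
      left_inv := fun k => Subtype.ext (by simp [mul_assoc])
      right_inv := fun k => Subtype.ext (by simp [mul_assoc])
      map_mul' := fun k₁ k₂ => Subtype.ext (by simp [mul_assoc]) }
  map_one' := by ext k; simp
  map_mul' h₁ h₂ := by ext k; simp [mul_assoc]

theorem conjOn_apply (K H : Subgroup G) (hH : ∀ h ∈ H, ∀ k ∈ K, h * k * h⁻¹ ∈ K) (h : H) (k : K) :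
    ((conjOn K H hH h k : K) : G) = h * k * (h : G)⁻¹ := rfl

/-- a subgroup fixing exactly one point of a set of even size has odd order -/
theorem odd_card_of_fix_one [Finite G] [Finite Ω] (K : Subgroup G) (a : Ω)
    (hK1 : ∀ k ∈ K, k • a = a) (hK2 : ∀ k ∈ K, k ≠ 1 → ∀ x, x ≠ a → k • x ≠ x)
    (heven : Even (Nat.card Ω)) : Odd (Nat.card K) := by
  rw [← Nat.not_even_iff_odd]
  intro h
  have : Fact (Nat.Prime 2) := ⟨Nat.prime_two⟩
  obtain ⟨k, hk⟩ := exists_prime_orderOf_dvd_card' (G := K) 2 h.two_dvd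
  have hk1 : (k : G) ≠ 1 := by
    intro h1
    have : k = 1 := Subtype.ext h1
    rw [this, orderOf_one] at hk
    omega
  have hk2 : (k : G) ^ 2 = 1 := by
    have := pow_orderOf_eq_one k
    rw [hk] at this
    exact congrArg Subtype.val this
  let P : Subgroup G := Subgroup.zpowers (k : G)
  have hP : IsPGroup 2 P := by
    rintro ⟨x, hx⟩
    obtain ⟨i, rfl⟩ := Subgroup.mem_zpowers_iff.1 hx
    refine ⟨1, Subtype.ext ?_⟩
    show ((k : G) ^ i) ^ 2 ^ 1 = 1
    rw [pow_one, ← zpow_natCast, ← zpow_mul, mul_comm, zpow_mul, zpow_natCast, hk2, one_zpow]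
  have hmod := hP.card_modEq_card_fixedPoints Ω
  have hfp : fixedPoints P Ω = {a} := by
    ext x
    simp only [mem_fixedPoints, Set.mem_singleton_iff]
    constructor
    · intro hx
      by_contra hxa
      exact hK2 k k.2 hk1 x hxa (hx ⟨k, Subgroup.mem_zpowers _⟩)
    · rintro rfl ⟨y, hy⟩
      obtain ⟨i, rfl⟩ := Subgroup.mem_zpowers_iff.1 hy
      exact hK1 _ (K.zpow_mem k.2 i)
  rw [hfp] at hmod
  have h1 : Nat.card ({a} : Set Ω) = 1 := by
    rw [Nat.card_eq_one_iff_unique]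
    exact ⟨inferInstance, ⟨⟨a, rfl⟩⟩⟩
  rw [h1] at hmod
  have h2 := heven.two_dvd
  have h3 : Nat.card Ω % 2 = 1 % 2 := hmod
  omega

/-- **Degree of a Zassenhaus-type group with a regular normal subgroup**: `|Ω| = 2 ^ p`, `p`
prime. -/
theorem degree_two_pow_prime {G : Type*} [Group G] [MulAction G Ω] [Finite Ω] [FaithfulSMul G Ω]
    (h2 : IsMultiplyPretransitive G Ω 2)
    (h3 : ∀ g : G, ∀ a b c : Ω, a ≠ b → b ≠ c → a ≠ c → g • a = a → g • b = b → g • c = c → g = 1)
    (hfix : ∃ g : G, g ≠ 1 ∧ ∃ a b : Ω, a ≠ b ∧ g • a = a ∧ g • b = b)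
    (N : Subgroup G) [hNn : N.Normal] (hNt : IsPretransitive N Ω)
    (hNr : ∀ a : Ω, stabilizer N a = ⊥) :
    ∃ p : ℕ, p.Prime ∧ Nat.card Ω = 2 ^ p := by
  classical
  have hGfin : Finite G :=
    Finite.of_injective (MulAction.toPerm (α := G) (β := Ω)) MulAction.toPerm_injective
  obtain ⟨g₀, hg₀, a, b, hab, hga, hgb⟩ := hfix
  obtain ⟨hNcomm, hN2⟩ := regular_normal_two h2 h3 g₀ hg₀ a b hab hga hgb N hNt hNr
  obtain ⟨K, hK1, hK2, hK3, hK4⟩ := exists_kernel h2 h3 g₀ hg₀ a b hab hga hgb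
  obtain ⟨⟨nb, hnb⟩, hnb'⟩ := hNt.exists_smul_eq a b
  replace hnb' : nb • a = b := hnb'
  have hnb1 : nb ≠ 1 := by
    intro h
    rw [h, one_smul] at hnb'
    exact hab hnb'
  have hN : N ≠ ⊥ := by
    intro h
    rw [h, Subgroup.mem_bot] at hnb
    exact hnb1 hnb
  -- cardinalities
  have hcardΩ : Nat.card N = Nat.card Ω := by
    apply Nat.card_eq_of_bijective (fun n : N => (n : G) • a)
    constructor
    · intro n m h
      exact Subtype.ext (regular_eq N hNr n.2 m.2 a h)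
    · intro x
      obtain ⟨n, hn⟩ := hNt.exists_smul_eq a x
      exact ⟨n, hn⟩
  have hNp : IsPGroup 2 N := by
    intro n
    refine ⟨1, Subtype.ext ?_⟩
    rw [pow_one]
    exact hN2 n n.2
  obtain ⟨d, hd⟩ := IsPGroup.iff_card.1 hNp
  have hd0 : d ≠ 0 := by
    intro h
    rw [h, pow_zero] at hd
    have := (Subgroup.card_eq_one (H := N)).1 hd
    exact hN this
  have heven : Even (Nat.card Ω) := by
    rw [← hcardΩ, hd]
    exact (Nat.even_pow.2 ⟨even_two, hd0⟩)
  -- the kernel acts without fixed points on `N`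
  have hfpf : ∀ k ∈ K, k ≠ 1 → N ⊓ Subgroup.centralizer ({k} : Set G) = ⊥ := by
    intro k hk hk1
    rw [eq_bot_iff]
    intro n hn
    rw [Subgroup.mem_inf, Subgroup.mem_centralizer_iff] at hn
    obtain ⟨hnN, hnc⟩ := hn
    have hc : k * n = n * k := hnc k rfl
    rw [Subgroup.mem_bot]
    have h1 : k • (n • a) = n • a := by
      rw [← mul_smul, hc, mul_smul, hK1 k hk]
    have h4 : n • a = a := by
      by_contra h
      exact hK2 k hk hk1 _ h h1
    apply regular_eq N hNr hnN N.one_mem a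
    rw [h4, one_smul]
  have hodd : Odd (Nat.card K) := odd_card_of_fix_one K a hK1 hK2 heven
  -- an element of prime order fixing `a` and `b`
  obtain ⟨r, hr, h, hha, hhb, hhr⟩ :
      ∃ r : ℕ, r.Prime ∧ ∃ h : G, h • a = a ∧ h • b = b ∧ orderOf h = r := by
    have hm : orderOf g₀ ≠ 1 := by
      intro h
      exact hg₀ (orderOf_eq_one_iff.1 h)
    have hm0 : orderOf g₀ ≠ 0 := (orderOf_pos g₀).ne'
    refine ⟨(orderOf g₀).minFac, Nat.minFac_prime hm, g₀ ^ (orderOf g₀ / (orderOf g₀).minFac),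
      ?_, ?_, orderOf_pow_orderOf_div hm0 (Nat.minFac_dvd _)⟩
    · have : g₀ ∈ stabilizer G a := mem_stabilizer_iff.2 hga
      exact mem_stabilizer_iff.1 (Subgroup.pow_mem _ this _)
    · have : g₀ ∈ stabilizer G b := mem_stabilizer_iff.2 hgb
      exact mem_stabilizer_iff.1 (Subgroup.pow_mem _ this _)
  have hh1 : h ≠ 1 := by
    intro h1
    rw [h1, orderOf_one] at hhr
    exact hr.one_lt.ne hhr
  -- conjugation by `h` on `K` is fixed point free
  have hconj_fpf : ∀ k ∈ K, h * k * h⁻¹ = k → k = 1 := by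
    intro k hk hc
    by_contra hk1
    apply hh1
    have hc' : h * k = k * h := by
      calc h * k = (h * k * h⁻¹) * h := by group
        _ = k * h := by rw [hc]
    have h5 : h • (k • b) = k • b := by
      rw [← mul_smul, hc', mul_smul, hhb]
    have h6 : k • b ≠ b := hK2 k hk hk1 b hab.symm
    have h7 : k • b ≠ a := by
      intro h
      rw [← hK1 k hk] at h
      exact hab (MulAction.injective k h).symm
    exact h3 h a b (k • b) hab h6.symm h7.symm hha hhb h5
  -- a non-identity element of `K`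
  obtain ⟨c, hca, hcb⟩ : ∃ c : Ω, c ≠ a ∧ c ≠ b := by
    by_contra hcon
    push Not at hcon
    apply hg₀
    apply FaithfulSMul.eq_of_smul_eq_smul (α := Ω)
    intro x
    rw [one_smul]
    by_cases hx : x = a
    · rw [hx, hga]
    · rw [hcon x hx, hgb]
  obtain ⟨k₁, hk₁, hk₁c⟩ := hK3 c hca
  have hk₁1 : k₁ ≠ 1 := by
    intro h
    rw [h, one_smul] at hk₁c
    exact hcb hk₁c.symm
  -- `K` is nilpotent
  let H₀ : Subgroup G := stabilizer G a
  have hH₀K : ∀ g ∈ H₀, ∀ k ∈ K, g * k * g⁻¹ ∈ K := fun g hg k hk =>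
    hK4 g (mem_stabilizer_iff.1 hg) k hk
  let h' : H₀ := ⟨h, mem_stabilizer_iff.2 hha⟩
  let φ : K ≃* K := conjOn K H₀ hH₀K h'
  have hφ : ∀ k : K, ((φ k : K) : G) = h * k * h⁻¹ := fun k => rfl
  have hφfpf : MonoidHom.FixedPointFree (φ : K →* K) := by
    intro k hk
    have h1 : ((φ k : K) : G) = k := congrArg Subtype.val hk
    rw [hφ] at h1
    exact Subtype.ext (hconj_fpf k k.2 h1)
  have hφord : orderOf φ = r := by
    have : Fact r.Prime := ⟨hr⟩
    apply orderOf_eq_prime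
    · have h1 : h' ^ r = 1 := by
        apply Subtype.ext
        show h ^ r = 1
        rw [← hhr]
        exact pow_orderOf_eq_one h
      show (conjOn K H₀ hH₀K h') ^ r = 1
      rw [← map_pow, h1, map_one]
    · intro h1
      have h2 : φ ⟨k₁, hk₁⟩ = ⟨k₁, hk₁⟩ := by rw [h1]; rfl
      have h3' := hφfpf _ h2
      exact hk₁1 (congrArg Subtype.val h3')
  have hKnil : Group.IsNilpotent K := Cfsg.Agent.S0033.result φ hφfpf r hr hφord
  have hKcyc : IsCyclic K := Cfsg.Agent.H2.CNSolv.cyclic_of_fpf_odd N K hN hfpf hKnil hodd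
  have hKcomm : ∀ x ∈ K, ∀ y ∈ K, x * y = y * x := by
    intro x hx y hy
    have := mul_comm' (⟨x, hx⟩ : K) ⟨y, hy⟩
    exact congrArg Subtype.val this
  -- `h` does not centralize `N`
  have hcent : ∀ u : G, u • a = a → (∀ n ∈ N, u * n = n * u) → u = 1 := by
    intro u hua hun
    refine Cfsg.Agent.Lib.Helper4.TwoTransMin.eq_one_of_commute_transitive N (Subgroup.zpowers u)
      ?_ ?_ a u (Subgroup.mem_zpowers u) hua
    · intro s hs x hx
      obtain ⟨i, rfl⟩ := Subgroup.mem_zpowers_iff.1 hx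
      have : Commute u s := hun s hs
      exact (this.zpow_left i).eq.symm
    · intro x y
      obtain ⟨n, hn⟩ := hNt.exists_smul_eq x y
      exact ⟨n, n.2, hn⟩
  -- the ring lemma
  refine ⟨r, hr, ?_⟩
  rw [← hcardΩ, hd]
  congr 1
  have hρ : ∀ (g : G) (n : N), ((MulAut.conjNormal g n : N) : G) = g * n * g⁻¹ := fun g n => rfl
  have hρinj : ∀ u : G, u • a = a → (MulAut.conjNormal u : MulAut N) = 1 → u = 1 := by
    intro u hua hu
    apply hcent u hua
    intro n hn
    have h1 := hρ u ⟨n, hn⟩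
    rw [hu] at h1
    have h2 : n = u * n * u⁻¹ := h1
    calc u * n = (u * n * u⁻¹) * u := by group
      _ = n * u := by rw [← h2]
  refine Cfsg.Agent.H2.SingerField.main_mul (V := N)
    (fun x y => Subtype.ext (hNcomm x x.2 y y.2)) d hd
    ((MulAut.conjNormal : G →* MulAut N) '' (K : Set G)) ?_ ?_ ⟨nb, hnb⟩ ?_ ?_
    (MulAut.conjNormal h) ?_ ?_ ?_ r hr ?_ ?_
  · rintro _ ⟨s, hs, rfl⟩ _ ⟨t, ht, rfl⟩
    rw [← map_mul, ← map_mul, hKcomm s hs t ht]
  · rintro _ ⟨s, hs, rfl⟩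
    exact ⟨s⁻¹, K.inv_mem hs, map_inv _ _⟩
  · intro h
    exact hnb1 (congrArg Subtype.val h)
  · intro x hx
    have hxa : (x : G) • a ≠ a := by
      intro h
      apply hx
      apply Subtype.ext
      apply regular_eq N hNr x.2 N.one_mem a
      rw [h, one_smul]
    obtain ⟨k, hk, hkb⟩ := hK3 _ hxa
    refine ⟨MulAut.conjNormal k, ⟨k, hk, rfl⟩, ?_⟩
    apply Subtype.ext
    rw [hρ]
    apply regular_eq N hNr (hNn.conj_mem nb hnb k) x.2 a
    rw [mul_smul, mul_smul, inv_smul_eq_iff.2 (hK1 k hk).symm, hnb', hkb]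
  · apply Subtype.ext
    rw [hρ]
    apply regular_eq N hNr (hNn.conj_mem nb hnb h) hnb a
    rw [mul_smul, mul_smul, inv_smul_eq_iff.2 hha.symm, hnb', hhb]
  · rintro _ ⟨s, hs, rfl⟩
    refine ⟨h * s * h⁻¹, hK4 h hha s hs, ?_⟩
    rw [map_mul, map_mul, map_inv]
  · intro x hx
    have h1 : h * (x : G) * h⁻¹ = x := by
      rw [← hρ, hx]
    have h2 : h * (x : G) = x * h := by
      calc h * (x : G) = (h * x * h⁻¹) * h := by group
        _ = x * h := by rw [h1]
    have h5 : h • ((x : G) • a) = (x : G) • a := by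
      rw [← mul_smul, h2, mul_smul, hha]
    by_cases hxa : (x : G) • a = a
    · left
      apply Subtype.ext
      apply regular_eq N hNr x.2 N.one_mem a
      rw [hxa, one_smul]
    · right
      have hxb : (x : G) • a = b := by
        by_contra hxb
        exact hh1 (h3 h a b ((x : G) • a) hab (Ne.symm hxb) (Ne.symm hxa) hha hhb h5)
      apply Subtype.ext
      apply regular_eq N hNr x.2 hnb a
      rw [hxb, hnb']
  · rw [← map_pow, ← hhr, pow_orderOf_eq_one, map_one]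
  · refine ⟨MulAut.conjNormal k₁, ⟨k₁, hk₁, rfl⟩, ?_⟩
    intro heq
    have h1 : (MulAut.conjNormal ((h * k₁ * h⁻¹) * k₁⁻¹) : MulAut N) = 1 := by
      rw [map_mul, map_mul, map_mul, map_inv, map_inv, heq, mul_inv_cancel]
    have h2 : ((h * k₁ * h⁻¹) * k₁⁻¹) • a = a := by
      have : (h * k₁ * h⁻¹) * k₁⁻¹ ∈ K := K.mul_mem (hK4 h hha k₁ hk₁) (K.inv_mem hk₁)
      exact hK1 _ this
    have h3' := hρinj _ h2 h1
    rw [mul_inv_eq_one] at h3'
    exact hk₁1 (hconj_fpf k₁ hk₁ h3')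

end Cfsg.Agent.H2.ZassRegular
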