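import Mathlib
import Cfsg.Agent.Lib.helper3.CExt5
import Cfsg.Agent.Lib.helper3.Gallagher
import Cfsg.Agent.Lib.helper3.PermChar2
import Cfsg.Agent.Lib.helper3.Inflate2
import Cfsg.Agent.Lib.helper3.Irr9
import Cfsg.Agent.Lib.helper3.CentralSection

/-!
# Character-theoretic lemmas for the Broline–Garrison theorem (helper2)
-/

set_option autoImplicit false
set_option linter.unusedSectionVars false
set_option linter.style.haveILetI false
set_option linter.deprecated false

namespace Cfsg.Agent.H2.BG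

open Cfsg Module Cfsg.Agent.Lib.helper3.IndFun Cfsg.Agent.Lib.helper3.CharBasic
open Cfsg.Agent.Lib.helper3.Irr Cfsg.Agent.Lib.helper3.PermChar Cfsg.Agent.Lib.helper3.Central
open scoped ComplexConjugate

variable {G : Type*} [Group G]

theorem norm_le_apply_one [Finite G] {θ : G → ℂ} (hθ : IsCharacter G θ) (g : G) :
    ‖θ g‖ ≤ (θ 1).re := by
  obtain ⟨n, ρ, rfl⟩ := hθ
  have h1 := norm_character_le ρ g
  have h2 : ρ.character 1 = (finrank ℂ (Fin n → ℂ) : ℂ) := Representation.char_one ρ
  rw [h2]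
  simpa using h1

theorem apply_one_eq_re {θ : G → ℂ} (hθ : IsCharacter G θ) : θ 1 = ((θ 1).re : ℂ) := by
  obtain ⟨n, hn⟩ := exists_nat_apply_one hθ
  rw [hn]
  simp

theorem eq_zero_of_apply_one_re_eq_zero [Finite G] {θ : G → ℂ} (hθ : IsCharacter G θ)
    (h : (θ 1).re = 0) : θ = 0 := by
  funext g
  have := norm_le_apply_one hθ g
  rw [h] at this
  exact norm_le_zero_iff.mp this

/-- an irreducible constituent of equal degree is the whole character -/
theorem eq_of_constituent_of_degree_le [Fintype G] {A ξ : G → ℂ} (hA : IsCharacter G A)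
    (hξ : IsIrrCharacter G ξ) (h : classInner A ξ ≠ 0) (hdeg : (A 1).re ≤ (ξ 1).re) : A = ξ := by
  have hsub := isCharacter_sub_of_classInner_ne_zero hA ⟨ξ, hξ⟩ h
  have hle := degree_le_of_isCharacter_sub hA (isCharacter_of_isIrrCharacter hξ) hsub
  have h0 : ((A - ξ) 1).re = 0 := by
    simp only [Pi.sub_apply, Complex.sub_re]
    linarith
  have := eq_zero_of_apply_one_re_eq_zero hsub h0
  exact sub_eq_zero.mp this

/-- restriction to a supplement of a normal subgroup in the kernel stays irreducible -/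
theorem isIrrCharacter_restrict_of_sup_eq_top [Finite G] (K N : Subgroup G) [K.Normal]
    (hKN : K ⊔ N = ⊤) {θ : G → ℂ} (hθ : IsIrrCharacter G θ) (hK : ∀ k ∈ K, θ k = θ 1) :
    IsIrrCharacter N (fun n : N => θ n) := by
  have hθc := isCharacter_of_isIrrCharacter hθ
  obtain ⟨θ', hθ', rfl⟩ := exists_eq_inflate hθ K
    (fun g n hn => apply_mul_of_apply_eq_one hθc (hK n hn) g)
  have hsurj : Function.Surjective ((QuotientGroup.mk' K).comp N.subtype) := by
    intro q
    obtain ⟨g, rfl⟩ := QuotientGroup.mk_surjective q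
    have hg : g ∈ K ⊔ N := by rw [hKN]; exact Subgroup.mem_top g
    rw [← SetLike.mem_coe, Subgroup.normal_mul K N] at hg
    obtain ⟨k, hk, n, hn, rfl⟩ := hg
    refine ⟨⟨n, hn⟩, ?_⟩
    simp only [MonoidHom.coe_comp, Function.comp_apply, Subgroup.coe_subtype,
      QuotientGroup.mk'_apply, QuotientGroup.mk_mul]
    rw [(QuotientGroup.eq_one_iff k).mpr hk, one_mul]
  have := Cfsg.Agent.Lib.helper3.CExt.isIrrCharacter_comp_surjective _ hsurj hθ'
  exact this

/-- two characters trivial on `F` that agree on a supplement of `F` are equal -/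
theorem eq_of_restrict_eq [Finite G] (F N : Subgroup G) [F.Normal] (hFN : F ⊔ N = ⊤)
    {χ ψ : G → ℂ} (hχ : IsCharacter G χ) (hψ : IsCharacter G ψ) (hFχ : ∀ f ∈ F, χ f = χ 1)
    (hFψ : ∀ f ∈ F, ψ f = ψ 1) (h : ∀ n : N, ψ n = χ n) : ψ = χ := by
  funext g
  have hg : g ∈ N ⊔ F := by rw [sup_comm, hFN]; exact Subgroup.mem_top g
  rw [← SetLike.mem_coe, Subgroup.mul_normal N F] at hg
  obtain ⟨n, hn, f, hf, rfl⟩ := hg
  rw [apply_mul_of_apply_eq_one hχ (hFχ f hf), apply_mul_of_apply_eq_one hψ (hFψ f hf)]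
  exact h ⟨n, hn⟩

section ind

variable [Fintype G] (N : Subgroup G) {χ : G → ℂ}

/-- constituents of `(χ_N)^G` contain `χ_N` in their restriction -/
theorem classInner_restrict_ne_zero (_hχ : IsCharacter G χ) (ψ : IrrCharacter G)
    (hψ : classInner (indFun N (fun n : N => χ n)) (ψ : G → ℂ) ≠ 0) :
    ∀ [Fintype N], classInner (fun n : N => (ψ : G → ℂ) n) (fun n : N => χ n) ≠ 0 := by
  intro _
  have hψc := isCharacter_of_isIrrCharacter ψ.2
  rw [frobenius_reciprocity N _ _ (isClassFunction_of_isCharacter hψc)] at hψ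
  rw [← classInner_conj_symm]
  intro h0
  apply hψ
  have := congrArg conj h0
  simpa using this

/-- kernel elements in `N` of a constituent of `(χ_N)^G` are kernel elements of `χ` -/
theorem apply_eq_of_constituent (hχ : IsCharacter G χ)
    (hξ : IsIrrCharacter N (fun n : N => χ n)) (ψ : IrrCharacter G)
    (hψ : classInner (indFun N (fun n : N => χ n)) (ψ : G → ℂ) ≠ 0) {g : G} (hgN : g ∈ N)
    (hg : (ψ : G → ℂ) g = (ψ : G → ℂ) 1) : χ g = χ 1 := by
  classical
  letI : Fintype N := Fintype.ofFinite N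
  have hψc := isCharacter_of_isIrrCharacter ψ.2
  have hne := classInner_restrict_ne_zero N hχ ψ hψ
  have hsub := isCharacter_sub_of_classInner_ne_zero (isCharacter_restrict hψc N) ⟨_, hξ⟩ hne
  have hξc := isCharacter_of_isIrrCharacter hξ
  have h1 := norm_le_apply_one hξc ⟨g, hgN⟩
  have h2 := norm_le_apply_one hsub ⟨g, hgN⟩
  have h3 := eq_of_add_eq_add_of_norm_le h1 h2 (by
    rw [← apply_one_eq_re hξc, ← apply_one_eq_re hsub]
    simp only [Pi.sub_apply, add_sub_cancel]
    exact hg)
  rw [← apply_one_eq_re hξc] at h3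
  exact h3

/-- the key lemma: if `χ_N` is irreducible and no constituent of `(χ_N)^G` has degree
above `χ(1)`, then `χ` vanishes on `N` outside the core of `N` -/
theorem mem_normalCore_of_degree_le (hχ : IsCharacter G χ)
    (hξ : IsIrrCharacter N (fun n : N => χ n))
    (hdeg : ∀ ψ : IrrCharacter G, classInner (indFun N (fun n : N => χ n)) (ψ : G → ℂ) ≠ 0 →
        ((ψ : G → ℂ) 1).re ≤ (χ 1).re)
    {g : G} (hgN : g ∈ N) (hg : χ g ≠ 0) : g ∈ N.normalCore := by
  classical
  letI : Fintype N := Fintype.ofFinite N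
  have hcl := isClassFunction_of_isCharacter hχ
  have hξc := isCharacter_of_isIrrCharacter hξ
  have hΦπ : ∀ x : G, indFun N (fun n : N => χ n) x =
      indFun N (fun _ : N => (1 : ℂ)) x * χ x := by
    intro x
    have h := congrFun (indFun_mul_restrict N (fun _ => (1 : ℂ)) χ hcl) x
    rw [Pi.mul_apply] at h
    rw [← h]
    congr 2
    funext n
    simp
  have hΦc : IsCharacter G (indFun N (fun n : N => χ n)) :=
    isCharacter_indFun N _ (isCharacter_restrict hχ N)
  have key : ∀ ψ : IrrCharacter G, classInner (indFun N (fun n : N => χ n)) (ψ : G → ℂ) ≠ 0 →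
      ∀ n : N, (ψ : G → ℂ) n = χ n := by
    intro ψ hψ n
    have hψc := isCharacter_of_isIrrCharacter ψ.2
    have hne := classInner_restrict_ne_zero N hχ ψ hψ
    have := eq_of_constituent_of_degree_le (isCharacter_restrict hψc N) hξ hne (hdeg ψ hψ)
    exact congrFun this n
  have hsum : ∀ n : N, indFun N (fun n : N => χ n) n =
      (∑ ψ : IrrCharacter G, classInner (indFun N (fun n : N => χ n)) (ψ : G → ℂ)) * χ n := by
    intro n
    conv_lhs => rw [isCharacter_eq_sum_classInner hΦc]
    rw [Finset.sum_apply, Finset.sum_mul]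
    apply Finset.sum_congr rfl
    intro ψ _
    simp only [Pi.smul_apply, smul_eq_mul]
    by_cases h0 : classInner (indFun N (fun n : N => χ n)) (ψ : G → ℂ) = 0
    · rw [h0, zero_mul, zero_mul]
    · rw [key ψ h0 n]
  have hχ1 : χ 1 ≠ 0 := by
    intro h0
    have h1 := norm_le_apply_one hχ g
    rw [h0] at h1
    simp only [Complex.zero_re] at h1
    exact hg (norm_le_zero_iff.mp h1)
  have hc : (∑ ψ : IrrCharacter G, classInner (indFun N (fun n : N => χ n)) (ψ : G → ℂ)) =
      indFun N (fun _ : N => (1 : ℂ)) 1 := by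
    have h1 := hsum 1
    rw [OneMemClass.coe_one, hΦπ] at h1
    exact (mul_right_cancel₀ hχ1 h1).symm
  have hπ : indFun N (fun _ : N => (1 : ℂ)) g = indFun N (fun _ : N => (1 : ℂ)) 1 := by
    have h1 := hsum ⟨g, hgN⟩
    rw [hc] at h1
    simp only at h1
    rw [hΦπ] at h1
    exact mul_right_cancel₀ hg h1
  have e1 := congrFun (indFun_one_eq_card_fixedBy N) g
  have e2 := congrFun (indFun_one_eq_card_fixedBy N) 1
  rw [e1, e2] at hπ
  have hcard : Nat.card (MulAction.fixedBy (G ⧸ N) g) =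
      Nat.card (MulAction.fixedBy (G ⧸ N) (1 : G)) := by
    exact_mod_cast hπ
  have hall : ∀ q : G ⧸ N, g • q = q := by
    have hfix1 : MulAction.fixedBy (G ⧸ N) (1 : G) = Set.univ := by
      ext q; simp
    rw [hfix1, Nat.card_congr (Equiv.Set.univ _)] at hcard
    have hinj : Function.Injective (Subtype.val : MulAction.fixedBy (G ⧸ N) g → G ⧸ N) :=
      Subtype.val_injective
    have hbij := (Nat.bijective_iff_injective_and_card _).mpr ⟨hinj, hcard⟩
    intro q
    obtain ⟨⟨q', hq'⟩, rfl⟩ := hbij.2 q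
    exact hq'
  show ∀ b : G, b * g * b⁻¹ ∈ N
  intro b
  have := hall ((b⁻¹ : G) : G ⧸ N)
  rw [MulAction.Quotient.smul_mk, QuotientGroup.eq] at this
  have e : b * g * b⁻¹ = ((g • b⁻¹)⁻¹ * b⁻¹)⁻¹ := by
    simp only [smul_eq_mul]; group
  rw [e]
  exact N.inv_mem this

end ind

end Cfsg.Agent.H2.BG
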