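import Mathlib
import Cfsg.Prelude.Def_HallClasses
import Cfsg.Agent.H2.ConjMap
import Cfsg.Agent.H2.SylowExtra

/-!
# Basic lemmas on pronormal subgroups (helper2)
-/

set_option autoImplicit false
set_option linter.unusedSectionVars false
set_option linter.style.haveILetI false
set_option linter.deprecated false

namespace Cfsg.Agent.H2.Prn

open Cfsg.Agent.H2

variable {G : Type*} [Group G]

/-- the conjugate `g K g⁻¹` -/
def cj (g : G) (K : Subgroup G) : Subgroup G := K.map (MulAut.conj g).toMonoidHom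

theorem cj_def (g : G) (K : Subgroup G) : cj g K = K.map (MulAut.conj g).toMonoidHom := rfl

theorem mem_cj (g : G) (K : Subgroup G) (x : G) : x ∈ cj g K ↔ g⁻¹ * x * g ∈ K :=
  mem_map_conj_iff K g x

theorem cj_mul (g h : G) (K : Subgroup G) : cj (g * h) K = cj g (cj h K) := map_conj_mul K g h

theorem cj_one (K : Subgroup G) : cj 1 K = K := map_conj_one K

theorem cj_inv_cj (g : G) (K : Subgroup G) : cj g⁻¹ (cj g K) = K := by
  rw [← cj_mul, inv_mul_cancel, cj_one]

theorem cj_cj_inv (g : G) (K : Subgroup G) : cj g (cj g⁻¹ K) = K := by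
  rw [← cj_mul, mul_inv_cancel, cj_one]

theorem cj_sup (g : G) (K L : Subgroup G) : cj g (K ⊔ L) = cj g K ⊔ cj g L :=
  Subgroup.map_sup K L _

theorem cj_mono (g : G) {K L : Subgroup G} (h : K ≤ L) : cj g K ≤ cj g L := Subgroup.map_mono h

theorem cj_eq_of_mem {g : G} {K : Subgroup G} (hg : g ∈ K) : cj g K = K := map_conj_eq_of_mem K hg

theorem cj_eq_self_iff (g : G) (K : Subgroup G) :
    cj g K = K ↔ g ∈ Subgroup.normalizer (K : Set G) :=
  map_conj_eq_self_iff_mem_normalizer K g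

theorem cj_le_of_mem {g : G} {K L : Subgroup G} (hg : g ∈ L) (hK : K ≤ L) : cj g K ≤ L := by
  intro x hx
  rw [mem_cj] at hx
  have : x = g * (g⁻¹ * x * g) * g⁻¹ := by group
  rw [this]
  exact L.mul_mem (L.mul_mem hg (hK hx)) (L.inv_mem hg)

theorem cj_normal (g : G) (A : Subgroup G) [hA : A.Normal] : cj g A = A := by
  rw [cj_eq_self_iff]
  rw [Subgroup.normalizer_eq_top]
  exact Subgroup.mem_top g

theorem cj_inf_normal (g : G) (K A : Subgroup G) [hA : A.Normal] : cj g (K ⊓ A) = cj g K ⊓ A := by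
  ext x
  rw [mem_cj, Subgroup.mem_inf, Subgroup.mem_inf, mem_cj]
  constructor
  · rintro ⟨h1, h2⟩
    refine ⟨h1, ?_⟩
    have := hA.conj_mem _ h2 g
    have e : g * (g⁻¹ * x * g) * g⁻¹ = x := by group
    rwa [e] at this
  · rintro ⟨h1, h2⟩
    refine ⟨h1, ?_⟩
    have := hA.conj_mem _ h2 g⁻¹
    rwa [inv_inv] at this

/-- images of conjugates under a homomorphism -/
theorem map_cj {H : Type*} [Group H] (f : G →* H) (g : G) (K : Subgroup G) :
    (cj g K).map f = cj (f g) (K.map f) := by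
  ext y
  constructor
  · rintro ⟨x, hx, rfl⟩
    rw [SetLike.mem_coe, mem_cj] at hx
    rw [mem_cj]
    refine ⟨g⁻¹ * x * g, hx, ?_⟩
    simp
  · intro hy
    rw [mem_cj] at hy
    obtain ⟨k, hk, hk'⟩ := hy
    refine ⟨g * k * g⁻¹, (mem_cj g K _).2 (by
      have e : g⁻¹ * (g * k * g⁻¹) * g = k := by group
      rw [e]; exact hk), ?_⟩
    rw [map_mul, map_mul, hk', map_inv]
    group

theorem prn_iff (K : Subgroup G) :
    Cfsg.IsPronormal K ↔ ∀ g : G, ∃ x ∈ K ⊔ cj g K, cj g K = cj x K := Iff.rfl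

/-- Sylow subgroups are pronormal -/
theorem sylow_pronormal [Finite G] {p : ℕ} [Fact p.Prime] (S : Sylow p G) :
    Cfsg.IsPronormal (S : Subgroup G) := by
  rw [prn_iff]
  intro g
  set J := (S : Subgroup G) ⊔ cj g (S : Subgroup G) with hJ
  have hY : IsPGroup p (cj g (S : Subgroup G)) := S.2.map _
  obtain ⟨k, hk, hle⟩ := exists_conj_le_sylow_of_le S J le_sup_left (cj g (S : Subgroup G)) hY
    le_sup_right
  have h1 : cj (k * g) (S : Subgroup G) ≤ S := by rw [cj_mul]; exact hle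
  have h2 : cj (k * g) (S : Subgroup G) = S := map_conj_eq_of_le _ _ h1
  have hJ' : J = (S : Subgroup G) ⊔ cj g (S : Subgroup G) := hJ
  refine ⟨k⁻¹, J.inv_mem hk, ?_⟩
  rw [cj_mul] at h2
  conv_rhs => rw [← h2]
  rw [cj_inv_cj]

/-- pronormality is invariant under conjugation -/
theorem pronormal_cj {K : Subgroup G} (hK : Cfsg.IsPronormal K) (g : G) :
    Cfsg.IsPronormal (cj g K) := by
  rw [prn_iff] at hK ⊢
  intro h
  obtain ⟨x, hx, hxe⟩ := hK (g⁻¹ * h * g)
  refine ⟨g * x * g⁻¹, ?_, ?_⟩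
  · have h1 : g * x * g⁻¹ ∈ cj g (K ⊔ cj (g⁻¹ * h * g) K) := by
      rw [mem_cj]
      have e : g⁻¹ * (g * x * g⁻¹) * g = x := by group
      rw [e]; exact hx
    rw [cj_sup, ← cj_mul] at h1
    have e : g * (g⁻¹ * h * g) = h * g := by group
    rw [e, cj_mul] at h1
    exact h1
  · have e1 : cj (g * x * g⁻¹) (cj g K) = cj g (cj x K) := by
      rw [← cj_mul, ← cj_mul]
      congr 1
      group
    rw [e1, ← hxe, ← cj_mul, ← cj_mul]
    congr 1
    group

/-- pronormality relative to a subgroup `M`, in terms of `G` -/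
theorem pronormal_subgroupOf_iff (M K : Subgroup G) (hKM : K ≤ M) :
    Cfsg.IsPronormal (K.subgroupOf M) ↔ ∀ g ∈ M, ∃ x ∈ K ⊔ cj g K, cj g K = cj x K := by
  have hmap : ∀ g : M, (cj g (K.subgroupOf M)).map M.subtype = cj (g : G) K := by
    intro g
    rw [map_cj, Subgroup.subgroupOf_map_subtype, inf_of_le_left hKM]
    rfl
  rw [prn_iff]
  constructor
  · intro h g hg
    obtain ⟨x, hx, hxe⟩ := h ⟨g, hg⟩
    refine ⟨(x : G), ?_, ?_⟩
    · have h1 : (x : G) ∈ (K.subgroupOf M ⊔ cj ⟨g, hg⟩ (K.subgroupOf M)).map M.subtype :=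
        ⟨x, hx, rfl⟩
      rw [Subgroup.map_sup, hmap, Subgroup.subgroupOf_map_subtype, inf_of_le_left hKM] at h1
      exact h1
    · have h2 := congrArg (Subgroup.map M.subtype) hxe
      rw [hmap, hmap] at h2
      exact h2
  · intro h g
    obtain ⟨x, hx, hxe⟩ := h (g : G) g.2
    have hcjM : cj (g : G) K ≤ M := cj_le_of_mem g.2 hKM
    have hxM : x ∈ M := (sup_le hKM hcjM) hx
    refine ⟨⟨x, hxM⟩, ?_, ?_⟩
    · have h1 : (⟨x, hxM⟩ : M) ∈ (K ⊔ cj (g : G) K).subgroupOf M := by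
        rw [Subgroup.mem_subgroupOf]; exact hx
      rw [Subgroup.subgroupOf_sup hKM hcjM] at h1
      have e : (cj (g : G) K).subgroupOf M = cj g (K.subgroupOf M) := by
        apply Subgroup.map_injective M.subtype_injective
        rw [hmap, Subgroup.subgroupOf_map_subtype, inf_of_le_left hcjM]
      rw [e] at h1
      exact h1
    · apply Subgroup.map_injective M.subtype_injective
      rw [hmap, hmap]
      exact hxe

/-- images of pronormal subgroups in quotients are pronormal -/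
theorem pronormal_map {H : Type*} [Group H] (f : G →* H) (hf : Function.Surjective f)
    {K : Subgroup G} (hK : Cfsg.IsPronormal K) : Cfsg.IsPronormal (K.map f) := by
  rw [prn_iff] at hK ⊢
  intro y
  obtain ⟨g, rfl⟩ := hf y
  obtain ⟨x, hx, hxe⟩ := hK g
  refine ⟨f x, ?_, ?_⟩
  · have h1 : f x ∈ (K ⊔ cj g K).map f := ⟨x, hx, rfl⟩
    rw [Subgroup.map_sup, map_cj] at h1
    exact h1
  · rw [← map_cj, ← map_cj, hxe]

/-- a subgroup containing the kernel whose image is pronormal is pronormal -/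
theorem pronormal_of_map {H : Type*} [Group H] (f : G →* H)
    {K : Subgroup G} (hker : f.ker ≤ K) (hK : Cfsg.IsPronormal (K.map f)) :
    Cfsg.IsPronormal K := by
  rw [prn_iff] at hK ⊢
  intro g
  obtain ⟨y, hy, hye⟩ := hK (f g)
  rw [← map_cj, ← Subgroup.map_sup] at hy
  obtain ⟨x, hx, rfl⟩ := hy
  refine ⟨x, hx, ?_⟩
  rw [← map_cj, ← map_cj] at hye
  have hk1 : f.ker ≤ cj g K := by
    intro k hk
    rw [mem_cj]
    apply hker
    rw [MonoidHom.mem_ker] at hk ⊢
    rw [map_mul, map_mul, hk, map_inv]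
    group
  have hk2 : f.ker ≤ cj x K := by
    intro k hk
    rw [mem_cj]
    apply hker
    rw [MonoidHom.mem_ker] at hk ⊢
    rw [map_mul, map_mul, hk, map_inv]
    group
  have h1 := congrArg (Subgroup.comap f) hye
  rw [Subgroup.comap_map_eq, Subgroup.comap_map_eq, sup_of_le_left hk1, sup_of_le_left hk2] at h1
  exact h1

/-- the normalizer of the image of a pronormal subgroup is the image of its normalizer -/
theorem normalizer_map_of_pronormal (A : Subgroup G) [hA : A.Normal] {K : Subgroup G}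
    (hK : Cfsg.IsPronormal K) :
    (Subgroup.normalizer (K : Set G)).map (QuotientGroup.mk' A) =
      Subgroup.normalizer ((K.map (QuotientGroup.mk' A) : Subgroup (G ⧸ A)) : Set (G ⧸ A)) := by
  apply le_antisymm
  · exact Subgroup.le_normalizer_map _
  · intro y hy
    obtain ⟨g, rfl⟩ := QuotientGroup.mk'_surjective A y
    rw [← cj_eq_self_iff, ← map_cj] at hy
    -- `cj g K ≤ K ⊔ A`
    have h1 : cj g K ≤ K ⊔ A := by
      have h2 : cj g K ≤ (K.map (QuotientGroup.mk' A)).comap (QuotientGroup.mk' A) := by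
        rw [← hy]; exact Subgroup.le_comap_map _ _
      rw [Subgroup.comap_map_eq, QuotientGroup.ker_mk'] at h2
      exact h2
    rw [prn_iff] at hK
    obtain ⟨x, hx, hxe⟩ := hK g
    have hxKA : x ∈ K ⊔ A := (sup_le le_sup_left h1) hx
    have hn : x⁻¹ * g ∈ Subgroup.normalizer (K : Set G) := by
      rw [← cj_eq_self_iff, cj_mul, hxe, cj_inv_cj]
    -- `x = k a`
    rw [Subgroup.mem_sup_of_normal_right] at hxKA
    obtain ⟨k, hk, a, ha, rfl⟩ := hxKA
    refine ⟨k * ((k * a)⁻¹ * g), ?_, ?_⟩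
    · exact Subgroup.mul_mem _ (Subgroup.le_normalizer hk) hn
    · rw [QuotientGroup.mk'_apply, QuotientGroup.mk'_apply, QuotientGroup.eq]
      have e : (k * ((k * a)⁻¹ * g))⁻¹ * g = g⁻¹ * (k * a * k⁻¹) * g⁻¹⁻¹ := by group
      rw [e]
      exact hA.conj_mem _ (hA.conj_mem _ ha _) _

end Cfsg.Agent.H2.Prn
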