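import Mathlib
import Cfsg.Agent.H2.PronormalA

/-!
# Overgroups of Sylow subgroups in an extension: the key conjugation argument (helper2)
-/

set_option autoImplicit false
set_option linter.unusedSectionVars false
set_option linter.style.haveILetI false
set_option linter.deprecated false

namespace Cfsg.Agent.H2.Prn

open Cfsg.Agent.H2

variable {G : Type*} [Group G] [Finite G] {p : ℕ} [Fact p.Prime]

section sylowA

variable (A : Subgroup G) (PA : Sylow p ↥A)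

/-- the image in `G` of a Sylow subgroup of `A` -/
def TT : Subgroup G := (PA : Subgroup ↥A).map A.subtype

theorem TT_le : TT A PA ≤ A := by
  rintro _ ⟨x, -, rfl⟩
  exact x.2

theorem TT_pgroup : IsPGroup p (TT A PA) := PA.2.map _

/-- relative Sylow theorem inside `A` -/
theorem exists_cj_le (L Y : Subgroup G) (hTL : TT A PA ≤ L) (hLA : L ≤ A) (hY : IsPGroup p Y)
    (hYL : Y ≤ L) : ∃ c ∈ L, cj c Y ≤ TT A PA := by
  have hPK : (PA : Subgroup ↥A) ≤ L.subgroupOf A := by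
    intro x hx
    rw [Subgroup.mem_subgroupOf]
    exact hTL ⟨x, hx, rfl⟩
  have hY' : IsPGroup p (Y.subgroupOf A) := hY.comap_subtype
  have hYK : Y.subgroupOf A ≤ L.subgroupOf A := by
    intro x hx
    rw [Subgroup.mem_subgroupOf] at hx ⊢
    exact hYL hx
  obtain ⟨k, hk, hle⟩ := exists_conj_le_sylow_of_le PA (L.subgroupOf A) hPK (Y.subgroupOf A) hY' hYK
  refine ⟨(k : G), hk, ?_⟩
  intro x hx
  rw [mem_cj] at hx
  have hxA : (k : G)⁻¹ * x * (k : G) ∈ A := hLA (hYL hx)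
  have h1 : (⟨(k : G)⁻¹ * x * (k : G), hxA⟩ : A) ∈ Y.subgroupOf A := by
    rw [Subgroup.mem_subgroupOf]; exact hx
  have h2 := hle (conj_mem_map_conj _ k h1)
  refine ⟨_, h2, ?_⟩
  simp only [Subgroup.coe_subtype, Subgroup.coe_mul, Subgroup.coe_inv]
  group

theorem exists_cj_eq (L : Subgroup G) (hTL : TT A PA ≤ L) (hLA : L ≤ A) (a : G)
    (haL : cj a (TT A PA) ≤ L) : ∃ c ∈ L, cj c (cj a (TT A PA)) = TT A PA := by
  have hY : IsPGroup p (cj a (TT A PA)) := (TT_pgroup A PA).map _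
  obtain ⟨c, hc, hle⟩ := exists_cj_le A PA L _ hTL hLA hY haL
  refine ⟨c, hc, ?_⟩
  apply Subgroup.eq_of_le_of_card_ge hle
  rw [cj_def, cj_def, card_map_conj, card_map_conj]

/-- a Sylow subgroup of `G` containing `T` meets `A` in `T` -/
theorem sylow_inf_eq [A.Normal] (S : Sylow p G) (hTS : TT A PA ≤ S) :
    (S : Subgroup G) ⊓ A = TT A PA := by
  have h1 : TT A PA ≤ (S : Subgroup G) ⊓ A := le_inf hTS (TT_le A PA)
  have hY : IsPGroup p ((S : Subgroup G) ⊓ A : Subgroup G) := S.2.to_le inf_le_left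
  obtain ⟨c, -, hle⟩ := exists_cj_le A PA A _ (TT_le A PA) le_rfl hY inf_le_right
  symm
  apply Subgroup.eq_of_le_of_card_ge h1
  have h2 := Subgroup.card_le_of_le hle
  rw [cj_def, card_map_conj] at h2
  exact h2

theorem sylow_le_normalizer [A.Normal] (S : Sylow p G) (hTS : TT A PA ≤ S) :
    (S : Subgroup G) ≤ Subgroup.normalizer (TT A PA : Set G) := by
  intro s hs
  rw [← cj_eq_self_iff, ← sylow_inf_eq A PA S hTS, cj_inf_normal, cj_eq_of_mem hs]

/-- Frattini argument -/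
theorem frattini [hA : A.Normal] (K : Subgroup G) (hTK : TT A PA ≤ K) :
    K = (K ⊓ A) ⊔ (K ⊓ Subgroup.normalizer (TT A PA : Set G)) := by
  apply le_antisymm
  · intro k hk
    have h1 : cj k (TT A PA) ≤ K ⊓ A := by
      apply le_inf
      · exact cj_le_of_mem hk hTK
      · have := cj_mono k (TT_le A PA)
        rwa [cj_normal k A] at this
    obtain ⟨c, hc, hce⟩ := exists_cj_eq A PA (K ⊓ A) (le_inf hTK (TT_le A PA)) inf_le_right k h1
    rw [← cj_mul, cj_eq_self_iff] at hce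
    have e : k = c⁻¹ * (c * k) := by group
    rw [e]
    apply Subgroup.mul_mem
    · exact (le_sup_left : K ⊓ A ≤ _) (Subgroup.inv_mem _ hc)
    · apply (le_sup_right : K ⊓ Subgroup.normalizer (TT A PA : Set G) ≤ _)
      exact Subgroup.mem_inf.2 ⟨K.mul_mem hc.1 hk, hce⟩
  · exact sup_le inf_le_left inf_le_left

end sylowA

section main

variable (A : Subgroup G) [hA : A.Normal] (PA : Sylow p ↥A) (S : Sylow p G)
  (hTS : TT A PA ≤ S)
  (hA' : ∀ L : Subgroup G, L ≤ A → TT A PA ≤ L → ∀ a ∈ A, ∃ b ∈ L ⊔ cj a L, cj a L = cj b L)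
  (hQ' : ∀ K : Subgroup G, (S : Subgroup G) ≤ K → ∀ g : G, ∃ x ∈ K ⊔ cj g K, ∃ a ∈ A,
    ∃ n ∈ Subgroup.normalizer (K : Set G), g = x * a * n)
  (hi' : ∀ L : Subgroup G, (S : Subgroup G) ≤ L → L ≤ Subgroup.normalizer (TT A PA : Set G) →
    ∀ g ∈ Subgroup.normalizer (TT A PA : Set G), ∃ d ∈ L ⊔ cj g L, cj g L = cj d L)

include hTS hi' in
/-- step Z2 -/
theorem stepZ2 (K : Subgroup G) (hSK : (S : Subgroup G) ≤ K) (a : G)
    (haT : a ∈ Subgroup.normalizer (TT A PA : Set G)) (haK : cj a (K ⊓ A) = K ⊓ A) :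
    ∃ y ∈ K ⊔ cj a K, cj a K = cj y K := by
  set M := Subgroup.normalizer (TT A PA : Set G) with hM
  have hSM : (S : Subgroup G) ≤ M := sylow_le_normalizer A PA S hTS
  obtain ⟨d, hd, hde⟩ := hi' (K ⊓ M) (le_inf hSK hSM) inf_le_right a haT
  -- `d` normalizes `K ⊓ A`
  have hKn : K ≤ Subgroup.normalizer ((K ⊓ A : Subgroup G) : Set G) := by
    intro k hk
    rw [← cj_eq_self_iff, cj_inf_normal, cj_eq_of_mem hk]
  have haN : a ∈ Subgroup.normalizer ((K ⊓ A : Subgroup G) : Set G) := (cj_eq_self_iff _ _).1 haK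
  have hdN : d ∈ Subgroup.normalizer ((K ⊓ A : Subgroup G) : Set G) := by
    have h1 : K ⊓ M ⊔ cj a (K ⊓ M) ≤ Subgroup.normalizer ((K ⊓ A : Subgroup G) : Set G) := by
      apply sup_le (inf_le_left.trans hKn)
      exact cj_le_of_mem haN (inf_le_left.trans hKn)
    exact h1 hd
  have hdK : cj d (K ⊓ A) = K ⊓ A := (cj_eq_self_iff _ _).2 hdN
  have hfr := frattini A PA K (hTS.trans hSK)
  refine ⟨d, ?_, ?_⟩
  · have h1 : K ⊓ M ⊔ cj a (K ⊓ M) ≤ K ⊔ cj a K :=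
      sup_le_sup inf_le_left (cj_mono a inf_le_left)
    exact h1 hd
  · conv_lhs => rw [hfr]
    conv_rhs => rw [hfr]
    rw [cj_sup, cj_sup, haK, hdK, hde]

include hTS hi' in
/-- step Z1 -/
theorem stepZ1 (K : Subgroup G) (hSK : (S : Subgroup G) ≤ K) (a : G)
    (haK : cj a (K ⊓ A) = K ⊓ A) :
    ∃ y ∈ K ⊔ cj a K, cj a K = cj y K := by
  have hTK : TT A PA ≤ K := hTS.trans hSK
  have h1 : cj a (TT A PA) ≤ K ⊓ A := by
    rw [← haK]
    exact cj_mono a (le_inf hTK (TT_le A PA))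
  obtain ⟨c, hc, hce⟩ := exists_cj_eq A PA (K ⊓ A) (le_inf hTK (TT_le A PA)) inf_le_right a h1
  rw [← cj_mul] at hce
  have h2 : c * a ∈ Subgroup.normalizer (TT A PA : Set G) := (cj_eq_self_iff _ _).1 hce
  have h3 : cj (c * a) (K ⊓ A) = K ⊓ A := by
    rw [cj_mul, haK, cj_eq_of_mem hc]
  obtain ⟨y₂, hy₂, hy₂e⟩ := stepZ2 A PA S hTS hi' K hSK (c * a) h2 h3
  have hcK : c ∈ K := hc.1
  refine ⟨c⁻¹ * y₂, ?_, ?_⟩
  · apply Subgroup.mul_mem
    · exact (le_sup_left : K ≤ K ⊔ cj a K) (K.inv_mem hcK)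
    · have h4 : K ⊔ cj (c * a) K ≤ K ⊔ cj a K := by
        apply sup_le le_sup_left
        rw [cj_mul]
        exact cj_le_of_mem ((le_sup_left : K ≤ K ⊔ cj a K) hcK) le_sup_right
      exact h4 hy₂
  · rw [cj_mul, ← hy₂e, ← cj_mul]
    congr 1
    group

include hTS hA' hi' in
/-- Lemma Z -/
theorem stepZ (K : Subgroup G) (hSK : (S : Subgroup G) ≤ K) (a : G) (haA : a ∈ A) :
    ∃ y ∈ K ⊔ cj a K, cj a K = cj y K := by
  have hTK : TT A PA ≤ K := hTS.trans hSK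
  obtain ⟨b, hb, hbe⟩ := hA' (K ⊓ A) inf_le_right (le_inf hTK (TT_le A PA)) a haA
  have hbA : b ∈ A := by
    have h1 : K ⊓ A ⊔ cj a (K ⊓ A) ≤ A := by
      apply sup_le inf_le_right
      rw [cj_inf_normal]
      exact inf_le_right
    exact h1 hb
  have hbJ : b ∈ K ⊔ cj a K := by
    have h1 : K ⊓ A ⊔ cj a (K ⊓ A) ≤ K ⊔ cj a K := sup_le_sup inf_le_left (cj_mono a inf_le_left)
    exact h1 hb
  have h2 : cj (b⁻¹ * a) (K ⊓ A) = K ⊓ A := by
    rw [cj_mul, hbe, cj_inv_cj]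
  obtain ⟨y₁, hy₁, hy₁e⟩ := stepZ1 A PA S hTS hi' K hSK (b⁻¹ * a) h2
  refine ⟨b * y₁, ?_, ?_⟩
  · apply Subgroup.mul_mem _ hbJ
    have h4 : K ⊔ cj (b⁻¹ * a) K ≤ K ⊔ cj a K := by
      apply sup_le le_sup_left
      rw [cj_mul]
      exact cj_le_of_mem (Subgroup.inv_mem _ hbJ) le_sup_right
    exact h4 hy₁
  · rw [cj_mul, ← hy₁e, ← cj_mul]
    congr 1
    group

include hTS hA' hQ' hi' in
/-- the main lemma: overgroups of `S` are pronormal -/
theorem main (K : Subgroup G) (hSK : (S : Subgroup G) ≤ K) : Cfsg.IsPronormal K := by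
  rw [prn_iff]
  intro g
  obtain ⟨x, hx, a, ha, n, hn, rfl⟩ := hQ' K hSK g
  have hnK : cj n K = K := (cj_eq_self_iff _ _).2 hn
  have e1 : cj (x * a * n) K = cj x (cj a K) := by
    rw [cj_mul, cj_mul, hnK]
  obtain ⟨y, hy, hye⟩ := stepZ A PA S hTS hA' hi' K hSK a ha
  have h1 : cj a K ≤ K ⊔ cj (x * a * n) K := by
    have : cj a K = cj x⁻¹ (cj (x * a * n) K) := by rw [e1, cj_inv_cj]
    rw [this]
    exact cj_le_of_mem (Subgroup.inv_mem _ hx) le_sup_right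
  refine ⟨x * y, ?_, ?_⟩
  · apply Subgroup.mul_mem _ hx
    exact (sup_le le_sup_left h1) hy
  · rw [e1, hye, ← cj_mul]

end main

end Cfsg.Agent.H2.Prn
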