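import Mathlib
import Cfsg.Agent.H2.PronormalB

/-!
# Group-theoretic lemmas for the Broline–Garrison theorem (helper2)

`K ⊴ G`, `P` a Sylow `p`-subgroup of `K`, `R` its image in `G`, `N = N_G(R)`.
* `le_of_inf_normalizer_le`: a normal subgroup `J` with `J ⊓ N ≤ K` lies in `K`.
* `normal_of_conj_le_normalizer`: if all conjugates of `R` lie in `N` then `R ⊴ G`.
-/

set_option autoImplicit false
set_option linter.unusedSectionVars false
set_option linter.style.haveILetI false
set_option linter.deprecated false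

namespace Cfsg.Agent.H2.BG

open Cfsg.Agent.H2 Cfsg.Agent.H2.Prn

variable {G : Type*} [Group G] [Finite G] {p : ℕ} [Fact p.Prime]

theorem frattini_TT (K : Subgroup G) [hK : K.Normal] (P : Sylow p K) :
    Subgroup.normalizer (TT K P : Set G) ⊔ K = ⊤ :=
  Sylow.normalizer_sup_eq_top P

/-- a normal subgroup `J` whose intersection with `N_G(R)` lies in `K` lies in `K` -/
theorem le_of_inf_normalizer_le (K : Subgroup G) [hK : K.Normal] (P : Sylow p K)
    (J : Subgroup G) [hJ : J.Normal]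
    (h : J ⊓ Subgroup.normalizer (TT K P : Set G) ≤ K) : J ≤ K := by
  intro x hx
  have hRL : TT K P ≤ (J ⊓ K) ⊔ TT K P := le_sup_right
  have hLK : (J ⊓ K) ⊔ TT K P ≤ K := sup_le inf_le_right (TT_le K P)
  have hxR : cj x (TT K P) ≤ (J ⊓ K) ⊔ TT K P := by
    intro z hz
    rw [mem_cj] at hz
    have hyK : x⁻¹ * z * x ∈ K := TT_le K P hz
    have e : z = (x * (x⁻¹ * z * x) * x⁻¹ * (x⁻¹ * z * x)⁻¹) * (x⁻¹ * z * x) := by group
    rw [e]
    apply Subgroup.mul_mem
    · apply (le_sup_left : J ⊓ K ≤ (J ⊓ K) ⊔ TT K P)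
      refine ⟨?_, ?_⟩
      · have e2 : x * (x⁻¹ * z * x) * x⁻¹ * (x⁻¹ * z * x)⁻¹ =
            x * ((x⁻¹ * z * x) * x⁻¹ * (x⁻¹ * z * x)⁻¹) := by group
        rw [e2]
        exact J.mul_mem hx (hJ.conj_mem _ (J.inv_mem hx) _)
      · exact K.mul_mem (hK.conj_mem _ hyK x) (K.inv_mem hyK)
    · exact hRL hz
  obtain ⟨c, hc, hce⟩ := exists_cj_eq K P _ hRL hLK x hxR
  rw [← cj_mul, cj_eq_self_iff] at hce
  -- `c = j * y` with `j ∈ J ⊓ K`, `y ∈ R`
  have hn : (J ⊓ K).Normal := inferInstance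
  rw [sup_comm, ← SetLike.mem_coe, Subgroup.mul_normal (TT K P) (J ⊓ K)] at hc
  obtain ⟨y, hy, j, hj, rfl⟩ := hc
  have hyN : y ∈ Subgroup.normalizer (TT K P : Set G) := Subgroup.le_normalizer hy
  have hjx : j * x ∈ Subgroup.normalizer (TT K P : Set G) := by
    have e : j * x = y⁻¹ * (y * j * x) := by group
    rw [e]
    exact Subgroup.mul_mem _ (Subgroup.inv_mem _ hyN) hce
  have hjxK : j * x ∈ K := h ⟨J.mul_mem hj.1 hx, hjx⟩
  have e : x = j⁻¹ * (j * x) := by group
  rw [e]
  exact K.mul_mem (K.inv_mem hj.2) hjxK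

/-- if every conjugate of `R` normalizes `R`, then `R` is normal -/
theorem normal_of_conj_le_normalizer (K : Subgroup G) [hK : K.Normal] (P : Sylow p K)
    (h : ∀ g : G, ∀ y ∈ TT K P, g * y * g⁻¹ ∈ Subgroup.normalizer (TT K P : Set G)) :
    (TT K P).Normal := by
  have key : ∀ g : G, cj g (TT K P) = TT K P := by
    intro g
    have h1 : cj g (TT K P) ≤ Subgroup.normalizer (TT K P : Set G) ⊓ K := by
      intro z hz
      rw [mem_cj] at hz
      have e : z = g * (g⁻¹ * z * g) * g⁻¹ := by group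
      rw [e]
      exact ⟨h g _ hz, hK.conj_mem _ (TT_le K P hz) g⟩
    have hY : IsPGroup p (cj g (TT K P)) := (TT_pgroup K P).map _
    obtain ⟨c, hc, hle⟩ := exists_cj_le K P (Subgroup.normalizer (TT K P : Set G) ⊓ K) _
      (le_inf Subgroup.le_normalizer (TT_le K P)) inf_le_right hY h1
    have h2 : cj g (TT K P) ≤ TT K P := by
      have h3 := cj_mono c⁻¹ hle
      rw [cj_inv_cj] at h3
      have h4 : cj c⁻¹ (TT K P) = TT K P := by
        rw [cj_eq_self_iff]
        exact Subgroup.inv_mem _ hc.1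
      rwa [h4] at h3
    apply Subgroup.eq_of_le_of_card_ge h2
    rw [cj_def, card_map_conj]
  constructor
  intro y hy g
  have : g * y * g⁻¹ ∈ cj g (TT K P) := by
    rw [mem_cj]
    have e : g⁻¹ * (g * y * g⁻¹) * g = y := by group
    rw [e]; exact hy
  rwa [key g] at this

/-- if `R` is normal in `G` then `P` is normal in `K` -/
theorem sylow_normal_of_TT_normal (K : Subgroup G) (P : Sylow p K) (h : (TT K P).Normal) :
    (P : Subgroup K).Normal := by
  have e : (P : Subgroup K) = (TT K P).comap K.subtype := by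
    rw [TT, Subgroup.comap_map_eq_self_of_injective K.subtype_injective]
  rw [e]
  exact h.comap _

end Cfsg.Agent.H2.BG
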