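import Mathlib
import Cfsg.Agent.H2.BGChar
import Cfsg.Agent.H2.BGGroup
import Cfsg.Agent.Lib.Helper4.Codegree

/-!
# The Broline–Garrison theorem, non-nilpotent kernel (helper2)

If the kernel `K` of `χ ∈ Irr(G)` is not nilpotent, there is `ψ ∈ Irr(G)` with `ψ(1) > χ(1)`
and `ker ψ < K`.
-/

set_option autoImplicit false
set_option linter.unusedSectionVars false
set_option linter.style.haveILetI false
set_option linter.deprecated false

namespace Cfsg.Agent.H2.BG

open Cfsg Module Cfsg.Agent.Lib.helper3.IndFun Cfsg.Agent.Lib.helper3.CharBasic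
open Cfsg.Agent.Lib.helper3.Irr Cfsg.Agent.Lib.helper3.PermChar Cfsg.Agent.Lib.helper3.Central
open Cfsg.Agent.H2.Prn Cfsg.Agent.Lib.Helper4.Codegree
open scoped ComplexConjugate

variable {G : Type*} [Group G] [Finite G]

/-- with `N = N_G(R)`, `R` the image of a non-normal Sylow subgroup of a normal subgroup `K`
inside the kernel of `χ`: some constituent of `(χ_N)^G` has degree above `χ(1)` -/
theorem exists_constituent_degree_gt [Fintype G] {p : ℕ} [Fact p.Prime] (χ : IrrCharacter G)
    (K : Subgroup G) [hKn : K.Normal]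
    (hK : ∀ g ∈ K, (χ : G → ℂ) g = (χ : G → ℂ) 1) (P : Sylow p K)
    (hP : ¬ (P : Subgroup K).Normal) :
    ∃ ψ : IrrCharacter G,
      classInner (indFun (Subgroup.normalizer (TT K P : Set G))
        (fun n : Subgroup.normalizer (TT K P : Set G) => (χ : G → ℂ) n)) (ψ : G → ℂ) ≠ 0 ∧
      ((χ : G → ℂ) 1).re < ((ψ : G → ℂ) 1).re := by
  classical
  have hKN : K ⊔ Subgroup.normalizer (TT K P : Set G) = ⊤ := by
    rw [sup_comm]; exact frattini_TT K P
  have hχc := isCharacter_of_isIrrCharacter χ.2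
  have hξ := isIrrCharacter_restrict_of_sup_eq_top K _ hKN χ.2 hK
  by_contra hcon
  push Not at hcon
  have hcore : ∀ y ∈ TT K P, y ∈ (Subgroup.normalizer (TT K P : Set G)).normalCore := by
    intro y hy
    apply mem_normalCore_of_degree_le _ hχc hξ hcon (Subgroup.le_normalizer hy)
    rw [hK y (TT_le K P hy)]
    exact apply_one_ne_zero χ.2
  have hnorm : (TT K P).Normal := by
    apply normal_of_conj_le_normalizer K P
    intro g y hy
    exact hcore y hy g
  exact hP (sylow_normal_of_TT_normal K P hnorm)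

theorem thmA (χ : IrrCharacter G) (K : Subgroup G) [hKn : K.Normal]
    (hK : ∀ g, g ∈ K ↔ (χ : G → ℂ) g = (χ : G → ℂ) 1) (hnil : ¬ Group.IsNilpotent K) :
    ∃ ψ : IrrCharacter G, ((χ : G → ℂ) 1).re < ((ψ : G → ℂ) 1).re ∧
      (∀ g, (ψ : G → ℂ) g = (ψ : G → ℂ) 1 → g ∈ K) ∧
      ∃ g ∈ K, (ψ : G → ℂ) g ≠ (ψ : G → ℂ) 1 := by
  classical
  letI : Fintype G := Fintype.ofFinite G
  have h1 := (Group.isNilpotent_of_finite_tfae (G := K)).out 0 3
  rw [h1] at hnil
  push Not at hnil
  obtain ⟨p, hp, P, hP⟩ := hnil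
  have hKN : K ⊔ Subgroup.normalizer (TT K P : Set G) = ⊤ := by
    rw [sup_comm]; exact frattini_TT K P
  have hχc := isCharacter_of_isIrrCharacter χ.2
  have hK' : ∀ g ∈ K, (χ : G → ℂ) g = (χ : G → ℂ) 1 := fun g hg => (hK g).mp hg
  have hξ := isIrrCharacter_restrict_of_sup_eq_top K _ hKN χ.2 hK'
  obtain ⟨ψ, hψ, hlt⟩ := exists_constituent_degree_gt χ K hK' P hP
  have hψc := isCharacter_of_isIrrCharacter ψ.2
  refine ⟨ψ, hlt, ?_, ?_⟩
  · have hJ : charKer (ψ : G → ℂ) hψc ≤ K := by
      apply le_of_inf_normalizer_le K P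
      rintro g ⟨hg1, hg2⟩
      rw [hK]
      exact apply_eq_of_constituent _ hχc hξ ψ hψ hg2 hg1
    intro g hg
    exact hJ hg
  · by_contra hcon
    push Not at hcon
    letI : Fintype (Subgroup.normalizer (TT K P : Set G)) := Fintype.ofFinite _
    have hψN := isIrrCharacter_restrict_of_sup_eq_top K _ hKN ψ.2 hcon
    have hne := classInner_restrict_ne_zero _ hχc ψ hψ
    have heq : (fun n : Subgroup.normalizer (TT K P : Set G) => (ψ : G → ℂ) n) =
        fun n : Subgroup.normalizer (TT K P : Set G) => (χ : G → ℂ) n := by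
      by_contra hne'
      exact hne (irr_classInner_eq_zero hψN hξ hne')
    have := congrFun heq 1
    simp only [OneMemClass.coe_one] at this
    rw [this] at hlt
    exact lt_irrefl _ hlt

end Cfsg.Agent.H2.BG
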