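import Mathlib
import Cfsg.Agent.H2.BGThmA
import Cfsg.Agent.H2.BGChief

/-!
# The Broline–Garrison theorem, the Fitting case (helper2)

If the kernel of `χ ∈ Irr(G)` is `F(G) < G` with `G/F(G)` solvable, there is `ψ ∈ Irr(G)` with
`ψ(1) > χ(1)` and `ker ψ < F(G)`.
-/

set_option autoImplicit false
set_option linter.unusedSectionVars false
set_option linter.style.haveILetI false
set_option linter.deprecated false
set_option maxHeartbeats 1000000

namespace Cfsg.Agent.H2.BG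

open Cfsg Module Cfsg.Agent.Lib.helper3.IndFun Cfsg.Agent.Lib.helper3.CharBasic
open Cfsg.Agent.Lib.helper3.Irr Cfsg.Agent.Lib.helper3.PermChar Cfsg.Agent.Lib.helper3.Central
open Cfsg.Agent.H2.Prn Cfsg.Agent.Lib.Helper4.Codegree Cfsg.Agent.H1
open scoped ComplexConjugate

variable {G : Type*} [Group G]

/-- a constituent of `(χ_N)^G` of larger degree than `χ` does not have `K` in its kernel -/
theorem exists_mem_apply_ne_of_degree_lt [Fintype G] (K N : Subgroup G) [K.Normal]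
    (hKN : K ⊔ N = ⊤) (χ ψ : IrrCharacter G)
    (hK : ∀ k ∈ K, (χ : G → ℂ) k = (χ : G → ℂ) 1)
    (hψ : classInner (indFun N (fun n : N => (χ : G → ℂ) n)) (ψ : G → ℂ) ≠ 0)
    (hlt : ((χ : G → ℂ) 1).re < ((ψ : G → ℂ) 1).re) :
    ∃ g ∈ K, (ψ : G → ℂ) g ≠ (ψ : G → ℂ) 1 := by
  classical
  by_contra hcon
  push Not at hcon
  letI : Fintype N := Fintype.ofFinite _
  have hχc := isCharacter_of_isIrrCharacter χ.2
  have hξ := isIrrCharacter_restrict_of_sup_eq_top K N hKN χ.2 hK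
  have hψN := isIrrCharacter_restrict_of_sup_eq_top K N hKN ψ.2 hcon
  have hne := classInner_restrict_ne_zero N hχc ψ hψ
  have heq : (fun n : N => (ψ : G → ℂ) n) = fun n : N => (χ : G → ℂ) n := by
    by_contra hne'
    exact hne (irr_classInner_eq_zero hψN hξ hne')
  have := congrFun heq 1
  simp only [OneMemClass.coe_one] at this
  rw [this] at hlt
  exact lt_irrefl _ hlt

theorem step1 [Fintype G] {q : ℕ} [hq : Fact q.Prime] (χ : IrrCharacter G)
    (F F₁ : Subgroup G) [hFn : F.Normal] [hF₁n : F₁.Normal]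
    (hK : ∀ g, g ∈ F ↔ (χ : G → ℂ) g = (χ : G → ℂ) 1)
    (hFfit : F = Cfsg.fittingSubgroup G)
    (hFF₁ : F < F₁) (a : ℕ) (hidx : F.relIndex F₁ = q ^ a)
    (hmin : ∀ B : Subgroup G, B.Normal → F ≤ B → B ≤ F₁ → B = F ∨ B = F₁) :
    ∃ ψ : IrrCharacter G, ((χ : G → ℂ) 1).re < ((ψ : G → ℂ) 1).re ∧
      ∃ f ∈ F, (ψ : G → ℂ) f ≠ (ψ : G → ℂ) 1 := by
  classical
  obtain ⟨Q⟩ : Nonempty (Sylow q F₁) := inferInstance
  have hRF₁ : TT F₁ Q ≤ F₁ := TT_le F₁ Q
  have hRq : IsPGroup q (TT F₁ Q) := TT_pgroup F₁ Q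
  have hRN : TT F₁ Q ≤ Subgroup.normalizer (TT F₁ Q : Set G) := Subgroup.le_normalizer
  have hχc := isCharacter_of_isIrrCharacter χ.2
  have hK' : ∀ g ∈ F, (χ : G → ℂ) g = (χ : G → ℂ) 1 := fun g hg => (hK g).mp hg
  have hsub : (TT F₁ Q).subgroupOf F₁ = Q := by
    rw [TT, Subgroup.subgroupOf, Subgroup.comap_map_eq_self_of_injective F₁.subtype_injective]
  -- `F₁ = F R`
  have hFR : F ⊔ TT F₁ Q = F₁ := by
    apply le_antisymm (sup_le hFF₁.le hRF₁)
    rw [← Subgroup.relIndex_eq_one]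
    have h1 : (F ⊔ TT F₁ Q).relIndex F₁ ∣ F.relIndex F₁ :=
      Subgroup.relIndex_dvd_of_le_left F₁ le_sup_left
    have h2 : (F ⊔ TT F₁ Q).relIndex F₁ ∣ (TT F₁ Q).relIndex F₁ :=
      Subgroup.relIndex_dvd_of_le_left F₁ le_sup_right
    have h3 : ¬ q ∣ (TT F₁ Q).relIndex F₁ := by
      rw [Subgroup.relIndex, hsub]
      exact Q.not_dvd_index
    rw [hidx] at h1
    obtain ⟨b, -, hbe⟩ := (Nat.dvd_prime_pow hq.out).mp h1
    rw [hbe] at h2 ⊢
    rcases Nat.eq_zero_or_pos b with rfl | hbpos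
    · simp
    · exact absurd (dvd_trans (dvd_pow_self q hbpos.ne') h2) h3
  -- `G = F N`
  have hNF : F ⊔ Subgroup.normalizer (TT F₁ Q : Set G) = ⊤ := by
    have h1 : Subgroup.normalizer (TT F₁ Q : Set G) ⊔ F₁ = ⊤ := frattini_TT F₁ Q
    have h1' : Subgroup.normalizer (TT F₁ Q : Set G) ⊔ (F ⊔ TT F₁ Q) = ⊤ := by
      rw [hFR]; exact h1
    rw [eq_top_iff, ← h1']
    exact sup_le le_sup_right (sup_le le_sup_left (hRN.trans le_sup_right))
  -- `R` is not normal
  have hRnn : ¬ (TT F₁ Q).Normal := by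
    intro hn
    have h1 : TT F₁ Q ≤ F := by
      rw [hFfit]; exact le_fittingSubgroup hn hRq.isNilpotent
    have h2 : F₁ ≤ F := by
      rw [← hFR]; exact sup_le le_rfl h1
    exact lt_irrefl _ (lt_of_lt_of_le hFF₁ h2)
  have hξ := isIrrCharacter_restrict_of_sup_eq_top F _ hNF χ.2 hK'
  by_contra hcon
  push Not at hcon
  have hdeg : ∀ ψ : IrrCharacter G,
      classInner (indFun (Subgroup.normalizer (TT F₁ Q : Set G))
        (fun n : Subgroup.normalizer (TT F₁ Q : Set G) => (χ : G → ℂ) n)) (ψ : G → ℂ) ≠ 0 →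
      ((ψ : G → ℂ) 1).re ≤ ((χ : G → ℂ) 1).re := by
    intro ψ hψ
    by_contra hlt
    push Not at hlt
    obtain ⟨g, hg, hne⟩ := exists_mem_apply_ne_of_degree_lt F _ hNF χ ψ hK' hψ hlt
    exact hne (hcon ψ hlt g hg)
  have hsupp : ∀ g ∈ Subgroup.normalizer (TT F₁ Q : Set G), (χ : G → ℂ) g ≠ 0 →
      g ∈ (Subgroup.normalizer (TT F₁ Q : Set G)).normalCore := fun g hg hne =>
    mem_normalCore_of_degree_le _ hχc hξ hdeg hg hne
  have hYn : ((Subgroup.normalizer (TT F₁ Q : Set G)).normalCore ⊓ F₁).Normal := inferInstance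
  have hvanish : ∀ g ∈ F₁, (χ : G → ℂ) g ≠ 0 →
      g ∈ F ⊔ ((Subgroup.normalizer (TT F₁ Q : Set G)).normalCore ⊓ F₁) := by
    intro g hg hne
    have hgt : g ∈ Subgroup.normalizer (TT F₁ Q : Set G) ⊔ F := by
      rw [sup_comm, hNF]; exact Subgroup.mem_top g
    rw [← SetLike.mem_coe, Subgroup.mul_normal _ F] at hgt
    obtain ⟨n, hn, f, hf, rfl⟩ := hgt
    rw [apply_mul_of_apply_eq_one hχc (hK' f hf)] at hne
    have hn0 := hsupp n hn hne
    have hnF₁ : n ∈ F₁ := by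
      have e : n = n * f * f⁻¹ := by group
      rw [e]
      exact F₁.mul_mem hg (F₁.inv_mem (hFF₁.le hf))
    exact Subgroup.mul_mem _ (Subgroup.mem_sup_right ⟨hn0, hnF₁⟩) (Subgroup.mem_sup_left hf)
  rcases hmin (F ⊔ ((Subgroup.normalizer (TT F₁ Q : Set G)).normalCore ⊓ F₁)) inferInstance
    le_sup_left (sup_le hFF₁.le inf_le_right) with hcase | hcase
  · -- `χ` vanishes on `F₁ ∖ F`
    rw [hcase] at hvanish
    letI : Fintype F₁ := Fintype.ofFinite _
    have hsum : ∑ n : F₁, (χ : G → ℂ) n =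
        ((Finset.univ.filter (fun n : F₁ => (n : G) ∈ F)).card : ℂ) * (χ : G → ℂ) 1 := by
      rw [← nsmul_eq_mul, ← Finset.sum_const, Finset.sum_filter]
      apply Finset.sum_congr rfl
      intro n _
      by_cases hn : (n : G) ∈ F
      · rw [if_pos hn, hK' _ hn]
      · rw [if_neg hn]
        by_contra h0
        exact hn (hvanish n n.2 h0)
    have hcardne : ((Finset.univ.filter (fun n : F₁ => (n : G) ∈ F)).card : ℂ) ≠ 0 := by
      have : (1 : F₁) ∈ Finset.univ.filter (fun n : F₁ => (n : G) ∈ F) := by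
        rw [Finset.mem_filter]
        exact ⟨Finset.mem_univ _, F.one_mem⟩
      have hpos := Finset.card_pos.mpr ⟨_, this⟩
      exact_mod_cast hpos.ne'
    have hinner : classInner (fun n : F₁ => (χ : G → ℂ) n) (fun _ => 1) ≠ 0 := by
      rw [classInner_apply]
      simp only [map_one, mul_one]
      rw [hsum]
      apply mul_ne_zero
      · exact inv_ne_zero (card_ne_zero_complex _)
      · exact mul_ne_zero hcardne (apply_one_ne_zero χ.2)
    have hall := Cfsg.Agent.Lib.helper3.CExt.apply_eq_apply_one_of_trivial_constituent' F₁ χ.2 hinner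
    have : F₁ ≤ F := by
      intro x hx
      rw [hK]
      exact hall ⟨x, hx⟩
    exact lt_irrefl _ (lt_of_lt_of_le hFF₁ this)
  · -- `F₁ = F Y`
    have hOqF : Cfsg.pCore q G ≤ F := by
      rw [hFfit]
      exact le_fittingSubgroup inferInstance (pCore_isPGroup (G := G) q).isNilpotent
    have hOqR : Cfsg.pCore q G ≤ TT F₁ Q := by
      have hn : ((Cfsg.pCore q G).subgroupOf F₁).Normal := inferInstance
      have hpg : IsPGroup q ((Cfsg.pCore q G).subgroupOf F₁) :=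
        (pCore_isPGroup (G := G) q).comap_subtype
      have hle := hpg.le_sylow_of_normal Q
      intro x hx
      have hxF₁ : x ∈ F₁ := hFF₁.le (hOqF hx)
      exact ⟨⟨x, hxF₁⟩, hle (Subgroup.mem_subgroupOf.mpr hx), rfl⟩
    have hOqY : Cfsg.pCore q G ≤
        (Subgroup.normalizer (TT F₁ Q : Set G)).normalCore ⊓ F₁ :=
      le_inf (Subgroup.normal_le_normalCore.mpr (hOqR.trans hRN)) (hOqF.trans hFF₁.le)
    have hidx2 : ¬ q ∣ ((Subgroup.normalizer (TT F₁ Q : Set G)).normalCore ⊓ F₁).relIndex F₁ := by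
      have e1 : ((Subgroup.normalizer (TT F₁ Q : Set G)).normalCore ⊓ F₁).relIndex F₁ =
          ((Subgroup.normalizer (TT F₁ Q : Set G)).normalCore ⊓ F₁).relIndex F := by
        have h := Subgroup.relIndex_sup_right F
          ((Subgroup.normalizer (TT F₁ Q : Set G)).normalCore ⊓ F₁)
        rw [hcase] at h
        exact h
      rw [e1]
      intro hdvd
      have h2 := Subgroup.relIndex_dvd_of_le_left F hOqY
      have h3 := not_dvd_relIndex_pCore_fitting (G := G) (q := q)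
      rw [← hFfit] at h3
      exact h3 (hdvd.trans h2)
    have hRY : TT F₁ Q ≤ (Subgroup.normalizer (TT F₁ Q : Set G)).normalCore ⊓ F₁ := by
      intro y hy
      have hyF₁ : y ∈ F₁ := hRF₁ hy
      have hn : (((Subgroup.normalizer (TT F₁ Q : Set G)).normalCore ⊓ F₁).subgroupOf F₁).Normal :=
        inferInstance
      have hpow := Subgroup.pow_index_mem
        (((Subgroup.normalizer (TT F₁ Q : Set G)).normalCore ⊓ F₁).subgroupOf F₁) (⟨y, hyF₁⟩ : F₁)
      rw [Subgroup.mem_subgroupOf, Subgroup.coe_pow] at hpow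
      obtain ⟨k, hk⟩ := hRq ⟨y, hy⟩
      have hk' : y ^ q ^ k = 1 := by
        have := congrArg Subtype.val hk
        simpa using this
      have hord : orderOf y ∣ q ^ k := orderOf_dvd_of_pow_eq_one hk'
      have hcop : Nat.Coprime
          (((Subgroup.normalizer (TT F₁ Q : Set G)).normalCore ⊓ F₁).subgroupOf F₁).index
          (orderOf y) := by
        apply Nat.Coprime.coprime_dvd_right hord
        apply Nat.Coprime.pow_right
        exact ((Nat.Prime.coprime_iff_not_dvd hq.out).mpr hidx2).symm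
      obtain ⟨m, hm⟩ := exists_pow_eq_self_of_coprime hcop
      rw [← hm]
      exact Subgroup.pow_mem _ hpow m
    have hnorm : (TT F₁ Q).Normal := by
      apply normal_of_conj_le_normalizer F₁ Q
      intro g y hy
      exact (hRY hy).1 g
    exact hRnn hnorm


theorem thmB [Finite G] (χ : IrrCharacter G) (F : Subgroup G) [hFn : F.Normal]
    (hK : ∀ g, g ∈ F ↔ (χ : G → ℂ) g = (χ : G → ℂ) 1)
    (hFfit : F = Cfsg.fittingSubgroup G) (hsolv : Group.IsSolvable (G ⧸ F)) (hne : F ≠ ⊤) :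
    ∃ ψ : IrrCharacter G, ((χ : G → ℂ) 1).re < ((ψ : G → ℂ) 1).re ∧
      (∀ g, (ψ : G → ℂ) g = (ψ : G → ℂ) 1 → g ∈ F) ∧
      ∃ g ∈ F, (ψ : G → ℂ) g ≠ (ψ : G → ℂ) 1 := by
  classical
  letI : Fintype G := Fintype.ofFinite G
  obtain ⟨q, a, F₁, hq, hF₁n, hFF₁, hidx, hmin⟩ := exists_chief_factor F hsolv hne
  haveI := Fact.mk hq
  obtain ⟨ψ₀, hψ₀lt, hψ₀F⟩ := step1 χ F F₁ hK hFfit hFF₁ a hidx hmin
  have hS : (Finset.univ.filter (fun ψ : IrrCharacter G =>
      ((χ : G → ℂ) 1).re < ((ψ : G → ℂ) 1).re ∧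
        ∃ f ∈ F, (ψ : G → ℂ) f ≠ (ψ : G → ℂ) 1)).Nonempty :=
    ⟨ψ₀, Finset.mem_filter.mpr ⟨Finset.mem_univ _, hψ₀lt, hψ₀F⟩⟩
  obtain ⟨ψ, hψS, hmax⟩ := Finset.exists_max_image _
    (fun ψ : IrrCharacter G => ((ψ : G → ℂ) 1).re) hS
  rw [Finset.mem_filter] at hψS
  obtain ⟨-, hlt, f, hf, hfne⟩ := hψS
  have hψc := isCharacter_of_isIrrCharacter ψ.2
  have hnil : Group.IsNilpotent (charKer (ψ : G → ℂ) hψc) := by
    by_contra hnn
    obtain ⟨ψ', hlt', hker', -⟩ :=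
      thmA ψ (charKer (ψ : G → ℂ) hψc) (fun g => Iff.rfl) hnn
    have hmem : ψ' ∈ Finset.univ.filter (fun ψ : IrrCharacter G =>
        ((χ : G → ℂ) 1).re < ((ψ : G → ℂ) 1).re ∧
          ∃ f ∈ F, (ψ : G → ℂ) f ≠ (ψ : G → ℂ) 1) := by
      rw [Finset.mem_filter]
      refine ⟨Finset.mem_univ _, hlt.trans hlt', f, hf, ?_⟩
      intro h
      exact hfne (hker' f h)
    have := hmax ψ' hmem
    linarith
  have hle : charKer (ψ : G → ℂ) hψc ≤ F := by
    rw [hFfit]; exact le_fittingSubgroup inferInstance hnil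
  exact ⟨ψ, hlt, fun g hg => hle hg, f, hf, hfne⟩

/-- the Broline–Garrison theorem -/
theorem broline_garrison [Finite G] (χ : IrrCharacter G) (K : Subgroup G) [K.Normal]
    (hK : ∀ g : G, g ∈ K ↔ (χ : G → ℂ) g = (χ : G → ℂ) 1)
    (h : ¬ K ≤ Cfsg.fittingSubgroup G ∨
      (K = Cfsg.fittingSubgroup G ∧ Group.IsSolvable (G ⧸ K) ∧ K ≠ ⊤)) :
    ∃ ψ : IrrCharacter G, charDegree (χ : G → ℂ) < charDegree (ψ : G → ℂ) ∧
      ∃ L : Subgroup G, (∀ g : G, g ∈ L ↔ (ψ : G → ℂ) g = (ψ : G → ℂ) 1) ∧ L < K := by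
  have key : ∃ ψ : IrrCharacter G, ((χ : G → ℂ) 1).re < ((ψ : G → ℂ) 1).re ∧
      (∀ g, (ψ : G → ℂ) g = (ψ : G → ℂ) 1 → g ∈ K) ∧
      ∃ g ∈ K, (ψ : G → ℂ) g ≠ (ψ : G → ℂ) 1 := by
    rcases h with h | ⟨hKF, hsolv, hne⟩
    · have hnil : ¬ Group.IsNilpotent K := fun hn => h (le_fittingSubgroup inferInstance hn)
      exact thmA χ K hK hnil
    · exact thmB χ K hK hKF hsolv hne
  obtain ⟨ψ, hlt, hker, g, hg, hgne⟩ := key
  have hχc := isCharacter_of_isIrrCharacter χ.2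
  have hψc := isCharacter_of_isIrrCharacter ψ.2
  refine ⟨ψ, ?_, charKer (ψ : G → ℂ) hψc, fun g => Iff.rfl, ?_⟩
  · have h1 := charDegree_cast hχc
    have h2 := charDegree_cast hψc
    rw [← h1, ← h2] at hlt
    simp only [Complex.natCast_re] at hlt
    exact_mod_cast hlt
  · refine lt_of_le_of_ne (fun x hx => hker x hx) ?_
    intro heq
    apply hgne
    have : g ∈ charKer (ψ : G → ℂ) hψc := by rw [heq]; exact hg
    exact this

end Cfsg.Agent.H2.BG
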