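import Mathlib

/-!
# The arithmetic at the end of the Brauer–Suzuki argument for quaternion Sylow subgroups of order 8
-/

set_option autoImplicit false

namespace Cfsg.Agent.H2.BSArith

/-- Sign pattern `(+, +, -)`. -/
theorem core1 {na nb nc ka kb kc : ℤ} (hna : 0 < na) (hnb : 0 < nb)
    (hn : nc = na + nb + 1) (hk : kc = ka + kb)
    (hE : ka ^ 2 * nb * nc + kb ^ 2 * na * nc = kc ^ 2 * na * nb) :
    ka = 0 ∧ kb = 0 ∧ kc = 0 := by
  subst hn hk
  have h1 : (ka * nb - kb * na) ^ 2 + ka ^ 2 * nb + kb ^ 2 * na = 0 := by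
    linear_combination hE
  have h2 : 0 ≤ (ka * nb - kb * na) ^ 2 := sq_nonneg _
  have h3 : 0 ≤ ka ^ 2 * nb := mul_nonneg (sq_nonneg _) hnb.le
  have h4 : 0 ≤ kb ^ 2 * na := mul_nonneg (sq_nonneg _) hna.le
  have h5 : ka ^ 2 * nb = 0 := by linarith
  have h6 : kb ^ 2 * na = 0 := by linarith
  have h7 : ka = 0 := by
    rcases mul_eq_zero.mp h5 with h | h
    · exact pow_eq_zero_iff (two_ne_zero) |>.mp h
    · omega
  have h8 : kb = 0 := by
    rcases mul_eq_zero.mp h6 with h | h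
    · exact pow_eq_zero_iff (two_ne_zero) |>.mp h
    · omega
  exact ⟨h7, h8, by rw [h7, h8]; rfl⟩

theorem zmod8_aux : ∀ a b t : ZMod 8, (a = 3 ∨ a = 7) → (b = 3 ∨ b = 7) →
    t * t = a * b * (a + b - 1) → False := by decide

/-- Sign pattern `(-, -, +)`. -/
theorem core2 {na nb nc ka kb kc : ℤ} (hna : 0 < na) (hnb : 0 < nb) (hnc : 0 < nc)
    (hn : na + nb = nc + 1) (hk : kc = ka + kb)
    (hE : ka ^ 2 * nb * nc + kb ^ 2 * na * nc = kc ^ 2 * na * nb)
    (hpar : (na = nb ∧ ka = kb) ∨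
      (na % 4 = 3 ∧ nb % 4 = 3)) :
    ka = 0 ∧ kb = 0 ∧ kc = 0 := by
  have hnc' : nc = na + nb - 1 := by omega
  subst hnc' hk
  have h1 : (ka * nb - kb * na) ^ 2 = ka ^ 2 * nb + kb ^ 2 * na := by
    linear_combination hE
  have hzero : ka ^ 2 * nb + kb ^ 2 * na = 0 → ka = 0 ∧ kb = 0 ∧ ka + kb = 0 := by
    intro h0
    have h3 : 0 ≤ ka ^ 2 * nb := mul_nonneg (sq_nonneg _) hnb.le
    have h4 : 0 ≤ kb ^ 2 * na := mul_nonneg (sq_nonneg _) hna.le
    have h5 : ka ^ 2 * nb = 0 := by linarith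
    have h6 : kb ^ 2 * na = 0 := by linarith
    have h7 : ka = 0 := by
      rcases mul_eq_zero.mp h5 with h | h
      · exact pow_eq_zero_iff (two_ne_zero) |>.mp h
      · omega
    have h8 : kb = 0 := by
      rcases mul_eq_zero.mp h6 with h | h
      · exact pow_eq_zero_iff (two_ne_zero) |>.mp h
      · omega
    exact ⟨h7, h8, by rw [h7, h8]; rfl⟩
  rcases hpar with ⟨hnn, hkk⟩ | ⟨ha4, hb4⟩
  · apply hzero
    rw [← h1, hnn, hkk]
    ring
  · by_cases hkc : ka + kb = 0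
    · apply hzero
      -- from `hE` with `kc = 0`
      have h2 : (ka ^ 2 * nb + kb ^ 2 * na) * (na + nb - 1) = 0 := by
        have : ka ^ 2 * nb * (na + nb - 1) + kb ^ 2 * na * (na + nb - 1) = 0 := by
          rw [hE, hkc]; ring
        linear_combination this
      rcases mul_eq_zero.mp h2 with h | h
      · exact h
      · omega
    · exfalso
      -- `(A * nc)² = kc² * (na nb nc)`
      set A := ka * nb - kb * na with hA
      set nc := na + nb - 1 with hncdef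
      have hF : (A * nc) ^ 2 = (ka + kb) ^ 2 * (na * nb * nc) := by
        have : A ^ 2 * nc = (ka + kb) ^ 2 * na * nb := by
          rw [h1]; linear_combination hE
        linear_combination nc * this
      have hdvd : (ka + kb) ∣ A * nc := by
        have : (ka + kb) ^ 2 ∣ (A * nc) ^ 2 := ⟨_, hF⟩
        exact (Int.pow_dvd_pow_iff two_ne_zero).mp this
      obtain ⟨t, ht⟩ := hdvd
      have hsq : t ^ 2 = na * nb * nc := by
        have h2 : (ka + kb) ^ 2 * t ^ 2 = (ka + kb) ^ 2 * (na * nb * nc) := by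
          rw [← hF, ht]; ring
        exact mul_left_cancel₀ (pow_ne_zero 2 hkc) h2
      have hcast : ((t : ZMod 8)) * (t : ZMod 8) =
          (na : ZMod 8) * (nb : ZMod 8) * ((na : ZMod 8) + (nb : ZMod 8) - 1) := by
        have := congrArg (fun z : ℤ => (z : ZMod 8)) hsq
        simp only [hncdef] at this
        push_cast at this
        rw [← this]; ring
      have hcase : ∀ m : ℤ, m % 4 = 3 → ((m : ZMod 8) = 3 ∨ (m : ZMod 8) = 7) := by
        intro m hm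
        have h8 : m % 8 = 3 ∨ m % 8 = 7 := by omega
        rcases h8 with h | h
        · left
          have : ((m % 8 : ℤ) : ZMod 8) = (m : ZMod 8) := by
            rw [← ZMod.intCast_mod m 8]; rfl
          rw [← this, h]; rfl
        · right
          have : ((m % 8 : ℤ) : ZMod 8) = (m : ZMod 8) := by
            rw [← ZMod.intCast_mod m 8]; rfl
          rw [← this, h]; rfl
      exact zmod8_aux _ _ _ (hcase na ha4) (hcase nb hb4) hcast

/-- The pattern `(-, -, +)` in terms of the full data. -/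
theorem core2' {na nb nc ka kb kc ma mb : ℤ} (hna : 0 < na) (hnb : 0 < nb) (hnc : 0 < nc)
    (ha : na = 4 * ma + -1 + 2 * ka) (hb : nb = 4 * mb + -1 + 2 * kb)
    (hn : 1 + -1 * na + -1 * nb + 1 * nc = 0) (hk : -1 * ka + -1 * kb + 1 * kc = 0)
    (hE : -1 * ka ^ 2 * nb * nc + -1 * kb ^ 2 * na * nc + 1 * kc ^ 2 * na * nb = 0)
    (hea : Even ka ∨ (nb = na ∧ kb = ka)) (heb : Even kb ∨ (na = nb ∧ ka = kb)) :
    ka = 0 ∧ kb = 0 ∧ kc = 0 := by
  apply core2 hna hnb hnc (by linarith) (by linarith) (by linarith)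
  rcases hea with hea | ⟨h1, h2⟩
  · rcases heb with heb | ⟨h1, h2⟩
    · right
      obtain ⟨ja, hja⟩ := hea
      obtain ⟨jb, hjb⟩ := heb
      constructor <;> omega
    · left; exact ⟨h1, h2⟩
  · left; exact ⟨h1.symm, h2.symm⟩

/-- The arithmetic lemma. -/
theorem arith {d1 d2 d3 n1 n2 n3 k1 k2 k3 m1 m2 m3 : ℤ}
    (hd1 : d1 = 1 ∨ d1 = -1) (hd2 : d2 = 1 ∨ d2 = -1) (hd3 : d3 = 1 ∨ d3 = -1)
    (hn1 : 0 < n1) (hn2 : 0 < n2) (hn3 : 0 < n3)
    (hk1 : 0 ≤ k1) (hk2 : 0 ≤ k2) (hk3 : 0 ≤ k3)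
    (ha1 : n1 = 4 * m1 + d1 + 2 * k1) (ha2 : n2 = 4 * m2 + d2 + 2 * k2)
    (ha3 : n3 = 4 * m3 + d3 + 2 * k3)
    (hb : 1 + d1 * n1 + d2 * n2 + d3 * n3 = 0)
    (hc : d1 * k1 + d2 * k2 + d3 * k3 = 0)
    (hd : d1 * k1 ^ 2 * n2 * n3 + d2 * k2 ^ 2 * n1 * n3 + d3 * k3 ^ 2 * n1 * n2 = 0)
    (he1 : Even k1 ∨ (d2 = d1 ∧ n2 = n1 ∧ k2 = k1) ∨ (d3 = d1 ∧ n3 = n1 ∧ k3 = k1))
    (he2 : Even k2 ∨ (d1 = d2 ∧ n1 = n2 ∧ k1 = k2) ∨ (d3 = d2 ∧ n3 = n2 ∧ k3 = k2))
    (he3 : Even k3 ∨ (d1 = d3 ∧ n1 = n3 ∧ k1 = k3) ∨ (d2 = d3 ∧ n2 = n3 ∧ k2 = k3)) :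
    k1 = 0 ∧ k2 = 0 ∧ k3 = 0 := by
  rcases hd1 with rfl | rfl <;> rcases hd2 with rfl | rfl <;> rcases hd3 with rfl | rfl
  · -- (+,+,+)
    exfalso; nlinarith
  · -- (+,+,-)
    have := core1 (na := n1) (nb := n2) (nc := n3) (ka := k1) (kb := k2) (kc := k3) hn1 hn2
      (by linarith) (by linarith) (by linarith)
    exact this
  · -- (+,-,+)
    have := core1 (na := n1) (nb := n3) (nc := n2) (ka := k1) (kb := k3) (kc := k2) hn1 hn3
      (by linarith) (by linarith) (by linarith)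
    exact ⟨this.1, this.2.2, this.2.1⟩
  · -- (+,-,-)
    have h1 : Even k2 ∨ (n3 = n2 ∧ k3 = k2) := by
      rcases he2 with h | ⟨h, -, -⟩ | ⟨-, h1, h2⟩
      · exact Or.inl h
      · exact absurd h (by norm_num)
      · exact Or.inr ⟨h1, h2⟩
    have h2 : Even k3 ∨ (n2 = n3 ∧ k2 = k3) := by
      rcases he3 with h | ⟨h, -, -⟩ | ⟨-, h1, h2⟩
      · exact Or.inl h
      · exact absurd h (by norm_num)
      · exact Or.inr ⟨h1, h2⟩
    have := core2' (na := n2) (nb := n3) (nc := n1) (ka := k2) (kb := k3) (kc := k1)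
      (ma := m2) (mb := m3) hn2 hn3 hn1 ha2 ha3 (by linarith) (by linarith) (by linarith) h1 h2
    exact ⟨this.2.2, this.1, this.2.1⟩
  · -- (-,+,+)
    have := core1 (na := n2) (nb := n3) (nc := n1) (ka := k2) (kb := k3) (kc := k1) hn2 hn3
      (by linarith) (by linarith) (by linarith)
    exact ⟨this.2.2, this.1, this.2.1⟩
  · -- (-,+,-)
    have h1 : Even k1 ∨ (n3 = n1 ∧ k3 = k1) := by
      rcases he1 with h | ⟨h, -, -⟩ | ⟨-, h1, h2⟩
      · exact Or.inl h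
      · exact absurd h (by norm_num)
      · exact Or.inr ⟨h1, h2⟩
    have h2 : Even k3 ∨ (n1 = n3 ∧ k1 = k3) := by
      rcases he3 with h | ⟨-, h1, h2⟩ | ⟨h, -, -⟩
      · exact Or.inl h
      · exact Or.inr ⟨h1, h2⟩
      · exact absurd h (by norm_num)
    have := core2' (na := n1) (nb := n3) (nc := n2) (ka := k1) (kb := k3) (kc := k2)
      (ma := m1) (mb := m3) hn1 hn3 hn2 ha1 ha3 (by linarith) (by linarith) (by linarith) h1 h2
    exact ⟨this.1, this.2.2, this.2.1⟩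
  · -- (-,-,+)
    have h1 : Even k1 ∨ (n2 = n1 ∧ k2 = k1) := by
      rcases he1 with h | ⟨-, h1, h2⟩ | ⟨h, -, -⟩
      · exact Or.inl h
      · exact Or.inr ⟨h1, h2⟩
      · exact absurd h (by norm_num)
    have h2 : Even k2 ∨ (n1 = n2 ∧ k1 = k2) := by
      rcases he2 with h | ⟨-, h1, h2⟩ | ⟨h, -, -⟩
      · exact Or.inl h
      · exact Or.inr ⟨h1, h2⟩
      · exact absurd h (by norm_num)
    exact core2' (na := n1) (nb := n2) (nc := n3) (ka := k1) (kb := k2) (kc := k3)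
      (ma := m1) (mb := m2) hn1 hn2 hn3 ha1 ha2 (by linarith) (by linarith) (by linarith) h1 h2
  · -- (-,-,-)
    refine ⟨by linarith, by linarith, by linarith⟩

end Cfsg.Agent.H2.BSArith
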