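import Mathlib

/-!
# A nondegenerate skew-symmetric bilinear form lives on an even-dimensional space
-/

set_option autoImplicit false

namespace Cfsg.Agent.H2.SkewEven

open Module

/-- A finite-dimensional complex vector space carrying a skew-symmetric bilinear form with trivial
left radical has even dimension. -/
theorem even_finrank_of_skew {W : Type*} [AddCommGroup W] [Module ℂ W] [FiniteDimensional ℂ W]
    (ω : LinearMap.BilinForm ℂ W) (hskew : ∀ v w, ω w v = - ω v w)
    (hnd : ∀ v, (∀ w, ω v w = 0) → v = 0) : Even (finrank ℂ W) := by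
  classical
  set k := finrank ℂ W with hk
  let b : Basis (Fin k) ℂ W := Module.finBasis ℂ W
  set M := LinearMap.BilinForm.toMatrix b ω with hM
  have hMT : M.transpose = -M := by
    ext i j
    rw [Matrix.transpose_apply, Matrix.neg_apply, hM, LinearMap.BilinForm.toMatrix_apply,
      LinearMap.BilinForm.toMatrix_apply]
    exact hskew _ _
  have hndeg : ω.Nondegenerate := by
    refine ⟨fun v hv => hnd v hv, fun v hv => hnd v ?_⟩
    intro w
    have h0 : ω w v = 0 := hv w
    rw [hskew] at h0
    exact neg_eq_zero.mp h0
  have hdet : M.det ≠ 0 := (LinearMap.BilinForm.nondegenerate_iff_det_ne_zero b).mp hndeg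
  have h1 : M.det = (-1) ^ k * M.det := by
    conv_lhs => rw [← Matrix.det_transpose, hMT, Matrix.det_neg]
    simp
  have h2 : ((-1 : ℂ)) ^ k = 1 := by
    have h4 : ((-1 : ℂ) ^ k - 1) * M.det = 0 := by
      rw [sub_mul, one_mul, ← h1, sub_self]
    rcases mul_eq_zero.mp h4 with h | h
    · exact sub_eq_zero.mp h
    · exact absurd h hdet
  exact (neg_one_pow_eq_one_iff_even (by norm_num)).mp h2

end Cfsg.Agent.H2.SkewEven
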