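import Mathlib
import Cfsg.Agent.H2.SkewEven

/-!
# Parity of the multiplicity of the quaternionic constituent in an orthogonal representation

Matrices `X`, `Y` satisfying the quaternion relations and preserving a nondegenerate symmetric
bilinear form `B`: the `i`-eigenspace of `X` has even dimension, so `n - tr (X²)` is divisible by 8.
-/

set_option autoImplicit false

namespace Cfsg.Agent.H2.BSParity

open Matrix Complex Module

variable {n : ℕ}

/-- The hypotheses. -/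
structure Hyp (X Y B : Matrix (Fin n) (Fin n) ℂ) : Prop where
  x4 : X * X * X * X = 1
  y2 : Y * Y = X * X
  yx : Y * X = X * X * X * Y
  bx : Xᵀ * B * X = B
  by' : Yᵀ * B * Y = B
  bs : Bᵀ = B
  bu : IsUnit B

variable {X Y B : Matrix (Fin n) (Fin n) ℂ}

/-- The `i`-eigenspace of `X`. -/
def E (X : Matrix (Fin n) (Fin n) ℂ) : Submodule ℂ (Fin n → ℂ) where
  carrier := {v | X *ᵥ v = I • v}
  add_mem' := by
    intro a b ha hb
    simp only [Set.mem_ofPred_eq] at *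
    rw [mulVec_add, ha, hb, smul_add]
  zero_mem' := by simp
  smul_mem' := by
    intro c v hv
    simp only [Set.mem_ofPred_eq] at *
    rw [mulVec_smul, hv, smul_comm]

theorem mem_E {v : Fin n → ℂ} : v ∈ E X ↔ X *ᵥ v = I • v := Iff.rfl

/-- The projection onto the eigenspace. -/
noncomputable def P (X : Matrix (Fin n) (Fin n) ℂ) : Matrix (Fin n) (Fin n) ℂ :=
  (4 : ℂ)⁻¹ • (1 - I • X - X * X + I • (X * X * X))

theorem X_mul_P (h : Hyp X Y B) : X * P X = I • P X := by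
  unfold P
  rw [mul_smul_comm, mul_add, mul_sub, mul_sub, mul_one, mul_smul_comm, mul_smul_comm]
  have e1 : X * (X * X * X) = 1 := by rw [← mul_assoc, ← mul_assoc]; exact h.x4
  have e2 : X * (X * X) = X * X * X := by rw [mul_assoc]
  rw [e1, e2, smul_comm I (4 : ℂ)⁻¹]
  congr 1
  rw [smul_add, smul_sub, smul_sub, smul_smul, smul_smul, I_mul_I]
  module

theorem P_mulVec_of_mem {v : Fin n → ℂ} (hv : v ∈ E X) : P X *ᵥ v = v := by
  rw [mem_E] at hv
  unfold P
  rw [smul_mulVec, add_mulVec, sub_mulVec, sub_mulVec, one_mulVec, smul_mulVec, smul_mulVec,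
    ← mulVec_mulVec, ← mulVec_mulVec, ← mulVec_mulVec, hv, mulVec_smul, hv, mulVec_smul, mulVec_smul,
    hv, smul_smul, smul_smul, smul_smul, I_mul_I]
  norm_num
  module

theorem P_mulVec_mem (h : Hyp X Y B) (v : Fin n → ℂ) : P X *ᵥ v ∈ E X := by
  rw [mem_E, mulVec_mulVec, X_mul_P h, smul_mulVec]

theorem isProj (h : Hyp X Y B) : LinearMap.IsProj (E X) (Matrix.toLin' (P X)) := by
  refine ⟨fun v => ?_, fun v hv => ?_⟩
  · rw [toLin'_apply]; exact P_mulVec_mem h v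
  · rw [toLin'_apply]; exact P_mulVec_of_mem hv

theorem y4 (h : Hyp X Y B) : Y * Y * Y * Y = 1 := by
  rw [mul_assoc (Y * Y), h.y2, ← mul_assoc]
  exact h.x4

theorem trace_cube (h : Hyp X Y B) : (X * X * X).trace = X.trace := by
  have e1 : X * X * X = X * X * X * (Y * (Y * Y * Y)) := by
    rw [← mul_assoc Y, ← mul_assoc Y, y4 h, mul_one]
  have e2 : X * X * X * (Y * (Y * Y * Y)) = Y * X * (Y * Y * Y) := by
    rw [← mul_assoc (X * X * X), ← h.yx]
  rw [e1, e2, mul_assoc, trace_mul_comm, mul_assoc, mul_assoc, mul_assoc,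
    show Y * (Y * (Y * Y)) = Y * Y * Y * Y by simp only [mul_assoc], y4 h, mul_one]

theorem finrank_E (h : Hyp X Y B) :
    (4 : ℂ) * (finrank ℂ (E X) : ℂ) = (n : ℂ) - (X * X).trace := by
  have h1 := (isProj h).trace
  rw [Matrix.trace_toLin'_eq] at h1
  rw [← h1]
  unfold P
  rw [trace_smul, trace_add, trace_sub, trace_sub, trace_smul, trace_smul, trace_cube h, trace_one]
  simp only [Fintype.card_fin, smul_eq_mul]
  ring

/-- `Yᵀ B = B Y³`. -/
theorem yT_B (h : Hyp X Y B) : Yᵀ * B = B * (Y * Y * Y) := by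
  have h1 : Yᵀ * B * Y * (Y * Y * Y) = B * (Y * Y * Y) := by rw [h.by']
  rw [← h1, mul_assoc (Yᵀ * B), ← mul_assoc Y, ← mul_assoc Y, y4 h, mul_one]

theorem sq_mulVec_of_mem {v : Fin n → ℂ} (hv : v ∈ E X) : (X * X) *ᵥ v = -v := by
  rw [mem_E] at hv
  rw [← mulVec_mulVec, hv, mulVec_smul, hv, smul_smul, I_mul_I, neg_one_smul]

theorem ycube_mulVec_of_mem (h : Hyp X Y B) {v : Fin n → ℂ} (hv : v ∈ E X) :
    (Y * Y * Y) *ᵥ v = -(Y *ᵥ v) := by
  rw [mul_assoc, ← mulVec_mulVec, h.y2, sq_mulVec_of_mem hv, mulVec_neg]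

/-- The form `(v, w) ↦ vᵀ B Y w` is skew-symmetric on the eigenspace. -/
theorem skew (h : Hyp X Y B) {v w : Fin n → ℂ} (hv : v ∈ E X) :
    w ⬝ᵥ (B * Y) *ᵥ v = -(v ⬝ᵥ (B * Y) *ᵥ w) := by
  have h1 : v ⬝ᵥ (B * Y) *ᵥ w = w ⬝ᵥ (B * Y)ᵀ *ᵥ v := by
    rw [dotProduct_mulVec, ← mulVec_transpose, dotProduct_comm]
  have h2 : (B * (Y * Y * Y)) *ᵥ v = -((B * Y) *ᵥ v) := by
    rw [← mulVec_mulVec, ycube_mulVec_of_mem h hv, mulVec_neg, mulVec_mulVec]
  rw [h1, transpose_mul, h.bs, yT_B h, h2, dotProduct_neg, neg_neg]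

theorem x4_pow (h : Hyp X Y B) : X ^ 4 = 1 := by
  rw [← h.x4]; simp only [pow_succ, pow_zero, one_mul]

/-- `Y X³ = X Y`. -/
theorem y_mul_xcube (h : Hyp X Y B) : Y * (X * X * X) = X * Y := by
  have hyx : Y * X = X ^ 3 * Y := by
    rw [h.yx]; simp only [pow_succ, pow_zero, one_mul]
  have e : X * X * X = X ^ 3 := by simp only [pow_succ, pow_zero, one_mul]
  have h1 : ∀ k : ℕ, Y * X ^ k = (X ^ 3) ^ k * Y := by
    intro k
    induction k with
    | zero => simp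
    | succ k ih =>
      rw [pow_succ, ← mul_assoc, ih, mul_assoc, hyx, ← mul_assoc, ← pow_succ]
  rw [e, h1 3, ← pow_mul]
  have : X ^ (3 * 3) = X := by
    rw [show 3 * 3 = 4 + 4 + 1 by norm_num, pow_add, pow_add, x4_pow h, one_mul, one_mul, pow_one]
  rw [this]

/-- The projection onto the `-i`-eigenspace. -/
noncomputable def P' (X : Matrix (Fin n) (Fin n) ℂ) : Matrix (Fin n) (Fin n) ℂ :=
  (4 : ℂ)⁻¹ • (1 + I • X - X * X - I • (X * X * X))

theorem X_mul_P' (h : Hyp X Y B) : X * P' X = (-I) • P' X := by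
  unfold P'
  rw [mul_smul_comm, mul_sub, mul_sub, mul_add, mul_one, mul_smul_comm, mul_smul_comm]
  have e1 : X * (X * X * X) = 1 := by rw [← mul_assoc, ← mul_assoc]; exact h.x4
  have e2 : X * (X * X) = X * X * X := by rw [mul_assoc]
  rw [e1, e2, smul_comm (-I) (4 : ℂ)⁻¹]
  congr 1
  rw [smul_sub, smul_sub, smul_add, smul_smul, smul_smul, neg_mul, I_mul_I]
  module

theorem phi_X (h : Hyp X Y B) {v : Fin n → ℂ} (hv : v ∈ E X) (u : Fin n → ℂ) :
    v ⬝ᵥ B *ᵥ (X *ᵥ u) = -I * (v ⬝ᵥ B *ᵥ u) := by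
  rw [mem_E] at hv
  have h1 : v ⬝ᵥ B *ᵥ u = I * (v ⬝ᵥ B *ᵥ (X *ᵥ u)) := by
    conv_lhs => rw [← h.bx]
    rw [mul_assoc, ← mulVec_mulVec, ← mulVec_mulVec, dotProduct_mulVec, vecMul_transpose, hv,
      smul_dotProduct, smul_eq_mul]
  rw [h1, ← mul_assoc, neg_mul, I_mul_I, neg_neg, one_mul]

theorem phi_P' (h : Hyp X Y B) {v : Fin n → ℂ} (hv : v ∈ E X) (u : Fin n → ℂ) :
    v ⬝ᵥ B *ᵥ (P' X *ᵥ u) = v ⬝ᵥ B *ᵥ u := by
  have e1 := phi_X h hv u
  have e2 := phi_X h hv (X *ᵥ u)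
  have e3 := phi_X h hv (X *ᵥ (X *ᵥ u))
  unfold P'
  rw [smul_mulVec, sub_mulVec, sub_mulVec, add_mulVec, one_mulVec, smul_mulVec, smul_mulVec,
    ← mulVec_mulVec, ← mulVec_mulVec, ← mulVec_mulVec, mulVec_smul, mulVec_sub, mulVec_sub,
    mulVec_add, mulVec_smul, mulVec_smul, dotProduct_smul, dotProduct_sub, dotProduct_sub,
    dotProduct_add, dotProduct_smul, dotProduct_smul, e3, e2, e1]
  simp only [smul_eq_mul]
  have hI : I * I = -1 := I_mul_I
  linear_combination ((v ⬝ᵥ B *ᵥ u) * (-1 + (I * I + 1) / 4)) * hI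

theorem nondeg (h : Hyp X Y B) {v : Fin n → ℂ} (hv : v ∈ E X)
    (h0 : ∀ w ∈ E X, v ⬝ᵥ (B * Y) *ᵥ w = 0) : v = 0 := by
  have hphi : ∀ u : Fin n → ℂ, v ⬝ᵥ B *ᵥ u = 0 := by
    intro u
    rw [← phi_P' h hv u]
    set z := P' X *ᵥ u with hz
    have hXz : X *ᵥ z = (-I) • z := by
      rw [hz, mulVec_mulVec, X_mul_P' h, smul_mulVec]
    have hX3z : (X * X * X) *ᵥ z = I • z := by
      rw [← mulVec_mulVec, ← mulVec_mulVec, hXz, mulVec_smul, hXz, mulVec_smul, mulVec_smul, hXz,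
        smul_smul, smul_smul]
      congr 1
      have hI : I * I = -1 := I_mul_I
      linear_combination (-I) * hI
    have hX2z : (X * X) *ᵥ z = -z := by
      rw [← mulVec_mulVec, hXz, mulVec_smul, hXz, smul_smul, neg_mul_neg, I_mul_I, neg_one_smul]
    have hw : -(Y *ᵥ z) ∈ E X := by
      rw [mem_E, mulVec_neg, mulVec_mulVec, ← y_mul_xcube h, ← mulVec_mulVec, hX3z, mulVec_smul,
        smul_neg]
    have h1 := h0 _ hw
    rw [mulVec_neg, ← mulVec_mulVec, mulVec_mulVec z Y Y, h.y2, hX2z, mulVec_neg, neg_neg] at h1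
    exact h1
  have h2 : v ᵥ* B = 0 := by
    rw [← dotProduct_eq_zero_iff]
    intro u
    rw [← dotProduct_mulVec]
    exact hphi u
  have hdet : IsUnit B.det := (Matrix.isUnit_iff_isUnit_det B).mp h.bu
  have h3 : v = (v ᵥ* B) ᵥ* B⁻¹ := by
    rw [vecMul_vecMul, Matrix.mul_nonsing_inv B hdet, vecMul_one]
  rw [h3, h2, zero_vecMul]

/-- The main parity statement. -/
theorem main (h : Hyp X Y B) : ∃ j : ℕ, (n : ℂ) - (X * X).trace = 8 * (j : ℂ) := by
  have hev : Even (finrank ℂ (E X)) := by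
    apply Cfsg.Agent.H2.SkewEven.even_finrank_of_skew ((Matrix.toBilin' (B * Y)).restrict (E X))
    · intro v w
      rw [LinearMap.BilinForm.restrict_apply, LinearMap.BilinForm.restrict_apply,
        LinearMap.domRestrict_apply, LinearMap.domRestrict_apply,
        Matrix.toBilin'_apply', Matrix.toBilin'_apply']
      exact skew h v.2
    · intro v hv
      apply Subtype.ext
      apply nondeg h v.2
      intro w hw
      have := hv ⟨w, hw⟩
      rw [LinearMap.BilinForm.restrict_apply, LinearMap.domRestrict_apply,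
        Matrix.toBilin'_apply'] at this
      exact this
  obtain ⟨j, hj⟩ := hev
  refine ⟨j, ?_⟩
  rw [← finrank_E h, hj]
  push_cast
  ring

end Cfsg.Agent.H2.BSParity
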