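import Mathlib
import Cfsg.Prelude.Def_Characters
import Cfsg.Agent.Lib.helper3.FrobSchur
import Cfsg.Agent.H2.BSParity

/-!
# Real-valued irreducible characters of odd degree restricted to a quaternion subgroup
-/

set_option autoImplicit false

namespace Cfsg.Agent.H2.BSParity

open Cfsg Matrix Cfsg.Agent.Lib.helper3.FS
open scoped ComplexConjugate

/-- A real-valued irreducible representation of odd degree preserves a nondegenerate symmetric
bilinear form. -/
theorem exists_symm_form {G : Type*} [Group G] [Fintype G] {n : ℕ}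
    (ρ : Representation ℂ G (Fin n → ℂ)) [ρ.IsIrreducible]
    (hreal : ∀ g : G, (ρ.character g).im = 0) (hodd : Odd n) :
    ∃ B : Matrix (Fin n) (Fin n) ℂ, Inv ρ B ∧ IsUnit B ∧ Bᵀ = B := by
  classical
  have hn : (n : ℂ) ≠ 0 := by
    have : n ≠ 0 := by
      rintro rfl
      exact (Nat.not_odd_iff_even.mpr (by decide)) hodd
    exact_mod_cast this
  have hex : ∃ B : Matrix (Fin n) (Fin n) ℂ, Inv ρ B ∧ B ≠ 0 := by
    by_contra hex
    push Not at hex
    obtain ⟨-, h2⟩ := fs_caseB ρ (fun B hB => hex B hB)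
    have hirr := Cfsg.Agent.Lib.helper3.Irr.irr_classInner_self
      (Cfsg.Agent.Lib.helper3.Irr.isIrrCharacter_of_rep ρ)
    rw [Cfsg.Agent.Lib.helper3.IndFun.classInner_apply] at hirr
    have : ∑ g : G, ρ.character g * conj (ρ.character g) = 0 := by
      rw [← h2]
      apply Finset.sum_congr rfl
      intro g _
      congr 1
      exact Complex.conj_eq_iff_im.mpr (hreal g)
    rw [this, mul_zero] at hirr
    exact zero_ne_one hirr
  obtain ⟨B, hB, hB0⟩ := hex
  have hu := isUnit_of_inv ρ hB hB0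
  obtain ⟨c, hc1, hcT, -⟩ := fs_caseA ρ hB hu hn
  refine ⟨B, hB, hu, ?_⟩
  rcases hc1 with hc | hc
  · rw [hcT, hc, one_smul]
  · exfalso
    have hdet : IsUnit B.det := (Matrix.isUnit_iff_isUnit_det B).mp hu
    have h1 : B.det = (-1) ^ n * B.det := by
      conv_lhs => rw [← Matrix.det_transpose, hcT, hc, neg_one_smul, Matrix.det_neg]
      simp
    have h2 : ((-1 : ℂ)) ^ n = 1 := by
      have h3 := hdet.ne_zero
      have h4 : ((-1 : ℂ) ^ n - 1) * B.det = 0 := by
        rw [sub_mul, one_mul, ← h1, sub_self]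
      rcases mul_eq_zero.mp h4 with h | h
      · exact sub_eq_zero.mp h
      · exact absurd h h3
    have := (neg_one_pow_eq_one_iff_even (by norm_num)).mp h2
    exact (Nat.not_even_iff_odd.mpr hodd) this

/-- The parity statement for characters. -/
theorem char_parity {G : Type*} [Group G] [Fintype G] {χ : G → ℂ} (hχ : IsIrrCharacter G χ)
    (hreal : ∀ g : G, (χ g).im = 0) (d : ℕ) (hd : χ 1 = d) (hodd : Odd d) (x y : G)
    (hx4 : x * x * x * x = 1) (hy2 : y * y = x * x) (hyx : y * x = x * x * x * y) :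
    ∃ j : ℕ, χ 1 - χ (x * x) = 8 * (j : ℂ) := by
  classical
  obtain ⟨n, ρ, hirr, rfl⟩ := hχ
  have := hirr
  have hn : n = d := by
    have h1 := Representation.char_one ρ
    rw [hd] at h1
    have h2 : (d : ℂ) = (n : ℂ) := by
      rw [h1]
      simp
    exact_mod_cast h2.symm
  obtain ⟨B, hB, hu, hBs⟩ := exists_symm_form ρ hreal (hn ▸ hodd)
  have hyp : Hyp (R ρ x) (R ρ y) B := by
    refine ⟨?_, ?_, ?_, hB x, hB y, hBs, hu⟩
    · rw [← Cfsg.Agent.Lib.helper3.FS.R_mul ρ, ← Cfsg.Agent.Lib.helper3.FS.R_mul ρ, ← Cfsg.Agent.Lib.helper3.FS.R_mul ρ, hx4, R_one]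
    · rw [← Cfsg.Agent.Lib.helper3.FS.R_mul ρ, ← Cfsg.Agent.Lib.helper3.FS.R_mul ρ, hy2]
    · rw [← Cfsg.Agent.Lib.helper3.FS.R_mul ρ, ← Cfsg.Agent.Lib.helper3.FS.R_mul ρ, ← Cfsg.Agent.Lib.helper3.FS.R_mul ρ, ← Cfsg.Agent.Lib.helper3.FS.R_mul ρ, hyx]
  obtain ⟨j, hj⟩ := main hyp
  refine ⟨j, ?_⟩
  rw [← hj, ← Cfsg.Agent.Lib.helper3.FS.R_mul ρ, trace_R, hd]
  have : (d : ℂ) = (n : ℂ) := by exact_mod_cast hn.symm
  rw [this]

end Cfsg.Agent.H2.BSParity
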