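import Mathlib

/-!
# Eigenspace dimensions of a matrix of order dividing four
-/

set_option autoImplicit false

namespace Cfsg.Agent.H2.BSEigen

open Matrix Complex Module

variable {n : ℕ}

/-- The `lam`-eigenspace of `X`. -/
def Elam (X : Matrix (Fin n) (Fin n) ℂ) (lam : ℂ) : Submodule ℂ (Fin n → ℂ) where
  carrier := {v | X *ᵥ v = lam • v}
  add_mem' := by
    intro a b ha hb
    simp only [Set.mem_ofPred_eq] at *
    rw [mulVec_add, ha, hb, smul_add]
  zero_mem' := by simp
  smul_mem' := by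
    intro c v hv
    simp only [Set.mem_ofPred_eq] at *
    rw [mulVec_smul, hv, smul_comm]

theorem mem_Elam {X : Matrix (Fin n) (Fin n) ℂ} {lam : ℂ} {v : Fin n → ℂ} :
    v ∈ Elam X lam ↔ X *ᵥ v = lam • v := Iff.rfl

/-- The projection onto the eigenspace. -/
noncomputable def Plam (X : Matrix (Fin n) (Fin n) ℂ) (lam : ℂ) : Matrix (Fin n) (Fin n) ℂ :=
  (4 : ℂ)⁻¹ • (1 + lam ^ 3 • X + lam ^ 2 • (X * X) + lam • (X * X * X))

variable {X : Matrix (Fin n) (Fin n) ℂ} {lam : ℂ}

theorem X_mul_Plam (hX : X * X * X * X = 1) (hlam : lam ^ 4 = 1) :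
    X * Plam X lam = lam • Plam X lam := by
  unfold Plam
  rw [mul_smul_comm, mul_add, mul_add, mul_add, mul_one, mul_smul_comm, mul_smul_comm,
    mul_smul_comm]
  have e1 : X * (X * X * X) = 1 := by rw [← mul_assoc, ← mul_assoc]; exact hX
  have e2 : X * (X * X) = X * X * X := by rw [mul_assoc]
  rw [e1, e2, smul_comm lam (4 : ℂ)⁻¹]
  congr 1
  rw [smul_add, smul_add, smul_add, smul_smul, smul_smul, smul_smul]
  have h4 : lam * lam ^ 3 = 1 := by rw [← hlam]; ring
  have h3 : lam * lam ^ 2 = lam ^ 3 := by ring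
  have h2 : lam * lam = lam ^ 2 := by ring
  rw [h4, h3, h2, one_smul]
  abel

theorem Plam_mulVec_of_mem (hlam : lam ^ 4 = 1) {v : Fin n → ℂ} (hv : v ∈ Elam X lam) :
    Plam X lam *ᵥ v = v := by
  rw [mem_Elam] at hv
  unfold Plam
  rw [smul_mulVec, add_mulVec, add_mulVec, add_mulVec, one_mulVec, smul_mulVec, smul_mulVec,
    smul_mulVec, ← mulVec_mulVec, ← mulVec_mulVec, ← mulVec_mulVec, hv, mulVec_smul, hv, mulVec_smul,
    mulVec_smul, hv, smul_smul, smul_smul, smul_smul, smul_smul, smul_smul, smul_smul]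
  have h1 : lam ^ 3 * lam = 1 := by rw [← hlam]; ring
  have h2 : lam ^ 2 * lam * lam = 1 := by rw [← hlam]; ring
  have h3 : lam * lam * lam * lam = 1 := by rw [← hlam]; ring
  rw [h1, h2, h3, one_smul]
  have : v + v + v + v = (4 : ℂ) • v := by module
  rw [this, smul_smul]
  norm_num

theorem isProj (hX : X * X * X * X = 1) (hlam : lam ^ 4 = 1) :
    LinearMap.IsProj (Elam X lam) (Matrix.toLin' (Plam X lam)) := by
  refine ⟨fun v => ?_, fun v hv => ?_⟩
  · rw [toLin'_apply, mem_Elam, mulVec_mulVec, X_mul_Plam hX hlam, smul_mulVec]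
  · rw [toLin'_apply]; exact Plam_mulVec_of_mem hlam hv

theorem finrank_Elam (hX : X * X * X * X = 1) (hlam : lam ^ 4 = 1) :
    (4 : ℂ) * (finrank ℂ (Elam X lam) : ℂ) =
      (n : ℂ) + lam ^ 3 * X.trace + lam ^ 2 * (X * X).trace + lam * (X * X * X).trace := by
  have h1 := (isProj hX hlam).trace
  rw [Matrix.trace_toLin'_eq] at h1
  rw [← h1]
  unfold Plam
  rw [trace_smul, trace_add, trace_add, trace_add, trace_smul, trace_smul, trace_smul, trace_one]
  simp only [Fintype.card_fin, smul_eq_mul]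
  ring

end Cfsg.Agent.H2.BSEigen
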