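import Mathlib
import Cfsg.Prelude.Def_Solvable
import Cfsg.Agent.H1.Cores
import Cfsg.Agent.S0950
import Cfsg.Agent.H2.ConjMap

/-!
# Groups with a quaternion Sylow `2`-subgroup of order 8: group-theoretic facts
-/

set_option autoImplicit false

namespace Cfsg.Agent.H2.BSQ8

open QuaternionGroup

theorem q_cent : ∀ q z : QuaternionGroup 2, z ^ 2 ≠ 1 → q * z = z * q →
    q = 1 ∨ q = z ∨ q = z ^ 2 ∨ q = z ^ 3 := by decide

theorem q_cent' : ∀ q z : QuaternionGroup 2, z ^ 2 ≠ 1 → q ^ 2 ≠ 1 → q * z = z * q →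
    q = z ∨ q = z⁻¹ := by decide

theorem q_inv_conj : ∀ q : QuaternionGroup 2, q ^ 2 ≠ 1 →
    ∃ r : QuaternionGroup 2, r * q * r⁻¹ = q⁻¹ := by decide

theorem q_sq : ∀ q : QuaternionGroup 2, q ^ 2 ≠ 1 → q ^ 2 = a 2 := by decide

theorem q_invol : ∀ q : QuaternionGroup 2, q ^ 2 = 1 → q = 1 ∨ q = a 2 := by decide

theorem q_four : ∀ q : QuaternionGroup 2, q ^ 4 = 1 := by decide

theorem q_rel1 : (a 1 : QuaternionGroup 2) * a 1 * a 1 * a 1 = 1 := by decide

theorem q_rel2 : (xa 0 : QuaternionGroup 2) * xa 0 = a 1 * a 1 := by decide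

theorem q_rel3 : (xa 0 : QuaternionGroup 2) * a 1 = a 1 * a 1 * a 1 * xa 0 := by decide

theorem q_rel4 : (a 1 : QuaternionGroup 2) ^ 2 ≠ 1 := by decide

variable {G : Type*} [Group G]

section basic

variable (S : Subgroup G) (e : S ≃* QuaternionGroup 2)

/-- The element of order four. -/
noncomputable def xe : G := (e.symm (a 1) : G)

/-- A second element of order four, inverting the first. -/
noncomputable def ye : G := (e.symm (xa 0) : G)

theorem xe_mem : xe S e ∈ S := (e.symm (a 1)).2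

theorem ye_mem : ye S e ∈ S := (e.symm (xa 0)).2

theorem xe_rel1 : xe S e * xe S e * xe S e * xe S e = 1 := by
  unfold xe
  rw [← Subgroup.coe_mul, ← Subgroup.coe_mul, ← Subgroup.coe_mul, ← map_mul, ← map_mul, ← map_mul,
    q_rel1, map_one, Subgroup.coe_one]

theorem xe_rel2 : ye S e * ye S e = xe S e * xe S e := by
  unfold xe ye
  rw [← Subgroup.coe_mul, ← Subgroup.coe_mul, ← map_mul, ← map_mul, q_rel2]

theorem xe_rel3 : ye S e * xe S e = xe S e * xe S e * xe S e * ye S e := by
  unfold xe ye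
  rw [← Subgroup.coe_mul, ← Subgroup.coe_mul, ← Subgroup.coe_mul, ← Subgroup.coe_mul, ← map_mul,
    ← map_mul, ← map_mul, ← map_mul, q_rel3]

theorem e_xe : e ⟨xe S e, xe_mem S e⟩ = a 1 := by
  have : (⟨xe S e, xe_mem S e⟩ : S) = e.symm (a 1) := Subtype.ext rfl
  rw [this, e.apply_symm_apply]

theorem xe_sq_ne : xe S e * xe S e ≠ 1 := by
  intro h
  have h1 : (⟨xe S e, xe_mem S e⟩ : S) ^ 2 = 1 := by
    apply Subtype.ext
    rw [Subgroup.coe_pow, pow_two]
    exact h
  have h2 := congrArg e h1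
  rw [map_pow, e_xe, map_one] at h2
  exact q_rel4 h2

theorem orderOf_xe : orderOf (xe S e) = 4 := by
  have h1 : xe S e ^ 4 = 1 := by
    rw [← xe_rel1 S e]
    simp only [pow_succ, pow_zero, one_mul]
  have h2 := orderOf_dvd_of_pow_eq_one h1
  have h3 : orderOf (xe S e) ∣ 2 ^ 2 := by simpa using h2
  obtain ⟨k, hk, hk'⟩ := (Nat.dvd_prime_pow Nat.prime_two).mp h3
  have h4 : ¬ orderOf (xe S e) ∣ 2 := by
    intro h
    have := orderOf_dvd_iff_pow_eq_one.mp h
    rw [pow_two] at this
    exact xe_sq_ne S e this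
  interval_cases k
  · rw [hk'] at h4; exact absurd (one_dvd 2) h4
  · rw [hk'] at h4; exact absurd (dvd_refl 2) h4
  · rw [hk']; norm_num

theorem orderOf_xe_sq : orderOf (xe S e * xe S e) = 2 := by
  apply orderOf_eq_prime
  · rw [pow_two, ← mul_assoc]
    exact xe_rel1 S e
  · exact xe_sq_ne S e

/-- An involution of `S` is `x²`. -/
theorem eq_sq_of_involution {s : G} (hs : s ∈ S) (h2 : orderOf s = 2) : s = xe S e * xe S e := by
  have h1 : e ⟨s, hs⟩ ^ 2 = 1 := by
    rw [← map_pow]
    have : (⟨s, hs⟩ : S) ^ 2 = 1 := by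
      apply Subtype.ext
      rw [Subgroup.coe_pow, ← h2, pow_orderOf_eq_one]
      rfl
    rw [this, map_one]
  rcases q_invol _ h1 with h | h
  · exfalso
    have : (⟨s, hs⟩ : S) = 1 := e.injective (by rw [h, map_one])
    have : s = 1 := congrArg Subtype.val this
    rw [this, orderOf_one] at h2
    norm_num at h2
  · have h3 : e (⟨xe S e, xe_mem S e⟩ * ⟨xe S e, xe_mem S e⟩) = a 2 := by
      rw [map_mul, e_xe]
      decide
    have := e.injective (h.trans h3.symm)
    exact congrArg Subtype.val this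

include e in
/-- An element of order four of `S` commuting with another one is equal or inverse to it. -/
theorem eq_or_eq_inv_of_commute {q z : G} (hq : q ∈ S) (hz : z ∈ S) (hq4 : orderOf q = 4)
    (hz4 : orderOf z = 4) (hc : q * z = z * q) : q = z ∨ q = z⁻¹ := by
  have key : ∀ w : G, ∀ hw : w ∈ S, orderOf w = 4 → e ⟨w, hw⟩ ^ 2 ≠ 1 := by
    intro w hw hw4 h
    rw [← map_pow] at h
    have h1 : (⟨w, hw⟩ : S) ^ 2 = 1 := e.injective (by rw [h, map_one])
    have h2 : w ^ 2 = 1 := by
      have := congrArg Subtype.val h1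
      simpa using this
    have := orderOf_dvd_of_pow_eq_one h2
    rw [hw4] at this
    norm_num at this
  have hc' : e ⟨q, hq⟩ * e ⟨z, hz⟩ = e ⟨z, hz⟩ * e ⟨q, hq⟩ := by
    rw [← map_mul, ← map_mul]
    congr 1
    exact Subtype.ext hc
  rcases q_cent' _ _ (key z hz hz4) (key q hq hq4) hc' with h | h
  · left
    exact congrArg Subtype.val (e.injective h)
  · right
    rw [← map_inv] at h
    have := congrArg Subtype.val (e.injective h)
    simpa using this

include e in
/-- Every element of order four of `S` is inverted by an element of `S`. -/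
theorem exists_inverting {q : G} (hq : q ∈ S) (hq4 : orderOf q = 4) :
    ∃ r ∈ S, r * q * r⁻¹ = q⁻¹ := by
  have h1 : e ⟨q, hq⟩ ^ 2 ≠ 1 := by
    intro h
    rw [← map_pow] at h
    have h1 : (⟨q, hq⟩ : S) ^ 2 = 1 := e.injective (by rw [h, map_one])
    have h2 : q ^ 2 = 1 := by
      have := congrArg Subtype.val h1
      simpa using this
    have := orderOf_dvd_of_pow_eq_one h2
    rw [hq4] at this
    norm_num at this
  obtain ⟨r, hr⟩ := q_inv_conj _ h1
  refine ⟨(e.symm r : G), (e.symm r).2, ?_⟩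
  have h2 : e.symm r * ⟨q, hq⟩ * (e.symm r)⁻¹ = (⟨q, hq⟩ : S)⁻¹ := by
    apply e.injective
    rw [map_mul, map_mul, map_inv, map_inv, e.apply_symm_apply, hr]
  have := congrArg Subtype.val h2
  simpa using this

end basic

section sylow

variable [Finite G] (S : Sylow 2 G) (e : (S : Subgroup G) ≃* QuaternionGroup 2)

omit [Finite G] in
theorem orderOf_conj (g z : G) : orderOf (g * z * g⁻¹) = orderOf z := by
  have := (MulAut.conj g).orderOf_eq z
  rwa [MulAut.conj_apply] at this

/-- If `S` has no normal complement, every element of order four is conjugate to `x`. -/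
theorem isConj_xe_of_orderOf_eq_four
    (hnc : ∀ N : Subgroup G, N.Normal → ¬ Subgroup.IsComplement' N (S : Subgroup G))
    (g : G) (hg : orderOf g = 4) : IsConj (xe (S : Subgroup G) e) g := by
  have : Fact (Nat.Prime 2) := ⟨Nat.prime_two⟩
  have hP : IsPGroup 2 (Subgroup.zpowers g) :=
    IsPGroup.of_card (n := 2) (by rw [Nat.card_zpowers, hg]; norm_num)
  obtain ⟨Q, hQ⟩ := hP.exists_le_sylow
  obtain ⟨h, hh⟩ := MulAction.exists_smul_eq G S Q
  have hgQ : g ∈ (Q : Subgroup G) := hQ (Subgroup.mem_zpowers g)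
  rw [← hh, Cfsg.Agent.H2.mem_sylow_smul_iff] at hgQ
  set g' := h⁻¹ * g * h with hg'
  have hg'4 : orderOf g' = 4 := by
    have := orderOf_conj h⁻¹ g
    rw [inv_inv] at this
    rw [hg', this, hg]
  set x := xe (S : Subgroup G) e with hx
  have hxS : x ∈ (S : Subgroup G) := xe_mem _ e
  have hx4 : orderOf x = 4 := orderOf_xe _ e
  obtain ⟨n, hn, hB⟩ := Cfsg.Agent.S0950.result S e hnc (Subgroup.zpowers x) (Subgroup.zpowers g')
    (by rw [Subgroup.zpowers_le]; exact hxS) (by rw [Subgroup.zpowers_le]; exact hgQ)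
    (by rw [Nat.card_zpowers, hx4]) (by rw [Nat.card_zpowers, hg'4])
  set z := n * x * n⁻¹ with hz
  have hzB : z ∈ Subgroup.zpowers g' := by
    rw [hB]
    exact Cfsg.Agent.H2.conj_mem_map_conj _ n (Subgroup.mem_zpowers x)
  have hzS : z ∈ (S : Subgroup G) := by
    rw [Subgroup.mem_normalizer_iff] at hn
    exact (hn x).mp hxS
  have hz4 : orderOf z = 4 := by rw [hz, orderOf_conj, hx4]
  have hcomm : z * g' = g' * z := by
    obtain ⟨k, hk⟩ := Subgroup.mem_zpowers_iff.mp hzB
    rw [← hk]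
    exact ((Commute.refl g').zpow_left k).eq
  have hxz : IsConj x z := isConj_iff.mpr ⟨n, rfl⟩
  have hzg' : IsConj z g' := by
    rcases eq_or_eq_inv_of_commute (S : Subgroup G) e hzS hgQ hz4 hg'4 hcomm with h1 | h1
    · rw [h1]
    · obtain ⟨r, -, hr⟩ := exists_inverting (S : Subgroup G) e hgQ hg'4
      rw [h1, ← hr]
      exact (isConj_iff.mpr ⟨r, rfl⟩).symm
  have hg'g : IsConj g' g := isConj_iff.mpr ⟨h, by rw [hg']; group⟩
  exact (hxz.trans hzg').trans hg'g

/-- A `2`-subgroup of the centralizer of `x` containing `x` is `⟨x⟩`. -/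
theorem le_zpowers_of_le_centralizer (P : Subgroup G) (hP : IsPGroup 2 P)
    (hxP : xe (S : Subgroup G) e ∈ P)
    (hPC : P ≤ Subgroup.centralizer ({xe (S : Subgroup G) e} : Set G)) :
    P ≤ Subgroup.zpowers (xe (S : Subgroup G) e) := by
  have : Fact (Nat.Prime 2) := ⟨Nat.prime_two⟩
  obtain ⟨Q, hQ⟩ := hP.exists_le_sylow
  obtain ⟨h, hh⟩ := MulAction.exists_smul_eq G S Q
  set x := xe (S : Subgroup G) e with hx
  have hx4 : orderOf x = 4 := orderOf_xe _ e
  intro p hp
  have hpQ := hQ hp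
  have hxQ := hQ hxP
  rw [← hh, Cfsg.Agent.H2.mem_sylow_smul_iff] at hpQ hxQ
  have hcomm : p * x = x * p := by
    have := Subgroup.mem_centralizer_iff.mp (hPC hp) x (Set.mem_singleton x)
    exact this.symm
  -- transport to `S`
  set p' := h⁻¹ * p * h with hp'
  set x' := h⁻¹ * x * h with hx'
  have hx'4 : orderOf x' = 4 := by
    have := orderOf_conj h⁻¹ x
    rw [inv_inv] at this
    rw [hx', this, hx4]
  have hcomm' : p' * x' = x' * p' := by
    rw [hp', hx']
    calc h⁻¹ * p * h * (h⁻¹ * x * h) = h⁻¹ * (p * x) * h := by group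
      _ = h⁻¹ * (x * p) * h := by rw [hcomm]
      _ = h⁻¹ * x * h * (h⁻¹ * p * h) := by group
  have hx'2 : e ⟨x', hxQ⟩ ^ 2 ≠ 1 := by
    intro h1
    rw [← map_pow] at h1
    have h2 : (⟨x', hxQ⟩ : (S : Subgroup G)) ^ 2 = 1 := e.injective (by rw [h1, map_one])
    have h3 : x' ^ 2 = 1 := by
      have := congrArg Subtype.val h2
      simpa using this
    have := orderOf_dvd_of_pow_eq_one h3
    rw [hx'4] at this
    norm_num at this
  have hc' : e ⟨p', hpQ⟩ * e ⟨x', hxQ⟩ = e ⟨x', hxQ⟩ * e ⟨p', hpQ⟩ := by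
    rw [← map_mul, ← map_mul]
    congr 1
    exact Subtype.ext hcomm'
  have hmem : p' ∈ Subgroup.zpowers x' := by
    rcases q_cent _ _ hx'2 hc' with h1 | h1 | h1 | h1
    · have : (⟨p', hpQ⟩ : (S : Subgroup G)) = 1 := e.injective (by rw [h1, map_one])
      have : p' = 1 := congrArg Subtype.val this
      rw [this]; exact one_mem _
    · have := congrArg Subtype.val (e.injective h1)
      simp only at this
      rw [this]; exact Subgroup.mem_zpowers x'
    · rw [← map_pow] at h1
      have := congrArg Subtype.val (e.injective h1)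
      simp only [Subgroup.coe_pow] at this
      rw [this]; exact Subgroup.pow_mem _ (Subgroup.mem_zpowers x') 2
    · rw [← map_pow] at h1
      have := congrArg Subtype.val (e.injective h1)
      simp only [Subgroup.coe_pow] at this
      rw [this]; exact Subgroup.pow_mem _ (Subgroup.mem_zpowers x') 3
  obtain ⟨k, hk⟩ := Subgroup.mem_zpowers_iff.mp hmem
  rw [Subgroup.mem_zpowers_iff]
  refine ⟨k, ?_⟩
  have h1 : x' ^ k = h⁻¹ * x ^ k * h := by
    rw [hx']
    have := conj_zpow (a := h⁻¹) (b := x) (i := k)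
    rw [inv_inv] at this
    exact this
  have h2 : h⁻¹ * x ^ k * h = h⁻¹ * p * h := by rw [← h1, hk]
  have h3 : x ^ k = p := by
    calc x ^ k = h * (h⁻¹ * x ^ k * h) * h⁻¹ := by group
      _ = h * (h⁻¹ * p * h) * h⁻¹ := by rw [h2]
      _ = p := by group
  exact h3

/-- The centralizer of `x`: its order has `2`-part four, and its largest normal subgroup of odd
order has `2`-power index. -/
theorem centralizer_xe :
    (Nat.card (Subgroup.centralizer ({xe (S : Subgroup G) e} : Set G))).factorization 2 = 2 ∧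
    ∃ k : ℕ, (Cfsg.pPrimeCore 2 (Subgroup.centralizer ({xe (S : Subgroup G) e} : Set G))).index
      = 2 ^ k := by
  have hfact : Fact (Nat.Prime 2) := ⟨Nat.prime_two⟩
  set x := xe (S : Subgroup G) e with hx
  have hx4 : orderOf x = 4 := orderOf_xe _ e
  set C := Subgroup.centralizer ({x} : Set G) with hC
  have hxC : x ∈ C := by
    rw [hC, Subgroup.mem_centralizer_iff]
    intro y hy
    rw [Set.mem_singleton_iff] at hy
    rw [hy]
  -- the central subgroup generated by `x` in `C`
  set x' : C := ⟨x, hxC⟩ with hx'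
  have hx'4 : orderOf x' = 4 := by rw [hx', Subgroup.orderOf_mk, hx4]
  have hcentral : ∀ c : C, c * x' = x' * c := by
    intro c
    apply Subtype.ext
    have := Subgroup.mem_centralizer_iff.mp c.2 x (Set.mem_singleton x)
    simpa using this.symm
  have hZn : (Subgroup.zpowers x').Normal := by
    constructor
    intro z hz c
    obtain ⟨k, rfl⟩ := Subgroup.mem_zpowers_iff.mp hz
    have hc : Commute c x' := hcentral c
    have : c * x' ^ k * c⁻¹ = x' ^ k := by
      rw [(hc.zpow_right k).eq, mul_inv_cancel_right]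
    rw [this]
    exact Subgroup.zpow_mem _ (Subgroup.mem_zpowers x') k
  have hZ2 : IsPGroup 2 (Subgroup.zpowers x') :=
    IsPGroup.of_card (n := 2) (by rw [Nat.card_zpowers, hx'4]; norm_num)
  obtain ⟨P⟩ : Nonempty (Sylow 2 C) := inferInstance
  have hZP : Subgroup.zpowers x' ≤ (P : Subgroup C) := hZ2.le_sylow_of_normal P
  have hPle : (P : Subgroup C) ≤ Subgroup.zpowers x' := by
    have h1 := le_zpowers_of_le_centralizer S e ((P : Subgroup C).map C.subtype)
      (P.isPGroup'.map C.subtype) ⟨x', hZP (Subgroup.mem_zpowers x'), rfl⟩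
      (Subgroup.map_subtype_le _)
    intro p hp
    have h2 := h1 ⟨p, hp, rfl⟩
    obtain ⟨k, hk⟩ := Subgroup.mem_zpowers_iff.mp h2
    rw [Subgroup.mem_zpowers_iff]
    refine ⟨k, ?_⟩
    apply Subtype.ext
    rw [Subgroup.coe_zpow]
    exact hk
  have hPeq : (P : Subgroup C) = Subgroup.zpowers x' := le_antisymm hPle hZP
  have hPcard : Nat.card (P : Subgroup C) = 4 := by rw [hPeq, Nat.card_zpowers, hx'4]
  have hfac : (Nat.card C).factorization 2 = 2 := by
    have h1 := P.card_eq_multiplicity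
    rw [hPcard] at h1
    have h2 : (2 : ℕ) ^ 2 = 2 ^ (Nat.card C).factorization 2 := by rw [← h1]; norm_num
    exact (Nat.pow_right_injective (le_refl 2) h2).symm
  refine ⟨hfac, ?_⟩
  have hcyc : IsCyclic (P : Subgroup C) := by
    rw [hPeq]; infer_instance
  have hmin : (Nat.card C).minFac = 2 := by
    rw [Nat.minFac_eq_two_iff]
    have h1 : Nat.card (P : Subgroup C) ∣ Nat.card C := Subgroup.card_subgroup_dvd_card _
    rw [hPcard] at h1
    exact (by norm_num : 2 ∣ 4).trans h1
  have hcompl := IsCyclic.isComplement' hmin (P := P) hcyc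
  set K₀ := (MonoidHom.transferSylow P (hcyc.normalizer_le_centralizer hmin)).ker with hK₀
  have hK₀n : K₀.Normal := by rw [hK₀]; infer_instance
  have hidx : K₀.index = 4 := by rw [hcompl.symm.index_eq_card, hPcard]
  have hK₀card : (Nat.card K₀).Coprime 2 := by
    have h1 := hcompl.card_mul_card
    have h2 : ¬ 2 ∣ Nat.card K₀ := by
      intro hd
      have h3 : 2 ^ 3 ∣ Nat.card C := by
        rw [← h1, hPcard]
        obtain ⟨c, hc⟩ := hd
        rw [hc]
        exact ⟨c, by ring⟩
      have h4 := (Nat.Prime.pow_dvd_iff_le_factorization Nat.prime_two Nat.card_pos.ne').mp h3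
      omega
    exact ((Nat.Prime.coprime_iff_not_dvd Nat.prime_two).mpr h2).symm
  have hle := Cfsg.Agent.H1.le_pPrimeCore hK₀n hK₀card
  have hdvd := Subgroup.index_dvd_of_le hle
  rw [hidx] at hdvd
  have : (Cfsg.pPrimeCore 2 C).index ∣ 2 ^ 2 := by simpa using hdvd
  obtain ⟨k, -, hk⟩ := (Nat.dvd_prime_pow Nat.prime_two).mp this
  exact ⟨k, hk⟩

end sylow

end Cfsg.Agent.H2.BSQ8
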