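import Mathlib
import Cfsg.Prelude.Def_Characters
import Cfsg.Agent.Lib.helper3.FrobSchur
import Cfsg.Agent.Lib.helper3.Irr13
import Cfsg.Agent.H2.BSEigen
import Cfsg.Agent.H2.BSQ8Group

/-!
# The arithmetic data of a character restricted to a quaternion subgroup of order 8
-/

set_option autoImplicit false

namespace Cfsg.Agent.H2.BSQ8

open Cfsg QuaternionGroup Matrix Complex
open Cfsg.Agent.Lib.helper3.FS Cfsg.Agent.Lib.helper3.Irr Cfsg.Agent.Lib.helper3.IndFun
open scoped ComplexConjugate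

/-- An explicit enumeration of the quaternion group of order 8. -/
def q8Equiv : ZMod 4 ⊕ ZMod 4 ≃ QuaternionGroup 2 where
  toFun s := match s with
    | Sum.inl i => a i
    | Sum.inr i => xa i
  invFun q := match q with
    | a i => Sum.inl i
    | xa i => Sum.inr i
  left_inv := by rintro (i | i) <;> rfl
  right_inv := by rintro (i | i) <;> rfl

theorem q8_sum (F : QuaternionGroup 2 → ℂ) :
    ∑ q : QuaternionGroup 2, F q = F (a 0) + F (a 1) + F (a 2) + F (a 3) + F (xa 0) + F (xa 1)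
      + F (xa 2) + F (xa 3) := by
  rw [← Equiv.sum_comp q8Equiv F, Fintype.sum_sum_type]
  have h4 : ∀ H : ZMod 4 → ℂ, ∑ i : ZMod 4, H i = H 0 + H 1 + H 2 + H 3 := by
    intro H
    exact Fin.sum_univ_four H
  rw [h4, h4]
  simp only [q8Equiv, Equiv.coe_fn_mk]
  ring

variable {G : Type*} [Group G]

theorem orderOf_eq_four_of {g : G} (h4 : g ^ 4 = 1) (h2 : g ^ 2 ≠ 1) : orderOf g = 4 := by
  have h3 : orderOf g ∣ 2 ^ 2 := by
    have := orderOf_dvd_of_pow_eq_one h4
    simpa using this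
  obtain ⟨k, hk, hk'⟩ := (Nat.dvd_prime_pow Nat.prime_two).mp h3
  have h5 : ¬ orderOf g ∣ 2 := fun h => h2 (orderOf_dvd_iff_pow_eq_one.mp h)
  interval_cases k
  · rw [hk'] at h5; exact absurd (one_dvd 2) h5
  · rw [hk'] at h5; exact absurd (dvd_refl 2) h5
  · rw [hk']; norm_num

/-- The elements of `S` outside `⟨x²⟩` have order four. -/
theorem orderOf_symm_eq_four (S : Subgroup G) (e : S ≃* QuaternionGroup 2) (q : QuaternionGroup 2)
    (hq : q ^ 2 ≠ 1) : orderOf ((e.symm q : S) : G) = 4 := by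
  apply orderOf_eq_four_of
  · rw [← Subgroup.coe_pow, ← map_pow, q_four, map_one, Subgroup.coe_one]
  · intro h
    rw [← Subgroup.coe_pow, ← map_pow] at h
    have h1 : e.symm (q ^ 2) = 1 := Subtype.ext h
    have h2 : q ^ 2 = 1 := by
      have := congrArg e h1
      rwa [e.apply_symm_apply, map_one] at this
    exact hq h2

/-- The numerical data of an irreducible character constant on the elements of order four of a
quaternion subgroup `S` of order 8. -/
theorem char_data [Fintype G] (S : Subgroup G) (e : S ≃* QuaternionGroup 2) (χ : G → ℂ)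
    (hχ : IsIrrCharacter G χ)
    (hconst : ∀ s ∈ S, orderOf s = 4 → χ s = χ (xe S e)) :
    ∃ (n k : ℕ) (c m : ℤ), 0 < n ∧ χ 1 = n ∧ χ (xe S e) = c ∧
      χ (xe S e * xe S e) = (n : ℂ) - 4 * (k : ℂ) ∧ (n : ℤ) = 4 * m + c + 2 * k := by
  classical
  have hχc := isCharacter_of_isIrrCharacter hχ
  set x := xe S e with hx
  -- the sum over `S`
  obtain ⟨m₀, hm₀⟩ := exists_nat_classInner_of_isCharacter_of_isCharacter
    (isCharacter_comp hχc (S.subtype.comp e.symm.toMonoidHom))
    (isCharacter_of_isIrrCharacter (isIrrCharacter_one (G := QuaternionGroup 2)))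
  rw [classInner_apply, q8_sum] at hm₀
  simp only [map_one, mul_one, MonoidHom.coe_comp, Function.comp_apply, Subgroup.coe_subtype,
    MulEquiv.coe_toMonoidHom] at hm₀
  have ha0 : ((e.symm (a 0) : S) : G) = 1 := by
    have : (a 0 : QuaternionGroup 2) = 1 := rfl
    rw [this, map_one, Subgroup.coe_one]
  have ha1 : ((e.symm (a 1) : S) : G) = x := rfl
  have ha2 : ((e.symm (a 2) : S) : G) = x * x := by
    have : (a 2 : QuaternionGroup 2) = a 1 * a 1 := by decide
    rw [this, map_mul, Subgroup.coe_mul]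
    rfl
  have hval : ∀ q : QuaternionGroup 2, q ^ 2 ≠ 1 → χ ((e.symm q : S) : G) = χ x := by
    intro q hq
    exact hconst _ (e.symm q).2 (orderOf_symm_eq_four S e q hq)
  rw [ha0, ha1, ha2, hval (a 3) (by decide), hval (xa 0) (by decide), hval (xa 1) (by decide),
    hval (xa 2) (by decide), hval (xa 3) (by decide)] at hm₀
  have hcardQ : (Nat.card (QuaternionGroup 2) : ℂ) = 8 := by
    rw [Nat.card_eq_fintype_card, QuaternionGroup.card]; norm_num
  rw [hcardQ] at hm₀
  -- the representation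
  obtain ⟨n, ρ, hirr, hρ⟩ := hχ
  have hn1 : χ 1 = n := by
    rw [← hρ, Representation.char_one]; simp
  have hnpos : 0 < n := by
    obtain ⟨d, hd, hd'⟩ := exists_pos_nat_apply_one (⟨n, ρ, hirr, hρ⟩ : IsIrrCharacter G χ)
    rw [hn1] at hd'
    have : n = d := by exact_mod_cast hd'
    rw [this]; exact hd
  set X := R ρ x with hX
  have hX4 : X * X * X * X = 1 := by
    rw [hX, ← Cfsg.Agent.Lib.helper3.FS.R_mul ρ, ← Cfsg.Agent.Lib.helper3.FS.R_mul ρ,
      ← Cfsg.Agent.Lib.helper3.FS.R_mul ρ, xe_rel1 S e, R_one]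
  have htr1 : X.trace = χ x := by rw [hX, trace_R, hρ]
  have htr2 : (X * X).trace = χ (x * x) := by
    rw [hX, ← Cfsg.Agent.Lib.helper3.FS.R_mul ρ, trace_R, hρ]
  have htr3 : (X * X * X).trace = χ x := by
    rw [hX, ← Cfsg.Agent.Lib.helper3.FS.R_mul ρ, ← Cfsg.Agent.Lib.helper3.FS.R_mul ρ, trace_R, hρ]
    have h3 : x * x * x = ((e.symm (a 3) : S) : G) := by
      have : (a 3 : QuaternionGroup 2) = a 1 * a 1 * a 1 := by decide
      rw [this, map_mul, map_mul, Subgroup.coe_mul, Subgroup.coe_mul]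
      rfl
    rw [h3]
    exact hval (a 3) (by decide)
  have hp := BSEigen.finrank_Elam (lam := 1) hX4 (by norm_num)
  have hq := BSEigen.finrank_Elam (lam := -1) hX4 (by norm_num)
  have hk := BSEigen.finrank_Elam (lam := I) hX4 (by
    rw [show (4 : ℕ) = 2 * 2 by norm_num, pow_mul, I_sq]; norm_num)
  rw [htr1, htr2, htr3] at hp hq hk
  set p := Module.finrank ℂ (BSEigen.Elam X 1) with hpdef
  set q := Module.finrank ℂ (BSEigen.Elam X (-1)) with hqdef
  set k := Module.finrank ℂ (BSEigen.Elam X I) with hkdef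
  have hc : χ x = ((p : ℤ) - (q : ℤ) : ℤ) := by
    push_cast
    linear_combination (-(1 / 4) : ℂ) * hp + (1 / 4 : ℂ) * hq
  have ht : χ (x * x) = (n : ℂ) - 4 * (k : ℂ) := by
    have hI3 : I ^ 3 = -I := by
      rw [show (3 : ℕ) = 2 + 1 by norm_num, pow_succ, I_sq]; ring
    rw [hI3, I_sq] at hk
    linear_combination hk
  refine ⟨n, k, (p : ℤ) - (q : ℤ), (m₀ : ℤ) - ((p : ℤ) - (q : ℤ)), hnpos, hn1, hc, ht, ?_⟩
  have h8 : ((n : ℤ) : ℂ) = ((4 * ((m₀ : ℤ) - ((p : ℤ) - (q : ℤ))) + ((p : ℤ) - (q : ℤ)) + 2 * k : ℤ) : ℂ) := by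
    rw [hn1, ht, hc] at hm₀
    push_cast at hm₀ ⊢
    linear_combination (4 : ℂ) * hm₀
  exact_mod_cast h8

end Cfsg.Agent.H2.BSQ8
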