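import Mathlib

/-!
# Centralizers in `QuaternionGroup n × M` (helper2)

Non-central elements of `Q_{4n} × M` (`M` cyclic of order prime to `2n`)
have cyclic centralizers.
-/

set_option autoImplicit false
set_option linter.style.haveILetI false
set_option linter.unusedSectionVars false
set_option linter.unusedVariables false

namespace Cfsg.Agent.H2.QuatCent

open QuaternionGroup

variable {n : ℕ} [NeZero n]

theorem eq_zero_or_eq_n (j : ZMod (2 * n)) (h : j + j = 0) : j = 0 ∨ j = (n : ZMod (2 * n)) := by
  have hpos : 0 < n := NeZero.pos n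
  have h1 : (j + j).val = 0 := by rw [h, ZMod.val_zero]
  rw [ZMod.val_add] at h1
  have hlt : j.val < 2 * n := ZMod.val_lt j
  have h2 : 2 * n ∣ j.val + j.val := Nat.dvd_of_mod_eq_zero h1
  have h3 : j.val = 0 ∨ j.val = n := by
    obtain ⟨c, hc⟩ := h2
    have : c = 0 ∨ c = 1 := by
      rcases c with _ | _ | c
      · left; rfl
      · right; rfl
      · exfalso; nlinarith
    rcases this with rfl | rfl
    · left; omega
    · right; omega
  rcases h3 with h3 | h3
  · left; exact (ZMod.val_eq_zero j).1 h3
  · right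
    have := ZMod.natCast_zmod_val j
    rw [h3] at this
    exact this.symm

theorem n_add_n : ((n : ZMod (2 * n)) + n) = 0 := by
  have : ((2 * n : ℕ) : ZMod (2 * n)) = 0 := ZMod.natCast_self _
  push_cast at this
  rw [← this]; ring

/-- `xa j` commutes with `a i` only when `2 i = 0` -/
theorem two_mul_eq_zero_of_comm_a_xa (i j : ZMod (2 * n)) (h : xa j * a i = a i * xa j) :
    i + i = 0 := by
  rw [xa_mul_a, a_mul_xa] at h
  have h1 : j + i = j - i := by injection h
  have h2 : i + i = (j + i) - (j - i) := by ring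
  rw [h2, h1, sub_self]

/-- elements commuting with `xa i` lie in `⟨xa i⟩` -/
theorem mem_zpowers_xa_of_comm (i : ZMod (2 * n)) (q : QuaternionGroup n) (h : q * xa i = xa i * q) :
    q ∈ Subgroup.zpowers (xa i : QuaternionGroup n) := by
  have hsq : (xa i : QuaternionGroup n) ^ 2 = a n := xa_sq i
  have hcube : (xa i : QuaternionGroup n) ^ 3 = xa (i + (n : ZMod (2 * n))) := by
    rw [pow_succ, hsq, a_mul_xa]
    congr 1
    have := n_add_n (n := n)
    linear_combination (-1 : ZMod (2 * n)) * this
  rcases q with j | j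
  · rw [a_mul_xa, xa_mul_a] at h
    have h1 : i - j = i + j := by injection h
    have h2 : j + j = (i + j) - (i - j) := by ring
    rw [← h1, sub_self] at h2
    rcases eq_zero_or_eq_n j h2 with rfl | rfl
    · rw [a_zero]; exact Subgroup.one_mem _
    · rw [← hsq]; exact Subgroup.pow_mem _ (Subgroup.mem_zpowers _) 2
  · rw [xa_mul_xa, xa_mul_xa] at h
    have h1 : (n : ZMod (2 * n)) + i - j = n + j - i := by injection h
    have h2 : (j - i) + (j - i) = (n + j - i) - (n + i - j) := by ring
    rw [← h1, sub_self] at h2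
    rcases eq_zero_or_eq_n (j - i) h2 with h3 | h3
    · have : j = i := by rw [← sub_eq_zero]; exact h3
      rw [this]; exact Subgroup.mem_zpowers _
    · have : j = i + (n : ZMod (2 * n)) := by rw [← h3]; ring
      rw [this, ← hcube]; exact Subgroup.pow_mem _ (Subgroup.mem_zpowers _) 3

theorem isCyclic_prod_top {Q M : Type*} [Group Q] [Group M] [Finite Q] [Finite M] [IsCyclic M]
    (g : Q) (hcop : (orderOf g).Coprime (Nat.card M)) :
    IsCyclic ↥((Subgroup.zpowers g).prod (⊤ : Subgroup M)) := by
  rw [(Subgroup.prodEquiv (Subgroup.zpowers g) (⊤ : Subgroup M)).isCyclic, Group.isCyclic_prod_iff]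
  refine ⟨inferInstance, ?_, ?_⟩
  · exact (Subgroup.topEquiv (G := M)).isCyclic.2 inferInstance
  · rw [Nat.card_zpowers, Nat.card_congr (Subgroup.topEquiv (G := M)).toEquiv]
    exact hcop

theorem exists_cyclic_ge_centralizer (k m : ℕ) (hm : Odd m)
    (t : QuaternionGroup (2 ^ k) × Multiplicative (ZMod m))
    (ht : t ∉ Subgroup.center (QuaternionGroup (2 ^ k) × Multiplicative (ZMod m))) :
    ∃ D : Subgroup (QuaternionGroup (2 ^ k) × Multiplicative (ZMod m)),
      IsCyclic D ∧ Subgroup.centralizer {t} ≤ D := by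
  haveI : NeZero m := ⟨fun h => by rw [h] at hm; exact absurd hm (by decide)⟩
  have hcardM : Nat.card (Multiplicative (ZMod m)) = m := by
    rw [Nat.card_congr Multiplicative.toAdd, Nat.card_zmod]
  have hcop2 : Nat.Coprime 2 m := (Nat.coprime_two_left).2 hm
  obtain ⟨q, c⟩ := t
  rcases q with i | i
  · -- `t = (a i, c)`
    have hi : i + i ≠ 0 := by
      intro h0
      apply ht
      rw [Subgroup.mem_center_iff]
      rintro ⟨q', c'⟩
      refine Prod.ext ?_ (mul_comm _ _)
      show q' * a i = a i * q'
      rcases q' with j | j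
      · rw [a_mul_a, a_mul_a, add_comm]
      · rw [xa_mul_a, a_mul_xa]
        congr 1
        linear_combination h0
    refine ⟨(Subgroup.zpowers (a 1 : QuaternionGroup (2 ^ k))).prod ⊤, ?_, ?_⟩
    · apply isCyclic_prod_top
      rw [orderOf_a_one, hcardM, ← pow_succ']
      exact Nat.Coprime.pow_left _ hcop2
    · rintro ⟨q', c'⟩ hy
      rw [Subgroup.mem_centralizer_iff] at hy
      have h1 := hy _ (Set.mem_singleton _)
      have h2 : a i * q' = q' * a i := congrArg Prod.fst h1
      rw [Subgroup.mem_prod]
      refine ⟨?_, Subgroup.mem_top _⟩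
      rcases q' with j | j
      · show a j ∈ Subgroup.zpowers (a 1 : QuaternionGroup (2 ^ k))
        have : (a 1 : QuaternionGroup (2 ^ k)) ^ j.val = a j := by
          rw [a_one_pow, ZMod.natCast_zmod_val]
        rw [← this]
        exact Subgroup.pow_mem _ (Subgroup.mem_zpowers _) _
      · exact absurd (two_mul_eq_zero_of_comm_a_xa i j h2.symm) hi
  · -- `t = (xa i, c)`
    refine ⟨(Subgroup.zpowers (xa i : QuaternionGroup (2 ^ k))).prod ⊤, ?_, ?_⟩
    · apply isCyclic_prod_top
      rw [orderOf_xa, hcardM]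
      exact Nat.Coprime.pow_left 2 hcop2
    · rintro ⟨q', c'⟩ hy
      rw [Subgroup.mem_centralizer_iff] at hy
      have h1 := hy _ (Set.mem_singleton _)
      have h2 : xa i * q' = q' * xa i := congrArg Prod.fst h1
      rw [Subgroup.mem_prod]
      exact ⟨mem_zpowers_xa_of_comm i q' h2.symm, Subgroup.mem_top _⟩

end Cfsg.Agent.H2.QuatCent
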