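import Mathlib
import Cfsg.Prelude.Def_Transfer
import Cfsg.Prelude.Def_Local
import Cfsg.Agent.Lib.Lead.ConjAut
import Cfsg.Agent.Lib.Lead.NormalPComplement
import Cfsg.Agent.H1.SchmidtStructure
import Cfsg.Agent.H2.SylowProduct

/-!
# Groups with cyclic Sylow `p`-subgroups (helper2)

`CycP p G`: every `p`-subgroup of `G` is cyclic.  Closed under subgroups and quotients.
Main results: `hasNormalPComplement_of_normal` and `isPSolvable_of_normal` (a normal subgroup `H`
with `p ∣ |H|` and `p ∣ |G:H|` has a normal `p`-complement, and `G` is `p`-solvable).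
-/

set_option autoImplicit false
set_option linter.style.haveILetI false
set_option linter.unusedSectionVars false
set_option linter.unusedVariables false

namespace Cfsg.Agent.H2.CycSyl

open Cfsg Cfsg.Agent.Lib.Lead.ConjAut

/-- every `p`-subgroup is cyclic -/
def CycP (p : ℕ) (G : Type*) [Group G] : Prop := ∀ U : Subgroup G, IsPGroup p U → IsCyclic U

section basic

variable {G : Type*} [Group G] [Finite G] {p : ℕ} [hp : Fact p.Prime]

theorem cycP_of_sylow (P : Sylow p G) (hP : IsCyclic (P : Subgroup G)) : CycP p G := by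
  intro U hU
  obtain ⟨P1, hP1⟩ := hU.exists_le_sylow
  obtain ⟨g, rfl⟩ := MulAction.exists_smul_eq G P P1
  have e : (P : Subgroup G) ≃* ((g • P : Sylow p G) : Subgroup G) := Sylow.equivSMul P g
  haveI : IsCyclic ((g • P : Sylow p G) : Subgroup G) := e.isCyclic.mp hP
  exact isCyclic_of_injective (Subgroup.inclusion hP1) (Subgroup.inclusion_injective hP1)

theorem cycP_subgroup (h : CycP p G) (N : Subgroup G) : CycP p ↥N := by
  intro U hU
  have h1 : IsPGroup p (U.map N.subtype) := hU.map _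
  haveI := h _ h1
  exact (U.equivMapOfInjective N.subtype (Subgroup.subtype_injective N)).isCyclic.mpr inferInstance

theorem cycP_quotient (h : CycP p G) (M : Subgroup G) [M.Normal] : CycP p (G ⧸ M) := by
  intro U hU
  obtain ⟨P1, hP1⟩ := hU.exists_le_sylow
  obtain ⟨P, rfl⟩ := Sylow.mapSurjective_surjective (QuotientGroup.mk'_surjective M) p P1
  haveI : IsCyclic (P : Subgroup G) := h _ P.isPGroup'
  haveI : IsCyclic ((P : Subgroup G).map (QuotientGroup.mk' M)) :=
    isCyclic_of_surjective ((QuotientGroup.mk' M).subgroupMap (P : Subgroup G))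
      ((QuotientGroup.mk' M).subgroupMap_surjective _)
  have hP1' : U ≤ (P : Subgroup G).map (QuotientGroup.mk' M) := hP1
  exact isCyclic_of_injective (Subgroup.inclusion hP1') (Subgroup.inclusion_injective hP1')

/-- in a `p`-subgroup, elements of order dividing `p` lie in every nontrivial cyclic subgroup -/
theorem mem_zpowers_of_pow_p (h : CycP p G) (U : Subgroup G) (hU : IsPGroup p U) {x d : G}
    (hx : x ∈ U) (hx1 : x ≠ 1) (hd : d ∈ U) (hdp : d ^ p = 1) : d ∈ Subgroup.zpowers x := by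
  haveI := h U hU
  have h1 : (⟨d, hd⟩ : ↥U) ∈ Subgroup.zpowers (⟨x, hx⟩ : ↥U) :=
    mem_zpowers_of_pow_eq_one hU (fun h0 => hx1 (congrArg Subtype.val h0)) (Subtype.ext hdp)
  obtain ⟨k, hk⟩ := Subgroup.mem_zpowers_iff.1 h1
  exact Subgroup.mem_zpowers_iff.2 ⟨k, congrArg Subtype.val hk⟩

/-- a `p'`-element normalizing a `p`-subgroup `Q` and fixing a nontrivial element of `Q` centralizes `Q` -/
theorem centralizes_of_fix (h : CycP p G) (Q : Subgroup G) (hQ : IsPGroup p Q) (g : G)
    (hg : g ∈ Subgroup.normalizer (Q : Set G)) (hgo : (orderOf g).Coprime p) (v : G) (hvQ : v ∈ Q)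
    (hv1 : v ≠ 1) (hfix : g * v * g⁻¹ = v) : g ∈ Subgroup.centralizer (Q : Set G) := by
  haveI := h Q hQ
  obtain ⟨a, ha, hao⟩ := exists_mulAut Q g hg
  have h1 := cyclic_fix hQ a (Nat.Coprime.coprime_dvd_left hao hgo) (x := ⟨v, hvQ⟩)
    (fun h0 => hv1 (congrArg Subtype.val h0)) (Subtype.ext (by rw [ha]; exact hfix))
  rw [Subgroup.mem_centralizer_iff]
  intro y hy
  have h2 := congrArg Subtype.val (h1 ⟨y, hy⟩)
  rw [ha] at h2
  simp only at h2
  calc y * g = (g * y * g⁻¹) * g := by rw [h2]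
    _ = g * y := by group

theorem isPGroup_zpowers {X : Type*} [Group X] {r : ℕ} {g : X} {k : ℕ} (h : g ^ r ^ k = 1) :
    IsPGroup r (Subgroup.zpowers g) := by
  rintro ⟨y, hy⟩
  obtain ⟨n, rfl⟩ := Subgroup.mem_zpowers_iff.1 hy
  refine ⟨k, Subtype.ext ?_⟩
  show (g ^ n) ^ r ^ k = 1
  rw [← zpow_natCast, ← zpow_mul, mul_comm, zpow_mul, zpow_natCast, h, one_zpow]

/-- a normal Hall subgroup of a normal subgroup is normal in the whole group -/
theorem map_subtype_normal_of_coprime (C : Subgroup G) [hC : C.Normal] (K' : Subgroup ↥C) [K'.Normal]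
    (hcop : (Nat.card K').Coprime K'.index) : (K'.map C.subtype).Normal := by
  have key : ∀ x : ↥C, x ∈ K' ↔ x ^ Nat.card K' = 1 := by
    intro x
    constructor
    · intro hx
      have := pow_card_eq_one' (G := ↥K') (x := ⟨x, hx⟩)
      exact congrArg Subtype.val this
    · intro hx
      have h1 : orderOf (QuotientGroup.mk' K' x) ∣ Nat.card K' := by
        apply orderOf_dvd_of_pow_eq_one
        rw [← map_pow, hx, map_one]
      have h2 : orderOf (QuotientGroup.mk' K' x) ∣ K'.index := by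
        rw [Subgroup.index_eq_card]
        exact orderOf_dvd_natCard _
      have h3 : orderOf (QuotientGroup.mk' K' x) = 1 := Nat.eq_one_of_dvd_coprimes hcop h1 h2
      rw [orderOf_eq_one_iff] at h3
      exact (QuotientGroup.eq_one_iff x).1 h3
  constructor
  intro n hn g
  obtain ⟨x, hx, rfl⟩ := Subgroup.mem_map.1 hn
  refine Subgroup.mem_map.2 ⟨⟨g * x * g⁻¹, hC.conj_mem _ x.2 g⟩, ?_, rfl⟩
  rw [key] at hx ⊢
  apply Subtype.ext
  have h1 : (x : G) ^ Nat.card K' = 1 := by
    have := congrArg Subtype.val hx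
    simpa using this
  show (g * x * g⁻¹) ^ Nat.card K' = 1
  rw [conj_pow, h1]
  group

end basic

section frattini

/-- **Frattini step**: `N` a group with cyclic Sylow `p`-subgroups, `Q ≠ 1` a normal `p`-subgroup, `L` normal in `N`
containing an `r`-element (`r ≠ p`) which does not centralize `Q`. Then `p ∤ |N : L|`. -/
theorem not_dvd_index_of_rElement {N : Type*} [Group N] [Finite N] {p : ℕ} [hp : Fact p.Prime]
    (hc : CycP p N) (Q : Subgroup N) [hQn : Q.Normal] (hQ : IsPGroup p Q) (hQ1 : Q ≠ ⊥)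
    (L : Subgroup N) [hLn : L.Normal] (r : ℕ) [hr : Fact r.Prime] (hrp : r ≠ p) (g : N) (hgL : g ∈ L)
    (k : ℕ) (hg : g ^ r ^ k = 1) (hgQ : g ∉ Subgroup.centralizer (Q : Set N)) : ¬ p ∣ L.index := by
  intro hdvd
  have hz : IsPGroup r (Subgroup.zpowers (⟨g, hgL⟩ : ↥L)) :=
    isPGroup_zpowers (k := k) (Subtype.ext hg)
  obtain ⟨R, hR⟩ := hz.exists_le_sylow
  have hfr := Sylow.normalizer_sup_eq_top R
  obtain ⟨T, hT⟩ : ∃ T : Subgroup N, T = Subgroup.normalizer (((R : Subgroup ↥L).map L.subtype : Subgroup N) : Set N) :=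
    ⟨_, rfl⟩
  rw [← hT] at hfr
  have h1 : L.index = L.relIndex T := by
    rw [← Subgroup.relIndex_top_right, ← hfr, Subgroup.relIndex_sup_right]
  have h2 : p ∣ Nat.card T := dvd_trans (h1 ▸ hdvd) (Subgroup.relIndex_dvd_card L T)
  obtain ⟨u, hu⟩ := exists_prime_orderOf_dvd_card' p h2
  have hu1 : (u : N) ≠ 1 := by
    intro h0
    have : u = 1 := Subtype.ext h0
    rw [this, orderOf_one] at hu
    exact hp.out.one_lt.ne hu
  have hup : (u : N) ^ p = 1 := by
    have := pow_orderOf_eq_one u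
    rw [hu] at this
    exact congrArg Subtype.val this
  -- `u ∈ Q`
  have huQ : (u : N) ∈ Q := by
    obtain ⟨x, hx1⟩ := (Subgroup.ne_bot_iff_exists_ne_one (H := Q)).1 hQ1
    have hU : IsPGroup p (Q ⊔ Subgroup.zpowers (u : N) : Subgroup N) :=
      hQ.to_sup_of_normal_left (isPGroup_zpowers (k := 1) (by rw [pow_one]; exact hup))
    have h3 := mem_zpowers_of_pow_p hc _ hU (x := (x : N)) (d := (u : N))
      ((le_sup_left : Q ≤ _) x.2) (fun h0 => hx1 (Subtype.ext h0))
      ((le_sup_right : Subgroup.zpowers (u : N) ≤ _) (Subgroup.mem_zpowers _)) hup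
    exact (Subgroup.zpowers_le.2 x.2) h3
  -- `u` commutes with `g`
  have hgR : g ∈ ((R : Subgroup ↥L).map L.subtype : Subgroup N) :=
    Subgroup.mem_map.2 ⟨⟨g, hgL⟩, hR (Subgroup.mem_zpowers _), rfl⟩
  have hRp : IsPGroup r ((R : Subgroup ↥L).map L.subtype : Subgroup N) := R.isPGroup'.map _
  have hdisj := IsPGroup.disjoint_of_ne r p hrp _ _ hRp hQ
  have huT : (u : N) ∈ Subgroup.normalizer (((R : Subgroup ↥L).map L.subtype : Subgroup N) : Set N) := by
    rw [← hT]; exact u.2
  have h4 : (u : N) * g * (u : N)⁻¹ * g⁻¹ ∈ ((R : Subgroup ↥L).map L.subtype : Subgroup N) :=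
    Subgroup.mul_mem _ ((Subgroup.mem_normalizer_iff.1 huT g).1 hgR) (Subgroup.inv_mem _ hgR)
  have h5 : (u : N) * g * (u : N)⁻¹ * g⁻¹ ∈ Q := by
    have : (u : N) * g * (u : N)⁻¹ * g⁻¹ = (u : N) * (g * (u : N)⁻¹ * g⁻¹) := by group
    rw [this]
    exact Subgroup.mul_mem _ huQ (hQn.conj_mem _ (Subgroup.inv_mem _ huQ) g)
  have h6 : (u : N) * g * (u : N)⁻¹ * g⁻¹ = 1 := by
    have := Subgroup.disjoint_def.1 hdisj h4 h5
    exact this
  have hfix : g * (u : N) * g⁻¹ = u := by
    have : g * (u : N) * g⁻¹ = ((u : N) * g * (u : N)⁻¹ * g⁻¹)⁻¹ * u := by group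
    rw [this, h6]; group
  apply hgQ
  have hgn : g ∈ Subgroup.normalizer (Q : Set N) := by
    rw [Subgroup.normalizer_eq_top]; exact Subgroup.mem_top g
  have hgo : (orderOf g).Coprime p := by
    have h7 : orderOf g ∣ r ^ k := orderOf_dvd_of_pow_eq_one hg
    exact Nat.Coprime.coprime_dvd_left h7
      (((Nat.coprime_primes hr.out hp.out).2 hrp).pow_left k)
  exact centralizes_of_fix hc Q hQ g hgn hgo u huQ hu1 hfix

end frattini

section main

variable {G : Type*} [Group G] [Finite G] {p : ℕ} [hp : Fact p.Prime]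

/-- If `H ⊴ G` has index divisible by `p` and the Sylow `p`-subgroups of `G` are cyclic, then every
`p'`-element of `H` normalizing a `p`-subgroup `Q` centralizes it. -/
theorem centralizes_of_normal_dvd_index (hc : CycP p G) (H : Subgroup G) [hHn : H.Normal]
    (hidx : p ∣ H.index) (Q : Subgroup G) (hQ : IsPGroup p Q) (g : G) (hgH : g ∈ H)
    (hgN : g ∈ Subgroup.normalizer (Q : Set G)) (hgo : (orderOf g).Coprime p) :
    g ∈ Subgroup.centralizer (Q : Set G) := by
  by_contra hnot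
  have hQ1 : Q ≠ ⊥ := by
    rintro rfl
    apply hnot
    rw [Subgroup.mem_centralizer_iff]
    intro y hy
    have : y = 1 := Subgroup.mem_bot.1 hy
    rw [this]; simp
  -- reduce to an `r`-element
  have ha1 : conjAut Q ⟨g, hgN⟩ ≠ 1 := by
    intro h0
    apply hnot
    rw [Subgroup.mem_centralizer_iff]
    intro y hy
    have h1 : conjAut Q ⟨g, hgN⟩ ⟨y, hy⟩ = ⟨y, hy⟩ := by rw [h0]; rfl
    have h2 := congrArg Subtype.val h1
    rw [conjAut_apply] at h2
    simp only at h2
    calc y * g = (g * y * g⁻¹) * g := by rw [h2]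
      _ = g * y := by group
  have hao : orderOf (conjAut Q ⟨g, hgN⟩) ≠ 1 := fun h0 => ha1 (orderOf_eq_one_iff.1 h0)
  have hrprime : (orderOf (conjAut Q ⟨g, hgN⟩)).minFac.Prime := Nat.minFac_prime hao
  obtain ⟨r, hr⟩ : ∃ r, r = (orderOf (conjAut Q ⟨g, hgN⟩)).minFac := ⟨_, rfl⟩
  rw [← hr] at hrprime
  haveI : Fact r.Prime := ⟨hrprime⟩
  have hra : r ∣ orderOf (conjAut Q ⟨g, hgN⟩) := hr ▸ Nat.minFac_dvd _
  have hag : orderOf (conjAut Q ⟨g, hgN⟩) ∣ orderOf g := by
    have d1 : orderOf (conjAut Q ⟨g, hgN⟩) ∣ orderOf (⟨g, hgN⟩ : ↥(Subgroup.normalizer (Q : Set G))) :=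
      orderOf_map_dvd _ _
    rwa [Subgroup.orderOf_mk] at d1
  have hrg : r ∣ orderOf g := dvd_trans hra hag
  have hrp : r ≠ p := by
    rintro rfl
    exact hrprime.one_lt.ne' (Nat.Coprime.eq_one_of_dvd hgo.symm hrg)
  obtain ⟨e, m, hm, hn⟩ := Nat.exists_eq_pow_mul_and_not_dvd (orderOf_pos g).ne' r hrprime.one_lt.ne'
  have hg1N : g ^ m ∈ Subgroup.normalizer (Q : Set G) := Subgroup.pow_mem _ hgN m
  have hg1H : g ^ m ∈ H := Subgroup.pow_mem _ hgH m
  have hg1r : (g ^ m) ^ r ^ e = 1 := by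
    rw [← pow_mul, mul_comm, ← hn, pow_orderOf_eq_one]
  have hg1C : g ^ m ∉ Subgroup.centralizer (Q : Set G) := by
    intro hcent
    have h1 : conjAut Q ⟨g ^ m, hg1N⟩ = 1 := by
      ext q
      rw [conjAut_apply]
      have := (Subgroup.mem_centralizer_iff.1 hcent) q q.2
      show g ^ m * (q : G) * (g ^ m)⁻¹ = q
      rw [← this]; group
    have h2 : (⟨g ^ m, hg1N⟩ : ↥(Subgroup.normalizer (Q : Set G))) = ⟨g, hgN⟩ ^ m := rfl
    rw [h2, map_pow] at h1
    have h3 : orderOf (conjAut Q ⟨g, hgN⟩) ∣ m := orderOf_dvd_of_pow_eq_one h1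
    exact hm (dvd_trans hra h3)
  -- apply the Frattini step inside `N_G(Q)`
  have hQle : Q ≤ Subgroup.normalizer (Q : Set G) := Subgroup.le_normalizer
  have hQ'1 : Q.subgroupOf (Subgroup.normalizer (Q : Set G)) ≠ ⊥ := by
    intro h0
    rw [Subgroup.subgroupOf_eq_bot] at h0
    exact hQ1 (h0.eq_bot_of_le hQle)
  have hF := not_dvd_index_of_rElement (cycP_subgroup hc (Subgroup.normalizer (Q : Set G)))
    (Q.subgroupOf (Subgroup.normalizer (Q : Set G))) hQ.comap_subtype hQ'1
    (H.subgroupOf (Subgroup.normalizer (Q : Set G))) r hrp ⟨g ^ m, hg1N⟩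
    (Subgroup.mem_subgroupOf.2 hg1H) e (Subtype.ext hg1r)
    (by
      intro hcent
      apply hg1C
      rw [Subgroup.mem_centralizer_iff]
      intro y hy
      have := (Subgroup.mem_centralizer_iff.1 hcent) ⟨y, hQle hy⟩ (Subgroup.mem_subgroupOf.2 hy)
      exact congrArg Subtype.val this)
  -- a Sylow subgroup containing `Q` lies in `N_G(Q)`, hence in `H`
  obtain ⟨P1, hP1⟩ := hQ.exists_le_sylow
  haveI : IsCyclic (P1 : Subgroup G) := hc _ P1.isPGroup'
  have hP1N : (P1 : Subgroup G) ≤ Subgroup.normalizer (Q : Set G) := by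
    refine le_trans ?_ (Subgroup.centralizer_le_normalizer (s := (Q : Set G)))
    intro x hx
    rw [Subgroup.mem_centralizer_iff]
    intro y hy
    have : (⟨y, hP1 hy⟩ : ↥(P1 : Subgroup G)) * ⟨x, hx⟩ = ⟨x, hx⟩ * ⟨y, hP1 hy⟩ :=
      Std.Commutative.comm _ _
    exact congrArg Subtype.val this
  have hle : (P1 : Subgroup G).subgroupOf (Subgroup.normalizer (Q : Set G)) ≤
      H.subgroupOf (Subgroup.normalizer (Q : Set G)) :=
    Cfsg.Agent.H1.pgroup_le_normal_of_coprime_index _ _ P1.isPGroup'.comap_subtype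
      (((Nat.Prime.coprime_iff_not_dvd hp.out).2 hF).symm)
  have hP1H : (P1 : Subgroup G) ≤ H := by
    intro x hx
    have : (⟨x, hP1N hx⟩ : ↥(Subgroup.normalizer (Q : Set G))) ∈
        H.subgroupOf (Subgroup.normalizer (Q : Set G)) := hle (Subgroup.mem_subgroupOf.2 hx)
    exact Subgroup.mem_subgroupOf.1 this
  exact P1.not_dvd_index (dvd_trans hidx (Subgroup.index_dvd_of_le hP1H))

end main

section final

universe u
variable {G : Type u} [Group G] [Finite G] {p : ℕ} [hp : Fact p.Prime]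

theorem coe_mem_normalizer_map (H : Subgroup G) (Q' : Subgroup ↥H) (g : ↥H)
    (hg : g ∈ Subgroup.normalizer (Q' : Set ↥H)) :
    (g : G) ∈ Subgroup.normalizer ((Q'.map H.subtype : Subgroup G) : Set G) := by
  rw [Subgroup.mem_normalizer_iff]
  intro h
  constructor
  · intro hh
    obtain ⟨q, hq, rfl⟩ := Subgroup.mem_map.1 hh
    exact Subgroup.mem_map.2 ⟨g * q * g⁻¹, (Subgroup.mem_normalizer_iff.1 hg q).1 hq, rfl⟩
  · intro hh
    obtain ⟨q, hq, hqe⟩ := Subgroup.mem_map.1 hh
    refine Subgroup.mem_map.2 ⟨g⁻¹ * q * g, ?_, ?_⟩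
    · apply (Subgroup.mem_normalizer_iff.1 hg _).2
      have : g * (g⁻¹ * q * g) * g⁻¹ = q := by group
      rw [this]; exact hq
    · show ((g : G))⁻¹ * (H.subtype q) * (g : G) = h
      rw [hqe]; group

/-- **Part 1**: a normal subgroup of index divisible by `p` in a group with cyclic Sylow `p`-subgroups has a
normal `p`-complement. -/
theorem hasNormalPComplement_normal (hc : CycP p G) (H : Subgroup G) [H.Normal] (hidx : p ∣ H.index) :
    HasNormalPComplement p ↥H := by
  obtain ⟨PH⟩ : Nonempty (Sylow p ↥H) := inferInstance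
  apply Cfsg.Agent.Lib.Lead.NormalPComplement.hasNormalPComplement_of_p'_centralize PH
  intro Q' hQ' g hgN hgo
  have hQp : IsPGroup p (Q'.map H.subtype) := (PH.isPGroup'.to_le hQ').map _
  have hgN' := coe_mem_normalizer_map H Q' g hgN
  have hgo' : (orderOf (g : G)).Coprime p := by rwa [Subgroup.orderOf_coe]
  have h1 := centralizes_of_normal_dvd_index hc H hidx _ hQp g g.2 hgN' hgo'
  rw [Subgroup.mem_centralizer_iff] at h1 ⊢
  intro y hy
  exact Subtype.ext (h1 y (Subgroup.mem_map_of_mem _ hy))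

/-- a nontrivial element of `Q ∩ H` -/
theorem exists_mem_inf_ne_one (hc : CycP p G) (H : Subgroup G) [H.Normal] (hH : p ∣ Nat.card H)
    (Q : Subgroup G) (hQ : IsPGroup p Q) (hQ1 : Q ≠ ⊥) : ∃ v : G, v ∈ Q ∧ v ∈ H ∧ v ≠ 1 := by
  obtain ⟨P1, hP1⟩ := hQ.exists_le_sylow
  have h1 : Nat.card H = ((P1 : Subgroup G) ⊓ H).relIndex H * Nat.card ((P1 : Subgroup G) ⊓ H : Subgroup G) :=
    Cfsg.Agent.H1.card_eq_relIndex_mul_card inf_le_right
  rw [Subgroup.inf_relIndex_right] at h1
  have h2 : p ∣ Nat.card ((P1 : Subgroup G) ⊓ H : Subgroup G) := by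
    rw [h1] at hH
    rcases (Nat.Prime.dvd_mul hp.out).1 hH with h | h
    · exact absurd h (Cfsg.Agent.H2.SylProd.not_dvd_relIndex_normal H P1)
    · exact h
  obtain ⟨v, hv⟩ := exists_prime_orderOf_dvd_card' p h2
  have hv1 : (v : G) ≠ 1 := by
    intro h0
    have : v = 1 := Subtype.ext h0
    rw [this, orderOf_one] at hv
    exact hp.out.one_lt.ne hv
  have hvp : (v : G) ^ p = 1 := by
    have := pow_orderOf_eq_one v
    rw [hv] at this
    exact congrArg Subtype.val this
  obtain ⟨x, hx1⟩ := (Subgroup.ne_bot_iff_exists_ne_one (H := Q)).1 hQ1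
  have h3 := mem_zpowers_of_pow_p hc _ P1.isPGroup' (x := (x : G)) (d := (v : G)) (hP1 x.2)
    (fun h0 => hx1 (Subtype.ext h0)) (Subgroup.mem_inf.1 v.2).1 hvp
  exact ⟨v, (Subgroup.zpowers_le.2 x.2) h3, (Subgroup.mem_inf.1 v.2).2, hv1⟩

/-- **Part 2**: `G` is `p`-solvable. -/
theorem isPSolvable_of_normal (hc : CycP p G) (H : Subgroup G) [hHn : H.Normal] (hH : p ∣ Nat.card H)
    (hidx : p ∣ H.index) : IsPSolvable p G := by
  obtain ⟨M', hM'n, hM'c, k, hM'k⟩ :=
    Cfsg.Agent.Lib.Lead.NormalPComplement.exists_normal_of_hasNormalPComplement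
      (hasNormalPComplement_normal hc H hidx)
  haveI := hM'n
  have hMn : (M'.map H.subtype).Normal :=
    map_subtype_normal_of_coprime H M' (by rw [hM'k]; exact hM'c.pow_right k)
  obtain ⟨M, hM⟩ : ∃ M : Subgroup G, M = M'.map H.subtype := ⟨_, rfl⟩
  rw [← hM] at hMn
  haveI := hMn
  have hMc : (Nat.card M).Coprime p := by
    rw [hM, Subgroup.card_subtype]; exact hM'c
  have hpow : ∀ h ∈ H, h ^ p ^ k ∈ M := by
    intro h hh
    have h1 : (⟨h, hh⟩ : ↥H) ^ M'.index ∈ M' := Subgroup.pow_index_mem M' _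
    rw [hM'k] at h1
    rw [hM]; exact Subgroup.mem_map.2 ⟨_, h1, rfl⟩
  -- the centralizer of `H/M`
  have hHmapn : (H.map (QuotientGroup.mk' M)).Normal := hHn.map _ (QuotientGroup.mk'_surjective M)
  obtain ⟨C, hC⟩ : ∃ C : Subgroup G, C = (Subgroup.centralizer
      ((H.map (QuotientGroup.mk' M) : Subgroup (G ⧸ M)) : Set (G ⧸ M))).comap (QuotientGroup.mk' M) :=
    ⟨_, rfl⟩
  have hCn : C.Normal := by rw [hC]; infer_instance
  have hCmem : ∀ x, x ∈ C ↔ ∀ h ∈ H, x * h * x⁻¹ * h⁻¹ ∈ M := by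
    intro x
    rw [hC, Subgroup.mem_comap, Subgroup.mem_centralizer_iff]
    constructor
    · intro hx h hh
      have h1 := hx _ (Subgroup.mem_map_of_mem (QuotientGroup.mk' M) hh)
      rw [← QuotientGroup.eq_one_iff]
      have : ((x * h * x⁻¹ * h⁻¹ : G) : G ⧸ M) =
          (QuotientGroup.mk' M x) * (QuotientGroup.mk' M h) * (QuotientGroup.mk' M x)⁻¹ *
            (QuotientGroup.mk' M h)⁻¹ := by
        simp
      rw [this, ← h1]; group
    · intro hx y hy
      obtain ⟨h, hh, rfl⟩ := Subgroup.mem_map.1 hy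
      have h1 := (QuotientGroup.eq_one_iff _).2 (hx h hh)
      have : ((x * h * x⁻¹ * h⁻¹ : G) : G ⧸ M) =
          (QuotientGroup.mk' M x) * (QuotientGroup.mk' M h) * (QuotientGroup.mk' M x)⁻¹ *
            (QuotientGroup.mk' M h)⁻¹ := by
        simp
      rw [this] at h1
      calc (QuotientGroup.mk' M h) * (QuotientGroup.mk' M x) =
          ((QuotientGroup.mk' M x) * (QuotientGroup.mk' M h) * (QuotientGroup.mk' M x)⁻¹ *
            (QuotientGroup.mk' M h)⁻¹)⁻¹ * ((QuotientGroup.mk' M x) * (QuotientGroup.mk' M h)) := by group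
        _ = (QuotientGroup.mk' M x) * (QuotientGroup.mk' M h) := by rw [h1]; group
  -- every `p`-subgroup lies in `C`
  have hcq := cycP_quotient hc M
  have hHmapp : IsPGroup p (H.map (QuotientGroup.mk' M)) := by
    rintro ⟨y, hy⟩
    obtain ⟨h, hh, rfl⟩ := Subgroup.mem_map.1 hy
    refine ⟨k, Subtype.ext ?_⟩
    show (QuotientGroup.mk' M h) ^ p ^ k = 1
    rw [← map_pow]
    exact (QuotientGroup.eq_one_iff _).2 (hpow h hh)
  have hUC : ∀ U : Subgroup G, IsPGroup p U → U ≤ C := by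
    intro U hU x hx
    rw [hC, Subgroup.mem_comap, Subgroup.mem_centralizer_iff]
    intro y hy
    obtain ⟨j, hj⟩ := hU ⟨x, hx⟩
    have hxj : x ^ p ^ j = 1 := congrArg Subtype.val hj
    have hz : IsPGroup p (Subgroup.zpowers (QuotientGroup.mk' M x)) :=
      isPGroup_zpowers (k := j) (by rw [← map_pow, hxj, map_one])
    have hW := hz.to_sup_of_normal_right hHmapp
    haveI := hcq _ hW
    have h1 : (⟨y, (le_sup_right : H.map (QuotientGroup.mk' M) ≤
        Subgroup.zpowers (QuotientGroup.mk' M x) ⊔ H.map (QuotientGroup.mk' M)) hy⟩ :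
          ↥(Subgroup.zpowers (QuotientGroup.mk' M x) ⊔ H.map (QuotientGroup.mk' M))) *
        ⟨QuotientGroup.mk' M x, (le_sup_left : Subgroup.zpowers (QuotientGroup.mk' M x) ≤
          Subgroup.zpowers (QuotientGroup.mk' M x) ⊔ H.map (QuotientGroup.mk' M))
            (Subgroup.mem_zpowers _)⟩ = _ * _ := Std.Commutative.comm _ _
    exact congrArg Subtype.val h1
  obtain ⟨P0⟩ : Nonempty (Sylow p G) := inferInstance
  have hCidx : C.index.Coprime p := by
    have h1 : C.index ∣ (P0 : Subgroup G).index := Subgroup.index_dvd_of_le (hUC _ P0.isPGroup')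
    exact Nat.Coprime.coprime_dvd_left h1
      ((Nat.Prime.coprime_iff_not_dvd hp.out).2 P0.not_dvd_index).symm
  -- `C` has a normal `p`-complement
  have hCcomp : HasNormalPComplement p ↥C := by
    obtain ⟨PC⟩ : Nonempty (Sylow p ↥C) := inferInstance
    apply Cfsg.Agent.Lib.Lead.NormalPComplement.hasNormalPComplement_of_p'_centralize PC
    intro Q' hQ' g hgN hgo
    by_cases hQ'1 : Q' = ⊥
    · rw [hQ'1, Subgroup.mem_centralizer_iff]
      intro y hy
      have : y = 1 := Subgroup.mem_bot.1 hy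
      rw [this]; simp
    have hQp : IsPGroup p (Q'.map C.subtype) := (PC.isPGroup'.to_le hQ').map _
    have hQ1 : Q'.map C.subtype ≠ ⊥ := by
      intro h0
      apply hQ'1
      exact (Subgroup.map_eq_bot_iff_of_injective _ (Subgroup.subtype_injective C)).1 h0
    obtain ⟨v, hvQ, hvH, hv1⟩ := exists_mem_inf_ne_one hc H hH _ hQp hQ1
    have hgN' := coe_mem_normalizer_map C Q' g hgN
    have hgo' : (orderOf (g : G)).Coprime p := by rwa [Subgroup.orderOf_coe]
    have h1 : (g : G) * v * (g : G)⁻¹ * v⁻¹ ∈ Q'.map C.subtype :=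
      Subgroup.mul_mem _ ((Subgroup.mem_normalizer_iff.1 hgN' v).1 hvQ) (Subgroup.inv_mem _ hvQ)
    have h2 : (g : G) * v * (g : G)⁻¹ * v⁻¹ ∈ M := (hCmem g).1 g.2 v hvH
    have h3 : (Q'.map C.subtype) ⊓ M = ⊥ := by
      apply disjoint_iff.1
      apply Subgroup.disjoint_of_coprime_natCard
      obtain ⟨j, hj⟩ := IsPGroup.iff_card.1 hQp
      rw [hj]; exact (hMc.symm.pow_left j)
    have h4 : (g : G) * v * (g : G)⁻¹ * v⁻¹ = 1 := by
      have : (g : G) * v * (g : G)⁻¹ * v⁻¹ ∈ (Q'.map C.subtype) ⊓ M := Subgroup.mem_inf.2 ⟨h1, h2⟩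
      rw [h3] at this; exact Subgroup.mem_bot.1 this
    have hfix : (g : G) * v * (g : G)⁻¹ = v := by
      calc (g : G) * v * (g : G)⁻¹ = ((g : G) * v * (g : G)⁻¹ * v⁻¹) * v := by group
        _ = v := by rw [h4, one_mul]
    have h5 := centralizes_of_fix hc _ hQp g hgN' hgo' v hvQ hv1 hfix
    rw [Subgroup.mem_centralizer_iff] at h5 ⊢
    intro y hy
    exact Subtype.ext (h5 y (Subgroup.mem_map_of_mem _ hy))
  obtain ⟨K', hK'n, hK'c, j, hK'j⟩ :=
    Cfsg.Agent.Lib.Lead.NormalPComplement.exists_normal_of_hasNormalPComplement hCcomp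
  haveI := hK'n
  have hKn : (K'.map C.subtype).Normal :=
    map_subtype_normal_of_coprime C K' (by rw [hK'j]; exact hK'c.pow_right j)
  refine ⟨3, ![⊥, K'.map C.subtype, C, ⊤], rfl, rfl, ?_, ?_, ?_⟩
  · rw [Fin.monotone_iff_le_succ]
    intro i
    fin_cases i
    · exact bot_le
    · exact Subgroup.map_subtype_le _
    · exact le_top
  · intro i
    fin_cases i
    · show (⊥ : Subgroup G).Normal; infer_instance
    · exact hKn
    · exact hCn
    · show (⊤ : Subgroup G).Normal; infer_instance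
  · intro i
    fin_cases i
    · right
      show ((⊥ : Subgroup G).relIndex (K'.map C.subtype)).Coprime p
      rw [Subgroup.relIndex_bot_left, Subgroup.card_subtype]; exact hK'c
    · left
      refine ⟨j, ?_⟩
      show (K'.map C.subtype).relIndex C = p ^ j
      rw [← hK'j]
      unfold Subgroup.relIndex Subgroup.subgroupOf
      rw [Subgroup.comap_map_eq_self_of_injective (Subgroup.subtype_injective C)]
    · right
      show (C.relIndex ⊤).Coprime p
      rw [Subgroup.relIndex_top_right]; exact hCidx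

end final

end Cfsg.Agent.H2.CycSyl
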