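import Mathlib
import Cfsg.Agent.Lib.Lead.ProdCard
import Cfsg.Agent.H2.CyclicSylow
import Cfsg.Agent.H2.Transitivity

/-!
Groups with a generalized quaternion Sylow `2`-subgroup `S` of order at least `16`:
the structure of the centralizer and the normalizer of `D = [S,S]` (helper2).
-/

set_option autoImplicit false
open scoped commutatorElement Pointwise

namespace Cfsg.Agent.H2.QuatSylow

open QuaternionGroup

section quat

variable {n : ℕ}

theorem inv_a' (i : ZMod (2 * n)) : (a i : QuaternionGroup n)⁻¹ = a (-i) := by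
  apply inv_eq_of_mul_eq_one_right
  rw [a_mul_a, add_neg_cancel, a_zero]

theorem two_n' : (n : ZMod (2 * n)) + n = 0 := by
  rw [← two_mul]
  have : ((2 * n : ℕ) : ZMod (2 * n)) = 0 := ZMod.natCast_self _
  push_cast at this
  exact this

theorem inv_xa' (i : ZMod (2 * n)) : (xa i : QuaternionGroup n)⁻¹ = xa ((n : ZMod (2 * n)) + i) := by
  apply inv_eq_of_mul_eq_one_right
  rw [xa_mul_xa]
  have : (n : ZMod (2 * n)) + ((n : ZMod (2 * n)) + i) - i = 0 := by
    linear_combination (two_n' (n := n))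
  rw [this, a_zero]

theorem a_two_mul_mem [NeZero n] (k : ZMod (2 * n)) :
    a (2 * k) ∈ Subgroup.zpowers (a 2 : QuaternionGroup n) := by
  have h1 : (a 2 : QuaternionGroup n) = (a 1) ^ 2 := by
    rw [a_one_pow]; norm_num
  have h2 : a (2 * k) = ((a 1 : QuaternionGroup n) ^ 2) ^ k.val := by
    rw [← pow_mul, a_one_pow]
    congr 1
    push_cast
    rw [ZMod.natCast_zmod_val]
  rw [h2, ← h1]
  exact Subgroup.pow_mem _ (Subgroup.mem_zpowers _) _

theorem commutator_eq [NeZero n] :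
    commutator (QuaternionGroup n) = Subgroup.zpowers (a 2 : QuaternionGroup n) := by
  apply le_antisymm
  · rw [commutator_def, Subgroup.commutator_le]
    rintro (i | i) - (j | j) -
    · rw [commutatorElement_def, inv_a', inv_a', a_mul_a, a_mul_a, a_mul_a]
      have : i + j + -i + -j = 2 * 0 := by ring
      rw [this]; exact a_two_mul_mem 0
    · rw [commutatorElement_def, inv_a', inv_xa', a_mul_xa, xa_mul_a, xa_mul_xa]
      have : (n : ZMod (2 * n)) + ((n : ZMod (2 * n)) + j) - (j - i + -i) = 2 * i := by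
        linear_combination (two_n' (n := n))
      rw [this]; exact a_two_mul_mem i
    · rw [commutatorElement_def, inv_xa', inv_a', xa_mul_a, xa_mul_xa, a_mul_a]
      have : (n : ZMod (2 * n)) + ((n : ZMod (2 * n)) + i) - (i + j) + -j = 2 * (-j) := by
        linear_combination (two_n' (n := n))
      rw [this]; exact a_two_mul_mem (-j)
    · rw [commutatorElement_def, inv_xa', inv_xa', xa_mul_xa, a_mul_xa, xa_mul_xa]
      have : (n : ZMod (2 * n)) + ((n : ZMod (2 * n)) + j) -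
          ((n : ZMod (2 * n)) + i - ((n : ZMod (2 * n)) + j - i)) = 2 * (j - i) := by
        linear_combination (two_n' (n := n))
      rw [this]; exact a_two_mul_mem (j - i)
  · rw [Subgroup.zpowers_le]
    have : (a 2 : QuaternionGroup n) = ⁅(a 1 : QuaternionGroup n), xa 0⁆ := by
      rw [commutatorElement_def, inv_a', inv_xa', a_mul_xa, xa_mul_a, xa_mul_xa]
      congr 1
      linear_combination -(two_n' (n := n))
    rw [this]
    exact Subgroup.commutator_mem_commutator (Subgroup.mem_top _) (Subgroup.mem_top _)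

theorem a_mem_zpowers [NeZero n] (i : ZMod (2 * n)) :
    a i ∈ Subgroup.zpowers (a 1 : QuaternionGroup n) := by
  have : a i = (a 1 : QuaternionGroup n) ^ i.val := by
    rw [a_one_pow, ZMod.natCast_zmod_val]
  rw [this]
  exact Subgroup.pow_mem _ (Subgroup.mem_zpowers _) _

/-- for `n ≥ 3` only the powers of `a 1` commute with `a 2` -/
theorem mem_zpowers_of_comm_a_two [NeZero n] (hn : 3 ≤ n) (q : QuaternionGroup n)
    (h : q * a 2 = a 2 * q) : q ∈ Subgroup.zpowers (a 1 : QuaternionGroup n) := by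
  rcases q with i | i
  · exact a_mem_zpowers i
  · exfalso
    rw [xa_mul_a, a_mul_xa] at h
    have h1 : i + 2 = i - 2 := by injection h
    have h2 : ((4 : ℕ) : ZMod (2 * n)) = 0 := by
      push_cast
      linear_combination h1
    rw [ZMod.natCast_eq_zero_iff] at h2
    have := Nat.le_of_dvd (by norm_num) h2
    omega

end quat


section cyclic

/-- in a finite cyclic group, divisibility of orders gives inclusion of subgroups -/
theorem le_of_card_dvd_of_isCyclic {C : Type*} [Group C] [Finite C] [IsCyclic C]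
    (H₁ H₂ : Subgroup C) (h : Nat.card ↥H₁ ∣ Nat.card ↥H₂) : H₁ ≤ H₂ := by
  classical
  have := Fintype.ofFinite C
  have hn : 0 < Nat.card ↥H₂ := Nat.card_pos
  have hle := IsCyclic.card_pow_eq_one_le (α := C) hn
  have hsub : (H₂ : Set C).toFinset ⊆ Finset.univ.filter (fun a : C => a ^ Nat.card ↥H₂ = 1) := by
    intro x hx
    rw [Set.mem_toFinset] at hx
    rw [Finset.mem_filter]
    refine ⟨Finset.mem_univ _, ?_⟩
    have := pow_card_eq_one' (G := ↥H₂) (x := ⟨x, hx⟩)
    exact congrArg Subtype.val this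
  have hcard : (H₂ : Set C).toFinset.card = Nat.card ↥H₂ := by
    rw [Set.toFinset_card, Nat.card_eq_fintype_card]
    rfl
  have heq : (H₂ : Set C).toFinset = Finset.univ.filter (fun a : C => a ^ Nat.card ↥H₂ = 1) :=
    Finset.eq_of_subset_of_card_le hsub (by rw [hcard]; exact hle)
  intro x hx
  have hx1 : x ^ Nat.card ↥H₁ = 1 := by
    have := pow_card_eq_one' (G := ↥H₁) (x := ⟨x, hx⟩)
    exact congrArg Subtype.val this
  have hx2 : x ^ Nat.card ↥H₂ = 1 := by
    obtain ⟨k, hk⟩ := h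
    rw [hk, pow_mul, hx1, one_pow]
  have : x ∈ (H₂ : Set C).toFinset := by
    rw [heq, Finset.mem_filter]
    exact ⟨Finset.mem_univ _, hx2⟩
  rwa [Set.mem_toFinset] at this

/-- ambient version: two subgroups of a cyclic subgroup -/
theorem le_of_card_dvd_of_le_cyclic {G : Type*} [Group G] [Finite G] {H₁ H₂ U : Subgroup G}
    [IsCyclic ↥U] (h₁ : H₁ ≤ U) (h₂ : H₂ ≤ U)
    (h : Nat.card ↥H₁ ∣ Nat.card ↥H₂) : H₁ ≤ H₂ := by
  have e1 : Nat.card ↥(H₁.subgroupOf U) = Nat.card ↥H₁ :=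
    Nat.card_congr (Subgroup.subgroupOfEquivOfLe h₁).toEquiv
  have e2 : Nat.card ↥(H₂.subgroupOf U) = Nat.card ↥H₂ :=
    Nat.card_congr (Subgroup.subgroupOfEquivOfLe h₂).toEquiv
  have := le_of_card_dvd_of_isCyclic (H₁.subgroupOf U)
    (H₂.subgroupOf U) (by rw [e1, e2]; exact h)
  intro x hx
  have hx' : (⟨x, h₁ hx⟩ : ↥U) ∈ H₁.subgroupOf U := by
    rw [Subgroup.mem_subgroupOf]; exact hx
  have := this hx'
  rw [Subgroup.mem_subgroupOf] at this
  exact this

end cyclic


section transport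

variable {G : Type*} [Group G] [Finite G]

omit [Finite G] in
/-- generator data for a generalized quaternion Sylow `2`-subgroup of order at least `16` -/
theorem exists_gen (S : Sylow 2 G) (n : ℕ)
    (e : (S : Subgroup G) ≃* QuaternionGroup (2 ^ (n + 2))) :
    ∃ t : G, t ∈ (S : Subgroup G) ∧ orderOf t = 2 ^ (n + 3) ∧
      ⁅(S : Subgroup G), (S : Subgroup G)⁆ = Subgroup.zpowers (t ^ 2) ∧
      (S : Subgroup G) ⊓ Subgroup.centralizer ((Subgroup.zpowers (t ^ 2) : Subgroup G) : Set G) =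
        Subgroup.zpowers t ∧
      Nat.card ↥(S : Subgroup G) = 2 ^ (n + 4) := by
  have : NeZero (2 ^ (n + 2)) := ⟨pow_ne_zero _ two_ne_zero⟩
  have hm3 : 3 ≤ 2 ^ (n + 2) := by
    have : 2 ^ 2 ≤ 2 ^ (n + 2) := Nat.pow_le_pow_right (by norm_num) (by omega)
    omega
  obtain ⟨t', ht'def⟩ : ∃ t' : ↥(S : Subgroup G), t' = e.symm (a 1) := ⟨_, rfl⟩
  have het : e t' = a 1 := by rw [ht'def, e.apply_symm_apply]
  refine ⟨(t' : G), t'.2, ?_, ?_, ?_, ?_⟩
  · rw [Subgroup.orderOf_coe, ← e.orderOf_eq, het, orderOf_a_one]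
    rw [pow_succ (2) (n + 2)]; ring
  · -- the commutator subgroup
    have h1 : commutator ↥(S : Subgroup G) = Subgroup.zpowers (t' ^ 2) := by
      have h2 : (commutator ↥(S : Subgroup G)).map e.toMonoidHom =
          commutator (QuaternionGroup (2 ^ (n + 2))) := by
        rw [commutator_def, Subgroup.map_commutator, ← MonoidHom.range_eq_map,
          MonoidHom.range_eq_top.2 e.surjective, commutator_def]
      rw [commutator_eq] at h2
      have h3 : (Subgroup.zpowers (t' ^ 2)).map e.toMonoidHom =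
          Subgroup.zpowers (a 2 : QuaternionGroup (2 ^ (n + 2))) := by
        rw [MonoidHom.map_zpowers]
        congr 1
        show e (t' ^ 2) = a 2
        rw [map_pow, het, a_one_pow]; norm_num
      exact Subgroup.map_injective e.injective (h2.trans h3.symm)
    have h4 : ⁅(S : Subgroup G), (S : Subgroup G)⁆ =
        (commutator ↥(S : Subgroup G)).map (S : Subgroup G).subtype := by
      rw [commutator_def, Subgroup.map_commutator, ← MonoidHom.range_eq_map, Subgroup.range_subtype]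
    rw [h4, h1, MonoidHom.map_zpowers]
    rfl
  · -- the centralizer
    apply le_antisymm
    · rintro s ⟨hsS, hsC⟩
      have hcomm : (⟨s, hsS⟩ : ↥(S : Subgroup G)) * t' ^ 2 = t' ^ 2 * ⟨s, hsS⟩ := by
        apply Subtype.ext
        have := Subgroup.mem_centralizer_iff.1 hsC ((t' : G) ^ 2) (Subgroup.mem_zpowers _)
        simpa using this.symm
      have h1 : e ⟨s, hsS⟩ * a 2 = a 2 * e ⟨s, hsS⟩ := by
        have := congrArg e hcomm
        rw [map_mul, map_mul, map_pow, het, a_one_pow] at this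
        norm_num at this
        exact this
      have h2 := mem_zpowers_of_comm_a_two hm3 _ h1
      obtain ⟨k, hk⟩ := Subgroup.mem_zpowers_iff.1 h2
      have h3 : (⟨s, hsS⟩ : ↥(S : Subgroup G)) = t' ^ k := by
        apply e.injective
        rw [map_zpow, het, hk]
      rw [Subgroup.mem_zpowers_iff]
      exact ⟨k, by have := congrArg Subtype.val h3; simpa using this.symm⟩
    · rw [Subgroup.zpowers_le]
      refine ⟨t'.2, ?_⟩
      show (t' : G) ∈ Subgroup.centralizer ((Subgroup.zpowers ((t' : G) ^ 2) : Subgroup G) : Set G)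
      rw [Subgroup.mem_centralizer_iff]
      intro x hx
      obtain ⟨k, rfl⟩ := Subgroup.mem_zpowers_iff.1 hx
      have : Commute ((t' : G) ^ 2) (t' : G) := (Commute.refl _).pow_left 2
      exact ((this.zpow_left k).eq)
  · rw [Nat.card_congr e.toEquiv, Nat.card_eq_fintype_card, QuaternionGroup.card]
    rw [show n + 4 = (n + 2) + 2 by ring, pow_add]; ring

end transport


section core

open Cfsg.Agent.H2.Transitivity

variable {G : Type*} [Group G] [Finite G]

omit [Finite G] in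
lemma normalizer_le_normalizer_centralizer (D : Subgroup G) :
    Subgroup.normalizer (D : Set G) ≤
      Subgroup.normalizer ((Subgroup.centralizer (D : Set G) : Subgroup G) : Set G) := by
  have key : ∀ g ∈ Subgroup.normalizer (D : Set G), ∀ c ∈ Subgroup.centralizer (D : Set G),
      g * c * g⁻¹ ∈ Subgroup.centralizer (D : Set G) := by
    intro g hg c hc
    rw [Subgroup.mem_centralizer_iff]
    intro x hx
    have hg' : g⁻¹ ∈ Subgroup.normalizer (D : Set G) := inv_mem hg
    have h1 : g⁻¹ * x * g⁻¹⁻¹ ∈ D := (Subgroup.mem_normalizer_iff.1 hg' x).1 hx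
    rw [inv_inv] at h1
    have h2 := Subgroup.mem_centralizer_iff.1 hc _ h1
    calc x * (g * c * g⁻¹) = g * ((g⁻¹ * x * g) * c) * g⁻¹ := by group
      _ = g * (c * (g⁻¹ * x * g)) * g⁻¹ := by rw [h2]
      _ = g * c * g⁻¹ * x := by group
  intro g hg
  rw [Subgroup.mem_normalizer_iff]
  intro c
  constructor
  · exact key g hg c
  · intro h
    have := key g⁻¹ (inv_mem hg) _ h
    have e : g⁻¹ * (g * c * g⁻¹) * g⁻¹⁻¹ = c := by group
    rwa [e] at this

/-- The structure of `C_G(D)` and `N_G(D)` for `D = ⟨t²⟩`, `t` generating a cyclic subgroup of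
index two in the Sylow `2`-subgroup `S` which is the centralizer of `D` in `S`. -/
theorem structure_thm (S : Sylow 2 G) (t : G) (k : ℕ) (hk : 1 ≤ k)
    (hord : orderOf t = 2 ^ (k + 1))
    (hnorm : (S : Subgroup G) ≤ Subgroup.normalizer ((Subgroup.zpowers (t ^ 2) : Subgroup G) : Set G))
    (hcent : (S : Subgroup G) ⊓
      Subgroup.centralizer ((Subgroup.zpowers (t ^ 2) : Subgroup G) : Set G) = Subgroup.zpowers t)
    (hcard : Nat.card ↥(S : Subgroup G) = 2 ^ (k + 2)) :
    ∃ K : Subgroup G, Odd (Nat.card ↥K) ∧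
      K ≤ Subgroup.centralizer ((Subgroup.zpowers (t ^ 2) : Subgroup G) : Set G) ∧
      Subgroup.normalizer ((Subgroup.zpowers (t ^ 2) : Subgroup G) : Set G) ≤
        Subgroup.normalizer (K : Set G) ∧
      K ⊔ (S : Subgroup G) = Subgroup.normalizer ((Subgroup.zpowers (t ^ 2) : Subgroup G) : Set G) ∧
      K ⊔ Subgroup.zpowers t =
        Subgroup.centralizer ((Subgroup.zpowers (t ^ 2) : Subgroup G) : Set G) ∧
      ((Subgroup.centralizer ((Subgroup.zpowers (t ^ 2) : Subgroup G) : Set G)).subgroupOf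
        (Subgroup.normalizer ((Subgroup.zpowers (t ^ 2) : Subgroup G) : Set G))).index = 2 ∧
      Cfsg.Agent.H2.CycSyl.CycP 2
        ↥(Subgroup.centralizer ((Subgroup.zpowers (t ^ 2) : Subgroup G) : Set G)) := by
  have h2p : Nat.Prime 2 := Nat.prime_two
  have : Fact (Nat.Prime 2) := ⟨h2p⟩
  obtain ⟨D, hDdef⟩ : ∃ D : Subgroup G, D = Subgroup.zpowers (t ^ 2) := ⟨_, rfl⟩
  rw [← hDdef] at hnorm hcent ⊢
  obtain ⟨C, hCdef⟩ : ∃ C : Subgroup G, C = Subgroup.centralizer (D : Set G) := ⟨_, rfl⟩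
  obtain ⟨N, hNdef⟩ : ∃ N : Subgroup G, N = Subgroup.normalizer (D : Set G) := ⟨_, rfl⟩
  rw [← hNdef] at hnorm
  rw [← hCdef] at hcent
  rw [← hCdef, ← hNdef]
  obtain ⟨T, hTdef⟩ : ∃ T : Subgroup G, T = Subgroup.zpowers t := ⟨_, rfl⟩
  rw [← hTdef] at hcent ⊢
  have hcardT : Nat.card ↥T = 2 ^ (k + 1) := by rw [hTdef, Nat.card_zpowers, hord]
  have hordD : orderOf (t ^ 2) = 2 ^ k := by
    rw [orderOf_pow_of_dvd two_ne_zero (by rw [hord, pow_succ']; exact Dvd.intro _ rfl), hord,
      pow_succ]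
    exact Nat.mul_div_cancel _ (by norm_num)
  have hcardD : Nat.card ↥D = 2 ^ k := by rw [hDdef, Nat.card_zpowers, hordD]
  have hTC : T ≤ C := by rw [← hcent]; exact inf_le_right
  have hTS : T ≤ (S : Subgroup G) := by rw [← hcent]; exact inf_le_left
  have hCN : C ≤ N := by
    rw [hCdef, hNdef]; exact Subgroup.centralizer_le_normalizer _
  have hDC : D ≤ C := by
    rw [hDdef, Subgroup.zpowers_le]
    apply hTC
    rw [hTdef]
    exact Subgroup.pow_mem _ (Subgroup.mem_zpowers _) _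
  have hNC : N ≤ Subgroup.normalizer (C : Set G) := by
    rw [hNdef, hCdef]; exact normalizer_le_normalizer_centralizer D
  -- counting: `|C| = |T| o` with `o` odd
  have hidx : Odd (S : Subgroup G).index := by
    rw [← Nat.not_even_iff_odd, even_iff_two_dvd]
    exact S.not_dvd_index
  obtain ⟨o, ho, hCo⟩ : ∃ o : ℕ, Odd o ∧ Nat.card ↥C = Nat.card ↥T * o := by
    have h1 := Cfsg.Agent.Lib.Lead.ProdCard.card_mul_card_eq C (S : Subgroup G)
    rw [← Subgroup.coe_mul_of_right_le_normalizer_left C (S : Subgroup G) (hnorm.trans hNC)] at h1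
    have h1' : Nat.card ↥C * Nat.card ↥(S : Subgroup G) =
        Nat.card ↥(C ⊔ (S : Subgroup G) : Subgroup G) * Nat.card ↥T := by
      rw [h1, inf_comm, hcent]
      congr 1
    obtain ⟨o₁, ho₁⟩ : Nat.card ↥(S : Subgroup G) ∣ Nat.card ↥(C ⊔ (S : Subgroup G) : Subgroup G) :=
      Subgroup.card_dvd_of_le le_sup_right
    have h3 : Nat.card ↥(C ⊔ (S : Subgroup G) : Subgroup G) ∣ Nat.card G :=
      Subgroup.card_subgroup_dvd_card _
    have h4 : o₁ ∣ (S : Subgroup G).index := by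
      rw [← (S : Subgroup G).card_mul_index, ho₁] at h3
      exact Nat.dvd_of_mul_dvd_mul_left Nat.card_pos h3
    refine ⟨o₁, ?_, ?_⟩
    · obtain ⟨c, hc⟩ := h4
      rw [hc] at hidx
      exact (Nat.odd_mul.1 hidx).1
    · rw [ho₁] at h1'
      have h5 : Nat.card ↥(S : Subgroup G) * Nat.card ↥C =
          Nat.card ↥(S : Subgroup G) * (Nat.card ↥T * o₁) := by
        rw [mul_comm, h1']; ring
      exact Nat.eq_of_mul_eq_mul_left Nat.card_pos h5
  have hofact : ¬ 2 ∣ o := by
    rw [← even_iff_two_dvd, Nat.not_even_iff_odd]; exact ho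
  -- the Sylow subgroup of `C`
  have hfac : (Nat.card ↥C).factorization 2 = k + 1 := by
    rw [hCo, hcardT, Nat.factorization_mul (pow_ne_zero _ two_ne_zero) (fun h => by
      rw [h] at ho; exact (Nat.not_odd_iff_even.2 (by decide)) ho), Finsupp.add_apply,
      h2p.factorization_pow, Finsupp.single_eq_same, Nat.factorization_eq_zero_of_not_dvd hofact,
      add_zero]
  have hc1 : Nat.card ↥(T.subgroupOf C) = 2 ^ (Nat.card ↥C).factorization 2 := by
    rw [Nat.card_congr (Subgroup.subgroupOfEquivOfLe hTC).toEquiv, hcardT, hfac]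
  obtain ⟨P₀, hP₀def⟩ : ∃ P₀ : Sylow 2 ↥C, P₀ = Sylow.ofCard (T.subgroupOf C) hc1 := ⟨_, rfl⟩
  have hP₀coe : (P₀ : Subgroup ↥C) = T.subgroupOf C := by rw [hP₀def, Sylow.coe_ofCard]
  have hcycT : IsCyclic ↥T := by
    rw [hTdef]; infer_instance
  have hcyc : IsCyclic ↥(P₀ : Subgroup ↥C) := by
    rw [hP₀coe]
    exact isCyclic_of_surjective (Subgroup.subgroupOfEquivOfLe hTC).symm.toMonoidHom
      (Subgroup.subgroupOfEquivOfLe hTC).symm.surjective
  have hmin : (Nat.card ↥C).minFac = 2 := by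
    rw [Nat.minFac_eq_two_iff, hCo, hcardT]
    exact Dvd.dvd.mul_right (dvd_pow_self 2 (by omega)) o
  have hcompl := IsCyclic.isComplement' hmin (P := P₀) hcyc
  obtain ⟨K₀, hK₀def⟩ : ∃ K₀ : Subgroup ↥C, K₀ =
      (MonoidHom.transferSylow P₀ (hcyc.normalizer_le_centralizer hmin)).ker := ⟨_, rfl⟩
  rw [← hK₀def] at hcompl
  have hK₀n : K₀.Normal := by rw [hK₀def]; infer_instance
  have hK₀card : Nat.card ↥K₀ = o := by
    have := hcompl.card_mul_card
    rw [hP₀coe, Nat.card_congr (Subgroup.subgroupOfEquivOfLe hTC).toEquiv, hCo, mul_comm] at this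
    exact Nat.eq_of_mul_eq_mul_left Nat.card_pos this
  have hK₀idx : K₀.index = 2 ^ (k + 1) := by
    have h1 := K₀.card_mul_index
    rw [hK₀card, hCo, hcardT, mul_comm] at h1
    have ho0 : 0 < o := Nat.pos_of_ne_zero (fun h => by
      rw [h] at ho; exact (Nat.not_odd_iff_even.2 (by decide)) ho)
    exact Nat.eq_of_mul_eq_mul_right ho0 h1
  -- characterization of `K₀`
  have hmemK₀ : ∀ x : ↥C, x ^ o = 1 → x ∈ K₀ := by
    intro x hx
    rw [← QuotientGroup.eq_one_iff]
    have h1 : (QuotientGroup.mk x : ↥C ⧸ K₀) ^ o = 1 := by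
      rw [← QuotientGroup.mk_pow, hx]; rfl
    have h2 : (QuotientGroup.mk x : ↥C ⧸ K₀) ^ 2 ^ (k + 1) = 1 := by
      rw [← hK₀idx, Subgroup.index_eq_card]
      exact pow_card_eq_one'
    have h3 : orderOf (QuotientGroup.mk x : ↥C ⧸ K₀) ∣ Nat.gcd o (2 ^ (k + 1)) :=
      Nat.dvd_gcd (orderOf_dvd_of_pow_eq_one h1) (orderOf_dvd_of_pow_eq_one h2)
    have hcop2 : Nat.Coprime o 2 := ((Nat.Prime.coprime_iff_not_dvd h2p).2 hofact).symm
    have h4 : Nat.gcd o (2 ^ (k + 1)) = 1 := Nat.Coprime.pow_right (k + 1) hcop2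
    rw [h4, Nat.dvd_one, orderOf_eq_one_iff] at h3
    exact h3
  obtain ⟨K, hKdef⟩ : ∃ K : Subgroup G, K = K₀.map C.subtype := ⟨_, rfl⟩
  have hKcard : Nat.card ↥K = o := by
    rw [hKdef, Subgroup.card_map_of_injective C.subtype_injective, hK₀card]
  have hKC : K ≤ C := by
    rw [hKdef]; exact Subgroup.map_subtype_le _
  have hmemK : ∀ x ∈ C, x ^ o = 1 → x ∈ K := by
    intro x hx hxo
    rw [hKdef]
    refine ⟨⟨x, hx⟩, hmemK₀ ⟨x, hx⟩ (Subtype.ext (by simpa using hxo)), rfl⟩
  have hpowK : ∀ x ∈ K, x ^ o = 1 := by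
    intro x hx
    have := pow_card_eq_one' (G := ↥K) (x := ⟨x, hx⟩)
    rw [hKcard] at this
    exact congrArg Subtype.val this
  have hNK : N ≤ Subgroup.normalizer (K : Set G) := by
    apply le_normalizer_of_conj_mem
    intro g hg x hx
    apply hmemK
    · exact conj_mem_of_le_normalizer hNC hg (hKC hx)
    · rw [conj_pow, hpowK x hx]; group
  have hKT : K ⊔ T = C := by
    have h1 := hcompl.sup_eq_top
    have h2 := congrArg (Subgroup.map C.subtype) h1
    rw [Subgroup.map_sup, hP₀coe, Subgroup.map_subgroupOf_eq_of_le hTC, ← hKdef,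
      ← MonoidHom.range_eq_map, Subgroup.range_subtype] at h2
    exact h2
  -- the index of `C` in `N`
  have hcycD : IsCyclic ↥D := by
    rw [hDdef]; infer_instance
  obtain ⟨j, hj⟩ : ∃ j : ℕ, (C.subgroupOf N).index = 2 ^ j := by
    subst hNdef
    subst hCdef
    have h1 : ((Subgroup.centralizer (D : Set G)).subgroupOf (Subgroup.normalizer (D : Set G))) =
        D.normalizerMonoidHom.ker := by
      rw [Subgroup.normalizerMonoidHom_ker]
    have h2 : ((Subgroup.centralizer (D : Set G)).subgroupOf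
        (Subgroup.normalizer (D : Set G))).index ∣ Nat.card (MulAut ↥D) := by
      rw [h1, Subgroup.index_ker]
      exact Subgroup.card_subgroup_dvd_card _
    rw [IsCyclic.card_mulAut, hcardD] at h2
    have h3 : Nat.totient (2 ^ k) = 2 ^ (k - 1) := by
      rw [Nat.totient_prime_pow h2p (by omega)]; norm_num
    rw [h3] at h2
    obtain ⟨j, -, hj⟩ := (Nat.dvd_prime_pow h2p).1 h2
    exact ⟨j, hj⟩
  have hcardN : Nat.card ↥N = Nat.card ↥C * 2 ^ j := by
    have := (C.subgroupOf N).card_mul_index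
    rw [hj, Nat.card_congr (Subgroup.subgroupOfEquivOfLe hCN).toEquiv] at this
    exact this.symm
  have hj1 : j = 1 := by
    have h1 : Nat.card ↥(S : Subgroup G) ∣ Nat.card ↥N := Subgroup.card_dvd_of_le hnorm
    rw [hcardN, hCo, hcardT, hcard] at h1
    have h2 : 2 ^ (k + 2) ∣ 2 ^ (k + 1) * 2 ^ j := by
      have hc : Nat.Coprime (2 ^ (k + 2)) o :=
        Nat.Coprime.pow_left _ ((Nat.Prime.coprime_iff_not_dvd h2p).2 hofact)
      have h1' : 2 ^ (k + 2) ∣ o * (2 ^ (k + 1) * 2 ^ j) := by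
        convert h1 using 1; ring
      exact hc.dvd_of_dvd_mul_left h1'
    rw [← pow_add] at h2
    have h3 : k + 2 ≤ k + 1 + j := (Nat.pow_dvd_pow_iff_le_right (by norm_num)).1 h2
    have h4 : 2 ^ (k + 1 + j) ∣ Nat.card G := by
      have : 2 ^ (k + 1 + j) ∣ Nat.card ↥N := by
        rw [hcardN, hCo, hcardT, pow_add]
        exact Dvd.intro (o) (by ring)
      exact this.trans (Subgroup.card_subgroup_dvd_card _)
    have h5 := S.pow_dvd_card_of_pow_dvd_card h4
    rw [hcard] at h5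
    have h6 : k + 1 + j ≤ k + 2 := (Nat.pow_dvd_pow_iff_le_right (by norm_num)).1 h5
    omega
  have hKS : K ⊔ (S : Subgroup G) = N := by
    apply Subgroup.eq_of_le_of_card_ge (sup_le (hKC.trans hCN) hnorm)
    have h1 := Cfsg.Agent.Lib.Lead.ProdCard.card_mul_card_eq K (S : Subgroup G)
    rw [← Subgroup.coe_mul_of_right_le_normalizer_left K (S : Subgroup G) (hnorm.trans hNK)] at h1
    have hinf : Nat.card ↥(K ⊓ (S : Subgroup G) : Subgroup G) = 1 := by
      have hd1 : Nat.card ↥(K ⊓ (S : Subgroup G) : Subgroup G) ∣ o :=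
        hKcard ▸ Subgroup.card_dvd_of_le inf_le_left
      have hd2 : Nat.card ↥(K ⊓ (S : Subgroup G) : Subgroup G) ∣ 2 ^ (k + 2) :=
        hcard ▸ Subgroup.card_dvd_of_le inf_le_right
      have hc : Nat.Coprime o (2 ^ (k + 2)) :=
        Nat.Coprime.pow_right _ ((Nat.Prime.coprime_iff_not_dvd h2p).2 hofact).symm
      exact Nat.eq_one_of_dvd_coprimes hc hd1 hd2
    rw [hinf, mul_one] at h1
    have h2 : ((K ⊔ (S : Subgroup G) : Subgroup G) : Set G).ncard =
        Nat.card ↥(K ⊔ (S : Subgroup G) : Subgroup G) := (Nat.card_coe_set_eq _).symm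
    rw [h2] at h1
    rw [← h1, hcardN, hj1, hKcard, hcard, hCo, hcardT]
    apply le_of_eq
    rw [pow_succ 2 (k + 1)]; ring
  refine ⟨K, hKcard ▸ ho, hKC, hNK, hKS, hKT, by rw [hj, hj1, pow_one], ?_⟩
  exact Cfsg.Agent.H2.CycSyl.cycP_of_sylow P₀ hcyc

/-- If all `2`-subgroups of `C` are cyclic, `D ≤ C` is a `2`-subgroup and `y ∈ C` normalizes `D`
with `|D|` dividing the order of `y`, then `D ≤ ⟨y⟩`. -/
theorem le_zpowers_of_cycP {C D : Subgroup G} (hc : Cfsg.Agent.H2.CycSyl.CycP 2 ↥C) (hDC : D ≤ C)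
    (hD2 : IsPGroup 2 ↥D) {y : G} (hyC : y ∈ C) (hyN : y ∈ Subgroup.normalizer (D : Set G))
    (hdvd : Nat.card ↥D ∣ orderOf y) : D ≤ Subgroup.zpowers y := by
  have h2p : Nat.Prime 2 := Nat.prime_two
  have : Fact (Nat.Prime 2) := ⟨h2p⟩
  obtain ⟨a, r, hr, hy⟩ := Nat.exists_eq_two_pow_mul_odd (orderOf_pos y).ne'
  have hr0 : r ≠ 0 := fun h => by
    rw [h] at hr; exact (Nat.not_odd_iff_even.2 (by decide)) hr
  have hr2 : ¬ 2 ∣ r := by
    rw [← even_iff_two_dvd, Nat.not_even_iff_odd]; exact hr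
  have hord : orderOf (y ^ r) = 2 ^ a := by
    rw [orderOf_pow_of_dvd hr0 (by rw [hy]; exact Dvd.intro_left _ rfl), hy]
    exact Nat.mul_div_cancel _ (Nat.pos_of_ne_zero hr0)
  obtain ⟨d, hd⟩ := hD2.exists_card_eq
  have hda : Nat.card ↥D ∣ 2 ^ a := by
    rw [hy, hd] at hdvd
    rw [hd]
    have hc2 : Nat.Coprime (2 ^ d) r :=
      Nat.Coprime.pow_left _ ((Nat.Prime.coprime_iff_not_dvd h2p).2 hr2)
    exact hc2.dvd_of_dvd_mul_right hdvd
  obtain ⟨Y, hYdef⟩ : ∃ Y : Subgroup G, Y = Subgroup.zpowers (y ^ r) := ⟨_, rfl⟩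
  have hYcard : Nat.card ↥Y = 2 ^ a := by rw [hYdef, Nat.card_zpowers, hord]
  have hYC : Y ≤ C := by
    rw [hYdef, Subgroup.zpowers_le]; exact C.pow_mem hyC r
  have hYN : Y ≤ Subgroup.normalizer (D : Set G) := by
    rw [hYdef, Subgroup.zpowers_le]; exact (Subgroup.normalizer (D : Set G)).pow_mem hyN r
  have hYy : Y ≤ Subgroup.zpowers y := by
    rw [hYdef, Subgroup.zpowers_le]; exact (Subgroup.zpowers y).pow_mem (Subgroup.mem_zpowers y) r
  have hU2 : IsPGroup 2 ↥(D ⊔ Y : Subgroup G) := by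
    have h1 := Cfsg.Agent.Lib.Lead.ProdCard.card_mul_card_eq D Y
    rw [← Subgroup.coe_mul_of_right_le_normalizer_left D Y hYN] at h1
    have h2 : ((D ⊔ Y : Subgroup G) : Set G).ncard = Nat.card ↥(D ⊔ Y : Subgroup G) :=
      (Nat.card_coe_set_eq _).symm
    rw [h2, hd, hYcard, ← pow_add] at h1
    have h3 : Nat.card ↥(D ⊔ Y : Subgroup G) ∣ 2 ^ (d + a) := Dvd.intro _ h1.symm
    obtain ⟨j, -, hj⟩ := (Nat.dvd_prime_pow h2p).1 h3
    exact IsPGroup.of_card hj
  have hUC : D ⊔ Y ≤ C := sup_le hDC hYC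
  have hcyc' : IsCyclic ↥((D ⊔ Y : Subgroup G).subgroupOf C) := hc _ hU2.comap_subtype
  have hcyc : IsCyclic ↥(D ⊔ Y : Subgroup G) :=
    isCyclic_of_surjective (Subgroup.subgroupOfEquivOfLe hUC).toMonoidHom
      (Subgroup.subgroupOfEquivOfLe hUC).surjective
  have hDY : D ≤ Y :=
    le_of_card_dvd_of_le_cyclic (U := D ⊔ Y) le_sup_left le_sup_right (by rw [hYcard]; exact hda)
  exact hDY.trans hYy

omit [Finite G] in
lemma conj_mem_zpowers {g y x : G} (hx : x ∈ Subgroup.zpowers y) :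
    g * x * g⁻¹ ∈ Subgroup.zpowers (g * y * g⁻¹) := by
  obtain ⟨k, rfl⟩ := Subgroup.mem_zpowers_iff.1 hx
  rw [Subgroup.mem_zpowers_iff]
  exact ⟨k, by rw [conj_zpow]⟩

omit [Finite G] in
lemma orderOf_conj' (g y : G) : orderOf (g * y * g⁻¹) = orderOf y := by
  have := (MulAut.conj g).orderOf_eq y
  rwa [MulAut.conj_apply] at this

/-- If `D ≤ ⟨y⟩` and `D ≤ ⟨g y g⁻¹⟩` then `g` normalizes `D`. -/
theorem mem_normalizer_of_le_zpowers {D : Subgroup G} {g y : G} (h1 : D ≤ Subgroup.zpowers y)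
    (h2 : D ≤ Subgroup.zpowers (g * y * g⁻¹)) : g ∈ Subgroup.normalizer (D : Set G) := by
  obtain ⟨D', hD'def⟩ : ∃ D' : Subgroup G, D' = D.map (MulAut.conj g).toMonoidHom := ⟨_, rfl⟩
  have hcard : Nat.card ↥D' = Nat.card ↥D := by
    rw [hD'def]; exact Subgroup.card_map_of_injective (MulAut.conj g).injective
  have hD'le : D' ≤ Subgroup.zpowers (g * y * g⁻¹) := by
    rw [hD'def]
    rintro _ ⟨x, hx, rfl⟩
    show g * x * g⁻¹ ∈ _
    exact conj_mem_zpowers (h1 hx)
  have hle : D' ≤ D :=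
    le_of_card_dvd_of_le_cyclic (U := Subgroup.zpowers (g * y * g⁻¹)) hD'le h2 (by rw [hcard])
  have heq : D' = D := Subgroup.eq_of_le_of_card_ge hle (by rw [hcard])
  rw [Subgroup.mem_normalizer_iff]
  intro h
  constructor
  · intro hh
    rw [← heq, hD'def]
    exact ⟨h, hh, rfl⟩
  · intro hh
    rw [← heq, hD'def] at hh
    obtain ⟨x, hx, hxe⟩ := hh
    have : x = h := by
      have : g * x * g⁻¹ = g * h * g⁻¹ := hxe
      simpa using this
    rwa [← this]

/-- Everything about `D = [S,S]` for a generalized quaternion Sylow `2`-subgroup of order at least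
`16`. -/
theorem main (S : Sylow 2 G) (n : ℕ)
    (e : (S : Subgroup G) ≃* QuaternionGroup (2 ^ (n + 2))) (D : Subgroup G)
    (hD : D = ⁅(S : Subgroup G), (S : Subgroup G)⁆) :
    IsPGroup 2 ↥D ∧
    Cfsg.Agent.H2.CycSyl.CycP 2 ↥(Subgroup.centralizer (D : Set G)) ∧
    ∃ K : Subgroup G, Odd (Nat.card ↥K) ∧
      K ≤ Subgroup.centralizer (D : Set G) ∧
      Subgroup.normalizer (D : Set G) ≤ Subgroup.normalizer (K : Set G) ∧
      K ⊔ (S : Subgroup G) = Subgroup.normalizer (D : Set G) ∧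
      K ⊔ ((S : Subgroup G) ⊓ Subgroup.centralizer (D : Set G)) =
        Subgroup.centralizer (D : Set G) ∧
      ((Subgroup.centralizer (D : Set G)).subgroupOf (Subgroup.normalizer (D : Set G))).index = 2 := by
  obtain ⟨t, htS, hord, hcomm, hcent, hcard⟩ := exists_gen S n e
  have hDt : D = Subgroup.zpowers (t ^ 2) := hD.trans hcomm
  have hnorm : (S : Subgroup G) ≤
      Subgroup.normalizer ((Subgroup.zpowers (t ^ 2) : Subgroup G) : Set G) := by
    rw [← hcomm]
    exact Subgroup.le_normalizer.trans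
      (Cfsg.Agent.H2.normalizer_le_normalizer_commutator (S : Subgroup G))
  obtain ⟨K, h1, h2, h3, h4, h5, h6, h7⟩ :=
    structure_thm S t (n + 2) (by omega) hord hnorm hcent hcard
  rw [← hDt] at h2 h3 h4 h5 h6 h7 hcent
  refine ⟨?_, h7, K, h1, h2, h3, h4, ?_, h6⟩
  · have : IsPGroup 2 ↥(S : Subgroup G) := S.isPGroup'
    apply this.to_le
    rw [hD]
    exact Subgroup.commutator_le_self _
  · rw [hcent]; exact h5


end core

end Cfsg.Agent.H2.QuatSylow
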