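import Mathlib
import Cfsg.Prelude.Def_Characters
import Cfsg.Prelude.Def_Blocks
import Cfsg.Agent.Lib.helper3.PrincSection2
import Cfsg.Agent.Lib.helper3.SecMain5
import Cfsg.Agent.Lib.helper3.PrincOnly
import Cfsg.Agent.Lib.helper3.LocalM3
import Cfsg.Agent.Lib.helper3.ClassMul
import Cfsg.Agent.Lib.helper3.BSQ4
import Cfsg.Agent.S0947
import Cfsg.Agent.H2.BSQ8Data
import Cfsg.Agent.H2.BSParityChar
import Cfsg.Agent.H2.BSArith

/-!
# Brauer–Suzuki for quaternion Sylow subgroups of order 8: the character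
-/

set_option autoImplicit false
set_option linter.style.haveILetI false
set_option linter.unusedSectionVars false

namespace Cfsg.Agent.H2.BSQ8

open Cfsg QuaternionGroup Complex
open Cfsg.Agent.Lib.helper3.Irr Cfsg.Agent.Lib.helper3.IndFun Cfsg.Agent.Lib.helper3.CharBasic
open Cfsg.Agent.Lib.helper3.Block Cfsg.Agent.Lib.helper3.LocalM Cfsg.Agent.Lib.helper3.Central
open scoped ComplexConjugate

universe u

section cbarSec

variable {G : Type u} [Group G] [Finite G] {M : Ideal AlgInt}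

theorem centralizer_inv (g : G) :
    Subgroup.centralizer ({g⁻¹} : Set G) = Subgroup.centralizer ({g} : Set G) := by
  ext h
  rw [Subgroup.mem_centralizer_singleton_iff, Subgroup.mem_centralizer_singleton_iff]
  constructor
  · intro h1
    calc h * g = g * (g⁻¹ * h) * g := by group
      _ = g * (h * g⁻¹) * g := by rw [h1]
      _ = g * h := by group
  · intro h1
    calc h * g⁻¹ = g⁻¹ * (g * h) * g⁻¹ := by group
      _ = g⁻¹ * (h * g) * g⁻¹ := by rw [h1]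
      _ = g⁻¹ * h := by group

/-- The conjugate character as an element of `IrrCharacter G`. -/
noncomputable def cbar (χ : IrrCharacter G) : IrrCharacter G :=
  ⟨fun g => conj ((χ : G → ℂ) g), isIrrCharacter_conj χ.2⟩

theorem cbar_apply (χ : IrrCharacter G) (g : G) :
    (cbar χ : G → ℂ) g = conj ((χ : G → ℂ) g) := rfl

theorem cbar_cbar (χ : IrrCharacter G) : cbar (cbar χ) = χ := by
  apply Subtype.ext
  funext g
  rw [cbar_apply, cbar_apply, Complex.conj_conj]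

/-- The principal block is closed under complex conjugation. -/
theorem cbar_mem_principalBlock (χ : IrrCharacter G) (hχ : χ ∈ principalBlock M G) :
    cbar χ ∈ principalBlock M G := by
  intro g
  have h1 := hχ g⁻¹
  have hχc := isCharacter_of_isIrrCharacter χ.2
  obtain ⟨n, -, hn⟩ := exists_pos_nat_apply_one χ.2
  have h2 : centralChar (fun _ : G => (1 : ℂ)) g⁻¹ = centralChar (fun _ : G => (1 : ℂ)) g := by
    unfold centralChar
    rw [centralizer_inv]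
  have h3 : centralChar ((χ : IrrCharacter G) : G → ℂ) g⁻¹
      = centralChar ((cbar χ : IrrCharacter G) : G → ℂ) g := by
    unfold centralChar
    rw [centralizer_inv, cbar_apply, cbar_apply, isCharacter_apply_inv hχc, hn, Complex.conj_natCast]
  rw [h2, h3] at h1
  exact h1

end cbarSec

/-- Three squares summing to three. -/
theorem three_of_sum_sq {ι : Type*} [DecidableEq ι] (T : Finset ι) (c : ι → ℤ)
    (hc : ∀ i ∈ T, c i ≠ 0) (hsum : ∑ i ∈ T, c i ^ 2 = 3) :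
    ∃ i1 i2 i3, i1 ≠ i2 ∧ i1 ≠ i3 ∧ i2 ≠ i3 ∧ T = {i1, i2, i3} ∧ (c i1 = 1 ∨ c i1 = -1) ∧
      (c i2 = 1 ∨ c i2 = -1) ∧ (c i3 = 1 ∨ c i3 = -1) := by
  have h1 : ∀ i ∈ T, c i = 1 ∨ c i = -1 := by
    intro i hi
    have h2 : c i ^ 2 ≤ 3 := by
      rw [← hsum]
      exact Finset.single_le_sum (f := fun i => c i ^ 2) (fun j _ => sq_nonneg (c j)) hi
    have h3 := hc i hi
    have h4 : -1 ≤ c i := by nlinarith
    have h5 : c i ≤ 1 := by nlinarith
    omega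
  have h2 : ∀ i ∈ T, c i ^ 2 = 1 := by
    intro i hi
    rcases h1 i hi with h | h <;> rw [h] <;> norm_num
  rw [Finset.sum_congr rfl h2] at hsum
  simp only [Finset.sum_const, nsmul_eq_mul, mul_one] at hsum
  have h3 : T.card = 3 := by exact_mod_cast hsum
  obtain ⟨i1, i2, i3, h12, h13, h23, hT⟩ := Finset.card_eq_three.mp h3
  refine ⟨i1, i2, i3, h12, h13, h23, hT, h1 i1 ?_, h1 i2 ?_, h1 i3 ?_⟩
  · rw [hT]; simp
  · rw [hT]; simp
  · rw [hT]; simp


open Classical in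
/-- Splitting a weighted sum over a block. -/
theorem sum_split {ι R : Type*} [Fintype ι] [CommRing R] (B : Set ι) (o : ι) (ho : o ∈ B)
    (c : ι → ℤ) (hco : c o = 1) (F : ι → R) (T : Finset ι)
    (hT : ∀ i, i ∈ T ↔ i ∈ B ∧ i ≠ o ∧ c i ≠ 0) :
    ∑ i, (if i ∈ B then (1 : R) else 0) * ((c i : R) * F i)
      = F o + ∑ i ∈ T, (c i : R) * F i := by
  have hoT : o ∉ T := by
    rw [hT]
    intro h
    exact h.2.1 rfl
  have hsub : ∀ i ∈ Finset.univ, i ∉ insert o T →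
      (if i ∈ B then (1 : R) else 0) * ((c i : R) * F i) = 0 := by
    intro i _ hi
    rw [Finset.mem_insert, not_or] at hi
    obtain ⟨hio, hiT⟩ := hi
    by_cases hiB : i ∈ B
    · have : c i = 0 := by
        by_contra h
        exact hiT ((hT i).mpr ⟨hiB, hio, h⟩)
      rw [this]
      simp
    · rw [if_neg hiB, zero_mul]
  rw [← Finset.sum_subset (Finset.subset_univ (insert o T)) hsub, Finset.sum_insert hoT,
    if_pos ho, hco]
  congr 1
  · simp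
  · apply Finset.sum_congr rfl
    intro i hi
    rw [if_pos ((hT i).mp hi).1, one_mul]

section main

variable {G : Type u} [Group G] [Fintype G]

open Classical in
/-- A group with quaternion Sylow `2`-subgroups of order 8 in which all elements of order four
are conjugate has a non-principal irreducible character with the involution in its kernel. -/
theorem exists_irr_sq_mem_ker (S : Sylow 2 G) (e : (S : Subgroup G) ≃* QuaternionGroup 2)
    (hconj : ∀ g : G, orderOf g = 4 → IsConj (xe (S : Subgroup G) e) g) :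
    ∃ χ : G → ℂ, IsIrrCharacter G χ ∧ χ ≠ (fun _ => (1 : ℂ)) ∧
      χ (xe (S : Subgroup G) e * xe (S : Subgroup G) e) = χ 1 := by
  haveI : Fact (Nat.Prime 2) := ⟨Nat.prime_two⟩
  obtain ⟨M, hM⟩ := exists_isPModular 2 Nat.prime_two
  haveI hMp := isPrime_of_isPModular hM
  obtain ⟨x, hx⟩ : ∃ x : G, x = xe (S : Subgroup G) e := ⟨_, rfl⟩
  obtain ⟨y, hy⟩ : ∃ y : G, y = ye (S : Subgroup G) e := ⟨_, rfl⟩
  obtain ⟨t, ht⟩ : ∃ t : G, t = x * x := ⟨_, rfl⟩
  rw [← hx, ← ht]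
  have hx4 : orderOf x = 4 := by rw [hx]; exact orderOf_xe _ e
  have ht2 : orderOf t = 2 := by rw [ht, hx]; exact orderOf_xe_sq _ e
  have hrel1 : x * x * x * x = 1 := by rw [hx]; exact xe_rel1 _ e
  have hrel2 : y * y = x * x := by rw [hx, hy]; exact xe_rel2 _ e
  have hrel3 : y * x = x * x * x * y := by rw [hx, hy]; exact xe_rel3 _ e
  have hconj' : ∀ g : G, orderOf g = 4 → IsConj x g := by rw [hx]; exact hconj
  -- class functions
  have hcf : ∀ (χ : IrrCharacter G) (a b : G), IsConj a b → (χ : G → ℂ) a = (χ : G → ℂ) b := by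
    intro χ
    exact isClassFunction_iff_isConj.mp
      (isClassFunction_of_isCharacter (isCharacter_of_isIrrCharacter χ.2))
  have hval4 : ∀ (χ : IrrCharacter G) (s : G), orderOf s = 4 →
      (χ : G → ℂ) s = (χ : G → ℂ) x := by
    intro χ s hs
    exact (hcf χ x s (hconj' s hs)).symm
  -- data
  have hdata := fun χ : IrrCharacter G => char_data (S : Subgroup G) e (χ : G → ℂ) χ.2
    (fun s _ hs => by rw [← hx]; exact hval4 χ s hs)
  simp only [← hx, ← ht] at hdata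
  choose n k c m hnpos hn1 hcx hkt hnk using hdata
  -- the block
  obtain ⟨B0, hB0⟩ : ∃ B0 : Set (IrrCharacter G), B0 = principalBlock M G := ⟨_, rfl⟩
  have hB0blk : IsPBlock M B0 := by
    rw [hB0]; exact ⟨Cfsg.Agent.Lib.helper3.PrincOnly.one G, rfl⟩
  obtain ⟨o, ho⟩ : ∃ o : IrrCharacter G, o = Cfsg.Agent.Lib.helper3.PrincOnly.one G := ⟨_, rfl⟩
  have hoapp : ∀ g : G, (o : G → ℂ) g = 1 := by intro g; rw [ho]; rfl
  have hoB : o ∈ B0 := by
    rw [hB0, ho]; exact sameBlock_refl hMp.ne_top _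
  have hco : c o = 1 := by
    have := hcx o
    rw [hoapp] at this
    exact_mod_cast this.symm
  -- the sum of squares
  have hz1 : x ≠ 1 := by
    intro h; rw [h, orderOf_one] at hx4; norm_num at hx4
  have hsum4 : ∑ χ : IrrCharacter G, (if χ ∈ B0 then (1 : ℂ) else 0)
      * ((χ : G → ℂ) x * conj ((χ : G → ℂ) x)) = 4 := by
    obtain ⟨hcent2, hcentk⟩ := centralizer_xe S e
    rw [← hx] at hcent2 hcentk
    have hS47 := (Cfsg.Agent.S0947.result 2 M hM x ⟨2, by rw [hx4]; norm_num⟩ hz1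
      (1 : Subgroup.centralizer ({x} : Set G)) (by rw [orderOf_one]; norm_num)).2 hcentk
    rw [hcent2] at hS47
    have h2 : (x * ((1 : Subgroup.centralizer ({x} : Set G)) : G)) = x := by
      rw [Subgroup.coe_one, mul_one]
    rw [h2] at hS47
    have h1 := ofReal_finsum_mem_norm_sq (principalBlock M G)
      (fun ζ : IrrCharacter G => (ζ : G → ℂ) x)
    rw [hB0, ← h1, hS47]
    norm_num
  have hsumC : ∑ χ : IrrCharacter G, (if χ ∈ B0 then (1 : ℂ) else 0)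
      * ((c χ : ℂ) * (c χ : ℂ)) = 4 := by
    rw [← hsum4]
    apply Finset.sum_congr rfl
    intro χ _
    rw [hcx χ, map_intCast]
  obtain ⟨T, hT⟩ : ∃ T : Finset (IrrCharacter G),
      T = Finset.univ.filter (fun χ => χ ∈ B0 ∧ χ ≠ o ∧ c χ ≠ 0) := ⟨_, rfl⟩
  have hmemT : ∀ χ, χ ∈ T ↔ χ ∈ B0 ∧ χ ≠ o ∧ c χ ≠ 0 := by
    intro χ; rw [hT, Finset.mem_filter]; simp
  have hsplit : ∀ F : IrrCharacter G → ℂ,
      ∑ χ, (if χ ∈ B0 then (1 : ℂ) else 0) * ((c χ : ℂ) * F χ)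
        = F o + ∑ χ ∈ T, (c χ : ℂ) * F χ := by
    intro F
    exact sum_split B0 o hoB c hco F T hmemT
  have hsumT : ∑ χ ∈ T, c χ ^ 2 = 3 := by
    have h1 := hsplit (fun χ => (c χ : ℂ))
    rw [hsumC, hco] at h1
    have h2 : ((∑ χ ∈ T, c χ ^ 2 : ℤ) : ℂ) = ((3 : ℤ) : ℂ) := by
      push_cast
      have h3 : ∑ χ ∈ T, (c χ : ℂ) ^ 2 = ∑ χ ∈ T, (c χ : ℂ) * (c χ : ℂ) := by
        apply Finset.sum_congr rfl
        intro χ _
        ring
      rw [h3]
      push_cast at h1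
      linear_combination -h1
    exact_mod_cast h2
  obtain ⟨χ1, χ2, χ3, h12, h13, h23, hT3, hd1, hd2, hd3⟩ :=
    three_of_sum_sq T c (fun χ hχ => ((hmemT χ).mp hχ).2.2) hsumT
  have hχ1T : χ1 ∈ T := by rw [hT3]; simp
  have hχ2T : χ2 ∈ T := by rw [hT3]; simp
  have hχ3T : χ3 ∈ T := by rw [hT3]; simp
  have hsplit3 : ∀ F : IrrCharacter G → ℂ,
      ∑ χ, (if χ ∈ B0 then (1 : ℂ) else 0) * ((c χ : ℂ) * F χ)
        = F o + (c χ1 : ℂ) * F χ1 + (c χ2 : ℂ) * F χ2 + (c χ3 : ℂ) * F χ3 := by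
    intro F
    rw [hsplit F, hT3, Finset.sum_insert (by simp [h12, h13]),
      Finset.sum_insert (by simp [h23]), Finset.sum_singleton]
    ring
  -- vanishing
  have hxinv4 : orderOf x⁻¹ = 4 := by rw [orderOf_inv, hx4]
  have hV : ∀ g z : G, IsPPart 2 g z → ¬ IsConj z x →
      ∑ χ : IrrCharacter G, (if χ ∈ B0 then (1 : ℂ) else 0) * ((c χ : ℂ) * (χ : G → ℂ) g) = 0 := by
    intro g z hz hzx
    have hxx : IsPPart 2 x x :=
      ⟨1, mul_one x, Commute.one_right x, ⟨2, by rw [hx4]; norm_num⟩, by simp⟩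
    have h1 := block_orthogonality hM B0 hB0blk g x z x hz hxx hzx
    refine Eq.trans ?_ h1
    apply Finset.sum_congr rfl
    intro χ _
    rw [hval4 χ x⁻¹ hxinv4, hcx χ]
    ring
  have hP1 : IsPPart 2 (1 : G) 1 := ⟨1, mul_one 1, Commute.one_left 1, ⟨0, by simp⟩, by simp⟩
  have hnc1 : ¬ IsConj (1 : G) x := by
    intro h
    rw [isConj_one_right] at h
    exact hz1 h
  have hPt : IsPPart 2 t t :=
    ⟨1, mul_one t, Commute.one_right t, ⟨1, by rw [ht2]; norm_num⟩, by simp⟩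
  have hnct : ¬ IsConj t x := by
    intro h
    obtain ⟨g, hg⟩ := isConj_iff.mp h
    have := orderOf_conj g t
    rw [hg, hx4, ht2] at this
    norm_num at this
  have hR1 := hV 1 1 hP1 hnc1
  have hR2 := hV t t hPt hnct
  rw [hsplit3 (fun χ => (χ : G → ℂ) 1)] at hR1
  rw [hsplit3 (fun χ => (χ : G → ℂ) t)] at hR2
  -- the class algebra relation
  have hclsne : ((cls t).card : ℂ) ≠ 0 := by
    have : t ∈ cls t := mem_cls.mpr (IsConj.refl t)
    exact_mod_cast (Finset.card_pos.mpr ⟨t, this⟩).ne'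
  have hclsord : ∀ u ∈ cls t, orderOf u = 2 := by
    intro u hu
    rw [mem_cls, isConj_iff] at hu
    obtain ⟨g, hg⟩ := hu
    rw [← hg, orderOf_conj, ht2]
  have hR3 : ∑ χ : IrrCharacter G, (if χ ∈ B0 then (1 : ℂ) else 0)
      * ((c χ : ℂ) * (((cls t).card : ℂ) * ((cls t).card : ℂ) * (χ : G → ℂ) t * (χ : G → ℂ) t
        / (χ : G → ℂ) 1)) = 0 := by
    have h1 : ∀ u ∈ cls t, ∀ v ∈ cls t, ∑ χ : IrrCharacter G,
        (if χ ∈ B0 then (1 : ℂ) else 0) * ((c χ : ℂ) * (χ : G → ℂ) (u * v)) = 0 := by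
      intro u hu v hv
      have hodd := Cfsg.Agent.Lib.helper3.BSQ.odd_orderOf_mul S 2 e u v (hclsord u hu)
        (hclsord v hv)
      have hP : IsPPart 2 (u * v) 1 :=
        ⟨u * v, one_mul _, Commute.one_left _, ⟨0, by simp⟩, by
          intro h2
          exact (Nat.not_even_iff_odd.mpr hodd) (even_iff_two_dvd.mpr h2)⟩
      exact hV (u * v) 1 hP hnc1
    have h2 : ∑ u ∈ cls t, ∑ v ∈ cls t, ∑ χ : IrrCharacter G,
        (if χ ∈ B0 then (1 : ℂ) else 0) * ((c χ : ℂ) * (χ : G → ℂ) (u * v)) = 0 := by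
      apply Finset.sum_eq_zero
      intro u hu
      apply Finset.sum_eq_zero
      intro v hv
      exact h1 u hu v hv
    refine Eq.trans ?_ h2
    have h3 : ∀ u ∈ cls t, ∑ v ∈ cls t, ∑ χ : IrrCharacter G,
        (if χ ∈ B0 then (1 : ℂ) else 0) * ((c χ : ℂ) * (χ : G → ℂ) (u * v))
        = ∑ χ : IrrCharacter G, ∑ v ∈ cls t,
          (if χ ∈ B0 then (1 : ℂ) else 0) * ((c χ : ℂ) * (χ : G → ℂ) (u * v)) := by
      intro u _
      exact Finset.sum_comm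
    rw [Finset.sum_congr rfl h3, Finset.sum_comm]
    apply Finset.sum_congr rfl
    intro χ _
    rw [← sum_irr_mul χ.2 t t]
    simp only [Finset.mul_sum]
  rw [hsplit3 (fun χ => ((cls t).card : ℂ) * ((cls t).card : ℂ) * (χ : G → ℂ) t * (χ : G → ℂ) t
        / (χ : G → ℂ) 1)] at hR3
  -- signs
  have hcpm : ∀ χ ∈ T, c χ = 1 ∨ c χ = -1 := by
    intro χ hχ
    rw [hT3] at hχ
    simp only [Finset.mem_insert, Finset.mem_singleton] at hχ
    rcases hχ with rfl | rfl | rfl <;> assumption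
  -- pairing
  have hpair : ∀ χ ∈ T, Even (k χ : ℤ) ∨ (cbar χ ∈ T ∧ cbar χ ≠ χ ∧ c (cbar χ) = c χ ∧
      n (cbar χ) = n χ ∧ k (cbar χ) = k χ) := by
    intro χ hχT
    obtain ⟨hχB, hχo, hχc⟩ := (hmemT χ).mp hχT
    by_cases hreal : ∀ g : G, ((χ : G → ℂ) g).im = 0
    · left
      have hodd : Odd (n χ) := by
        have h1 := hnk χ
        rw [Nat.odd_iff]
        rcases hcpm χ hχT with h | h <;> rw [h] at h1 <;> omega
      obtain ⟨j, hj⟩ := Cfsg.Agent.H2.BSParity.char_parity χ.2 hreal (n χ) (hn1 χ) hodd x y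
        hrel1 hrel2 hrel3
      rw [← ht, hn1, hkt] at hj
      have h2 : ((k χ : ℕ) : ℂ) = ((2 * j : ℕ) : ℂ) := by
        push_cast
        linear_combination (1 / 4 : ℂ) * hj
      have h3 : k χ = 2 * j := by exact_mod_cast h2
      rw [h3]
      push_cast
      exact even_two_mul _
    · right
      push Not at hreal
      obtain ⟨g0, hg0⟩ := hreal
      have hne : cbar χ ≠ χ := by
        intro h
        apply hg0
        have h1 := congrArg (fun ψ : IrrCharacter G => (ψ : G → ℂ) g0) h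
        simp only [cbar_apply] at h1
        exact Complex.conj_eq_iff_im.mp h1
      have hB : cbar χ ∈ B0 := by
        rw [hB0]
        exact cbar_mem_principalBlock χ (hB0 ▸ hχB)
      have hc' : c (cbar χ) = c χ := by
        have h1 := hcx (cbar χ)
        rw [cbar_apply, hcx χ, map_intCast] at h1
        exact_mod_cast h1.symm
      have hn' : n (cbar χ) = n χ := by
        have h1 := hn1 (cbar χ)
        rw [cbar_apply, hn1 χ, map_natCast] at h1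
        exact_mod_cast h1.symm
      have hk' : k (cbar χ) = k χ := by
        have h1 := hkt (cbar χ)
        rw [cbar_apply, hkt χ, hn', map_sub, map_mul, map_natCast, map_natCast, map_ofNat] at h1
        have h2 : ((k (cbar χ) : ℕ) : ℂ) = ((k χ : ℕ) : ℂ) := by
          linear_combination ((1 / 4) : ℂ) * h1
        exact_mod_cast h2
      have hno : cbar χ ≠ o := by
        intro h
        apply hχo
        have h2 : cbar o = o := by
          apply Subtype.ext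
          funext g
          rw [cbar_apply, hoapp, map_one]
        rw [← cbar_cbar χ, h, h2]
      exact ⟨(hmemT _).mpr ⟨hB, hno, by rw [hc']; exact hχc⟩, hne, hc', hn', hk'⟩
  -- integer relations
  have hn1pos : (0 : ℤ) < n χ1 := by exact_mod_cast hnpos χ1
  have hn2pos : (0 : ℤ) < n χ2 := by exact_mod_cast hnpos χ2
  have hn3pos : (0 : ℤ) < n χ3 := by exact_mod_cast hnpos χ3
  have hb : (1 : ℤ) + c χ1 * n χ1 + c χ2 * n χ2 + c χ3 * n χ3 = 0 := by
    rw [hoapp 1] at hR1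
    simp only [hn1] at hR1
    exact_mod_cast hR1
  have hc4 : (1 : ℤ) + c χ1 * (n χ1 - 4 * k χ1) + c χ2 * (n χ2 - 4 * k χ2)
      + c χ3 * (n χ3 - 4 * k χ3) = 0 := by
    rw [hoapp t] at hR2
    simp only [hkt] at hR2
    exact_mod_cast hR2
  have hc : c χ1 * (k χ1 : ℤ) + c χ2 * (k χ2 : ℤ) + c χ3 * (k χ3 : ℤ) = 0 := by
    have : 4 * (c χ1 * (k χ1 : ℤ) + c χ2 * (k χ2 : ℤ) + c χ3 * (k χ3 : ℤ)) = 0 := by
      linear_combination hb - hc4
    omega
  have hn1ne : ((n χ1 : ℕ) : ℂ) ≠ 0 := by exact_mod_cast (hnpos χ1).ne'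
  have hn2ne : ((n χ2 : ℕ) : ℂ) ≠ 0 := by exact_mod_cast (hnpos χ2).ne'
  have hn3ne : ((n χ3 : ℕ) : ℂ) ≠ 0 := by exact_mod_cast (hnpos χ3).ne'
  have hE : (1 : ℂ) + (c χ1 : ℂ) * (((n χ1 : ℂ) - 4 * (k χ1 : ℂ)) ^ 2 / (n χ1 : ℂ))
      + (c χ2 : ℂ) * (((n χ2 : ℂ) - 4 * (k χ2 : ℂ)) ^ 2 / (n χ2 : ℂ))
      + (c χ3 : ℂ) * (((n χ3 : ℂ) - 4 * (k χ3 : ℂ)) ^ 2 / (n χ3 : ℂ)) = 0 := by
    rw [hoapp t, hoapp 1] at hR3
    simp only [hkt, hn1] at hR3
    have h1 : ((cls t).card : ℂ) * ((cls t).card : ℂ) *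
        ((1 : ℂ) + (c χ1 : ℂ) * (((n χ1 : ℂ) - 4 * (k χ1 : ℂ)) ^ 2 / (n χ1 : ℂ))
      + (c χ2 : ℂ) * (((n χ2 : ℂ) - 4 * (k χ2 : ℂ)) ^ 2 / (n χ2 : ℂ))
      + (c χ3 : ℂ) * (((n χ3 : ℂ) - 4 * (k χ3 : ℂ)) ^ 2 / (n χ3 : ℂ))) = 0 := by
      linear_combination hR3
    exact (mul_eq_zero.mp h1).resolve_left (mul_ne_zero hclsne hclsne)
  have hE' : ((n χ1 : ℂ) * (n χ2 : ℂ) * (n χ3 : ℂ))
      + (c χ1 : ℂ) * ((n χ1 : ℂ) - 4 * (k χ1 : ℂ)) ^ 2 * (n χ2 : ℂ) * (n χ3 : ℂ)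
      + (c χ2 : ℂ) * ((n χ2 : ℂ) - 4 * (k χ2 : ℂ)) ^ 2 * (n χ1 : ℂ) * (n χ3 : ℂ)
      + (c χ3 : ℂ) * ((n χ3 : ℂ) - 4 * (k χ3 : ℂ)) ^ 2 * (n χ1 : ℂ) * (n χ2 : ℂ) = 0 := by
    have h1 := congrArg (fun z : ℂ => (n χ1 : ℂ) * (n χ2 : ℂ) * (n χ3 : ℂ) * z) hE
    simp only [mul_zero] at h1
    rw [← h1]
    field_simp
  have hEz : ((n χ1 : ℤ) * (n χ2 : ℤ) * (n χ3 : ℤ))
      + c χ1 * ((n χ1 : ℤ) - 4 * (k χ1 : ℤ)) ^ 2 * (n χ2 : ℤ) * (n χ3 : ℤ)
      + c χ2 * ((n χ2 : ℤ) - 4 * (k χ2 : ℤ)) ^ 2 * (n χ1 : ℤ) * (n χ3 : ℤ)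
      + c χ3 * ((n χ3 : ℤ) - 4 * (k χ3 : ℤ)) ^ 2 * (n χ1 : ℤ) * (n χ2 : ℤ) = 0 := by
    exact_mod_cast hE'
  have hd : c χ1 * (k χ1 : ℤ) ^ 2 * (n χ2 : ℤ) * (n χ3 : ℤ)
      + c χ2 * (k χ2 : ℤ) ^ 2 * (n χ1 : ℤ) * (n χ3 : ℤ)
      + c χ3 * (k χ3 : ℤ) ^ 2 * (n χ1 : ℤ) * (n χ2 : ℤ) = 0 := by
    have : 16 * (c χ1 * (k χ1 : ℤ) ^ 2 * (n χ2 : ℤ) * (n χ3 : ℤ)
      + c χ2 * (k χ2 : ℤ) ^ 2 * (n χ1 : ℤ) * (n χ3 : ℤ)
      + c χ3 * (k χ3 : ℤ) ^ 2 * (n χ1 : ℤ) * (n χ2 : ℤ)) = 0 := by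
      linear_combination hEz - ((n χ1 : ℤ) * (n χ2 : ℤ) * (n χ3 : ℤ)) * hb
        + 8 * ((n χ1 : ℤ) * (n χ2 : ℤ) * (n χ3 : ℤ)) * hc
    omega
  have hmem3 : ∀ ψ ∈ T, ψ = χ1 ∨ ψ = χ2 ∨ ψ = χ3 := by
    intro ψ hψ
    rw [hT3] at hψ
    simpa only [Finset.mem_insert, Finset.mem_singleton] using hψ
  have he1 : Even (k χ1 : ℤ) ∨ (c χ2 = c χ1 ∧ (n χ2 : ℤ) = n χ1 ∧ (k χ2 : ℤ) = k χ1) ∨
      (c χ3 = c χ1 ∧ (n χ3 : ℤ) = n χ1 ∧ (k χ3 : ℤ) = k χ1) := by
    rcases hpair χ1 hχ1T with h | ⟨h1, h2, h3, h4, h5⟩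
    · left; exact h
    · right
      rcases hmem3 _ h1 with h | h | h
      · exact absurd h h2
      · left; rw [h] at h3 h4 h5; exact ⟨h3, by exact_mod_cast h4, by exact_mod_cast h5⟩
      · right; rw [h] at h3 h4 h5; exact ⟨h3, by exact_mod_cast h4, by exact_mod_cast h5⟩
  have he2 : Even (k χ2 : ℤ) ∨ (c χ1 = c χ2 ∧ (n χ1 : ℤ) = n χ2 ∧ (k χ1 : ℤ) = k χ2) ∨
      (c χ3 = c χ2 ∧ (n χ3 : ℤ) = n χ2 ∧ (k χ3 : ℤ) = k χ2) := by
    rcases hpair χ2 hχ2T with h | ⟨h1, h2, h3, h4, h5⟩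
    · left; exact h
    · right
      rcases hmem3 _ h1 with h | h | h
      · left; rw [h] at h3 h4 h5; exact ⟨h3, by exact_mod_cast h4, by exact_mod_cast h5⟩
      · exact absurd h h2
      · right; rw [h] at h3 h4 h5; exact ⟨h3, by exact_mod_cast h4, by exact_mod_cast h5⟩
  have he3 : Even (k χ3 : ℤ) ∨ (c χ1 = c χ3 ∧ (n χ1 : ℤ) = n χ3 ∧ (k χ1 : ℤ) = k χ3) ∨
      (c χ2 = c χ3 ∧ (n χ2 : ℤ) = n χ3 ∧ (k χ2 : ℤ) = k χ3) := by
    rcases hpair χ3 hχ3T with h | ⟨h1, h2, h3, h4, h5⟩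
    · left; exact h
    · right
      rcases hmem3 _ h1 with h | h | h
      · left; rw [h] at h3 h4 h5; exact ⟨h3, by exact_mod_cast h4, by exact_mod_cast h5⟩
      · right; rw [h] at h3 h4 h5; exact ⟨h3, by exact_mod_cast h4, by exact_mod_cast h5⟩
      · exact absurd h h2
  obtain ⟨hk1, -, -⟩ := Cfsg.Agent.H2.BSArith.arith hd1 hd2 hd3 hn1pos hn2pos hn3pos
    (Int.natCast_nonneg _) (Int.natCast_nonneg _) (Int.natCast_nonneg _)
    (hnk χ1) (hnk χ2) (hnk χ3) hb hc hd he1 he2 he3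
  refine ⟨(χ1 : G → ℂ), χ1.2, ?_, ?_⟩
  · intro h
    apply ((hmemT χ1).mp hχ1T).2.1
    apply Subtype.ext
    rw [h, ho]
    rfl
  · rw [hkt, hn1]
    have : k χ1 = 0 := by exact_mod_cast hk1
    rw [this]
    simp

end main

end Cfsg.Agent.H2.BSQ8
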