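import Mathlib
import Cfsg.Prelude.Def_Characters
import Cfsg.Prelude.Def_Solvable
import Cfsg.Agent.Lib.helper3.BSQ6
import Cfsg.Agent.Lib.helper3.PDeg5
import Cfsg.Agent.H1.Cores
import Cfsg.Agent.H2.PPrimeCore
import Cfsg.Agent.H2.UniqueOrderP
import Cfsg.Agent.H2.BSQ8Char

/-!
# Brauer–Suzuki: an involution which is the only involution of its centralizer is central modulo
the largest normal subgroup of odd order
-/

set_option autoImplicit false
set_option linter.style.haveILetI false
set_option linter.unusedSectionVars false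

namespace Cfsg.Agent.H2.BSUnique

open Cfsg QuaternionGroup
open Cfsg.Agent.Lib.helper3.Irr Cfsg.Agent.Lib.helper3.IndFun Cfsg.Agent.Lib.helper3.CharBasic
open Cfsg.Agent.Lib.helper3.PDeg

universe u

section basic

variable {G : Type u} [Group G] [Finite G]

/-- If `t` is the only involution of its centralizer, then it is central in, and the only involution
of, every Sylow `2`-subgroup containing it. -/
theorem sylow_unique {t : G} (ht : orderOf t = 2)
    (hu : ∀ s : G, orderOf s = 2 → s * t = t * s → s = t) (S : Sylow 2 G)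
    (htS : t ∈ (S : Subgroup G)) :
    (∀ s ∈ (S : Subgroup G), s * t = t * s) ∧ (∀ s ∈ (S : Subgroup G), orderOf s = 2 → s = t) := by
  haveI : Fact (Nat.Prime 2) := ⟨Nat.prime_two⟩
  have ht1 : t ≠ 1 := by
    intro h
    rw [h, orderOf_one] at ht
    norm_num at ht
  haveI : Nontrivial (S : Subgroup G) := by
    refine ⟨⟨⟨t, htS⟩, 1, ?_⟩⟩
    intro h
    exact ht1 (congrArg Subtype.val h)
  haveI hnt := IsPGroup.center_nontrivial S.isPGroup'
  have h2 : 2 ∣ Nat.card (Subgroup.center (S : Subgroup G)) := by
    obtain ⟨k, hk⟩ := (S.isPGroup'.to_subgroup (Subgroup.center (S : Subgroup G))).exists_card_eq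
    rw [hk]
    rcases Nat.eq_zero_or_pos k with h0 | h0
    · exfalso
      rw [h0, pow_zero] at hk
      have := (Nat.card_eq_one_iff_unique.mp hk).1
      exact not_subsingleton _ this
    · exact dvd_pow_self 2 h0.ne'
  obtain ⟨z, hz⟩ := exists_prime_orderOf_dvd_card' 2 h2
  have hz2 : orderOf (((z : (S : Subgroup G)) : G)) = 2 := by
    rw [Subgroup.orderOf_coe, Subgroup.orderOf_coe, hz]
  have hzc : ∀ s : (S : Subgroup G), s * (z : (S : Subgroup G)) = (z : (S : Subgroup G)) * s :=
    fun s => (Subgroup.mem_center_iff.mp z.2 s)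
  have hzt : ((z : (S : Subgroup G)) : G) = t := by
    apply hu _ hz2
    have := congrArg Subtype.val (hzc ⟨t, htS⟩)
    exact this.symm
  have hcen : ∀ s ∈ (S : Subgroup G), s * t = t * s := by
    intro s hs
    have := congrArg Subtype.val (hzc ⟨s, hs⟩)
    rw [← hzt]
    exact this
  exact ⟨hcen, fun s hs hs2 => hu s hs2 (hcen s hs)⟩

/-- A normal complement to a Sylow `2`-subgroup is trivial if `O(G) = 1`. -/
theorem sylow_eq_top_of_complement (hO : Cfsg.pPrimeCore 2 G = ⊥) (S : Sylow 2 G)
    (K : Subgroup G) (hK : K.Normal) (hc : Subgroup.IsComplement' K (S : Subgroup G)) :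
    (S : Subgroup G) = ⊤ := by
  haveI : Fact (Nat.Prime 2) := ⟨Nat.prime_two⟩
  have h1 : (S : Subgroup G).index = Nat.card K := hc.index_eq_card
  have h2 : ¬ 2 ∣ Nat.card K := by
    rw [← h1]
    exact S.not_dvd_index
  have h3 : K ≤ Cfsg.pPrimeCore 2 G := by
    apply Cfsg.Agent.H1.le_pPrimeCore hK
    rw [Nat.coprime_comm, Nat.Prime.coprime_iff_not_dvd Nat.prime_two]
    exact h2
  rw [hO, le_bot_iff] at h3
  rw [h3] at hc
  exact Subgroup.isComplement'_bot_left.mp hc

/-- The hypothesis in the form used for the quaternion groups of order at least 16. -/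
theorem eq_bot_of_odd (hO : Cfsg.pPrimeCore 2 G = ⊥) (N : Subgroup G) (hN : N.Normal)
    (hodd : Odd (Nat.card N)) : N = ⊥ := by
  have h3 : N ≤ Cfsg.pPrimeCore 2 G := by
    apply Cfsg.Agent.H1.le_pPrimeCore hN
    exact Nat.Coprime.symm (Nat.coprime_two_left.mpr hodd)
  rwa [hO, le_bot_iff] at h3

end basic

/-- The statement proved by induction. -/
def Central (G : Type u) [Group G] : Prop :=
  ∀ t : G, orderOf t = 2 → (∀ s : G, orderOf s = 2 → s * t = t * s → s = t) →
    Cfsg.pPrimeCore 2 G = ⊥ → t ∈ Subgroup.center G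

section step

variable {G : Type u} [Group G] [Finite G]

/-- Reduction to a proper normal subgroup containing `t`. -/
theorem central_of_normal (ih : ∀ (H : Type u) [Group H] [Finite H], Nat.card H < Nat.card G →
    Central H) {t : G} (ht : orderOf t = 2)
    (hu : ∀ s : G, orderOf s = 2 → s * t = t * s → s = t) (hO : Cfsg.pPrimeCore 2 G = ⊥)
    (N : Subgroup G) (hN : N.Normal) (hNtop : N ≠ ⊤) (htN : t ∈ N) : t ∈ Subgroup.center G := by
  have hcard : Nat.card N < Nat.card G := by
    have h1 : Nat.card N ≤ Nat.card G := Subgroup.card_le_card_group N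
    rcases Nat.lt_or_ge (Nat.card N) (Nat.card G) with h | h
    · exact h
    · exfalso
      exact hNtop (Subgroup.card_eq_iff_eq_top N |>.mp (le_antisymm h1 h))
  have hON : Cfsg.pPrimeCore 2 N = ⊥ := by
    have h1 := Cfsg.Agent.H2.pPrimeCore_map_subtype_le_of_isSubnormal 2 hN.isSubnormal
    rw [hO, le_bot_iff] at h1
    exact (Subgroup.map_eq_bot_iff_of_injective _ N.subtype_injective).mp h1
  have h1 := ih N hcard ⟨t, htN⟩ (by rw [Subgroup.orderOf_mk]; exact ht)
    (by
      intro s hs hc
      apply Subtype.ext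
      apply hu (s : G) (by rw [Subgroup.orderOf_coe]; exact hs)
      exact congrArg Subtype.val hc) hON
  rw [Subgroup.mem_center_iff]
  intro g
  have h2 : g * t * g⁻¹ ∈ N := hN.conj_mem t htN g
  have h3 := congrArg Subtype.val (Subgroup.mem_center_iff.mp h1 ⟨g * t * g⁻¹, h2⟩)
  have h4 : orderOf (g * t * g⁻¹) = 2 := by
    rw [Cfsg.Agent.H2.BSQ8.orderOf_conj]; exact ht
  have h5 := hu _ h4 h3
  calc g * t = (g * t * g⁻¹) * g := by group
    _ = t * g := by rw [h5]

/-- The case of a quaternion Sylow subgroup of order 8. -/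
theorem central_q8 (ih : ∀ (H : Type u) [Group H] [Finite H], Nat.card H < Nat.card G →
    Central H) {t : G} (ht : orderOf t = 2)
    (hu : ∀ s : G, orderOf s = 2 → s * t = t * s → s = t) (hO : Cfsg.pPrimeCore 2 G = ⊥)
    (S : Sylow 2 G) (htS : t ∈ (S : Subgroup G)) (e : (S : Subgroup G) ≃* QuaternionGroup 2) :
    t ∈ Subgroup.center G := by
  classical
  letI : Fintype G := Fintype.ofFinite G
  obtain ⟨hcen, huS⟩ := sylow_unique ht hu S htS
  by_cases hnc : ∀ N : Subgroup G, N.Normal → ¬ Subgroup.IsComplement' N (S : Subgroup G)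
  · have hconj := Cfsg.Agent.H2.BSQ8.isConj_xe_of_orderOf_eq_four S e hnc
    obtain ⟨χ, hχ, hχ1, hχt⟩ := Cfsg.Agent.H2.BSQ8.exists_irr_sq_mem_ker S e hconj
    have hxt : Cfsg.Agent.H2.BSQ8.xe (S : Subgroup G) e * Cfsg.Agent.H2.BSQ8.xe (S : Subgroup G) e
        = t := by
      apply huS
      · exact Subgroup.mul_mem _ (Cfsg.Agent.H2.BSQ8.xe_mem _ e) (Cfsg.Agent.H2.BSQ8.xe_mem _ e)
      · exact Cfsg.Agent.H2.BSQ8.orderOf_xe_sq _ e
    rw [hxt] at hχt
    have hχc := isCharacter_of_isIrrCharacter hχ
    apply central_of_normal ih ht hu hO (kerSub hχc) (kerSub_normal hχc)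
    · intro htop
      have hall : ∀ g : G, χ g = χ 1 := by
        intro g
        have : g ∈ kerSub hχc := by rw [htop]; exact Subgroup.mem_top g
        exact (mem_kerSub hχc g).mp this
      have h1 : IsIrrCharacter G (fun _ : G => (1 : ℂ)) := isIrrCharacter_one
      have h2 := irr_classInner_eq_zero hχ h1 hχ1
      rw [classInner_apply] at h2
      have h3 : ∑ g : G, χ g * (starRingEnd ℂ) ((fun _ : G => (1 : ℂ)) g)
          = (Nat.card G : ℂ) * χ 1 := by
        simp only [hall, map_one, mul_one, Finset.sum_const, Finset.card_univ, nsmul_eq_mul,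
          Nat.card_eq_fintype_card]
      rw [h3] at h2
      have hG0 : (Nat.card G : ℂ) ≠ 0 := by exact_mod_cast Nat.card_pos.ne'
      have h4 : χ 1 = 0 := by
        rcases mul_eq_zero.mp h2 with h | h
        · exact absurd (inv_eq_zero.mp h) hG0
        · rcases mul_eq_zero.mp h with h | h
          · exact absurd h hG0
          · exact h
      exact apply_one_ne_zero hχ h4
    · exact (mem_kerSub hχc t).mpr hχt
  · push Not at hnc
    obtain ⟨K, hK, hKc⟩ := hnc
    have htop := sylow_eq_top_of_complement hO S K hK hKc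
    rw [Subgroup.mem_center_iff]
    intro g
    exact hcen g (by rw [htop]; exact Subgroup.mem_top g)

/-- The case of a cyclic Sylow subgroup. -/
theorem central_cyclic {t : G} (ht : orderOf t = 2)
    (hu : ∀ s : G, orderOf s = 2 → s * t = t * s → s = t) (hO : Cfsg.pPrimeCore 2 G = ⊥)
    (S : Sylow 2 G) (htS : t ∈ (S : Subgroup G)) (hcyc : IsCyclic (S : Subgroup G)) :
    t ∈ Subgroup.center G := by
  obtain ⟨hcen, -⟩ := sylow_unique ht hu S htS
  have h2 : 2 ∣ Nat.card G := by
    have := orderOf_dvd_natCard t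
    rwa [ht] at this
  have hmin : (Nat.card G).minFac = 2 := (Nat.minFac_eq_two_iff _).mpr h2
  have hcompl := IsCyclic.isComplement' hmin hcyc
  have htop := sylow_eq_top_of_complement hO S _ inferInstance hcompl
  rw [Subgroup.mem_center_iff]
  intro g
  exact hcen g (by rw [htop]; exact Subgroup.mem_top g)

/-- The case of a quaternion Sylow subgroup of order at least 16. -/
theorem central_big {t : G} (ht : orderOf t = 2)
    (hu : ∀ s : G, orderOf s = 2 → s * t = t * s → s = t) (hO : Cfsg.pPrimeCore 2 G = ⊥)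
    (S : Sylow 2 G) (n : ℕ) (e : (S : Subgroup G) ≃* QuaternionGroup (2 ^ (n + 2))) :
    t ∈ Subgroup.center G := by
  have h1 := Cfsg.Agent.Lib.helper3.BSQ.card_center_eq_two S n e (eq_bot_of_odd hO)
  have h2 : 2 ∣ Nat.card (Subgroup.center G) := by rw [h1]
  obtain ⟨z, hz⟩ := exists_prime_orderOf_dvd_card' 2 h2
  have hz2 : orderOf (z : G) = 2 := by rw [Subgroup.orderOf_coe, hz]
  have hzt : (z : G) = t := hu _ hz2 (Subgroup.mem_center_iff.mp z.2 t).symm
  rw [← hzt]
  exact z.2

end step

/-- **Brauer–Suzuki**, all cases: an involution which is the only involution in its centralizer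
is central if `O(G) = 1`. -/
theorem central_aux : ∀ (N : ℕ) (G : Type u) [Group G] [Finite G], Nat.card G = N → Central G := by
  intro N
  induction N using Nat.strong_induction_on with
  | _ N ih =>
    intro G _ _ hN t ht hu hO
    haveI : Fact (Nat.Prime 2) := ⟨Nat.prime_two⟩
    have ih' : ∀ (H : Type u) [Group H] [Finite H], Nat.card H < Nat.card G → Central H := by
      intro H _ _ hlt
      exact ih (Nat.card H) (by rw [← hN]; exact hlt) H rfl
    have hP : IsPGroup 2 (Subgroup.zpowers t) :=
      IsPGroup.of_card (n := 1) (by rw [Nat.card_zpowers, ht, pow_one])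
    obtain ⟨S, hS⟩ := hP.exists_le_sylow
    have htS : t ∈ (S : Subgroup G) := hS (Subgroup.mem_zpowers t)
    obtain ⟨hcen, huS⟩ := sylow_unique ht hu S htS
    -- the Sylow subgroup has a unique subgroup of order two
    have hsub : ∀ H : Subgroup (S : Subgroup G), Nat.card H = 2 →
        H = Subgroup.zpowers (⟨t, htS⟩ : (S : Subgroup G)) := by
      intro H hH
      have hnt : Nontrivial H := by
        rw [← Finite.one_lt_card_iff_nontrivial, hH]
        norm_num
      obtain ⟨h, hh⟩ := exists_ne (1 : H)
      have h1 : orderOf h = 2 := by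
        have h2 : orderOf h ∣ 2 := by
          have := orderOf_dvd_natCard h
          rwa [hH] at this
        rcases (Nat.dvd_prime Nat.prime_two).mp h2 with h3 | h3
        · exact absurd (orderOf_eq_one_iff.mp h3) hh
        · exact h3
      have h2 : (((h : (S : Subgroup G)) : G)) = t := by
        apply huS
        · exact (h : (S : Subgroup G)).2
        · rw [Subgroup.orderOf_coe, Subgroup.orderOf_coe]
          exact h1
      have h3 : (⟨t, htS⟩ : (S : Subgroup G)) ∈ H := by
        have : (⟨t, htS⟩ : (S : Subgroup G)) = (h : (S : Subgroup G)) := Subtype.ext h2.symm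
        rw [this]
        exact h.2
      symm
      apply Subgroup.eq_of_le_of_card_ge
      · rw [Subgroup.zpowers_le]; exact h3
      · rw [hH, Nat.card_zpowers, Subgroup.orderOf_mk, ht]
    have huniq : ∀ H K : Subgroup (S : Subgroup G), Nat.card H = 2 → Nat.card K = 2 → H = K := by
      intro H K hH hK
      rw [hsub H hH, hsub K hK]
    rcases Cfsg.Agent.H2.UOP.main 2 S.isPGroup' huniq with hcyc | ⟨-, n, ⟨e⟩⟩
    · exact central_cyclic ht hu hO S htS hcyc
    · rcases n with _ | _ | n
      · have hc1 : IsCyclic (QuaternionGroup (2 ^ 0)) := QuaternionGroup.quaternionGroup_one_isCyclic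
        have hcyc : IsCyclic (S : Subgroup G) := isCyclic_of_surjective e.symm e.symm.surjective
        exact central_cyclic ht hu hO S htS hcyc
      · exact central_q8 ih' ht hu hO S htS e
      · exact central_big ht hu hO S n e

/-- **Brauer–Suzuki** for an involution which is the only involution of its centralizer. -/
theorem central {G : Type u} [Group G] [Finite G] {t : G} (ht : orderOf t = 2)
    (hu : ∀ s : G, orderOf s = 2 → s * t = t * s → s = t) (hO : Cfsg.pPrimeCore 2 G = ⊥) :
    t ∈ Subgroup.center G :=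
  central_aux (Nat.card G) G rfl t ht hu hO

end Cfsg.Agent.H2.BSUnique
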