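import Mathlib
import Cfsg.Agent.Lib.helper3.BSQ6
import Cfsg.Agent.H2.BSUnique

/-!
# Brauer–Suzuki: the centre has order two
-/

set_option autoImplicit false
set_option linter.style.haveILetI false
set_option linter.unusedSectionVars false

namespace Cfsg.Agent.H2.BSUnique

open Cfsg QuaternionGroup Cfsg.Agent.Lib.helper3.BSQ

/-- If a central involution exists, the Sylow `2`-subgroups are generalized quaternion and there is
no nontrivial normal subgroup of odd order, then the centre has order two. -/
theorem card_center_eq_two_of_mem {G : Type*} [Group G] [Finite G] (S : Sylow 2 G) (m : ℕ)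
    [NeZero m] (hm2 : 2 ≤ m) (e : (S : Subgroup G) ≃* QuaternionGroup m)
    (hO : ∀ N : Subgroup G, N.Normal → Odd (Nat.card N) → N = ⊥) (z : G) (hz : orderOf z = 2)
    (hzc : z ∈ Subgroup.center G) :
    Nat.card (Subgroup.center G) = 2 := by
  classical
  haveI : Fact (Nat.Prime 2) := ⟨Nat.prime_two⟩
  -- the centre is a `2`-group
  have hprime : ∀ c ∈ Subgroup.center G, ∀ d : ℕ, d.Prime → d ∣ orderOf c → d = 2 := by
    intro c hc d hd hdvd
    by_contra hne
    obtain ⟨c', hc'def⟩ : ∃ c' : G, c' = c ^ (orderOf c / d) := ⟨_, rfl⟩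
    have hc'ord : orderOf c' = d := by
      rw [hc'def]
      exact orderOf_pow_orderOf_div (orderOf_pos c).ne' hdvd
    have hc'c : c' ∈ Subgroup.center G := by
      rw [hc'def]; exact Subgroup.pow_mem _ hc _
    have hN : (Subgroup.zpowers c').Normal := by
      constructor
      intro x hx g
      obtain ⟨k, rfl⟩ := Subgroup.mem_zpowers_iff.mp hx
      have h1 : g * c' ^ k * g⁻¹ = c' ^ k := by
        have h2 := Subgroup.mem_center_iff.mp (Subgroup.zpow_mem _ hc'c k) g
        calc g * c' ^ k * g⁻¹ = c' ^ k * g * g⁻¹ := by rw [h2]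
          _ = c' ^ k := by group
      rw [h1]
      exact Subgroup.zpow_mem _ (Subgroup.mem_zpowers c') k
    have hodd : Odd (Nat.card (Subgroup.zpowers c')) := by
      rw [Nat.card_zpowers, hc'ord]
      exact hd.odd_of_ne_two hne
    have hbot := hO _ hN hodd
    have h1 : c' = 1 := by
      have := Subgroup.mem_zpowers c'
      rw [hbot, Subgroup.mem_bot] at this
      exact this
    rw [h1, orderOf_one] at hc'ord
    exact hd.one_lt.ne hc'ord
  -- every central element lies in `S` and maps to the centre of the quaternion group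
  have hmem : ∀ c ∈ Subgroup.center G, c = 1 ∨ c = z := by
    intro c hc
    have hcpow : orderOf c = 2 ^ (orderOf c).primeFactorsList.length :=
      Nat.eq_prime_pow_of_unique_prime_dvd (orderOf_pos c).ne'
        (fun {d} hd hdvd => hprime c hc d hd hdvd)
    have hP : IsPGroup 2 (Subgroup.zpowers c) :=
      IsPGroup.of_card (n := (orderOf c).primeFactorsList.length)
        (by rw [Nat.card_zpowers]; exact hcpow)
    obtain ⟨P, hPle⟩ := hP.exists_le_sylow
    obtain ⟨g, hg⟩ := MulAction.exists_smul_eq G P S
    have hcP : c ∈ (P : Subgroup G) := hPle (Subgroup.mem_zpowers c)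
    have hcS : c ∈ (S : Subgroup G) := by
      have h1 : g * c * g⁻¹ ∈ (S : Subgroup G) := by
        rw [← hg, Sylow.coe_subgroup_smul]
        exact Subgroup.smul_mem_pointwise_smul _ (MulAut.conj g) (P : Subgroup G) hcP
      have h2 : g * c * g⁻¹ = c := by
        have h3 := Subgroup.mem_center_iff.mp hc g
        calc g * c * g⁻¹ = c * g * g⁻¹ := by rw [h3]
          _ = c := by group
      rwa [h2] at h1
    have hcomm : ∀ s : (S : Subgroup G), (⟨c, hcS⟩ : (S : Subgroup G)) * s = s * ⟨c, hcS⟩ := by
      intro s
      apply Subtype.ext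
      exact (Subgroup.mem_center_iff.mp hc (s : G)).symm
    have hq := quat_central hm2 (e ⟨c, hcS⟩)
      (by
        have := congrArg e (hcomm (e.symm (xa 0)))
        rwa [map_mul, map_mul, e.apply_symm_apply] at this)
      (by
        have := congrArg e (hcomm (e.symm (a 1)))
        rwa [map_mul, map_mul, e.apply_symm_apply] at this)
    rcases hq with hq | hq
    · left
      have : (⟨c, hcS⟩ : (S : Subgroup G)) = 1 := e.injective (by rw [hq, map_one])
      exact congrArg Subtype.val this
    · right
      by_contra hne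
      have hc1 : c ≠ 1 := by
        intro h
        subst h
        have h5 : (⟨1, hcS⟩ : (S : Subgroup G)) = 1 := rfl
        rw [h5, map_one, one_def] at hq
        have h6 := a.inj hq
        have h7 : ((m : ℕ) : ZMod (2 * m)) = 0 := by
          rw [← h6]
        rw [ZMod.natCast_eq_zero_iff] at h7
        have := Nat.le_of_dvd (NeZero.pos m) h7
        omega
      have hc2 : c ^ 2 = 1 := by
        have h5 : e (⟨c, hcS⟩ ^ 2) = 1 := by
          rw [map_pow, hq, pow_two, a_mul_a, Cfsg.Agent.H2.QuatSylow.two_n']
          rfl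
        have h6 : (⟨c, hcS⟩ : (S : Subgroup G)) ^ 2 = 1 := e.injective (by rw [h5, map_one])
        exact congrArg Subtype.val h6
      have hcord : orderOf c = 2 := orderOf_eq_prime hc2 hc1
      have hcz : c * z = z * c := (Subgroup.mem_center_iff.mp hc z).symm
      exact hne (eq_of_commute_involutions S m e c z hcord hz hcz)
  -- count
  have hcard : Nat.card (Subgroup.center G) ≤ 2 := by
    have hsub : ((Subgroup.center G : Subgroup G) : Set G) ⊆ ({1, z} : Set G) := by
      intro c hc
      rcases hmem c hc with h | h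
      · left; exact h
      · right; exact h
    have h1 : Nat.card (Subgroup.center G) = ((Subgroup.center G : Subgroup G) : Set G).ncard :=
      (_root_.Nat.card_coe_set_eq _)
    rw [h1]
    calc ((Subgroup.center G : Subgroup G) : Set G).ncard ≤ ({1, z} : Set G).ncard :=
          Set.ncard_le_ncard hsub (Set.toFinite _)
      _ ≤ 2 := Set.ncard_insert_le _ _ |>.trans (by simp)
  have h2dvd : 2 ∣ Nat.card (Subgroup.center G) := by
    have := Subgroup.orderOf_dvd_natCard _ hzc
    rwa [hz] at this
  have := Nat.le_of_dvd Nat.card_pos h2dvd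
  omega

/-- **Brauer–Suzuki** for the quaternion group of order 8. -/
theorem card_center_eq_two_q8 {G : Type*} [Group G] [Finite G] (S : Sylow 2 G)
    (e : (S : Subgroup G) ≃* QuaternionGroup 2)
    (hO : ∀ N : Subgroup G, N.Normal → Odd (Nat.card N) → N = ⊥) :
    Nat.card (Subgroup.center G) = 2 := by
  haveI : Fact (Nat.Prime 2) := ⟨Nat.prime_two⟩
  have hO' : Cfsg.pPrimeCore 2 G = ⊥ := by
    apply hO _ (Cfsg.Agent.H1.pPrimeCore_normal 2)
    have := Cfsg.Agent.H1.pPrimeCore_coprime (G := G) 2
    exact Nat.coprime_two_left.mp this.symm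
  obtain ⟨t, ht⟩ : ∃ t : G, t = Cfsg.Agent.H2.BSQ8.xe (S : Subgroup G) e
      * Cfsg.Agent.H2.BSQ8.xe (S : Subgroup G) e := ⟨_, rfl⟩
  have ht2 : orderOf t = 2 := by rw [ht]; exact Cfsg.Agent.H2.BSQ8.orderOf_xe_sq _ e
  have hu : ∀ s : G, orderOf s = 2 → s * t = t * s → s = t := by
    intro s hs hc
    exact eq_of_commute_involutions S 2 e s t hs ht2 hc
  have hc := central ht2 hu hO'
  exact card_center_eq_two_of_mem S 2 (le_refl 2) e hO t ht2 hc

end Cfsg.Agent.H2.BSUnique
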