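import Mathlib
import Cfsg.Agent.H2.ConjMap

/-!
# Brauer–Suzuki–Wall in characteristic 2, part A (helper2)

Finite groups in which the centralizer of every involution is an elementary abelian
2-group: basic structure of the Sylow 2-subgroups (elementary abelian, TI, self-centralizing).
-/

set_option autoImplicit false

namespace Cfsg.Agent.H2.BSWEven

open MulAction

variable {G : Type*} [Group G]

/-- The working hypotheses, stated on all Sylow 2-subgroups. -/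
structure Ctx (G : Type*) [Group G] : Prop where
  sq : ∀ (P : Sylow 2 G), ∀ x ∈ P, x * x = 1
  comm : ∀ (P : Sylow 2 G), ∀ x ∈ P, ∀ y ∈ P, x * y = y * x
  cent : ∀ (P : Sylow 2 G), ∀ t ∈ P, t ≠ 1 → ∀ g : G, g * t = t * g → g ∈ P
  big : ∀ (P : Sylow 2 G), ∃ a ∈ P, ∃ b ∈ P, a ≠ 1 ∧ b ≠ 1 ∧ a ≠ b
  two : ∃ P Q : Sylow 2 G, P ≠ Q

/-- a 2-element normalizing a Sylow 2-subgroup lies in it -/
theorem mem_of_pow (P : Sylow 2 G) (x : G) (k : ℕ) (hx : x ^ (2 ^ k) = 1) (hfix : x • P = P) :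
    x ∈ P := by
  have hz : IsPGroup 2 (Subgroup.zpowers x) := by
    rintro ⟨y, hy⟩
    obtain ⟨n, rfl⟩ := Subgroup.mem_zpowers_iff.1 hy
    refine ⟨k, Subtype.ext ?_⟩
    show (x ^ n) ^ 2 ^ k = 1
    rw [← zpow_natCast, ← zpow_mul, mul_comm, zpow_mul, zpow_natCast, hx, one_zpow]
  have hnorm : Subgroup.zpowers x ≤ Subgroup.normalizer ((P : Subgroup G) : Set G) := by
    rw [Subgroup.zpowers_le]
    exact Sylow.smul_eq_iff_mem_normalizer.1 hfix
  have hsup := hz.to_sup_of_normal_right' P.isPGroup' hnorm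
  have := P.is_maximal' hsup le_sup_right
  have hx' : x ∈ Subgroup.zpowers x ⊔ (P : Subgroup G) :=
    (le_sup_left : Subgroup.zpowers x ≤ _) (Subgroup.mem_zpowers x)
  rw [this] at hx'
  exact hx'

theorem invol_mem (P : Sylow 2 G) (u : G) (hu : u * u = 1) (hfix : u • P = P) : u ∈ P :=
  mem_of_pow P u 1 (by rw [pow_one, pow_two]; exact hu) hfix

theorem mem_smul_iff (P : Sylow 2 G) (g x : G) : x ∈ g • P ↔ g⁻¹ * x * g ∈ P :=
  mem_sylow_smul_iff P g x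

theorem conj_mem_smul (P : Sylow 2 G) (g : G) {t : G} (ht : t ∈ P) :
    g * t * g⁻¹ ∈ g • P := by
  rw [mem_smul_iff]
  have : g⁻¹ * (g * t * g⁻¹) * g = t := by group
  rw [this]; exact ht

theorem conj_mem_of_fix (P : Sylow 2 G) {g : G} (hg : g • P = P) {t : G} (ht : t ∈ P) :
    g * t * g⁻¹ ∈ P := by
  have := conj_mem_smul P g ht
  rwa [hg] at this

namespace Ctx

variable (h : Ctx G)
include h

theorem ti {P Q : Sylow 2 G} {t : G} (htP : t ∈ P) (htQ : t ∈ Q) (ht : t ≠ 1) : P = Q := by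
  ext g
  constructor
  · intro hg
    exact h.cent Q t htQ ht g (h.comm P g hg t htP)
  · intro hg
    exact h.cent P t htP ht g (h.comm Q g hg t htQ)

theorem smul_eq_of_conj_mem {P Q : Sylow 2 G} {g t : G} (ht : t ∈ P) (ht1 : t ≠ 1)
    (hg : g * t * g⁻¹ ∈ Q) : g • P = Q := by
  refine h.ti (conj_mem_smul P g ht) hg ?_
  intro h1
  apply ht1
  have : t = g⁻¹ * (g * t * g⁻¹) * g := by group
  rw [this, h1]; group

/-- `P` acts semiregularly on the other Sylow 2-subgroups -/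
theorem eq_one_of_fix {P Q : Sylow 2 G} (hPQ : P ≠ Q) {x : G} (hx : x ∈ P) (hfix : x • Q = Q) :
    x = 1 := by
  by_contra hx1
  exact hPQ (h.ti hx (invol_mem Q x (h.sq P x hx) hfix) hx1)

/-- the two-point stabilizer acts freely on `P ∖ 1` -/
theorem K_free {P Q : Sylow 2 G} (hPQ : P ≠ Q) {k : G} (hkQ : k • Q = Q)
    {t : G} (ht : t ∈ P) (ht1 : t ≠ 1) (hc : k * t = t * k) : k = 1 :=
  h.eq_one_of_fix hPQ (h.cent P t ht ht1 k hc) hkQ

theorem K_sq {P Q : Sylow 2 G} (hPQ : P ≠ Q) {k : G} (hkP : k • P = P) (hkQ : k • Q = Q)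
    (hk : k * k = 1) : k = 1 :=
  h.eq_one_of_fix hPQ (invol_mem P k hk hkP) hkQ

theorem inv_eq_self {P : Sylow 2 G} {x : G} (hx : x ∈ P) : x⁻¹ = x :=
  inv_eq_of_mul_eq_one_left (h.sq P x hx)

end Ctx


theorem dihedral_semiconj {a b : G} (ha : a * a = 1) (hb : b * b = 1) (k : ℕ) :
    a * (a * b) ^ k = ((a * b)⁻¹) ^ k * a := by
  have hainv : a⁻¹ = a := inv_eq_of_mul_eq_one_left ha
  have hbinv : b⁻¹ = b := inv_eq_of_mul_eq_one_left hb
  have hsc : SemiconjBy a (a * b) (a * b)⁻¹ := by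
    show a * (a * b) = (a * b)⁻¹ * a
    rw [mul_inv_rev, hainv, hbinv, ← mul_assoc, ha, one_mul, mul_assoc, ha, mul_one]
  exact hsc.pow_right k

theorem dihedral_semiconj' {a b : G} (ha : a * a = 1) (hb : b * b = 1) (k : ℕ) :
    b * (a * b) ^ k = ((a * b)⁻¹) ^ k * b := by
  have hainv : a⁻¹ = a := inv_eq_of_mul_eq_one_left ha
  have hbinv : b⁻¹ = b := inv_eq_of_mul_eq_one_left hb
  have hsc : SemiconjBy b (a * b) (a * b)⁻¹ := by
    show b * (a * b) = (a * b)⁻¹ * b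
    rw [mul_inv_rev, hainv, hbinv, mul_assoc b a b]
  exact hsc.pow_right k

theorem dihedral_conj {a b : G} (ha : a * a = 1) (hb : b * b = 1) (j : ℕ)
    (hj : (a * b) ^ (2 * j + 1) = 1) : ∃ u : G, u * u = 1 ∧ u * a * u⁻¹ = b := by
  have hainv : a⁻¹ = a := inv_eq_of_mul_eq_one_left ha
  have hbinv : b⁻¹ = b := inv_eq_of_mul_eq_one_left hb
  have hsck := dihedral_semiconj ha hb
  have huu : (a * b) ^ j * a * ((a * b) ^ j * a) = 1 := by
    calc (a * b) ^ j * a * ((a * b) ^ j * a) = (a * b) ^ j * (a * (a * b) ^ j) * a := by group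
      _ = (a * b) ^ j * (((a * b)⁻¹) ^ j * a) * a := by rw [hsck]
      _ = 1 := by rw [inv_pow, mul_inv_cancel_left, ha]
  refine ⟨(a * b) ^ j * a, huu, ?_⟩
  have hu : ((a * b) ^ j * a)⁻¹ = (a * b) ^ j * a := inv_eq_of_mul_eq_one_left huu
  rw [hu]
  have h2j : (a * b) ^ j * (a * b) ^ j = (a * b)⁻¹ := by
    rw [← pow_add, eq_inv_iff_mul_eq_one, ← pow_succ]
    rw [show j + j + 1 = 2 * j + 1 by ring]; exact hj
  calc (a * b) ^ j * a * a * ((a * b) ^ j * a) = (a * b) ^ j * (a * a) * ((a * b) ^ j * a) := by group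
    _ = (a * b) ^ j * (a * b) ^ j * a := by rw [ha]; group
    _ = b := by rw [h2j, mul_inv_rev, hainv, hbinv, mul_assoc, ha, mul_one]

/-- if `a*b` has even order `2k` then `(ab)^k` commutes with `a` and `b` and squares to 1 -/
theorem dihedral_center {a b : G} (ha : a * a = 1) (hb : b * b = 1) (k : ℕ)
    (hk : (a * b) ^ (2 * k) = 1) :
    (a * b) ^ k * a = a * (a * b) ^ k ∧ (a * b) ^ k * b = b * (a * b) ^ k ∧
      (a * b) ^ k * (a * b) ^ k = 1 := by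
  have hzz : (a * b) ^ k * (a * b) ^ k = 1 := by
    rw [← pow_add, ← two_mul]; exact hk
  have hzinv : ((a * b)⁻¹) ^ k = (a * b) ^ k := by
    rw [inv_pow]; exact inv_eq_of_mul_eq_one_left hzz
  refine ⟨?_, ?_, hzz⟩
  · rw [dihedral_semiconj ha hb, hzinv]
  · rw [dihedral_semiconj' ha hb, hzinv]


namespace Ctx

variable (h : Ctx G)
include h

/-- two involutions in distinct Sylow 2-subgroups are swapped by an involution -/
theorem exists_swap [Finite G] {P Q : Sylow 2 G} (hPQ : P ≠ Q) {a b : G} (ha : a ∈ P)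
    (ha1 : a ≠ 1) (hb : b ∈ Q) (hb1 : b ≠ 1) :
    ∃ u : G, u * u = 1 ∧ u * a * u⁻¹ = b ∧ u • P = Q := by
  have haa := h.sq P a ha
  have hbb := h.sq Q b hb
  obtain ⟨k, hk | hk⟩ := Nat.even_or_odd' (orderOf (a * b))
  · exfalso
    have hpos : 0 < orderOf (a * b) := orderOf_pos _
    have hz1 : (a * b) ^ k ≠ 1 := pow_ne_one_of_lt_orderOf (by omega) (by omega)
    obtain ⟨hza, hzb, -⟩ :=
      dihedral_center haa hbb k (by rw [← hk]; exact pow_orderOf_eq_one _)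
    have hzP : (a * b) ^ k ∈ P := h.cent P a ha ha1 _ hza
    have hzQ : (a * b) ^ k ∈ Q := h.cent Q b hb hb1 _ hzb
    exact hPQ (h.ti hzP hzQ hz1)
  · obtain ⟨u, huu, hu⟩ :=
      dihedral_conj haa hbb k (by rw [← hk]; exact pow_orderOf_eq_one _)
    exact ⟨u, huu, hu, h.smul_eq_of_conj_mem ha ha1 (by rw [hu]; exact hb)⟩

theorem exists_invol_swap [Finite G] {P Q : Sylow 2 G} (hPQ : P ≠ Q) :
    ∃ u : G, u * u = 1 ∧ u • P = Q := by
  obtain ⟨a, ha, -, -, ha1, -, -⟩ := h.big P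
  obtain ⟨b, hb, -, -, hb1, -, -⟩ := h.big Q
  obtain ⟨u, huu, -, hu⟩ := h.exists_swap hPQ ha ha1 hb hb1
  exact ⟨u, huu, hu⟩

omit h in
theorem swap_symm {P Q : Sylow 2 G} {u : G} (huu : u * u = 1) (hu : u • P = Q) : u • Q = P := by
  rw [← hu, ← mul_smul, huu, one_smul]

/-- the structure of the two-point stabilizer: it is `u₀ * Inv(P,Q)` and it is regular on
`P ∖ 1`. -/
theorem K_struct [Finite G] {P Q : Sylow 2 G} (hPQ : P ≠ Q) {t₀ u₀ : G}
    (ht₀ : t₀ ∈ P) (ht₀1 : t₀ ≠ 1) (hu₀ : u₀ * u₀ = 1) (hu₀Q : u₀ • Q = P) :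
    (∀ k : G, k • P = P → k • Q = Q → ∃ u, u * u = 1 ∧ u • Q = P ∧ k = u₀ * u) ∧
    (∀ s ∈ P, s ≠ 1 → ∃ k, k • P = P ∧ k • Q = Q ∧ k * t₀ * k⁻¹ = s) := by
  obtain ⟨b₀, hb₀, -, -, hb₀1, -, -⟩ := h.big Q
  have hu₀P : u₀ • P = Q := swap_symm hu₀ hu₀Q
  let KT := {k : G // k • P = P ∧ k • Q = Q}
  let PT := {t : G // t ∈ P ∧ t ≠ 1}
  let IT := {u : G // u * u = 1 ∧ u • Q = P}
  let f₁ : KT → PT := fun k => ⟨k.1 * t₀ * k.1⁻¹, conj_mem_of_fix P k.2.1 ht₀, by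
    intro h1
    apply ht₀1
    have : t₀ = k.1⁻¹ * (k.1 * t₀ * k.1⁻¹) * k.1 := by group
    rw [this, h1]; group⟩
  have hf₁ : Function.Injective f₁ := by
    intro k k' hkk
    have h1 : k.1 * t₀ * k.1⁻¹ = k'.1 * t₀ * k'.1⁻¹ := congrArg Subtype.val hkk
    have h2 : (k'.1⁻¹ * k.1) * t₀ = t₀ * (k'.1⁻¹ * k.1) := by
      have : t₀ = k'.1⁻¹ * (k.1 * t₀ * k.1⁻¹) * k'.1 := by rw [h1]; group
      calc (k'.1⁻¹ * k.1) * t₀ = k'.1⁻¹ * (k.1 * t₀ * k.1⁻¹) * k'.1 * (k'.1⁻¹ * k.1) := by group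
        _ = t₀ * (k'.1⁻¹ * k.1) := by rw [← this]
    have h3 : (k'.1⁻¹ * k.1) • Q = Q := by
      rw [mul_smul, k.2.2, inv_smul_eq_iff, k'.2.2]
    have h4 := h.K_free hPQ h3 ht₀ ht₀1 h2
    apply Subtype.ext
    exact (inv_mul_eq_one.1 h4).symm
  have hex : ∀ t : PT, ∃ u : G, u * u = 1 ∧ u * b₀ * u⁻¹ = t.1 ∧ u • Q = P := fun t =>
    h.exists_swap (Ne.symm hPQ) hb₀ hb₀1 t.2.1 t.2.2
  choose f₂v hf₂a hf₂b hf₂c using hex
  let f₂ : PT → IT := fun t => ⟨f₂v t, hf₂a t, hf₂c t⟩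
  have hf₂ : Function.Injective f₂ := by
    intro t t' htt
    have h1 : f₂v t = f₂v t' := congrArg Subtype.val htt
    apply Subtype.ext
    rw [← hf₂b t, ← hf₂b t', h1]
  let f₃ : IT → KT := fun u => ⟨u₀ * u.1, by
    rw [mul_smul, swap_symm u.2.1 u.2.2, hu₀Q], by
    rw [mul_smul, u.2.2, hu₀P]⟩
  have hf₃ : Function.Injective f₃ := by
    intro u u' huu
    have h1 : u₀ * u.1 = u₀ * u'.1 := congrArg Subtype.val huu
    exact Subtype.ext (mul_left_cancel h1)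
  have hs₃ : Function.Surjective f₃ := by
    have : Function.Surjective (f₃ ∘ (f₂ ∘ f₁)) :=
      Finite.injective_iff_surjective.1 (hf₃.comp (hf₂.comp hf₁))
    exact Function.Surjective.of_comp this
  have hs₁ : Function.Surjective f₁ := by
    have : Function.Surjective (f₁ ∘ (f₃ ∘ f₂)) :=
      Finite.injective_iff_surjective.1 (hf₁.comp (hf₃.comp hf₂))
    exact Function.Surjective.of_comp this
  constructor
  · intro k hkP hkQ
    obtain ⟨u, hu⟩ := hs₃ ⟨k, hkP, hkQ⟩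
    exact ⟨u.1, u.2.1, u.2.2, (congrArg Subtype.val hu).symm⟩
  · intro s hs hs1
    obtain ⟨k, hk⟩ := hs₁ ⟨s, hs, hs1⟩
    exact ⟨k.1, k.2.1, k.2.2, congrArg Subtype.val hk⟩

end Ctx

end Cfsg.Agent.H2.BSWEven
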