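import Mathlib
import Cfsg.Agent.H2.BSWEvenA

/-!
# Brauer–Suzuki–Wall in characteristic 2, part B (helper2)

Two-point stabilizers `K_{PQ}` in the action on Sylow 2-subgroups: abelian, inverted by
the swapping involutions, fixing exactly two points, pairwise meeting trivially.
-/

set_option autoImplicit false

namespace Cfsg.Agent.H2.BSWEven

open MulAction

variable {G : Type*} [Group G] [Finite G]

namespace Ctx

variable (h : Ctx G)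
include h

/-- `K_{PQ}` is transitive on `P ∖ 1` -/
theorem K_regular {P Q : Sylow 2 G} (hPQ : P ≠ Q) {t₀ s : G} (ht₀ : t₀ ∈ P) (ht₀1 : t₀ ≠ 1)
    (hs : s ∈ P) (hs1 : s ≠ 1) : ∃ k : G, k • P = P ∧ k • Q = Q ∧ k * t₀ * k⁻¹ = s := by
  obtain ⟨u₀, hu₀, hu₀P⟩ := h.exists_invol_swap hPQ
  exact (h.K_struct hPQ ht₀ ht₀1 hu₀ (swap_symm hu₀ hu₀P)).2 s hs hs1

/-- a swapping involution inverts `K_{PQ}` -/
theorem K_inv {P Q : Sylow 2 G} (hPQ : P ≠ Q) {u₀ : G} (hu₀ : u₀ * u₀ = 1) (hu₀P : u₀ • P = Q)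
    {k : G} (hkP : k • P = P) (hkQ : k • Q = Q) : u₀ * k * u₀⁻¹ = k⁻¹ := by
  obtain ⟨t₀, ht₀, -, -, ht₀1, -, -⟩ := h.big P
  obtain ⟨u, huu, -, rfl⟩ :=
    (h.K_struct hPQ ht₀ ht₀1 hu₀ (swap_symm hu₀ hu₀P)).1 k hkP hkQ
  have h1 : u₀⁻¹ = u₀ := inv_eq_of_mul_eq_one_left hu₀
  have h2 : u⁻¹ = u := inv_eq_of_mul_eq_one_left huu
  rw [mul_inv_rev, h1, h2, ← mul_assoc, hu₀, one_mul]

theorem K_comm {P Q : Sylow 2 G} (hPQ : P ≠ Q) {k₁ k₂ : G} (h₁P : k₁ • P = P) (h₁Q : k₁ • Q = Q)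
    (h₂P : k₂ • P = P) (h₂Q : k₂ • Q = Q) : k₁ * k₂ = k₂ * k₁ := by
  obtain ⟨u₀, hu₀, hu₀P⟩ := h.exists_invol_swap hPQ
  have e1 := h.K_inv hPQ hu₀ hu₀P h₁P h₁Q
  have e2 := h.K_inv hPQ hu₀ hu₀P h₂P h₂Q
  have e3 := h.K_inv hPQ hu₀ hu₀P (k := k₁ * k₂) (by rw [mul_smul, h₂P, h₁P])
    (by rw [mul_smul, h₂Q, h₁Q])
  have e4 : u₀ * (k₁ * k₂) * u₀⁻¹ = (u₀ * k₁ * u₀⁻¹) * (u₀ * k₂ * u₀⁻¹) := by group
  rw [e4, e1, e2, ← mul_inv_rev] at e3
  exact (inv_injective e3).symm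

theorem K_nontrivial {P Q : Sylow 2 G} (hPQ : P ≠ Q) :
    ∃ k : G, k • P = P ∧ k • Q = Q ∧ k ≠ 1 := by
  obtain ⟨a, ha, b, hb, ha1, hb1, hab⟩ := h.big P
  obtain ⟨k, hkP, hkQ, hk⟩ := h.K_regular hPQ ha ha1 hb hb1
  refine ⟨k, hkP, hkQ, ?_⟩
  rintro rfl
  apply hab
  simpa using hk

/-- a subgroup of `N(P)` acting freely on `P ∖ 1` and containing `K_{PQ}` equals it -/
theorem eq_of_free {P Q : Sylow 2 G} (hPQ : P ≠ Q) (S : Subgroup G)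
    (hS : ∀ c ∈ S, c • P = P)
    (hfree : ∀ c ∈ S, ∀ t ∈ P, t ≠ 1 → c * t = t * c → c = 1)
    (hK : ∀ k : G, k • P = P → k • Q = Q → k ∈ S) : ∀ c ∈ S, c • Q = Q := by
  intro c hc
  obtain ⟨t₀, ht₀, -, -, ht₀1, -, -⟩ := h.big P
  have hs : c * t₀ * c⁻¹ ∈ P := conj_mem_of_fix P (hS c hc) ht₀
  have hs1 : c * t₀ * c⁻¹ ≠ 1 := by
    intro h1
    apply ht₀1
    have : t₀ = c⁻¹ * (c * t₀ * c⁻¹) * c := by group
    rw [this, h1]; group
  obtain ⟨k, hkP, hkQ, hk⟩ := h.K_regular hPQ ht₀ ht₀1 hs hs1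
  have hkS := hK k hkP hkQ
  have hmem : k⁻¹ * c ∈ S := S.mul_mem (S.inv_mem hkS) hc
  have hcomm : (k⁻¹ * c) * t₀ = t₀ * (k⁻¹ * c) := by
    have : t₀ = k⁻¹ * (c * t₀ * c⁻¹) * k := by rw [← hk]; group
    calc (k⁻¹ * c) * t₀ = k⁻¹ * (c * t₀ * c⁻¹) * k * (k⁻¹ * c) := by group
      _ = t₀ * (k⁻¹ * c) := by rw [← this]
  have h1 := hfree _ hmem t₀ ht₀ ht₀1 hcomm
  have : c = k := (inv_mul_eq_one.1 h1).symm
  rw [this]; exact hkQ

omit [Finite G] h in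
/-- odd powers of an inverting element invert -/
theorem pow_odd_inverts {d k : G} (hd : d * k * d⁻¹ = k⁻¹) (i : ℕ) :
    d ^ (2 * i + 1) * k * (d ^ (2 * i + 1))⁻¹ = k⁻¹ := by
  have h2 : Commute (d * d) k := by
    show d * d * k = k * (d * d)
    have e : d * k = k⁻¹ * d := by rw [← hd]; group
    have e' : d * k⁻¹ = k * d := by
      calc d * k⁻¹ = k * (k⁻¹ * d) * k⁻¹ := by group
        _ = k * (d * k) * k⁻¹ := by rw [e]
        _ = k * d := by group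
    calc d * d * k = d * (d * k) := by rw [mul_assoc]
      _ = d * (k⁻¹ * d) := by rw [e]
      _ = (d * k⁻¹) * d := by rw [mul_assoc]
      _ = k * d * d := by rw [e']
      _ = k * (d * d) := by rw [mul_assoc]
  have h3 : Commute (d ^ (2 * i)) k := by
    rw [pow_mul, pow_two]; exact h2.pow_left i
  have h3' : d ^ (2 * i) * k⁻¹ = k⁻¹ * d ^ (2 * i) := (h3.inv_right).eq
  calc d ^ (2 * i + 1) * k * (d ^ (2 * i + 1))⁻¹
      = d ^ (2 * i) * (d * k * d⁻¹) * (d ^ (2 * i))⁻¹ := by rw [pow_succ]; group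
    _ = d ^ (2 * i) * k⁻¹ * (d ^ (2 * i))⁻¹ := by rw [hd]
    _ = k⁻¹ := by rw [h3']; group

/-- if `K_{PQ}` fixes `R ≠ P` then `K_{PR} = K_{PQ}` -/
theorem K_eq_of_fix {P Q R : Sylow 2 G} (hPQ : P ≠ Q) (hPR : P ≠ R)
    (hR : ∀ k : G, k • P = P → k • Q = Q → k • R = R) :
    ∀ c : G, c • P = P → c • R = R → c • Q = Q := by
  intro c hcP hcR
  refine h.eq_of_free hPQ (stabilizer G P ⊓ stabilizer G R) ?_ ?_ ?_ c ?_
  · intro c hc
    exact mem_stabilizer_iff.1 (Subgroup.mem_inf.1 hc).1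
  · intro c hc t ht ht1 hct
    exact h.K_free hPR (mem_stabilizer_iff.1 (Subgroup.mem_inf.1 hc).2) ht ht1 hct
  · intro k hkP hkQ
    exact Subgroup.mem_inf.2 ⟨mem_stabilizer_iff.2 hkP, mem_stabilizer_iff.2 (hR k hkP hkQ)⟩
  · exact Subgroup.mem_inf.2 ⟨mem_stabilizer_iff.2 hcP, mem_stabilizer_iff.2 hcR⟩

/-- no element of `P` inverts `K_{PQ}` -/
theorem no_inverting {P Q : Sylow 2 G} (hPQ : P ≠ Q) {t : G} (ht : t ∈ P)
    (hinv : ∀ k : G, k • P = P → k • Q = Q → t * k * t⁻¹ = k⁻¹) : False := by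
  obtain ⟨k, hkP, hkQ, hk1⟩ := h.K_nontrivial hPQ
  have hkinvP : k⁻¹ • P = P := by rw [inv_smul_eq_iff, hkP]
  have hkinvQ : k⁻¹ • Q = Q := by rw [inv_smul_eq_iff, hkQ]
  have e1 : k⁻¹ * k⁻¹ = t * (k * t⁻¹ * k⁻¹) := by
    rw [← hinv k hkP hkQ]; group
  have h1 : k⁻¹ * k⁻¹ ∈ P := by
    rw [e1]
    exact P.mul_mem ht (conj_mem_of_fix P hkP (P.inv_mem ht))
  have h2 : (k⁻¹ * k⁻¹) • Q = Q := by rw [mul_smul, hkinvQ, hkinvQ]
  have h3 := h.eq_one_of_fix hPQ h1 h2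
  have h4 := h.K_sq hPQ hkinvP hkinvQ h3
  exact hk1 (inv_eq_one.1 h4)

/-- an element of `N(P)` cannot invert `K_{PQ}` -/
theorem no_inverting' {P Q : Sylow 2 G} (hPQ : P ≠ Q) {d : G} (hd : d • P = P)
    (hinv : ∀ k : G, k • P = P → k • Q = Q → d * k * d⁻¹ = k⁻¹) : False := by
  have hn : orderOf d ≠ 0 := (orderOf_pos d).ne'
  obtain ⟨a, b, hb, hab⟩ := Nat.exists_eq_two_pow_mul_odd hn
  obtain ⟨i, rfl⟩ := hb
  have ht : d ^ (2 * i + 1) ∈ P := by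
    refine mem_of_pow P _ a ?_ ?_
    · rw [← pow_mul, mul_comm, ← hab, pow_orderOf_eq_one]
    · have : d ∈ stabilizer G P := mem_stabilizer_iff.2 hd
      exact mem_stabilizer_iff.1 (Subgroup.pow_mem _ this _)
  exact h.no_inverting hPQ ht (fun k hkP hkQ => pow_odd_inverts (hinv k hkP hkQ) i)

/-- **`K_{PQ}` fixes exactly `P` and `Q`.** -/
theorem fix_K {P Q R : Sylow 2 G} (hPQ : P ≠ Q)
    (hR : ∀ k : G, k • P = P → k • Q = Q → k • R = R) : R = P ∨ R = Q := by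
  by_contra hcon
  push Not at hcon
  obtain ⟨hRP, hRQ⟩ := hcon
  have hPR : P ≠ R := Ne.symm hRP
  have hKR := h.K_eq_of_fix hPQ hPR hR
  obtain ⟨u, huu, huP⟩ := h.exists_invol_swap hPQ
  obtain ⟨u', hu'u', hu'P⟩ := h.exists_invol_swap hPR
  have huQ : u • Q = P := swap_symm huu huP
  -- `c = u * u'` centralizes `K`
  have hc : ∀ k : G, k • P = P → k • Q = Q → (u * u') * k = k * (u * u') := by
    intro k hkP hkQ
    have e1 := h.K_inv hPQ huu huP hkP hkQ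
    have e2 := h.K_inv hPR hu'u' hu'P hkP (hR k hkP hkQ)
    have e3 : u * k⁻¹ * u⁻¹ = k := by
      have : u * k⁻¹ * u⁻¹ = (u * k * u⁻¹)⁻¹ := by group
      rw [this, e1, inv_inv]
    have e4 : (u * u') * k * (u * u')⁻¹ = k := by
      calc (u * u') * k * (u * u')⁻¹ = u * (u' * k * u'⁻¹) * u⁻¹ := by group
        _ = k := by rw [e2, e3]
    calc (u * u') * k = (u * u') * k * (u * u')⁻¹ * (u * u') := by group
      _ = k * (u * u') := by rw [e4]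
  have hR₁ : (u * u') • P ≠ P := by
    rw [mul_smul, hu'P]
    intro h1
    apply hRQ
    have : u • R = u • Q := by rw [h1, huQ]
    exact smul_left_cancel u this
  have hKR₁ : ∀ k : G, k • P = P → k • Q = Q → k • ((u * u') • P) = (u * u') • P := by
    intro k hkP hkQ
    rw [← mul_smul, ← hc k hkP hkQ, mul_smul, hkP]
  have hKR₁' := h.K_eq_of_fix hPQ (Ne.symm hR₁) hKR₁
  obtain ⟨u₁, hu₁u₁, hu₁P⟩ := h.exists_invol_swap (Ne.symm hR₁)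
  refine h.no_inverting' hPQ (d := u₁ * (u * u')) ?_ ?_
  · rw [mul_smul, swap_symm hu₁u₁ hu₁P]
  · intro k hkP hkQ
    have e1 := h.K_inv (Ne.symm hR₁) hu₁u₁ hu₁P hkP (hKR₁ k hkP hkQ)
    have e2 := hc k hkP hkQ
    calc u₁ * (u * u') * k * (u₁ * (u * u'))⁻¹
        = u₁ * ((u * u') * k) * (u * u')⁻¹ * u₁⁻¹ := by group
      _ = u₁ * (k * (u * u')) * (u * u')⁻¹ * u₁⁻¹ := by rw [e2]
      _ = u₁ * k * u₁⁻¹ := by group
      _ = k⁻¹ := e1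

/-- **three-point stabilizers are trivial** -/
theorem K_inter_K {P Q R : Sylow 2 G} (hPQ : P ≠ Q) (hPR : P ≠ R) (hQR : Q ≠ R) {g : G}
    (hgP : g • P = P) (hgQ : g • Q = Q) (hgR : g • R = R) : g = 1 := by
  by_contra hg1
  let S : Subgroup G := stabilizer G P ⊓ Subgroup.centralizer {g}
  have hS : ∀ c ∈ S, c • P = P := fun c hc => mem_stabilizer_iff.1 (Subgroup.mem_inf.1 hc).1
  have hScomm : ∀ c ∈ S, g * c = c * g := fun c hc =>
    (Subgroup.mem_centralizer_singleton_iff.1 (Subgroup.mem_inf.1 hc).2).symm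
  have hfree : ∀ c ∈ S, ∀ t ∈ P, t ≠ 1 → c * t = t * c → c = 1 := by
    intro c hc t ht ht1 hct
    by_contra hc1
    have hcP : c ∈ P := h.cent P t ht ht1 c hct
    have hgP' : g ∈ P := h.cent P c hcP hc1 g (hScomm c hc)
    exact hg1 (h.eq_one_of_fix hPQ hgP' hgQ)
  have hKQ : ∀ k : G, k • P = P → k • Q = Q → k ∈ S := by
    intro k hkP hkQ
    refine Subgroup.mem_inf.2 ⟨mem_stabilizer_iff.2 hkP, ?_⟩
    rw [Subgroup.mem_centralizer_singleton_iff]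
    exact h.K_comm hPQ hkP hkQ hgP hgQ
  have hKR : ∀ k : G, k • P = P → k • R = R → k ∈ S := by
    intro k hkP hkR
    refine Subgroup.mem_inf.2 ⟨mem_stabilizer_iff.2 hkP, ?_⟩
    rw [Subgroup.mem_centralizer_singleton_iff]
    exact h.K_comm hPR hkP hkR hgP hgR
  have hSR := h.eq_of_free hPR S hS hfree hKR
  rcases h.fix_K hPQ (R := R) (fun k hkP hkQ => hSR k (hKQ k hkP hkQ)) with h1 | h1
  · exact hPR h1.symm
  · exact hQR h1.symm

end Ctx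

end Cfsg.Agent.H2.BSWEven
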