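import Mathlib
import Cfsg.Agent.H2.BSWEvenB

/-!
# Brauer–Suzuki–Wall in characteristic 2, part C (helper2)

The action on the Sylow 2-subgroups is sharply 3-transitive of degree `q + 1`.
-/

set_option autoImplicit false

namespace Cfsg.Agent.H2.BSWEven

open MulAction

variable {G : Type*} [Group G] [Finite G]

omit [Finite G] in
theorem smul_eq_of_mem (P : Sylow 2 G) {x : G} (hx : x ∈ P) : x • P = P :=
  Sylow.smul_eq_iff_mem_normalizer.2 (Subgroup.le_normalizer hx)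

namespace Ctx

variable (h : Ctx G)
include h

/-- `P` is transitive on the other Sylow 2-subgroups -/
theorem P_trans {P Q R : Sylow 2 G} (hPQ : P ≠ Q) (hRP : R ≠ P) : ∃ x ∈ P, x • Q = R := by
  obtain ⟨t, ht, s, hs, ht1, hs1, hts⟩ := h.big P
  let Ω' := {R : Sylow 2 G // R ≠ P}
  have hex : ∀ R' : Ω', ∃ k : G, k • P = P ∧ k • R'.1 = R'.1 ∧ k * t * k⁻¹ = s := fun R' =>
    h.K_regular (Ne.symm R'.2) ht ht1 hs hs1
  choose kf hkfP hkfR hkf using hex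
  let C := {n : G // n * t * n⁻¹ = s}
  let φ : Ω' → C := fun R' => ⟨kf R', hkf R'⟩
  have hφ : Function.Injective φ := by
    intro R' R'' hRR
    have h1 : kf R' = kf R'' := congrArg Subtype.val hRR
    by_contra hne
    have hne' : R'.1 ≠ R''.1 := fun e => hne (Subtype.ext e)
    have h2 := h.K_inter_K (Ne.symm R'.2) (Ne.symm R''.2) hne' (hkfP R') (hkfR R')
      (by rw [h1]; exact hkfR R'')
    apply hts
    have e := hkf R'
    rw [h2] at e
    simpa using e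
  let n₀ : G := kf ⟨Q, Ne.symm hPQ⟩
  have hn₀ : n₀ * t * n₀⁻¹ = s := hkf _
  let ψ : C → {x : G // x ∈ P} := fun n => ⟨n₀⁻¹ * n.1, by
    apply h.cent P t ht ht1
    have e : n.1 * t * n.1⁻¹ = n₀ * t * n₀⁻¹ := by rw [n.2, hn₀]
    calc n₀⁻¹ * n.1 * t = n₀⁻¹ * (n.1 * t * n.1⁻¹) * n.1 := by group
      _ = n₀⁻¹ * (n₀ * t * n₀⁻¹) * n.1 := by rw [e]
      _ = t * (n₀⁻¹ * n.1) := by group⟩
  have hψ : Function.Injective ψ := by
    intro n n' hnn
    have h1 : n₀⁻¹ * n.1 = n₀⁻¹ * n'.1 := congrArg Subtype.val hnn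
    exact Subtype.ext (mul_left_cancel h1)
  let θ : {x : G // x ∈ P} → Ω' := fun x => ⟨x.1 • Q, by
    intro e
    apply hPQ
    have : x.1 • Q = x.1 • P := by rw [e, smul_eq_of_mem P x.2]
    exact (smul_left_cancel x.1 this).symm⟩
  have hθ : Function.Injective θ := by
    intro x y hxy
    have h1 : x.1 • Q = y.1 • Q := congrArg Subtype.val hxy
    have h2 : (y.1⁻¹ * x.1) • Q = Q := by rw [mul_smul, h1, inv_smul_smul]
    have h3 := h.eq_one_of_fix hPQ (P.mul_mem (P.inv_mem y.2) x.2) h2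
    exact Subtype.ext (inv_mul_eq_one.1 h3).symm
  have hsurj : Function.Surjective θ := by
    have : Function.Surjective (θ ∘ (ψ ∘ φ)) :=
      Finite.injective_iff_surjective.1 (hθ.comp (hψ.comp hφ))
    exact Function.Surjective.of_comp this
  obtain ⟨x, hx⟩ := hsurj ⟨R, hRP⟩
  exact ⟨x.1, x.2, congrArg Subtype.val hx⟩

/-- the number of Sylow 2-subgroups is `q + 1` -/
theorem card_sylow (P : Sylow 2 G) : Nat.card (Sylow 2 G) = Nat.card P + 1 := by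
  classical
  obtain ⟨P₁, P₂, h12⟩ := h.two
  obtain ⟨Q, hPQ⟩ : ∃ Q : Sylow 2 G, P ≠ Q := by
    by_cases h1 : P = P₁
    · exact ⟨P₂, h1 ▸ h12⟩
    · exact ⟨P₁, h1⟩
  let θ : {x : G // x ∈ P} → {R : Sylow 2 G // R ≠ P} := fun x => ⟨x.1 • Q, by
    intro e
    apply hPQ
    have : x.1 • Q = x.1 • P := by rw [e, smul_eq_of_mem P x.2]
    exact (smul_left_cancel x.1 this).symm⟩
  have hθ : Function.Bijective θ := by
    constructor
    · intro x y hxy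
      have h1 : x.1 • Q = y.1 • Q := congrArg Subtype.val hxy
      have h2 : (y.1⁻¹ * x.1) • Q = Q := by rw [mul_smul, h1, inv_smul_smul]
      have h3 := h.eq_one_of_fix hPQ (P.mul_mem (P.inv_mem y.2) x.2) h2
      exact Subtype.ext (inv_mul_eq_one.1 h3).symm
    · rintro ⟨R, hR⟩
      obtain ⟨x, hx, hxR⟩ := h.P_trans hPQ hR
      exact ⟨⟨x, hx⟩, Subtype.ext hxR⟩
  have e1 : Nat.card {x : G // x ∈ P} = Nat.card {R : Sylow 2 G // R ≠ P} :=
    Nat.card_congr (Equiv.ofBijective θ hθ)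
  have e2 : Nat.card (Sylow 2 G) = Nat.card (Option {R : Sylow 2 G // R ≠ P}) :=
    Nat.card_congr (Equiv.optionSubtypeNe P).symm
  rw [e2, Finite.card_option, ← e1]
  rfl

/-- `K_{PQ}` is transitive on the remaining points -/
theorem K_trans {P Q R R' : Sylow 2 G} (hPQ : P ≠ Q) (hRP : R ≠ P) (hRQ : R ≠ Q)
    (hR'P : R' ≠ P) (hR'Q : R' ≠ Q) : ∃ k : G, k • P = P ∧ k • Q = Q ∧ k • R = R' := by
  obtain ⟨x, hx, rfl⟩ := h.P_trans hPQ hRP
  obtain ⟨x', hx', rfl⟩ := h.P_trans hPQ hR'P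
  have hx1 : x ≠ 1 := by
    rintro rfl; exact hRQ (one_smul _ _)
  have hx'1 : x' ≠ 1 := by
    rintro rfl; exact hR'Q (one_smul _ _)
  obtain ⟨k, hkP, hkQ, hk⟩ := h.K_regular hPQ hx hx1 hx' hx'1
  refine ⟨k, hkP, hkQ, ?_⟩
  have e : k * x = x' * k := by rw [← hk]; group
  rw [← mul_smul, e, mul_smul, hkQ]

theorem two_trans {P Q P' Q' : Sylow 2 G} (hPQ : P ≠ Q) (hPQ' : P' ≠ Q') :
    ∃ g : G, g • P = P' ∧ g • Q = Q' := by
  obtain ⟨g₁, hg₁⟩ := MulAction.exists_smul_eq G P P'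
  have h1 : P' ≠ g₁ • Q := by
    rw [← hg₁]
    intro e
    exact hPQ (smul_left_cancel g₁ e)
  obtain ⟨x, hx, hxQ⟩ := h.P_trans h1 (Ne.symm hPQ')
  refine ⟨x * g₁, ?_, ?_⟩
  · rw [mul_smul, hg₁, smul_eq_of_mem P' hx]
  · rw [mul_smul, hxQ]

theorem three_trans {P Q R P' Q' R' : Sylow 2 G} (hPQ : P ≠ Q) (hPR : P ≠ R) (hQR : Q ≠ R)
    (hPQ' : P' ≠ Q') (hPR' : P' ≠ R') (hQR' : Q' ≠ R') :
    ∃ g : G, g • P = P' ∧ g • Q = Q' ∧ g • R = R' := by
  obtain ⟨g₂, hg₂P, hg₂Q⟩ := h.two_trans hPQ hPQ'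
  have h1 : g₂ • R ≠ P' := by
    rw [← hg₂P]
    intro e
    exact hPR (smul_left_cancel g₂ e).symm
  have h2 : g₂ • R ≠ Q' := by
    rw [← hg₂Q]
    intro e
    exact hQR (smul_left_cancel g₂ e).symm
  obtain ⟨k, hkP, hkQ, hkR⟩ := h.K_trans hPQ' h1 h2 (Ne.symm hPR') (Ne.symm hQR')
  refine ⟨k * g₂, ?_, ?_, ?_⟩
  · rw [mul_smul, hg₂P, hkP]
  · rw [mul_smul, hg₂Q, hkQ]
  · rw [mul_smul, hkR]

omit [Finite G] in
/-- there are at least three Sylow 2-subgroups -/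
theorem exists_three : ∃ P Q R : Sylow 2 G, P ≠ Q ∧ P ≠ R ∧ Q ≠ R := by
  obtain ⟨P, Q, hPQ⟩ := h.two
  obtain ⟨x, hx, -, -, hx1, -, -⟩ := h.big P
  refine ⟨P, Q, x • Q, hPQ, ?_, ?_⟩
  · intro e
    apply hPQ
    have : x • Q = x • P := by rw [← e, smul_eq_of_mem P hx]
    exact (smul_left_cancel x this).symm
  · intro e
    exact hx1 (h.eq_one_of_fix hPQ hx e.symm)

theorem faithful {g : G} (hg : ∀ P : Sylow 2 G, g • P = P) : g = 1 := by
  obtain ⟨P, Q, R, hPQ, hPR, hQR⟩ := h.exists_three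
  exact h.K_inter_K hPQ hPR hQR (hg P) (hg Q) (hg R)

omit [Finite G] in
theorem even_card (P : Sylow 2 G) : 2 ∣ Nat.card P := by
  obtain ⟨x, hx, -, -, hx1, -, -⟩ := h.big P
  have h2 : orderOf x = 2 := by
    refine orderOf_eq_prime ?_ hx1
    rw [pow_two]; exact h.sq P x hx
  have h3 : orderOf (⟨x, hx⟩ : (P : Subgroup G)) = 2 := (Subgroup.orderOf_mk x hx).trans h2
  have hd := orderOf_dvd_natCard (⟨x, hx⟩ : (P : Subgroup G))
  rw [h3] at hd
  exact hd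

end Ctx

end Cfsg.Agent.H2.BSWEven
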