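import Mathlib

/-!
# `SL₂(F)` in characteristic 2: the unitriangular subgroup and its overgroups (helper2)
-/

set_option autoImplicit false
set_option linter.unusedSimpArgs false

namespace Cfsg.Agent.H2.SL2Char2

open Matrix

variable {F : Type*} [Field F]

local notation "SL2" => Matrix.SpecialLinearGroup (Fin 2) F

theorem det_eq (g : SL2) : g 0 0 * g 1 1 - g 0 1 * g 1 0 = 1 := by
  have := g.2
  rwa [Matrix.det_fin_two] at this

theorem mul00 (g h : SL2) : (g * h) 0 0 = g 0 0 * h 0 0 + g 0 1 * h 1 0 := by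
  simp [Matrix.SpecialLinearGroup.coe_mul, Matrix.mul_apply, Fin.sum_univ_two]
theorem mul01 (g h : SL2) : (g * h) 0 1 = g 0 0 * h 0 1 + g 0 1 * h 1 1 := by
  simp [Matrix.SpecialLinearGroup.coe_mul, Matrix.mul_apply, Fin.sum_univ_two]
theorem mul10 (g h : SL2) : (g * h) 1 0 = g 1 0 * h 0 0 + g 1 1 * h 1 0 := by
  simp [Matrix.SpecialLinearGroup.coe_mul, Matrix.mul_apply, Fin.sum_univ_two]
theorem mul11 (g h : SL2) : (g * h) 1 1 = g 1 0 * h 0 1 + g 1 1 * h 1 1 := by
  simp [Matrix.SpecialLinearGroup.coe_mul, Matrix.mul_apply, Fin.sum_univ_two]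

theorem inv00 (g : SL2) : (g⁻¹) 0 0 = g 1 1 := by
  simp [Matrix.SpecialLinearGroup.coe_inv, Matrix.adjugate_fin_two]
theorem inv01 (g : SL2) : (g⁻¹) 0 1 = - g 0 1 := by
  simp [Matrix.SpecialLinearGroup.coe_inv, Matrix.adjugate_fin_two]
theorem inv10 (g : SL2) : (g⁻¹) 1 0 = - g 1 0 := by
  simp [Matrix.SpecialLinearGroup.coe_inv, Matrix.adjugate_fin_two]
theorem inv11 (g : SL2) : (g⁻¹) 1 1 = g 0 0 := by
  simp [Matrix.SpecialLinearGroup.coe_inv, Matrix.adjugate_fin_two]

theorem one00 : (1 : SL2) 0 0 = 1 := by simp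
theorem one01 : (1 : SL2) 0 1 = 0 := by simp
theorem one10 : (1 : SL2) 1 0 = 0 := by simp
theorem one11 : (1 : SL2) 1 1 = 1 := by simp

theorem ext2 {g h : SL2} (h00 : g 0 0 = h 0 0) (h01 : g 0 1 = h 0 1) (h10 : g 1 0 = h 1 0)
    (h11 : g 1 1 = h 1 1) : g = h := by
  apply Matrix.SpecialLinearGroup.ext
  intro i j
  fin_cases i <;> fin_cases j <;> assumption

/-- the matrix with given entries -/
def mk (a b c d : F) (h : a * d - b * c = 1) : SL2 :=
  ⟨!![a, b; c, d], by rw [Matrix.det_fin_two_of]; exact h⟩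

@[simp] theorem mk00 (a b c d : F) (h : a * d - b * c = 1) : (mk a b c d h) 0 0 = a := rfl
@[simp] theorem mk01 (a b c d : F) (h : a * d - b * c = 1) : (mk a b c d h) 0 1 = b := rfl
@[simp] theorem mk10 (a b c d : F) (h : a * d - b * c = 1) : (mk a b c d h) 1 0 = c := rfl
@[simp] theorem mk11 (a b c d : F) (h : a * d - b * c = 1) : (mk a b c d h) 1 1 = d := rfl

/-- upper unitriangular subgroup -/
def U : Subgroup SL2 where
  carrier := {g | g 0 0 = 1 ∧ g 1 0 = 0 ∧ g 1 1 = 1}
  one_mem' := ⟨one00, one10, one11⟩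
  mul_mem' := by
    rintro g h ⟨g00, g10, g11⟩ ⟨h00, h10, h11⟩
    refine ⟨?_, ?_, ?_⟩
    · rw [mul00, g00, h00, h10]; ring
    · rw [mul10, g10, g11, h10]; ring
    · rw [mul11, g10, g11, h11]; ring
  inv_mem' := by
    rintro g ⟨g00, g10, g11⟩
    exact ⟨by rw [inv00, g11], by rw [inv10, g10, neg_zero], by rw [inv11, g00]⟩

/-- upper triangular subgroup -/
def B : Subgroup SL2 where
  carrier := {g | g 1 0 = 0}
  one_mem' := one10
  mul_mem' := by
    intro g h hg hh
    show (g * h) 1 0 = 0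
    rw [mul10, show g 1 0 = 0 from hg, show h 1 0 = 0 from hh]; ring
  inv_mem' := by
    intro g hg
    show (g⁻¹) 1 0 = 0
    rw [inv10, show g 1 0 = 0 from hg, neg_zero]

theorem mem_U {g : SL2} : g ∈ (U : Subgroup SL2) ↔ g 0 0 = 1 ∧ g 1 0 = 0 ∧ g 1 1 = 1 := Iff.rfl
theorem mem_B {g : SL2} : g ∈ (B : Subgroup SL2) ↔ g 1 0 = 0 := Iff.rfl

theorem U_le_B : (U : Subgroup SL2) ≤ B := fun _ hg => hg.2.1

theorem sq_eq_one_of_mem_U (h2 : (2 : F) = 0) {g : SL2} (hg : g ∈ (U : Subgroup SL2)) :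
    g * g = 1 := by
  obtain ⟨g00, g10, g11⟩ := hg
  apply ext2
  · rw [mul00, g00, g10, one00]; ring
  · rw [mul01, g00, g11, one01]
    have : (1 : F) * g 0 1 + g 0 1 * 1 = 2 * g 0 1 := by ring
    rw [this, h2, zero_mul]
  · rw [mul10, g10, g11, one10]; ring
  · rw [mul11, g10, g11, one11]; ring

theorem isPGroup_U (h2 : (2 : F) = 0) : IsPGroup 2 (U : Subgroup SL2) := by
  intro g
  refine ⟨1, ?_⟩
  apply Subtype.ext
  rw [pow_one, pow_two]
  exact sq_eq_one_of_mem_U h2 g.2

/-- the monomial matrix -/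
def nmat (c : F) (hc : c ≠ 0) : SL2 :=
  mk 0 (-c⁻¹) c 0 (by rw [zero_mul, zero_sub, neg_mul, neg_neg, inv_mul_cancel₀ hc])

@[simp] theorem nmat00 (c : F) (hc : c ≠ 0) : (nmat c hc) 0 0 = 0 := rfl
@[simp] theorem nmat01 (c : F) (hc : c ≠ 0) : (nmat c hc) 0 1 = -c⁻¹ := rfl
@[simp] theorem nmat10 (c : F) (hc : c ≠ 0) : (nmat c hc) 1 0 = c := rfl
@[simp] theorem nmat11 (c : F) (hc : c ≠ 0) : (nmat c hc) 1 1 = 0 := rfl

/-- a subgroup containing `U` and an element outside `B` is everything -/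
theorem eq_top_of_U_le {H : Subgroup SL2} (hU : (U : Subgroup SL2) ≤ H) {g : SL2} (hg : g ∈ H)
    (hc : g 1 0 ≠ 0) : H = ⊤ := by
  have hu : ∀ t : F, mk 1 t 0 1 (by ring) ∈ H := fun t => hU ⟨rfl, rfl, rfl⟩
  obtain ⟨c, hcdef⟩ : ∃ c, c = g 1 0 := ⟨_, rfl⟩
  have hc' : c ≠ 0 := by rw [hcdef]; exact hc
  have hdet := det_eq g
  rw [← hcdef] at hdet
  -- the monomial element
  have hn : nmat c hc' ∈ H := by
    have : nmat c hc' =
        mk 1 (-(g 0 0) / c) 0 1 (by ring) * g * mk 1 (-(g 1 1) / c) 0 1 (by ring) := by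
      apply ext2
      · simp only [mul00, mul01, mul10, mul11, mk00, mk01, mk10, mk11, ← hcdef,
          nmat00, nmat01, nmat10, nmat11]
        field_simp
        ring
      · simp only [mul00, mul01, mul10, mul11, mk00, mk01, mk10, mk11, ← hcdef,
          nmat00, nmat01, nmat10, nmat11]
        field_simp
        linear_combination hdet
      · simp only [mul00, mul01, mul10, mul11, mk00, mk01, mk10, mk11, ← hcdef,
          nmat00, nmat01, nmat10, nmat11]
        ring
      · simp only [mul00, mul01, mul10, mul11, mk00, mk01, mk10, mk11, ← hcdef,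
          nmat00, nmat01, nmat10, nmat11]
        field_simp
        ring
    rw [this]
    exact mul_mem (mul_mem (hu _) hg) (hu _)
  -- lower unitriangular elements
  have hl : ∀ s : F, mk 1 0 s 1 (by ring) ∈ H := by
    intro s
    have : mk 1 0 s 1 (by ring) =
        nmat c hc' * mk 1 (-s / c ^ 2) 0 1 (by ring) *
          (nmat c hc')⁻¹ := by
      apply ext2
      · simp only [mul00, mul01, mul10, mul11, inv00, inv01, inv10, inv11, mk00, mk01, mk10, mk11,
          nmat00, nmat01, nmat10, nmat11]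
        field_simp
        ring
      · simp only [mul00, mul01, mul10, mul11, inv00, inv01, inv10, inv11, mk00, mk01, mk10, mk11,
          nmat00, nmat01, nmat10, nmat11]
        ring
      · simp only [mul00, mul01, mul10, mul11, inv00, inv01, inv10, inv11, mk00, mk01, mk10, mk11,
          nmat00, nmat01, nmat10, nmat11]
        field_simp
        ring
      · simp only [mul00, mul01, mul10, mul11, inv00, inv01, inv10, inv11, mk00, mk01, mk10, mk11,
          nmat00, nmat01, nmat10, nmat11]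
        field_simp
        ring
    rw [this]
    exact mul_mem (mul_mem hn (hu _)) (inv_mem hn)
  have hgen : ∀ m : SL2, m 1 0 ≠ 0 → m ∈ H := by
    intro m hm
    have hdm := det_eq m
    have : m = mk 1 ((m 0 0 - 1) / m 1 0) 0 1 (by ring) * mk 1 0 (m 1 0) 1 (by ring) *
        mk 1 ((m 1 1 - 1) / m 1 0) 0 1 (by ring) := by
      apply ext2
      · simp only [mul00, mul01, mul10, mul11, mk00, mk01, mk10, mk11]
        field_simp
        ring
      · simp only [mul00, mul01, mul10, mul11, mk00, mk01, mk10, mk11]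
        field_simp
        linear_combination (-1 : F) * hdm
      · simp only [mul00, mul01, mul10, mul11, mk00, mk01, mk10, mk11]
        ring
      · simp only [mul00, mul01, mul10, mul11, mk00, mk01, mk10, mk11]
        field_simp
        ring
    rw [this]
    exact mul_mem (mul_mem (hu _) (hl _)) (hu _)
  rw [eq_top_iff]
  intro m _
  by_cases hm : m 1 0 = 0
  · have hdm := det_eq m
    rw [hm, mul_zero, sub_zero] at hdm
    have h00 : m 0 0 ≠ 0 := left_ne_zero_of_mul_eq_one hdm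
    have h1 : mk 1 0 1 1 (by ring) * m ∈ H := by
      apply hgen
      rw [mul10]
      simp only [mk10, mk11]
      rw [hm]
      simpa using h00
    have h2 := mul_mem (inv_mem (hl 1)) h1
    rwa [inv_mul_cancel_left] at h2
  · exact hgen m hm

theorem conj_mem_U {b u : SL2} (hb : b ∈ (B : Subgroup SL2)) (hu : u ∈ (U : Subgroup SL2)) :
    b * u * b⁻¹ ∈ (U : Subgroup SL2) := by
  obtain ⟨u00, u10, u11⟩ := hu
  have hb' : b 1 0 = 0 := hb
  have hdet := det_eq b
  rw [hb', mul_zero, sub_zero] at hdet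
  refine ⟨?_, ?_, ?_⟩
  · simp only [mul00, mul01, mul10, mul11, inv00, inv01, inv10, inv11, u00, u10, u11, hb']
    linear_combination hdet
  · simp only [mul00, mul01, mul10, mul11, inv00, inv01, inv10, inv11, u00, u10, u11, hb']
    ring
  · simp only [mul00, mul01, mul10, mul11, inv00, inv01, inv10, inv11, u00, u10, u11, hb']
    linear_combination hdet

theorem B_ne_top : (B : Subgroup SL2) ≠ ⊤ := by
  intro h
  have : mk (1 : F) 0 1 1 (by ring) ∈ (B : Subgroup SL2) := by rw [h]; exact Subgroup.mem_top _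
  rw [mem_B, mk10] at this
  exact one_ne_zero this

theorem normalizer_U : Subgroup.normalizer ((U : Subgroup SL2) : Set SL2) = B := by
  apply le_antisymm
  · intro g hg
    by_contra hgB
    have hc : g 1 0 ≠ 0 := hgB
    have htop := eq_top_of_U_le (Subgroup.le_normalizer) hg hc
    have hl : mk (1 : F) 0 1 1 (by ring) ∈
        Subgroup.normalizer ((U : Subgroup SL2) : Set SL2) := by
      rw [htop]; exact Subgroup.mem_top _
    have hu : mk (1 : F) 1 0 1 (by ring) ∈ (U : Subgroup SL2) := ⟨rfl, rfl, rfl⟩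
    have h1 := (Subgroup.mem_normalizer_iff.1 hl _).1 hu
    have h2 := h1.2.1
    simp only [mul00, mul01, mul10, mul11, inv00, inv01, inv10, inv11, mk00, mk01, mk10,
      mk11] at h2
    have h3 : (-1 : F) = 0 := by
      rw [← h2]; ring
    exact one_ne_zero (neg_eq_zero.1 h3)
  · intro b hb
    rw [Subgroup.mem_normalizer_iff]
    intro u
    constructor
    · exact fun hu => conj_mem_U hb hu
    · intro hu
      have := conj_mem_U (inv_mem hb) hu
      have e : b⁻¹ * (b * u * b⁻¹) * b⁻¹⁻¹ = u := by group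
      rwa [e] at this

theorem le_normalizer_or_eq_top {H : Subgroup SL2} (hU : (U : Subgroup SL2) ≤ H) :
    H ≤ Subgroup.normalizer ((U : Subgroup SL2) : Set SL2) ∨ H = ⊤ := by
  by_cases h : ∀ g ∈ H, g 1 0 = 0
  · left
    rw [normalizer_U]
    exact fun g hg => h g hg
  · right
    push Not at h
    obtain ⟨g, hg, hc⟩ := h
    exact eq_top_of_U_le hU hg hc

theorem normalizer_U_ne_top : Subgroup.normalizer ((U : Subgroup SL2) : Set SL2) ≠ ⊤ := by
  rw [normalizer_U]; exact B_ne_top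

theorem exists_col (v : Fin 2 → F) (hv : v ≠ 0) : ∃ h : SL2, h 0 0 = v 0 ∧ h 1 0 = v 1 := by
  by_cases h0 : v 0 = 0
  · have h1 : v 1 ≠ 0 := by
      intro h1
      apply hv
      funext i
      fin_cases i
      · exact h0
      · exact h1
    exact ⟨nmat (v 1) h1, by rw [nmat00, h0], by rw [nmat10]⟩
  · exact ⟨mk (v 0) 0 (v 1) (v 0)⁻¹ (by rw [mul_inv_cancel₀ h0]; ring), rfl, rfl⟩

/-- every 2-subgroup is conjugate into `U` -/
theorem exists_conj_mem_U [Finite F] (hF : 2 ∣ Nat.card F) (Q : Subgroup SL2)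
    (hQ : IsPGroup 2 Q) : ∃ h : SL2, ∀ g ∈ Q, h⁻¹ * g * h ∈ (U : Subgroup SL2) := by
  have : Fact (Nat.Prime 2) := ⟨Nat.prime_two⟩
  have hcard : 2 ∣ Nat.card (Fin 2 → F) := by
    rw [Nat.card_fun, Nat.card_fin]
    exact dvd_pow hF (by norm_num)
  have h0 : (0 : Fin 2 → F) ∈ MulAction.fixedPoints Q (Fin 2 → F) := fun g => smul_zero g
  obtain ⟨v, hv, hv0⟩ :=
    hQ.exists_fixed_point_of_prime_dvd_card_of_fixed_point (Fin 2 → F) hcard h0
  obtain ⟨h, hh0, hh1⟩ := exists_col v (Ne.symm hv0)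
  refine ⟨h, ?_⟩
  intro g hg
  have hfix : (g : SL2) • v = v := hv ⟨g, hg⟩
  rw [Matrix.SpecialLinearGroup.smul_def, Matrix.smul_eq_mulVec] at hfix
  have f0 : g 0 0 * v 0 + g 0 1 * v 1 = v 0 := by
    have := congrFun hfix 0
    simpa [Matrix.mulVec, dotProduct, Fin.sum_univ_two] using this
  have f1 : g 1 0 * v 0 + g 1 1 * v 1 = v 1 := by
    have := congrFun hfix 1
    simpa [Matrix.mulVec, dotProduct, Fin.sum_univ_two] using this
  have e0 : (g * h) 0 0 = h 0 0 := by rw [mul00, hh0, hh1, f0]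
  have e1 : (g * h) 1 0 = h 1 0 := by rw [mul10, hh0, hh1, f1]
  have w00 : (h⁻¹ * g * h) 0 0 = 1 := by
    rw [mul_assoc, mul00, e0, e1, ← mul00, inv_mul_cancel, one00]
  have w10 : (h⁻¹ * g * h) 1 0 = 0 := by
    rw [mul_assoc, mul10, e0, e1, ← mul10, inv_mul_cancel, one10]
  refine ⟨w00, w10, ?_⟩
  have hd := det_eq (h⁻¹ * g * h)
  rw [w00, w10, mul_zero, sub_zero, one_mul] at hd
  exact hd

/-- every Sylow 2-subgroup is a conjugate of `U` -/
theorem sylow_eq_conj_U [Finite F] (h2 : (2 : F) = 0) (hF : 2 ∣ Nat.card F)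
    (P : Sylow 2 SL2) : ∃ h : SL2,
      (P : Subgroup SL2) = (U : Subgroup SL2).map (MulAut.conj h).toMonoidHom := by
  obtain ⟨h, hh⟩ := exists_conj_mem_U hF (P : Subgroup SL2) P.isPGroup'
  refine ⟨h, ?_⟩
  have hle : (P : Subgroup SL2) ≤ (U : Subgroup SL2).map (MulAut.conj h).toMonoidHom := by
    intro g hg
    refine ⟨h⁻¹ * g * h, hh g hg, ?_⟩
    show h * (h⁻¹ * g * h) * h⁻¹ = g
    group
  exact (P.is_maximal' ((isPGroup_U h2).map _) hle).symm

theorem center_eq_bot (h2 : (2 : F) = 0) : Subgroup.center SL2 = ⊥ := by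
  rw [eq_bot_iff]
  intro A hA
  rw [Matrix.SpecialLinearGroup.mem_center_iff] at hA
  obtain ⟨r, hr, hrA⟩ := hA
  rw [Fintype.card_fin] at hr
  have hr1 : r = 1 := by
    have : (r - 1) ^ 2 = 0 := by
      have : (r - 1) ^ 2 = r ^ 2 - 2 * r + 1 := by ring
      rw [this, hr, h2]; ring_nf
      exact h2
    have := pow_eq_zero_iff (two_ne_zero) |>.1 this
    exact sub_eq_zero.1 this
  rw [Subgroup.mem_bot]
  apply Matrix.SpecialLinearGroup.ext
  intro i j
  rw [← hrA, hr1]
  simp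

end Cfsg.Agent.H2.SL2Char2
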