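import Mathlib
import Cfsg.Agent.H2.ZassRegular
import Cfsg.Agent.Lib.Helper4.WagnerBase

/-!
# Sharply 3-transitive groups of odd degree: the group-theoretic data

(author: helper2)
-/

set_option autoImplicit false

namespace Cfsg.Agent.H2.SharpThree

open MulAction Cfsg.Agent.H2.ZassRegular

variable {Γ α : Type*} [Group Γ] [MulAction Γ α]

/-- a non-identity involution of a group of odd degree in which only the identity fixes three
points has exactly one fixed point -/
theorem invol_unique_fix [Finite α] (hodd : Odd (Nat.card α))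
    (hfix : ∀ g : Γ, ∀ a b c : α, a ≠ b → b ≠ c → a ≠ c → g • a = a → g • b = b → g • c = c → g = 1)
    (i : Γ) (hi : i * i = 1) (hi1 : i ≠ 1) : ∃! p : α, i • p = p := by
  have : Fact (Nat.Prime 2) := ⟨Nat.prime_two⟩
  let P : Subgroup Γ := Subgroup.zpowers i
  have hP : IsPGroup 2 P := by
    rintro ⟨x, hx⟩
    obtain ⟨j, rfl⟩ := Subgroup.mem_zpowers_iff.1 hx
    refine ⟨1, Subtype.ext ?_⟩
    show (i ^ j) ^ 2 ^ 1 = 1
    rw [pow_one, ← zpow_natCast, ← zpow_mul, mul_comm, zpow_mul, zpow_natCast, pow_two, hi,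
      one_zpow]
  have hmod := hP.card_modEq_card_fixedPoints α
  have hfp : fixedPoints P α = {p | i • p = p} := by
    ext x
    simp only [mem_fixedPoints, Set.mem_ofPred_eq]
    constructor
    · intro hx
      exact hx ⟨i, Subgroup.mem_zpowers _⟩
    · rintro hx ⟨y, hy⟩
      obtain ⟨j, rfl⟩ := Subgroup.mem_zpowers_iff.1 hy
      have : i ∈ stabilizer Γ x := mem_stabilizer_iff.2 hx
      exact mem_stabilizer_iff.1 (Subgroup.zpow_mem _ this j)
  rw [hfp] at hmod
  set Fx : Set α := {p | i • p = p} with hFx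
  have hcard : Nat.card Fx = Fx.ncard := Nat.card_coe_set_eq Fx
  rw [hcard] at hmod
  have hle : ¬ 2 < Fx.ncard := by
    intro h
    rw [Set.two_lt_ncard_iff] at h
    obtain ⟨a, b, c, ha, hb, hc, hab, hac, hbc⟩ := h
    exact hi1 (hfix i a b c hab hbc hac ha hb hc)
  have h1 : Fx.ncard = 1 := by
    have h2 : Nat.card α % 2 = 1 := Nat.odd_iff.1 hodd
    have h3 : Nat.card α % 2 = Fx.ncard % 2 := hmod
    omega
  obtain ⟨p, hp⟩ := Set.ncard_eq_one.1 h1
  refine ⟨p, ?_, ?_⟩
  · have : p ∈ Fx := by rw [hp]; rfl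
    exact this
  · intro q hq
    have : q ∈ Fx := hq
    rw [hp] at this
    exact this

theorem swap_pow_odd {y : Γ} {a b : α} (hya : y • a = b) (hyb : y • b = a) (k : ℕ) :
    y ^ (2 * k + 1) • a = b := by
  induction k with
  | zero => simpa using hya
  | succ k ih =>
    rw [show 2 * (k + 1) + 1 = 2 + (2 * k + 1) by ring, pow_add, mul_smul, ih, pow_two, mul_smul,
      hyb, hya]

/-- an element interchanging two points is an involution -/
theorem sq_one_of_swap [Finite Γ] [Finite α] (hodd : Odd (Nat.card α))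
    (hfix : ∀ g : Γ, ∀ a b c : α, a ≠ b → b ≠ c → a ≠ c → g • a = a → g • b = b → g • c = c → g = 1)
    (y : Γ) (a b : α) (hab : a ≠ b) (hya : y • a = b) (hyb : y • b = a) : y * y = 1 := by
  by_contra hz
  set z := y * y with hzdef
  have hza : z • a = a := by rw [hzdef, mul_smul, hya, hyb]
  have hzb : z • b = b := by rw [hzdef, mul_smul, hyb, hya]
  have hn0 : 0 < orderOf z := orderOf_pos z
  -- the order of `z` is odd
  have hnodd : Odd (orderOf z) := by
    rw [← Nat.not_even_iff_odd]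
    intro heven
    obtain ⟨m, hm⟩ := heven
    have hm0 : m ≠ 0 := by omega
    set i := z ^ m with hidef
    have hi2 : i * i = 1 := by
      rw [hidef, ← pow_add, ← hm]
      exact pow_orderOf_eq_one z
    have hi1 : i ≠ 1 := by
      intro h
      have := orderOf_dvd_of_pow_eq_one h
      have := Nat.le_of_dvd (by omega) this
      omega
    have hia : i • a = a := by
      have : z ∈ stabilizer Γ a := mem_stabilizer_iff.2 hza
      exact mem_stabilizer_iff.1 (Subgroup.pow_mem _ this m)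
    have hib : i • b = b := by
      have : z ∈ stabilizer Γ b := mem_stabilizer_iff.2 hzb
      exact mem_stabilizer_iff.1 (Subgroup.pow_mem _ this m)
    obtain ⟨p, -, hp⟩ := invol_unique_fix hodd hfix i hi2 hi1
    exact hab ((hp a hia).trans (hp b hib).symm)
  obtain ⟨k, hk⟩ := hnodd
  set w := y ^ (2 * k + 1) with hwdef
  have hw2 : w * w = 1 := by
    rw [hwdef, ← pow_add, show 2 * k + 1 + (2 * k + 1) = 2 * (2 * k + 1) by ring, pow_mul,
      pow_two, ← hzdef, ← hk]
    exact pow_orderOf_eq_one z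
  have hwa : w • a = b := swap_pow_odd hya hyb k
  have hw1 : w ≠ 1 := by
    intro h
    rw [h, one_smul] at hwa
    exact hab hwa
  obtain ⟨p, hp, hpu⟩ := invol_unique_fix hodd hfix w hw2 hw1
  have hyw : y * w = w * y := by
    rw [hwdef, ← pow_succ', ← pow_succ]
  have hyp : y • p = p := by
    apply hpu
    rw [← mul_smul, ← hyw, mul_smul, hp]
  have hpa : p ≠ a := by
    intro h
    rw [h, hya] at hyp
    exact hab hyp.symm
  have hpb : p ≠ b := by
    intro h
    rw [h, hyb] at hyp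
    exact hab hyp
  have hzp : z • p = p := by rw [hzdef, mul_smul, hyp, hyp]
  exact hz (hfix z a b p hab hpb.symm hpa.symm hza hzb hzp)

/-- the data extracted from a sharply 3-transitive group of odd degree -/
structure SharpData (Γ α : Type*) [Group Γ] [MulAction Γ α] where
  /-- the point at infinity -/
  ainf : α
  /-- the zero point -/
  a0 : α
  /-- the unit point -/
  a1 : α
  /-- the translation subgroup -/
  K : Subgroup Γ
  /-- the inversion -/
  t : Γ
  h_inf0 : ainf ≠ a0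
  h_inf1 : ainf ≠ a1
  h_01 : a0 ≠ a1
  K1 : ∀ k ∈ K, k • ainf = ainf
  K2 : ∀ k ∈ K, k ≠ 1 → ∀ x, x ≠ ainf → k • x ≠ x
  K3 : ∀ x, x ≠ ainf → ∃ k ∈ K, k • a0 = x
  K4 : ∀ h : Γ, h • ainf = ainf → ∀ k ∈ K, h * k * h⁻¹ ∈ K
  Ksq : ∀ k ∈ K, k * k = 1
  Ktr : ∀ k ∈ K, k ≠ 1 → ∀ k' ∈ K, k' ≠ 1 →
    ∃ h : Γ, h • ainf = ainf ∧ h • a0 = a0 ∧ h * k * h⁻¹ = k'
  t_inf : t • ainf = a0
  t_0 : t • a0 = ainf
  t_1 : t • a1 = a1
  t_sq : t * t = 1
  t_inv : ∀ h : Γ, h • ainf = ainf → h • a0 = a0 → t * h * t = h⁻¹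

/-- existence of the Frobenius kernel of a point stabilizer -/
theorem exists_K [Finite Γ] [Fintype α] [FaithfulSMul Γ α] (hm : 3 ≤ Fintype.card α)
    (h3 : IsMultiplyPretransitive Γ α 3)
    (hfix : ∀ g : Γ, ∀ a b c : α, a ≠ b → b ≠ c → a ≠ c → g • a = a → g • b = b → g • c = c → g = 1)
    (ainf a0 a1 : α) (h_inf0 : ainf ≠ a0) (h_inf1 : ainf ≠ a1) (h_01 : a0 ≠ a1) :
    ∃ K : Subgroup Γ, (∀ k ∈ K, k • ainf = ainf) ∧
      (∀ k ∈ K, k ≠ 1 → ∀ x, x ≠ ainf → k • x ≠ x) ∧
      (∀ x, x ≠ ainf → ∃ k ∈ K, k • a0 = x) ∧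
      (∀ h : Γ, h • ainf = ainf → ∀ k ∈ K, h * k * h⁻¹ ∈ K) := by
  classical
  have h2 : IsMultiplyPretransitive Γ α 2 :=
    isMultiplyPretransitive_of_le (m := 2) (n := 3) (by norm_num)
      (by rw [Nat.card_eq_fintype_card]; exact_mod_cast hm)
  by_cases h4 : ∃ a2 : α, a2 ≠ ainf ∧ a2 ≠ a0 ∧ a2 ≠ a1
  · obtain ⟨a2, h2i, h20, h21⟩ := h4
    obtain ⟨g₀, hg1, hg2, hg3⟩ := Cfsg.Agent.Lib.Helper4.Wagner.three_elementwise h3
      h_inf0 h_inf1 h_01 h_inf0 (Ne.symm h2i) (Ne.symm h20)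
    have hg₀ : g₀ ≠ 1 := by
      intro h
      rw [h, one_smul] at hg3
      exact h21 hg3.symm
    exact exists_kernel h2 hfix g₀ hg₀ ainf a0 h_inf0 hg1 hg2
  · push Not at h4
    refine ⟨stabilizer Γ ainf, fun k hk => mem_stabilizer_iff.1 hk, ?_, ?_, ?_⟩
    · intro k hk hk1 x hx hkx
      apply hk1
      have hk' : k • ainf = ainf := mem_stabilizer_iff.1 hk
      -- the third point
      by_cases hx0 : x = a0
      · have h5 : k • a1 = a1 := by
          have h6 : k • a1 ≠ ainf := by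
            intro h
            rw [← hk'] at h
            exact h_inf1 (MulAction.injective k h).symm
          have h7 : k • a1 ≠ a0 := by
            intro h
            rw [← hx0, ← hkx] at h
            have := MulAction.injective k h
            rw [hx0] at this
            exact h_01 this.symm
          by_contra h8
          exact h8 (h4 _ h6 h7)
        rw [hx0] at hkx
        exact hfix k ainf a0 a1 h_inf0 h_01 h_inf1 hk' hkx h5
      · have hx1 : x = a1 := h4 x hx hx0
        have h5 : k • a0 = a0 := by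
          have h6 : k • a0 ≠ ainf := by
            intro h
            rw [← hk'] at h
            exact h_inf0 (MulAction.injective k h).symm
          have h7 : k • a0 ≠ a1 := by
            intro h
            rw [← hx1, ← hkx] at h
            have := MulAction.injective k h
            rw [hx1] at this
            exact h_01 this
          by_contra h8
          have h9 := h4 _ h6 h8
          exact h7 h9
        rw [hx1] at hkx
        exact hfix k ainf a0 a1 h_inf0 h_01 h_inf1 hk' h5 hkx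
    · intro x hx
      obtain ⟨g, hg1, hg2⟩ := exists_fix_map h2 h_inf0 hx
      exact ⟨g, mem_stabilizer_iff.2 hg1, hg2⟩
    · intro h hh k hk
      have hk' : k • ainf = ainf := mem_stabilizer_iff.1 hk
      rw [mem_stabilizer_iff, mul_smul, mul_smul, inv_smul_eq_iff.2 hh.symm, hk', hh]

/-- the data exist -/
theorem exists_data [Fintype α] [FaithfulSMul Γ α] (hm : 3 ≤ Fintype.card α)
    (hodd : Odd (Fintype.card α)) (h3 : IsMultiplyPretransitive Γ α 3)
    (hfix : ∀ g : Γ, ∀ a b c : α, a ≠ b → b ≠ c → a ≠ c → g • a = a → g • b = b → g • c = c → g = 1) :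
    Nonempty (SharpData Γ α) := by
  classical
  have hGfin : Finite Γ :=
    Finite.of_injective (MulAction.toPerm (α := Γ) (β := α)) MulAction.toPerm_injective
  have hodd' : Odd (Nat.card α) := by rw [Nat.card_eq_fintype_card]; exact hodd
  -- three points
  obtain ⟨ainf, a0, a1, h_inf0, h_inf1, h_01⟩ : ∃ a b c : α, a ≠ b ∧ a ≠ c ∧ b ≠ c := by
    have : 2 < (Finset.univ : Finset α).card := by rw [Finset.card_univ]; omega
    rw [Finset.two_lt_card_iff] at this
    obtain ⟨a, b, c, -, -, -, h1, h2, h3⟩ := this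
    exact ⟨a, b, c, h1, h2, h3⟩
  obtain ⟨K, K1, K2, K3, K4⟩ := exists_K hm h3 hfix ainf a0 a1 h_inf0 h_inf1 h_01
  -- regularity of `K`
  have Kreg : ∀ k ∈ K, ∀ k' ∈ K, k • a0 = k' • a0 → k = k' := by
    intro k hk k' hk' h
    by_contra hne
    have h1 : k'⁻¹ * k ≠ 1 := by
      intro h1
      apply hne
      rw [inv_mul_eq_one] at h1
      exact h1.symm
    refine K2 (k'⁻¹ * k) (K.mul_mem (K.inv_mem hk') hk) h1 a0 h_inf0.symm ?_
    rw [mul_smul, h, inv_smul_smul]
  -- transitivity of the two point stabilizer on `K ∖ 1`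
  have Ktr : ∀ k ∈ K, k ≠ 1 → ∀ k' ∈ K, k' ≠ 1 →
      ∃ h : Γ, h • ainf = ainf ∧ h • a0 = a0 ∧ h * k * h⁻¹ = k' := by
    intro k hk hk1 k' hk' hk'1
    have hx0 : k • a0 ≠ a0 := K2 k hk hk1 a0 h_inf0.symm
    have hxi : k • a0 ≠ ainf := by
      intro h
      rw [← K1 k hk] at h
      exact h_inf0 (MulAction.injective k h).symm
    have hx0' : k' • a0 ≠ a0 := K2 k' hk' hk'1 a0 h_inf0.symm
    have hxi' : k' • a0 ≠ ainf := by
      intro h
      rw [← K1 k' hk'] at h
      exact h_inf0 (MulAction.injective k' h).symm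
    obtain ⟨h, hh1, hh2, hh3⟩ := Cfsg.Agent.Lib.Helper4.Wagner.three_elementwise h3
      h_inf0 (Ne.symm hxi) (Ne.symm hx0) h_inf0 (Ne.symm hxi') (Ne.symm hx0')
    refine ⟨h, hh1, hh2, ?_⟩
    apply Kreg _ (K4 h hh1 k hk) _ hk'
    rw [mul_smul, mul_smul, inv_smul_eq_iff.2 hh2.symm, hh3]
  -- `K` has even order
  have hKcard : Nat.card K = Nat.card α - 1 := by
    have h1 : Nat.card K = Nat.card ({ainf}ᶜ : Set α) := by
      apply Nat.card_eq_of_bijective (fun k : K => (⟨(k : Γ) • a0, by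
        intro h
        have h' : (k : Γ) • a0 = ainf := h
        rw [← K1 k k.2] at h'
        exact h_inf0 (MulAction.injective (k : Γ) h').symm⟩ : ({ainf}ᶜ : Set α)))
      constructor
      · intro k k' h
        have h' : (k : Γ) • a0 = (k' : Γ) • a0 := congrArg Subtype.val h
        exact Subtype.ext (Kreg k k.2 k' k'.2 h')
      · rintro ⟨x, hx⟩
        obtain ⟨k, hk, hkx⟩ := K3 x hx
        exact ⟨⟨k, hk⟩, Subtype.ext hkx⟩
    rw [h1, Nat.card_coe_set_eq, Set.ncard_compl, Set.ncard_singleton]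
  have hKeven : 2 ∣ Nat.card K := by
    rw [hKcard]
    obtain ⟨j, hj⟩ := hodd'
    omega
  have : Fact (Nat.Prime 2) := ⟨Nat.prime_two⟩
  obtain ⟨k₂, hk₂⟩ := exists_prime_orderOf_dvd_card' (G := K) 2 hKeven
  have hk₂1 : (k₂ : Γ) ≠ 1 := by
    intro h1
    have : k₂ = 1 := Subtype.ext h1
    rw [this, orderOf_one] at hk₂
    omega
  have hk₂2 : (k₂ : Γ) * k₂ = 1 := by
    have := pow_orderOf_eq_one k₂
    rw [hk₂, pow_two] at this
    exact congrArg Subtype.val this
  have Ksq : ∀ k ∈ K, k * k = 1 := by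
    intro k hk
    by_cases hk1 : k = 1
    · rw [hk1, mul_one]
    · obtain ⟨h, -, -, hh⟩ := Ktr k₂ k₂.2 hk₂1 k hk hk1
      rw [← hh]
      calc h * k₂ * h⁻¹ * (h * k₂ * h⁻¹) = h * (k₂ * k₂) * h⁻¹ := by group
        _ = 1 := by rw [hk₂2]; group
  -- the inversion
  obtain ⟨t, t_inf, t_0, t_1⟩ := Cfsg.Agent.Lib.Helper4.Wagner.three_elementwise h3
    h_inf0 h_inf1 h_01 h_inf0.symm h_01 h_inf1
  have t_sq : t * t = 1 := sq_one_of_swap hodd' hfix t ainf a0 h_inf0 t_inf t_0
  have t_inv : ∀ h : Γ, h • ainf = ainf → h • a0 = a0 → t * h * t = h⁻¹ := by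
    intro h hh1 hh2
    have h1 : (t * h) * (t * h) = 1 := by
      apply sq_one_of_swap hodd' hfix (t * h) ainf a0 h_inf0
      · rw [mul_smul, hh1, t_inf]
      · rw [mul_smul, hh2, t_0]
    calc t * h * t = (t * h * (t * h)) * h⁻¹ := by group
      _ = h⁻¹ := by rw [h1, one_mul]
  exact ⟨{ ainf := ainf, a0 := a0, a1 := a1, K := K, t := t, h_inf0 := h_inf0, h_inf1 := h_inf1,
           h_01 := h_01, K1 := K1, K2 := K2, K3 := K3, K4 := K4, Ksq := Ksq, Ktr := Ktr,
           t_inf := t_inf, t_0 := t_0, t_1 := t_1, t_sq := t_sq, t_inv := t_inv }⟩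

end Cfsg.Agent.H2.SharpThree
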