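import Mathlib
import Cfsg.Agent.H2.SingerField

/-!
# A field from a commuting transitive set of automorphisms (Singer-cycle argument)

(author: helper2)
-/

set_option autoImplicit false

namespace Cfsg.Agent.H2.SingerFieldDef

open Cfsg.Agent.H2.SingerField

/-- additive core: the subring of `End A` generated by a commuting, inverse-closed set of
endomorphisms which is transitive on the non-zero elements is a field, and evaluation at `v₀` is a
bijection onto `A`. -/
theorem exists_field_add {A : Type*} [AddCommGroup A]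
    (S : Set (AddMonoid.End A)) (hcomm : ∀ s ∈ S, ∀ t ∈ S, s * t = t * s)
    (hinv : ∀ s ∈ S, ∃ t ∈ S, s * t = 1)
    (v₀ : A) (hv₀ : v₀ ≠ 0) (htrans : ∀ x : A, x ≠ 0 → ∃ s ∈ S, s v₀ = x) :
    ∃ F : Subring (AddMonoid.End A), IsField F ∧ S ⊆ F ∧
      Function.Bijective (fun f : F => (f : AddMonoid.End A) v₀) := by
  classical
  let F : Subring (AddMonoid.End A) := Subring.closure S
  have hSF : S ⊆ F := Subring.subset_closure
  have hFc : ∀ f ∈ F, ∀ g ∈ F, f * g = g * f := by
    have := Subring.isMulCommutative_closure hcomm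
    intro f hf g hg
    have h := mul_comm' (⟨f, hf⟩ : Subring.closure S) ⟨g, hg⟩
    exact congrArg Subtype.val h
  have ev_inj : ∀ f ∈ F, f v₀ = 0 → f = 0 := by
    intro f hf h0
    ext x
    by_cases hx : x = 0
    · rw [hx, map_zero, map_zero]
    · obtain ⟨s, hs, rfl⟩ := htrans x hx
      have h1 : (f * s) v₀ = (s * f) v₀ := by rw [hFc f hf s (hSF hs)]
      rw [mul_app, mul_app, h0, map_zero] at h1
      rw [h1]; rfl
  have ev_inj2 : ∀ f ∈ F, ∀ g ∈ F, f v₀ = g v₀ → f = g := by
    intro f hf g hg h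
    have := ev_inj (f - g) (F.sub_mem hf hg) (by rw [sub_app, h, sub_self])
    exact sub_eq_zero.1 this
  have hFS : ∀ f ∈ F, f ≠ 0 → f ∈ S := by
    intro f hf hf0
    have h1 : f v₀ ≠ 0 := fun h => hf0 (ev_inj f hf h)
    obtain ⟨s, hs, hsv⟩ := htrans _ h1
    rw [ev_inj2 f hf s (hSF hs) hsv.symm]
    exact hs
  have h01 : (0 : F) ≠ 1 := by
    intro h
    have h' : (0 : AddMonoid.End A) = 1 := congrArg Subtype.val h
    have := congrArg (fun f : AddMonoid.End A => f v₀) h'
    exact hv₀ this.symm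
  have hF : IsField F := by
    refine ⟨⟨0, 1, h01⟩, ?_, ?_⟩
    · intro f g
      exact Subtype.ext (hFc f f.2 g g.2)
    · intro f hf
      have hf' : (f : AddMonoid.End A) ≠ 0 := fun h => hf (Subtype.ext h)
      obtain ⟨t, ht, hft⟩ := hinv _ (hFS f f.2 hf')
      exact ⟨⟨t, hSF ht⟩, Subtype.ext hft⟩
  refine ⟨F, hF, hSF, ?_, ?_⟩
  · intro f g h
    exact Subtype.ext (ev_inj2 f f.2 g g.2 h)
  · intro x
    by_cases hx : x = 0
    · exact ⟨0, by simp [hx]⟩
    · obtain ⟨s, hs, hsv⟩ := htrans x hx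
      exact ⟨⟨s, hSF hs⟩, hsv⟩

/-- multiplicative version, with the field transported to `Type`: a commuting, inverse-closed
set `S` of automorphisms of an elementary abelian 2-group `V`, transitive on `V ∖ 1`, makes `V` the
additive group of a field on which `S` acts by multiplications. -/
theorem exists_field {V : Type*} [Group V] [Finite V] (hV : ∀ x y : V, x * y = y * x)
    (hV2 : ∀ x : V, x * x = 1)
    (S : Set (MulAut V)) (hcomm : ∀ s ∈ S, ∀ t ∈ S, s * t = t * s)
    (hinv : ∀ s ∈ S, s⁻¹ ∈ S)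
    (v₀ : V) (hv₀ : v₀ ≠ 1) (htrans : ∀ x : V, x ≠ 1 → ∃ s ∈ S, s v₀ = x) :
    ∃ (a : ℕ) (F : Type) (_ : Field F) (_ : Fintype F) (e : F ≃ V), 1 ≤ a ∧
      Fintype.card F = 2 ^ a ∧ Nat.card V = 2 ^ a ∧ e 0 = 1 ∧ e 1 = v₀ ∧
      (∀ x y, e (x + y) = e x * e y) ∧ (∀ s ∈ S, ∀ x, s (e x) = e (e.symm (s v₀) * x)) := by
  classical
  let _ : CommGroup V := { ‹Group V› with mul_comm := hV }
  let Φ : MulAut V →* AddMonoid.End (Additive V) :=
    { toFun := fun e => MonoidHom.toAdditive e.toMonoidHom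
      map_one' := rfl
      map_mul' := fun _ _ => rfl }
  have hΦ : ∀ (e : MulAut V) (x : V), Φ e (Additive.ofMul x) = Additive.ofMul (e x) :=
    fun _ _ => rfl
  obtain ⟨F, hF, hSF, hbij⟩ := exists_field_add (A := Additive V) (Φ '' S)
    (by
      rintro _ ⟨s, hs, rfl⟩ _ ⟨t, ht, rfl⟩
      rw [← map_mul, ← map_mul, hcomm s hs t ht])
    (by
      rintro _ ⟨s, hs, rfl⟩
      refine ⟨Φ s⁻¹, ⟨s⁻¹, hinv s hs, rfl⟩, ?_⟩
      rw [← map_mul, mul_inv_cancel, map_one])
    (Additive.ofMul v₀) (fun h => hv₀ (Additive.ofMul.injective h))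
    (by
      intro x hx
      have hx' : Additive.toMul x ≠ 1 := by
        intro h
        apply hx
        exact Additive.toMul.injective h
      obtain ⟨s, hs, hsv⟩ := htrans _ hx'
      refine ⟨Φ s, ⟨s, hs, rfl⟩, ?_⟩
      rw [hΦ, hsv]
      rfl)
  -- cardinality of `V`
  have hVp : IsPGroup 2 V := by
    intro x
    refine ⟨1, ?_⟩
    rw [pow_one, pow_two]
    exact hV2 x
  obtain ⟨a, ha⟩ := IsPGroup.iff_card.1 hVp
  have ha1 : 1 ≤ a := by
    by_contra h
    have h0 : a = 0 := by omega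
    rw [h0, pow_zero] at ha
    have hsub : Subsingleton V := (Nat.card_eq_one_iff_unique.1 ha).1
    exact hv₀ (Subsingleton.elim _ _)
  let ev : F ≃ Additive V := Equiv.ofBijective _ hbij
  have hev : ∀ f : F, ev f = (f : AddMonoid.End (Additive V)) (Additive.ofMul v₀) := fun _ => rfl
  have hcardF : Nat.card F = 2 ^ a := by
    rw [Nat.card_congr ev]
    exact ha
  have hFfin : Finite F := Nat.finite_of_card_ne_zero (by rw [hcardF]; positivity)
  let _ : Field F := IsField.toField hF
  let _ : Fintype F := Fintype.ofFinite F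
  have : Fact (Nat.Prime 2) := ⟨Nat.prime_two⟩
  let _ : Fintype (GaloisField 2 a) := Fintype.ofFinite _
  have hcardG : Fintype.card (GaloisField 2 a) = 2 ^ a := by
    rw [Fintype.card_eq_nat_card]
    exact GaloisField.card 2 a (by omega)
  have hcc : Fintype.card (GaloisField 2 a) = Fintype.card F := by
    rw [hcardG, Fintype.card_eq_nat_card, hcardF]
  let r : GaloisField 2 a ≃+* F := FiniteField.ringEquivOfCardEq hcc
  let e : GaloisField 2 a ≃ V := (r.toEquiv.trans ev).trans Additive.toMul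
  have he : ∀ x, e x = Additive.toMul ((r x : AddMonoid.End (Additive V)) (Additive.ofMul v₀)) :=
    fun _ => rfl
  refine ⟨a, GaloisField 2 a, inferInstance, inferInstance, e, ha1, hcardG, ha, ?_, ?_, ?_, ?_⟩
  · rw [he, map_zero]
    rfl
  · rw [he, map_one]
    rfl
  · intro x y
    rw [he, he, he, map_add]
    rfl
  · intro s hs x
    have hsF : Φ s ∈ F := hSF ⟨s, hs, rfl⟩
    have h1 : e.symm (s v₀) = r.symm ⟨Φ s, hsF⟩ := by
      rw [Equiv.symm_apply_eq, he, RingEquiv.apply_symm_apply]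
      rfl
    rw [h1, he, he, map_mul, RingEquiv.apply_symm_apply]
    rfl

end Cfsg.Agent.H2.SingerFieldDef
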