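import Mathlib
import Cfsg.Agent.H2.SharpThreeA
import Cfsg.Agent.H2.SingerFieldDef
import Cfsg.Agent.S0804

/-!
# Sharply 3-transitive groups of odd degree are `SL₂(2^a)`

(author: helper2)
-/

set_option autoImplicit false

namespace Cfsg.Agent.H2.SharpThree

open MulAction Matrix OnePoint Cfsg.Agent.H2.ZassRegular

section matrices

variable {F : Type*} [Field F] [DecidableEq F]

/-- the action of `SL₂(F)` on the projective line -/
noncomputable def slAct (M : SpecialLinearGroup (Fin 2) F) (y : OnePoint F) : OnePoint F :=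
  (SpecialLinearGroup.toGL M) • y

theorem slAct_infty (M : SpecialLinearGroup (Fin 2) F) :
    slAct M ∞ = if M 1 0 = 0 then ∞ else ((M 0 0 / M 1 0 : F) : OnePoint F) := by
  rw [slAct, OnePoint.smul_infty_eq_ite]
  rfl

theorem slAct_coe (M : SpecialLinearGroup (Fin 2) F) (x : F) :
    slAct M (x : OnePoint F) = if M 1 0 * x + M 1 1 = 0 then ∞ else
      (((M 0 0 * x + M 0 1) / (M 1 0 * x + M 1 1) : F) : OnePoint F) := by
  rw [slAct, OnePoint.smul_some_eq_ite]
  rfl

theorem slAct_mul (M N : SpecialLinearGroup (Fin 2) F) (y : OnePoint F) :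
    slAct (M * N) y = slAct M (slAct N y) := by
  rw [slAct, slAct, slAct, map_mul, mul_smul]

theorem slAct_one (y : OnePoint F) : slAct (1 : SpecialLinearGroup (Fin 2) F) y = y := by
  rw [slAct, map_one, one_smul]

/-- in characteristic two the action is faithful -/
theorem eq_one_of_slAct [CharP F 2] (M : SpecialLinearGroup (Fin 2) F)
    (h : ∀ y : OnePoint F, slAct M y = y) : M = 1 := by
  have h10 : M 1 0 = 0 := by
    have := h ∞
    rw [slAct_infty] at this
    by_contra hne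
    rw [if_neg hne] at this
    exact OnePoint.coe_ne_infty _ this
  have hdet : M 0 0 * M 1 1 - M 0 1 * M 1 0 = 1 := by
    have := M.det_coe
    rw [Matrix.det_fin_two] at this
    exact this
  rw [h10, mul_zero, sub_zero] at hdet
  have h11 : M 1 1 ≠ 0 := by
    intro h0
    rw [h0, mul_zero] at hdet
    exact zero_ne_one hdet
  have h01 : M 0 1 = 0 := by
    have := h ((0 : F) : OnePoint F)
    rw [slAct_coe, h10, zero_mul, zero_add, if_neg h11, mul_zero, zero_add] at this
    have h2 : M 0 1 / M 1 1 = 0 := OnePoint.coe_injective this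
    rcases div_eq_zero_iff.1 h2 with h3 | h3
    · exact h3
    · exact absurd h3 h11
  have h00 : M 0 0 = M 1 1 := by
    have := h ((1 : F) : OnePoint F)
    rw [slAct_coe, h10, zero_mul, zero_add, if_neg h11, mul_one, h01, add_zero] at this
    have h2 : M 0 0 / M 1 1 = 1 := OnePoint.coe_injective this
    exact (div_eq_one_iff_eq h11).1 h2
  have h00' : M 0 0 = 1 := by
    rw [← h00] at hdet
    have h2 : (M 0 0 - 1) * (M 0 0 - 1) = 0 := by
      have h3 : (2 : F) = 0 := CharP.cast_eq_zero F 2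
      linear_combination hdet + (1 - M 0 0) * h3
    have := mul_self_eq_zero.1 h2
    exact sub_eq_zero.1 this
  ext i j
  fin_cases i <;> fin_cases j
  · simpa using h00'
  · simpa using h01
  · simpa using h10
  · simpa using (h00.symm.trans h00')

/-- the Weyl element in characteristic two -/
def weyl [CharP F 2] : SpecialLinearGroup (Fin 2) F :=
  ⟨!![0, 1; 1, 0], by
    rw [Matrix.det_fin_two_of]
    have h3 : (2 : F) = 0 := CharP.cast_eq_zero F 2
    calc (0 : F) * 0 - 1 * 1 = 1 - 2 := by ring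
      _ = 1 := by rw [h3, sub_zero]⟩

omit [DecidableEq F] in
theorem weyl_coe [CharP F 2] :
    ((weyl : Matrix.SpecialLinearGroup (Fin 2) F) : Matrix (Fin 2) (Fin 2) F) = !![0, 1; 1, 0] :=
  rfl

omit [DecidableEq F] in
theorem trans01_coe (c : F) :
    ((Matrix.SpecialLinearGroup.transvection (zero_ne_one : (0 : Fin 2) ≠ 1) c :
      Matrix.SpecialLinearGroup (Fin 2) F) : Matrix (Fin 2) (Fin 2) F) = !![1, c; 0, 1] := by
  ext i j
  fin_cases i <;> fin_cases j <;> simp [Matrix.SpecialLinearGroup.transvection_coe]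

omit [DecidableEq F] in
theorem trans10_coe (c : F) :
    ((Matrix.SpecialLinearGroup.transvection (one_ne_zero : (1 : Fin 2) ≠ 0) c :
      Matrix.SpecialLinearGroup (Fin 2) F) : Matrix (Fin 2) (Fin 2) F) = !![1, 0; c, 1] := by
  ext i j
  fin_cases i <;> fin_cases j <;> simp [Matrix.SpecialLinearGroup.transvection_coe]

omit [DecidableEq F] in
theorem weyl_conj [CharP F 2] (c : F) :
    Matrix.SpecialLinearGroup.transvection (one_ne_zero : (1 : Fin 2) ≠ 0) c =
      weyl * Matrix.SpecialLinearGroup.transvection (zero_ne_one : (0 : Fin 2) ≠ 1) c * weyl := by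
  ext i j
  rw [Matrix.SpecialLinearGroup.coe_mul, Matrix.SpecialLinearGroup.coe_mul, weyl_coe, trans01_coe,
    trans10_coe, Matrix.mul_fin_two, Matrix.mul_fin_two]
  fin_cases i <;> fin_cases j <;> simp


theorem slAct_trans01_infty (b : F) :
    slAct (Matrix.SpecialLinearGroup.transvection (zero_ne_one : (0 : Fin 2) ≠ 1) b) ∞ =
      (∞ : OnePoint F) := by
  rw [slAct_infty, trans01_coe]
  simp

theorem slAct_trans01_coe (b x : F) :
    slAct (Matrix.SpecialLinearGroup.transvection (zero_ne_one : (0 : Fin 2) ≠ 1) b)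
      (x : OnePoint F) = ((b + x : F) : OnePoint F) := by
  rw [slAct_coe, trans01_coe]
  simp [add_comm]

theorem slAct_weyl_infty [CharP F 2] : slAct (weyl : Matrix.SpecialLinearGroup (Fin 2) F) ∞ =
    ((0 : F) : OnePoint F) := by
  rw [slAct_infty, weyl_coe]
  simp

theorem slAct_weyl_zero [CharP F 2] :
    slAct (weyl : Matrix.SpecialLinearGroup (Fin 2) F) ((0 : F) : OnePoint F) = ∞ := by
  rw [slAct_coe, weyl_coe]
  simp

theorem slAct_weyl_coe [CharP F 2] (x : F) (hx : x ≠ 0) :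
    slAct (weyl : Matrix.SpecialLinearGroup (Fin 2) F) (x : OnePoint F) =
      ((x⁻¹ : F) : OnePoint F) := by
  rw [slAct_coe, weyl_coe]
  simp [hx]

theorem slAct_diag01_infty (c : F) (hc : c ≠ 0) :
    slAct (Matrix.SpecialLinearGroup.diag2n (zero_ne_one : (0 : Fin 2) ≠ 1) c hc) ∞ =
      (∞ : OnePoint F) := by
  rw [slAct_infty, Matrix.SpecialLinearGroup.diag2n_coe]
  simp

theorem slAct_diag01_coe (c : F) (hc : c ≠ 0) (x : F) :
    slAct (Matrix.SpecialLinearGroup.diag2n (zero_ne_one : (0 : Fin 2) ≠ 1) c hc)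
      (x : OnePoint F) = ((c * c * x : F) : OnePoint F) := by
  rw [slAct_coe, Matrix.SpecialLinearGroup.diag2n_coe]
  simp [hc]
  field_simp

theorem slAct_diag10_infty (c : F) (hc : c ≠ 0) :
    slAct (Matrix.SpecialLinearGroup.diag2n (one_ne_zero : (1 : Fin 2) ≠ 0) c hc) ∞ =
      (∞ : OnePoint F) := by
  rw [slAct_infty, Matrix.SpecialLinearGroup.diag2n_coe]
  simp

theorem slAct_diag10_coe (c : F) (hc : c ≠ 0) (x : F) :
    slAct (Matrix.SpecialLinearGroup.diag2n (one_ne_zero : (1 : Fin 2) ≠ 0) c hc)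
      (x : OnePoint F) = ((c⁻¹ * c⁻¹ * x : F) : OnePoint F) := by
  rw [slAct_coe, Matrix.SpecialLinearGroup.diag2n_coe]
  simp [hc]
  field_simp

end matrices

section main

variable {Γ α : Type*} [Group Γ] [MulAction Γ α]

theorem SharpData.Kreg (D : SharpData Γ α) : ∀ k ∈ D.K, ∀ k' ∈ D.K, k • D.a0 = k' • D.a0 →
    k = k' := by
  intro k hk k' hk' h
  by_contra hne
  have h1 : k'⁻¹ * k ≠ 1 := by
    intro h1
    apply hne
    rw [inv_mul_eq_one] at h1
    exact h1.symm
  refine D.K2 (k'⁻¹ * k) (D.K.mul_mem (D.K.inv_mem hk') hk) h1 D.a0 D.h_inf0.symm ?_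
  rw [mul_smul, h, inv_smul_smul]

theorem card_of_sharp [Fintype α] (h3 : IsMultiplyPretransitive Γ α 3)
    (hfix : ∀ g : Γ, ∀ a b c : α, a ≠ b → b ≠ c → a ≠ c → g • a = a → g • b = b → g • c = c → g = 1)
    (D : SharpData Γ α) :
    Nat.card Γ = Fintype.card α * (Fintype.card α - 1) * (Fintype.card α - 2) := by
  classical
  obtain ⟨x₀, hx0, hx1, hx2⟩ := Cfsg.Agent.Lib.Helper4.Wagner.three_embedding D.ainf D.a0 D.a1
    D.h_inf0 D.h_inf1 D.h_01
  have hbij : Function.Bijective (fun g : Γ => g • x₀) := by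
    constructor
    · intro g g' h
      have h' : g • x₀ = g' • x₀ := h
      have e0 : g • D.ainf = g' • D.ainf := by
        have := congrArg (fun e : Fin 3 ↪ α => e 0) h'
        simpa [hx0] using this
      have e1 : g • D.a0 = g' • D.a0 := by
        have := congrArg (fun e : Fin 3 ↪ α => e 1) h'
        simpa [hx1] using this
      have e2 : g • D.a1 = g' • D.a1 := by
        have := congrArg (fun e : Fin 3 ↪ α => e 2) h'
        simpa [hx2] using this
      have : g'⁻¹ * g = 1 := by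
        apply hfix _ D.ainf D.a0 D.a1 D.h_inf0 D.h_01 D.h_inf1
        · rw [mul_smul, e0, inv_smul_smul]
        · rw [mul_smul, e1, inv_smul_smul]
        · rw [mul_smul, e2, inv_smul_smul]
      rw [inv_mul_eq_one] at this
      exact this.symm
    · intro y
      exact h3.exists_smul_eq x₀ y
  rw [Nat.card_eq_of_bijective _ hbij, Nat.card_eq_fintype_card, Fintype.card_embedding_eq,
    Fintype.card_fin]
  simp only [Nat.descFactorial_succ, Nat.descFactorial_zero, Nat.sub_zero]
  ring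

end main

section main2

variable {Γ α : Type*} [Group Γ] [MulAction Γ α]

set_option maxHeartbeats 1600000 in
theorem main_of_data [Fintype α] [FaithfulSMul Γ α]
    (h3 : IsMultiplyPretransitive Γ α 3)
    (hfix : ∀ g : Γ, ∀ a b c : α, a ≠ b → b ≠ c → a ≠ c → g • a = a → g • b = b → g • c = c → g = 1)
    (D : SharpData Γ α) :
    ∃ a : ℕ, 1 ≤ a ∧ Fintype.card α = 2 ^ a + 1 ∧ ∃ (F : Type) (_ : Field F) (_ : Fintype F),
      Fintype.card F = 2 ^ a ∧ Nonempty (Γ ≃* Matrix.SpecialLinearGroup (Fin 2) F) := by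
  classical
  have hGfin : Finite Γ :=
    Finite.of_injective (MulAction.toPerm (α := Γ) (β := α)) MulAction.toPerm_injective
  -- the two point stabilizer
  let H : Subgroup Γ := stabilizer Γ D.ainf ⊓ stabilizer Γ D.a0
  have hHmem : ∀ h : Γ, h ∈ H ↔ h • D.ainf = D.ainf ∧ h • D.a0 = D.a0 := by
    intro h
    rw [Subgroup.mem_inf, mem_stabilizer_iff, mem_stabilizer_iff]
  have hHK : ∀ h ∈ H, ∀ k ∈ D.K, h * k * h⁻¹ ∈ D.K :=
    fun h hh k hk => D.K4 h ((hHmem h).1 hh).1 k hk
  have hHcomm : ∀ h₁ ∈ H, ∀ h₂ ∈ H, h₁ * h₂ = h₂ * h₁ := by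
    intro h₁ hh₁ h₂ hh₂
    have e1 := D.t_inv h₁ ((hHmem h₁).1 hh₁).1 ((hHmem h₁).1 hh₁).2
    have e2 := D.t_inv h₂ ((hHmem h₂).1 hh₂).1 ((hHmem h₂).1 hh₂).2
    have h12 : h₁ * h₂ ∈ H := H.mul_mem hh₁ hh₂
    have e3 := D.t_inv (h₁ * h₂) ((hHmem _).1 h12).1 ((hHmem _).1 h12).2
    have e4 : D.t * (h₁ * h₂) * D.t = (D.t * h₁ * D.t) * (D.t * h₂ * D.t) := by
      calc D.t * (h₁ * h₂) * D.t = D.t * h₁ * 1 * h₂ * D.t := by group
        _ = D.t * h₁ * (D.t * D.t) * h₂ * D.t := by rw [D.t_sq]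
        _ = (D.t * h₁ * D.t) * (D.t * h₂ * D.t) := by group
    rw [e3, e1, e2, _root_.mul_inv_rev] at e4
    have := congrArg (fun x => x⁻¹) e4
    simpa using this
  -- the base point of `K`
  obtain ⟨v₀, hv₀K, hv₀⟩ := D.K3 D.a1 D.h_inf1.symm
  have hv₀1 : (⟨v₀, hv₀K⟩ : D.K) ≠ 1 := by
    intro h
    have h' : v₀ = 1 := congrArg Subtype.val h
    rw [h', one_smul] at hv₀
    exact D.h_01 hv₀
  let cj : H →* MulAut D.K := conjOn D.K H hHK
  have hcj : ∀ (h : H) (k : D.K), ((cj h k : D.K) : Γ) = h * k * (h : Γ)⁻¹ := fun _ _ => rfl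
  obtain ⟨a, F, instF, instFt, e, ha1, hcardF, hcardK, he0, he1, headd, heS⟩ :=
    Cfsg.Agent.H2.SingerFieldDef.exists_field (V := D.K)
      (fun x y => by
        apply Subtype.ext
        show (x : Γ) * y = y * x
        have h1 := D.Ksq (x * y) (D.K.mul_mem x.2 y.2)
        have h2 := D.Ksq x x.2
        have h3 := D.Ksq y y.2
        have i1 : ((x : Γ) * y)⁻¹ = x * y := inv_eq_of_mul_eq_one_right h1
        have i2 : (x : Γ)⁻¹ = x := inv_eq_of_mul_eq_one_right h2
        have i3 : (y : Γ)⁻¹ = y := inv_eq_of_mul_eq_one_right h3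
        calc (x : Γ) * y = ((x : Γ) * y)⁻¹ := i1.symm
          _ = (y : Γ)⁻¹ * (x : Γ)⁻¹ := _root_.mul_inv_rev _ _
          _ = y * x := by rw [i2, i3])
      (fun x => Subtype.ext (D.Ksq x x.2))
      (Set.range cj)
      (by
        rintro _ ⟨h₁, rfl⟩ _ ⟨h₂, rfl⟩
        rw [← map_mul, ← map_mul]
        congr 1
        exact Subtype.ext (hHcomm h₁ h₁.2 h₂ h₂.2))
      (by
        rintro _ ⟨h, rfl⟩
        exact ⟨h⁻¹, map_inv _ _⟩)
      ⟨v₀, hv₀K⟩ hv₀1
      (by
        intro x hx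
        have hx' : (x : Γ) ≠ 1 := fun h => hx (Subtype.ext h)
        have hv' : v₀ ≠ 1 := fun h => hv₀1 (Subtype.ext h)
        obtain ⟨h, hh1, hh2, hh3⟩ := D.Ktr v₀ hv₀K hv' x x.2 hx'
        refine ⟨cj ⟨h, (hHmem h).2 ⟨hh1, hh2⟩⟩, ⟨_, rfl⟩, ?_⟩
        apply Subtype.ext
        rw [hcj]
        exact hh3)
  have hchar : CharP F 2 := by
    apply CharTwo.of_one_ne_zero_of_two_eq_zero one_ne_zero
    have h1 : e ((1 : F) + 1) = e 0 := by
      rw [headd, he1, he0]
      exact Subtype.ext (D.Ksq v₀ hv₀K)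
    have := e.injective h1
    rw [← one_add_one_eq_two]
    exact this
  -- the points
  let pt : OnePoint F → α := fun y => y.elim D.ainf (fun x => ((e x : D.K) : Γ) • D.a0)
  have hpt_inf : pt ∞ = D.ainf := rfl
  have hpt_coe : ∀ x : F, pt (x : OnePoint F) = ((e x : D.K) : Γ) • D.a0 := fun _ => rfl
  have hpt_ne : ∀ x : F, pt (x : OnePoint F) ≠ D.ainf := by
    intro x h
    rw [hpt_coe, ← D.K1 _ (e x).2] at h
    exact D.h_inf0 (MulAction.injective _ h).symm
  have hpt_inj : Function.Injective pt := by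
    intro y y' h
    induction y using OnePoint.rec with
    | infty =>
      induction y' using OnePoint.rec with
      | infty => rfl
      | coe x' => exact absurd h.symm (hpt_ne x')
    | coe x =>
      induction y' using OnePoint.rec with
      | infty => exact absurd h (hpt_ne x)
      | coe x' =>
        rw [hpt_coe, hpt_coe] at h
        have := D.Kreg _ (e x).2 _ (e x').2 h
        rw [e.injective (Subtype.ext this)]
  have hpt_surj : Function.Surjective pt := by
    intro z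
    by_cases hz : z = D.ainf
    · exact ⟨∞, hz.symm⟩
    · obtain ⟨k, hk, hkz⟩ := D.K3 z hz
      refine ⟨((e.symm ⟨k, hk⟩ : F) : OnePoint F), ?_⟩
      rw [hpt_coe, Equiv.apply_symm_apply]
      exact hkz
  -- translations
  have hL1 : ∀ c x : F, ((e c : D.K) : Γ) • pt (x : OnePoint F) = pt ((c + x : F) : OnePoint F) := by
    intro c x
    rw [hpt_coe, hpt_coe, headd, ← mul_smul]
    rfl
  have hL1' : ∀ c : F, ((e c : D.K) : Γ) • pt ∞ = pt ∞ := by
    intro c
    rw [hpt_inf]
    exact D.K1 _ (e c).2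
  -- multiplications
  let μ : H → F := fun h => e.symm (cj h ⟨v₀, hv₀K⟩)
  have hL2 : ∀ (h : H) (x : F), (h : Γ) • pt (x : OnePoint F) = pt ((μ h * x : F) : OnePoint F) := by
    intro h x
    rw [hpt_coe, hpt_coe]
    have h1 := heS (cj h) ⟨h, rfl⟩ x
    rw [← h1, hcj, mul_smul, mul_smul, inv_smul_eq_iff.2 ((hHmem h).1 h.2).2.symm]
  have hL2' : ∀ h : H, (h : Γ) • pt ∞ = pt ∞ := by
    intro h
    rw [hpt_inf]
    exact ((hHmem h).1 h.2).1
  have hμsurj : ∀ c : F, c ≠ 0 → ∃ h : H, μ h = c := by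
    intro c hc
    have hec : e c ≠ 1 := by
      intro h
      rw [← he0] at h
      exact hc (e.injective h)
    have hec' : ((e c : D.K) : Γ) ≠ 1 := fun h => hec (Subtype.ext h)
    have hv' : v₀ ≠ 1 := fun h => hv₀1 (Subtype.ext h)
    obtain ⟨h, hh1, hh2, hh3⟩ := D.Ktr v₀ hv₀K hv' _ (e c).2 hec'
    refine ⟨⟨h, (hHmem h).2 ⟨hh1, hh2⟩⟩, ?_⟩
    show e.symm (cj ⟨h, _⟩ ⟨v₀, hv₀K⟩) = c
    rw [Equiv.symm_apply_eq]
    apply Subtype.ext
    rw [hcj]
    exact hh3
  have hμinv : ∀ h : H, μ h⁻¹ * μ h = 1 := by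
    intro h
    have h1 : ((h⁻¹ : H) : Γ) • ((h : Γ) • pt ((1 : F) : OnePoint F)) = pt ((1 : F) : OnePoint F) := by
      rw [Subgroup.coe_inv, inv_smul_smul]
    rw [hL2, hL2, mul_one] at h1
    exact OnePoint.coe_injective (hpt_inj h1)
  have hpt_one : pt ((1 : F) : OnePoint F) = D.a1 := by
    rw [hpt_coe, he1]
    exact hv₀
  -- the inversion
  have hL3a : D.t • pt ∞ = pt ((0 : F) : OnePoint F) := by
    rw [hpt_inf, hpt_coe, he0, D.t_inf]
    exact (one_smul _ _).symm
  have hL3b : D.t • pt ((0 : F) : OnePoint F) = pt ∞ := by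
    rw [hpt_inf, hpt_coe, he0]
    show D.t • ((1 : Γ) • D.a0) = D.ainf
    rw [one_smul, D.t_0]
  have hL3 : ∀ x : F, x ≠ 0 → D.t • pt (x : OnePoint F) = pt ((x⁻¹ : F) : OnePoint F) := by
    intro x hx
    obtain ⟨h, hh⟩ := hμsurj x hx
    have h1 : pt (x : OnePoint F) = (h : Γ) • D.a1 := by
      rw [← hpt_one, hL2, hh, mul_one]
    have h2 : (x⁻¹ : F) = μ h⁻¹ := by
      have := hμinv h
      rw [hh] at this
      exact (eq_inv_of_mul_eq_one_left this).symm
    have h3 : pt ((x⁻¹ : F) : OnePoint F) = ((h⁻¹ : H) : Γ) • D.a1 := by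
      rw [← hpt_one, hL2, h2, mul_one]
    rw [h1, h3, Subgroup.coe_inv, ← D.t_inv h ((hHmem h).1 h.2).1 ((hHmem h).1 h.2).2, mul_smul,
      mul_smul, D.t_1]
  -- every Möbius transformation is realized
  have hP : ∀ M : Matrix.SpecialLinearGroup (Fin 2) F,
      ∃ g : Γ, ∀ y : OnePoint F, g • pt y = pt (slAct M y) := by
    intro M
    refine Matrix.SpecialLinearGroup.diagonal_transvection_induction'
      (fun M => ∃ g : Γ, ∀ y : OnePoint F, g • pt y = pt (slAct M y)) M ?_ ?_ ?_
    · intro i j hij c hc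
      have hcases : (i = 0 ∧ j = 1) ∨ (i = 1 ∧ j = 0) := by
        fin_cases i <;> fin_cases j <;> simp at hij ⊢
      rcases hcases with ⟨rfl, rfl⟩ | ⟨rfl, rfl⟩
      · obtain ⟨h, hh⟩ := hμsurj (c * c) (mul_ne_zero hc hc)
        refine ⟨h, fun y => ?_⟩
        induction y using OnePoint.rec with
        | infty => rw [slAct_diag01_infty, hL2']
        | coe x => rw [slAct_diag01_coe, hL2, hh]
      · obtain ⟨h, hh⟩ := hμsurj (c⁻¹ * c⁻¹) (mul_ne_zero (inv_ne_zero hc) (inv_ne_zero hc))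
        refine ⟨h, fun y => ?_⟩
        induction y using OnePoint.rec with
        | infty => rw [slAct_diag10_infty, hL2']
        | coe x => rw [slAct_diag10_coe, hL2, hh]
    · intro i j hij b
      have hcases : (i = 0 ∧ j = 1) ∨ (i = 1 ∧ j = 0) := by
        fin_cases i <;> fin_cases j <;> simp at hij ⊢
      have h01 : ∃ g : Γ, ∀ y : OnePoint F, g • pt y = pt (slAct
          (Matrix.SpecialLinearGroup.transvection (zero_ne_one : (0 : Fin 2) ≠ 1) b) y) := by
        refine ⟨((e b : D.K) : Γ), fun y => ?_⟩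
        induction y using OnePoint.rec with
        | infty => rw [slAct_trans01_infty, hL1']
        | coe x => rw [slAct_trans01_coe, hL1]
      have hw : ∃ g : Γ, ∀ y : OnePoint F, g • pt y = pt (slAct
          (weyl : Matrix.SpecialLinearGroup (Fin 2) F) y) := by
        refine ⟨D.t, fun y => ?_⟩
        induction y using OnePoint.rec with
        | infty => rw [slAct_weyl_infty, hL3a]
        | coe x =>
          by_cases hx : x = 0
          · rw [hx, slAct_weyl_zero, hL3b]
          · rw [slAct_weyl_coe x hx, hL3 x hx]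
      rcases hcases with ⟨rfl, rfl⟩ | ⟨rfl, rfl⟩
      · exact h01
      · obtain ⟨g, hg⟩ := h01
        obtain ⟨w, hw⟩ := hw
        refine ⟨w * g * w, fun y => ?_⟩
        rw [weyl_conj, slAct_mul, slAct_mul, mul_smul, mul_smul, hw, hg, hw]
    · rintro A B ⟨g, hg⟩ ⟨g', hg'⟩
      exact ⟨g * g', fun y => by rw [mul_smul, hg', hg, slAct_mul]⟩
  choose f hf using hP
  have huniq : ∀ g g' : Γ, (∀ y : OnePoint F, g • pt y = g' • pt y) → g = g' := by
    intro g g' h
    apply FaithfulSMul.eq_of_smul_eq_smul (α := α)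
    intro z
    obtain ⟨y, rfl⟩ := hpt_surj z
    exact h y
  let φ : Matrix.SpecialLinearGroup (Fin 2) F →* Γ := MonoidHom.mk' f (by
    intro M N
    apply huniq
    intro y
    rw [hf, mul_smul, hf, hf, slAct_mul])
  have hφ : ∀ M, φ M = f M := fun _ => rfl
  have hφinj : Function.Injective φ := by
    rw [injective_iff_map_eq_one]
    intro M hM
    apply eq_one_of_slAct
    intro y
    apply hpt_inj
    rw [← hf, ← hφ, hM, one_smul]
  -- cardinalities
  have hcardα : Fintype.card α = 2 ^ a + 1 := by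
    have h1 : Fintype.card (OnePoint F) = Fintype.card α :=
      Fintype.card_of_bijective ⟨hpt_inj, hpt_surj⟩
    rw [← h1, ← hcardF]
    exact Fintype.card_option
  have hcardΓ := card_of_sharp h3 hfix D
  have hcardSL := Cfsg.Agent.S0804.card_SL2_gen (F := F)
  have hcards : Nat.card (Matrix.SpecialLinearGroup (Fin 2) F) = Nat.card Γ := by
    rw [hcardSL, hcardΓ, hcardF, hcardα]
    have hpos : 1 ≤ 2 ^ a := Nat.one_le_two_pow
    generalize 2 ^ a = q at hpos
    obtain ⟨r, rfl⟩ : ∃ r, q = r + 1 := ⟨q - 1, by omega⟩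
    have e1 : (r + 1) ^ 2 - 1 = r * (r + 2) := by
      have : (r + 1) ^ 2 = r * (r + 2) + 1 := by ring
      omega
    have e2 : r + 1 + 1 - 1 = r + 1 := by omega
    have e3 : r + 1 + 1 - 2 = r := by omega
    rw [e1, e2, e3]
    ring
  have hbij : Function.Bijective φ :=
    (Nat.bijective_iff_injective_and_card φ).2 ⟨hφinj, hcards⟩
  exact ⟨a, ha1, hcardα, F, instF, instFt, hcardF, ⟨(MulEquiv.ofBijective φ hbij).symm⟩⟩

/-- **Zassenhaus, even characteristic**: a sharply 3-transitive group of odd degree is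
`SL₂(2^a)` in its action on the projective line. -/
theorem sharp_three_odd [Fintype α] [FaithfulSMul Γ α] (hm : 3 ≤ Fintype.card α)
    (hodd : Odd (Fintype.card α)) (h3 : IsMultiplyPretransitive Γ α 3)
    (hfix : ∀ g : Γ, ∀ a b c : α, a ≠ b → b ≠ c → a ≠ c → g • a = a → g • b = b → g • c = c → g = 1) :
    ∃ a : ℕ, 1 ≤ a ∧ Fintype.card α = 2 ^ a + 1 ∧ ∃ (F : Type) (_ : Field F) (_ : Fintype F),
      Fintype.card F = 2 ^ a ∧ Nonempty (Γ ≃* Matrix.SpecialLinearGroup (Fin 2) F) := by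
  obtain ⟨D⟩ := exists_data hm hodd h3 hfix
  exact main_of_data h3 hfix D

end main2

end Cfsg.Agent.H2.SharpThree
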