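import Mathlib
import Cfsg.Agent.H2.BSWEvenC
import Cfsg.Agent.H2.SharpThreeB
import Cfsg.Agent.H2.SL2Char2

/-!
# Brauer–Suzuki–Wall in characteristic 2, part D (helper2)

A finite group with a non-cyclic, non-normal Sylow 2-subgroup in which every involution has
an elementary abelian 2-group as centralizer is `SL₂(2^a) = PSL₂(2^a)`.
-/

set_option autoImplicit false

namespace Cfsg.Agent.H2.BSWEven

open MulAction

variable {G : Type*} [Group G] [Finite G]

theorem card_ge_four (T : Sylow 2 G) (hnc : ¬ IsCyclic (T : Subgroup G)) :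
    4 ≤ Nat.card (T : Subgroup G) := by
  obtain ⟨n, hn⟩ := IsPGroup.iff_card.1 T.isPGroup'
  rcases n with _ | _ | n
  · exfalso
    apply hnc
    have : Subsingleton (T : Subgroup G) :=
      (Nat.card_eq_one_iff_unique.1 (by simpa using hn)).1
    exact isCyclic_of_subsingleton
  · exfalso
    apply hnc
    exact isCyclic_of_prime_card (p := 2) (by simpa using hn)
  · rw [hn]
    calc 4 = 2 ^ 2 := by norm_num
      _ ≤ 2 ^ (n + 1 + 1) := Nat.pow_le_pow_right (by norm_num) (by omega)

theorem sylow_eq_centralizer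
    (hC : ∀ t : G, orderOf t = 2 → IsMulCommutative (Subgroup.centralizer ({t} : Set G)) ∧
      ∀ c ∈ Subgroup.centralizer ({t} : Set G), c ^ 2 = 1)
    (P : Sylow 2 G) (hP : 1 < Nat.card (P : Subgroup G)) :
    ∃ z : G, orderOf z = 2 ∧ (P : Subgroup G) = Subgroup.centralizer {z} := by
  have hnt : Nontrivial (P : Subgroup G) := Finite.one_lt_card_iff_nontrivial.1 hP
  have hpg : IsPGroup 2 (P : Subgroup G) := P.isPGroup'
  have hcn : Nontrivial (Subgroup.center (P : Subgroup G)) := hpg.center_nontrivial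
  have hcpg : IsPGroup 2 (Subgroup.center (P : Subgroup G)) := hpg.to_subgroup _
  obtain ⟨k, hk⟩ := IsPGroup.iff_card.1 hcpg
  have hk0 : k ≠ 0 := by
    rintro rfl
    have := Finite.one_lt_card_iff_nontrivial.2 hcn
    rw [hk] at this
    simp at this
  have hdvd : 2 ∣ Nat.card (Subgroup.center (P : Subgroup G)) := hk ▸ dvd_pow_self 2 hk0
  obtain ⟨z', hz'⟩ := exists_prime_orderOf_dvd_card' 2 hdvd
  have hz : orderOf (((z' : (P : Subgroup G)) : G)) = 2 := by
    rw [Subgroup.orderOf_coe, Subgroup.orderOf_coe]; exact hz'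
  have hzc : ∀ x ∈ P, x * ((z' : (P : Subgroup G)) : G) = ((z' : (P : Subgroup G)) : G) * x := by
    intro x hx
    have := Subgroup.mem_center_iff.1 z'.2 ⟨x, hx⟩
    exact congrArg Subtype.val this
  obtain ⟨-, hsq⟩ := hC _ hz
  have hle : (P : Subgroup G) ≤ Subgroup.centralizer {((z' : (P : Subgroup G)) : G)} :=
    fun x hx => Subgroup.mem_centralizer_singleton_iff.2 (hzc x hx)
  have hpc : IsPGroup 2 (Subgroup.centralizer {((z' : (P : Subgroup G)) : G)}) := by
    rintro ⟨c, hc⟩
    exact ⟨1, Subtype.ext (by simpa using hsq c hc)⟩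
  exact ⟨_, hz, (P.is_maximal' hpc hle).symm⟩

theorem ctx_of_hyp (T : Sylow 2 G) (hnc : ¬ IsCyclic (T : Subgroup G))
    (hnn : ¬ (T : Subgroup G).Normal)
    (hC : ∀ t : G, orderOf t = 2 → IsMulCommutative (Subgroup.centralizer ({t} : Set G)) ∧
      ∀ c ∈ Subgroup.centralizer ({t} : Set G), c ^ 2 = 1) : Ctx G := by
  have hT4 := card_ge_four T hnc
  have hcard : ∀ P : Sylow 2 G, Nat.card (P : Subgroup G) = Nat.card (T : Subgroup G) := by
    intro P
    rw [Sylow.card_eq_multiplicity, Sylow.card_eq_multiplicity]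
  have hP4 : ∀ P : Sylow 2 G, 4 ≤ Nat.card (P : Subgroup G) := fun P => by rw [hcard]; exact hT4
  have hsq : ∀ (P : Sylow 2 G), ∀ x ∈ P, x * x = 1 := by
    intro P x hx
    obtain ⟨z, hz, hPz⟩ := sylow_eq_centralizer hC P (by have := hP4 P; omega)
    have := (hC z hz).2 x (hPz ▸ hx)
    rwa [pow_two] at this
  have hcomm : ∀ (P : Sylow 2 G), ∀ x ∈ P, ∀ y ∈ P, x * y = y * x := by
    intro P x hx y hy
    obtain ⟨z, hz, hPz⟩ := sylow_eq_centralizer hC P (by have := hP4 P; omega)
    have hcm := (hC z hz).1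
    have hx' : x ∈ Subgroup.centralizer {z} := hPz ▸ hx
    have hy' : y ∈ Subgroup.centralizer {z} := hPz ▸ hy
    have := mul_comm' (⟨x, hx'⟩ : Subgroup.centralizer {z}) ⟨y, hy'⟩
    exact congrArg Subtype.val this
  refine ⟨hsq, hcomm, ?_, ?_, ?_⟩
  · intro P t ht ht1 g hg
    have hto : orderOf t = 2 := orderOf_eq_prime (by rw [pow_two]; exact hsq P t ht) ht1
    obtain ⟨-, hsqt⟩ := hC t hto
    have hle : (P : Subgroup G) ≤ Subgroup.centralizer {t} :=
      fun x hx => Subgroup.mem_centralizer_singleton_iff.2 (hcomm P x hx t ht)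
    have hpc : IsPGroup 2 (Subgroup.centralizer {t}) := by
      rintro ⟨c, hc⟩
      exact ⟨1, Subtype.ext (by simpa using hsqt c hc)⟩
    have := P.is_maximal' hpc hle
    have hg' : g ∈ Subgroup.centralizer {t} := Subgroup.mem_centralizer_singleton_iff.2 hg
    rw [this] at hg'
    exact hg'
  · intro P
    have h3 : 2 < Nat.card (P : Subgroup G) := by have := hP4 P; omega
    have _ : Fintype (P : Subgroup G) := Fintype.ofFinite _
    rw [Nat.card_eq_fintype_card, Fintype.two_lt_card_iff] at h3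
    obtain ⟨a, b, c, hab, hac, hbc⟩ := h3
    have key : ∀ x y : (P : Subgroup G), x ≠ y → x ≠ 1 → y ≠ 1 →
        ∃ a ∈ P, ∃ b ∈ P, a ≠ 1 ∧ b ≠ 1 ∧ a ≠ b := by
      intro x y hxy hx hy
      refine ⟨x.1, x.2, y.1, y.2, fun e => hx (Subtype.ext e), fun e => hy (Subtype.ext e),
        fun e => hxy (Subtype.ext e)⟩
    by_cases ha : a = 1
    · exact key b c hbc (fun e => hab (ha.trans e.symm)) (fun e => hac (ha.trans e.symm))
    · by_cases hb : b = 1
      · exact key a c hac ha (fun e => hbc (hb.trans e.symm))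
      · exact key a b hab ha hb
  · by_contra hcon
    push Not at hcon
    apply hnn
    have : Subsingleton (Sylow 2 G) := ⟨hcon⟩
    exact Sylow.normal_of_subsingleton T

omit [Finite G] in
/-- triple transitivity from its elementwise form -/
theorem three_of_elementwise' {Γ X : Type*} [Group Γ] [MulAction Γ X]
    (h : ∀ a b c a' b' c' : X, a ≠ b → a ≠ c → b ≠ c → a' ≠ b' → a' ≠ c' → b' ≠ c' →
      ∃ g : Γ, g • a = a' ∧ g • b = b' ∧ g • c = c') :
    IsMultiplyPretransitive Γ X 3 := by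
  constructor
  intro x y
  have hx : ∀ i j : Fin 3, i ≠ j → x i ≠ x j := fun i j hij e => hij (x.injective e)
  have hy : ∀ i j : Fin 3, i ≠ j → y i ≠ y j := fun i j hij e => hij (y.injective e)
  obtain ⟨g, h0, h1, h2⟩ := h (x 0) (x 1) (x 2) (y 0) (y 1) (y 2)
    (hx _ _ (by decide)) (hx _ _ (by decide)) (hx _ _ (by decide))
    (hy _ _ (by decide)) (hy _ _ (by decide)) (hy _ _ (by decide))
  refine ⟨g, ?_⟩
  ext i
  fin_cases i
  · exact h0
  · exact h1
  · exact h2

/-- **Brauer–Suzuki–Wall, characteristic 2.** -/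
theorem main (T : Sylow 2 G) (hnc : ¬ IsCyclic (T : Subgroup G))
    (hnn : ¬ (T : Subgroup G).Normal)
    (hC : ∀ t : G, orderOf t = 2 → IsMulCommutative (Subgroup.centralizer ({t} : Set G)) ∧
      ∀ c ∈ Subgroup.centralizer ({t} : Set G), c ^ 2 = 1) :
    ∃ (F : Type) (_ : Field F) (_ : Fintype F), Fintype.card F = Nat.card T ∧
      Nonempty (G ≃* Matrix.ProjectiveSpecialLinearGroup (Fin 2) F) := by
  classical
  have h := ctx_of_hyp T hnc hnn hC
  have _ : Fintype (Sylow 2 G) := Fintype.ofFinite _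
  have _ : FaithfulSMul G (Sylow 2 G) := by
    constructor
    intro g g' hgg
    have h1 : g'⁻¹ * g = 1 := by
      apply h.faithful
      intro P
      rw [mul_smul, hgg P, inv_smul_smul]
    exact (inv_mul_eq_one.1 h1).symm
  have hT4 : 4 ≤ Nat.card T := card_ge_four T hnc
  have hcardΩ : Fintype.card (Sylow 2 G) = Nat.card T + 1 := by
    rw [← Nat.card_eq_fintype_card]; exact h.card_sylow T
  have hm : 3 ≤ Fintype.card (Sylow 2 G) := by omega
  have hodd : Odd (Fintype.card (Sylow 2 G)) := by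
    rw [hcardΩ]
    exact ((even_iff_two_dvd).2 (h.even_card T)).add_one
  have h3 : IsMultiplyPretransitive G (Sylow 2 G) 3 :=
    three_of_elementwise' (fun a b c a' b' c' hab hac hbc hab' hac' hbc' =>
      h.three_trans hab hac hbc hab' hac' hbc')
  have hfix : ∀ g : G, ∀ a b c : Sylow 2 G, a ≠ b → b ≠ c → a ≠ c → g • a = a → g • b = b →
      g • c = c → g = 1 := fun g a b c hab hbc hac ha hb hc => h.K_inter_K hab hac hbc ha hb hc
  obtain ⟨a, ha1, hcα, F, iF, iFt, hcF, ⟨e⟩⟩ := SharpThree.sharp_three_odd hm hodd h3 hfix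
  have h2 : (2 : F) = 0 := by
    have h0 : ((Fintype.card F : ℕ) : F) = 0 := Nat.cast_card_eq_zero F
    rw [hcF] at h0
    push_cast at h0
    exact (pow_eq_zero_iff (by omega)).1 h0
  refine ⟨F, iF, iFt, by omega, ⟨e.trans ?_⟩⟩
  exact ((QuotientGroup.quotientMulEquivOfEq (SL2Char2.center_eq_bot h2)).trans
    QuotientGroup.quotientBot).symm

end Cfsg.Agent.H2.BSWEven
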