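import Mathlib
import Cfsg.Agent.H2.ConjMap

set_option autoImplicit false

namespace Cfsg.Agent.H2

variable {G : Type*} [Group G]

theorem odd_of_dvd_odd {a b : ℕ} (h : a ∣ b) (hb : Odd b) : Odd a := by
  rcases Nat.even_or_odd a with ha | ha
  · exfalso
    have : Even b := ha.trans_dvd h
    exact (Nat.not_even_iff_odd.2 hb) this
  · exact ha

/-- if `u` inverts `r` then so does every odd power of `u`. -/
theorem odd_pow_inverts {u r : G} (h : u * r * u⁻¹ = r⁻¹) (k : ℕ) :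
    u ^ (2 * k + 1) * r * (u ^ (2 * k + 1))⁻¹ = r⁻¹ := by
  induction k with
  | zero => simpa using h
  | succ k ih =>
    have e : u ^ (2 * (k + 1) + 1) = u * u * u ^ (2 * k + 1) := by
      rw [show 2 * (k + 1) + 1 = 2 + (2 * k + 1) by ring, pow_add, pow_two]
    rw [e]
    have h' : u * r⁻¹ * u⁻¹ = r := by
      have := congrArg (·⁻¹) h
      simp only [mul_inv_rev, inv_inv] at this
      rw [← mul_assoc] at this
      exact this
    calc u * u * u ^ (2 * k + 1) * r * (u * u * u ^ (2 * k + 1))⁻¹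
        = u * (u * (u ^ (2 * k + 1) * r * (u ^ (2 * k + 1))⁻¹) * u⁻¹) * u⁻¹ := by group
      _ = u * (u * r⁻¹ * u⁻¹) * u⁻¹ := by rw [ih]
      _ = r⁻¹ := by rw [h', h]

theorem odd_pow_inverts' {u r : G} (h : u * r * u⁻¹ = r⁻¹) {m : ℕ} (hm : Odd m) :
    u ^ m * r * (u ^ m)⁻¹ = r⁻¹ := by
  obtain ⟨k, rfl⟩ := hm
  exact odd_pow_inverts h k

/-- A `p`-element normalizing a Sylow `p`-subgroup lies in it. -/
theorem mem_sylow_of_mem_normalizer_of_pow_eq_one {p : ℕ} [Fact p.Prime] (P : Sylow p G) {h : G}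
    (hN : h ∈ Subgroup.normalizer ((P : Subgroup G) : Set G)) {a : ℕ} (ha : h ^ p ^ a = 1) :
    h ∈ (P : Subgroup G) := by
  have hZ : IsPGroup p (Subgroup.zpowers h) := by
    rw [IsPGroup.iff_orderOf]
    rintro ⟨y, hy⟩
    obtain ⟨k, rfl⟩ := Subgroup.mem_zpowers_iff.1 hy
    have h1 : (h ^ k) ^ p ^ a = 1 := by
      rw [← zpow_natCast, ← zpow_mul, mul_comm, zpow_mul, zpow_natCast, ha, one_zpow]
    have h2 := orderOf_dvd_of_pow_eq_one h1
    obtain ⟨j, _, hj⟩ := (Nat.dvd_prime_pow (Fact.out)).1 h2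
    exact ⟨j, by rw [Subgroup.orderOf_mk]; exact hj⟩
  have hle : Subgroup.zpowers h ≤ Subgroup.normalizer ((P : Subgroup G) : Set G) := by
    rw [Subgroup.zpowers_le]; exact hN
  have hsup : IsPGroup p (Subgroup.zpowers h ⊔ (P : Subgroup G) : Subgroup G) :=
    IsPGroup.to_sup_of_normal_right' hZ P.2 hle
  have := P.is_maximal' hsup le_sup_right
  rw [← this]
  exact Subgroup.mem_sup_left (Subgroup.mem_zpowers h)

end Cfsg.Agent.H2
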