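import Mathlib
import Cfsg.Prelude.Def_Blocks
import Cfsg.Agent.Lib.helper3.BlockIdem2

/-!
# Blocks are determined by central characters on the support of the block idempotent (helper2)
-/

set_option autoImplicit false
set_option linter.style.haveILetI false
set_option linter.unusedSectionVars false

namespace Cfsg.Agent.H2.BlockSupport

open Cfsg Cfsg.Agent.Lib.helper3.Block Cfsg.Agent.Lib.helper3.CharBasic Cfsg.Agent.Lib.helper3.Irr
open Cfsg.Agent.Lib.helper3.Central Cfsg.Agent.Lib.helper3.LocalM Cfsg.Agent.Lib.helper3.IndFun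
open scoped ComplexConjugate

variable {G : Type*} [Group G] [Fintype G] {M : Ideal AlgInt}

/-- If the central characters of `χ` and `ψ` agree modulo the local ideal on the support of the
idempotent of the block of `χ`, then `ψ` lies in the block of `χ`. -/
theorem sameBlock_of_support {p : ℕ} (hM : IsPModular p M) (χ ψ : IrrCharacter G)
    (h : ∀ g : G, blockCoeff (blockOf M (χ : G → ℂ)) g ≠ 0 →
      MemLocalIdeal M (centralChar (χ : G → ℂ) g - centralChar (ψ : G → ℂ) g)) :
    SameBlock M (χ : G → ℂ) (ψ : G → ℂ) := by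
  classical
  haveI := isPrime_of_isPModular hM
  have hMtop : M ≠ ⊤ := hM.2.1.ne_top
  by_contra hψA
  obtain ⟨A, hAdef⟩ : ∃ A : Set (IrrCharacter G), A = blockOf M (χ : G → ℂ) := ⟨_, rfl⟩
  have hAB : IsPBlock M A := ⟨χ, hAdef⟩
  have hχ : χ ∈ A := by
    rw [hAdef]
    exact sameBlock_refl hMtop _
  have hψA' : ψ ∉ A := by
    rw [hAdef]
    exact hψA
  rw [← hAdef] at h
  obtain ⟨c, hc⟩ : ∃ c : IrrCharacter G → ℂ, c = fun χ => if χ ∈ A then (1 : ℂ) else 0 :=
    ⟨_, rfl⟩
  have hcoef : ∀ g, blockCoeff A g = coef c g := by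
    intro g
    rw [hc]
    exact blockCoeff_eq_coef A g
  have h1 := sum_coef_mul_div c χ
  have h2 := sum_coef_mul_div c ψ
  have hcχ : c χ = 1 := by rw [hc]; exact if_pos hχ
  have hcψ : c ψ = 0 := by rw [hc]; exact if_neg hψA'
  rw [hcχ] at h1
  rw [hcψ] at h2
  have h3 : ∑ g : G, coef c g * ((χ : G → ℂ) g / (χ : G → ℂ) 1 - (ψ : G → ℂ) g / (ψ : G → ℂ) 1)
      = 1 := by
    have : ∀ g : G, coef c g * ((χ : G → ℂ) g / (χ : G → ℂ) 1 - (ψ : G → ℂ) g / (ψ : G → ℂ) 1)
        = coef c g * ((χ : G → ℂ) g / (χ : G → ℂ) 1)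
          - coef c g * ((ψ : G → ℂ) g / (ψ : G → ℂ) 1) := fun g => by ring
    rw [Finset.sum_congr rfl (fun g _ => this g), Finset.sum_sub_distrib, h1, h2, sub_zero]
  apply not_memLocalIdeal_one (M := M)
  rw [← h3]
  apply memLocalIdeal_sum_class_fun
  · intro g h
    rw [coef_conj, isClassFunction_of_isCharacter (isCharacter_of_isIrrCharacter χ.2) g h,
      isClassFunction_of_isCharacter (isCharacter_of_isIrrCharacter ψ.2) g h]
  · intro g
    by_cases h0 : blockCoeff A g = 0
    · rw [← hcoef, h0, zero_mul, mul_zero]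
      exact memLocalIdeal_zero hMtop
    · have h4 := memLocalIdeal_mul_localRing (osima hM A hAB g) (h g h0)
      rw [hcoef] at h4
      convert h4 using 1
      unfold centralChar
      ring

end Cfsg.Agent.H2.BlockSupport
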