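import Mathlib

set_option autoImplicit false
set_option linter.unusedVariables false
set_option linter.unusedSectionVars false

namespace Cfsg.Agent.H2.Bochert

open Equiv Equiv.Perm

variable {Ω : Type*} [Fintype Ω] [DecidableEq Ω]

lemma inv_apply_eq_self {x : Perm Ω} {p : Ω} (h : x p = p) : x⁻¹ p = p := by
  rw [Perm.inv_eq_iff_eq]; exact h.symm

lemma inv_app (x : Perm Ω) (p : Ω) : x⁻¹ (x p) = p := by simp

/-- if the supports of `x` and `y` meet in exactly one point, the commutator is a 3-cycle -/
lemma commutator_isThreeCycle (x y : Perm Ω) (δ : Ω) (h : x.support ∩ y.support = {δ}) :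
    (x⁻¹ * y⁻¹ * x * y).IsThreeCycle := by
  have hδ : δ ∈ x.support ∩ y.support := by rw [h]; exact Finset.mem_singleton_self δ
  rw [Finset.mem_inter] at hδ
  have hboth : ∀ p, p ∈ x.support → p ∈ y.support → p = δ := by
    intro p hp1 hp2
    have : p ∈ x.support ∩ y.support := Finset.mem_inter.mpr ⟨hp1, hp2⟩
    rw [h] at this
    exact Finset.mem_singleton.mp this
  have hxfix : ∀ p, p ∈ y.support → p ≠ δ → x p = p := by
    intro p hp hne
    by_contra hx
    exact hne (hboth p (Perm.mem_support.mpr hx) hp)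
  have hyfix : ∀ p, p ∈ x.support → p ≠ δ → y p = p := by
    intro p hp hne
    by_contra hy
    exact hne (hboth p hp (Perm.mem_support.mpr hy))
  obtain ⟨a, ha⟩ : ∃ a, a = x⁻¹ δ := ⟨_, rfl⟩
  obtain ⟨b, hb⟩ : ∃ b, b = y⁻¹ δ := ⟨_, rfl⟩
  have hxa : x a = δ := by rw [ha]; simp
  have hyb : y b = δ := by rw [hb]; simp
  have haS : a ∈ x.support := by
    rw [ha, ← Perm.support_inv, Perm.apply_mem_support, Perm.support_inv]; exact hδ.1
  have hbS : b ∈ y.support := by
    rw [hb, ← Perm.support_inv, Perm.apply_mem_support, Perm.support_inv]; exact hδ.2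
  have haδ : a ≠ δ := by
    intro e
    rw [e] at hxa
    exact (Perm.mem_support.mp hδ.1) hxa
  have hbδ : b ≠ δ := by
    intro e
    rw [e] at hyb
    exact (Perm.mem_support.mp hδ.2) hyb
  have hab : a ≠ b := by
    intro e
    exact haδ (hboth a haS (e ▸ hbS))
  have hcapp : ∀ p, (x⁻¹ * y⁻¹ * x * y) p = x⁻¹ (y⁻¹ (x (y p))) := fun p => by
    simp [Perm.mul_apply]
  -- values
  have hcδ : (x⁻¹ * y⁻¹ * x * y) δ = a := by
    rw [hcapp]
    have h1 : y δ ∈ y.support := Perm.apply_mem_support.mpr hδ.2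
    have h2 : y δ ≠ δ := Perm.mem_support.mp hδ.2
    rw [hxfix _ h1 h2, inv_app, ← ha]
  have hca : (x⁻¹ * y⁻¹ * x * y) a = b := by
    rw [hcapp, hyfix a haS haδ, hxa, ← hb]
    exact inv_apply_eq_self (hxfix b hbS hbδ)
  have hcb : (x⁻¹ * y⁻¹ * x * y) b = δ := by
    rw [hcapp, hyb]
    have h1 : x δ ∈ x.support := Perm.apply_mem_support.mpr hδ.1
    have h2 : x δ ≠ δ := Perm.mem_support.mp hδ.1
    rw [inv_apply_eq_self (hyfix _ h1 h2), inv_app]
  have hcfix : ∀ p, p ≠ δ → p ≠ a → p ≠ b → (x⁻¹ * y⁻¹ * x * y) p = p := by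
    intro p hpδ hpa hpb
    rw [hcapp]
    by_cases hpy : p ∈ y.support
    · have h1 : y p ∈ y.support := Perm.apply_mem_support.mpr hpy
      have h2 : y p ≠ δ := by
        intro e
        apply hpb
        rw [hb, ← e, inv_app]
      rw [hxfix _ h1 h2, inv_app]
      exact inv_apply_eq_self (hxfix p hpy hpδ)
    · have hyp : y p = p := Perm.notMem_support.mp hpy
      rw [hyp]
      by_cases hpx : p ∈ x.support
      · have h1 : x p ∈ x.support := Perm.apply_mem_support.mpr hpx
        have h2 : x p ≠ δ := by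
          intro e
          apply hpa
          rw [ha, ← e, inv_app]
        rw [inv_apply_eq_self (hyfix _ h1 h2), inv_app]
      · have hxp : x p = p := Perm.notMem_support.mp hpx
        rw [hxp, inv_apply_eq_self hyp, inv_apply_eq_self hxp]
  rw [← card_support_eq_three_iff]
  have hsupp : (x⁻¹ * y⁻¹ * x * y).support = {δ, a, b} := by
    ext p
    simp only [Perm.mem_support, Finset.mem_insert, Finset.mem_singleton]
    constructor
    · intro hp
      by_contra hcon
      push Not at hcon
      exact hp (hcfix p hcon.1 hcon.2.1 hcon.2.2)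
    · rintro (rfl | rfl | rfl)
      · rw [hcδ]; exact haδ
      · rw [hca]; exact hab.symm
      · rw [hcb]; exact hbδ.symm
  rw [hsupp, Finset.card_insert_of_notMem, Finset.card_insert_of_notMem, Finset.card_singleton]
  · rw [Finset.mem_singleton]; exact hab
  · rw [Finset.mem_insert, Finset.mem_singleton, not_or]
    exact ⟨haδ.symm, hbδ.symm⟩


/-- no nonidentity element of `P` is supported inside `Γ` -/
def Free (P : Subgroup (Perm Ω)) (Γ : Finset Ω) : Prop := ∀ σ ∈ P, σ.support ⊆ Γ → σ = 1

theorem bochert_subgroup (P : Subgroup (Perm Ω)) (hprim : MulAction.IsPreprimitive P Ω)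
    (hA : ¬ alternatingGroup Ω ≤ P) :
    Nat.card P * Nat.factorial ((Fintype.card Ω + 1) / 2) ≤ Nat.factorial (Fintype.card Ω) := by
  classical
  have hex : ∃ Γ : Finset Ω, Free P Γ := ⟨∅, fun σ _ h => by
    rwa [Finset.subset_empty, Perm.support_eq_empty_iff] at h⟩
  obtain ⟨Γ, hΓ, hmax⟩ : ∃ Γ, Free P Γ ∧ ∀ Γ', Free P Γ' → Γ'.card ≤ Γ.card := by
    obtain ⟨Γ, hΓ, hmax⟩ := Finset.exists_max_image
      (Finset.univ.filter (fun Γ : Finset Ω => Free P Γ)) Finset.card (by
        obtain ⟨Γ, h⟩ := hex
        exact ⟨Γ, by simp [h]⟩)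
    exact ⟨Γ, (Finset.mem_filter.mp hΓ).2, fun Γ' h' => hmax Γ' (by simp [h'])⟩
  have hhalf : Fintype.card Ω ≤ 2 * Γ.card := by
    by_contra hlt
    push Not at hlt
    have hΔ : Free P Γᶜ := by
      intro y hy hys
      by_contra hy1
      obtain ⟨δ, hδ⟩ : ∃ δ, δ ∈ y.support := by
        by_contra hcon
        push Not at hcon
        apply hy1
        rw [← Perm.support_eq_empty_iff]
        exact Finset.eq_empty_of_forall_notMem hcon
      have hδΓ : δ ∉ Γ := Finset.mem_compl.mp (hys hδ)
      have hnot : ¬ Free P (insert δ Γ) := by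
        intro hf
        have h1 := hmax _ hf
        rw [Finset.card_insert_of_notMem hδΓ] at h1
        omega
      unfold Free at hnot
      push Not at hnot
      obtain ⟨x, hx, hxs, hx1⟩ := hnot
      have hδx : δ ∈ x.support := by
        by_contra hcon
        apply hx1
        apply hΓ x hx
        intro p hp
        rcases Finset.mem_insert.mp (hxs hp) with e | e
        · exact absurd (e ▸ hp) hcon
        · exact e
      have hint : x.support ∩ y.support = {δ} := by
        ext p
        simp only [Finset.mem_inter, Finset.mem_singleton]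
        constructor
        · rintro ⟨hp1, hp2⟩
          rcases Finset.mem_insert.mp (hxs hp1) with e | e
          · exact e
          · exact absurd e (Finset.mem_compl.mp (hys hp2))
        · rintro rfl
          exact ⟨hδx, hδ⟩
      have h3 := commutator_isThreeCycle x y δ hint
      have hmem : x⁻¹ * y⁻¹ * x * y ∈ P :=
        P.mul_mem (P.mul_mem (P.mul_mem (P.inv_mem hx) (P.inv_mem hy)) hx) hy
      exact hA (alternatingGroup_le_of_isPreprimitive_of_isThreeCycle_mem hprim h3 hmem)
    have h1 := hmax _ hΔ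
    rw [Finset.card_compl] at h1
    omega
  have hsupp : ∀ s : Perm {x // x ∈ Γ}, (Perm.ofSubtype s).support ⊆ Γ := by
    intro s p hp
    by_contra hpΓ
    rw [Perm.mem_support] at hp
    exact hp (Perm.ofSubtype_apply_of_not_mem s hpΓ)
  have hinj : Function.Injective
      (fun q : P × Perm {x // x ∈ Γ} => (q.1 : Perm Ω) * Perm.ofSubtype q.2) := by
    rintro ⟨g, s⟩ ⟨g', s'⟩ h
    simp only at h
    have h1 : ((g' : Perm Ω))⁻¹ * g = Perm.ofSubtype s' * (Perm.ofSubtype s)⁻¹ := by
      rw [eq_mul_inv_iff_mul_eq, mul_assoc, h, inv_mul_cancel_left]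
    have h2 : Perm.ofSubtype (s' * s⁻¹) ∈ P := by
      rw [map_mul, map_inv, ← h1]
      exact P.mul_mem (P.inv_mem g'.2) g.2
    have h3 : Perm.ofSubtype (s' * s⁻¹) = 1 := hΓ _ h2 (hsupp _)
    have h4 : s' * s⁻¹ = 1 := Perm.ofSubtype_injective (by rw [h3, map_one])
    have h5 : s' = s := by rwa [mul_inv_eq_one] at h4
    subst h5
    have h6 : (g : Perm Ω) = g' := mul_right_cancel h
    exact Prod.ext (Subtype.ext h6) rfl
  have hcard := Nat.card_le_card_of_injective _ hinj
  rw [Nat.card_prod, Nat.card_perm, Nat.card_perm,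
    Nat.card_eq_fintype_card (α := {x // x ∈ Γ}), Nat.card_eq_fintype_card (α := Ω),
    Fintype.card_coe] at hcard
  calc Nat.card P * Nat.factorial ((Fintype.card Ω + 1) / 2)
      ≤ Nat.card P * Nat.factorial Γ.card :=
        Nat.mul_le_mul_left _ (Nat.factorial_le (by omega))
    _ ≤ Nat.factorial (Fintype.card Ω) := hcard

theorem main {G : Type*} [Group G] [Finite G] [MulAction G Ω] [FaithfulSMul G Ω]
    (hprim : MulAction.IsPreprimitive G Ω)
    (hA : ¬ alternatingGroup Ω ≤ (MulAction.toPermHom G Ω).range) :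
    Nat.card G * Nat.factorial ((Fintype.card Ω + 1) / 2) ≤ Nat.factorial (Fintype.card Ω) := by
  have hinj : Function.Injective (MulAction.toPermHom G Ω) := MulAction.toPerm_injective
  have hcard : Nat.card G = Nat.card (MulAction.toPermHom G Ω).range :=
    Nat.card_congr (MonoidHom.ofInjective hinj).toEquiv
  rw [hcard]
  apply bochert_subgroup _ _ hA
  let f : Ω →ₑ[(MulAction.toPermHom G Ω).rangeRestrict] Ω :=
    { toFun := id
      map_smul' := fun g x => rfl }
  exact MulAction.IsPreprimitive.of_surjective (f := f) Function.surjective_id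

end Cfsg.Agent.H2.Bochert
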