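import Mathlib

namespace Cfsg.Agent.H2.ConjUnionCount

variable {G : Type*} [Group G] [Finite G]

/-- the union of the conjugates of `H` has at most `[G:K](|H|-1)+1` elements when `K` normalizes `H` -/
theorem ncard_conj_union_le (H K : Subgroup G) (hK : ∀ k ∈ K, ∀ z ∈ H, k⁻¹ * z * k ∈ H) :
    {x : G | ∃ g : G, ∃ z ∈ H, x = g * z * g⁻¹}.ncard ≤ K.index * (Nat.card H - 1) + 1 := by
  let f : Option ((G ⧸ K) × {z : H // z ≠ 1}) → G := fun o =>
    match o with
    | none => 1
    | some (c, z) => c.out * (z : H) * c.out⁻¹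
  have hsub : {x : G | ∃ g : G, ∃ z ∈ H, x = g * z * g⁻¹} ⊆ Set.range f := by
    rintro x ⟨g, z, hz, rfl⟩
    by_cases hz1 : z = 1
    · exact ⟨none, by simp [f, hz1]⟩
    · have hk : g⁻¹ * (g : G ⧸ K).out ∈ K := by
        rw [← QuotientGroup.eq, QuotientGroup.out_eq']
      set k := g⁻¹ * (g : G ⧸ K).out with hkdef
      have hout : (g : G ⧸ K).out = g * k := by rw [hkdef]; group
      have hz' : k⁻¹ * z * k ∈ H := hK k hk z hz
      have hz'1 : (⟨k⁻¹ * z * k, hz'⟩ : H) ≠ 1 := by
        intro h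
        have h2 : k⁻¹ * z * k = 1 := congrArg Subtype.val h
        apply hz1
        have : z = k * (k⁻¹ * z * k) * k⁻¹ := by group
        rw [this, h2]
        group
      refine ⟨some ((g : G ⧸ K), ⟨⟨k⁻¹ * z * k, hz'⟩, hz'1⟩), ?_⟩
      show (g : G ⧸ K).out * (k⁻¹ * z * k) * (g : G ⧸ K).out⁻¹ = g * z * g⁻¹
      rw [hout]
      group
  have h1 : {x : G | ∃ g : G, ∃ z ∈ H, x = g * z * g⁻¹}.ncard ≤ (Set.range f).ncard :=
    Set.ncard_le_ncard hsub (Set.toFinite _)
  have h2 : (Set.range f).ncard ≤ Nat.card (Option ((G ⧸ K) × {z : H // z ≠ 1})) := by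
    rw [← Nat.card_coe_set_eq]
    exact Finite.card_range_le f
  have h3 : Nat.card H = Nat.card {z : H // z ≠ 1} + 1 := by
    classical
    rw [← Finite.card_option]
    exact Nat.card_congr (Equiv.optionSubtypeNe (1 : H)).symm
  rw [Finite.card_option, Nat.card_prod] at h2
  have h4 : Nat.card {z : H // z ≠ 1} = Nat.card H - 1 := by omega
  rw [h4] at h2
  exact h1.trans h2

theorem mem_conj_centralizer_of_not_dvd {p : ℕ} [Fact p.Prime] (P : Sylow p G) (x : G)
    (h : ¬ p ∣ (Subgroup.centralizer ({x} : Set G)).index) :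
    ∃ g : G, ∃ z ∈ Subgroup.centralizer ((P : Subgroup G) : Set G), x = g * z * g⁻¹ := by
  have hfix := IsPGroup.nonempty_fixed_point_of_prime_not_dvd_card P.isPGroup'
    (G ⧸ Subgroup.centralizer ({x} : Set G)) h
  obtain ⟨c, hc⟩ := hfix
  obtain ⟨g, rfl⟩ := QuotientGroup.mk_surjective c
  have key : ∀ y ∈ (P : Subgroup G), x * (g⁻¹ * y * g) = (g⁻¹ * y * g) * x := by
    intro y hy
    have h1 := hc ⟨y⁻¹, inv_mem hy⟩
    have h2 : ((y⁻¹ * g : G) : G ⧸ Subgroup.centralizer ({x} : Set G)) = (g : G ⧸ _) := h1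
    rw [QuotientGroup.eq, Subgroup.mem_centralizer_iff] at h2
    have h3 := h2 x (Set.mem_singleton x)
    have h4 : (y⁻¹ * g)⁻¹ * g = g⁻¹ * y * g := by group
    rw [h4] at h3
    exact h3
  refine ⟨g⁻¹, g * x * g⁻¹, ?_, by group⟩
  rw [Subgroup.mem_centralizer_iff]
  intro y hy
  have h1 := key y hy
  calc y * (g * x * g⁻¹) = g * ((g⁻¹ * y * g) * x) * g⁻¹ := by group
    _ = g * (x * (g⁻¹ * y * g)) * g⁻¹ := by rw [h1]
    _ = g * x * g⁻¹ * y := by group

/-- size bound: if `N(P) ≠ C(P)` then twice the nonidentity part of the union of conjugates of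
`C(P)` plus two is at most `|G|` -/
theorem two_mul_le_card {p : ℕ} [Fact p.Prime] (P : Sylow p G)
    (hP : ¬ (Subgroup.normalizer ((P : Subgroup G) : Set G)) ≤ Subgroup.centralizer ((P : Subgroup G) : Set G)) :
    2 * ((Subgroup.normalizer ((P : Subgroup G) : Set G)).index *
      (Nat.card (Subgroup.centralizer ((P : Subgroup G) : Set G)) - 1)) + 2 ≤ Nat.card G := by
  set C := Subgroup.centralizer ((P : Subgroup G) : Set G) with hC
  set N := (Subgroup.normalizer ((P : Subgroup G) : Set G)) with hN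
  have hCN : C ≤ N := by
    intro z hz
    rw [hN, Subgroup.mem_normalizer_iff]
    intro y
    rw [hC, Subgroup.mem_centralizer_iff] at hz
    constructor
    · intro hy
      have := hz y hy
      have h1 : z * y * z⁻¹ = y := by rw [← this]; group
      rwa [h1]
    · intro hy
      have := hz _ hy
      have h1 : y = z⁻¹ * ((z * y * z⁻¹) * z) := by group
      have h2 : z⁻¹ * ((z * y * z⁻¹) * z) = z * y * z⁻¹ := by
        rw [this]; group
      rw [h1, h2]
      exact hy
  have ha : 2 ≤ C.relIndex N := by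
    have h0 : C.relIndex N ≠ 0 := by
      intro h0
      have h1 := Subgroup.relIndex_mul_index hCN
      rw [h0, zero_mul] at h1
      exact Subgroup.index_ne_zero_of_finite h1.symm
    have h1 : C.relIndex N ≠ 1 := fun h => hP (Subgroup.relIndex_eq_one.mp h)
    omega
  have h1 := Subgroup.relIndex_mul_index hCN
  have h2 := C.card_mul_index
  have hc1 : 1 ≤ Nat.card C := Nat.card_pos
  have hi1 : 1 ≤ N.index := Nat.pos_of_ne_zero Subgroup.index_ne_zero_of_finite
  rw [← h2, ← h1]
  obtain ⟨c, hc⟩ : ∃ c, Nat.card C = c + 1 := ⟨Nat.card C - 1, by omega⟩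
  rw [hc, Nat.add_sub_cancel]
  have h3 : 2 * ((c + 1) * N.index) ≤ (c + 1) * (C.relIndex N * N.index) := by
    have : 2 * N.index ≤ C.relIndex N * N.index := Nat.mul_le_mul_right _ ha
    calc 2 * ((c + 1) * N.index) = (c + 1) * (2 * N.index) := by ring
      _ ≤ (c + 1) * (C.relIndex N * N.index) := Nat.mul_le_mul_left _ this
  have h4 : 2 * (N.index * c) + 2 ≤ 2 * ((c + 1) * N.index) := by
    have : (c + 1) * N.index = N.index * c + N.index := by ring
    rw [this]
    omega
  exact h4.trans h3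

theorem normal_complement_of_no_pq_class (p q : ℕ) [Fact p.Prime] [Fact q.Prime] (hpq : p ≠ q)
    (h : ∀ x : G, ¬ p * q ∣ (Subgroup.centralizer ({x} : Set G)).index)
    (P : Sylow p G) (Q : Sylow q G) :
    (Subgroup.normalizer ((P : Subgroup G) : Set G)) ≤ Subgroup.centralizer ((P : Subgroup G) : Set G) ∨
      (Subgroup.normalizer ((Q : Subgroup G) : Set G)) ≤ Subgroup.centralizer ((Q : Subgroup G) : Set G) := by
  by_contra hcon
  rw [not_or] at hcon
  obtain ⟨hP, hQ⟩ := hcon
  have hcop : Nat.Coprime p q := (Nat.coprime_primes Fact.out Fact.out).mpr hpq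
  set A : Set G := {x : G | ∃ g : G, ∃ z ∈ Subgroup.centralizer ((P : Subgroup G) : Set G),
    x = g * z * g⁻¹} with hA
  set B : Set G := {x : G | ∃ g : G, ∃ z ∈ Subgroup.centralizer ((Q : Subgroup G) : Set G),
    x = g * z * g⁻¹} with hB
  have hnorm : ∀ {r : ℕ} [Fact r.Prime] (R : Sylow r G), ∀ k ∈ (Subgroup.normalizer ((R : Subgroup G) : Set G)),
      ∀ z ∈ Subgroup.centralizer ((R : Subgroup G) : Set G),
        k⁻¹ * z * k ∈ Subgroup.centralizer ((R : Subgroup G) : Set G) := by
    intro r _ R k hk z hz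
    rw [Subgroup.mem_centralizer_iff] at hz ⊢
    intro y hy
    have hy' : k * y * k⁻¹ ∈ (R : Subgroup G) := (Subgroup.mem_normalizer_iff.mp hk y).mp hy
    have h1 := hz _ hy'
    calc y * (k⁻¹ * z * k) = k⁻¹ * ((k * y * k⁻¹) * z) * k := by group
      _ = k⁻¹ * (z * (k * y * k⁻¹)) * k := by rw [h1]
      _ = k⁻¹ * z * k * y := by group
  have hAcard : A.ncard ≤ (Subgroup.normalizer ((P : Subgroup G) : Set G)).index *
      (Nat.card (Subgroup.centralizer ((P : Subgroup G) : Set G)) - 1) + 1 :=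
    ncard_conj_union_le (Subgroup.centralizer ((P : Subgroup G) : Set G))
      (Subgroup.normalizer ((P : Subgroup G) : Set G)) (hnorm P)
  have hBcard : B.ncard ≤ (Subgroup.normalizer ((Q : Subgroup G) : Set G)).index *
      (Nat.card (Subgroup.centralizer ((Q : Subgroup G) : Set G)) - 1) + 1 :=
    ncard_conj_union_le (Subgroup.centralizer ((Q : Subgroup G) : Set G))
      (Subgroup.normalizer ((Q : Subgroup G) : Set G)) (hnorm Q)
  have hcover : (Set.univ : Set G) ⊆ A ∪ B := by
    intro x _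
    have hx := h x
    by_cases h1 : p ∣ (Subgroup.centralizer ({x} : Set G)).index
    · right
      have h2 : ¬ q ∣ (Subgroup.centralizer ({x} : Set G)).index :=
        fun h2 => hx (hcop.mul_dvd_of_dvd_of_dvd h1 h2)
      exact mem_conj_centralizer_of_not_dvd Q x h2
    · left
      exact mem_conj_centralizer_of_not_dvd P x h1
  have h1 : Nat.card G ≤ (A ∪ B).ncard := by
    rw [← Set.ncard_univ]
    exact Set.ncard_le_ncard hcover (Set.toFinite _)
  have h2 := Set.ncard_union_add_ncard_inter A B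
  have h3 : 1 ≤ (A ∩ B).ncard := by
    rw [Nat.one_le_iff_ne_zero, ← Nat.pos_iff_ne_zero, Set.ncard_pos (Set.toFinite _)]
    exact ⟨1, ⟨1, 1, one_mem _, by group⟩, ⟨1, 1, one_mem _, by group⟩⟩
  have h4 := two_mul_le_card P hP
  have h5 := two_mul_le_card Q hQ
  omega

end Cfsg.Agent.H2.ConjUnionCount

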