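import Mathlib
import Cfsg.Agent.H2.ClassProdA
import Cfsg.Agent.H2.ConjUnionCount
import Cfsg.Agent.H2.ConjMap

/-!
# Group-theoretic generalities for the diameter bound of the class-size prime graph (helper2)
-/

set_option autoImplicit false
set_option linter.unusedSectionVars false
set_option linter.style.haveILetI false
set_option linter.deprecated false

namespace Cfsg.Agent.H2.ClassFar

open Cfsg.Agent.H2.ClassProd

variable {G : Type*} [Group G] [Finite G]

/-- a subgroup not contained in another has an element of prime power order outside it -/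
theorem exists_primary_not_mem (N H : Subgroup G) (h : ¬ N ≤ H) :
    ∃ r : ℕ, r.Prime ∧ r ∣ Nat.card N ∧ ∃ n ∈ N, n ∉ H ∧ ∃ k : ℕ, orderOf n = r ^ k := by
  have h1 : H.relIndex N ≠ 1 := fun e => h (Subgroup.relIndex_eq_one.1 e)
  obtain ⟨r, hr, hrd⟩ := Nat.exists_prime_and_dvd h1
  haveI : Fact r.Prime := ⟨hr⟩
  have hrN : r ∣ Nat.card N := by
    apply hrd.trans
    rw [Subgroup.relIndex]
    exact Subgroup.index_dvd_card _
  refine ⟨r, hr, hrN, ?_⟩
  let R : Sylow r N := Classical.arbitrary _
  by_contra hcon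
  push Not at hcon
  have h2 : (R : Subgroup N) ≤ H.subgroupOf N := by
    intro n hn
    rw [Subgroup.mem_subgroupOf]
    by_contra hnH
    obtain ⟨k, hk⟩ := (IsPGroup.iff_orderOf.1 R.2) ⟨n, hn⟩
    rw [Subgroup.orderOf_mk] at hk
    have := hcon (n : G) n.2 hnH k
    rw [Subgroup.orderOf_coe] at this
    exact this hk
  have h3 := Subgroup.index_dvd_of_le h2
  rw [Subgroup.relIndex] at hrd
  exact R.not_dvd_index (hrd.trans h3)

/-- Burnside's normal `p`-complement, packaged -/
theorem exists_normal_complement {p : ℕ} [Fact p.Prime] (P : Sylow p G)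
    (hP : Subgroup.normalizer ((P : Subgroup G) : Set G) ≤
      Subgroup.centralizer ((P : Subgroup G) : Set G)) :
    ∃ L : Subgroup G, L.Normal ∧ (Nat.card L).Coprime p ∧
      (∀ x : G, (orderOf x).Coprime p → x ∈ L) ∧
      ∀ P' : Sylow p G, ∀ g : G, ∃ l ∈ L, ∃ s ∈ P', g = l * s := by
  set L := (MonoidHom.transferSylow P hP).ker with hL
  have hc : L.IsComplement' (P : Subgroup G) := MonoidHom.ker_transferSylow_isComplement' P hP
  have hLn : L.Normal := by rw [hL]; infer_instance
  have hcard : Nat.card L * Nat.card (P : Subgroup G) = Nat.card G := hc.card_mul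
  have hidx : L.index = Nat.card (P : Subgroup G) := by
    have h1 := L.card_mul_index
    rw [← hcard] at h1
    exact Nat.eq_of_mul_eq_mul_left Nat.card_pos h1
  have hLP : Nat.card L = (P : Subgroup G).index := by
    have h1 := (P : Subgroup G).card_mul_index
    rw [← hcard, mul_comm] at h1
    exact (Nat.eq_of_mul_eq_mul_right Nat.card_pos h1).symm
  have hcop : (Nat.card L).Coprime p := by
    rw [hLP]
    exact ((Nat.Prime.coprime_iff_not_dvd Fact.out).2 P.not_dvd_index).symm
  refine ⟨L, hLn, hcop, ?_, ?_⟩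
  · intro x hx
    have h1 : x ^ L.index ∈ L := Subgroup.pow_index_mem L x
    rw [hidx, P.card_eq_multiplicity] at h1
    have h2 : (p ^ (Nat.card G).factorization p).Coprime (orderOf x) :=
      (Nat.Coprime.pow_right _ hx).symm
    obtain ⟨m, hm⟩ := exists_pow_eq_self_of_coprime h2
    rw [← hm]
    exact Subgroup.pow_mem _ h1 m
  · intro P' g
    have hc' : L.IsComplement' (P' : Subgroup G) := by
      apply Subgroup.isComplement'_of_coprime
      · rw [P'.card_eq_multiplicity, ← P.card_eq_multiplicity]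
        exact hcard
      · rw [P'.card_eq_multiplicity]
        exact Nat.Coprime.pow_right _ hcop
    rw [Subgroup.isComplement'_def, Subgroup.isComplement_iff_existsUnique] at hc'
    obtain ⟨⟨l, s⟩, hls, -⟩ := hc' g
    exact ⟨l, l.2, s, s.2, hls.symm⟩

/-- commuting elements of coprime orders: the first is a power of the product -/
theorem exists_pow_mul_eq_left (x y : G) (hxy : x * y = y * x)
    (h : (orderOf x).Coprime (orderOf y)) : ∃ k : ℕ, (x * y) ^ k = x := by
  obtain ⟨m, hm⟩ := exists_pow_eq_self_of_coprime h.symm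
  refine ⟨orderOf y * m, ?_⟩
  have hc : Commute x y := hxy
  rw [pow_mul, hc.mul_pow, pow_orderOf_eq_one, mul_one]
  exact hm

/-- a Sylow subgroup in the centralizer of an element of class size prime to `p` -/
theorem exists_sylow_le_centralizer {p : ℕ} [Fact p.Prime] (x : G) (h : ¬ p ∣ cs x) :
    ∃ P : Sylow p G, (P : Subgroup G) ≤ Subgroup.centralizer ({x} : Set G) := by
  obtain ⟨s, z, hz, hxz⟩ := Cfsg.Agent.H2.ConjUnionCount.mem_conj_centralizer_of_not_dvd
    (Classical.arbitrary (Sylow p G)) x h
  refine ⟨s • Classical.arbitrary (Sylow p G), ?_⟩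
  intro a ha
  have ha' : s⁻¹ * a * s ∈ ((Classical.arbitrary (Sylow p G) : Sylow p G) : Subgroup G) :=
    (Cfsg.Agent.H2.mem_sylow_smul_iff _ s a).1 ha
  rw [Subgroup.mem_centralizer_iff] at hz
  have h1 := hz _ ha'
  rw [mem_centralizer_singleton, hxz]
  calc a * (s * z * s⁻¹) = s * ((s⁻¹ * a * s) * z) * s⁻¹ := by group
    _ = s * (z * (s⁻¹ * a * s)) * s⁻¹ := by rw [h1]
    _ = s * z * s⁻¹ * a := by group

theorem not_dvd_cs_of_sylow_le {p : ℕ} [Fact p.Prime] (x : G) (P : Sylow p G)
    (h : (P : Subgroup G) ≤ Subgroup.centralizer ({x} : Set G)) : ¬ p ∣ cs x := by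
  intro hd
  exact P.not_dvd_index (hd.trans (Subgroup.index_dvd_of_le h))

/-- `N ≤ C(g)` passes to powers -/
theorem le_centralizer_pow (N : Subgroup G) (g : G) (k : ℕ)
    (h : N ≤ Subgroup.centralizer ({g} : Set G)) :
    N ≤ Subgroup.centralizer ({g ^ k} : Set G) := by
  intro n hn
  have h1 := (mem_centralizer_singleton g n).1 (h hn)
  rw [mem_centralizer_singleton]
  have hc : Commute n g := h1
  exact (hc.pow_right k).eq

end Cfsg.Agent.H2.ClassFar
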