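import Mathlib
import Cfsg.Agent.H2.ClassProdA

/-!
# Groups whose non-central classes split into two families of coprime sizes, I (helper2)
-/

set_option autoImplicit false
set_option linter.unusedSectionVars false
set_option linter.style.haveILetI false
set_option linter.deprecated false

namespace Cfsg.Agent.H2.ClassProd

variable {G : Type*} [Group G] [Finite G]

/-- the non-central elements split into `X` and `Y` with coprime class sizes across -/
structure Split (X Y : Set G) : Prop where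
  disj : ∀ g, g ∈ X → g ∉ Y
  cover : ∀ g, g ∉ Subgroup.center G → g ∈ X ∨ g ∈ Y
  xnc : ∀ g ∈ X, g ∉ Subgroup.center G
  ync : ∀ g ∈ Y, g ∉ Subgroup.center G
  cop : ∀ x ∈ X, ∀ y ∈ Y, (cs x).Coprime (cs y)

variable {X Y : Set G}

theorem Split.symm (h : Split X Y) : Split Y X where
  disj := fun g hg hg' => h.disj g hg' hg
  cover := fun g hg => (h.cover g hg).symm
  xnc := h.ync
  ync := h.xnc
  cop := fun y hy x hx => (h.cop x hx y hy).symm

theorem Split.memX_of_cs_eq (h : Split X Y) {x x' : G} (hx : x ∈ X) (hcs : cs x' = cs x) :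
    x' ∈ X := by
  have h1 : x' ∉ Subgroup.center G := by
    intro hc
    apply h.xnc x hx
    rw [← cs_eq_one_iff, ← hcs, cs_eq_one_iff]
    exact hc
  rcases h.cover x' h1 with h2 | h2
  · exact h2
  · exfalso
    have := h.cop x hx x' h2
    rw [hcs, Nat.coprime_self] at this
    apply h1
    rw [← cs_eq_one_iff, hcs]
    exact this

theorem Split.memY_of_cs_eq (h : Split X Y) {y y' : G} (hy : y ∈ Y) (hcs : cs y' = cs y) :
    y' ∈ Y := h.symm.memX_of_cs_eq hy hcs

theorem Split.conjX (h : Split X Y) {x : G} (hx : x ∈ X) (g : G) : g * x * g⁻¹ ∈ X :=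
  h.memX_of_cs_eq hx (cs_conj x g)

theorem Split.conjY (h : Split X Y) {y : G} (hy : y ∈ Y) (g : G) : g * y * g⁻¹ ∈ Y :=
  h.memY_of_cs_eq hy (cs_conj y g)

theorem Split.invY (h : Split X Y) {y : G} (hy : y ∈ Y) : y⁻¹ ∈ Y :=
  h.memY_of_cs_eq hy (cs_inv y)

theorem Split.invX (h : Split X Y) {x : G} (hx : x ∈ X) : x⁻¹ ∈ X :=
  h.memX_of_cs_eq hx (cs_inv x)

/-- the generating set of `N` -/
def genS (Y : Set G) : Set G := {n | ∃ d ∈ Y, ∃ g : G, n = d * (g * d⁻¹ * g⁻¹)}

/-- the subgroup `N = [⟨Y⟩, G]` -/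
def NN (Y : Set G) : Subgroup G := Subgroup.closure (genS Y)

theorem Split.genS_conj (h : Split X Y) {n : G} (hn : n ∈ genS Y) (k : G) :
    k * n * k⁻¹ ∈ genS Y := by
  obtain ⟨d, hd, g, rfl⟩ := hn
  refine ⟨k * d * k⁻¹, h.conjY hd k, k * g * k⁻¹, by group⟩

theorem Split.NN_normal (h : Split X Y) : (NN Y).Normal := by
  constructor
  intro n hn k
  have : ∀ n ∈ NN Y, k * n * k⁻¹ ∈ NN Y := by
    intro n hn
    induction hn using Subgroup.closure_induction with
    | mem x hx => exact Subgroup.subset_closure (h.genS_conj hx k)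
    | one => simp
    | mul x y _ _ hx hy =>
      have : k * (x * y) * k⁻¹ = (k * x * k⁻¹) * (k * y * k⁻¹) := by group
      rw [this]; exact Subgroup.mul_mem _ hx hy
    | inv x _ hx =>
      have : k * x⁻¹ * k⁻¹ = (k * x * k⁻¹)⁻¹ := by group
      rw [this]; exact Subgroup.inv_mem _ hx
  exact this n hn

theorem comm_mem_NN {d : G} (hd : d ∈ Y) (g : G) : d * (g * d⁻¹ * g⁻¹) ∈ NN Y :=
  Subgroup.subset_closure ⟨d, hd, g, rfl⟩

section withmax

variable (h : Split X Y) (c : G) (hc : c ∈ X) (hmax : ∀ g : G, cs g ≤ cs c)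

include h hc hmax

/-- **M1** -/
theorem Split.max_mul (d : G) (hd : d ∈ Y) : c * d ∈ X ∧ cs (c * d) = cs c := by
  have h1 := h.cop c hc d hd
  have h2 := cs_le_cs_mul_left c d h1
  have h3 : cs (c * d) = cs c := le_antisymm (hmax _) h2
  exact ⟨h.memX_of_cs_eq hc h3, h3⟩

/-- **M2** the class of `c` is right-invariant under `N` -/
theorem Split.max_invariant : ∀ y ∈ cl c, ∀ n ∈ NN Y, y * n ∈ cl c := by
  apply right_invariant_closure
  rintro y hy _ ⟨d, hd, g, rfl⟩
  exact cl_mul_invariant c d (h.cop c hc d hd) (h.max_mul c hc hmax d hd).2 y hy g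

theorem Split.card_NN_dvd : Nat.card (NN Y) ∣ cs c :=
  card_dvd_cs_of_invariant (NN Y) c (h.max_invariant c hc hmax)

theorem Split.card_NN_coprime (d : G) (hd : d ∈ Y) : (Nat.card (NN Y)).Coprime (cs d) :=
  Nat.Coprime.coprime_dvd_left (h.card_NN_dvd c hc hmax) (h.cop c hc d hd)

/-- **M3** -/
theorem Split.NN_le_centralizer (d : G) (hd : d ∈ Y) :
    NN Y ≤ Subgroup.centralizer ({d} : Set G) := by
  haveI := h.NN_normal
  exact le_centralizer_of_coprime (NN Y) d (h.card_NN_coprime c hc hmax d hd)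

/-- **M4** -/
theorem Split.mul_mem_X (x d : G) (hx : x ∈ X) (hd : d ∈ Y) : x * d ∈ X := by
  have hcop := h.cop x hx d hd
  have hnc := mul_not_mem_center x d hcop (h.xnc x hx)
  rcases h.cover _ hnc with h1 | h1
  · exact h1
  exfalso
  set e := x * d with he
  -- `cs (d * x) = cs d`
  have h2 : cs (d * x) = cs e := by
    have : d * x = x⁻¹ * e * x⁻¹⁻¹ := by rw [he]; group
    rw [this, cs_conj]
  have h3 : cs e = cs d := by
    apply le_antisymm
    · have h4 := cs_mul_dvd x d hcop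
      have h5 : (cs e).Coprime (cs x) := (h.cop x hx e h1).symm
      exact Nat.le_of_dvd (cs_pos d) (h5.dvd_of_dvd_mul_left h4)
    · exact cs_le_cs_mul_right x d hcop
  -- invariance of `cl d` under the subgroup generated by the `x (g x⁻¹ g⁻¹)`
  set Sx : Set G := {n | ∃ g : G, n = x * (g * x⁻¹ * g⁻¹)} with hSx
  have hinv : ∀ y ∈ cl d, ∀ n ∈ Subgroup.closure Sx, y * n ∈ cl d := by
    apply right_invariant_closure
    rintro y hy _ ⟨g, rfl⟩
    exact cl_mul_invariant d x hcop.symm (h2.trans h3) y hy g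
  have hdvd1 : Nat.card (Subgroup.closure Sx) ∣ cs d := card_dvd_cs_of_invariant _ d hinv
  have hNn := h.NN_normal
  have hle : Subgroup.closure Sx ≤ NN Y := by
    rw [Subgroup.closure_le]
    rintro _ ⟨g, rfl⟩
    have e1 : x * (g * x⁻¹ * g⁻¹) =
        e * (d⁻¹ * (g * d⁻¹⁻¹ * g⁻¹)) * e⁻¹ * (e * (g * e⁻¹ * g⁻¹)) := by
      rw [he]; group
    rw [e1]
    exact Subgroup.mul_mem _ (hNn.conj_mem _ (comm_mem_NN (h.invY hd) g) e) (comm_mem_NN h1 g)
  have hdvd2 : Nat.card (Subgroup.closure Sx) ∣ Nat.card (NN Y) := Subgroup.card_dvd_of_le hle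
  have hcop2 := h.card_NN_coprime c hc hmax d hd
  have h6 : Nat.card (Subgroup.closure Sx) = 1 := by
    have := Nat.dvd_gcd hdvd2 hdvd1
    rw [Nat.Coprime] at hcop2
    rw [hcop2, Nat.dvd_one] at this
    exact this
  have h7 : Subgroup.closure Sx = ⊥ := Subgroup.card_eq_one.1 h6
  apply h.xnc x hx
  rw [Subgroup.mem_center_iff]
  intro g
  have h8 : x * (g * x⁻¹ * g⁻¹) ∈ Subgroup.closure Sx := Subgroup.subset_closure ⟨g, rfl⟩
  rw [h7, Subgroup.mem_bot] at h8
  calc g * x = (x * (g * x⁻¹ * g⁻¹))⁻¹ * (x * g) := by group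
    _ = x * g := by rw [h8, inv_one, one_mul]

/-- **M5** -/
theorem Split.cs_mul_eq (x d : G) (hx : x ∈ X) (hd : d ∈ Y) : cs (x * d) = cs x := by
  have hcop := h.cop x hx d hd
  have h1 := h.mul_mem_X c hc hmax x d hx hd
  apply le_antisymm
  · have h4 := cs_mul_dvd x d hcop
    have h5 : (cs (x * d)).Coprime (cs d) := h.cop _ h1 d hd
    exact Nat.le_of_dvd (cs_pos x) (h5.dvd_of_dvd_mul_right h4)
  · exact cs_le_cs_mul_left x d hcop

theorem Split.invariant (x : G) (hx : x ∈ X) : ∀ y ∈ cl x, ∀ n ∈ NN Y, y * n ∈ cl x := by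
  apply right_invariant_closure
  rintro y hy _ ⟨d, hd, g, rfl⟩
  exact cl_mul_invariant x d (h.cop x hx d hd) (h.cs_mul_eq c hc hmax x d hx hd) y hy g

/-- **M6** the subgroup `K = Y ∪ Z(G)` -/
def Split.KK : Subgroup G where
  carrier := {g | g ∉ X}
  one_mem' := fun h1 => h.xnc 1 h1 (Subgroup.one_mem _)
  mul_mem' := by
    intro a b ha hb hab
    simp only [Set.mem_setOf_eq] at ha hb hab
    by_cases hbz : b ∈ Subgroup.center G
    · apply ha
      apply h.memX_of_cs_eq hab
      have : a = a * b * b⁻¹ := by group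
      rw [this, cs_mul_central _ _ (Subgroup.inv_mem _ hbz)]
      simp
    · have hbY : b ∈ Y := (h.cover b hbz).resolve_left hb
      apply ha
      have : a = a * b * b⁻¹ := by group
      rw [this]
      exact h.mul_mem_X c hc hmax _ _ hab (h.invY hbY)
  inv_mem' := by
    intro a ha ha'
    simp only [Set.mem_setOf_eq] at ha ha'
    apply ha
    have := h.invX ha'
    rwa [inv_inv] at this

theorem Split.mem_KK (g : G) : g ∈ h.KK c hc hmax ↔ g ∉ X := Iff.rfl

theorem Split.mem_KK_iff (g : G) : g ∈ h.KK c hc hmax ↔ g ∈ Y ∨ g ∈ Subgroup.center G := by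
  rw [Split.mem_KK]
  constructor
  · intro hg
    by_cases hz : g ∈ Subgroup.center G
    · exact Or.inr hz
    · exact Or.inl ((h.cover g hz).resolve_left hg)
  · rintro (hg | hg) hx
    · exact h.disj g hx hg
    · exact h.xnc g hx hg

theorem Split.KK_normal : (h.KK c hc hmax).Normal := by
  constructor
  intro n hn g
  rw [Split.mem_KK] at hn ⊢
  intro hx
  apply hn
  have := h.conjX hx g⁻¹
  have e : g⁻¹ * (g * n * g⁻¹) * g⁻¹⁻¹ = n := by group
  rwa [e] at this

theorem Split.Y_le_KK {d : G} (hd : d ∈ Y) : d ∈ h.KK c hc hmax :=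
  (h.mem_KK_iff c hc hmax d).2 (Or.inl hd)

theorem Split.NN_le_KK : NN Y ≤ h.KK c hc hmax := by
  rw [NN, Subgroup.closure_le]
  rintro _ ⟨d, hd, g, rfl⟩
  apply Subgroup.mul_mem _ (h.Y_le_KK c hc hmax hd)
  exact h.Y_le_KK c hc hmax (h.conjY (h.invY hd) g)

/-- `N` is central in `K` -/
theorem Split.NN_comm_KK (n k : G) (hn : n ∈ NN Y) (hk : k ∈ h.KK c hc hmax) :
    n * k = k * n := by
  rcases (h.mem_KK_iff c hc hmax k).1 hk with hk | hk
  · exact (mem_centralizer_singleton k n).1 (h.NN_le_centralizer c hc hmax k hk hn)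
  · exact Subgroup.mem_center_iff.1 hk n

theorem Split.comm_mem_NN' (k : G) (hk : k ∈ h.KK c hc hmax) (g : G) :
    k * g * k⁻¹ * g⁻¹ ∈ NN Y := by
  rcases (h.mem_KK_iff c hc hmax k).1 hk with hk | hk
  · have := comm_mem_NN hk g
    have e : k * (g * k⁻¹ * g⁻¹) = k * g * k⁻¹ * g⁻¹ := by group
    rwa [e] at this
  · have : k * g * k⁻¹ * g⁻¹ = 1 := by
      rw [← Subgroup.mem_center_iff.1 hk g]; group
    rw [this]; exact Subgroup.one_mem _

end withmax

end Cfsg.Agent.H2.ClassProd
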