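import Mathlib
import Cfsg.Agent.H2.ClassProdB
import Cfsg.Agent.H2.ClassFarB

/-!
# Two families of classes with separated prime sets, I (helper2)

`PP A` is the set of non-central elements whose class size involves only primes of `A`.
If no class size involves a prime of `A` and a prime of `B` together, and `c ∈ PP A` has the
largest class size in `PP A ∪ PP B`, then `N = [⟨PP B⟩, G]` is an abelian normal subgroup of order
dividing `cs c` centralizing `PP B`.
-/

set_option autoImplicit false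
set_option linter.unusedSectionVars false
set_option linter.style.haveILetI false
set_option linter.deprecated false

namespace Cfsg.Agent.H2.ClassFar

open Cfsg.Agent.H2.ClassProd

variable {G : Type*} [Group G] [Finite G]

/-- non-central elements whose class size involves only primes of `A` -/
def PP (A : Set ℕ) : Set G := {g | cs g ≠ 1 ∧ ∀ t : ℕ, t.Prime → t ∣ cs g → t ∈ A}

theorem PP_of_cs_eq {A : Set ℕ} {g g' : G} (hg : g ∈ PP A) (h : cs g' = cs g) : g' ∈ PP A := by
  unfold PP at hg ⊢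
  simp only [Set.mem_setOf_eq] at hg ⊢
  rw [h]
  exact hg

theorem PP_conj {A : Set ℕ} {d : G} (hd : d ∈ PP A) (g : G) : g * d * g⁻¹ ∈ PP A :=
  PP_of_cs_eq hd (cs_conj d g)

theorem PP_inv {A : Set ℕ} {d : G} (hd : d ∈ PP A) : d⁻¹ ∈ PP A :=
  PP_of_cs_eq hd (cs_inv d)

theorem NN_normal_of_conj {Y : Set G} (hY : ∀ d ∈ Y, ∀ g : G, g * d * g⁻¹ ∈ Y) :
    (NN Y).Normal := by
  constructor
  intro n hn k
  have : ∀ n ∈ NN Y, k * n * k⁻¹ ∈ NN Y := by
    intro n hn
    induction hn using Subgroup.closure_induction with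
    | mem x hx =>
      obtain ⟨d, hd, g, rfl⟩ := hx
      exact Subgroup.subset_closure ⟨k * d * k⁻¹, hY d hd k, k * g * k⁻¹, by group⟩
    | one => simp
    | mul x y _ _ hx hy =>
      have : k * (x * y) * k⁻¹ = (k * x * k⁻¹) * (k * y * k⁻¹) := by group
      rw [this]; exact Subgroup.mul_mem _ hx hy
    | inv x _ hx =>
      have : k * x⁻¹ * k⁻¹ = (k * x * k⁻¹)⁻¹ := by group
      rw [this]; exact Subgroup.inv_mem _ hx
  exact this n hn

instance NN_PP_normal (B : Set ℕ) : (NN (PP (G := G) B)).Normal :=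
  NN_normal_of_conj (fun _ hd g => PP_conj hd g)

variable {A B : Set ℕ}

section sep

variable (hsep : ∀ (g : G) (r t : ℕ), r ∈ A → t ∈ B → r ∣ cs g → t ∣ cs g → False)

include hsep

theorem PP_coprime {x d : G} (hx : x ∈ PP A) (hd : d ∈ PP B) : (cs x).Coprime (cs d) := by
  apply Nat.coprime_of_dvd
  intro k hk h1 h2
  exact hsep x k k (hx.2 k hk h1) (hd.2 k hk h2) h1 (by
    -- `k ∣ cs x` is needed twice
    exact h1)

variable (c : G) (hc : c ∈ PP A) (hmax : ∀ g : G, g ∈ PP A ∨ g ∈ PP B → cs g ≤ cs c)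

include hc hmax

/-- **I.3** -/
theorem max_mul (d : G) (hd : d ∈ PP B) : cs (c * d) = cs c := by
  have hcop := PP_coprime hsep hc hd
  have h1 := cs_le_cs_mul_left c d hcop
  have h2 := cs_le_cs_mul_right c d hcop
  have h3 := cs_mul_dvd c d hcop
  have hne : cs (c * d) ≠ 1 := by
    intro e
    rw [e] at h1
    exact hc.1 (le_antisymm h1 (cs_pos c))
  have hAB : ∀ t : ℕ, t.Prime → t ∣ cs (c * d) → t ∈ A ∨ t ∈ B := by
    intro t ht htd
    rcases (Nat.Prime.dvd_mul ht).1 (htd.trans h3) with h4 | h4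
    · exact Or.inl (hc.2 t ht h4)
    · exact Or.inr (hd.2 t ht h4)
  obtain ⟨r, hr, hrd⟩ := Nat.exists_prime_and_dvd hne
  rcases hAB r hr hrd with hrA | hrB
  · -- all primes in `A`
    have h5 : c * d ∈ PP A := by
      refine ⟨hne, fun t ht htd => ?_⟩
      rcases hAB t ht htd with h6 | h6
      · exact h6
      · exact (hsep _ r t hrA h6 hrd htd).elim
    exact le_antisymm (hmax _ (Or.inl h5)) h1
  · -- all primes in `B`: impossible
    exfalso
    have h5 : (cs (c * d)).Coprime (cs c) := by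
      apply Nat.coprime_of_dvd
      intro k hk h6 h7
      exact hsep _ k r (hc.2 k hk h7) hrB h6 hrd
    have h6 : cs (c * d) ∣ cs d := h5.dvd_of_dvd_mul_left h3
    have h7 : cs (c * d) ≤ cs d := Nat.le_of_dvd (cs_pos d) h6
    have h8 : cs d ≤ cs c := hmax d (Or.inr hd)
    have h9 : cs c = cs d := le_antisymm (h1.trans h7) h8
    rw [h9, Nat.coprime_self] at hcop
    exact hd.1 hcop

/-- **I.4** the class of `c` is right-invariant under `N` -/
theorem max_invariant : ∀ y ∈ cl c, ∀ n ∈ NN (PP (G := G) B), y * n ∈ cl c := by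
  apply right_invariant_closure
  rintro y hy _ ⟨d, hd, g, rfl⟩
  exact cl_mul_invariant c d (PP_coprime hsep hc hd) (max_mul hsep c hc hmax d hd) y hy g

theorem card_NN_dvd : Nat.card (NN (PP (G := G) B)) ∣ cs c :=
  card_dvd_cs_of_invariant _ c (max_invariant hsep c hc hmax)

theorem prime_dvd_card_NN (r : ℕ) (hr : r.Prime) (hrd : r ∣ Nat.card (NN (PP (G := G) B))) :
    r ∈ A :=
  hc.2 r hr (hrd.trans (card_NN_dvd hsep c hc hmax))

theorem card_NN_coprime (d : G) (hd : d ∈ PP B) :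
    (Nat.card (NN (PP (G := G) B))).Coprime (cs d) :=
  Nat.Coprime.coprime_dvd_left (card_NN_dvd hsep c hc hmax) (PP_coprime hsep hc hd)

theorem not_dvd_card_NN (q : ℕ) (hq : q.Prime) (hqB : q ∈ B) :
    ¬ q ∣ Nat.card (NN (PP (G := G) B)) := by
  intro hd
  have h1 := hd.trans (card_NN_dvd hsep c hc hmax)
  exact hsep c q q (hc.2 q hq h1) hqB h1 h1

theorem NN_le_centralizer (d : G) (hd : d ∈ PP B) :
    NN (PP (G := G) B) ≤ Subgroup.centralizer ({d} : Set G) :=
  le_centralizer_of_coprime _ d (card_NN_coprime hsep c hc hmax d hd)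

/-- **I.5** `N` is abelian -/
theorem NN_comm (n m : G) (hn : n ∈ NN (PP (G := G) B)) (hm : m ∈ NN (PP (G := G) B)) :
    n * m = m * n := by
  have h1 : NN (PP (G := G) B) ≤ Subgroup.centralizer ({n} : Set G) := by
    rw [NN, Subgroup.closure_le]
    rintro _ ⟨d, hd, g, rfl⟩
    have h2 := (mem_centralizer_singleton d n).1 (NN_le_centralizer hsep c hc hmax d hd hn)
    have h3 := (mem_centralizer_singleton _ n).1
      (NN_le_centralizer hsep c hc hmax _ (PP_conj (PP_inv hd) g) hn)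
    show d * (g * d⁻¹ * g⁻¹) ∈ Subgroup.centralizer ({n} : Set G)
    rw [mem_centralizer_singleton]
    calc d * (g * d⁻¹ * g⁻¹) * n = d * ((g * d⁻¹ * g⁻¹) * n) := by group
      _ = d * (n * (g * d⁻¹ * g⁻¹)) := by rw [h3]
      _ = (d * n) * (g * d⁻¹ * g⁻¹) := by group
      _ = (n * d) * (g * d⁻¹ * g⁻¹) := by rw [h2]
      _ = n * (d * (g * d⁻¹ * g⁻¹)) := by group
  exact ((mem_centralizer_singleton n m).1 (h1 hm)).symm

/-- **(★)** an element not centralizing `N` has class size prime to `B` -/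
theorem star (g : G) (hg : ¬ NN (PP (G := G) B) ≤ Subgroup.centralizer ({g} : Set G))
    (t : ℕ) (ht : t ∈ B) : ¬ t ∣ cs g := by
  intro htd
  have h1 : (Subgroup.centralizer ({g} : Set G)).relIndex (NN (PP (G := G) B)) ≠ 1 :=
    fun e => hg (Subgroup.relIndex_eq_one.1 e)
  obtain ⟨r, hr, hrd⟩ := Nat.exists_prime_and_dvd h1
  have h2 : r ∣ cs g := hrd.trans (relIndex_dvd_index_of_normal' _ _)
  have h3 : r ∣ Nat.card (NN (PP (G := G) B)) := by
    apply hrd.trans
    rw [Subgroup.relIndex]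
    exact Subgroup.index_dvd_card _
  exact hsep g r t (prime_dvd_card_NN hsep c hc hmax r hr h3) ht h2 htd

/-- **Claim 1**: every Sylow `q`-subgroup acts nontrivially on `N` -/
theorem claim1 (q : ℕ) [Fact q.Prime] (hqB : q ∈ B) (d₀ : G) (hd₀ : d₀ ∈ PP B)
    (hqd : q ∣ cs d₀) (Q : Sylow q G) :
    ∃ a ∈ Q, ∃ n ∈ NN (PP (G := G) B), a * n * a⁻¹ ≠ n := by
  have hq : q.Prime := Fact.out
  have h1 : ¬ (Q : Subgroup G) ≤ Subgroup.centralizer ({d₀} : Set G) := by
    intro hle
    have h2 := Subgroup.index_dvd_of_le hle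
    exact Q.not_dvd_index (hqd.trans h2)
  rw [SetLike.not_le_iff_exists] at h1
  obtain ⟨a, haQ, hac⟩ := h1
  rw [mem_centralizer_singleton] at hac
  have hnN : a * d₀ * a⁻¹ * d₀⁻¹ ∈ NN (PP (G := G) B) := by
    have := comm_mem_NN hd₀ a
    have e : a * d₀ * a⁻¹ * d₀⁻¹ = (d₀ * (a * d₀⁻¹ * a⁻¹))⁻¹ := by group
    rw [e]; exact Subgroup.inv_mem _ this
  refine ⟨a, haQ, a * d₀ * a⁻¹ * d₀⁻¹, hnN, ?_⟩
  intro hfix
  set n := a * d₀ * a⁻¹ * d₀⁻¹ with hn
  have hnd : n * d₀ = d₀ * n :=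
    (mem_centralizer_singleton d₀ n).1 (NN_le_centralizer hsep c hc hmax d₀ hd₀ hnN)
  have han : a * n = n * a := by
    calc a * n = (a * n * a⁻¹) * a := by group
      _ = n * a := by rw [hfix]
  have hpow : ∀ j : ℕ, a ^ j * d₀ * (a ^ j)⁻¹ = n ^ j * d₀ := by
    intro j
    induction j with
    | zero => simp
    | succ j ih =>
      have hanj : a * n ^ j = n ^ j * a := by
        have : Commute a n := han
        exact (this.pow_right j).eq
      calc a ^ (j + 1) * d₀ * (a ^ (j + 1))⁻¹ = a * (a ^ j * d₀ * (a ^ j)⁻¹) * a⁻¹ := by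
            rw [pow_succ']; group
        _ = a * (n ^ j * d₀) * a⁻¹ := by rw [ih]
        _ = (a * n ^ j) * d₀ * a⁻¹ := by group
        _ = (n ^ j * a) * d₀ * a⁻¹ := by rw [hanj]
        _ = n ^ j * (a * d₀ * a⁻¹ * d₀⁻¹) * d₀ := by group
        _ = n ^ (j + 1) * d₀ := by rw [← hn, pow_succ]
  have h2 := hpow (orderOf a)
  rw [pow_orderOf_eq_one, one_mul, inv_one, mul_one] at h2
  have h3 : n ^ orderOf a = 1 := by
    have := congrArg (fun t => t * d₀⁻¹) h2
    simp only [mul_inv_cancel, mul_inv_cancel_right] at this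
    exact this.symm
  have h4 : orderOf n ∣ orderOf a := orderOf_dvd_of_pow_eq_one h3
  have h5 : orderOf n ∣ Nat.card (NN (PP (G := G) B)) := by
    have := orderOf_dvd_natCard (⟨n, hnN⟩ : NN (PP (G := G) B))
    rwa [Subgroup.orderOf_mk] at this
  obtain ⟨b, hb⟩ := (IsPGroup.iff_orderOf.1 Q.2) ⟨a, haQ⟩
  rw [Subgroup.orderOf_mk] at hb
  have h6 : (Nat.card (NN (PP (G := G) B))).Coprime (orderOf a) := by
    rw [hb]
    apply Nat.Coprime.pow_right
    exact ((Nat.Prime.coprime_iff_not_dvd hq).2 (not_dvd_card_NN hsep c hc hmax q hq hqB)).symm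
  have h8 := Nat.dvd_gcd h5 h4
  rw [Nat.Coprime] at h6
  rw [h6, Nat.dvd_one, orderOf_eq_one_iff] at h8
  apply hac
  have : a * d₀ * a⁻¹ * d₀⁻¹ = 1 := h8
  calc a * d₀ = (a * d₀ * a⁻¹ * d₀⁻¹) * (d₀ * a) := by group
    _ = d₀ * a := by rw [this, one_mul]

end sep

end Cfsg.Agent.H2.ClassFar
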