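import Mathlib
import Cfsg.Agent.H2.ClassFarA

/-!
# S4138: the two largest class sizes coprime, Part I

`U` = elements whose class size is prime to `m`; `L = ⟨u (u⁻¹)^g⟩` is an abelian normal subgroup of
order dividing `m`, and `U ⊆ Z(G) L`.
-/

set_option autoImplicit false
set_option linter.unusedSectionVars false
set_option linter.style.haveILetI false

namespace Cfsg.Agent.H2.CC

open Cfsg.Agent.H2.ClassProd Cfsg.Agent.H2.ClassFar

variable {G : Type*} [Group G]

/-- the standing hypotheses -/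
structure Hyp (G : Type*) [Group G] (m n : ℕ) : Prop where
  hmn : n < m
  hn : 1 < n
  hcop : m.Coprime n
  htop : ∀ z : G, cs z ≤ m
  hsecond : ∀ z : G, cs z < m → cs z ≤ n

/-- elements whose class size is prime to `m` -/
def UU (G : Type*) [Group G] (m : ℕ) : Set G := {g | (cs g).Coprime m}

theorem mem_UU {m : ℕ} {g : G} : g ∈ UU G m ↔ (cs g).Coprime m := Iff.rfl

theorem UU_conj [Finite G] {m : ℕ} {d : G} (hd : d ∈ UU G m) (g : G) : g * d * g⁻¹ ∈ UU G m := by
  rw [mem_UU, cs_conj]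
  exact hd

theorem UU_inv {m : ℕ} {d : G} (hd : d ∈ UU G m) : d⁻¹ ∈ UU G m := by
  rw [mem_UU, cs_inv]
  exact hd

theorem center_subset_UU {m : ℕ} {z : G} (hz : z ∈ Subgroup.center G) : z ∈ UU G m := by
  rw [mem_UU, (cs_eq_one_iff z).2 hz]
  exact Nat.coprime_one_left m

/-- the subgroup `L` -/
def LL (G : Type*) [Group G] (m : ℕ) : Subgroup G := NN (UU G m)

instance LL_normal [Finite G] (m : ℕ) : (LL G m).Normal :=
  NN_normal_of_conj (fun _ hd g => UU_conj hd g)

theorem inv_mul_conj_mem_LL [Finite G] {m : ℕ} {u : G} (hu : u ∈ UU G m) (g : G) :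
    u⁻¹ * (g * u * g⁻¹) ∈ LL G m := by
  have := comm_mem_NN (UU_inv hu) g
  rwa [inv_inv] at this

theorem mul_conj_inv_mem_LL [Finite G] {m : ℕ} {u : G} (hu : u ∈ UU G m) (g : G) :
    u * (g * u⁻¹ * g⁻¹) ∈ LL G m := comm_mem_NN hu g

variable [Finite G] {m n : ℕ}

section withy

variable (hyp : Hyp G m n) (y : G) (hy : cs y = m)

include hyp hy

/-- **F1** -/
theorem cs_mul_UU (u : G) (hu : u ∈ UU G m) : cs (y * u) = m := by
  have hcop : (cs y).Coprime (cs u) := by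
    rw [hy]
    exact (mem_UU.1 hu).symm
  have h1 := cs_le_cs_mul_left y u hcop
  rw [hy] at h1
  exact le_antisymm (hyp.htop _) h1

/-- **F2** the class of `y` is right-invariant under `L` -/
theorem cl_mul_LL : ∀ w ∈ cl y, ∀ l ∈ LL G m, w * l ∈ cl y := by
  apply right_invariant_closure
  rintro w hw _ ⟨d, hd, g, rfl⟩
  have hcop : (cs y).Coprime (cs d) := by
    rw [hy]
    exact (mem_UU.1 hd).symm
  exact cl_mul_invariant y d hcop (by rw [cs_mul_UU hyp y hy d hd, hy]) w hw g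

theorem card_LL_dvd : Nat.card (LL G m) ∣ m := by
  have := card_dvd_cs_of_invariant (LL G m) y (cl_mul_LL hyp y hy)
  rwa [hy] at this

theorem card_LL_coprime (u : G) (hu : u ∈ UU G m) : (Nat.card (LL G m)).Coprime (cs u) :=
  Nat.Coprime.coprime_dvd_left (card_LL_dvd hyp y hy) (mem_UU.1 hu).symm

/-- **F3** -/
theorem LL_le_centralizer (u : G) (hu : u ∈ UU G m) :
    LL G m ≤ Subgroup.centralizer ({u} : Set G) :=
  le_centralizer_of_coprime _ u (card_LL_coprime hyp y hy u hu)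

theorem LL_comm (a b : G) (ha : a ∈ LL G m) (hb : b ∈ LL G m) : a * b = b * a := by
  have h1 : LL G m ≤ Subgroup.centralizer ({a} : Set G) := by
    rw [LL, NN, Subgroup.closure_le]
    rintro _ ⟨d, hd, g, rfl⟩
    have h2 := (mem_centralizer_singleton d a).1 (LL_le_centralizer hyp y hy d hd ha)
    have h3 := (mem_centralizer_singleton _ a).1
      (LL_le_centralizer hyp y hy _ (UU_conj (UU_inv hd) g) ha)
    show d * (g * d⁻¹ * g⁻¹) ∈ Subgroup.centralizer ({a} : Set G)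
    rw [mem_centralizer_singleton]
    calc d * (g * d⁻¹ * g⁻¹) * a = d * ((g * d⁻¹ * g⁻¹) * a) := by group
      _ = d * (a * (g * d⁻¹ * g⁻¹)) := by rw [h3]
      _ = (d * a) * (g * d⁻¹ * g⁻¹) := by group
      _ = (a * d) * (g * d⁻¹ * g⁻¹) := by rw [h2]
      _ = a * (d * (g * d⁻¹ * g⁻¹)) := by group
  exact ((mem_centralizer_singleton a b).1 (h1 hb)).symm

/-- `y l` has class size `m` -/
theorem cs_mul_LL (l : G) (hl : l ∈ LL G m) : cs (y * l) = m := by
  rw [cs_eq_of_mem_cl (cl_mul_LL hyp y hy y (self_mem_cl y) l hl), hy]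

/-- `l y` has class size `m` -/
theorem cs_LL_mul (l : G) (hl : l ∈ LL G m) : cs (l * y) = m := by
  have h1 : l * y = y * (y⁻¹ * l * y⁻¹⁻¹) := by group
  rw [h1]
  exact cs_mul_LL hyp y hy _ ((LL_normal m).conj_mem l hl y⁻¹)

/-- **F4** (averaging a cocycle): `U ⊆ Z(G) L` -/
theorem UU_subset (u : G) (hu : u ∈ UU G m) :
    ∃ z ∈ Subgroup.center G, ∃ l ∈ LL G m, u = z * l := by
  classical
  have hLn : (LL G m).Normal := LL_normal m
  letI : CommGroup ↥(LL G m) :=
    { (inferInstance : Group ↥(LL G m)) with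
      mul_comm := fun a b => Subtype.ext (LL_comm hyp y hy a b a.2 b.2) }
  letI : Fintype ↥(cl u) := Fintype.ofFinite _
  -- the cocycle values
  let f : ↥(cl u) → ↥(LL G m) := fun w => ⟨u⁻¹ * (w : G), by
    obtain ⟨g, hg⟩ := w.2
    rw [hg]
    exact inv_mul_conj_mem_LL hu g⟩
  set a : ↥(LL G m) := ∏ w : ↥(cl u), f w with ha
  have hk : (Nat.card ↥(LL G m)).Coprime (cs u) := card_LL_coprime hyp y hy u hu
  obtain ⟨b, hb⟩ : ∃ b : ↥(LL G m), b ^ cs u = a := ⟨(powCoprime hk).symm a,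
    (powCoprime hk).apply_symm_apply a⟩
  -- conjugation
  have key : ∀ g : G, g * u⁻¹ * g⁻¹ * u = g * (b : G) * g⁻¹ * (b : G)⁻¹ := by
    intro g
    let σ : ↥(cl u) ≃ ↥(cl u) :=
      { toFun := fun w => ⟨g * (w : G) * g⁻¹, by
          obtain ⟨h, hh⟩ := w.2
          exact ⟨g * h, by rw [hh]; group⟩⟩
        invFun := fun w => ⟨g⁻¹ * (w : G) * g, by
          obtain ⟨h, hh⟩ := w.2
          exact ⟨g⁻¹ * h, by rw [hh]; group⟩⟩
        left_inv := fun w => Subtype.ext (by simp [mul_assoc])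
        right_inv := fun w => Subtype.ext (by simp [mul_assoc]) }
    let c : ↥(LL G m) := ⟨g * u⁻¹ * g⁻¹ * u, by
      have h1 := mul_conj_inv_mem_LL (UU_conj (UU_inv hu) g) g⁻¹
      have h2 : g * u⁻¹ * g⁻¹ * (g⁻¹ * (g * u⁻¹ * g⁻¹)⁻¹ * g⁻¹⁻¹) = g * u⁻¹ * g⁻¹ * u := by group
      rwa [h2] at h1⟩
    let φ : ↥(LL G m) →* ↥(LL G m) := (MulAut.conjNormal g : MulAut ↥(LL G m)).toMonoidHom
    have hφ : ∀ l : ↥(LL G m), ((φ l : ↥(LL G m)) : G) = g * (l : G) * g⁻¹ := fun l =>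
      MulAut.conjNormal_apply g l
    have h1 : φ a = c ^ cs u * a := by
      rw [ha, map_prod]
      have h2 : ∀ w : ↥(cl u), φ (f w) = c * f (σ w) := by
        intro w
        apply Subtype.ext
        rw [hφ, Subgroup.coe_mul]
        show g * (u⁻¹ * (w : G)) * g⁻¹ = g * u⁻¹ * g⁻¹ * u * (u⁻¹ * (g * (w : G) * g⁻¹))
        group
      rw [Finset.prod_congr rfl (fun w _ => h2 w), Finset.prod_mul_distrib, Finset.prod_const,
        Finset.card_univ, ← Nat.card_eq_fintype_card, card_cl, Equiv.prod_comp σ f]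
    have h3 : c ^ cs u = (φ b * b⁻¹) ^ cs u := by
      rw [mul_pow, ← map_pow, inv_pow, hb, h1, mul_inv_cancel_right]
    have h4 : c = φ b * b⁻¹ := (powCoprime hk).injective h3
    have h5 := congrArg (fun l : ↥(LL G m) => (l : G)) h4
    simp only [Subgroup.coe_mul, Subgroup.coe_inv, hφ] at h5
    exact h5
  refine ⟨u * (b : G), ?_, (b : G)⁻¹, (LL G m).inv_mem b.2, by group⟩
  rw [Subgroup.mem_center_iff]
  intro g
  have h1 := key g⁻¹
  rw [inv_inv] at h1
  -- `g⁻¹ u⁻¹ g u = g⁻¹ b g b⁻¹`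
  have h2 : u⁻¹ * g * u = (b : G) * g * (b : G)⁻¹ := by
    have : g * (g⁻¹ * u⁻¹ * g * u) = g * (g⁻¹ * (b : G) * g * (b : G)⁻¹) :=
      congrArg (fun t => g * t) h1
    calc u⁻¹ * g * u = g * (g⁻¹ * u⁻¹ * g * u) := by group
      _ = g * (g⁻¹ * (b : G) * g * (b : G)⁻¹) := this
      _ = (b : G) * g * (b : G)⁻¹ := by group
  calc g * (u * (b : G)) = u * (u⁻¹ * g * u) * (b : G) := by group
    _ = u * ((b : G) * g * (b : G)⁻¹) * (b : G) := by rw [h2]
    _ = u * (b : G) * g := by group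

end withy

end Cfsg.Agent.H2.CC
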