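import Mathlib

set_option autoImplicit false

/-!
# Ito's theorem on groups with two conjugacy class sizes

If every conjugacy class of the finite group `G` has size `1` or `n`, then all elements of
prime power order for all primes but one are central.
-/

namespace Cfsg.Agent.H2.ItoTwo

open scoped Pointwise

variable {G : Type*} [Group G]

/-- centralizer of a single element -/
abbrev Cx (x : G) : Subgroup G := Subgroup.centralizer ({x} : Set G)

theorem mem_Cx {x g : G} : g ∈ Cx x ↔ g * x = x * g :=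
  Subgroup.mem_centralizer_singleton_iff

theorem self_mem_Cx (x : G) : x ∈ Cx x := mem_Cx.mpr rfl

theorem center_le_Cx (x : G) : Subgroup.center G ≤ Cx x := by
  intro z hz
  rw [mem_Cx]
  exact (Subgroup.mem_center_iff.mp hz x).symm

theorem Cx_eq_top_iff {x : G} : Cx x = ⊤ ↔ x ∈ Subgroup.center G := by
  constructor
  · intro h
    rw [Subgroup.mem_center_iff]
    intro g
    have : g ∈ Cx x := h ▸ Subgroup.mem_top g
    exact (mem_Cx.mp this)
  · intro h
    rw [eq_top_iff]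
    intro g _
    rw [mem_Cx]
    exact ((Subgroup.mem_center_iff.mp h) g)

theorem Cx_pow_le (x : G) (k : ℕ) : Cx x ≤ Cx (x ^ k) := by
  intro g hg
  rw [mem_Cx] at hg ⊢
  exact ((Commute.pow_right (hg : Commute g x) k)).eq

theorem Cx_zpow_le (x : G) (k : ℤ) : Cx x ≤ Cx (x ^ k) := by
  intro g hg
  rw [mem_Cx] at hg ⊢
  exact ((Commute.zpow_right (hg : Commute g x) k)).eq

theorem Cx_conj (x g a : G) : a ∈ Cx x ↔ g * a * g⁻¹ ∈ Cx (g * x * g⁻¹) := by
  rw [mem_Cx, mem_Cx]
  constructor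
  · intro h
    calc g * a * g⁻¹ * (g * x * g⁻¹) = g * (a * x) * g⁻¹ := by group
      _ = g * (x * a) * g⁻¹ := by rw [h]
      _ = g * x * g⁻¹ * (g * a * g⁻¹) := by group
  · intro h
    have : g * (a * x) * g⁻¹ = g * (x * a) * g⁻¹ := by
      calc g * (a * x) * g⁻¹ = g * a * g⁻¹ * (g * x * g⁻¹) := by group
        _ = g * x * g⁻¹ * (g * a * g⁻¹) := h
        _ = g * (x * a) * g⁻¹ := by group
    exact mul_left_cancel (mul_right_cancel this)

theorem Cx_mul_central (x z : G) (hz : z ∈ Subgroup.center G) : Cx (x * z) = Cx x := by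
  ext g
  rw [mem_Cx, mem_Cx]
  have hzg : z * g = g * z := (Subgroup.mem_center_iff.mp hz g).symm
  constructor
  · intro h
    have : g * x * z = x * g * z := by
      calc g * x * z = g * (x * z) := by group
        _ = x * z * g := h
        _ = x * (z * g) := by group
        _ = x * (g * z) := by rw [hzg]
        _ = x * g * z := by group
    exact mul_right_cancel this
  · intro h
    calc g * (x * z) = (g * x) * z := by group
      _ = (x * g) * z := by rw [h]
      _ = x * (g * z) := by group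
      _ = x * (z * g) := by rw [hzg]
      _ = x * z * g := by group

/-- no finite group is the union of the conjugates of a proper subgroup -/
theorem exists_not_conj_mem [Finite G] (H : Subgroup G) (hH : H ≠ ⊤) :
    ∃ x : G, ∀ g : G, g * x * g⁻¹ ∉ H := by
  classical
  by_contra hcon
  push Not at hcon
  -- the map (q, h) ↦ q.out * h * q.out⁻¹
  let f : Option ((G ⧸ H) × {h : H // h ≠ 1}) → G := fun o =>
    match o with
    | none => 1
    | some (q, h) => q.out * (h.1 : G) * (q.out)⁻¹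
  have hsurj : Function.Surjective f := by
    intro x
    by_cases hx : x = 1
    · exact ⟨none, hx.symm⟩
    · obtain ⟨g, hg⟩ := hcon x
      obtain ⟨k, hk⟩ : ∃ k : H, (QuotientGroup.mk g⁻¹ : G ⧸ H).out = g⁻¹ * k :=
        QuotientGroup.mk_out_eq_mul H g⁻¹
      have hmem : (k : G)⁻¹ * (g * x * g⁻¹) * k ∈ H :=
        H.mul_mem (H.mul_mem (H.inv_mem k.2) hg) k.2
      have hne : (⟨(k : G)⁻¹ * (g * x * g⁻¹) * k, hmem⟩ : H) ≠ 1 := by
        intro h1
        have h2 : (k : G)⁻¹ * (g * x * g⁻¹) * k = 1 := congrArg Subtype.val h1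
        apply hx
        have : x = g⁻¹ * k * ((k : G)⁻¹ * (g * x * g⁻¹) * k) * (k : G)⁻¹ * g := by group
        rw [this, h2]; group
      refine ⟨some (QuotientGroup.mk g⁻¹, ⟨⟨_, hmem⟩, hne⟩), ?_⟩
      change (QuotientGroup.mk g⁻¹ : G ⧸ H).out * ((k : G)⁻¹ * (g * x * g⁻¹) * k) *
        ((QuotientGroup.mk g⁻¹ : G ⧸ H).out)⁻¹ = x
      rw [hk]; group
  have hle := Nat.card_le_card_of_surjective f hsurj
  have hc1 : Nat.card {h : H // h ≠ 1} = Nat.card H - 1 := by
    have : Fintype H := Fintype.ofFinite H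
    rw [Nat.card_eq_fintype_card, Nat.card_eq_fintype_card]
    exact Set.card_ne_eq (1 : H)
  rw [Finite.card_option, Nat.card_prod, hc1] at hle
  have hidx : 2 ≤ H.index := by
    have h0 : H.index ≠ 0 := Subgroup.index_ne_zero_of_finite
    have h1 : H.index ≠ 1 := fun h => hH (Subgroup.index_eq_one.mp h)
    omega
  have hcard := H.card_mul_index
  have hpos : 0 < Nat.card H := Nat.card_pos
  change Nat.card G ≤ H.index * (Nat.card H - 1) + 1 at hle
  have : H.index * (Nat.card H - 1) + H.index = Nat.card G := by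
    rw [← hcard]
    obtain ⟨m, hm⟩ : ∃ m, Nat.card H = m + 1 := ⟨Nat.card H - 1, by omega⟩
    rw [hm]; simp; ring
  omega

theorem pow_bezout (x : G) {a b : ℕ} (hab : Nat.Coprime a b) :
    x = (x ^ a) ^ (Nat.gcdA a b) * (x ^ b) ^ (Nat.gcdB a b) := by
  have h1 := Nat.gcd_eq_gcd_ab a b
  rw [hab] at h1
  calc x = x ^ ((1 : ℕ) : ℤ) := by simp
    _ = x ^ ((a : ℤ) * Nat.gcdA a b + (b : ℤ) * Nat.gcdB a b) := by rw [h1]
    _ = (x ^ a) ^ (Nat.gcdA a b) * (x ^ b) ^ (Nat.gcdB a b) := by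
      rw [zpow_add, zpow_mul, zpow_mul, zpow_natCast, zpow_natCast]

/-- a non-member of a subgroup has a power of prime power order which is a non-member -/
theorem exists_prime_pow_power (Z : Subgroup G) : ∀ N : ℕ, 0 < N → ∀ x : G, x ^ N = 1 → x ∉ Z →
    ∃ q : ℕ, q.Prime ∧ ∃ (j : ℕ) (k : ℕ), x ^ k ∉ Z ∧ (x ^ k) ^ (q ^ j) = 1 := by
  intro N
  induction N using Nat.strong_induction_on with
  | _ N ih =>
    intro hN x hx hxZ
    have hN1 : N ≠ 1 := by
      rintro rfl
      rw [pow_one] at hx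
      exact hxZ (hx ▸ Z.one_mem)
    have hq : (N.minFac).Prime := Nat.minFac_prime hN1
    obtain ⟨j, m, hm, hNe⟩ := Nat.exists_eq_pow_mul_and_not_dvd (Nat.pos_iff_ne_zero.mp hN) N.minFac
      hq.ne_one
    obtain ⟨q, hqdef⟩ : ∃ q, q = N.minFac := ⟨_, rfl⟩
    rw [← hqdef] at hq hm hNe
    have hcop : Nat.Coprime m (q ^ j) := by
      apply Nat.Coprime.pow_right
      exact ((Nat.Prime.coprime_iff_not_dvd hq).mpr hm).symm
    have hj : j ≠ 0 := by
      rintro rfl
      rw [pow_zero, one_mul] at hNe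
      exact hm (hNe ▸ hqdef ▸ Nat.minFac_dvd N)
    have hmpos : 0 < m := by
      rcases Nat.eq_zero_or_pos m with h0 | h0
      · rw [h0, mul_zero] at hNe; omega
      · exact h0
    have hmlt : m < N := by
      have h2 : 2 ≤ q ^ j := by
        calc 2 ≤ q := hq.two_le
          _ = q ^ 1 := (pow_one q).symm
          _ ≤ q ^ j := Nat.pow_le_pow_right hq.pos (Nat.one_le_iff_ne_zero.mpr hj)
      rw [hNe]
      nlinarith
    by_cases hxm : x ^ m ∈ Z
    · have hxq : x ^ (q ^ j) ∉ Z := by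
        intro hc
        apply hxZ
        rw [pow_bezout x hcop]
        exact Z.mul_mem (Z.zpow_mem hxm _) (Z.zpow_mem hc _)
      have hpow : (x ^ (q ^ j)) ^ m = 1 := by rw [← pow_mul, ← hNe, hx]
      obtain ⟨q', hq', j', k', h1, h2⟩ := ih m hmlt hmpos (x ^ (q ^ j)) hpow hxq
      refine ⟨q', hq', j', q ^ j * k', ?_, ?_⟩
      · rwa [pow_mul]
      · rwa [pow_mul]
    · refine ⟨q, hq, j, m, hxm, ?_⟩
      rw [← pow_mul, mul_comm, ← hNe, hx]

section TwoSizes

variable [Finite G]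

/-- the hypothesis: all classes have size `1` or `n` -/
def TwoSizes (G : Type*) [Group G] (n : ℕ) : Prop :=
  1 < n ∧ ∀ x : G, (Cx x).index = 1 ∨ (Cx x).index = n

variable {n : ℕ}

omit [Finite G] in
theorem index_of_not_mem (H : TwoSizes G n) {x : G} (hx : x ∉ Subgroup.center G) :
    (Cx x).index = n := by
  rcases H.2 x with h1 | h1
  · exact absurd (Cx_eq_top_iff.mp (Subgroup.index_eq_one.mp h1)) hx
  · exact h1

theorem card_Cx (H : TwoSizes G n) {x : G} (hx : x ∉ Subgroup.center G) :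
    Nat.card (Cx x) * n = Nat.card G := by
  rw [← index_of_not_mem H hx]; exact (Cx x).card_mul_index

theorem card_Cx_eq (H : TwoSizes G n) {x y : G} (hx : x ∉ Subgroup.center G)
    (hy : y ∉ Subgroup.center G) : Nat.card (Cx x) = Nat.card (Cx y) := by
  have h1 := card_Cx H hx
  have h2 := card_Cx H hy
  have hn : 0 < n := by have := H.1; omega
  exact Nat.eq_of_mul_eq_mul_right hn (h1.trans h2.symm)

theorem eq_of_le (H : TwoSizes G n) {x y : G} (hx : x ∉ Subgroup.center G)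
    (hy : y ∉ Subgroup.center G) (hle : Cx x ≤ Cx y) : Cx x = Cx y :=
  Subgroup.eq_of_le_of_card_ge hle (le_of_eq (card_Cx_eq H hy hx))

/-- elements of coprime order in the centralizer of a noncentral `q`-element are central in it -/
theorem coprime_central (H : TwoSizes G n) {y z : G} {Q m : ℕ} (hy : y ∉ Subgroup.center G)
    (hyq : y ^ Q = 1) (hz : z ∈ Cx y) (hzm : z ^ m = 1) (hcop : Nat.Coprime m Q) :
    Cx y ≤ Cx z := by
  have hcomm : Commute y z := (mem_Cx.mp hz).symm
  have hyz : (y * z) ^ m = y ^ m := by rw [hcomm.mul_pow, hzm, mul_one]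
  have hy1 : y = ((y * z) ^ m) ^ (Nat.gcdA m Q) := by
    have := pow_bezout y hcop
    rw [hyq, one_zpow, mul_one] at this
    rw [hyz]; exact this
  have hle : Cx (y * z) ≤ Cx y := by
    intro g hg
    have h1 := Cx_zpow_le _ (Nat.gcdA m Q) (Cx_pow_le _ m hg)
    rwa [← hy1] at h1
  have hyznc : y * z ∉ Subgroup.center G := by
    intro hc
    have : Cx (y * z) = ⊤ := Cx_eq_top_iff.mpr hc
    rw [this, top_le_iff] at hle
    exact hy (Cx_eq_top_iff.mp hle)
  have heq := eq_of_le H hyznc hy hle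
  intro g hg
  have h1 : g ∈ Cx (y * z) := heq ▸ hg
  rw [mem_Cx] at h1 hg ⊢
  have : y * (g * z) = y * (z * g) := by
    calc y * (g * z) = (y * g) * z := by group
      _ = (g * y) * z := by rw [hg]
      _ = g * (y * z) := by group
      _ = y * z * g := h1
      _ = y * (z * g) := by group
  exact mul_left_cancel this

/-- a `p`-subgroup can be conjugated into a given Sylow `p`-subgroup -/
theorem exists_conj_mem_sylow {s : ℕ} [Fact s.Prime] (S : Sylow s G) (K : Subgroup G)
    (hK : IsPGroup s K) : ∃ g : G, ∀ a ∈ K, g * a * g⁻¹ ∈ (S : Subgroup G) := by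
  obtain ⟨Q, hQ⟩ := hK.exists_le_sylow
  obtain ⟨g, hg⟩ := MulAction.exists_smul_eq G Q S
  refine ⟨g, fun a ha => ?_⟩
  have h1 : a ∈ (Q : Subgroup G) := hQ ha
  have h2 : MulAut.conj g • a ∈ MulAut.conj g • (Q : Subgroup G) :=
    Subgroup.smul_mem_pointwise_smul _ _ _ h1
  rw [← Sylow.coe_subgroup_smul, hg] at h2
  simpa [MulAut.smul_def] using h2

/-- an element of prime power order can be conjugated into a given Sylow subgroup -/
theorem exists_conj_mem_sylow' {s : ℕ} [Fact s.Prime] (S : Sylow s G) (a : G) (j : ℕ)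
    (ha : a ^ (s ^ j) = 1) : ∃ g : G, g * a * g⁻¹ ∈ (S : Subgroup G) := by
  have hK : IsPGroup s (Subgroup.zpowers a) := by
    apply IsPGroup.of_card_dvd_pow (n := j)
    rw [Nat.card_zpowers]
    exact orderOf_dvd_of_pow_eq_one ha
  obtain ⟨g, hg⟩ := exists_conj_mem_sylow S _ hK
  exact ⟨g, hg a (Subgroup.mem_zpowers a)⟩

/-- the centre has index divisible by `s` in the centralizer of a noncentral `s`-element -/
theorem dvd_relIndex_center {s : ℕ} [Fact s.Prime] {u : G} {i : ℕ}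
    (hu : u ∉ Subgroup.center G) (hus : u ^ (s ^ i) = 1) :
    s ∣ (Subgroup.center G).relIndex (Cx u) := by
  have hnorm : ((Subgroup.center G).subgroupOf (Cx u)).Normal := by
    constructor
    intro a ha g
    rw [Subgroup.mem_subgroupOf] at ha ⊢
    have : ((g * a * g⁻¹ : Cx u) : G) = (a : G) := by
      push_cast
      rw [(Subgroup.mem_center_iff.mp ha (g : G)), mul_assoc, mul_inv_cancel, mul_one]
    rw [this]; exact ha
  obtain ⟨ubar, hubar⟩ : ∃ ubar : Cx u ⧸ (Subgroup.center G).subgroupOf (Cx u),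
      ubar = QuotientGroup.mk (⟨u, self_mem_Cx u⟩ : Cx u) := ⟨_, rfl⟩
  have h1 : ubar ≠ 1 := by
    rw [hubar]
    intro h
    rw [QuotientGroup.eq_one_iff, Subgroup.mem_subgroupOf] at h
    exact hu h
  have h2 : ubar ^ (s ^ i) = 1 := by
    rw [hubar, ← QuotientGroup.mk_pow]
    have : (⟨u, self_mem_Cx u⟩ : Cx u) ^ (s ^ i) = 1 := by
      apply Subtype.ext
      push_cast
      exact hus
    rw [this]; rfl
  have h3 : orderOf ubar ∣ s ^ i := orderOf_dvd_of_pow_eq_one h2
  obtain ⟨e, -, he⟩ := (Nat.dvd_prime_pow (Fact.out : s.Prime)).mp h3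
  have he0 : e ≠ 0 := by
    rintro rfl
    rw [pow_zero, orderOf_eq_one_iff] at he
    exact h1 he
  have h4 : s ∣ orderOf ubar := by
    rw [he]; exact dvd_pow_self s he0
  exact h4.trans (orderOf_dvd_natCard ubar)

theorem relIndex_center_mul (x : G) :
    (Subgroup.center G).relIndex (Cx x) * Nat.card (Subgroup.center G) = Nat.card (Cx x) := by
  have h1 := ((Subgroup.center G).subgroupOf (Cx x)).card_mul_index
  have h2 : Nat.card ((Subgroup.center G).subgroupOf (Cx x)) = Nat.card (Subgroup.center G) :=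
    Nat.card_congr (Subgroup.subgroupOfEquivOfLe (center_le_Cx x)).toEquiv
  rw [h2, mul_comm] at h1
  exact h1

/-- every noncentral centralizer is the centralizer of a noncentral `s`-element, for every
prime `s` for which noncentral `s`-elements exist -/
theorem exists_same_centralizer (H : TwoSizes G n) {s : ℕ} [Fact s.Prime] {u x : G} {i : ℕ}
    (hu : u ∉ Subgroup.center G) (hus : u ^ (s ^ i) = 1) (hx : x ∉ Subgroup.center G) :
    ∃ (u' : G) (j : ℕ), u' ∉ Subgroup.center G ∧ u' ^ (s ^ j) = 1 ∧ Cx u' = Cx x := by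
  obtain ⟨q, hq, j, k, hyZ, hyq⟩ := exists_prime_pow_power (Subgroup.center G) (Nat.card G)
    Nat.card_pos x (pow_card_eq_one') hx
  have hxy : Cx x = Cx (x ^ k) := eq_of_le H hx hyZ (Cx_pow_le x k)
  by_cases hqs : q = s
  · subst hqs
    exact ⟨x ^ k, j, hyZ, hyq, hxy.symm⟩
  · obtain ⟨y, hydef⟩ : ∃ y, y = x ^ k := ⟨_, rfl⟩
    rw [← hydef] at hyZ hyq hxy
    have hdvd : s ∣ (Subgroup.center G).relIndex (Cx y) := by
      have h1 := dvd_relIndex_center hu hus
      have h2 := relIndex_center_mul u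
      have h3 := relIndex_center_mul y
      rw [card_Cx_eq H hu hyZ, ← h3] at h2
      have hpos : 0 < Nat.card (Subgroup.center G) := Nat.card_pos
      rw [← Nat.eq_of_mul_eq_mul_right hpos h2]
      exact h1
    obtain ⟨Sg⟩ : Nonempty (Sylow s (Cx y)) := inferInstance
    have hex : ∃ w : Cx y, w ∈ (Sg : Subgroup (Cx y)) ∧ (w : G) ∉ Subgroup.center G := by
      by_contra hcon
      push Not at hcon
      have hle : (Sg : Subgroup (Cx y)) ≤ (Subgroup.center G).subgroupOf (Cx y) := by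
        intro w hw
        rw [Subgroup.mem_subgroupOf]
        exact hcon w hw
      have h1 : ((Subgroup.center G).subgroupOf (Cx y)).index ∣ (Sg : Subgroup (Cx y)).index :=
        Subgroup.index_dvd_of_le hle
      exact Sg.not_dvd_index (hdvd.trans h1)
    obtain ⟨w, hwSg, hwZ⟩ := hex
    obtain ⟨e, he⟩ := Sg.isPGroup' ⟨w, hwSg⟩
    have hwe : (w : G) ^ (s ^ e) = 1 := by
      have := congrArg (fun t : (Sg : Subgroup (Cx y)) => ((t : Cx y) : G)) he
      simpa using this
    have hcop : Nat.Coprime (s ^ e) (q ^ j) :=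
      Nat.Coprime.pow _ _ ((Nat.coprime_primes (Fact.out : s.Prime) hq).mpr (Ne.symm hqs))
    have hle := coprime_central H hyZ hyq w.2 hwe hcop
    have heq := eq_of_le H hyZ hwZ hle
    exact ⟨w, e, hwZ, hwe, by rw [← heq, ← hxy]⟩

/-- with noncentral elements for two primes, all noncentral centralizers are abelian -/
theorem comm_of_two_primes (H : TwoSizes G n) {q r : ℕ} [Fact q.Prime] [Fact r.Prime]
    (hqr : q ≠ r) {y w : G} {i j : ℕ} (hy : y ∉ Subgroup.center G) (hyq : y ^ (q ^ i) = 1)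
    (hw : w ∉ Subgroup.center G) (hwr : w ^ (r ^ j) = 1) {x : G} (hx : x ∉ Subgroup.center G) :
    ∀ a ∈ Cx x, ∀ b ∈ Cx x, a * b = b * a := by
  obtain ⟨u', i', hu', hu'q, hCu⟩ := exists_same_centralizer H hy hyq hx
  obtain ⟨v', j', hv', hv'r, hCv⟩ := exists_same_centralizer H hw hwr hx
  intro a ha b hb
  obtain ⟨e, m, hm, hNe⟩ := Nat.exists_eq_pow_mul_and_not_dvd
    (Nat.card_pos (α := G)).ne' q (Fact.out : q.Prime).ne_one
  have hcop : Nat.Coprime m q := ((Nat.Prime.coprime_iff_not_dvd (Fact.out : q.Prime)).mpr hm).symm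
  -- the `q'`-part of `a`
  have h1 : Cx x ≤ Cx (a ^ (q ^ e)) := by
    rw [← hCu]
    apply coprime_central H hu' hu'q (m := m)
    · rw [hCu]; exact (Cx x).pow_mem ha _
    · rw [← pow_mul, ← hNe]; exact pow_card_eq_one'
    · exact Nat.Coprime.pow_right _ hcop
  -- the `q`-part of `a`
  have h2 : Cx x ≤ Cx (a ^ m) := by
    rw [← hCv]
    apply coprime_central H hv' hv'r (m := q ^ e)
    · rw [hCv]; exact (Cx x).pow_mem ha _
    · rw [← pow_mul, mul_comm, ← hNe]; exact pow_card_eq_one'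
    · exact Nat.Coprime.pow _ _ ((Nat.coprime_primes (Fact.out : q.Prime) (Fact.out : r.Prime)).mpr hqr)
  have hb1 : b ∈ Cx (a ^ (q ^ e)) := h1 hb
  have hb2 : b ∈ Cx (a ^ m) := h2 hb
  have hcop2 : Nat.Coprime (q ^ e) m := (Nat.Coprime.pow_right e hcop).symm
  have hmem : a ∈ Subgroup.centralizer ({b} : Set G) := by
    rw [pow_bezout a hcop2]
    apply Subgroup.mul_mem
    · apply Subgroup.zpow_mem
      rw [mem_Cx] at hb1
      exact mem_Cx.mpr hb1.symm
    · apply Subgroup.zpow_mem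
      rw [mem_Cx] at hb2
      exact mem_Cx.mpr hb2.symm
  exact mem_Cx.mp hmem

section Abelian

variable (H : TwoSizes G n)
  (AC : ∀ x : G, x ∉ Subgroup.center G → ∀ a ∈ Cx x, ∀ b ∈ Cx x, a * b = b * a)

include H AC

theorem Cx_eq_of_mem {x g : G} (hx : x ∉ Subgroup.center G) (hg : g ∉ Subgroup.center G)
    (hgx : g ∈ Cx x) : Cx g = Cx x := by
  symm
  apply eq_of_le H hx hg
  intro a ha
  rw [mem_Cx]
  exact AC x hx a ha g hgx

omit H AC in
theorem conj_not_mem_center {x : G} (hx : x ∉ Subgroup.center G) (g : G) :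
    g * x * g⁻¹ ∉ Subgroup.center G := by
  intro hc
  apply hx
  have := (Subgroup.center G).normal_of_characteristic.conj_mem _ hc g⁻¹
  simpa [mul_assoc] using this

/-- Sylow subgroups for primes with noncentral elements are not abelian -/
theorem sylow_not_comm {s : ℕ} [Fact s.Prime] (S : Sylow s G) {u₀ : G} {i : ℕ}
    (hu₀ : u₀ ∉ Subgroup.center G) (hu₀s : u₀ ^ (s ^ i) = 1) :
    ¬ (∀ a ∈ (S : Subgroup G), ∀ b ∈ (S : Subgroup G), a * b = b * a) := by
  intro habel
  obtain ⟨g₀, hg₀⟩ := exists_conj_mem_sylow' S u₀ i hu₀s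
  obtain ⟨u, hudef⟩ : ∃ u, u = g₀ * u₀ * g₀⁻¹ := ⟨_, rfl⟩
  rw [← hudef] at hg₀
  have huZ : u ∉ Subgroup.center G := hudef ▸ conj_not_mem_center hu₀ g₀
  have hne : Cx u ≠ ⊤ := fun h => huZ (Cx_eq_top_iff.mp h)
  obtain ⟨x, hx⟩ := exists_not_conj_mem (Cx u) hne
  have hxZ : x ∉ Subgroup.center G := by
    intro hc
    apply hx 1
    rw [one_mul, inv_one, mul_one]
    exact center_le_Cx u hc
  obtain ⟨u', j, hu'Z, hu's, hCu'⟩ := exists_same_centralizer H hu₀ hu₀s hxZ
  obtain ⟨g, hg⟩ := exists_conj_mem_sylow' S u' j hu's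
  have hu''Z : g * u' * g⁻¹ ∉ Subgroup.center G := conj_not_mem_center hu'Z g
  have h1 : u ∈ Cx (g * u' * g⁻¹) := by
    rw [mem_Cx]
    exact habel _ hg₀ _ hg
  have h2 : Cx u = Cx (g * u' * g⁻¹) := Cx_eq_of_mem H AC hu''Z huZ h1
  have h3 : x ∈ Cx u' := hCu' ▸ self_mem_Cx x
  have h4 : g * x * g⁻¹ ∈ Cx (g * u' * g⁻¹) := (Cx_conj u' g x).mp h3
  rw [← h2] at h4
  exact hx g h4

theorem sylow_center_le {s : ℕ} [Fact s.Prime] (S : Sylow s G) {u₀ : G} {i : ℕ}
    (hu₀ : u₀ ∉ Subgroup.center G) (hu₀s : u₀ ^ (s ^ i) = 1) {v : G}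
    (hvc : ∀ g ∈ (S : Subgroup G), g * v = v * g) : v ∈ Subgroup.center G := by
  by_contra hvZ
  apply sylow_not_comm H AC S hu₀ hu₀s
  intro a ha b hb
  exact AC v hvZ a (mem_Cx.mpr (hvc a ha)) b (mem_Cx.mpr (hvc b hb))

/-- an element of the second centre of a Sylow subgroup -/
theorem exists_normalized {s : ℕ} [Fact s.Prime] (S : Sylow s G) {u₀ : G} {i : ℕ}
    (hu₀ : u₀ ∉ Subgroup.center G) (hu₀s : u₀ ^ (s ^ i) = 1) :
    ∃ u ∈ (S : Subgroup G), u ∉ Subgroup.center G ∧
      ∀ g ∈ (S : Subgroup G), ∃ z ∈ Subgroup.center G, g * u * g⁻¹ = u * z := by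
  have hcen : ∀ v : (S : Subgroup G), v ∈ Subgroup.center (S : Subgroup G) →
      (v : G) ∈ Subgroup.center G := by
    intro v hv
    apply sylow_center_le H AC S hu₀ hu₀s
    intro g hg
    have := Subgroup.mem_center_iff.mp hv ⟨g, hg⟩
    exact congrArg Subtype.val this
  have hne : Subgroup.center (S : Subgroup G) ≠ ⊤ := by
    intro htop
    apply sylow_not_comm H AC S hu₀ hu₀s
    intro a ha b hb
    have h1 : (⟨b, hb⟩ : (S : Subgroup G)) ∈ Subgroup.center (S : Subgroup G) :=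
      htop ▸ Subgroup.mem_top _
    have := Subgroup.mem_center_iff.mp h1 ⟨a, ha⟩
    exact congrArg Subtype.val this
  have hnt : Nontrivial ((S : Subgroup G) ⧸ Subgroup.center (S : Subgroup G)) := by
    rw [← Finite.one_lt_card_iff_nontrivial]
    change 1 < (Subgroup.center (S : Subgroup G)).index
    have h0 : (Subgroup.center (S : Subgroup G)).index ≠ 0 := Subgroup.index_ne_zero_of_finite
    have h1 : (Subgroup.center (S : Subgroup G)).index ≠ 1 :=
      fun h => hne (Subgroup.index_eq_one.mp h)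
    omega
  have hpq : IsPGroup s ((S : Subgroup G) ⧸ Subgroup.center (S : Subgroup G)) :=
    S.isPGroup'.to_quotient _
  have hcn := hpq.center_nontrivial
  obtain ⟨⟨ubar, hubar⟩, hne1⟩ := exists_ne (1 : Subgroup.center
    ((S : Subgroup G) ⧸ Subgroup.center (S : Subgroup G)))
  obtain ⟨u, rfl⟩ := QuotientGroup.mk_surjective ubar
  have hu1 : u ∉ Subgroup.center (S : Subgroup G) := by
    intro hc
    apply hne1
    apply Subtype.ext
    exact (QuotientGroup.eq_one_iff u).mpr hc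
  have huZ : (u : G) ∉ Subgroup.center G := by
    intro hc
    apply hu1
    rw [Subgroup.mem_center_iff]
    intro g
    apply Subtype.ext
    exact Subgroup.mem_center_iff.mp hc g
  refine ⟨u, u.2, huZ, ?_⟩
  intro g hg
  have h1 : (QuotientGroup.mk (⟨g, hg⟩ * u * (⟨g, hg⟩ : (S : Subgroup G))⁻¹ * u⁻¹) :
      (S : Subgroup G) ⧸ Subgroup.center (S : Subgroup G)) = 1 := by
    have := Subgroup.mem_center_iff.mp hubar (QuotientGroup.mk ⟨g, hg⟩)
    simp only [QuotientGroup.mk_mul, QuotientGroup.mk_inv]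
    rw [this]; group
  rw [QuotientGroup.eq_one_iff] at h1
  have h2 := hcen _ h1
  refine ⟨(u : G)⁻¹ * (g * u * g⁻¹ * (u : G)⁻¹) * u, ?_, by group⟩
  have := (Subgroup.center G).normal_of_characteristic.conj_mem _ h2 (u : G)⁻¹
  simpa using this

omit H AC in
/-- in a subgroup with commuting elements, elements of `t`-power order lie in the Sylow `t`-subgroup -/
theorem mem_sylow_of_comm {t : ℕ} [Fact t.Prime] (K : Subgroup G)
    (hK : ∀ a ∈ K, ∀ b ∈ K, a * b = b * a) (T : Sylow t K) (a : K) (j : ℕ)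
    (ha : a ^ (t ^ j) = 1) : a ∈ (T : Subgroup K) := by
  obtain ⟨g, hg⟩ := exists_conj_mem_sylow' T a j ha
  have : g * a * g⁻¹ = a := by
    apply Subtype.ext
    push_cast
    rw [hK g g.2 a a.2, mul_assoc, mul_inv_cancel, mul_one]
  rwa [this] at hg

omit H AC in
omit [Finite G] in
theorem conj_pow_central {a w z : G} (hz : z ∈ Subgroup.center G) (h : a * w * a⁻¹ = w * z)
    (k : ℕ) : a ^ k * w * (a ^ k)⁻¹ = w * z ^ k := by
  induction k with
  | zero => simp
  | succ k ih =>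
    have hzk : a * z ^ k = z ^ k * a :=
      (Subgroup.mem_center_iff.mp (Subgroup.pow_mem _ hz k) a)
    calc a ^ (k + 1) * w * (a ^ (k + 1))⁻¹
        = a * (a ^ k * w * (a ^ k)⁻¹) * a⁻¹ := by rw [pow_succ']; group
      _ = a * (w * z ^ k) * a⁻¹ := by rw [ih]
      _ = (a * w * a⁻¹) * (a * z ^ k * a⁻¹) := by group
      _ = (w * z) * (z ^ k * a * a⁻¹) := by rw [h, hzk]
      _ = w * z ^ (k + 1) := by rw [pow_succ']; group

/-- upper bound for the index of `S ∩ C` in `S` when `S` normalizes `C` -/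
theorem ineq_upper {s t : ℕ} [Fact s.Prime] [Fact t.Prime] (hst : s ≠ t) (S : Sylow s G)
    {u : G} (huZ : u ∉ Subgroup.center G)
    (hnorm : ∀ g ∈ (S : Subgroup G), ∃ z ∈ Subgroup.center G, g * u * g⁻¹ = u * z)
    {w₀ : G} {j₀ : ℕ} (hw₀ : w₀ ∉ Subgroup.center G) (hw₀t : w₀ ^ (t ^ j₀) = 1) :
    (Cx u).relIndex (S : Subgroup G) * t ^ (Nat.card (Subgroup.center G)).factorization t <
      t ^ (Nat.card (Cx u)).factorization t := by
  obtain ⟨w, j, hwZ, hwt, hCw⟩ := exists_same_centralizer H hw₀ hw₀t huZ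
  have hwC : w ∈ Cx u := hCw ▸ self_mem_Cx w
  have hSnorm : ∀ g ∈ (S : Subgroup G), ∀ a ∈ Cx u, g * a * g⁻¹ ∈ Cx u := by
    intro g hg a ha
    obtain ⟨z, hz, hgz⟩ := hnorm g hg
    have := (Cx_conj u g a).mp ha
    rwa [hgz, Cx_mul_central u z hz] at this
  obtain ⟨Zt⟩ : Nonempty (Sylow t (Subgroup.center G)) := inferInstance
  obtain ⟨T⟩ : Nonempty (Sylow t (Cx u)) := inferInstance
  obtain ⟨F, hF⟩ : ∃ F : (((S : Subgroup G) ⧸ (Cx u).subgroupOf (S : Subgroup G)) ×
      (Zt : Subgroup (Subgroup.center G))) → G,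
      ∀ p, F p = ((p.1.out : (S : Subgroup G)) : G) * w * ((p.1.out : (S : Subgroup G)) : G)⁻¹ *
        ((p.2 : Subgroup.center G) : G) := ⟨_, fun _ => rfl⟩
  -- injectivity
  have hFinj : Function.Injective F := by
    rintro ⟨q₁, z₁⟩ ⟨q₂, z₂⟩ heq
    rw [hF, hF] at heq
    simp only at heq
    obtain ⟨g₁, hg₁⟩ : ∃ g₁ : (S : Subgroup G), g₁ = q₁.out := ⟨_, rfl⟩
    obtain ⟨g₂, hg₂⟩ : ∃ g₂ : (S : Subgroup G), g₂ = q₂.out := ⟨_, rfl⟩
    rw [← hg₁, ← hg₂] at heq
    have hz₁ : ((z₁ : Subgroup.center G) : G) ∈ Subgroup.center G := (z₁ : Subgroup.center G).2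
    have hz₂ : ((z₂ : Subgroup.center G) : G) ∈ Subgroup.center G := (z₂ : Subgroup.center G).2
    obtain ⟨a, hadef⟩ : ∃ a : G, a = (g₂ : G)⁻¹ * g₁ := ⟨_, rfl⟩
    obtain ⟨z, hzdef⟩ : ∃ z : G, z = ((z₂ : Subgroup.center G) : G) *
      ((z₁ : Subgroup.center G) : G)⁻¹ := ⟨_, rfl⟩
    have hzc : z ∈ Subgroup.center G := hzdef ▸ Subgroup.mul_mem _ hz₂ (Subgroup.inv_mem _ hz₁)
    have haS : a ∈ (S : Subgroup G) := hadef ▸ Subgroup.mul_mem _ (Subgroup.inv_mem _ g₂.2) g₁.2
    have hconj : a * w * a⁻¹ = w * z := by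
      have h1 : (g₁ : G) * w * (g₁ : G)⁻¹ = (g₂ : G) * w * (g₂ : G)⁻¹ * z := by
        rw [hzdef]
        calc (g₁ : G) * w * (g₁ : G)⁻¹
            = (g₁ : G) * w * (g₁ : G)⁻¹ * ((z₁ : Subgroup.center G) : G) *
              ((z₁ : Subgroup.center G) : G)⁻¹ := by group
          _ = (g₂ : G) * w * (g₂ : G)⁻¹ * ((z₂ : Subgroup.center G) : G) *
              ((z₁ : Subgroup.center G) : G)⁻¹ := by rw [heq]
          _ = _ := by group
      have hzg : z * (g₂ : G) = (g₂ : G) * z := (Subgroup.mem_center_iff.mp hzc _).symm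
      calc a * w * a⁻¹ = (g₂ : G)⁻¹ * ((g₁ : G) * w * (g₁ : G)⁻¹) * g₂ := by rw [hadef]; group
        _ = (g₂ : G)⁻¹ * ((g₂ : G) * w * (g₂ : G)⁻¹ * z) * g₂ := by rw [h1]
        _ = w * ((g₂ : G)⁻¹ * (z * g₂)) := by group
        _ = w * z := by rw [hzg]; group
    -- `z = 1`
    obtain ⟨e, he⟩ := S.isPGroup' ⟨a, haS⟩
    have hae : a ^ (s ^ e) = 1 := congrArg Subtype.val he
    have hz1 : z ^ (s ^ e) = 1 := by
      have := conj_pow_central hzc hconj (s ^ e)
      rw [hae, one_mul, inv_one, mul_one] at this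
      exact (mul_eq_left.mp this.symm)
    obtain ⟨f₁, hf₁⟩ := Zt.isPGroup' z₁
    obtain ⟨f₂, hf₂⟩ := Zt.isPGroup' z₂
    have hz₁t : ((z₁ : Subgroup.center G) : G) ^ (t ^ f₁) = 1 := by
      have := congrArg (fun x : (Zt : Subgroup (Subgroup.center G)) => ((x : Subgroup.center G) : G)) hf₁
      simpa using this
    have hz₂t : ((z₂ : Subgroup.center G) : G) ^ (t ^ f₂) = 1 := by
      have := congrArg (fun x : (Zt : Subgroup (Subgroup.center G)) => ((x : Subgroup.center G) : G)) hf₂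
      simpa using this
    have hz2 : z ^ (t ^ (f₁ + f₂)) = 1 := by
      have hcomm : Commute ((z₂ : Subgroup.center G) : G) (((z₁ : Subgroup.center G) : G)⁻¹) :=
        (Subgroup.mem_center_iff.mp hz₂ _).symm
      rw [hzdef, hcomm.mul_pow, inv_pow]
      have h1 : ((z₂ : Subgroup.center G) : G) ^ (t ^ (f₁ + f₂)) = 1 := by
        rw [pow_add, mul_comm, pow_mul, hz₂t, one_pow]
      have h2 : ((z₁ : Subgroup.center G) : G) ^ (t ^ (f₁ + f₂)) = 1 := by
        rw [pow_add, pow_mul, hz₁t, one_pow]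
      rw [h1, h2]; simp
    have hcop : Nat.Coprime (s ^ e) (t ^ (f₁ + f₂)) :=
      Nat.Coprime.pow _ _ ((Nat.coprime_primes (Fact.out : s.Prime) (Fact.out : t.Prime)).mpr hst)
    have hzone : z = 1 := by
      rw [pow_bezout z hcop, hz1, hz2]; simp
    have hzz : z₁ = z₂ := by
      apply Subtype.ext
      apply Subtype.ext
      rw [hzone] at hzdef
      have : ((z₂ : Subgroup.center G) : G) = ((z₁ : Subgroup.center G) : G) := by
        calc ((z₂ : Subgroup.center G) : G)
            = ((z₂ : Subgroup.center G) : G) * ((z₁ : Subgroup.center G) : G)⁻¹ *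
              ((z₁ : Subgroup.center G) : G) := by group
          _ = _ := by rw [← hzdef, one_mul]
      exact this.symm
    have haC : a ∈ Cx u := by
      rw [← hCw, mem_Cx]
      rw [hzone, mul_one] at hconj
      calc a * w = a * w * a⁻¹ * a := by group
        _ = w * a := by rw [hconj]
    have hqq : q₁ = q₂ := by
      rw [← QuotientGroup.out_eq' q₁, ← QuotientGroup.out_eq' q₂, ← hg₁, ← hg₂]
      symm
      rw [QuotientGroup.eq, Subgroup.mem_subgroupOf]
      push_cast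
      rw [← hadef]; exact haC
    rw [hqq, hzz]
  -- the range
  obtain ⟨T', hT'⟩ : ∃ T' : Subgroup G, T' = (T : Subgroup (Cx u)).map (Cx u).subtype := ⟨_, rfl⟩
  have hrange : Set.range F ⊆ (T' : Set G) \ {1} := by
    rintro _ ⟨⟨q, z⟩, rfl⟩
    rw [hF]
    simp only
    obtain ⟨g, hg⟩ : ∃ g : (S : Subgroup G), g = q.out := ⟨_, rfl⟩
    rw [← hg]
    have hzc : ((z : Subgroup.center G) : G) ∈ Subgroup.center G := (z : Subgroup.center G).2
    have hmemC : (g : G) * w * (g : G)⁻¹ * ((z : Subgroup.center G) : G) ∈ Cx u :=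
      Subgroup.mul_mem _ (hSnorm g g.2 w hwC) (center_le_Cx u hzc)
    constructor
    · rw [hT']
      refine ⟨⟨_, hmemC⟩, ?_, rfl⟩
      obtain ⟨f, hf⟩ := Zt.isPGroup' z
      have hzt : ((z : Subgroup.center G) : G) ^ (t ^ f) = 1 := by
        have := congrArg (fun x : (Zt : Subgroup (Subgroup.center G)) => ((x : Subgroup.center G) : G)) hf
        simpa using this
      apply mem_sylow_of_comm (Cx u) (AC u huZ) T _ (j + f)
      apply Subtype.ext
      push_cast
      have hcomm : Commute ((g : G) * w * (g : G)⁻¹) ((z : Subgroup.center G) : G) :=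
        (Subgroup.mem_center_iff.mp hzc _)
      rw [hcomm.mul_pow, conj_pow]
      have h1 : w ^ (t ^ (j + f)) = 1 := by rw [pow_add, pow_mul, hwt, one_pow]
      have h2 : ((z : Subgroup.center G) : G) ^ (t ^ (j + f)) = 1 := by
        rw [pow_add, mul_comm, pow_mul, hzt, one_pow]
      rw [h1, h2]; simp
    · intro h1
      rw [Set.mem_singleton_iff] at h1
      apply hwZ
      have : w = (g : G)⁻¹ * (((z : Subgroup.center G) : G)⁻¹) * (g : G) := by
        have h2 : (g : G) * w * (g : G)⁻¹ = ((z : Subgroup.center G) : G)⁻¹ :=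
          eq_inv_of_mul_eq_one_left h1
        calc w = (g : G)⁻¹ * ((g : G) * w * (g : G)⁻¹) * g := by group
          _ = _ := by rw [h2]
      rw [this]
      have := (Subgroup.center G).normal_of_characteristic.conj_mem _
        (Subgroup.inv_mem _ hzc) (g : G)⁻¹
      simpa using this
  -- counting
  have hcard1 : Nat.card ((((S : Subgroup G) ⧸ (Cx u).subgroupOf (S : Subgroup G)) ×
      (Zt : Subgroup (Subgroup.center G)))) =
      (Cx u).relIndex (S : Subgroup G) * t ^ (Nat.card (Subgroup.center G)).factorization t := by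
    rw [Nat.card_prod, Zt.card_eq_multiplicity]
    rfl
  have hcard2 : Nat.card T' = t ^ (Nat.card (Cx u)).factorization t := by
    rw [hT', Subgroup.card_subtype, T.card_eq_multiplicity]
  have h1 : (Set.range F).ncard = Nat.card ((((S : Subgroup G) ⧸ (Cx u).subgroupOf (S : Subgroup G)) ×
      (Zt : Subgroup (Subgroup.center G)))) := Set.ncard_range_of_injective hFinj
  have h2 : (Set.range F).ncard ≤ ((T' : Set G) \ {1}).ncard :=
    Set.ncard_le_ncard hrange (Set.toFinite _)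
  have h3 : ((T' : Set G) \ {1}).ncard = (T' : Set G).ncard - 1 :=
    Set.ncard_sdiff_singleton_of_mem T'.one_mem
  have h4 : (T' : Set G).ncard = Nat.card T' := (Nat.card_coe_set_eq (T' : Set G)).symm
  have hpos : 0 < Nat.card T' := Nat.card_pos
  rw [← hcard1, ← hcard2, ← h1]
  omega

/-- lower bound for the index of `S ∩ C` in `S` -/
theorem ineq_lower {s : ℕ} [Fact s.Prime] (S : Sylow s G)
    {u : G} (huS : u ∈ (S : Subgroup G)) (huZ : u ∉ Subgroup.center G) :
    s ^ (Nat.card (Cx u)).factorization s ≤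
      (Cx u).relIndex (S : Subgroup G) * s ^ (Nat.card (Subgroup.center G)).factorization s := by
  have hs : s.Prime := Fact.out
  obtain ⟨e, he⟩ := S.isPGroup' ⟨u, huS⟩
  have hue : u ^ (s ^ e) = 1 := congrArg Subtype.val he
  have hne : Cx u ≠ ⊤ := fun h => huZ (Cx_eq_top_iff.mp h)
  obtain ⟨x, hx⟩ := exists_not_conj_mem (Cx u) hne
  have hxZ : x ∉ Subgroup.center G := by
    intro hc
    apply hx 1
    rw [one_mul, inv_one, mul_one]
    exact center_le_Cx u hc
  obtain ⟨Sg⟩ : Nonempty (Sylow s (Cx x)) := inferInstance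
  obtain ⟨K, hKdef⟩ : ∃ K : Subgroup G, K = (Sg : Subgroup (Cx x)).map (Cx x).subtype := ⟨_, rfl⟩
  have hKp : IsPGroup s K := hKdef ▸ Sg.isPGroup'.map _
  have hKle : K ≤ Cx x := by
    rw [hKdef]
    rintro _ ⟨a, -, rfl⟩
    exact a.2
  have hKcard : Nat.card K = s ^ (Nat.card (Cx u)).factorization s := by
    rw [hKdef, Subgroup.card_subtype, Sg.card_eq_multiplicity, card_Cx_eq H hxZ huZ]
  obtain ⟨g, hg⟩ := exists_conj_mem_sylow S K hKp
  obtain ⟨S2, hS2def⟩ : ∃ S2 : Subgroup G, S2 = K.map (MulAut.conj g).toMonoidHom := ⟨_, rfl⟩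
  have hS2card : Nat.card S2 = Nat.card K := by
    rw [hS2def]
    exact Subgroup.card_map_of_injective (MulAut.conj g).injective
  have hS2le : S2 ≤ (S : Subgroup G) := by
    rw [hS2def]
    rintro _ ⟨a, ha, rfl⟩
    exact hg a ha
  have hinf : S2 ⊓ Cx u ≤ Subgroup.center G := by
    intro a ha
    by_contra haZ
    obtain ⟨ha2, haC⟩ := ha
    rw [hS2def] at ha2
    obtain ⟨b, hb, hba⟩ := ha2
    have hba' : g * b * g⁻¹ = a := hba
    have hbZ : b ∉ Subgroup.center G := by
      intro hc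
      apply haZ
      rw [← hba']
      exact (Subgroup.center G).normal_of_characteristic.conj_mem _ hc g
    have h1 : Cx a = Cx u := Cx_eq_of_mem H AC huZ haZ haC
    have h2 : Cx b = Cx x := Cx_eq_of_mem H AC hxZ hbZ (hKle hb)
    have h3 : x ∈ Cx b := h2 ▸ self_mem_Cx x
    have h4 := (Cx_conj b g x).mp h3
    rw [hba', h1] at h4
    exact hx g h4
  -- counting
  have h1 := ((Cx u).subgroupOf S2).card_mul_index
  have h2 : Nat.card ((Cx u).subgroupOf S2) = Nat.card (S2 ⊓ Cx u : Subgroup G) := by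
    rw [← Subgroup.inf_subgroupOf_left]
    exact Nat.card_congr (Subgroup.subgroupOfEquivOfLe inf_le_left).toEquiv
  have h3 : Nat.card (S2 ⊓ Cx u : Subgroup G) ∣ Nat.card (Subgroup.center G) :=
    Subgroup.card_dvd_of_le hinf
  have h4 : Nat.card (S2 ⊓ Cx u : Subgroup G) ∣ s ^ (Nat.card (Cx u)).factorization s := by
    rw [← hKcard, ← hS2card]
    exact Subgroup.card_dvd_of_le inf_le_left
  obtain ⟨b, -, hb⟩ := (Nat.dvd_prime_pow hs).mp h4
  have h5 : Nat.card (S2 ⊓ Cx u : Subgroup G) ≤ s ^ (Nat.card (Subgroup.center G)).factorization s := by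
    rw [hb] at h3 ⊢
    exact Nat.pow_le_pow_right hs.pos
      ((hs.pow_dvd_iff_le_factorization (Nat.card_pos (α := Subgroup.center G)).ne').mp h3)
  have h6 : (Cx u).relIndex S2 ≤ (Cx u).relIndex (S : Subgroup G) :=
    Subgroup.relIndex_le_of_le_right hS2le Subgroup.index_ne_zero_of_finite
  change Nat.card ((Cx u).subgroupOf S2) * (Cx u).relIndex S2 = Nat.card S2 at h1
  rw [← hKcard, ← hS2card, ← h1, h2, mul_comm]
  exact Nat.mul_le_mul h6 h5

end Abelian

/-- **Key step of Ito's theorem**: noncentral elements of prime power order exist for one prime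
only. -/
theorem two_primes_false (H : TwoSizes G n) {q r : ℕ} [Fact q.Prime] [Fact r.Prime]
    (hqr : q ≠ r) {y w : G} {i j : ℕ} (hy : y ∉ Subgroup.center G) (hyq : y ^ (q ^ i) = 1)
    (hw : w ∉ Subgroup.center G) (hwr : w ^ (r ^ j) = 1) : False := by
  have AC : ∀ x : G, x ∉ Subgroup.center G → ∀ a ∈ Cx x, ∀ b ∈ Cx x, a * b = b * a :=
    fun x hx => comm_of_two_primes H hqr hy hyq hw hwr hx
  obtain ⟨Q⟩ : Nonempty (Sylow q G) := inferInstance
  obtain ⟨R⟩ : Nonempty (Sylow r G) := inferInstance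
  obtain ⟨u, huQ, huZ, hun⟩ := exists_normalized H AC Q hy hyq
  obtain ⟨v, hvR, hvZ, hvn⟩ := exists_normalized H AC R hw hwr
  have h1 := ineq_upper H AC hqr Q huZ hun hw hwr
  have h2 := ineq_lower H AC Q huQ huZ
  have h3 := ineq_upper H AC (Ne.symm hqr) R hvZ hvn hy hyq
  have h4 := ineq_lower H AC R hvR hvZ
  rw [card_Cx_eq H hvZ huZ] at h3 h4
  obtain ⟨c, hc⟩ : ∃ c, c = Nat.card (Cx u) := ⟨_, rfl⟩
  obtain ⟨zc, hzc⟩ : ∃ zc, zc = Nat.card (Subgroup.center G) := ⟨_, rfl⟩
  rw [← hc, ← hzc] at h1 h2 h3 h4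
  obtain ⟨A, hA⟩ : ∃ A, A = (Cx u).relIndex (Q : Subgroup G) := ⟨_, rfl⟩
  obtain ⟨B, hB⟩ : ∃ B, B = (Cx v).relIndex (R : Subgroup G) := ⟨_, rfl⟩
  rw [← hA] at h1 h2
  rw [← hB] at h3 h4
  have hb1pos' : 0 < q ^ zc.factorization q := pow_pos (Fact.out : q.Prime).pos _
  have hb2pos' : 0 < r ^ zc.factorization r := pow_pos (Fact.out : r.Prime).pos _
  obtain ⟨a1, ha1⟩ : ∃ a1, a1 = q ^ c.factorization q := ⟨_, rfl⟩
  obtain ⟨a2, ha2⟩ : ∃ a2, a2 = r ^ c.factorization r := ⟨_, rfl⟩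
  obtain ⟨b1, hb1⟩ : ∃ b1, b1 = q ^ zc.factorization q := ⟨_, rfl⟩
  obtain ⟨b2, hb2⟩ : ∃ b2, b2 = r ^ zc.factorization r := ⟨_, rfl⟩
  rw [← ha2, ← hb2] at h1 h4
  rw [← ha1, ← hb1] at h2 h3
  have hb1pos : 0 < b1 := hb1 ▸ hb1pos'
  have hb2pos : 0 < b2 := hb2 ▸ hb2pos'
  -- a1 ≤ A b1, A b2 < a2, a2 ≤ B b2, B b1 < a1
  have e1 : a1 * b2 < a2 * b1 := by
    calc a1 * b2 ≤ A * b1 * b2 := Nat.mul_le_mul_right _ h2
      _ = A * b2 * b1 := by ring
      _ < a2 * b1 := Nat.mul_lt_mul_of_pos_right h1 hb1pos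
  have e2 : a2 * b1 < a1 * b2 := by
    calc a2 * b1 ≤ B * b2 * b1 := Nat.mul_le_mul_right _ h4
      _ = B * b1 * b2 := by ring
      _ < a1 * b2 := Nat.mul_lt_mul_of_pos_right h3 hb2pos
  omega

/-- **Ito**: there is a prime `p` such that all elements of order prime to `p` are central. -/
theorem one_prime (H : TwoSizes G n) (hex : ∃ x : G, x ∉ Subgroup.center G) :
    ∃ p : ℕ, p.Prime ∧ ∀ (x : G) (m : ℕ), x ^ m = 1 → Nat.Coprime m p →
      x ∈ Subgroup.center G := by
  obtain ⟨x₀, hx₀⟩ := hex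
  obtain ⟨q, hq, j, k, hyZ, hyq⟩ := exists_prime_pow_power (Subgroup.center G) (Nat.card G)
    Nat.card_pos x₀ (pow_card_eq_one') hx₀
  refine ⟨q, hq, ?_⟩
  intro x m hxm hcop
  by_contra hxZ
  have hm : 0 < m := by
    rcases Nat.eq_zero_or_pos m with h0 | h0
    · rw [h0, Nat.coprime_zero_left] at hcop
      exact absurd hcop hq.ne_one
    · exact h0
  obtain ⟨r, hr, j', k', hwZ, hwr⟩ := exists_prime_pow_power (Subgroup.center G) m hm x hxm hxZ
  by_cases hrq : r = q
  · subst hrq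
    apply hwZ
    have h1 : (x ^ k') ^ m = 1 := by rw [← pow_mul, mul_comm, pow_mul, hxm, one_pow]
    have hcop' : Nat.Coprime m (r ^ j') := Nat.Coprime.pow_right _ hcop
    rw [pow_bezout (x ^ k') hcop', h1, hwr]
    simp
  · have : Fact q.Prime := ⟨hq⟩
    have : Fact r.Prime := ⟨hr⟩
    exact two_primes_false H (Ne.symm hrq) hyZ hyq hwZ hwr

end TwoSizes

section Structure

variable [Finite G] {p : ℕ} [Fact p.Prime]
  (PC : ∀ (x : G) (m : ℕ), x ^ m = 1 → Nat.Coprime m p → x ∈ Subgroup.center G)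

include PC

omit PC in
theorem card_decomp' : ∃ e m : ℕ, Nat.card G = p ^ e * m ∧ Nat.Coprime (p ^ e) m ∧
    Nat.Coprime m p := by
  obtain ⟨e, m, hm, hNe⟩ := Nat.exists_eq_pow_mul_and_not_dvd
    (Nat.card_pos (α := G)).ne' p (Fact.out : p.Prime).ne_one
  have h1 : Nat.Coprime p m := (Nat.Prime.coprime_iff_not_dvd (Fact.out : p.Prime)).mpr hm
  exact ⟨e, m, hNe, Nat.Coprime.pow_left _ h1, h1.symm⟩

theorem isPGroup_quotient_center : IsPGroup p (G ⧸ Subgroup.center G) := by
  obtain ⟨e, m, hNe, -, hcop⟩ := card_decomp' (G := G) (p := p)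
  intro x
  obtain ⟨g, rfl⟩ := QuotientGroup.mk_surjective x
  refine ⟨e, ?_⟩
  rw [← QuotientGroup.mk_pow, QuotientGroup.eq_one_iff]
  apply PC _ m _ hcop
  rw [← pow_mul, ← hNe]
  exact pow_card_eq_one'

theorem index_center_eq_pow : ∃ k : ℕ, (Subgroup.center G).index = p ^ k :=
  IsPGroup.iff_card.mp (isPGroup_quotient_center PC)

theorem sylow_sup_center (P : Sylow p G) : (P : Subgroup G) ⊔ Subgroup.center G = ⊤ := by
  rw [← Subgroup.index_eq_one]
  obtain ⟨k, hk⟩ := index_center_eq_pow PC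
  have h1 : ((P : Subgroup G) ⊔ Subgroup.center G).index ∣ p ^ k :=
    hk ▸ Subgroup.index_dvd_of_le le_sup_right
  have h2 : ((P : Subgroup G) ⊔ Subgroup.center G).index ∣ (P : Subgroup G).index :=
    Subgroup.index_dvd_of_le le_sup_left
  obtain ⟨b, -, hb⟩ := (Nat.dvd_prime_pow (Fact.out : p.Prime)).mp h1
  rcases Nat.eq_zero_or_pos b with h0 | h0
  · rw [hb, h0, pow_zero]
  · exfalso
    apply P.not_dvd_index
    apply dvd_trans _ h2
    rw [hb]
    exact dvd_pow_self p h0.ne'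

theorem sylow_normal (P : Sylow p G) : (P : Subgroup G).Normal := by
  rw [← Subgroup.normalizer_eq_top_iff, eq_top_iff, ← sylow_sup_center PC P]
  apply sup_le Subgroup.le_normalizer
  intro z hz
  rw [Subgroup.mem_normalizer_iff]
  intro h
  have : z * h * z⁻¹ = h := by
    rw [(Subgroup.mem_center_iff.mp hz h).symm, mul_assoc, mul_inv_cancel, mul_one]
  rw [this]

/-- the central `p'`-part -/
def pcompl (p : ℕ) (G : Type*) [Group G] (m : ℕ) : Subgroup G where
  carrier := {x | x ∈ Subgroup.center G ∧ x ^ m = 1}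
  mul_mem' := by
    rintro a b ⟨ha, ham⟩ ⟨hb, hbm⟩
    refine ⟨Subgroup.mul_mem _ ha hb, ?_⟩
    have hc : Commute a b := (Subgroup.mem_center_iff.mp hb a)
    rw [hc.mul_pow, ham, hbm, one_mul]
  one_mem' := ⟨Subgroup.one_mem _, one_pow _⟩
  inv_mem' := by
    rintro a ⟨ha, ham⟩
    exact ⟨Subgroup.inv_mem _ ha, by rw [inv_pow, ham, inv_one]⟩

omit PC in
omit [Finite G] [Fact p.Prime] in
theorem mem_pcompl {m : ℕ} {x : G} : x ∈ pcompl p G m ↔ x ∈ Subgroup.center G ∧ x ^ m = 1 :=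
  Iff.rfl

omit PC in
omit [Finite G] [Fact p.Prime] in
theorem pcompl_le_center (m : ℕ) : pcompl p G m ≤ Subgroup.center G := fun _ hx => hx.1

omit PC in
omit [Finite G] [Fact p.Prime] in
theorem pcompl_normal (m : ℕ) : (pcompl p G m).Normal := by
  constructor
  intro a ha g
  have : g * a * g⁻¹ = a := by
    rw [(Subgroup.mem_center_iff.mp ha.1 g), mul_assoc, mul_inv_cancel, mul_one]
  rw [this]; exact ha

theorem mem_sylow_of_pow (P : Sylow p G) {x : G} {e : ℕ} (hx : x ^ (p ^ e) = 1) :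
    x ∈ (P : Subgroup G) := by
  have := sylow_normal PC P
  obtain ⟨g, hg⟩ := exists_conj_mem_sylow' P x e hx
  have := (inferInstance : (P : Subgroup G).Normal).conj_mem _ hg g⁻¹
  simpa [mul_assoc] using this

theorem pcompl_isComplement' (P : Sylow p G) {e m : ℕ} (hNe : Nat.card G = p ^ e * m)
    (hcop : Nat.Coprime (p ^ e) m) (hcop' : Nat.Coprime m p) :
    (pcompl p G m).IsComplement' (P : Subgroup G) := by
  apply Subgroup.isComplement'_of_disjoint_and_mul_eq_univ
  · rw [Subgroup.disjoint_def]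
    intro x hxN hxP
    have hPcard : Nat.card (P : Subgroup G) = p ^ (Nat.card G).factorization p :=
      P.card_eq_multiplicity
    have h1 : x ^ (p ^ (Nat.card G).factorization p) = 1 := by
      have := pow_card_eq_one' (G := (P : Subgroup G)) (x := ⟨x, hxP⟩)
      rw [hPcard] at this
      exact congrArg Subtype.val this
    have hcop2 : Nat.Coprime m (p ^ (Nat.card G).factorization p) := Nat.Coprime.pow_right _ hcop'
    rw [pow_bezout x hcop2, hxN.2, h1]
    simp
  · rw [Set.eq_univ_iff_forall]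
    intro g
    have hg := pow_bezout g hcop
    refine ⟨(g ^ (p ^ e)) ^ (Nat.gcdA (p ^ e) m), ?_, (g ^ m) ^ (Nat.gcdB (p ^ e) m), ?_, hg.symm⟩
    · apply Subgroup.zpow_mem
      have h1 : (g ^ (p ^ e)) ^ m = 1 := by rw [← pow_mul, ← hNe]; exact pow_card_eq_one'
      exact ⟨PC _ m h1 hcop', h1⟩
    · apply Subgroup.zpow_mem
      apply mem_sylow_of_pow PC P (e := e)
      rw [← pow_mul, mul_comm, ← hNe]; exact pow_card_eq_one'

/-- class sizes of elements of the Sylow subgroup computed inside it -/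
theorem relIndex_eq_index (P : Sylow p G) (y : G) :
    (Cx y).relIndex (P : Subgroup G) = (Cx y).index := by
  have := sylow_normal PC P
  have htop : Cx y ⊔ (P : Subgroup G) = ⊤ := by
    rw [eq_top_iff, ← sylow_sup_center PC P]
    exact sup_le le_sup_right ((center_le_Cx y).trans le_sup_left)
  have h0 : (P : Subgroup G).relIndex (Cx y ⊔ (P : Subgroup G)) = (P : Subgroup G).relIndex (Cx y) :=
    Subgroup.relIndex_sup_right (Cx y) (P : Subgroup G)
  rw [htop, Subgroup.relIndex_top_right] at h0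
  have h1 := (P : Subgroup G).card_mul_index
  have h2 := (Cx y).card_mul_index
  have h3 := ((P : Subgroup G).subgroupOf (Cx y)).card_mul_index
  have h4 := ((Cx y).subgroupOf (P : Subgroup G)).card_mul_index
  change _ * (P : Subgroup G).relIndex (Cx y) = _ at h3
  change _ * (Cx y).relIndex (P : Subgroup G) = _ at h4
  have h5 : Nat.card ((P : Subgroup G).subgroupOf (Cx y)) =
      Nat.card ((P : Subgroup G) ⊓ Cx y : Subgroup G) := by
    rw [← Subgroup.inf_subgroupOf_right]
    exact Nat.card_congr (Subgroup.subgroupOfEquivOfLe inf_le_right).toEquiv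
  have h6 : Nat.card ((Cx y).subgroupOf (P : Subgroup G)) =
      Nat.card ((P : Subgroup G) ⊓ Cx y : Subgroup G) := by
    rw [← Subgroup.inf_subgroupOf_left]
    exact Nat.card_congr (Subgroup.subgroupOfEquivOfLe inf_le_left).toEquiv
  rw [h5] at h3
  rw [h6] at h4
  obtain ⟨d, hd⟩ : ∃ d, d = Nat.card ((P : Subgroup G) ⊓ Cx y : Subgroup G) := ⟨_, rfl⟩
  have hdpos : 0 < d := hd ▸ Nat.card_pos
  rw [← hd] at h3 h4
  rw [← h0] at h3
  have hPpos : 0 < (P : Subgroup G).index := Nat.pos_of_ne_zero Subgroup.index_ne_zero_of_finite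
  -- |G| = |P| * [G:P] = d * rel * [G:P]; |G| = |C| * [G:C] = d * [G:P] * [G:C]
  have e1 : d * (Cx y).relIndex (P : Subgroup G) * (P : Subgroup G).index =
      d * (P : Subgroup G).index * (Cx y).index := by
    rw [h4, h1, h3, h2]
  have e2 : d * (P : Subgroup G).index * (Cx y).relIndex (P : Subgroup G) =
      d * (P : Subgroup G).index * (Cx y).index := by
    rw [← e1]; ring
  exact Nat.eq_of_mul_eq_mul_left (Nat.mul_pos hdpos hPpos) e2

end Structure

end Cfsg.Agent.H2.ItoTwo
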