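import Mathlib
import Cfsg.Agent.H2.CC1
import Cfsg.Agent.H2.ItoTwo

/-!
# S4138: the two largest class sizes coprime, Part II

`K = C(x)` for `x ∈ L` of class size `n`: elements of `K` of order prime to `m` are central, no element
of `K` has class size `m`, and elements of class size prime to `n` lie in `Z L` or have class size `m`.
-/

set_option autoImplicit false
set_option linter.unusedSectionVars false
set_option linter.style.haveILetI false

namespace Cfsg.Agent.H2.CC

open Cfsg.Agent.H2.ClassProd Cfsg.Agent.H2.ClassFar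

variable {G : Type*} [Group G]

/-- `a` is a power of `a b` for commuting `a`, `b` of coprime orders -/
theorem exists_zpow_eq_left (a b : G) (hab : a * b = b * a)
    (hcop : (orderOf a).Coprime (orderOf b)) : ∃ k : ℤ, (a * b) ^ k = a := by
  have h1 : (a * b) ^ (orderOf b) = a ^ (orderOf b) := by
    rw [(show Commute a b from hab).mul_pow, pow_orderOf_eq_one, mul_one]
  have h2 := ItoTwo.pow_bezout a hcop.symm
  refine ⟨(orderOf b : ℤ) * Nat.gcdA (orderOf b) (orderOf a), ?_⟩
  rw [zpow_mul, zpow_natCast, h1]
  conv_rhs => rw [h2]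
  rw [pow_orderOf_eq_one, one_zpow, mul_one]

/-- **Lemma C** -/
theorem centralizer_mul_of_coprime (a b : G) (hab : a * b = b * a)
    (hcop : (orderOf a).Coprime (orderOf b)) :
    Subgroup.centralizer ({a * b} : Set G) =
      Subgroup.centralizer ({a} : Set G) ⊓ Subgroup.centralizer ({b} : Set G) := by
  apply le_antisymm
  · intro g hg
    rw [mem_centralizer_singleton] at hg
    obtain ⟨k, hk⟩ := exists_zpow_eq_left a b hab hcop
    obtain ⟨k', hk'⟩ := exists_zpow_eq_left b a hab.symm hcop.symm
    rw [← hab] at hk'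
    rw [Subgroup.mem_inf, mem_centralizer_singleton, mem_centralizer_singleton]
    constructor
    · rw [← hk]
      exact ((show Commute g (a * b) from hg).zpow_right k).eq
    · rw [← hk']
      exact ((show Commute g (a * b) from hg).zpow_right k').eq
  · intro g hg
    rw [Subgroup.mem_inf, mem_centralizer_singleton, mem_centralizer_singleton] at hg
    rw [mem_centralizer_singleton]
    calc g * (a * b) = (g * a) * b := by group
      _ = (a * g) * b := by rw [hg.1]
      _ = a * (g * b) := by group
      _ = a * (b * g) := by rw [hg.2]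
      _ = a * b * g := by group

theorem mem_of_pow_mem_coprime (N : Subgroup G) (w : G) {a b : ℕ} (hab : a.Coprime b)
    (ha : w ^ a ∈ N) (hb : w ^ b ∈ N) : w ∈ N := by
  rw [ItoTwo.pow_bezout w hab]
  exact N.mul_mem (N.zpow_mem ha _) (N.zpow_mem hb _)

theorem commute_of_mem_zpowers {c t g : G} (ht : t ∈ Subgroup.zpowers c) (hg : g * c = c * g) :
    g * t = t * g := by
  obtain ⟨k, rfl⟩ := Subgroup.mem_zpowers_iff.1 ht
  exact ((show Commute g c from hg).zpow_right k).eq

/-- splitting a number into its `m`-part and its `m'`-part -/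
theorem exists_pi_decomp (m : ℕ) : ∀ N : ℕ, 0 < N →
    ∃ a b : ℕ, N = a * b ∧ (∃ j : ℕ, a ∣ m ^ j) ∧ b.Coprime m := by
  intro N
  induction N using Nat.strong_induction_on with
  | _ N ih =>
    intro hN
    by_cases hc : N.Coprime m
    · exact ⟨1, N, (one_mul N).symm, ⟨0, one_dvd _⟩, hc⟩
    · obtain ⟨g, hgdef⟩ : ∃ g, g = Nat.gcd N m := ⟨_, rfl⟩
      have hg : 1 < g := by
        have h0 : g ≠ 0 := by
          intro h
          rw [hgdef, Nat.gcd_eq_zero_iff] at h
          omega
        have h1 : g ≠ 1 := by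
          rw [hgdef]
          exact hc
        omega
      have hgN : g ∣ N := hgdef ▸ Nat.gcd_dvd_left N m
      have hgm : g ∣ m := hgdef ▸ Nat.gcd_dvd_right N m
      obtain ⟨N', hN'⟩ := hgN
      have hN'pos : 0 < N' := by
        rcases Nat.eq_zero_or_pos N' with h | h
        · rw [h, mul_zero] at hN'
          omega
        · exact h
      have hlt : N' < N := by
        calc N' = 1 * N' := (one_mul _).symm
          _ < g * N' := Nat.mul_lt_mul_of_pos_right hg hN'pos
          _ = N := hN'.symm
      obtain ⟨a', b', hab, ⟨j, hj⟩, hb⟩ := ih N' hlt hN'pos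
      refine ⟨g * a', b', ?_, ⟨j + 1, ?_⟩, hb⟩
      · rw [mul_assoc, ← hab]
        exact hN'
      · rw [pow_succ']
        exact Nat.mul_dvd_mul hgm hj

/-- splitting an element into its `m`-part and its `m'`-part -/
theorem exists_pi_split [Finite G] (m : ℕ) (c : G) :
    ∃ (t z : G) (j : ℕ), c = t * z ∧ t ∈ Subgroup.zpowers c ∧ z ∈ Subgroup.zpowers c ∧
      orderOf t ∣ m ^ j ∧ (orderOf z).Coprime m := by
  obtain ⟨a, b, hab, ⟨j, hj⟩, hb⟩ := exists_pi_decomp m (orderOf c) (orderOf_pos c)
  have hcop : b.Coprime a := Nat.Coprime.coprime_dvd_right hj (hb.pow_right j)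
  refine ⟨(c ^ b) ^ (Nat.gcdA b a), (c ^ a) ^ (Nat.gcdB b a), j, ItoTwo.pow_bezout c hcop,
    ?_, ?_, ?_, ?_⟩
  · exact Subgroup.zpow_mem _ (Subgroup.pow_mem _ (Subgroup.mem_zpowers c) _) _
  · exact Subgroup.zpow_mem _ (Subgroup.pow_mem _ (Subgroup.mem_zpowers c) _) _
  · apply dvd_trans _ hj
    apply orderOf_dvd_of_pow_eq_one
    rw [← zpow_natCast, ← zpow_mul, mul_comm, zpow_mul, zpow_natCast, ← pow_mul, mul_comm b a,
      ← hab, pow_orderOf_eq_one, one_zpow]
  · apply Nat.Coprime.coprime_dvd_left _ hb
    apply orderOf_dvd_of_pow_eq_one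
    rw [← zpow_natCast, ← zpow_mul, mul_comm, zpow_mul, zpow_natCast, ← pow_mul,
      ← hab, pow_orderOf_eq_one, one_zpow]

theorem eq_of_le_of_index_le [Finite G] {A B : Subgroup G} (h : A ≤ B) (hi : A.index ≤ B.index) :
    A = B := by
  apply le_antisymm h
  rw [← Subgroup.relIndex_eq_one]
  have h1 := Subgroup.relIndex_mul_index h
  have hB : 0 < B.index := Nat.pos_of_ne_zero Subgroup.index_ne_zero_of_finite
  have hA : 0 < A.index := Nat.pos_of_ne_zero Subgroup.index_ne_zero_of_finite
  rcases Nat.lt_or_ge (A.relIndex B) 2 with h | h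
  · rcases Nat.eq_zero_or_pos (A.relIndex B) with h0 | h0
    · rw [h0, zero_mul] at h1
      omega
    · omega
  · exfalso
    nlinarith

variable [Finite G] {m n : ℕ}

section top

variable (hyp : Hyp G m n)

include hyp

/-- an element of maximal class size: commuting elements of coprime order are central in its
centralizer -/
theorem centralizer_le_of_cs_eq_top (t w : G) (ht : cs t = m) (hw : t * w = w * t)
    (hcop : (orderOf t).Coprime (orderOf w)) :
    Subgroup.centralizer ({t} : Set G) ≤ Subgroup.centralizer ({w} : Set G) := by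
  have h1 := centralizer_mul_of_coprime t w hw hcop
  have h2 : Subgroup.centralizer ({t * w} : Set G) ≤ Subgroup.centralizer ({t} : Set G) := by
    rw [h1]
    exact inf_le_left
  have h3 : Subgroup.centralizer ({t * w} : Set G) = Subgroup.centralizer ({t} : Set G) := by
    apply eq_of_le_of_index_le h2
    have := hyp.htop (t * w)
    unfold cs at this ht
    omega
  rw [← h3, h1]
  exact inf_le_right

end top

section withx

variable (hyp : Hyp G m n) (y : G) (hy : cs y = m) (x : G) (hxL : x ∈ LL G m) (hx : cs x = n)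

include hyp hy hxL hx

theorem orderOf_x_dvd : orderOf x ∣ m :=
  dvd_trans (Subgroup.orderOf_dvd_natCard _ hxL) (card_LL_dvd hyp y hy)

theorem x_mem_UU : x ∈ UU G m := by
  rw [mem_UU, hx]
  exact hyp.hcop.symm

/-- **F6'** -/
theorem central_of_commute (w : G) (hw : w * x = x * w) (hwo : (orderOf w).Coprime m) :
    w ∈ Subgroup.center G := by
  have hcop : (orderOf x).Coprime (orderOf w) :=
    Nat.Coprime.coprime_dvd_left (orderOf_x_dvd hyp y hy x hxL hx) hwo.symm
  have h1 := centralizer_mul_of_coprime x w hw.symm hcop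
  have h2 : Subgroup.centralizer ({x * w} : Set G) ≤ Subgroup.centralizer ({x} : Set G) := by
    rw [h1]
    exact inf_le_left
  have h3 : n ∣ cs (x * w) := by
    have := Subgroup.index_dvd_of_le h2
    rwa [show (Subgroup.centralizer ({x} : Set G)).index = n from hx] at this
  have h4 : cs (x * w) = n := by
    have hpos := cs_pos (x * w)
    have hle := Nat.le_of_dvd hpos h3
    have htop := hyp.htop (x * w)
    rcases Nat.lt_or_ge (cs (x * w)) m with h | h
    · exact le_antisymm (hyp.hsecond _ h) hle
    · exfalso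
      have hm : cs (x * w) = m := le_antisymm htop h
      rw [hm] at h3
      have h5 : n ∣ Nat.gcd m n := Nat.dvd_gcd h3 dvd_rfl
      rw [hyp.hcop] at h5
      have := Nat.le_of_dvd Nat.one_pos h5
      have := hyp.hn
      omega
  have h5 : Subgroup.centralizer ({x * w} : Set G) = Subgroup.centralizer ({x} : Set G) := by
    apply eq_of_le_of_index_le h2
    unfold cs at h4 hx
    omega
  have h6 : Subgroup.centralizer ({x} : Set G) ≤ Subgroup.centralizer ({w} : Set G) := by
    rw [← h5, h1]
    exact inf_le_right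
  have h7 : cs w ∣ n := by
    have := Subgroup.index_dvd_of_le h6
    rwa [show (Subgroup.centralizer ({x} : Set G)).index = n from hx] at this
  have h8 : w ∈ UU G m := by
    rw [mem_UU]
    exact Nat.Coprime.coprime_dvd_left h7 hyp.hcop.symm
  obtain ⟨z, hz, l, hl, hwzl⟩ := UU_subset hyp y hy w h8
  have h9 : w ^ Nat.card (LL G m) ∈ Subgroup.center G := by
    have hzl : z * l = l * z := (Subgroup.mem_center_iff.1 hz l).symm
    rw [hwzl, (show Commute z l from hzl).mul_pow]
    have : l ^ Nat.card (LL G m) = 1 := by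
      have := pow_card_eq_one' (G := ↥(LL G m)) (x := ⟨l, hl⟩)
      exact congrArg Subtype.val this
    rw [this, mul_one]
    exact Subgroup.pow_mem _ hz _
  have h10 : (Nat.card (LL G m)).Coprime (orderOf w) :=
    Nat.Coprime.coprime_dvd_left (card_LL_dvd hyp y hy) hwo.symm
  apply mem_of_pow_mem_coprime _ w h10 h9
  rw [pow_orderOf_eq_one]
  exact Subgroup.one_mem _

/-- **F6''** `K / Z` is a `π`-group -/
theorem exists_pow_mem_center (k : G) (hk : k * x = x * k) :
    ∃ j : ℕ, k ^ (m ^ j) ∈ Subgroup.center G := by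
  obtain ⟨t, z, j, hktz, ht, hz, hto, hzo⟩ := exists_pi_split m k
  have hzc : z ∈ Subgroup.center G := by
    apply central_of_commute hyp y hy x hxL hx z _ hzo
    exact (commute_of_mem_zpowers hz hk.symm).symm
  refine ⟨j, ?_⟩
  have htz : t * z = z * t := Subgroup.mem_center_iff.1 hzc t
  rw [hktz, (show Commute t z from htz).mul_pow, orderOf_dvd_iff_pow_eq_one.1 hto, one_mul]
  exact Subgroup.pow_mem _ hzc _

/-- **F7** no element of `K` has class size `m` -/
theorem cs_le_of_commute (c : G) (hc : c * x = x * c) : cs c ≤ n := by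
  by_contra hcon
  have hcm : cs c = m := by
    rcases Nat.lt_or_ge (cs c) m with h | h
    · exact absurd (hyp.hsecond _ h) hcon
    · exact le_antisymm (hyp.htop c) h
  obtain ⟨t, z, j, hctz, ht, hz, hto, hzo⟩ := exists_pi_split m c
  have hzc : z ∈ Subgroup.center G := by
    apply central_of_commute hyp y hy x hxL hx z _ hzo
    exact (commute_of_mem_zpowers hz hc.symm).symm
  have htm : cs t = m := by
    rw [← hcm, hctz, cs_mul_central t z hzc]
  have htx : x * t = t * x := commute_of_mem_zpowers ht hc.symm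
  -- a prime divisor of `n`
  have hn1 : n ≠ 1 := by
    have := hyp.hn
    omega
  obtain ⟨p, hpdef⟩ : ∃ p, p = n.minFac := ⟨_, rfl⟩
  have hp : p.Prime := hpdef ▸ Nat.minFac_prime hn1
  have hpn : p ∣ n := hpdef ▸ Nat.minFac_dvd n
  have hpm : ¬ p ∣ m := by
    intro h
    have h5 : p ∣ Nat.gcd m n := Nat.dvd_gcd h hpn
    rw [hyp.hcop] at h5
    exact hp.one_lt.ne' (Nat.dvd_one.1 h5)
  haveI : Fact p.Prime := ⟨hp⟩
  -- `p` divides `|C(t) : Z|`
  set T := Subgroup.centralizer ({t} : Set G) with hT
  have hZT : Subgroup.center G ≤ T := Subgroup.center_le_centralizer _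
  have hZK : Subgroup.center G ≤ Subgroup.centralizer ({x} : Set G) :=
    Subgroup.center_le_centralizer _
  have h1 : n ∣ (Subgroup.center G).index := by
    have := Subgroup.index_dvd_of_le hZK
    rwa [show (Subgroup.centralizer ({x} : Set G)).index = n from hx] at this
  have h2 : (Subgroup.center G).relIndex T * m = (Subgroup.center G).index := by
    have := Subgroup.relIndex_mul_index hZT
    rwa [show T.index = m from htm] at this
  have h3 : p ∣ (Subgroup.center G).relIndex T := by
    have : p ∣ (Subgroup.center G).relIndex T * m := by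
      rw [h2]
      exact dvd_trans hpn h1
    rcases (Nat.Prime.dvd_mul hp).1 this with h | h
    · exact h
    · exact absurd h hpm
  -- Cauchy in `T / Z`
  have h4 : p ∣ Nat.card (↥T ⧸ (Subgroup.center G).subgroupOf T) := by
    rw [← Subgroup.index_eq_card]
    exact h3
  obtain ⟨gbar, hgbar⟩ := exists_prime_orderOf_dvd_card' p h4
  obtain ⟨g, rfl⟩ := QuotientGroup.mk_surjective gbar
  have hg1 : (g : G) ∉ Subgroup.center G := by
    intro h
    have : (QuotientGroup.mk g : ↥T ⧸ (Subgroup.center G).subgroupOf T) = 1 := by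
      rw [QuotientGroup.eq_one_iff, Subgroup.mem_subgroupOf]
      exact h
    rw [this, orderOf_one] at hgbar
    exact hp.one_lt.ne hgbar
  have hg2 : (g : G) ^ p ∈ Subgroup.center G := by
    have : (QuotientGroup.mk g : ↥T ⧸ (Subgroup.center G).subgroupOf T) ^ p = 1 := by
      rw [← hgbar]
      exact pow_orderOf_eq_one _
    rw [← QuotientGroup.mk_pow, QuotientGroup.eq_one_iff, Subgroup.mem_subgroupOf] at this
    exact this
  -- the `π'`-part of `g`
  obtain ⟨t', w, j', hgtw, ht', hw, hto', hwo⟩ := exists_pi_split m (g : G)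
  have hwZ : w ∉ Subgroup.center G := by
    intro hwz
    apply hg1
    -- `g^p ∈ Z` and `g^(m^j') ∈ Z`
    have hcop : p.Coprime (m ^ j') :=
      ((Nat.Prime.coprime_iff_not_dvd hp).2 hpm).pow_right j'
    apply mem_of_pow_mem_coprime _ _ hcop hg2
    have htw : t' * w = w * t' := Subgroup.mem_center_iff.1 hwz t'
    rw [hgtw, (show Commute t' w from htw).mul_pow, orderOf_dvd_iff_pow_eq_one.1 hto', one_mul]
    exact Subgroup.pow_mem _ hwz _
  have hwt : t * w = w * t := by
    have hgt : t * (g : G) = (g : G) * t := ((mem_centralizer_singleton t (g : G)).1 g.2).symm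
    exact commute_of_mem_zpowers hw hgt
  have hcop : (orderOf t).Coprime (orderOf w) := by
    apply Nat.Coprime.coprime_dvd_left hto
    exact (hwo.pow_right j).symm
  have h5 := centralizer_le_of_cs_eq_top hyp t w htm hwt hcop
  have h6 : x ∈ Subgroup.centralizer ({w} : Set G) := by
    apply h5
    rw [mem_centralizer_singleton]
    exact htx
  rw [mem_centralizer_singleton] at h6
  exact hwZ (central_of_commute hyp y hy x hxL hx w h6.symm hwo)

/-- **F8** -/
theorem cases_of_coprime (g : G) (hg : (cs g).Coprime n) :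
    (∃ z ∈ Subgroup.center G, ∃ l ∈ LL G m, g = z * l) ∨ cs g = m := by
  have hcop : (cs g).Coprime (cs x) := by rwa [hx]
  have h1 := cs_le_cs_mul_right g x hcop
  rw [hx] at h1
  rcases Nat.lt_or_ge (cs (g * x)) m with h | h
  · left
    have h2 : cs (g * x) = n := le_antisymm (hyp.hsecond _ h) h1
    have h3 : g * x ∈ UU G m := by
      rw [mem_UU, h2]
      exact hyp.hcop.symm
    obtain ⟨z, hz, l, hl, hgx⟩ := UU_subset hyp y hy (g * x) h3
    refine ⟨z, hz, l * x⁻¹, (LL G m).mul_mem hl ((LL G m).inv_mem hxL), ?_⟩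
    calc g = g * x * x⁻¹ := by group
      _ = z * l * x⁻¹ := by rw [hgx]
      _ = z * (l * x⁻¹) := by group
  · right
    have h2 : cs (g * x) = m := le_antisymm (hyp.htop _) h
    have h3 := cs_mul_LL hyp (g * x) h2 x⁻¹ ((LL G m).inv_mem hxL)
    rwa [mul_inv_cancel_right] at h3

end withx

end Cfsg.Agent.H2.CC
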