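import Mathlib
import Cfsg.Agent.H2.CC2

/-!
# S4138: the two largest class sizes coprime, Part III

Elements of class size `m`: none is a `π`-element, each has the centralizer of a `π'`-element of
class size `m`; for such a `y`, `C(x) ∩ C(y) = Z(G)` and `|G : Z(G)| = m n`.
-/

set_option autoImplicit false
set_option linter.unusedSectionVars false
set_option linter.style.haveILetI false

namespace Cfsg.Agent.H2.CC

open Cfsg.Agent.H2.ClassProd Cfsg.Agent.H2.ClassFar

variable {G : Type*} [Group G] [Finite G] {m n : ℕ}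

section withy

variable (hyp : Hyp G m n) (y : G) (hy : cs y = m)

include hyp hy

theorem pow_card_LL_eq_one (l : G) (hl : l ∈ LL G m) : l ^ Nat.card (LL G m) = 1 := by
  have := pow_card_eq_one' (G := ↥(LL G m)) (x := ⟨l, hl⟩)
  exact congrArg Subtype.val this

/-- `C_L(y) = 1` for a `π'`-element `y` of class size `m` -/
theorem LL_inf_centralizer (hyo : (orderOf y).Coprime m) (l : G) (hl : l ∈ LL G m)
    (hly : l * y = y * l) : l = 1 := by
  have h1 : y * l ∈ cl y := cl_mul_LL hyp y hy y (self_mem_cl y) l hl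
  obtain ⟨g, hg⟩ := h1
  have h2 : (y * l) ^ orderOf y = 1 := by
    rw [hg, conj_pow, pow_orderOf_eq_one, mul_one, mul_inv_cancel]
  rw [(show Commute y l from hly.symm).mul_pow, pow_orderOf_eq_one, one_mul] at h2
  have h3 := pow_card_LL_eq_one hyp y hy l hl
  have h4 : (orderOf y).Coprime (Nat.card (LL G m)) :=
    Nat.Coprime.coprime_dvd_right (card_LL_dvd hyp y hy) hyo
  have := mem_of_pow_mem_coprime (⊥ : Subgroup G) l h4 (by rw [h2]; exact Subgroup.one_mem _)
    (by rw [h3]; exact Subgroup.one_mem _)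
  exact Subgroup.mem_bot.1 this

end withy

section withx

variable (hyp : Hyp G m n) (y : G) (hy : cs y = m) (x : G) (hxL : x ∈ LL G m) (hx : cs x = n)

include hyp hy hxL hx

/-- **F10'** no `π`-element has class size `m` -/
theorem not_pi_of_cs_eq_top (t : G) (ht : cs t = m) (j : ℕ) (hto : orderOf t ∣ m ^ j) : False := by
  obtain ⟨T, hT⟩ : ∃ T, T = Subgroup.centralizer ({t} : Set G) := ⟨_, rfl⟩
  obtain ⟨K, hK⟩ : ∃ K, K = Subgroup.centralizer ({x} : Set G) := ⟨_, rfl⟩
  have hTi : T.index = m := by rw [hT]; exact ht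
  have hKi : K.index = n := by rw [hK]; exact hx
  have hcop : T.index.Coprime K.index := by rw [hTi, hKi]; exact hyp.hcop
  have h1 : (T ⊓ K).index = m * n := by rw [index_inf_of_coprime T K hcop, hTi, hKi]
  have hm : 0 < m := by
    have := hyp.hmn
    omega
  have h2 : K.relIndex T = n := by
    have h3 := Subgroup.relIndex_mul_index (inf_le_left : T ⊓ K ≤ T)
    rw [Subgroup.inf_relIndex_left, hTi, h1, mul_comm m n] at h3
    exact Nat.eq_of_mul_eq_mul_right hm h3
  have htT : t ∈ T := by rw [hT, mem_centralizer_singleton]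
  have hcen : ∀ g : ↥T, g * (⟨t, htT⟩ : ↥T) = ⟨t, htT⟩ * g := by
    intro g
    apply Subtype.ext
    have hg : (g : G) ∈ T := g.2
    have := hT.le hg
    rw [mem_centralizer_singleton] at this
    exact this
  haveI : (Subgroup.zpowers (⟨t, htT⟩ : ↥T)).Normal := by
    constructor
    intro a ha g
    have : g * a = a * g := commute_of_mem_zpowers ha (hcen g)
    rw [this, mul_inv_cancel_right]
    exact ha
  have h4 : (K.subgroupOf T).relIndex (Subgroup.zpowers (⟨t, htT⟩ : ↥T)) ∣ n := by
    have := relIndex_dvd_index_of_normal' (K.subgroupOf T) (Subgroup.zpowers (⟨t, htT⟩ : ↥T))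
    rwa [show (K.subgroupOf T).index = n from h2] at this
  have h5 : (K.subgroupOf T).relIndex (Subgroup.zpowers (⟨t, htT⟩ : ↥T)) ∣ m ^ j := by
    apply dvd_trans (Subgroup.relIndex_dvd_card _ _)
    rw [Nat.card_zpowers, Subgroup.orderOf_mk]
    exact hto
  have h6 : (K.subgroupOf T).relIndex (Subgroup.zpowers (⟨t, htT⟩ : ↥T)) = 1 := by
    have hc : Nat.gcd (m ^ j) n = 1 := hyp.hcop.pow_left j
    have := Nat.dvd_gcd h5 h4
    rw [hc] at this
    exact Nat.dvd_one.1 this
  rw [Subgroup.relIndex_eq_one] at h6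
  have h7 : (⟨t, htT⟩ : ↥T) ∈ K.subgroupOf T := h6 (Subgroup.mem_zpowers _)
  rw [Subgroup.mem_subgroupOf, hK, mem_centralizer_singleton] at h7
  have h8 := cs_le_of_commute hyp y hy x hxL hx t h7
  rw [ht] at h8
  exact absurd hyp.hmn (not_lt.2 h8)

/-- **F11** every element of class size `m` has the centralizer of a `π'`-element -/
theorem exists_normalized (y' : G) (hy' : cs y' = m) :
    ∃ y₀ : G, cs y₀ = m ∧ (orderOf y₀).Coprime m ∧
      Subgroup.centralizer ({y₀} : Set G) = Subgroup.centralizer ({y'} : Set G) := by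
  obtain ⟨t, w, j, hytw, ht, hw, hto, hwo⟩ := exists_pi_split m y'
  have hle : ∀ s ∈ Subgroup.zpowers y', Subgroup.centralizer ({y'} : Set G) ≤
      Subgroup.centralizer ({s} : Set G) := by
    intro s hs g hg
    rw [mem_centralizer_singleton] at hg ⊢
    exact commute_of_mem_zpowers hs hg
  have h1 : cs t ∣ m := by
    have := Subgroup.index_dvd_of_le (hle t ht)
    rwa [show (Subgroup.centralizer ({y'} : Set G)).index = m from hy'] at this
  have h2 : (cs t).Coprime n := Nat.Coprime.coprime_dvd_left h1 hyp.hcop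
  rcases cases_of_coprime hyp y hy x hxL hx t h2 with ⟨z, hz, l, hl, htzl⟩ | h3
  · have hzi : z⁻¹ ∈ Subgroup.center G := Subgroup.inv_mem _ hz
    have h4 : w = (l⁻¹ * y') * z⁻¹ := by
      calc w = t⁻¹ * (t * w) := by group
        _ = (z * l)⁻¹ * y' := by rw [← hytw, htzl]
        _ = l⁻¹ * (z⁻¹ * y') := by group
        _ = l⁻¹ * (y' * z⁻¹) := by rw [Subgroup.mem_center_iff.1 hzi y']
        _ = (l⁻¹ * y') * z⁻¹ := by group
    have h5 : cs w = m := by
      rw [h4, cs_mul_central _ _ hzi]
      exact cs_LL_mul hyp y' hy' l⁻¹ ((LL G m).inv_mem hl)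
    refine ⟨w, h5, hwo, ?_⟩
    symm
    apply eq_of_le_of_index_le (hle w hw)
    rw [show (Subgroup.centralizer ({y'} : Set G)).index = m from hy',
      show (Subgroup.centralizer ({w} : Set G)).index = m from h5]
  · exact (not_pi_of_cs_eq_top hyp y hy x hxL hx t h3 j hto).elim

/-- **F12** -/
theorem inf_centralizer_le_center (hyo : (orderOf y).Coprime m) :
    Subgroup.centralizer ({x} : Set G) ⊓ Subgroup.centralizer ({y} : Set G) ≤
      Subgroup.center G := by
  intro d hd
  rw [Subgroup.mem_inf, mem_centralizer_singleton, mem_centralizer_singleton] at hd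
  obtain ⟨hdx, hdy⟩ := hd
  obtain ⟨t, z, j, hdtz, ht, hz, hto, hzo⟩ := exists_pi_split m d
  have hzc : z ∈ Subgroup.center G :=
    central_of_commute hyp y hy x hxL hx z (commute_of_mem_zpowers hz hdx.symm).symm hzo
  have hty : y * t = t * y := commute_of_mem_zpowers ht hdy.symm
  have htx : x * t = t * x := commute_of_mem_zpowers ht hdx.symm
  have hcop : (orderOf y).Coprime (orderOf t) :=
    Nat.Coprime.coprime_dvd_right hto (hyo.pow_right j)
  have h1 := centralizer_le_of_cs_eq_top hyp y t hy hty hcop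
  have h2 : n ≤ cs (t * x) := by
    rw [← hx, ← card_cl, ← card_cl]
    have hcopxy : (cs x).Coprime (cs y) := by rw [hx, hy]; exact hyp.hcop.symm
    have hf : ∀ w : cl x, t * (w : G) ∈ cl (t * x) := by
      rintro ⟨_, g, rfl⟩
      obtain ⟨k, hk, hgk⟩ := conj_eq_conj_of_coprime x y hcopxy g
      have hkt : k * t = t * k := (mem_centralizer_singleton t k).1 (h1 hk)
      refine ⟨k, ?_⟩
      show t * (g * x * g⁻¹) = k * (t * x) * k⁻¹
      rw [hgk]
      calc t * (k * x * k⁻¹) = (t * k) * x * k⁻¹ := by group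
        _ = (k * t) * x * k⁻¹ := by rw [hkt]
        _ = k * (t * x) * k⁻¹ := by group
    apply Nat.card_le_card_of_injective (fun w : cl x => (⟨t * (w : G), hf w⟩ : cl (t * x)))
    intro w w' hww
    have := congrArg Subtype.val hww
    simp only at this
    exact Subtype.ext (mul_left_cancel this)
  have h3 : cs (t * x) ≤ n := by
    apply cs_le_of_commute hyp y hy x hxL hx (t * x)
    rw [← mul_assoc x t x, htx]
  have h4 : cs (t * x) = n := le_antisymm h3 h2
  have h5 : t * x ∈ UU G m := by
    rw [mem_UU, h4]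
    exact hyp.hcop.symm
  obtain ⟨z', hz', l, hl, htx'⟩ := UU_subset hyp y hy (t * x) h5
  obtain ⟨l', hl'⟩ : ∃ l', l' = l * x⁻¹ := ⟨_, rfl⟩
  have hl'L : l' ∈ LL G m := hl' ▸ (LL G m).mul_mem hl ((LL G m).inv_mem hxL)
  have ht' : t = z' * l' := by
    calc t = t * x * x⁻¹ := by group
      _ = z' * l * x⁻¹ := by rw [htx']
      _ = z' * (l * x⁻¹) := by group
      _ = z' * l' := by rw [hl']
  have hl'y : l' * y = y * l' := by
    have h6 : l' = z'⁻¹ * t := by rw [ht']; group
    rw [h6]
    calc z'⁻¹ * t * y = z'⁻¹ * (t * y) := by group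
      _ = z'⁻¹ * (y * t) := by rw [hty]
      _ = (z'⁻¹ * y) * t := by group
      _ = (y * z'⁻¹) * t := by rw [Subgroup.mem_center_iff.1 (Subgroup.inv_mem _ hz') y]
      _ = y * (z'⁻¹ * t) := by group
  have hl1 : l' = 1 := LL_inf_centralizer hyp y hy hyo l' hl'L hl'y
  rw [hl1, mul_one] at ht'
  rw [hdtz, ht']
  exact Subgroup.mul_mem _ hz' hzc

theorem inf_centralizer_eq_center (hyo : (orderOf y).Coprime m) :
    Subgroup.centralizer ({x} : Set G) ⊓ Subgroup.centralizer ({y} : Set G) =
      Subgroup.center G :=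
  le_antisymm (inf_centralizer_le_center hyp y hy x hxL hx hyo)
    (le_inf (Subgroup.center_le_centralizer _) (Subgroup.center_le_centralizer _))

theorem index_center (hyo : (orderOf y).Coprime m) : (Subgroup.center G).index = m * n := by
  have hcop : (Subgroup.centralizer ({x} : Set G)).index.Coprime
      (Subgroup.centralizer ({y} : Set G)).index := by
    rw [show (Subgroup.centralizer ({x} : Set G)).index = n from hx,
      show (Subgroup.centralizer ({y} : Set G)).index = m from hy]
    exact hyp.hcop.symm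
  rw [← inf_centralizer_eq_center hyp y hy x hxL hx hyo, index_inf_of_coprime _ _ hcop,
    show (Subgroup.centralizer ({x} : Set G)).index = n from hx,
    show (Subgroup.centralizer ({y} : Set G)).index = m from hy, mul_comm]

theorem relIndex_center_x (hyo : (orderOf y).Coprime m) :
    (Subgroup.center G).relIndex (Subgroup.centralizer ({x} : Set G)) = m := by
  have h1 := Subgroup.relIndex_mul_index
    (Subgroup.center_le_centralizer ({x} : Set G))
  rw [index_center hyp y hy x hxL hx hyo,
    show (Subgroup.centralizer ({x} : Set G)).index = n from hx] at h1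
  have hn : 0 < n := by
    have := hyp.hn
    omega
  exact Nat.eq_of_mul_eq_mul_right hn h1

theorem relIndex_center_y (hyo : (orderOf y).Coprime m) :
    (Subgroup.center G).relIndex (Subgroup.centralizer ({y} : Set G)) = n := by
  have h1 := Subgroup.relIndex_mul_index
    (Subgroup.center_le_centralizer ({y} : Set G))
  rw [index_center hyp y hy x hxL hx hyo,
    show (Subgroup.centralizer ({y} : Set G)).index = m from hy, mul_comm m n] at h1
  have hm : 0 < m := by
    have := hyp.hmn
    omega
  exact Nat.eq_of_mul_eq_mul_right hm h1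

end withx

end Cfsg.Agent.H2.CC
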