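import Mathlib
import Cfsg.Agent.H2.CC3

/-!
# S4138: the two largest class sizes coprime, Part V (glue)

Given that every non-central element of `H = C(y)` has class size `m` (Part IV): `K = C(x) = Z L` is
abelian and normal, and `C_H(k) = Z` for `k ∈ K ∖ Z`.
-/

set_option autoImplicit false
set_option linter.unusedSectionVars false
set_option linter.style.haveILetI false

namespace Cfsg.Agent.H2.CC

open Cfsg.Agent.H2.ClassProd Cfsg.Agent.H2.ClassFar

variable {G : Type*} [Group G] [Finite G] {m n : ℕ}

/-- `k ^ |C : Z| ∈ Z` for `k ∈ C` -/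
theorem pow_relIndex_center_mem (C : Subgroup G) (k : G) (hk : k ∈ C) :
    k ^ (Subgroup.center G).relIndex C ∈ Subgroup.center G := by
  have := Subgroup.pow_index_mem ((Subgroup.center G).subgroupOf C) (⟨k, hk⟩ : ↥C)
  rw [Subgroup.mem_subgroupOf] at this
  exact this

section final

variable (hyp : Hyp G m n) (y : G) (hy : cs y = m) (hyo : (orderOf y).Coprime m)
  (x : G) (hxL : x ∈ LL G m) (hx : cs x = n)
  (hcsH : ∀ h : G, h * y = y * h → h ∉ Subgroup.center G → cs h = m)

include hyp hy hyo hxL hx hcsH

/-- **R2** -/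
theorem R2 (k : G) (hk : k * x = x * k) (hkZ : k ∉ Subgroup.center G) (h : G)
    (hh : h * y = y * h) (hhk : h * k = k * h) : h ∈ Subgroup.center G := by
  by_contra hhZ
  have h1 := hcsH h hh hhZ
  have hm : 0 < m := by
    have := hyp.hmn
    omega
  have h2 : (Subgroup.center G).relIndex (Subgroup.centralizer ({h} : Set G)) = n := by
    have h3 := Subgroup.relIndex_mul_index (Subgroup.center_le_centralizer ({h} : Set G))
    rw [index_center hyp y hy x hxL hx hyo,
      show (Subgroup.centralizer ({h} : Set G)).index = m from h1, mul_comm m n] at h3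
    exact Nat.eq_of_mul_eq_mul_right hm h3
  have h3 : k ^ n ∈ Subgroup.center G := by
    have hkC : k ∈ Subgroup.centralizer ({h} : Set G) := by
      rw [mem_centralizer_singleton]
      exact hhk.symm
    have := pow_relIndex_center_mem _ k hkC
    rwa [h2] at this
  obtain ⟨j, hj⟩ := exists_pow_mem_center hyp y hy x hxL hx k hk
  exact hkZ (mem_of_pow_mem_coprime _ k (hyp.hcop.pow_left j).symm h3 hj)

/-- `K ⊆ Z L` -/
theorem mem_ZL_of_commute (k : G) (hk : k * x = x * k) :
    ∃ z ∈ Subgroup.center G, ∃ l ∈ LL G m, k = z * l := by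
  by_cases hkZ : k ∈ Subgroup.center G
  · exact ⟨k, hkZ, 1, Subgroup.one_mem _, (mul_one k).symm⟩
  · have h1 : Subgroup.centralizer ({k} : Set G) ⊓ Subgroup.centralizer ({y} : Set G) ≤
        Subgroup.center G := by
      intro h hh
      rw [Subgroup.mem_inf, mem_centralizer_singleton, mem_centralizer_singleton] at hh
      exact R2 hyp y hy hyo x hxL hx hcsH k hk hkZ h hh.2 hh.1
    have h2 : n ≤ cs k := by
      have h3 := Subgroup.index_dvd_of_le h1
      have h4 := Subgroup.index_inf_le (H := Subgroup.centralizer ({k} : Set G))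
        (K := Subgroup.centralizer ({y} : Set G))
      rw [index_center hyp y hy x hxL hx hyo] at h3
      have hpos : 0 < (Subgroup.centralizer ({k} : Set G) ⊓
          Subgroup.centralizer ({y} : Set G)).index :=
        Nat.pos_of_ne_zero Subgroup.index_ne_zero_of_finite
      have h5 := Nat.le_of_dvd hpos h3
      rw [show (Subgroup.centralizer ({y} : Set G)).index = m from hy] at h4
      have hm : 0 < m := by
        have := hyp.hmn
        omega
      have h6 : m * n ≤ (Subgroup.centralizer ({k} : Set G)).index * m := le_trans h5 h4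
      rw [mul_comm m n] at h6
      exact Nat.le_of_mul_le_mul_right h6 hm
    have h5 : cs k = n := le_antisymm (cs_le_of_commute hyp y hy x hxL hx k hk) h2
    exact UU_subset hyp y hy k (by rw [mem_UU, h5]; exact hyp.hcop.symm)

/-- `K` is abelian -/
theorem centralizer_x_comm (a b : G) (ha : a * x = x * a) (hb : b * x = x * b) :
    a * b = b * a := by
  obtain ⟨z, hz, l, hl, rfl⟩ := mem_ZL_of_commute hyp y hy hyo x hxL hx hcsH a ha
  obtain ⟨z', hz', l', hl', rfl⟩ := mem_ZL_of_commute hyp y hy hyo x hxL hx hcsH b hb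
  have hll := LL_comm hyp y hy l l' hl hl'
  have hzc := Subgroup.mem_center_iff.1 hz
  have hzc' := Subgroup.mem_center_iff.1 hz'
  calc z * l * (z' * l') = z * (l * z') * l' := by group
    _ = z * (z' * l) * l' := by rw [hzc' l]
    _ = (z * z') * (l * l') := by group
    _ = (z' * z) * (l' * l) := by rw [hzc' z, hll]
    _ = z' * (z * l') * l := by group
    _ = z' * (l' * z) * l := by rw [hzc l']
    _ = z' * l' * (z * l) := by group

/-- `K` is normal -/
theorem centralizer_x_normal : (Subgroup.centralizer ({x} : Set G)).Normal := by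
  constructor
  intro k hk g
  rw [mem_centralizer_singleton] at hk ⊢
  obtain ⟨z, hz, l, hl, rfl⟩ := mem_ZL_of_commute hyp y hy hyo x hxL hx hcsH k hk
  have h1 : g * l * g⁻¹ ∈ LL G m := (LL_normal m).conj_mem l hl g
  have h2 := (mem_centralizer_singleton x _).1
    (LL_le_centralizer hyp y hy x (x_mem_UU hyp y hy x hxL hx) h1)
  have hzc := Subgroup.mem_center_iff.1 hz
  have h3 : g * (z * l) * g⁻¹ = z * (g * l * g⁻¹) := by
    calc g * (z * l) * g⁻¹ = (g * z) * l * g⁻¹ := by group
      _ = (z * g) * l * g⁻¹ := by rw [hzc g]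
      _ = z * (g * l * g⁻¹) := by group
  rw [h3]
  calc z * (g * l * g⁻¹) * x = z * ((g * l * g⁻¹) * x) := by group
    _ = z * (x * (g * l * g⁻¹)) := by rw [h2]
    _ = (z * x) * (g * l * g⁻¹) := by group
    _ = (x * z) * (g * l * g⁻¹) := by rw [hzc x]
    _ = x * (z * (g * l * g⁻¹)) := by group

end final

end Cfsg.Agent.H2.CC
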