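import Mathlib
import Cfsg.Prelude.Def_Solvable
import Cfsg.Agent.H2.CC4

/-!
# S4138: the two largest class sizes coprime, assembly

The statement, from Part IV (`hP5`) and the Frobenius packaging (`hP6`).
-/

set_option autoImplicit false
set_option linter.unusedSectionVars false
set_option linter.style.haveILetI false

namespace Cfsg.Agent.H2.CC

open Cfsg.Agent.H2.ClassProd Cfsg.Agent.H2.ClassFar

variable {G : Type*} [Group G] [Finite G] {m n : ℕ}

theorem main_of (hyp : Hyp G m n)
    (hP5 : ∀ y : G, cs y = m → ∀ x : G, x ∈ LL G m →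
      Subgroup.centralizer ({x} : Set G) ⊓ Subgroup.centralizer ({y} : Set G) ≤
        Subgroup.center G →
      (∀ l ∈ LL G m, l * y = y * l → l = 1) →
      (Subgroup.center G).relIndex (Subgroup.centralizer ({y} : Set G)) = n →
      ∀ h : G, h * y = y * h → h ∉ Subgroup.center G → cs h = m)
    (hP6 : ∀ K H : Subgroup G, K.Normal → (∀ a ∈ K, ∀ b ∈ K, a * b = b * a) →
      Subgroup.center G ≤ K → Subgroup.center G ≤ H → K ⊓ H = Subgroup.center G →
      (Subgroup.center G).relIndex K = m → (Subgroup.center G).relIndex H = n →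
      (Subgroup.center G).index = m * n →
      (∀ k ∈ K, k ∉ Subgroup.center G → ∀ h ∈ H, h * k = k * h → h ∈ Subgroup.center G) →
      (∀ h ∈ H, h ∉ Subgroup.center G → (Subgroup.centralizer ({h} : Set G)).index = m) →
      (∀ a ∈ H, ∀ b ∈ H, a * b = b * a) ∧
      Cfsg.IsFrobeniusComplement (H.map (QuotientGroup.mk' (Subgroup.center G))) ∧
      Cfsg.frobeniusKernel (H.map (QuotientGroup.mk' (Subgroup.center G))) =
        ((K.map (QuotientGroup.mk' (Subgroup.center G)) : Subgroup (G ⧸ Subgroup.center G)) :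
          Set (G ⧸ Subgroup.center G)))
    (x y : G) (hx : cs x = n) (hy : cs y = m) :
    IsMulCommutative (Subgroup.centralizer ({x} : Set G)) ∧
    IsMulCommutative (Subgroup.centralizer ({y} : Set G)) ∧
    Cfsg.IsFrobeniusComplement
      ((Subgroup.centralizer ({y} : Set G)).map (QuotientGroup.mk' (Subgroup.center G))) ∧
    Cfsg.frobeniusKernel
      ((Subgroup.centralizer ({y} : Set G)).map (QuotientGroup.mk' (Subgroup.center G))) =
      ((Subgroup.centralizer ({x} : Set G)).map (QuotientGroup.mk' (Subgroup.center G)) :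
        Set (G ⧸ Subgroup.center G)) := by
  -- normalize `x`
  have hxU : x ∈ UU G m := by
    rw [mem_UU, hx]
    exact hyp.hcop.symm
  obtain ⟨z, hz, l, hl, hxzl⟩ := UU_subset hyp y hy x hxU
  have hCx : Subgroup.centralizer ({x} : Set G) = Subgroup.centralizer ({l} : Set G) := by
    rw [hxzl, ← Subgroup.mem_center_iff.1 hz l]
    exact centralizer_mul_central l z hz
  have hl_cs : cs l = n := by
    unfold cs
    rw [← hCx]
    exact hx
  -- normalize `y`
  obtain ⟨y₀, hy₀, hy₀o, hCy⟩ := exists_normalized hyp y hy l hl hl_cs y hy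
  have hKH := inf_centralizer_eq_center hyp y₀ hy₀ l hl hl_cs hy₀o
  have hcsH := hP5 y₀ hy₀ l hl hKH.le (LL_inf_centralizer hyp y₀ hy₀ hy₀o)
    (relIndex_center_y hyp y₀ hy₀ l hl hl_cs hy₀o)
  have hnormal := centralizer_x_normal hyp y₀ hy₀ hy₀o l hl hl_cs hcsH
  have hcomm := centralizer_x_comm hyp y₀ hy₀ hy₀o l hl hl_cs hcsH
  have h6 := hP6 (Subgroup.centralizer ({l} : Set G)) (Subgroup.centralizer ({y₀} : Set G))
    hnormal
    (fun a ha b hb => hcomm a b ((mem_centralizer_singleton l a).1 ha)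
      ((mem_centralizer_singleton l b).1 hb))
    (Subgroup.center_le_centralizer _) (Subgroup.center_le_centralizer _) hKH
    (relIndex_center_x hyp y₀ hy₀ l hl hl_cs hy₀o)
    (relIndex_center_y hyp y₀ hy₀ l hl hl_cs hy₀o)
    (index_center hyp y₀ hy₀ l hl hl_cs hy₀o)
    (fun k hk hkZ h hh hhk => R2 hyp y₀ hy₀ hy₀o l hl hl_cs hcsH k
      ((mem_centralizer_singleton l k).1 hk) hkZ h ((mem_centralizer_singleton y₀ h).1 hh) hhk)
    (fun h hh hhZ => hcsH h ((mem_centralizer_singleton y₀ h).1 hh) hhZ)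
  rw [hCx, ← hCy]
  refine ⟨⟨⟨fun a b => Subtype.ext (hcomm a b ((mem_centralizer_singleton l a).1 a.2)
    ((mem_centralizer_singleton l b).1 b.2))⟩⟩,
    ⟨⟨fun a b => Subtype.ext (h6.1 a a.2 b b.2)⟩⟩, h6.2.1, h6.2.2⟩

end Cfsg.Agent.H2.CC
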