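import Mathlib
import Cfsg.Agent.H2.CC4
import Cfsg.Agent.Lib.Helper5.CountTrick

/-!
# S4138: the two largest class sizes coprime, Part IV (glue)

Every non-central element of `H = C(y)` has class size `m`, from the counting trick.
-/

set_option autoImplicit false
set_option linter.unusedSectionVars false
set_option linter.style.haveILetI false

namespace Cfsg.Agent.H2.CC

open Cfsg.Agent.H2.ClassProd Cfsg.Agent.H2.ClassFar

variable {G : Type*} [Group G] [Finite G] {m n : ℕ}

theorem cs_eq_of_commute_of_not_center (hyp : Hyp G m n) (y : G) (hy : cs y = m) (x : G)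
    (hxL : x ∈ LL G m)
    (hKH : Subgroup.centralizer ({x} : Set G) ⊓ Subgroup.centralizer ({y} : Set G) ≤
      Subgroup.center G)
    (hLH : ∀ l ∈ LL G m, l * y = y * l → l = 1)
    (hH : (Subgroup.center G).relIndex (Subgroup.centralizer ({y} : Set G)) = n)
    (h : G) (hh : h * y = y * h) (hhZ : h ∉ Subgroup.center G) : cs h = m := by
  by_contra hne
  obtain ⟨t, w, j, hhtw, ht, hw, hto, hwo⟩ := exists_pi_split m h
  have hhH : h ∈ Subgroup.centralizer ({y} : Set G) := (mem_centralizer_singleton y h).2 hh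
  have h1 : h ^ n ∈ Subgroup.center G := by
    have := pow_relIndex_center_mem _ h hhH
    rwa [hH] at this
  have htZ : t ∈ Subgroup.center G := by
    obtain ⟨k, rfl⟩ := Subgroup.mem_zpowers_iff.1 ht
    have h2 : (h ^ k) ^ n ∈ Subgroup.center G := by
      rw [← zpow_natCast, ← zpow_mul, mul_comm, zpow_mul, zpow_natCast]
      exact Subgroup.zpow_mem _ h1 _
    apply mem_of_pow_mem_coprime _ _ (hyp.hcop.pow_left j).symm h2
    rw [orderOf_dvd_iff_pow_eq_one.1 hto]
    exact Subgroup.one_mem _
  have htw : t * w = w * t := (Subgroup.mem_center_iff.1 htZ w).symm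
  have hwZ : w ∉ Subgroup.center G := fun hw' => hhZ (hhtw ▸ Subgroup.mul_mem _ htZ hw')
  have hcsw : cs w = cs h := by
    rw [hhtw, htw, cs_mul_central w t htZ]
  have hwH : w ∈ Subgroup.centralizer ({y} : Set G) := by
    rw [mem_centralizer_singleton]
    exact (commute_of_mem_zpowers hw hh.symm).symm
  have hcop : (orderOf w).Coprime (Nat.card (LL G m)) :=
    Nat.Coprime.coprime_dvd_right (card_LL_dvd hyp y hy) hwo
  apply Cfsg.Agent.Lib.Helper5.CountTrick.counting_trick (LL G m)
    (Subgroup.centralizer ({y} : Set G)) (fun a ha b hb => LL_comm hyp y hy a b ha hb)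
    (Subgroup.center_le_centralizer _) ?_ x hxL ?_ w hwH hwZ hcop ?_
  · rw [eq_bot_iff]
    intro l hl
    rw [Subgroup.mem_inf, mem_centralizer_singleton] at hl
    exact Subgroup.mem_bot.2 (hLH l hl.1 hl.2)
  · rw [inf_comm]
    exact hKH
  · intro v hv hvw
    rw [hH]
    by_contra hcon
    have hcon' : n < cs (v * w) := not_le.1 hcon
    have h3 : cs (v * w) = m := by
      rcases Nat.lt_or_ge (cs (v * w)) m with h' | h'
      · exact absurd (hyp.hsecond _ h') (not_le.2 hcon')
      · exact le_antisymm (hyp.htop _) h'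
    have h4 := cs_LL_mul hyp (v * w) h3 v⁻¹ ((LL G m).inv_mem hv)
    rw [inv_mul_cancel_left] at h4
    exact hne (hcsw ▸ h4)

end Cfsg.Agent.H2.CC
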