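import Mathlib
import Cfsg.Prelude.Def_Solvable
import Cfsg.Agent.S0034
import Cfsg.Agent.H2.CC4

/-!
# S4138: the Frobenius packaging

`K` normal, `H` with `K ∩ H = Z(G)`, `|K : Z| = m`, `|H : Z| = n` coprime, `|G : Z| = m n`,
`C_H(k) = Z` for `k ∈ K ∖ Z`, and `|G : C(h)| = m` for `h ∈ H ∖ Z`: then `H` is abelian, `H / Z` is a
Frobenius complement in `G / Z` with kernel `K / Z`.
-/

set_option autoImplicit false
set_option linter.unusedSectionVars false
set_option linter.style.haveILetI false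

namespace Cfsg.Agent.H2.CC

open Cfsg.Agent.H2.ClassProd Cfsg.Agent.H2.ClassFar

open scoped Pointwise

variable {G : Type*} [Group G]

theorem central_conj {z : G} (hz : z ∈ Subgroup.center G) (g : G) : z * g * z⁻¹ = g := by
  rw [← Subgroup.mem_center_iff.1 hz g, mul_inv_cancel_right]

theorem eq_one_of_conj_eq_mul_central {m n : ℕ} (hcop : m.Coprime n) {k h c : G}
    (hk : k ^ m ∈ Subgroup.center G) (hh : h ^ n ∈ Subgroup.center G)
    (hc : c ∈ Subgroup.center G) (heq : k * h * k⁻¹ = h * c) : c = 1 := by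
  have hcc := Subgroup.mem_center_iff.1 hc
  have h1 : c ^ m = 1 := by
    have := ItoTwo.conj_pow_central hc heq m
    rw [central_conj hk] at this
    exact mul_eq_left.1 this.symm
  have h2 : h⁻¹ * k * h⁻¹⁻¹ = k * c := by
    have h3 : k * h = h * c * k := by
      calc k * h = k * h * k⁻¹ * k := by group
        _ = h * c * k := by rw [heq]
    calc h⁻¹ * k * h⁻¹⁻¹ = h⁻¹ * (k * h) := by group
      _ = h⁻¹ * (h * c * k) := by rw [h3]
      _ = c * k := by group
      _ = k * c := (hcc k).symm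
  have h4 : c ^ n = 1 := by
    have := ItoTwo.conj_pow_central hc h2 n
    have hhn : (h⁻¹) ^ n ∈ Subgroup.center G := by
      rw [inv_pow]
      exact Subgroup.inv_mem _ hh
    rw [central_conj hhn] at this
    exact mul_eq_left.1 this.symm
  have := mem_of_pow_mem_coprime (⊥ : Subgroup G) c hcop (by rw [h1]; exact Subgroup.one_mem _)
    (by rw [h4]; exact Subgroup.one_mem _)
  exact Subgroup.mem_bot.1 this

local notation "π" => QuotientGroup.mk' (Subgroup.center G)

theorem frobenius_of_data [Finite G] {m n : ℕ} (hcop : m.Coprime n) (hm : 1 < m) (hn : 1 < n)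
    (K H : Subgroup G) [hKn : K.Normal]
    (hZK : Subgroup.center G ≤ K) (hZH : Subgroup.center G ≤ H)
    (hKH : K ⊓ H = Subgroup.center G)
    (hK : (Subgroup.center G).relIndex K = m) (hH : (Subgroup.center G).relIndex H = n)
    (hG : (Subgroup.center G).index = m * n)
    (hR2 : ∀ k ∈ K, k ∉ Subgroup.center G → ∀ h ∈ H, h * k = k * h → h ∈ Subgroup.center G)
    (hcs : ∀ h ∈ H, h ∉ Subgroup.center G → (Subgroup.centralizer ({h} : Set G)).index = m) :
    (∀ a ∈ H, ∀ b ∈ H, a * b = b * a) ∧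
    Cfsg.IsFrobeniusComplement (H.map π) ∧
    Cfsg.frobeniusKernel (H.map π) =
      ((K.map π : Subgroup (G ⧸ Subgroup.center G)) : Set (G ⧸ Subgroup.center G)) := by
  classical
  have hpowK : ∀ k ∈ K, k ^ m ∈ Subgroup.center G := fun k hk =>
    hK ▸ pow_relIndex_center_mem K k hk
  have hpowH : ∀ h ∈ H, h ^ n ∈ Subgroup.center G := fun h hh =>
    hH ▸ pow_relIndex_center_mem H h hh
  have hmpos : 0 < m := by omega
  have hnpos : 0 < n := by omega
  have hHi : H.index = m := by
    have := Subgroup.relIndex_mul_index hZH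
    rw [hH, hG, mul_comm m n] at this
    exact Nat.eq_of_mul_eq_mul_left hnpos this
  have hKi : K.index = n := by
    have := Subgroup.relIndex_mul_index hZK
    rw [hK, hG] at this
    exact Nat.eq_of_mul_eq_mul_left hmpos this
  -- `G = K H`
  have hsup : H ⊔ K = ⊤ := by
    rw [← Subgroup.index_eq_one]
    have h1 := relIndex_sup_of_normal H K
    have h2 : H.relIndex K = m := by
      rw [← Subgroup.inf_relIndex_right, inf_comm, hKH, hK]
    have h3 := Subgroup.relIndex_mul_index (le_sup_left : H ≤ H ⊔ K)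
    rw [h1, h2, hHi] at h3
    exact Nat.eq_of_mul_eq_mul_left hmpos (h3.trans (mul_one m).symm)
  have hKHmul : ∀ g : G, ∃ k ∈ K, ∃ h ∈ H, g = k * h := by
    intro g
    have : g ∈ H ⊔ K := hsup ▸ Subgroup.mem_top g
    rw [sup_comm, Subgroup.mem_sup_of_normal_left] at this
    obtain ⟨k, hk, h, hh, rfl⟩ := this
    exact ⟨k, hk, h, hh, rfl⟩
  have hπeq : ∀ a b : G, π a = π b ↔ a⁻¹ * b ∈ Subgroup.center G := fun a b =>
    QuotientGroup.eq
  have hπone : ∀ a : G, π a = 1 ↔ a ∈ Subgroup.center G := fun a =>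
    QuotientGroup.eq_one_iff a
  have hmemH : ∀ g : G, π g ∈ H.map π → g ∈ H := by
    intro g hg
    obtain ⟨h, hh, hhg⟩ := Subgroup.mem_map.1 hg
    have h1 := (hπeq h g).1 hhg
    have h2 : g = h * (h⁻¹ * g) := by group
    rw [h2]
    exact H.mul_mem hh (hZH h1)
  -- a central commutator forces `k` central
  have key : ∀ k ∈ K, ∀ h ∈ H, h ∉ Subgroup.center G →
      k * h * k⁻¹ * h⁻¹ ∈ Subgroup.center G → k ∈ Subgroup.center G := by
    intro k hk h hh hhZ hc
    by_contra hkZ
    have hcc := Subgroup.mem_center_iff.1 hc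
    have heq : k * h * k⁻¹ = h * (k * h * k⁻¹ * h⁻¹) := by
      rw [hcc h]
      group
    have h1 := eq_one_of_conj_eq_mul_central hcop (hpowK k hk) (hpowH h hh) hc heq
    have h2 : h * k = k * h := by
      calc h * k = (k * h * k⁻¹ * h⁻¹)⁻¹ * (k * h) := by group
        _ = k * h := by rw [h1, inv_one, one_mul]
    exact hhZ (hR2 k hk hkZ h hh h2)
  -- the TI property
  have hTI : ∀ g : G ⧸ Subgroup.center G, g ∉ H.map π →
      H.map π ⊓ (MulAut.conj g • H.map π) = ⊥ := by
    intro gbar hg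
    obtain ⟨g, rfl⟩ := QuotientGroup.mk'_surjective (Subgroup.center G) gbar
    rw [eq_bot_iff]
    intro a ha
    rw [Subgroup.mem_inf] at ha
    obtain ⟨ha1, ha2⟩ := ha
    obtain ⟨h₁, hh₁, rfl⟩ := Subgroup.mem_map.1 ha1
    rw [Subgroup.mem_smul_pointwise_iff_exists] at ha2
    obtain ⟨s, hs, hsa⟩ := ha2
    obtain ⟨h₂, hh₂, rfl⟩ := Subgroup.mem_map.1 hs
    rw [MulAut.smul_def, MulAut.conj_apply] at hsa
    obtain ⟨k, hk, h', hh', rfl⟩ := hKHmul g
    rw [Subgroup.mem_bot]
    obtain ⟨h₃, hh₃def⟩ : ∃ h₃, h₃ = h' * h₂ * h'⁻¹ := ⟨_, rfl⟩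
    have hh₃ : h₃ ∈ H := hh₃def ▸ H.mul_mem (H.mul_mem hh' hh₂) (H.inv_mem hh')
    by_cases h3Z : h₃ ∈ Subgroup.center G
    · have h22 : h₂ = h₃ := by
        have : h₂ = h'⁻¹ * h₃ * h'⁻¹⁻¹ := by rw [hh₃def]; group
        rw [this]
        have h5 := Subgroup.mem_center_iff.1 h3Z h'⁻¹
        rw [h5, mul_inv_cancel_right]
      have h6 : π h₂ = 1 := (hπone h₂).2 (h22 ▸ h3Z)
      rw [h6, mul_one, mul_inv_cancel] at hsa
      exact hsa.symm
    · exfalso
      apply hg
      have hz : (k * h₃ * k⁻¹)⁻¹ * h₁ ∈ Subgroup.center G := by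
        rw [← map_inv, ← map_mul, ← map_mul] at hsa
        have := (hπeq _ _).1 hsa
        have h7 : k * h' * h₂ * (k * h')⁻¹ = k * h₃ * k⁻¹ := by rw [hh₃def]; group
        rwa [h7] at this
      have hc0K : k * h₃ * k⁻¹ * h₃⁻¹ ∈ K := by
        have h8 : h₃ * k⁻¹ * h₃⁻¹ ∈ K := hKn.conj_mem _ (K.inv_mem hk) h₃
        have h9 : k * h₃ * k⁻¹ * h₃⁻¹ = k * (h₃ * k⁻¹ * h₃⁻¹) := by group
        rw [h9]
        exact K.mul_mem hk h8
      have hc0H : k * h₃ * k⁻¹ * h₃⁻¹ ∈ H := by
        have h9 : k * h₃ * k⁻¹ * h₃⁻¹ = h₁ * ((k * h₃ * k⁻¹)⁻¹ * h₁)⁻¹ * h₃⁻¹ := by group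
        rw [h9]
        exact H.mul_mem (H.mul_mem hh₁ (H.inv_mem (hZH hz))) (H.inv_mem hh₃)
      have hc0Z : k * h₃ * k⁻¹ * h₃⁻¹ ∈ Subgroup.center G := by
        rw [← hKH]
        exact ⟨hc0K, hc0H⟩
      have hkZ := key k hk h₃ hh₃ h3Z hc0Z
      exact Subgroup.mem_map_of_mem _ (H.mul_mem (hZH hkZ) hh')
  -- `H̄` is a Frobenius complement
  have hne : ∃ h ∈ H, h ∉ Subgroup.center G := by
    by_contra hcon
    push Not at hcon
    have h1 : (Subgroup.center G).relIndex H = 1 := Subgroup.relIndex_eq_one.2 hcon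
    omega
  have hFrob : Cfsg.IsFrobeniusComplement (H.map π) := by
    refine ⟨?_, ?_, hTI⟩
    · obtain ⟨h, hh, hhZ⟩ := hne
      intro hbot
      have h1 : π h ∈ H.map π := Subgroup.mem_map_of_mem _ hh
      rw [hbot, Subgroup.mem_bot, hπone] at h1
      exact hhZ h1
    · intro htop
      have h1 : H = ⊤ := by
        rw [eq_top_iff]
        intro g _
        apply hmemH
        rw [htop]
        exact Subgroup.mem_top _
      rw [h1, Subgroup.index_top] at hHi
      omega
  -- `H` is abelian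
  have hcent : ∀ h ∈ H, h ∉ Subgroup.center G → Subgroup.centralizer ({h} : Set G) = H := by
    intro h hh hhZ
    apply eq_of_le_of_index_le
    · intro g hg
      rw [mem_centralizer_singleton] at hg
      by_contra hgH
      have hgbar : π g ∉ H.map π := fun hc => hgH (hmemH g hc)
      have h1 := hTI (π g) hgbar
      have h2 : π h ∈ H.map π ⊓ (MulAut.conj (π g) • H.map π) := by
        rw [Subgroup.mem_inf]
        refine ⟨Subgroup.mem_map_of_mem _ hh, ?_⟩
        rw [Subgroup.mem_smul_pointwise_iff_exists]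
        refine ⟨π h, Subgroup.mem_map_of_mem _ hh, ?_⟩
        rw [MulAut.smul_def, MulAut.conj_apply, ← map_inv, ← map_mul, ← map_mul, hg,
          mul_inv_cancel_right]
      rw [h1, Subgroup.mem_bot, hπone] at h2
      exact hhZ h2
    · rw [hcs h hh hhZ, hHi]
  have hHab : ∀ a ∈ H, ∀ b ∈ H, a * b = b * a := by
    intro a ha b hb
    by_cases haZ : a ∈ Subgroup.center G
    · exact (Subgroup.mem_center_iff.1 haZ b).symm
    · have h1 : b ∈ Subgroup.centralizer ({a} : Set G) := by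
        rw [hcent a ha haZ]
        exact hb
      exact ((mem_centralizer_singleton a b).1 h1).symm
  refine ⟨hHab, hFrob, ?_⟩
  -- the kernel
  have hsub : ((K.map π : Subgroup (G ⧸ Subgroup.center G)) : Set (G ⧸ Subgroup.center G)) ⊆
      Cfsg.frobeniusKernel (H.map π) := by
    intro a ha
    obtain ⟨k, hk, rfl⟩ := Subgroup.mem_map.1 ha
    by_cases hk1 : π k = 1
    · exact Or.inl hk1
    · right
      intro gbar hmem
      obtain ⟨g, rfl⟩ := QuotientGroup.mk'_surjective (Subgroup.center G) gbar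
      rw [Subgroup.mem_smul_pointwise_iff_exists] at hmem
      obtain ⟨s, hs, hsa⟩ := hmem
      obtain ⟨h, hh, rfl⟩ := Subgroup.mem_map.1 hs
      rw [MulAut.smul_def, MulAut.conj_apply, ← map_inv, ← map_mul, ← map_mul] at hsa
      have h1 := (hπeq _ _).1 hsa
      -- `g h g⁻¹ ∈ K`
      have h2 : g * h * g⁻¹ ∈ K := by
        have h3 : g * h * g⁻¹ = k * ((g * h * g⁻¹)⁻¹ * k)⁻¹ := by group
        rw [h3]
        exact K.mul_mem hk (K.inv_mem (hZK h1))
      have h4 : h ∈ K := by
        have h5 := hKn.conj_mem _ h2 g⁻¹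
        have h6 : g⁻¹ * (g * h * g⁻¹) * g⁻¹⁻¹ = h := by group
        rwa [h6] at h5
      have h7 : h ∈ Subgroup.center G := by
        rw [← hKH]
        exact ⟨h4, hh⟩
      apply hk1
      rw [← hsa, map_mul, map_mul, (hπone h).2 h7, mul_one, ← map_mul, mul_inv_cancel, map_one]
  have hcardker : Nat.card (Cfsg.frobeniusKernel (H.map π)) = m := by
    rw [(Cfsg.Agent.S0034.result (H.map π) hFrob).1,
      Subgroup.index_map_eq _ (QuotientGroup.mk'_surjective _)
        (by rw [QuotientGroup.ker_mk']; exact hZH), hHi]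
  have hcardK : Nat.card (K.map π : Subgroup (G ⧸ Subgroup.center G)) = m := by
    have h1 : (K.map π).index = n := by
      rw [Subgroup.index_map_eq _ (QuotientGroup.mk'_surjective _)
        (by rw [QuotientGroup.ker_mk']; exact hZK), hKi]
    have h2 := (K.map π).card_mul_index
    rw [h1, ← Subgroup.index_eq_card, hG] at h2
    exact Nat.eq_of_mul_eq_mul_right hnpos h2
  symm
  apply Set.eq_of_subset_of_ncard_le hsub _ (Set.toFinite _)
  rw [← Nat.card_coe_set_eq, ← Nat.card_coe_set_eq, hcardker]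
  exact hcardK.ge

end Cfsg.Agent.H2.CC
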