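import Mathlib
import Cfsg.Prelude.Def_TwoFusion

set_option autoImplicit false

namespace Cfsg.Agent.H2

section dihedral

variable {G : Type*} [Group G]

/-- If `z` and `w` are involutions (`z * z = 1`, `w * w = 1`) and `r = w * z` then `z` inverts `r`. -/
theorem inv_conj_of_invol {z w : G} (hz : z * z = 1) (hw : w * w = 1) :
    z * (w * z) * z⁻¹ = (w * z)⁻¹ := by
  have hz' : z⁻¹ = z := inv_eq_of_mul_eq_one_left hz
  have hw' : w⁻¹ = w := inv_eq_of_mul_eq_one_left hw
  rw [mul_inv_rev, hz', hw']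
  simp [mul_assoc, hz]

theorem inv_conj_of_invol' {z w : G} (hz : z * z = 1) (hw : w * w = 1) :
    w * (w * z) * w⁻¹ = (w * z)⁻¹ := by
  have hz' : z⁻¹ = z := inv_eq_of_mul_eq_one_left hz
  have hw' : w⁻¹ = w := inv_eq_of_mul_eq_one_left hw
  rw [mul_inv_rev, hz', hw']
  simp [← mul_assoc, hw]

/-- if `z r z⁻¹ = r⁻¹` then `z r^j z⁻¹ = (r^j)⁻¹`. -/
theorem conj_pow_of_inverts {z r : G} (h : z * r * z⁻¹ = r⁻¹) (j : ℕ) :
    z * r ^ j * z⁻¹ = (r ^ j)⁻¹ := by
  rw [← conj_pow, h, inv_pow]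

/-- if `z r z⁻¹ = r⁻¹` then `r^j z (r^j)⁻¹ = r^(2j) z`. -/
theorem pow_conj_of_inverts {z r : G} (h : z * r * z⁻¹ = r⁻¹) (j : ℕ) :
    r ^ j * z * (r ^ j)⁻¹ = r ^ (2 * j) * z := by
  have h1 := conj_pow_of_inverts h j
  have h2 : z * (r ^ j)⁻¹ = r ^ j * z := by
    have : z * (r ^ j)⁻¹ * z⁻¹ = r ^ j := by
      rw [← inv_inj, mul_inv_rev, mul_inv_rev, inv_inv, inv_inv, ← mul_assoc]
      exact h1
    calc z * (r ^ j)⁻¹ = z * (r ^ j)⁻¹ * z⁻¹ * z := by group
      _ = r ^ j * z := by rw [this]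
  rw [mul_assoc, h2, ← mul_assoc, two_mul, pow_add]

/-- For involutions `z`, `w = g z g⁻¹`, every `(w z)^k z` is a conjugate of `z`. -/
theorem pow_mul_isConj_of_invol' {z g w : G} (hz : z * z = 1) (hw : w = g * z * g⁻¹) (k : ℕ) :
    ∃ h : G, (w * z) ^ k * z = h * z * h⁻¹ := by
  have hw2 : w * w = 1 := by
    rw [hw]; calc g * z * g⁻¹ * (g * z * g⁻¹) = g * (z * z) * g⁻¹ := by group
      _ = 1 := by rw [hz]; group
  have h1 := inv_conj_of_invol hz hw2
  have h2 := inv_conj_of_invol' hz hw2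
  rcases Nat.even_or_odd' k with ⟨j, rfl | rfl⟩
  · exact ⟨(w * z) ^ j, (pow_conj_of_inverts h1 j).symm⟩
  · refine ⟨(w * z) ^ j * g, ?_⟩
    have := pow_conj_of_inverts h2 j
    have e : (w * z) ^ j * g * z * ((w * z) ^ j * g)⁻¹ = (w * z) ^ j * w * ((w * z) ^ j)⁻¹ := by
      rw [hw]; group
    rw [e, this, pow_succ]
    have : w * z * z = w := by rw [mul_assoc, hz, mul_one]
    rw [mul_assoc, this]

theorem pow_mul_isConj_of_invol {z g : G} (hz : z * z = 1) (k : ℕ) :
    ∃ h : G, (g * z * g⁻¹ * z) ^ k * z = h * z * h⁻¹ :=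
  pow_mul_isConj_of_invol' hz rfl k

end dihedral

section isolated

variable {G : Type*} [Group G]

theorem IsIsolatedInvolution.mul_self {z : G} (hz : Cfsg.IsIsolatedInvolution z) : z * z = 1 := by
  have := pow_orderOf_eq_one z
  rw [hz.1, pow_two] at this
  exact this

theorem IsIsolatedInvolution.inv_eq {z : G} (hz : Cfsg.IsIsolatedInvolution z) : z⁻¹ = z :=
  inv_eq_of_mul_eq_one_left (IsIsolatedInvolution.mul_self hz)

theorem IsIsolatedInvolution.ne_one {z : G} (hz : Cfsg.IsIsolatedInvolution z) : z ≠ 1 := by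
  intro h
  have := hz.1
  rw [h, orderOf_one] at this
  omega

/-- A conjugate of an isolated involution is an isolated involution. -/
theorem IsIsolatedInvolution.conj {z : G} (hz : Cfsg.IsIsolatedInvolution z) (a : G) :
    Cfsg.IsIsolatedInvolution (a * z * a⁻¹) := by
  refine ⟨?_, ?_⟩
  · have := orderOf_injective (MulAut.conj a).toMonoidHom (MulAut.conj a).injective z
    simpa [MulAut.conj_apply] using this.trans hz.1
  · intro g hc
    have h1 : Commute z ((a⁻¹ * g * a) * z * (a⁻¹ * g * a)⁻¹) := by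
      have := hc.eq
      unfold Commute SemiconjBy
      have e1 : z * (a⁻¹ * g * a * z * (a⁻¹ * g * a)⁻¹)
          = a⁻¹ * (a * z * a⁻¹ * (g * (a * z * a⁻¹) * g⁻¹)) * a := by group
      have e2 : a⁻¹ * g * a * z * (a⁻¹ * g * a)⁻¹ * z
          = a⁻¹ * (g * (a * z * a⁻¹) * g⁻¹ * (a * z * a⁻¹)) * a := by group
      rw [e1, e2, this]
    have h2 := hz.2 _ h1
    calc g * (a * z * a⁻¹) * g⁻¹ = a * ((a⁻¹ * g * a) * z * (a⁻¹ * g * a)⁻¹) * a⁻¹ := by group
      _ = a * z * a⁻¹ := by rw [h2]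

/-- Key lemma: the product of a conjugate of an isolated involution `z` with `z` has odd order. -/
theorem IsIsolatedInvolution.odd_orderOf_conj_mul [Finite G] {z : G}
    (hz : Cfsg.IsIsolatedInvolution z) (g : G) : Odd (orderOf (g * z * g⁻¹ * z)) := by
  have hzz := IsIsolatedInvolution.mul_self hz
  set w := g * z * g⁻¹ with hw
  set r := w * z with hr
  by_contra hodd
  rw [Nat.not_odd_iff_even] at hodd
  obtain ⟨m, hm⟩ := hodd
  have hpos : 0 < orderOf r := orderOf_pos r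
  obtain ⟨h, hh⟩ := pow_mul_isConj_of_invol (g := g) hzz m
  rw [← hw, ← hr] at hh
  have hw2 : w * w = 1 := by
    rw [hw]; calc g * z * g⁻¹ * (g * z * g⁻¹) = g * (z * z) * g⁻¹ := by group
      _ = 1 := by rw [hzz]; group
  have hinv := inv_conj_of_invol hzz hw2
  rw [← hr] at hinv
  have hrm2 : r ^ m * r ^ m = 1 := by
    rw [← pow_add, ← hm, pow_orderOf_eq_one]
  have hcomm : Commute z (h * z * h⁻¹) := by
    rw [← hh]
    unfold Commute SemiconjBy
    have h1 := conj_pow_of_inverts hinv m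
    have h3 : (r ^ m)⁻¹ = r ^ m := inv_eq_of_mul_eq_one_left hrm2
    rw [h3] at h1
    calc z * (r ^ m * z) = (z * r ^ m * z⁻¹) * (z * z) := by group
      _ = r ^ m := by rw [h1, hzz, mul_one]
      _ = r ^ m * (z * z) := by rw [hzz, mul_one]
      _ = r ^ m * z * z := by group
  have := hz.2 h hcomm
  rw [← hh] at this
  have hrm : r ^ m = 1 := by
    calc r ^ m = r ^ m * z * z⁻¹ := by group
      _ = 1 := by rw [this]; group
  have := orderOf_dvd_of_pow_eq_one hrm
  have := Nat.le_of_dvd (by omega) this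
  omega

/-- A conjugate `w` of an isolated involution `z` is conjugate to `z` by a power of `w z`. -/
theorem IsIsolatedInvolution.exists_pow_conj [Finite G] {z : G}
    (hz : Cfsg.IsIsolatedInvolution z) (g : G) :
    ∃ j : ℕ, (g * z * g⁻¹ * z) ^ j * z * ((g * z * g⁻¹ * z) ^ j)⁻¹ = g * z * g⁻¹ := by
  have hzz := IsIsolatedInvolution.mul_self hz
  obtain ⟨j, hj⟩ := IsIsolatedInvolution.odd_orderOf_conj_mul hz g
  set w := g * z * g⁻¹ with hw
  set r := w * z with hr
  have hw2 : w * w = 1 := by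
    rw [hw]; calc g * z * g⁻¹ * (g * z * g⁻¹) = g * (z * z) * g⁻¹ := by group
      _ = 1 := by rw [hzz]; group
  have hinv := inv_conj_of_invol hzz hw2
  rw [← hr] at hinv
  refine ⟨j + 1, ?_⟩
  rw [pow_conj_of_inverts hinv (j + 1)]
  have : 2 * (j + 1) = orderOf r + 1 := by omega
  rw [this, pow_succ, pow_orderOf_eq_one, one_mul, hr, mul_assoc, hzz, mul_one]

end isolated

end Cfsg.Agent.H2
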