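import Mathlib
import Cfsg.Prelude.Def_TwoFusion
import Cfsg.Agent.H2.Isolated

/-!
# Isolated involutions: group-theoretic preliminaries for Glauberman's `Z*`-theorem
-/

set_option autoImplicit false
set_option linter.style.haveILetI false
set_option linter.unusedSectionVars false

namespace Cfsg.Agent.H2.ZStar

open Cfsg

universe u

variable {G : Type u} [Group G]

/-- An involution of a Sylow `2`-subgroup `P` which is the only one of its conjugates lying in `P`
is isolated. -/
theorem isIsolated_of_sylow [Finite G] (P : Sylow 2 G) (u : G) (hu : orderOf u = 2)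
    (huP : u ∈ P) (hiso : ∀ g : G, g * u * g⁻¹ ∈ P → g * u * g⁻¹ = u) :
    IsIsolatedInvolution u := by
  haveI : Fact (Nat.Prime 2) := ⟨Nat.prime_two⟩
  refine ⟨hu, ?_⟩
  intro g hc
  obtain ⟨v, hv⟩ : ∃ v : G, v = g * u * g⁻¹ := ⟨_, rfl⟩
  rw [← hv] at hc ⊢
  have hv2 : orderOf v = 2 := by
    have := (MulAut.conj g).orderOf_eq u
    rw [MulAut.conj_apply] at this
    rw [hv, this, hu]
  have hPu : IsPGroup 2 (Subgroup.zpowers u) :=
    IsPGroup.of_card (n := 1) (by rw [Nat.card_zpowers, hu, pow_one])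
  have hPv : IsPGroup 2 (Subgroup.zpowers v) :=
    IsPGroup.of_card (n := 1) (by rw [Nat.card_zpowers, hv2, pow_one])
  have hnorm : Subgroup.zpowers u ≤ Subgroup.normalizer (Subgroup.zpowers v : Set G) := by
    rw [Subgroup.zpowers_le]
    apply Subgroup.centralizer_le_normalizer
    rw [Subgroup.mem_centralizer_iff]
    intro h hh
    obtain ⟨k, rfl⟩ := Subgroup.mem_zpowers_iff.mp hh
    exact ((show Commute v u from hc.symm).zpow_left k).eq
  have hP := IsPGroup.to_sup_of_normal_right' hPu hPv hnorm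
  obtain ⟨Q, hQ⟩ := hP.exists_le_sylow
  obtain ⟨h, hh⟩ := MulAction.exists_smul_eq G Q P
  have huQ : u ∈ (Q : Subgroup G) := hQ (Subgroup.mem_sup_left (Subgroup.mem_zpowers u))
  have hvQ : v ∈ (Q : Subgroup G) := hQ (Subgroup.mem_sup_right (Subgroup.mem_zpowers v))
  have key : ∀ x ∈ (Q : Subgroup G), h * x * h⁻¹ ∈ (P : Subgroup G) := by
    intro x hx
    rw [← hh, Sylow.coe_subgroup_smul]
    exact Subgroup.smul_mem_pointwise_smul _ (MulAut.conj h) (Q : Subgroup G) hx
  have h1 := hiso h (key u huQ)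
  have h2 : (h * g) * u * (h * g)⁻¹ = h * v * h⁻¹ := by rw [hv]; group
  have h3 := hiso (h * g) (by rw [h2]; exact key v hvQ)
  rw [h2, ← h1] at h3
  have h4 := mul_left_cancel (mul_right_cancel h3)
  exact h4

/-- An isolated involution is isolated in every subgroup containing it. -/
theorem isIsolated_subtype {t : G} (ht : IsIsolatedInvolution t) (H : Subgroup G) (htH : t ∈ H) :
    IsIsolatedInvolution (⟨t, htH⟩ : H) := by
  refine ⟨by rw [Subgroup.orderOf_mk]; exact ht.1, ?_⟩
  intro g hc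
  apply Subtype.ext
  have h1 := ht.2 (g : G) (by
    have := congrArg Subtype.val hc.eq
    exact this)
  exact h1

/-- The dihedral group generated by an isolated involution `t` and an involution `w` not conjugate
to `t`. -/
theorem dihedral_data [Finite G] {t w : G} (ht : IsIsolatedInvolution t) (hw : w * w = 1)
    (hnc : ¬ IsConj t w) :
    ∃ i : ℕ, orderOf (t * w) = 2 * (2 * i + 1) ∧ orderOf ((t * w) ^ (2 * i + 1)) = 2 ∧
      Commute ((t * w) ^ (2 * i + 1)) t ∧ Commute ((t * w) ^ (2 * i + 1)) w ∧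
      IsConj w (t * (t * w) ^ (2 * i + 1)) ∧
      t * w = (t * w) ^ (2 * i + 1) * ((t * w) * (t * w)) ^ (i + 1) := by
  have htt := IsIsolatedInvolution.mul_self ht
  have htinv : t⁻¹ = t := inv_eq_of_mul_eq_one_left htt
  have hwinv : w⁻¹ = w := inv_eq_of_mul_eq_one_left hw
  obtain ⟨r, hr⟩ : ∃ r : G, r = t * w := ⟨_, rfl⟩
  rw [← hr]
  have hinvt : t * r * t⁻¹ = r⁻¹ := by rw [hr]; exact inv_conj_of_invol' hw htt
  have hinvw : w * r * w⁻¹ = r⁻¹ := by rw [hr]; exact inv_conj_of_invol hw htt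
  have hpos : 0 < orderOf r := orderOf_pos r
  -- the order is even
  have heven : Even (orderOf r) := by
    by_contra hodd
    rw [Nat.not_even_iff_odd] at hodd
    obtain ⟨j, hj⟩ := hodd
    apply hnc
    rw [isConj_iff]
    refine ⟨r ^ j, ?_⟩
    rw [pow_conj_of_inverts hinvt j]
    have h1 : r ^ (2 * j) = r⁻¹ := by
      apply eq_inv_of_mul_eq_one_left
      rw [← pow_succ, ← hj, pow_orderOf_eq_one]
    rw [h1, hr, mul_inv_rev, htinv, hwinv, mul_assoc, htt, mul_one]
  obtain ⟨m, hm⟩ := heven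
  have hm' : orderOf r = 2 * m := by rw [hm, two_mul]
  have hmpos : 0 < m := by omega
  have hz2 : (r ^ m) * (r ^ m) = 1 := by
    rw [← pow_add, ← hm, pow_orderOf_eq_one]
  have hzinv : (r ^ m)⁻¹ = r ^ m := inv_eq_of_mul_eq_one_left hz2
  have hzt : Commute (r ^ m) t := by
    have h1 := conj_pow_of_inverts hinvt m
    rw [hzinv] at h1
    unfold Commute SemiconjBy
    calc r ^ m * t = (t * r ^ m * t⁻¹) * t := by rw [h1]
      _ = t * r ^ m := by group
  have hzw : Commute (r ^ m) w := by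
    have h1 := conj_pow_of_inverts hinvw m
    rw [hzinv] at h1
    unfold Commute SemiconjBy
    calc r ^ m * w = (w * r ^ m * w⁻¹) * w := by rw [h1]
      _ = w * r ^ m := by group
  have hz1 : r ^ m ≠ 1 := by
    intro h
    have := orderOf_dvd_of_pow_eq_one h
    rw [hm'] at this
    have := Nat.le_of_dvd hmpos this
    omega
  -- `m` is odd
  have hmodd : Odd m := by
    by_contra heven
    rw [Nat.not_odd_iff_even] at heven
    obtain ⟨i, hi⟩ := heven
    have h1 := pow_conj_of_inverts hinvt i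
    have h2 : 2 * i = m := by omega
    rw [h2] at h1
    have h3 : Commute t (r ^ i * t * (r ^ i)⁻¹) := by
      rw [h1]
      unfold Commute SemiconjBy
      rw [← mul_assoc, ← hzt.eq, mul_assoc]
    have h4 := ht.2 (r ^ i) h3
    rw [h1] at h4
    exact hz1 (mul_right_cancel (h4.trans (one_mul t).symm))
  obtain ⟨i, hi⟩ := hmodd
  refine ⟨i, by rw [hm', hi], ?_, ?_, ?_, ?_, ?_⟩
  · rw [← hi]
    exact orderOf_eq_prime (by rw [pow_two]; exact hz2) hz1
  · rw [← hi]; exact hzt
  · rw [← hi]; exact hzw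
  · rw [← hi, isConj_iff]
    refine ⟨r ^ (i + 1), ?_⟩
    rw [pow_conj_of_inverts hinvw (i + 1)]
    have h1 : 2 * (i + 1) = m + 1 := by omega
    rw [h1, pow_succ, hzt.eq.symm, mul_assoc]
    congr 1
    rw [hr, mul_assoc, hw, mul_one]
  · rw [← hi, ← pow_two, ← pow_mul, ← pow_add]
    have h1 : m + 2 * (i + 1) = orderOf r + 1 := by omega
    rw [h1, pow_succ, pow_orderOf_eq_one, one_mul]

end Cfsg.Agent.H2.ZStar
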