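import Mathlib
import Cfsg.Prelude.Def_TwoFusion
import Cfsg.Prelude.Def_Solvable
import Cfsg.Agent.H1.Cores
import Cfsg.Agent.H2.PPrimeCore
import Cfsg.Agent.H2.CyclicSylow
import Cfsg.Agent.H2.ZStarA
import Cfsg.Agent.S1181

/-!
# Glauberman's `Z*`-theorem: the reductions
-/

set_option autoImplicit false
set_option linter.style.haveILetI false
set_option linter.unusedSectionVars false

namespace Cfsg.Agent.H2.ZStar

open Cfsg

universe u

/-- The statement proved by induction. -/
def ZS (G : Type u) [Group G] : Prop :=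
  ∀ t : G, IsIsolatedInvolution t → ∀ g : G, t * g * t⁻¹ * g⁻¹ ∈ Cfsg.pPrimeCore 2 G

variable {G : Type u} [Group G] [Finite G]

/-- Passing to a quotient by a nontrivial normal subgroup not containing `t`. -/
theorem zs_quotient (ih : ∀ (H : Type u) [Group H] [Finite H], Nat.card H < Nat.card G → ZS H)
    (A : Subgroup G) [A.Normal] (hA : A ≠ ⊥) {t : G} (ht : IsIsolatedInvolution t) (htA : t ∉ A)
    (g : G) :
    t * g * t⁻¹ * g⁻¹ ∈ (Cfsg.pPrimeCore 2 (G ⧸ A)).comap (QuotientGroup.mk' A) := by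
  have hcard : Nat.card (G ⧸ A) < Nat.card G := by
    have h1 := Subgroup.card_eq_card_quotient_mul_card_subgroup A
    have h2 : 1 < Nat.card A := by
      rw [Finite.one_lt_card_iff_nontrivial]
      exact (Subgroup.nontrivial_iff_ne_bot A).mpr hA
    have h3 : 0 < Nat.card (G ⧸ A) := Nat.card_pos
    rw [h1]
    nlinarith
  have h1 := (Cfsg.Agent.S1181.result t ht A htA).2
  have h2 := ih (G ⧸ A) hcard _ h1 (QuotientGroup.mk g)
  rw [Subgroup.mem_comap]
  simpa using h2

/-- The case `O(G) ≠ 1`. -/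
theorem zs_of_core_ne_bot
    (ih : ∀ (H : Type u) [Group H] [Finite H], Nat.card H < Nat.card G → ZS H)
    (hO : Cfsg.pPrimeCore 2 G ≠ ⊥) : ZS G := by
  intro t ht g
  have htA : t ∉ Cfsg.pPrimeCore 2 G := by
    intro h
    have h1 := Subgroup.orderOf_dvd_natCard _ h
    rw [ht.1] at h1
    have h2 := Cfsg.Agent.H1.pPrimeCore_coprime (G := G) 2
    have h3 := Nat.Coprime.eq_one_of_dvd h2.symm h1
    norm_num at h3
  have h1 := zs_quotient ih (Cfsg.pPrimeCore 2 G) hO ht htA g
  rw [Cfsg.Agent.H2.pPrimeCore_quotient_eq_bot, MonoidHom.comap_bot, QuotientGroup.ker_mk'] at h1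
  exact h1

/-- Reduction to a proper normal subgroup containing `t`. -/
theorem central_of_normal
    (ih : ∀ (H : Type u) [Group H] [Finite H], Nat.card H < Nat.card G → ZS H) {t : G}
    (ht : IsIsolatedInvolution t) (hO : Cfsg.pPrimeCore 2 G = ⊥)
    (N : Subgroup G) (hN : N.Normal) (hNtop : N ≠ ⊤) (htN : t ∈ N) : t ∈ Subgroup.center G := by
  have hcard : Nat.card N < Nat.card G := by
    have h1 : Nat.card N ≤ Nat.card G := Subgroup.card_le_card_group N
    rcases Nat.lt_or_ge (Nat.card N) (Nat.card G) with h | h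
    · exact h
    · exfalso
      exact hNtop (Subgroup.card_eq_iff_eq_top N |>.mp (le_antisymm h1 h))
  have hON : Cfsg.pPrimeCore 2 N = ⊥ := by
    have h1 := Cfsg.Agent.H2.pPrimeCore_map_subtype_le_of_isSubnormal 2 hN.isSubnormal
    rw [hO, le_bot_iff] at h1
    exact (Subgroup.map_eq_bot_iff_of_injective _ N.subtype_injective).mp h1
  have h1 := ih N hcard ⟨t, htN⟩ (isIsolated_subtype ht N htN)
  rw [hON] at h1
  rw [Subgroup.mem_center_iff]
  intro g
  have h2 : g * t * g⁻¹ ∈ N := hN.conj_mem t htN g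
  have h3 := h1 ⟨g * t * g⁻¹, h2⟩
  rw [Subgroup.mem_bot] at h3
  have h4 := congrArg Subtype.val h3
  simp only [Subgroup.coe_mul, Subgroup.coe_inv, Subgroup.coe_one] at h4
  have h5 : Commute t (g * t * g⁻¹) := by
    unfold Commute SemiconjBy
    calc t * (g * t * g⁻¹) = (t * (g * t * g⁻¹) * t⁻¹ * (g * t * g⁻¹)⁻¹) * ((g * t * g⁻¹) * t) := by
          group
      _ = (g * t * g⁻¹) * t := by rw [h4, one_mul]
  have h6 := ht.2 g h5
  calc g * t = (g * t * g⁻¹) * g := by group
    _ = t * g := by rw [h6]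

/-- A group of order twice an odd number with no nontrivial normal subgroup of odd order in the
ambient group has order two. -/
theorem card_eq_two_of_normal (hO : Cfsg.pPrimeCore 2 G = ⊥) (M : Subgroup G) [hMn : M.Normal]
    (k : ℕ) (hk : Odd k) (hM : Nat.card M = k * 2) : Nat.card M = 2 := by
  haveI : Fact (Nat.Prime 2) := ⟨Nat.prime_two⟩
  have h2M : 2 ∣ Nat.card M := by rw [hM]; exact Dvd.intro_left k rfl
  have hmin : (Nat.card M).minFac = 2 := (Nat.minFac_eq_two_iff _).mpr h2M
  obtain ⟨Q⟩ : Nonempty (Sylow 2 ↥M) := inferInstance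
  have hQcard : Nat.card Q = 2 := by
    rw [Sylow.card_eq_multiplicity, hM,
      Nat.factorization_mul (Nat.pos_of_ne_zero (by rintro rfl; simp at hk)).ne' two_ne_zero]
    simp only [Finsupp.coe_add, Pi.add_apply]
    rw [Nat.factorization_eq_zero_of_not_dvd (by
      intro h
      exact (Nat.not_even_iff_odd.mpr hk) (even_iff_two_dvd.mpr h)), zero_add,
      Nat.prime_two.factorization_self, pow_one]
  have hQc : IsCyclic Q := isCyclic_of_prime_card hQcard
  have hcompl := IsCyclic.isComplement' hmin hQc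
  obtain ⟨K', hK'def⟩ : ∃ K' : Subgroup ↥M,
      K' = (MonoidHom.transferSylow Q (hQc.normalizer_le_centralizer hmin)).ker := ⟨_, rfl⟩
  rw [← hK'def] at hcompl
  haveI hK'n : K'.Normal := by rw [hK'def]; infer_instance
  have hK'odd : ¬ 2 ∣ Nat.card K' := by
    rw [hK'def]
    exact MonoidHom.not_dvd_card_ker_transferSylow Q _
  have hidx : K'.index = Nat.card Q := hcompl.symm.index_eq_card
  have hcop : (Nat.card K').Coprime K'.index := by
    rw [hidx, hQcard, Nat.coprime_comm, Nat.Prime.coprime_iff_not_dvd Nat.prime_two]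
    exact hK'odd
  have hKn : (K'.map M.subtype).Normal :=
    Cfsg.Agent.H2.CycSyl.map_subtype_normal_of_coprime _ K' hcop
  have hKbot : K'.map M.subtype = ⊥ := by
    have h3 : K'.map M.subtype ≤ Cfsg.pPrimeCore 2 G := by
      apply Cfsg.Agent.H1.le_pPrimeCore hKn
      rw [Subgroup.card_map_of_injective (Subgroup.subtype_injective _), Nat.coprime_comm,
        Nat.Prime.coprime_iff_not_dvd Nat.prime_two]
      exact hK'odd
    rwa [hO, le_bot_iff] at h3
  have hK'bot : K' = ⊥ := by
    rw [← Subgroup.map_eq_bot_iff_of_injective K' (Subgroup.subtype_injective _)]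
    exact hKbot
  have h5 := hcompl.card_mul_card
  rw [hK'bot, Subgroup.card_bot, one_mul, hQcard] at h5
  exact h5.symm

/-- The case of a central involution. -/
theorem central_of_central_involution
    (ih : ∀ (H : Type u) [Group H] [Finite H], Nat.card H < Nat.card G → ZS H) {t : G}
    (ht : IsIsolatedInvolution t) (hO : Cfsg.pPrimeCore 2 G = ⊥) (z : G) (hz : orderOf z = 2)
    (hzc : z ∈ Subgroup.center G) : t ∈ Subgroup.center G := by
  by_cases htz : t = z
  · rw [htz]; exact hzc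
  haveI : Fact (Nat.Prime 2) := ⟨Nat.prime_two⟩
  have hz1 : z ≠ 1 := by
    intro h
    rw [h, orderOf_one] at hz
    norm_num at hz
  have hzz : z * z = 1 := by rw [← pow_two, ← hz, pow_orderOf_eq_one]
  have hzinv : z⁻¹ = z := inv_eq_of_mul_eq_one_left hzz
  obtain ⟨A, hAdef⟩ : ∃ A : Subgroup G, A = Subgroup.zpowers z := ⟨_, rfl⟩
  have hAle : A ≤ Subgroup.center G := by rw [hAdef, Subgroup.zpowers_le]; exact hzc
  haveI hAn : A.Normal := ⟨fun a ha g => by
      have h1 := Subgroup.mem_center_iff.mp (hAle ha) g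
      have h2 : g * a * g⁻¹ = a := by rw [h1]; group
      rw [h2]; exact ha⟩
  have hAcard : Nat.card A = 2 := by rw [hAdef, Nat.card_zpowers, hz]
  have hmemA : ∀ a ∈ A, a = 1 ∨ a = z := by
    intro a ha
    rw [hAdef] at ha
    obtain ⟨k, rfl⟩ := Subgroup.mem_zpowers_iff.mp ha
    rw [← zpow_mod_orderOf, hz]
    have h1 : (k % ((2 : ℕ) : ℤ)) = 0 ∨ k % ((2 : ℕ) : ℤ) = 1 := by omega
    rcases h1 with h | h <;> rw [h] <;> simp
  have hA : A ≠ ⊥ := by
    intro h
    rw [h] at hAcard
    simp at hAcard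
  have htA : t ∉ A := by
    intro h
    rcases hmemA t h with h1 | h1
    · exact IsIsolatedInvolution.ne_one ht h1
    · exact htz h1
  obtain ⟨M, hMdef⟩ : ∃ M : Subgroup G,
      M = (Cfsg.pPrimeCore 2 (G ⧸ A)).comap (QuotientGroup.mk' A) := ⟨_, rfl⟩
  haveI hMn : M.Normal := by rw [hMdef]; exact Subgroup.Normal.comap inferInstance _
  have hMcard : Nat.card M = Nat.card (Cfsg.pPrimeCore 2 (G ⧸ A)) * 2 := by
    rw [hMdef, Cfsg.Agent.H2.card_comap_mk', hAcard]
  have hodd : Odd (Nat.card (Cfsg.pPrimeCore 2 (G ⧸ A))) := by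
    have := Cfsg.Agent.H1.pPrimeCore_coprime (G := G ⧸ A) 2
    exact Nat.coprime_two_left.mp this.symm
  have hM2 := card_eq_two_of_normal hO M _ hodd hMcard
  have hcore : Cfsg.pPrimeCore 2 (G ⧸ A) = ⊥ := by
    rw [hM2] at hMcard
    have h1 : Nat.card (Cfsg.pPrimeCore 2 (G ⧸ A)) = 1 := by omega
    exact Subgroup.card_eq_one.mp h1
  rw [Subgroup.mem_center_iff]
  intro g
  have h1 := zs_quotient ih A hA ht htA g
  rw [hcore, MonoidHom.comap_bot, QuotientGroup.ker_mk'] at h1
  have htinv := IsIsolatedInvolution.inv_eq ht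
  rcases hmemA _ h1 with h2 | h2
  · calc g * t = (t * g * t⁻¹ * g⁻¹)⁻¹ * (t * g) := by group
      _ = t * g := by rw [h2, inv_one, one_mul]
  · exfalso
    have h3 : g * t * g⁻¹ = z * t := by
      calc g * t * g⁻¹ = (t * g * t⁻¹ * g⁻¹)⁻¹ * t := by group
        _ = z * t := by rw [h2, hzinv]
    have h4 : Commute t (g * t * g⁻¹) := by
      rw [h3]
      unfold Commute SemiconjBy
      rw [← mul_assoc, (Subgroup.mem_center_iff.mp hzc t)]
    have h5 := ht.2 g h4
    rw [h3] at h5
    exact hz1 (mul_right_cancel (h5.trans (one_mul t).symm))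

end Cfsg.Agent.H2.ZStar
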