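import Mathlib
import Cfsg.Prelude.Def_Characters
import Cfsg.Prelude.Def_Blocks
import Cfsg.Prelude.Def_Local
import Cfsg.Agent.Lib.helper3.SecMain5
import Cfsg.Agent.Lib.helper3.PrincOnly
import Cfsg.Agent.Lib.helper3.LocalM3
import Cfsg.Agent.Lib.helper3.PDeg5
import Cfsg.Agent.Lib.helper3.Tri5
import Cfsg.Agent.S0942
import Cfsg.Agent.S0943
import Cfsg.Agent.S1182
import Cfsg.Agent.H2.ZStarB

/-!
# Glauberman's `Z*`-theorem: the character theory
-/

set_option autoImplicit false
set_option linter.style.haveILetI false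
set_option linter.unusedSectionVars false

namespace Cfsg.Agent.H2.ZStar

open Cfsg Complex
open Cfsg.Agent.Lib.helper3.Irr Cfsg.Agent.Lib.helper3.IndFun Cfsg.Agent.Lib.helper3.CharBasic
open Cfsg.Agent.Lib.helper3.Block Cfsg.Agent.Lib.helper3.LocalM Cfsg.Agent.Lib.helper3.PDeg
open scoped ComplexConjugate

universe u

variable {G : Type u} [Group G] [Fintype G] {M : Ideal AlgInt}

theorem apply_eq_of_isConj (χ : IrrCharacter G) {a b : G} (h : IsConj a b) :
    (χ : G → ℂ) a = (χ : G → ℂ) b :=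
  isClassFunction_iff_isConj.mp
    (isClassFunction_of_isCharacter (isCharacter_of_isIrrCharacter χ.2)) a b h

/-- The values of a character of the principal block on the products of a conjugate of `t` with a
conjugate of `u`. -/
theorem key_values (hM : IsPModular 2 M)
    (hcent : ∀ z : G, orderOf z = 2 → ZS ↥(Subgroup.centralizer ({z} : Set G)))
    {t u : G} (ht : IsIsolatedInvolution t) (hu : orderOf u = 2) (hut : Commute u t) (hne : u ≠ t)
    (χ : IrrCharacter G) (hχ : χ ∈ principalBlock M G) (a b : G) (ha : IsConj t a)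
    (hb : IsConj u b) : (χ : G → ℂ) (a * b) = (χ : G → ℂ) (t * u) := by
  haveI : Fact (Nat.Prime 2) := ⟨Nat.prime_two⟩
  obtain ⟨g, hg⟩ := isConj_iff.mp ha
  have hta : IsIsolatedInvolution a := hg ▸ IsIsolatedInvolution.conj ht g
  have haa := IsIsolatedInvolution.mul_self hta
  have hainv := IsIsolatedInvolution.inv_eq hta
  have huu : u * u = 1 := by rw [← pow_two, ← hu, pow_orderOf_eq_one]
  have hbb : b * b = 1 := by
    obtain ⟨h, hh⟩ := isConj_iff.mp hb
    rw [← hh]
    calc h * u * h⁻¹ * (h * u * h⁻¹) = h * (u * u) * h⁻¹ := by group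
      _ = 1 := by rw [huu]; group
  have hbinv : b⁻¹ = b := inv_eq_of_mul_eq_one_left hbb
  have hnc : ¬ IsConj a b := by
    intro h
    have h1 : IsConj t u := (ha.trans h).trans hb.symm
    obtain ⟨c, hc⟩ := isConj_iff.mp h1
    have h2 := ht.2 c (by rw [hc]; exact hut.symm)
    rw [hc] at h2
    exact hne h2
  obtain ⟨i, -, hz2, hza, hzb, hconj, hdecomp⟩ := dihedral_data hta hbb hnc
  obtain ⟨z, hz⟩ : ∃ z : G, z = (a * b) ^ (2 * i + 1) := ⟨_, rfl⟩
  rw [← hz] at hz2 hza hzb hconj hdecomp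
  -- the induction hypothesis in the centralizer of `z`
  have haC : a ∈ Subgroup.centralizer ({z} : Set G) :=
    Subgroup.mem_centralizer_singleton_iff.mpr hza.eq.symm
  have hbC : b ∈ Subgroup.centralizer ({z} : Set G) :=
    Subgroup.mem_centralizer_singleton_iff.mpr hzb.eq.symm
  have h1 := hcent z hz2 ⟨a, haC⟩ (isIsolated_subtype hta _ haC) ⟨b, hbC⟩
  have h2 : (a * b) * (a * b) ∈ Cfsg.centralizerPPrimeCore 2 z := by
    refine ⟨_, h1, ?_⟩
    simp only [Subgroup.coe_subtype, Subgroup.coe_mul, Subgroup.coe_inv]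
    rw [hainv, hbinv]
    group
  have h3 : ((a * b) * (a * b)) ^ (i + 1) ∈ Cfsg.centralizerPPrimeCore 2 z :=
    Subgroup.pow_mem _ h2 _
  have h4 := Cfsg.Agent.S0942.result 2 M hM z ⟨1, by rw [hz2]; norm_num⟩ _ h3 χ hχ
  rw [← hdecomp] at h4
  rw [h4]
  -- `z` is conjugate to `t * u`
  apply apply_eq_of_isConj χ
  obtain ⟨w, hw⟩ : ∃ w : G, w = g⁻¹ * (a * z) * g := ⟨_, rfl⟩
  have hwt : Commute w t := by
    have h5 : Commute (a * z) a := by
      unfold Commute SemiconjBy
      rw [mul_assoc, hza.eq]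
    have h6 : t = g⁻¹ * a * g := by rw [← hg]; group
    rw [hw, h6]
    unfold Commute SemiconjBy
    calc g⁻¹ * (a * z) * g * (g⁻¹ * a * g) = g⁻¹ * ((a * z) * a) * g := by group
      _ = g⁻¹ * (a * (a * z)) * g := by rw [h5.eq]
      _ = g⁻¹ * a * g * (g⁻¹ * (a * z) * g) := by group
  have huw : IsConj u w := by
    refine (hb.trans hconj).trans ?_
    rw [isConj_iff]
    exact ⟨g⁻¹, by rw [hw, inv_inv]⟩
  obtain ⟨h, hh⟩ := isConj_iff.mp huw
  obtain ⟨c, -, hct, hcu⟩ := Cfsg.Agent.S1182.result t ht ⊤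
    (by rw [Subgroup.normalizer_eq_top]; exact Subgroup.mem_top t) u w (Subgroup.mem_top _)
    (Subgroup.mem_top _) hut hwt h (Subgroup.mem_top _) hh
  rw [isConj_comm, isConj_iff]
  refine ⟨g * c, ?_⟩
  have h7 : z = a * (a * z) := by rw [← mul_assoc, haa, one_mul]
  have h8 : a * z = g * w * g⁻¹ := by rw [hw]; group
  rw [h7, h8, ← hg, ← hcu]
  have h9 : c * t = t * c := hct.eq
  calc g * c * (t * u) * (g * c)⁻¹ = g * ((c * t) * u * c⁻¹) * g⁻¹ := by group
    _ = g * ((t * c) * u * c⁻¹) * g⁻¹ := by rw [h9]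
    _ = g * t * g⁻¹ * (g * (c * u * c⁻¹) * g⁻¹) := by group

/-- The product of two commuting distinct involutions is an involution. -/
theorem orderOf_mul_invol {t u : G} (ht : orderOf t = 2) (hu : orderOf u = 2) (hut : Commute u t)
    (hne : u ≠ t) : orderOf (t * u) = 2 := by
  have htt : t * t = 1 := by rw [← pow_two, ← ht, pow_orderOf_eq_one]
  have huu : u * u = 1 := by rw [← pow_two, ← hu, pow_orderOf_eq_one]
  apply orderOf_eq_prime
  · rw [pow_two]
    calc t * u * (t * u) = t * (u * t) * u := by group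
      _ = t * (t * u) * u := by rw [hut.eq]
      _ = (t * t) * (u * u) := by group
      _ = 1 := by rw [htt, huu, one_mul]
  · intro h
    apply hne
    have h1 : u = t⁻¹ := eq_inv_of_mul_eq_one_right h
    rw [h1]
    exact inv_eq_of_mul_eq_one_left htt

/-- A character of the principal block has `χ(t)² = χ(1)²` or vanishes at `u`. -/
theorem vanish_or (hM : IsPModular 2 M)
    (hcent : ∀ z : G, orderOf z = 2 → ZS ↥(Subgroup.centralizer ({z} : Set G)))
    {t u : G} (ht : IsIsolatedInvolution t) (hu : orderOf u = 2) (hut : Commute u t) (hne : u ≠ t)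
    (χ : IrrCharacter G) (hχ : χ ∈ principalBlock M G) :
    (((χ : G → ℂ) 1) ^ 2 - ((χ : G → ℂ) t) ^ 2) * (χ : G → ℂ) u = 0 := by
  have htt := IsIsolatedInvolution.mul_self ht
  have h1 := Cfsg.Agent.S0943.result χ t u
    (fun x y hx hy => key_values hM hcent ht hu hut hne χ hχ x y hx hy)
  have hu' : orderOf (t * u) = 2 := orderOf_mul_invol ht.1 hu hut hne
  have hut' : Commute (t * u) t := by
    unfold Commute SemiconjBy
    rw [mul_assoc, hut.eq]
  have hne' : t * u ≠ t := by
    intro h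
    have h2 : u = 1 := by
      have := mul_left_cancel (h.trans (mul_one t).symm)
      exact this
    rw [h2, orderOf_one] at hu
    norm_num at hu
  have h2 := Cfsg.Agent.S0943.result χ t (t * u)
    (fun x y hx hy => key_values hM hcent ht hu' hut' hne' χ hχ x y hx hy)
  have h3 : t * (t * u) = u := by rw [← mul_assoc, htt, one_mul]
  rw [h3] at h2
  linear_combination (-((χ : G → ℂ) 1)) * h2 - ((χ : G → ℂ) t) * h1

open Classical in
/-- The contradiction from block orthogonality. -/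
theorem false_of_mem (hM : IsPModular 2 M) {t w : G} (hw : orderOf w = 2)
    (hvan : ∀ χ : IrrCharacter G, χ ∈ principalBlock M G →
      (((χ : G → ℂ) 1) ^ 2 - ((χ : G → ℂ) t) ^ 2) * (χ : G → ℂ) w = 0)
    (hker : ∀ χ : IrrCharacter G, χ ∈ principalBlock M G →
      ((χ : G → ℂ) t) ^ 2 = ((χ : G → ℂ) 1) ^ 2 → (χ : G → ℂ) w = (χ : G → ℂ) 1) : False := by
  haveI hMp := isPrime_of_isPModular hM
  have hB0blk : IsPBlock M (principalBlock M G) :=
    ⟨Cfsg.Agent.Lib.helper3.PrincOnly.one G, rfl⟩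
  have hPw : IsPPart 2 w w :=
    ⟨1, mul_one w, Commute.one_right w, ⟨1, by rw [hw]; norm_num⟩, by simp⟩
  have hP1 : IsPPart 2 (1 : G) 1 := ⟨1, mul_one 1, Commute.one_left 1, ⟨0, by simp⟩, by simp⟩
  have hnc : ¬ IsConj w (1 : G) := by
    intro h
    rw [isConj_one_left] at h
    rw [h, orderOf_one] at hw
    norm_num at hw
  have h0 := block_orthogonality hM (principalBlock M G) hB0blk w 1 w 1 hPw hP1 hnc
  rw [inv_one] at h0
  have hterm : ∀ χ : IrrCharacter G, ∃ r : ℝ, 0 ≤ r ∧
      (if χ ∈ principalBlock M G then (1 : ℂ) else 0) * ((χ : G → ℂ) w * (χ : G → ℂ) 1) = (r : ℂ)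
      ∧ (χ = Cfsg.Agent.Lib.helper3.PrincOnly.one G → r = 1) := by
    intro χ
    obtain ⟨n, hn, hn1⟩ := exists_pos_nat_apply_one χ.2
    by_cases hχ : χ ∈ principalBlock M G
    · by_cases hX : ((χ : G → ℂ) t) ^ 2 = ((χ : G → ℂ) 1) ^ 2
      · refine ⟨(n : ℝ) * (n : ℝ), by positivity, ?_, ?_⟩
        · rw [if_pos hχ, hker χ hχ hX, hn1]
          push_cast
          ring
        · intro h
          have h1 : (χ : G → ℂ) 1 = 1 := by rw [h]; rfl
          rw [hn1] at h1
          have h2 : n = 1 := by exact_mod_cast h1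
          rw [h2]
          norm_num
      · refine ⟨0, le_refl 0, ?_, ?_⟩
        · have h1 := hvan χ hχ
          have h2 : ((χ : G → ℂ) 1) ^ 2 - ((χ : G → ℂ) t) ^ 2 ≠ 0 := by
            intro h
            apply hX
            linear_combination -h
          have h3 := (mul_eq_zero.mp h1).resolve_left h2
          rw [h3]
          simp
        · intro h
          exfalso
          apply hX
          rw [h]
          rfl
    · refine ⟨0, le_refl 0, ?_, ?_⟩
      · rw [if_neg hχ]
        simp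
      · intro h
        exfalso
        apply hχ
        rw [h]
        exact sameBlock_refl hMp.ne_top _
  choose r hr0 hr hr1 using hterm
  rw [Finset.sum_congr rfl (fun χ _ => hr χ)] at h0
  have h1 : ((∑ χ : IrrCharacter G, r χ : ℝ) : ℂ) = 0 := by
    rw [← h0]
    push_cast
    rfl
  have h2 : ∑ χ : IrrCharacter G, r χ = 0 := by exact_mod_cast h1
  have h3 : r (Cfsg.Agent.Lib.helper3.PrincOnly.one G) ≤ ∑ χ : IrrCharacter G, r χ :=
    Finset.single_le_sum (fun χ _ => hr0 χ) (Finset.mem_univ _)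
  rw [hr1 _ rfl, h2] at h3
  norm_num at h3

/-- Characters with `χ(t)² = χ(1)²` have all commutators with `t` in their kernel. -/
theorem commutator_mem_ker (χ : IrrCharacter G) {t : G} (htt : t * t = 1)
    (hX : ((χ : G → ℂ) t) ^ 2 = ((χ : G → ℂ) 1) ^ 2) (g : G) :
    (χ : G → ℂ) (t * g * t⁻¹ * g⁻¹) = (χ : G → ℂ) 1 := by
  have htinv : t⁻¹ = t := inv_eq_of_mul_eq_one_left htt
  have hχc := isCharacter_of_isIrrCharacter χ.2
  have h1ne := apply_one_ne_zero χ.2
  have hε : ∃ ε : ℂ, (ε = 1 ∨ ε = -1) ∧ (χ : G → ℂ) t = ε * (χ : G → ℂ) 1 := by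
    have h1 : ((χ : G → ℂ) t - (χ : G → ℂ) 1) * ((χ : G → ℂ) t + (χ : G → ℂ) 1) = 0 := by
      linear_combination hX
    rcases mul_eq_zero.mp h1 with h | h
    · exact ⟨1, Or.inl rfl, by linear_combination h⟩
    · exact ⟨-1, Or.inr rfl, by linear_combination h⟩
  obtain ⟨ε, hε1, hε2⟩ := hε
  have hεn : ‖ε‖ = 1 := by
    rcases hε1 with h | h <;> rw [h] <;> simp
  have hε2' : ε * ε = 1 := by
    rcases hε1 with h | h <;> rw [h] <;> norm_num
  have h2 := Cfsg.Agent.Lib.helper3.Tri.apply_mul_of_scalar hχc t ε hε2 hεn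
  have h3 : IsConj (g⁻¹ * t * g * t) (t * g * t⁻¹ * g⁻¹) := by
    rw [isConj_iff]
    refine ⟨g, ?_⟩
    rw [htinv]
    group
  rw [← apply_eq_of_isConj χ h3, h2, apply_eq_of_isConj χ (show IsConj (g⁻¹ * t * g) t from by
    rw [isConj_iff]; exact ⟨g, by group⟩), hε2, ← mul_assoc, hε2', one_mul]

end Cfsg.Agent.H2.ZStar
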