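import Mathlib
import Cfsg.Agent.H2.ZStarC
import Cfsg.Agent.H2.BSUnique

/-!
# Glauberman's `Z*`-theorem
-/

set_option autoImplicit false
set_option linter.style.haveILetI false
set_option linter.unusedSectionVars false

namespace Cfsg.Agent.H2.ZStar

open Cfsg Complex
open Cfsg.Agent.Lib.helper3.Irr Cfsg.Agent.Lib.helper3.IndFun Cfsg.Agent.Lib.helper3.CharBasic
open Cfsg.Agent.Lib.helper3.Block Cfsg.Agent.Lib.helper3.LocalM Cfsg.Agent.Lib.helper3.PDeg

universe u

section chars

variable {G : Type u} [Group G] [Fintype G] {M : Ideal AlgInt}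

/-- The final step of the proof of the `Z*`-theorem. -/
theorem central_of_chars (hM : IsPModular 2 M)
    (ih : ∀ (H : Type u) [Group H] [Finite H], Nat.card H < Nat.card G → ZS H)
    (hcent : ∀ z : G, orderOf z = 2 → ZS ↥(Subgroup.centralizer ({z} : Set G)))
    (hO : Cfsg.pPrimeCore 2 G = ⊥)
    {t u : G} (ht : IsIsolatedInvolution t) (hu : orderOf u = 2) (hut : Commute u t)
    (hne : u ≠ t) : t ∈ Subgroup.center G := by
  classical
  have htt := IsIsolatedInvolution.mul_self ht
  have htinv := IsIsolatedInvolution.inv_eq ht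
  -- the normal subgroup `N`
  obtain ⟨N, hNdef⟩ : ∃ N : Subgroup G, N = ⨅ χ : {χ : IrrCharacter G // χ ∈ principalBlock M G ∧
      ((χ : G → ℂ) t) ^ 2 = ((χ : G → ℂ) 1) ^ 2},
      kerSub (isCharacter_of_isIrrCharacter χ.1.2) := ⟨_, rfl⟩
  haveI hNn : N.Normal := by
    rw [hNdef]
    exact Subgroup.normal_iInf_normal (fun χ => kerSub_normal _)
  have hmemN : ∀ x : G, x ∈ N ↔ ∀ χ : IrrCharacter G, χ ∈ principalBlock M G →
      ((χ : G → ℂ) t) ^ 2 = ((χ : G → ℂ) 1) ^ 2 → (χ : G → ℂ) x = (χ : G → ℂ) 1 := by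
    intro x
    rw [hNdef, Subgroup.mem_iInf]
    constructor
    · intro h χ hχ hX
      exact (mem_kerSub _ x).mp (h ⟨χ, hχ, hX⟩)
    · intro h χ
      exact (mem_kerSub _ x).mpr (h χ.1 χ.2.1 χ.2.2)
  have hcommN : ∀ g : G, t * g * t⁻¹ * g⁻¹ ∈ N := by
    intro g
    rw [hmemN]
    intro χ _ hX
    exact commutator_mem_ker χ htt hX g
  by_cases hT : Subgroup.normalClosure ({t} : Set G) = ⊤
  · exfalso
    -- every element lies in `N` or `N t`
    have hsup : N ⊔ Subgroup.zpowers t = ⊤ := by
      rw [eq_top_iff, ← hT]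
      unfold Subgroup.normalClosure
      rw [Subgroup.closure_le]
      intro a ha
      rw [Group.mem_conjugatesOfSet_iff] at ha
      obtain ⟨x, hx, hxa⟩ := ha
      rw [Set.mem_singleton_iff] at hx
      rw [hx] at hxa
      obtain ⟨g, hg⟩ := isConj_iff.mp hxa
      have h1 : a = (t * g * t⁻¹ * g⁻¹)⁻¹ * t := by rw [← hg]; group
      rw [h1]
      exact Subgroup.mul_mem _ (Subgroup.mem_sup_left (Subgroup.inv_mem _ (hcommN g)))
        (Subgroup.mem_sup_right (Subgroup.mem_zpowers t))
    have huN : u ∈ N ⊔ Subgroup.zpowers t := by rw [hsup]; exact Subgroup.mem_top u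
    rw [Subgroup.mem_sup_of_normal_left] at huN
    obtain ⟨n, hn, s, hs, hns⟩ := huN
    have hs' : s = 1 ∨ s = t := by
      obtain ⟨k, rfl⟩ := Subgroup.mem_zpowers_iff.mp hs
      rw [← zpow_mod_orderOf, ht.1]
      have h1 : (k % ((2 : ℕ) : ℤ)) = 0 ∨ k % ((2 : ℕ) : ℤ) = 1 := by omega
      rcases h1 with h | h <;> rw [h] <;> simp
    -- an involution `w` of `N` commuting with `t`
    have hw : ∃ w : G, orderOf w = 2 ∧ Commute w t ∧ w ≠ t ∧ w ∈ N := by
      rcases hs' with h | h
      · refine ⟨u, hu, hut, hne, ?_⟩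
        rw [← hns, h, mul_one]
        exact hn
      · refine ⟨t * u, orderOf_mul_invol ht.1 hu hut hne, ?_, ?_, ?_⟩
        · unfold Commute SemiconjBy
          rw [mul_assoc, hut.eq]
        · intro h2
          have h3 : u = 1 := mul_left_cancel (h2.trans (mul_one t).symm)
          rw [h3, orderOf_one] at hu
          norm_num at hu
        · have h2 : t * u = n := by
            rw [← hut.eq, ← hns, h, mul_assoc, htt, mul_one]
          rw [h2]
          exact hn
    obtain ⟨w, hw2, hwt, hwne, hwN⟩ := hw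
    exact false_of_mem hM hw2
      (fun χ hχ => vanish_or hM hcent ht hw2 hwt hwne χ hχ)
      (fun χ hχ hX => (hmemN w).mp hwN χ hχ hX)
  · exact central_of_normal ih ht hO _ Subgroup.normalClosure_normal hT
      (Subgroup.subset_normalClosure (Set.mem_singleton t))

end chars

/-- **Glauberman's `Z*`-theorem**, by induction on the order. -/
theorem zs_aux : ∀ (n : ℕ) (G : Type u) [Group G] [Finite G], Nat.card G = n → ZS G := by
  intro n
  induction n using Nat.strong_induction_on with
  | _ n ih =>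
    intro G _ _ hn
    have ih' : ∀ (H : Type u) [Group H] [Finite H], Nat.card H < Nat.card G → ZS H := by
      intro H _ _ hlt
      exact ih (Nat.card H) (by rw [← hn]; exact hlt) H rfl
    by_cases hO : Cfsg.pPrimeCore 2 G = ⊥
    swap
    · exact zs_of_core_ne_bot ih' hO
    intro t ht g
    suffices hc : t ∈ Subgroup.center G by
      have h1 := Subgroup.mem_center_iff.mp hc g
      have h2 : t * g * t⁻¹ * g⁻¹ = 1 := by
        rw [← h1]; group
      rw [h2]
      exact Subgroup.one_mem _
    by_cases h1 : ∀ s : G, orderOf s = 2 → s * t = t * s → s = t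
    · exact Cfsg.Agent.H2.BSUnique.central ht.1 h1 hO
    by_cases h2 : ∃ z ∈ Subgroup.center G, orderOf z = 2
    · obtain ⟨z, hzc, hz⟩ := h2
      exact central_of_central_involution ih' ht hO z hz hzc
    push Not at h1 h2
    obtain ⟨u, hu, hut, hne⟩ := h1
    letI : Fintype G := Fintype.ofFinite G
    obtain ⟨M, hM⟩ := exists_isPModular 2 Nat.prime_two
    have hcent : ∀ z : G, orderOf z = 2 → ZS ↥(Subgroup.centralizer ({z} : Set G)) := by
      intro z hz
      apply ih'
      have h3 : Subgroup.centralizer ({z} : Set G) ≠ ⊤ := by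
        intro h
        apply h2 z _ hz
        rw [Subgroup.mem_center_iff]
        intro g
        have h4 : g ∈ Subgroup.centralizer ({z} : Set G) := by rw [h]; exact Subgroup.mem_top g
        exact Subgroup.mem_centralizer_singleton_iff.mp h4
      have h4 : Nat.card (Subgroup.centralizer ({z} : Set G)) ≤ Nat.card G :=
        Subgroup.card_le_card_group _
      rcases Nat.lt_or_ge (Nat.card (Subgroup.centralizer ({z} : Set G))) (Nat.card G) with h | h
      · exact h
      · exfalso
        exact h3 (Subgroup.card_eq_iff_eq_top _ |>.mp (le_antisymm h4 h))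
    exact central_of_chars hM ih' hcent hO ht hu hut hne

/-- **Glauberman's `Z*`-theorem**: an isolated involution is central modulo `O(G)`. -/
theorem zstar {G : Type u} [Group G] [Finite G] {t : G} (ht : IsIsolatedInvolution t) (g : G) :
    t * g * t⁻¹ * g⁻¹ ∈ Cfsg.pPrimeCore 2 G :=
  zs_aux (Nat.card G) G rfl t ht g

end Cfsg.Agent.H2.ZStar
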