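import Mathlib
import Cfsg.Prelude.Def_TwoFusion
import Cfsg.Prelude.Def_CaseTheorems
import Cfsg.Agent.H2.ZStarD
import Cfsg.Agent.H2.PPrimeCore
import Cfsg.Agent.H2.ConjMap
import Cfsg.Agent.H1.Cores

set_option autoImplicit false

namespace Cfsg.Agent.H2.CenterZStar

open Cfsg

section

universe u
variable {G : Type u} [Group G] [Finite G]

/-- If `w` is centralized by a Sylow `2`-subgroup containing it, then any element normalizing
`⟨w⟩` centralizes `w` (the automorphism group of a cyclic `2`-group is a `2`-group). -/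
theorem conj_eq_of_mem_zpowers (P : Sylow 2 G) (w : G) (hwP : w ∈ P)
    (hc : ∀ s ∈ P, s * w = w * s) (g : G) (hg : g * w * g⁻¹ ∈ Subgroup.zpowers w) :
    g * w * g⁻¹ = w := by
  classical
  have : Fact (Nat.Prime 2) := ⟨Nat.prime_two⟩
  set Q := Subgroup.zpowers w with hQ
  set N := Subgroup.normalizer (Q : Set G) with hN
  -- g normalizes Q
  have hmap : Q.map (MulAut.conj g).toMonoidHom = Q := by
    apply Subgroup.eq_of_le_of_card_ge
    · rintro _ ⟨q, hq, rfl⟩
      obtain ⟨k, rfl⟩ := Subgroup.mem_zpowers_iff.1 hq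
      show g * w ^ k * g⁻¹ ∈ Q
      rw [← conj_zpow]
      exact Subgroup.zpow_mem _ hg k
    · rw [Nat.card_congr (Q.equivMapOfInjective _ (MulAut.conj g).injective).toEquiv.symm]
  have hgN : g ∈ N := (map_conj_eq_self_iff_mem_normalizer Q g).1 hmap
  -- P normalizes Q, acting trivially
  have hPcomm : ∀ s ∈ P, ∀ q ∈ Q, s * q * s⁻¹ = q := by
    intro s hs q hq
    obtain ⟨k, rfl⟩ := Subgroup.mem_zpowers_iff.1 hq
    have h1 : Commute s w := hc s hs
    have h2 : Commute s (w ^ k) := h1.zpow_right k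
    rw [h2.eq, mul_inv_cancel_right]
  have hPN : (P : Subgroup G) ≤ N := by
    intro s hs
    rw [hN, Subgroup.mem_normalizer_iff]
    intro q
    constructor
    · intro hq; rw [hPcomm s hs q hq]; exact hq
    · intro hq
      have h1 := hPcomm s hs _ hq
      have h2 : s * q * s⁻¹ = q := by
        have h3 : s * (s * q * s⁻¹) * s⁻¹ = s * q * s⁻¹ := h1
        have h4 : s⁻¹ * (s * (s * q * s⁻¹) * s⁻¹) * s = s⁻¹ * (s * q * s⁻¹) * s := by rw [h3]
        simpa [mul_assoc] using h4
      rw [← h2]; exact hq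
  -- the conjugation action of N on Q
  let H : Subgroup ↥N := Q.subgroupOf N
  have hHn : H.Normal := Subgroup.normal_in_normalizer
  let ρ : ↥N →* MulAut ↥H := MulAut.conjNormal
  have hQN : Q ≤ N := Subgroup.le_normalizer
  let eH : ↥H ≃* ↥Q := Subgroup.subgroupOfEquivOfLe hQN
  have hcyc : IsCyclic ↥H := by
    have : IsCyclic ↥Q := by rw [hQ]; infer_instance
    exact isCyclic_of_surjective eH.symm eH.symm.surjective
  obtain ⟨j, hj⟩ := (IsPGroup.iff_orderOf.1 P.2) ⟨w, hwP⟩
  have hj' : orderOf w = 2 ^ j := by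
    rw [← hj]; exact (Subgroup.orderOf_mk w hwP).symm
  have hcardH : Nat.card ↥H = 2 ^ j := by
    rw [Nat.card_congr eH.toEquiv, hQ, Nat.card_zpowers, hj']
  have hAut : IsPGroup 2 (MulAut ↥H) := by
    have h1 := IsCyclic.card_mulAut (G := ↥H)
    rw [hcardH] at h1
    rcases Nat.eq_zero_or_pos j with h0 | h0
    · apply IsPGroup.of_card (n := 0)
      rw [h1, h0, pow_zero, Nat.totient_one]
    · apply IsPGroup.of_card (n := j - 1)
      rw [h1, Nat.totient_prime_pow Nat.prime_two h0]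
      simp
  have hrange : IsPGroup 2 ρ.range := hAut.to_subgroup ρ.range
  obtain ⟨i, hi⟩ := hrange.exists_card_eq
  have hidx : ρ.ker.index = 2 ^ i := by rw [Subgroup.index_ker, hi]
  have hPker : (P : Subgroup G).subgroupOf N ≤ ρ.ker := by
    intro s hs
    rw [MonoidHom.mem_ker]
    ext h
    rw [MulAut.conjNormal_apply, MulAut.one_apply]
    have hsP : (s : G) ∈ (P : Subgroup G) := hs
    have hh : ((h : ↥N) : G) ∈ Q := h.2
    show (s : G) * ((h : ↥N) : G) * (s : G)⁻¹ = ((h : ↥N) : G)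
    exact hPcomm _ hsP _ hh
  have h1 : ρ.ker.index ∣ ((P : Subgroup G).subgroupOf N).index := Subgroup.index_dvd_of_le hPker
  have h2 : ((P : Subgroup G).subgroupOf N).index ∣ (P : Subgroup G).index :=
    Subgroup.relIndex_dvd_index_of_le hPN
  have h3 : ¬ 2 ∣ (P : Subgroup G).index := P.not_dvd_index
  have hi0 : i = 0 := by
    by_contra hne
    apply h3
    have : 2 ∣ 2 ^ i := dvd_pow_self 2 hne
    rw [← hidx] at this
    exact this.trans (h1.trans h2)
  rw [hi0, pow_zero, Subgroup.index_eq_one] at hidx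
  have hker : (⟨g, hgN⟩ : ↥N) ∈ ρ.ker := by rw [hidx]; exact Subgroup.mem_top _
  rw [MonoidHom.mem_ker] at hker
  have hwH : (⟨w, hQN (Subgroup.mem_zpowers w)⟩ : ↥N) ∈ H := by
    show w ∈ Q
    exact Subgroup.mem_zpowers w
  have := congrArg (fun τ : MulAut ↥H => (((τ ⟨_, hwH⟩ : ↥H) : ↥N) : G)) hker
  simpa [ρ, MulAut.conjNormal_apply] using this

end

end Cfsg.Agent.H2.CenterZStar
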