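import Mathlib
import Cfsg.Agent.H2.CenterZStarA

set_option autoImplicit false

namespace Cfsg.Agent.H2.CenterZStar

open Cfsg

section cyc

variable {G : Type*} [Group G]

/-- In a cyclic group `⟨w⟩` there is at most one involution. -/
theorem invol_unique (w e ζ : G) (he : e ∈ Subgroup.zpowers w) (hζ : ζ ∈ Subgroup.zpowers w)
    (hee : e * e = 1) (he1 : e ≠ 1) (hζζ : ζ * ζ = 1) (hζ1 : ζ ≠ 1) : e = ζ := by
  obtain ⟨a, rfl⟩ := Subgroup.mem_zpowers_iff.1 he
  obtain ⟨b, rfl⟩ := Subgroup.mem_zpowers_iff.1 hζ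
  rw [← zpow_add, ← orderOf_dvd_iff_zpow_eq_one] at hee hζζ
  rw [Ne, ← orderOf_dvd_iff_zpow_eq_one] at he1 hζ1
  obtain ⟨c, hc⟩ := hee
  obtain ⟨d, hd⟩ := hζζ
  have hcodd : ¬ 2 ∣ c := by
    rintro ⟨c', rfl⟩
    apply he1
    exact ⟨c', by linarith⟩
  have hdodd : ¬ 2 ∣ d := by
    rintro ⟨d', rfl⟩
    apply hζ1
    exact ⟨d', by linarith⟩
  obtain ⟨c', hc'⟩ : ∃ c', c = 2 * c' + 1 := ⟨c / 2, by omega⟩
  obtain ⟨d', hd'⟩ : ∃ d', d = 2 * d' + 1 := ⟨d / 2, by omega⟩
  have hdvd : (orderOf w : ℤ) ∣ a - b := by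
    refine ⟨c' - d', ?_⟩
    rw [hc'] at hc
    rw [hd'] at hd
    have h2 : 2 * (a - b) = 2 * (↑(orderOf w) * (c' - d')) := by linear_combination hc - hd
    exact mul_left_cancel₀ two_ne_zero h2
  rw [orderOf_dvd_iff_zpow_eq_one, zpow_sub, mul_inv_eq_one] at hdvd
  exact hdvd

/-- A nontrivial `2`-element of `⟨w⟩` has the involution of `⟨w⟩` among its powers. -/
theorem invol_mem_zpowers (w w' ζ : G) (hw' : w' ∈ Subgroup.zpowers w) (hζ : ζ ∈ Subgroup.zpowers w)
    (hζζ : ζ * ζ = 1) (hζ1 : ζ ≠ 1) (k : ℕ) (hk : orderOf w' = 2 ^ k) (hw1 : w' ≠ 1) :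
    ζ ∈ Subgroup.zpowers w' := by
  have hk0 : k ≠ 0 := by
    rintro rfl
    rw [pow_zero, orderOf_eq_one_iff] at hk
    exact hw1 hk
  obtain ⟨m, rfl⟩ := Nat.exists_eq_succ_of_ne_zero hk0
  have h1 : orderOf (w' ^ 2 ^ m) = 2 := by
    rw [orderOf_pow' w' (by positivity : 2 ^ m ≠ 0), hk, pow_succ, Nat.gcd_eq_right (dvd_mul_right _ _)]
    exact Nat.mul_div_cancel_left _ (by positivity)
  have h2 : w' ^ 2 ^ m * w' ^ 2 ^ m = 1 := by
    have := pow_orderOf_eq_one (w' ^ 2 ^ m)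
    rwa [h1, pow_two] at this
  have h3 : w' ^ 2 ^ m ≠ 1 := by
    intro h; rw [h, orderOf_one] at h1; omega
  have h4 : w' ^ 2 ^ m ∈ Subgroup.zpowers w := Subgroup.pow_mem _ hw' _
  have := invol_unique w _ ζ h4 hζ h2 h3 hζζ hζ1
  rw [← this]
  exact Subgroup.pow_mem _ (Subgroup.mem_zpowers w') _

end cyc

section quot

universe u
variable {G : Type u} [Group G] [Finite G]

/-- Factoring out a central `2`-subgroup does not create an odd core. -/
theorem pPrimeCore_quotient_central (Z₀ : Subgroup G) [Z₀.Normal]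
    (hZc : Z₀ ≤ Subgroup.center G) (hZ2 : IsPGroup 2 Z₀) (hO : Cfsg.pPrimeCore 2 G = ⊥) :
    Cfsg.pPrimeCore 2 (G ⧸ Z₀) = ⊥ := by
  classical
  set OY := Cfsg.pPrimeCore 2 (G ⧸ Z₀) with hOY
  have hOYn : OY.Normal := Cfsg.Agent.H1.pPrimeCore_normal 2
  set K := OY.comap (QuotientGroup.mk' Z₀) with hK
  have hKn : K.Normal := Subgroup.Normal.comap hOYn _
  have hZK : Z₀ ≤ K := by
    intro x hx
    rw [hK, Subgroup.mem_comap]
    have : QuotientGroup.mk' Z₀ x = 1 := (QuotientGroup.eq_one_iff x).2 hx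
    rw [this]; exact Subgroup.one_mem _
  have hcardK : Nat.card K = Nat.card OY * Nat.card Z₀ := Cfsg.Agent.H2.card_comap_mk' Z₀ OY
  have hmodd : (Nat.card OY).Coprime 2 := Cfsg.Agent.H1.pPrimeCore_coprime 2
  obtain ⟨a, ha⟩ := hZ2.exists_card_eq
  -- inside K
  let Z' : Subgroup ↥K := Z₀.subgroupOf K
  have hZ'n : Z'.Normal := Subgroup.Normal.subgroupOf inferInstance K
  have hcardZ' : Nat.card Z' = Nat.card Z₀ :=
    Nat.card_congr (Subgroup.subgroupOfEquivOfLe hZK).toEquiv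
  have hidx : Z'.index = Nat.card OY := by
    have h1 := Subgroup.card_mul_index Z'
    rw [hcardZ', hcardK] at h1
    have hpos : 0 < Nat.card Z₀ := Nat.card_pos
    have : Nat.card Z₀ * Z'.index = Nat.card Z₀ * Nat.card OY := by rw [h1, mul_comm]
    exact Nat.eq_of_mul_eq_mul_left hpos this
  have hcop : Nat.Coprime (Nat.card Z') Z'.index := by
    rw [hcardZ', hidx, ha]
    exact Nat.Coprime.pow_left a hmodd.symm
  obtain ⟨H', hH'⟩ := Subgroup.exists_right_complement'_of_coprime hcop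
  have hcardH' : Nat.card H' = Nat.card OY := by
    have h1 := hH'.card_mul_card
    rw [hcardZ', hcardK] at h1
    have hpos : 0 < Nat.card Z₀ := Nat.card_pos
    have : Nat.card Z₀ * Nat.card H' = Nat.card Z₀ * Nat.card OY := by rw [h1, mul_comm]
    exact Nat.eq_of_mul_eq_mul_left hpos this
  set H := H'.map K.subtype with hH
  have hcardH : Nat.card H = Nat.card OY := by
    rw [hH, ← hcardH']
    exact (Nat.card_congr (H'.equivMapOfInjective K.subtype K.subtype_injective).toEquiv).symm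
  -- H is normal in G
  have hHn : H.Normal := by
    constructor
    intro h hh g
    obtain ⟨h', hh', rfl⟩ := hh
    have hkK : g * (h' : G) * g⁻¹ ∈ K := hKn.conj_mem _ h'.2 g
    obtain ⟨⟨⟨ζ, hζ⟩, ⟨h₁, hh₁⟩⟩, hprod, -⟩ :=
      ((Subgroup.isComplement'_def.1 hH').existsUnique ⟨g * (h' : G) * g⁻¹, hkK⟩)
    simp only at hprod
    have hprod' : (ζ : G) * (h₁ : G) = g * (h' : G) * g⁻¹ := congrArg Subtype.val hprod
    set m := Nat.card OY with hm
    have hh'm : h' ^ m = 1 := by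
      have := pow_card_eq_one' (G := ↥H') (x := ⟨h', hh'⟩)
      rw [hcardH'] at this
      exact congrArg Subtype.val this
    have hh₁m : h₁ ^ m = 1 := by
      have := pow_card_eq_one' (G := ↥H') (x := ⟨h₁, hh₁⟩)
      rw [hcardH'] at this
      exact congrArg Subtype.val this
    have hζZ : (ζ : G) ∈ Z₀ := hζ
    have hζc : Commute (ζ : G) (h₁ : G) := by
      have := Subgroup.mem_center_iff.1 (hZc hζZ) (h₁ : G)
      exact this.symm
    have h1 : ((ζ : G) * (h₁ : G)) ^ m = (ζ : G) ^ m := by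
      rw [hζc.mul_pow]
      have : ((h₁ : ↥K) : G) ^ m = 1 := by
        have := congrArg Subtype.val hh₁m
        simpa using this
      rw [this, mul_one]
    have h2 : (g * (h' : G) * g⁻¹) ^ m = 1 := by
      rw [conj_pow]
      have : ((h' : ↥K) : G) ^ m = 1 := by
        have := congrArg Subtype.val hh'm
        simpa using this
      rw [this]; group
    have hζm : (ζ : G) ^ m = 1 := by rw [← h1, hprod', h2]
    have hζ1 : (ζ : G) = 1 := by
      have h3 : orderOf (ζ : G) ∣ m := orderOf_dvd_of_pow_eq_one hζm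
      have h4 : orderOf (ζ : G) ∣ 2 ^ a := by
        have := orderOf_dvd_natCard (⟨(ζ : G), hζZ⟩ : ↥Z₀)
        rw [ha] at this
        rwa [Subgroup.orderOf_mk] at this
      have h5 : orderOf (ζ : G) ∣ Nat.gcd m (2 ^ a) := Nat.dvd_gcd h3 h4
      have h6 : Nat.gcd m (2 ^ a) = 1 := Nat.Coprime.pow_right a hmodd
      rw [h6, Nat.dvd_one, orderOf_eq_one_iff] at h5
      exact h5
    rw [hζ1, one_mul] at hprod'
    show g * (h' : G) * g⁻¹ ∈ H
    rw [← hprod']
    exact ⟨h₁, hh₁, rfl⟩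
  have hle : H ≤ Cfsg.pPrimeCore 2 G :=
    Cfsg.Agent.H1.le_pPrimeCore hHn (by rw [hcardH]; exact hmodd)
  rw [hO, le_bot_iff] at hle
  have : Nat.card H = 1 := by rw [hle]; exact Subgroup.card_bot
  rw [hcardH] at this
  exact Subgroup.eq_bot_of_card_eq _ this

end quot

end Cfsg.Agent.H2.CenterZStar
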