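import Mathlib
import Cfsg.Agent.H2.CenterZStarB

set_option autoImplicit false

namespace Cfsg.Agent.H2.CenterZStar

open Cfsg

section main

universe u
set_option linter.unusedSectionVars false

variable {G : Type u} [Group G] [Finite G]

/-- The fusion hypotheses: `w ∈ Z(P)`, `ζ` the involution of `⟨w⟩` central in `G`, and every
involution `e` of `P` outside `⟨w⟩` is `P`-conjugate to `e ζ`. -/
structure Hyp (P : Sylow 2 G) (w ζ : G) : Prop where
  wP : w ∈ P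
  wc : ∀ s ∈ P, s * w = w * s
  ζ2 : orderOf ζ = 2
  ζw : ζ ∈ Subgroup.zpowers w
  ζc : ∀ g : G, g * ζ = ζ * g
  inv : ∀ e ∈ P, e * e = 1 → e ∉ Subgroup.zpowers w → ∃ s₁ ∈ P, s₁ * e * s₁⁻¹ = e * ζ

variable {P : Sylow 2 G} {w ζ : G}

theorem Hyp.ζζ (h : Hyp P w ζ) : ζ * ζ = 1 := by
  have := pow_orderOf_eq_one ζ
  rwa [h.ζ2, pow_two] at this

theorem Hyp.ζ1 (h : Hyp P w ζ) : ζ ≠ 1 := by
  intro h1
  have := h.ζ2
  rw [h1, orderOf_one] at this
  omega

theorem Hyp.le (h : Hyp P w ζ) : Subgroup.zpowers w ≤ (P : Subgroup G) := by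
  rw [Subgroup.zpowers_le]; exact h.wP

theorem Hyp.comm (h : Hyp P w ζ) {w' : G} (hw' : w' ∈ Subgroup.zpowers w) :
    ∀ s ∈ P, s * w' = w' * s := by
  intro s hs
  obtain ⟨k, rfl⟩ := Subgroup.mem_zpowers_iff.1 hw'
  have h1 : Commute s w := h.wc s hs
  exact (h1.zpow_right k).eq

/-- The fusion lemma. -/
theorem Hyp.fusion (h : Hyp P w ζ) {w' : G} (hw' : w' ∈ Subgroup.zpowers w)
    (hw2 : ∀ g : G, g * (w' * w') = (w' * w') * g) (g : G) (hs : g * w' * g⁻¹ ∈ P) :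
    g * w' * g⁻¹ = w' ∨ g * w' * g⁻¹ = w' * ζ := by
  have hw'P : w' ∈ P := h.le hw'
  have hcomm := h.comm hw'
  set s := g * w' * g⁻¹ with hsdef
  set e := s * w'⁻¹ with hedef
  have heP : e ∈ P := Subgroup.mul_mem _ hs (Subgroup.inv_mem _ hw'P)
  have hsw : s * w' = w' * s := hcomm s hs
  have hss : s * s = w' * w' := by
    have h1 : s * s = g * (w' * w') * g⁻¹ := by rw [hsdef]; group
    rw [h1, hw2 g, mul_inv_cancel_right]
  have hee : e * e = 1 := by
    have h1 : w'⁻¹ * s = s * w'⁻¹ := by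
      have : s = w' * s * w'⁻¹ := by rw [← hsw, mul_inv_cancel_right]
      calc w'⁻¹ * s = w'⁻¹ * (w' * s * w'⁻¹) := by rw [← this]
        _ = s * w'⁻¹ := by group
    calc e * e = s * (w'⁻¹ * s) * w'⁻¹ := by rw [hedef]; group
      _ = (s * s) * (w'⁻¹ * w'⁻¹) := by rw [h1]; group
      _ = 1 := by rw [hss]; group
  have hs_eq : s = e * w' := by rw [hedef, inv_mul_cancel_right]
  by_cases he : e ∈ Subgroup.zpowers w
  · by_cases he1 : e = 1
    · left; rw [hs_eq, he1, one_mul]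
    · right
      have := invol_unique w e ζ he h.ζw hee he1 h.ζζ h.ζ1
      rw [hs_eq, this, h.ζc w']
  · exfalso
    obtain ⟨s₁, hs₁P, hs₁⟩ := h.inv e heP hee he
    have hw1 : w' ≠ 1 := by
      intro h1
      apply he
      rw [hedef, hsdef, h1]
      simp
    have h1 : s₁ * s * s₁⁻¹ = s * ζ := by
      have h2 : s₁ * w' * s₁⁻¹ = w' := by
        rw [hcomm s₁ hs₁P, mul_inv_cancel_right]
      calc s₁ * s * s₁⁻¹ = (s₁ * e * s₁⁻¹) * (s₁ * w' * s₁⁻¹) := by rw [hs_eq]; group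
        _ = e * ζ * w' := by rw [hs₁, h2]
        _ = e * w' * ζ := by rw [mul_assoc e ζ w', ← h.ζc w', ← mul_assoc]
        _ = s * ζ := by rw [← hs_eq]
    have h3 : (g⁻¹ * s₁ * g) * w' * (g⁻¹ * s₁ * g)⁻¹ = w' * ζ := by
      calc (g⁻¹ * s₁ * g) * w' * (g⁻¹ * s₁ * g)⁻¹ = g⁻¹ * (s₁ * (g * w' * g⁻¹) * s₁⁻¹) * g := by
            group
        _ = g⁻¹ * (s * ζ) * g := by rw [← hsdef, h1]
        _ = g⁻¹ * (g * w' * g⁻¹) * (ζ * g) := by rw [hsdef]; group
        _ = g⁻¹ * (g * w' * g⁻¹) * (g * ζ) := by rw [h.ζc g]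
        _ = w' * ζ := by group
    obtain ⟨k, hk⟩ := (IsPGroup.iff_orderOf.1 P.2) ⟨w', hw'P⟩
    have hk' : orderOf w' = 2 ^ k := by
      rw [← hk]; exact (Subgroup.orderOf_mk w' hw'P).symm
    have hζmem := invol_mem_zpowers w w' ζ hw' h.ζw h.ζζ h.ζ1 k hk' hw1
    have hmem : (g⁻¹ * s₁ * g) * w' * (g⁻¹ * s₁ * g)⁻¹ ∈ Subgroup.zpowers w' := by
      rw [h3]
      exact Subgroup.mul_mem _ (Subgroup.mem_zpowers w') hζmem
    have h4 := conj_eq_of_mem_zpowers P w' hw'P hcomm _ hmem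
    rw [h3] at h4
    apply h.ζ1
    exact mul_left_cancel (a := w') (by rw [h4, mul_one])

/-- One step: if `w' ^ 2` is central in `G`, so is `w'`. -/
theorem Hyp.step (h : Hyp P w ζ) (hO : Cfsg.pPrimeCore 2 G = ⊥) {w' : G}
    (hw' : w' ∈ Subgroup.zpowers w) (hw2 : ∀ g : G, g * (w' * w') = (w' * w') * g)
    (hw1 : (w' * w') ≠ 1) : ∀ g : G, g * w' = w' * g := by
  classical
  have hw'P : w' ∈ P := h.le hw'
  have hcomm := h.comm hw'
  set Z₀ := Subgroup.zpowers (w' * w') with hZ₀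
  have hZc : Z₀ ≤ Subgroup.center G := by
    rw [hZ₀, Subgroup.zpowers_le, Subgroup.mem_center_iff]
    intro g; exact hw2 g
  have hZn : Z₀.Normal := by
    constructor
    intro n hn g
    have := Subgroup.mem_center_iff.1 (hZc hn) g
    rw [this, mul_inv_cancel_right]; exact hn
  have hww'P : w' * w' ∈ P := Subgroup.mul_mem _ hw'P hw'P
  have hZP : Z₀ ≤ (P : Subgroup G) := by rw [hZ₀, Subgroup.zpowers_le]; exact hww'P
  have hZ2 : IsPGroup 2 Z₀ := P.2.to_le hZP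
  have hZw' : Z₀ ≤ Subgroup.zpowers w' := by
    rw [hZ₀, Subgroup.zpowers_le]
    exact Subgroup.mul_mem _ (Subgroup.mem_zpowers w') (Subgroup.mem_zpowers w')
  -- ζ ∈ Z₀
  have hζZ : ζ ∈ Z₀ := by
    obtain ⟨k, hk⟩ := (IsPGroup.iff_orderOf.1 P.2) ⟨w' * w', hww'P⟩
    have hk' : orderOf (w' * w') = 2 ^ k := by
      rw [← hk]; exact (Subgroup.orderOf_mk _ hww'P).symm
    exact invol_mem_zpowers w (w' * w') ζ (Subgroup.mul_mem _ hw' hw') h.ζw h.ζζ h.ζ1 k hk' hw1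
  -- w' ∉ Z₀
  have hw'Z : w' ∉ Z₀ := by
    intro hmem
    have h1 : Subgroup.zpowers w' ≤ Z₀ := by rw [Subgroup.zpowers_le]; exact hmem
    have h2 : Subgroup.zpowers w' = Z₀ := le_antisymm h1 hZw'
    have h3 : orderOf w' = orderOf (w' * w') := by
      rw [← Nat.card_zpowers, ← Nat.card_zpowers, h2]
    obtain ⟨k, hk⟩ := (IsPGroup.iff_orderOf.1 P.2) ⟨w', hw'P⟩
    have hk' : orderOf w' = 2 ^ k := by
      rw [← hk]; exact (Subgroup.orderOf_mk w' hw'P).symm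
    have hk0 : k ≠ 0 := by
      rintro rfl
      rw [pow_zero, orderOf_eq_one_iff] at hk'
      apply hw1; rw [hk', one_mul]
    obtain ⟨m, rfl⟩ := Nat.exists_eq_succ_of_ne_zero hk0
    have h4 : orderOf (w' * w') = 2 ^ m := by
      rw [← pow_two, orderOf_pow' w' (by norm_num : 2 ≠ 0), hk', pow_succ,
        Nat.gcd_eq_right (dvd_mul_left 2 _), Nat.mul_div_cancel _ (by norm_num : 0 < 2)]
    rw [hk', h4, pow_succ] at h3
    have : 0 < 2 ^ m := by positivity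
    omega
  let π := QuotientGroup.mk' Z₀
  have hπsurj : Function.Surjective π := QuotientGroup.mk'_surjective Z₀
  have hπ1 : ∀ x : G, π x = 1 ↔ x ∈ Z₀ := fun x => QuotientGroup.eq_one_iff x
  have : Fact (Nat.Prime 2) := ⟨Nat.prime_two⟩
  let PY : Sylow 2 (G ⧸ Z₀) := P.mapSurjective hπsurj
  have hu2 : orderOf (π w') = 2 := by
    apply orderOf_eq_prime
    · rw [← map_pow, hπ1, pow_two]; exact Subgroup.mem_zpowers _
    · rw [Ne, hπ1]; exact hw'Z
  have huP : π w' ∈ PY := ⟨w', hw'P, rfl⟩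
  have hiso : ∀ y : G ⧸ Z₀, y * π w' * y⁻¹ ∈ PY → y * π w' * y⁻¹ = π w' := by
    intro y hy
    obtain ⟨g, rfl⟩ := hπsurj y
    have hy' : π (g * w' * g⁻¹) ∈ (P : Subgroup G).map π := by
      rw [map_mul, map_mul, map_inv]; exact hy
    obtain ⟨p, hpP, hp⟩ := hy'
    have h1 : p⁻¹ * (g * w' * g⁻¹) ∈ Z₀ := by
      rw [← hπ1, map_mul, map_inv, hp, inv_mul_cancel]
    have h2 : g * w' * g⁻¹ ∈ P := by
      have : g * w' * g⁻¹ = p * (p⁻¹ * (g * w' * g⁻¹)) := by group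
      rw [this]; exact Subgroup.mul_mem _ hpP (hZP h1)
    have h3 : π (g * w' * g⁻¹) = π w' := by
      rcases h.fusion hw' hw2 g h2 with h4 | h4
      · rw [h4]
      · rw [h4, map_mul, (hπ1 ζ).2 hζZ, mul_one]
    calc π g * π w' * (π g)⁻¹ = π (g * w' * g⁻¹) := by rw [map_mul, map_mul, map_inv]
      _ = π w' := h3
  have hisol := Cfsg.Agent.H2.ZStar.isIsolated_of_sylow PY (π w') hu2 huP hiso
  have hOY := pPrimeCore_quotient_central Z₀ hZc hZ2 hO
  intro g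
  have hz := Cfsg.Agent.H2.ZStar.zstar hisol (π g)
  rw [hOY, Subgroup.mem_bot, ← map_inv, ← map_inv, ← map_mul, ← map_mul, ← map_mul, hπ1] at hz
  -- c = w' g w'⁻¹ g⁻¹ ∈ Z₀
  have hmem : g * w' * g⁻¹ ∈ Subgroup.zpowers w' := by
    have h1 : g * w' * g⁻¹ = (w' * g * w'⁻¹ * g⁻¹)⁻¹ * w' := by group
    rw [h1]
    exact Subgroup.mul_mem _ (Subgroup.inv_mem _ (hZw' hz)) (Subgroup.mem_zpowers w')
  have h4 := conj_eq_of_mem_zpowers P w' hw'P hcomm g hmem
  calc g * w' = (g * w' * g⁻¹) * g := by group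
    _ = w' * g := by rw [h4]

/-- **Main theorem**: under the fusion hypotheses and `O(G) = 1`, `w` is central in `G`. -/
theorem Hyp.central (h : Hyp P w ζ) (hO : Cfsg.pPrimeCore 2 G = ⊥) :
    ∀ w' ∈ Subgroup.zpowers w, ∀ g : G, g * w' = w' * g := by
  have main : ∀ n : ℕ, ∀ w' ∈ Subgroup.zpowers w, orderOf w' = n → ∀ g : G, g * w' = w' * g := by
    intro n
    induction n using Nat.strong_induction_on with
    | _ n ih =>
      intro w' hw' hn
      by_cases h1 : w' = 1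
      · intro g; rw [h1, mul_one, one_mul]
      have hw'P : w' ∈ P := h.le hw'
      obtain ⟨k, hk⟩ := (IsPGroup.iff_orderOf.1 P.2) ⟨w', hw'P⟩
      have hk' : orderOf w' = 2 ^ k := by
        rw [← hk]; exact (Subgroup.orderOf_mk w' hw'P).symm
      have hk0 : k ≠ 0 := by
        rintro rfl
        rw [pow_zero, orderOf_eq_one_iff] at hk'
        exact h1 hk'
      obtain ⟨m, rfl⟩ := Nat.exists_eq_succ_of_ne_zero hk0
      have h4 : orderOf (w' * w') = 2 ^ m := by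
        rw [← pow_two, orderOf_pow' w' (by norm_num : 2 ≠ 0), hk', pow_succ,
          Nat.gcd_eq_right (dvd_mul_left 2 _), Nat.mul_div_cancel _ (by norm_num : 0 < 2)]
      have hlt : orderOf (w' * w') < n := by
        rw [h4, ← hn, hk', pow_succ]
        have : 0 < 2 ^ m := by positivity
        omega
      have hw2 := ih _ hlt (w' * w') (Subgroup.mul_mem _ hw' hw') rfl
      by_cases h2 : w' * w' = 1
      · -- w' = ζ
        have := invol_unique w w' ζ hw' h.ζw h2 h1 h.ζζ h.ζ1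
        intro g; rw [this]; exact h.ζc g
      · exact h.step hO hw' hw2 h2
  intro w' hw' g
  exact main _ w' hw' rfl g

end main

end Cfsg.Agent.H2.CenterZStar
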