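import Mathlib
import Cfsg.Agent.H1.PGroup
import Cfsg.Agent.H1.FrattiniExtra

/-!
# Thompson's lemma on `p`-central `p`-groups (helper2)

For `p` odd, a finite `p`-group `P` all of whose elements of order `p` are central satisfies
`d(P) ≤ d(Z(P))`; here in the form: every elementary abelian quotient `P / K` has order at most `#Ω₁(Z(P))`.
-/

set_option autoImplicit false
open scoped commutatorElement

namespace Cfsg.Agent.H2.PCentral

universe u

section formula
variable {G : Type*} [Group G]

lemma pow_mul_of_comm {x y c : G} (h : y * x = c * (x * y)) (hy : Commute c y) (n : ℕ) :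
    y ^ n * x = c ^ n * (x * y ^ n) := by
  induction n with
  | zero => simp
  | succ n ih =>
    have e1 : y ^ n * c = c * y ^ n := ((hy.pow_right n).eq).symm
    calc y ^ (n + 1) * x = y ^ n * (y * x) := by rw [pow_succ, mul_assoc]
      _ = y ^ n * (c * (x * y)) := by rw [h]
      _ = (y ^ n * c) * (x * y) := by rw [mul_assoc]
      _ = c * (y ^ n * x) * y := by rw [e1]; simp only [mul_assoc]
      _ = c * (c ^ n * (x * y ^ n)) * y := by rw [ih]
      _ = c ^ (n + 1) * (x * y ^ (n + 1)) := by
          rw [pow_succ' c, pow_succ y]; simp only [mul_assoc]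

lemma mul_pow_of_comm {x y c : G} (h : y * x = c * (x * y)) (hx : Commute c x) (hy : Commute c y)
    (n : ℕ) : (x * y) ^ n = c ^ (n.choose 2) * (x ^ n * y ^ n) := by
  induction n with
  | zero => simp
  | succ n ih =>
    have e1 : x ^ n * c ^ n = c ^ n * x ^ n := (((hx.pow_left n).pow_right n).eq).symm
    have e2 : (n + 1).choose 2 = n.choose 2 + n := by
      rw [Nat.choose_succ_succ, Nat.choose_one_right, add_comm]
    calc (x * y) ^ (n + 1) = (x * y) ^ n * (x * y) := pow_succ _ _
      _ = c ^ (n.choose 2) * (x ^ n * y ^ n) * (x * y) := by rw [ih]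
      _ = c ^ (n.choose 2) * (x ^ n * (y ^ n * x) * y) := by simp only [mul_assoc]
      _ = c ^ (n.choose 2) * (x ^ n * (c ^ n * (x * y ^ n)) * y) := by
          rw [pow_mul_of_comm h hy n]
      _ = c ^ (n.choose 2) * ((x ^ n * c ^ n) * (x * y ^ n) * y) := by simp only [mul_assoc]
      _ = c ^ (n.choose 2) * ((c ^ n * x ^ n) * (x * y ^ n) * y) := by rw [e1]
      _ = c ^ ((n + 1).choose 2) * (x ^ (n + 1) * y ^ (n + 1)) := by
          rw [e2, pow_add, pow_succ x, pow_succ y]; simp only [mul_assoc]

lemma mul_pow_prime_of_comm {p : ℕ} (hpp : p.Prime) (hp : p ≠ 2) {x y c : G}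
    (h : y * x = c * (x * y)) (hx : Commute c x) (hy : Commute c y) (hc : c ^ p = 1) :
    (x * y) ^ p = x ^ p * y ^ p := by
  rw [mul_pow_of_comm h hx hy p]
  have hdvd : p ∣ p.choose 2 := by
    apply hpp.dvd_choose_self (by norm_num)
    have := hpp.two_le
    omega
  obtain ⟨k, hk⟩ := hdvd
  rw [hk, pow_mul, hc, one_pow, one_mul]

end formula

/-- `P` is `p`-central: every element of order dividing `p` is central. -/
def IsPCentral (p : ℕ) (P : Type*) [Group P] : Prop := ∀ x : P, x ^ p = 1 → x ∈ Subgroup.center P

lemma IsPCentral.subgroup {p : ℕ} {P : Type*} [Group P] (h : IsPCentral p P) (M : Subgroup P) :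
    IsPCentral p ↥M := by
  intro m hm
  have h1 : (m : P) ^ p = 1 := by
    have := congrArg (fun u : ↥M => (u : P)) hm
    simpa using this
  have h2 := h (m : P) h1
  rw [Subgroup.mem_center_iff] at h2 ⊢
  intro g
  apply Subtype.ext
  simp only [Subgroup.coe_mul]
  exact h2 (g : P)

/-- Key claim: in a `p`-central `p`-group (`p` odd), `x ^ p = y ^ p` of order dividing `p` forces
`(x⁻¹ * y) ^ p = 1`. -/
theorem inv_mul_pow_eq_one {p : ℕ} [hp' : Fact p.Prime] (hp : p ≠ 2) :
    ∀ (n : ℕ) (P : Type u) [Group P] [Finite P], Nat.card P ≤ n → IsPGroup p P → IsPCentral p P →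
      ∀ x y : P, x ^ p = y ^ p → (x ^ p) ^ p = 1 → (x⁻¹ * y) ^ p = 1 := by
  have hpp := hp'.out
  intro n
  induction n with
  | zero =>
    intro P _ _ hcard
    have := Nat.card_pos (α := P)
    omega
  | succ n ih =>
    intro P _ _ hcard hP hcen x y hxy hxp
    by_cases hcyc : Subgroup.zpowers x = ⊤
    · -- `y` is a power of `x`
      have hy : y ∈ Subgroup.zpowers x := by rw [hcyc]; trivial
      obtain ⟨i, rfl⟩ := Subgroup.mem_zpowers_iff.mp hy
      have hcomm : Commute x⁻¹ (x ^ i) := ((Commute.refl x).zpow_right i).inv_left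
      rw [hcomm.mul_pow, inv_pow, hxy, inv_mul_cancel]
    · obtain ⟨M, hM, hxM⟩ := (eq_top_or_exists_le_coatom (Subgroup.zpowers x)).resolve_left hcyc
      obtain ⟨hMn, hMidx⟩ := Cfsg.Agent.H1.coatom_normal_index_of_pgroup hP M hM
      have hx : x ∈ M := hxM (Subgroup.mem_zpowers x)
      have hyx : y * x * y⁻¹ ∈ M := hMn.conj_mem x hx y
      have hMcard : Nat.card M ≤ n := by
        have h1 := M.card_mul_index
        rw [hMidx] at h1
        have h2 : Nat.card M * 2 ≤ Nat.card P := by
          rw [← h1]; exact Nat.mul_le_mul_left _ hpp.two_le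
        have := Nat.card_pos (α := M)
        omega
      -- `x ^ p` is central
      have hxpc : x ^ p ∈ Subgroup.center P := hcen _ hxp
      have hconj : (y * x * y⁻¹) ^ p = x ^ p := by
        rw [conj_pow]
        rw [Subgroup.mem_center_iff] at hxpc
        rw [hxpc y, mul_inv_cancel_right]
      have key := ih ↥M hMcard (hP.to_subgroup M) (hcen.subgroup M) ⟨x, hx⟩ ⟨y * x * y⁻¹, hyx⟩
        (by apply Subtype.ext; simp [hconj])
        (by apply Subtype.ext; simpa using hxp)
      have key' : (x⁻¹ * (y * x * y⁻¹)) ^ p = 1 := by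
        have := congrArg (fun u : ↥M => (u : P)) key
        simpa using this
      set c := x⁻¹ * (y * x * y⁻¹) with hc
      have hcc : c ∈ Subgroup.center P := hcen _ key'
      rw [Subgroup.mem_center_iff] at hcc
      -- y * x = c * (x * y)
      have h1 : y * x = c * (x * y) := by
        rw [← mul_assoc, ← hcc x, hc]; group
      -- y * x⁻¹ = c⁻¹ * (x⁻¹ * y)
      have h2 : y * x⁻¹ = c⁻¹ * (x⁻¹ * y) := by
        have e : x⁻¹ * y = c * (y * x⁻¹) := by
          rw [hc]; group
        rw [e, inv_mul_cancel_left]
      have hcx : Commute c⁻¹ x⁻¹ := (show Commute c x from (hcc x).symm).inv_inv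
      have hcy : Commute c⁻¹ y := (show Commute c y from (hcc y).symm).inv_left
      rw [mul_pow_prime_of_comm hpp hp h2 hcx hcy (by rw [inv_pow, key', inv_one]), inv_pow, hxy,
        inv_mul_cancel]

/-- the central elements of order dividing `p` -/
def Om (p : ℕ) (P : Type*) [Group P] : Subgroup P where
  carrier := {x | x ∈ Subgroup.center P ∧ x ^ p = 1}
  mul_mem' := by
    rintro a b ⟨ha, ha'⟩ ⟨hb, hb'⟩
    refine ⟨Subgroup.mul_mem _ ha hb, ?_⟩
    have hc : Commute a b := (Subgroup.mem_center_iff.mp hb a)
    rw [hc.mul_pow, ha', hb', one_mul]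
  one_mem' := ⟨Subgroup.one_mem _, one_pow _⟩
  inv_mem' := by
    rintro a ⟨ha, ha'⟩
    exact ⟨Subgroup.inv_mem _ ha, by rw [inv_pow, ha', inv_one]⟩

lemma mem_Om {p : ℕ} {P : Type*} [Group P] {x : P} :
    x ∈ Om p P ↔ x ∈ Subgroup.center P ∧ x ^ p = 1 := Iff.rfl

instance Om_normal (p : ℕ) (P : Type*) [Group P] : (Om p P).Normal := by
  constructor
  intro n hn g
  have h1 := Subgroup.mem_center_iff.mp hn.1 g
  rw [h1, mul_inv_cancel_right]
  exact hn

lemma Om_ne_bot {p : ℕ} [hp' : Fact p.Prime] {P : Type*} [Group P] [Finite P] [Nontrivial P]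
    (hP : IsPGroup p P) : Om p P ≠ ⊥ := by
  have hpp := hp'.out
  have hc : Nontrivial (Subgroup.center P) := hP.center_nontrivial
  obtain ⟨k, hk⟩ := (hP.to_subgroup (Subgroup.center P)).exists_card_eq
  have hk0 : k ≠ 0 := by
    rintro rfl
    rw [pow_zero] at hk
    have := (Nat.card_eq_one_iff_unique.mp hk).1
    exact not_subsingleton _ this
  have hdvd : p ∣ Nat.card (Subgroup.center P) := by
    rw [hk]; exact dvd_pow_self p hk0
  obtain ⟨z, hz⟩ := exists_prime_orderOf_dvd_card' p hdvd
  intro hbot
  have hzmem : (z : P) ∈ Om p P := by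
    refine ⟨z.2, ?_⟩
    have : z ^ p = 1 := by rw [← hz]; exact pow_orderOf_eq_one z
    have := congrArg (fun u : ↥(Subgroup.center P) => (u : P)) this
    simpa using this
  rw [hbot, Subgroup.mem_bot] at hzmem
  have : z = 1 := Subtype.ext hzmem
  rw [this, orderOf_one] at hz
  exact hpp.one_lt.ne hz

/-- **Thompson's lemma** (`p` odd): in a `p`-central `p`-group `P`, an elementary abelian quotient `P / K`
has order at most `#Ω₁(Z(P))`. -/
theorem index_le_card_Om {p : ℕ} [hp' : Fact p.Prime] (hp : p ≠ 2) :
    ∀ (n : ℕ) (P : Type u) [Group P] [Finite P], Nat.card P ≤ n → IsPGroup p P → IsPCentral p P →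
      ∀ K : Subgroup P, (∀ x y : P, ⁅x, y⁆ ∈ K) → (∀ x : P, x ^ p ∈ K) →
        K.index ≤ Nat.card (Om p P) := by
  have hpp := hp'.out
  intro n
  induction n with
  | zero =>
    intro P _ _ hcard
    have := Nat.card_pos (α := P)
    omega
  | succ n ih =>
    intro P _ _ hcard hP hcen K hKc hKp
    have hKn : K.Normal := by
      constructor
      intro k hk g
      have h1 := hKc g k
      have h2 : g * k * g⁻¹ = ⁅g, k⁆ * k := by rw [commutatorElement_def]; group
      rw [h2]
      exact K.mul_mem h1 hk
    by_cases hKtop : K = ⊤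
    · rw [hKtop, Subgroup.index_top]
      exact Nat.card_pos
    have hnt : Nontrivial P := by
      by_contra h
      rw [not_nontrivial_iff_subsingleton] at h
      exact hKtop (Subsingleton.elim _ _)
    by_cases hΩK : Om p P ≤ K
    · -- Case A: pass to the quotient by `Ω`
      have hΩne : Om p P ≠ ⊥ := Om_ne_bot hP
      have hcardΩ : 2 ≤ Nat.card (Om p P) := by
        by_contra h
        have h1 : Nat.card (Om p P) = 1 := by
          have := Nat.card_pos (α := Om p P)
          omega
        exact hΩne ((Subgroup.card_eq_one).mp h1)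
      have hQcard : Nat.card (P ⧸ Om p P) ≤ n := by
        have h1 := Subgroup.card_eq_card_quotient_mul_card_subgroup (Om p P)
        have h2 : Nat.card (P ⧸ Om p P) * 2 ≤ Nat.card P := by
          rw [h1]; exact Nat.mul_le_mul_left _ hcardΩ
        have := Nat.card_pos (α := P ⧸ Om p P)
        omega
      have hclaim := inv_mul_pow_eq_one (p := p) hp (Nat.card P) P le_rfl hP hcen
      -- the quotient is `p`-central
      have hQcen : IsPCentral p (P ⧸ Om p P) := by
        intro q hq
        induction q using QuotientGroup.induction_on with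
        | H x =>
          have hx : x ^ p ∈ Om p P := by
            rw [← QuotientGroup.eq_one_iff, QuotientGroup.mk_pow]; exact hq
          rw [Subgroup.mem_center_iff]
          intro g'
          induction g' using QuotientGroup.induction_on with
          | H g =>
            rw [← QuotientGroup.mk_mul, ← QuotientGroup.mk_mul, QuotientGroup.eq]
            have hxc := Subgroup.mem_center_iff.mp hx.1
            have h1 : (g⁻¹ * x * g⁻¹⁻¹) ^ p = x ^ p := by
              rw [conj_pow, hxc g⁻¹, mul_inv_cancel_right]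
            have h2 := hclaim x (g⁻¹ * x * g⁻¹⁻¹) h1.symm hx.2
            have h3 : (g * x)⁻¹ * (x * g) = x⁻¹ * (g⁻¹ * x * g⁻¹⁻¹) := by group
            rw [h3]
            exact ⟨hcen _ h2, h2⟩
      have hKbar_c : ∀ a b : P ⧸ Om p P, ⁅a, b⁆ ∈ K.map (QuotientGroup.mk' (Om p P)) := by
        intro a b
        induction a using QuotientGroup.induction_on with
        | H x =>
          induction b using QuotientGroup.induction_on with
          | H y =>
            refine ⟨⁅x, y⁆, hKc x y, ?_⟩
            simp [commutatorElement_def]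
      have hKbar_p : ∀ a : P ⧸ Om p P, a ^ p ∈ K.map (QuotientGroup.mk' (Om p P)) := by
        intro a
        induction a using QuotientGroup.induction_on with
        | H x =>
          exact ⟨x ^ p, hKp x, by simp⟩
      have hIH := ih (P ⧸ Om p P) hQcard (hP.to_quotient _) hQcen _ hKbar_c hKbar_p
      have hidx : (K.map (QuotientGroup.mk' (Om p P))).index = K.index := by
        apply Subgroup.index_map_eq
        · exact QuotientGroup.mk'_surjective _
        · rw [QuotientGroup.ker_mk']; exact hΩK
      rw [hidx] at hIH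
      refine hIH.trans ?_
      -- an injection `Ω(P/Ω) → Ω(P)`, `q ↦ (out q) ^ p`
      have hout : ∀ q : ↥(Om p (P ⧸ Om p P)), ((q : P ⧸ Om p P).out) ^ p ∈ Om p P := by
        intro q
        rw [← QuotientGroup.eq_one_iff, QuotientGroup.mk_pow, QuotientGroup.out_eq']
        exact q.2.2
      apply Nat.card_le_card_of_injective
        (fun q : ↥(Om p (P ⧸ Om p P)) => (⟨((q : P ⧸ Om p P).out) ^ p, hout q⟩ : ↥(Om p P)))
      intro q q' hqq'
      have h1 : ((q : P ⧸ Om p P).out) ^ p = ((q' : P ⧸ Om p P).out) ^ p := by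
        have := congrArg (fun u : ↥(Om p P) => (u : P)) hqq'
        simpa using this
      have h2 := hclaim _ _ h1 (hout q).2
      have h3 : ((q : P ⧸ Om p P).out)⁻¹ * ((q' : P ⧸ Om p P).out) ∈ Om p P := ⟨hcen _ h2, h2⟩
      have h4 := QuotientGroup.eq.mpr h3
      rw [QuotientGroup.out_eq', QuotientGroup.out_eq'] at h4
      exact Subtype.ext h4
    · -- Case B: split off a central element of order `p` outside `K`
      obtain ⟨z, hzΩ, hzK⟩ := SetLike.not_le_iff_exists.mp hΩK
      have hcomm : ∀ a b : P ⧸ K, a * b = b * a := by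
        intro a b
        induction a using QuotientGroup.induction_on with
        | H x =>
          induction b using QuotientGroup.induction_on with
          | H y =>
            rw [← QuotientGroup.mk_mul, ← QuotientGroup.mk_mul, QuotientGroup.eq]
            have h1 := hKc y⁻¹ x⁻¹
            have h2 : (x * y)⁻¹ * (y * x) = ⁅y⁻¹, x⁻¹⁆ := by rw [commutatorElement_def]; group
            rw [h2]; exact h1
      have hexp : ∀ v : P ⧸ K, v ^ p = 1 := by
        intro v
        induction v using QuotientGroup.induction_on with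
        | H x =>
          rw [← QuotientGroup.mk_pow, QuotientGroup.eq_one_iff]; exact hKp x
      have hfr := Cfsg.Agent.H1.frattini_eq_bot_of_elementary_abelian (p := p) hcomm hexp
      have hz1 : (QuotientGroup.mk z : P ⧸ K) ≠ 1 := by
        rw [Ne, QuotientGroup.eq_one_iff]; exact hzK
      obtain ⟨Mb, hMb, hzMb⟩ := Cfsg.Agent.H1.exists_coatom_not_le_of_not_le_frattini
        (Subgroup.zpowers (QuotientGroup.mk z : P ⧸ K)) (by
          rw [hfr, le_bot_iff, Subgroup.zpowers_eq_bot]; exact hz1)
      obtain ⟨hMbn, hMbidx⟩ := Cfsg.Agent.H1.coatom_normal_index_of_pgroup (hP.to_quotient K) Mb hMb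
      have hzMb' : (QuotientGroup.mk z : P ⧸ K) ∉ Mb := fun h => hzMb (by
        rw [Subgroup.zpowers_le]; exact h)
      set M : Subgroup P := Mb.comap (QuotientGroup.mk' K) with hMdef
      have hMidx : M.index = p := by
        rw [hMdef, Subgroup.index_comap_of_surjective _ (QuotientGroup.mk'_surjective K)]
        exact hMbidx
      have hKM : K ≤ M := by
        intro k hk
        rw [hMdef, Subgroup.mem_comap, QuotientGroup.mk'_apply, (QuotientGroup.eq_one_iff k).mpr hk]
        exact Mb.one_mem
      have hzM : z ∉ M := hzMb'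
      have hMcard : Nat.card M ≤ n := by
        have h1 := M.card_mul_index
        rw [hMidx] at h1
        have h2 : Nat.card M * 2 ≤ Nat.card P := by
          rw [← h1]; exact Nat.mul_le_mul_left _ hpp.two_le
        have := Nat.card_pos (α := M)
        omega
      have hIH := ih ↥M hMcard (hP.to_subgroup M) (hcen.subgroup M) (K.subgroupOf M)
        (by
          intro x y
          rw [Subgroup.mem_subgroupOf]
          simpa [commutatorElement_def] using hKc (x : P) (y : P))
        (by
          intro x
          rw [Subgroup.mem_subgroupOf]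
          simpa using hKp (x : P))
      have hidx : K.index = (K.subgroupOf M).index * p := by
        have := Subgroup.relIndex_mul_index hKM
        rw [hMidx] at this
        exact this.symm
      -- `Ω(M)` embeds in `Ω(P) ⊓ M`
      have h5 : Nat.card (Om p ↥M) ≤ Nat.card ↥(Om p P ⊓ M) := by
        have hmem : ∀ m : ↥(Om p ↥M), ((m : ↥M) : P) ∈ Om p P ⊓ M := by
          intro m
          have h1 : ((m : ↥M) : P) ^ p = 1 := by
            have := congrArg (fun u : ↥M => (u : P)) m.2.2
            simpa using this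
          exact ⟨⟨hcen _ h1, h1⟩, (m : ↥M).2⟩
        apply Nat.card_le_card_of_injective
          (fun m : ↥(Om p ↥M) => (⟨((m : ↥M) : P), hmem m⟩ : ↥(Om p P ⊓ M)))
        intro m m' hmm
        have := congrArg (fun u : ↥(Om p P ⊓ M) => (u : P)) hmm
        exact Subtype.ext (Subtype.ext (by simpa using this))
      have h6 : Nat.card ↥(Om p P ⊓ M) * p ≤ Nat.card (Om p P) := by
        have hle : Om p P ⊓ M ≤ Om p P := inf_le_left
        have hdvd := Subgroup.card_dvd_of_le hle
        obtain ⟨b, hb⟩ := (hP.to_subgroup (Om p P)).exists_card_eq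
        rw [hb] at hdvd ⊢
        obtain ⟨a, hab, ha⟩ := (Nat.dvd_prime_pow hpp).mp hdvd
        rw [ha]
        have hne : a ≠ b := by
          rintro rfl
          have : Om p P ⊓ M = Om p P := Subgroup.eq_of_le_of_card_ge hle (by rw [ha, hb])
          have hz' : z ∈ Om p P ⊓ M := by rw [this]; exact hzΩ
          exact hzM hz'.2
        have : a + 1 ≤ b := by omega
        calc p ^ a * p = p ^ (a + 1) := (pow_succ p a).symm
          _ ≤ p ^ b := Nat.pow_le_pow_right hpp.pos this
      calc K.index = (K.subgroupOf M).index * p := hidx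
        _ ≤ Nat.card (Om p ↥M) * p := Nat.mul_le_mul_right _ hIH
        _ ≤ Nat.card ↥(Om p P ⊓ M) * p := Nat.mul_le_mul_right _ h5
        _ ≤ Nat.card (Om p P) := h6

end Cfsg.Agent.H2.PCentral
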