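import Mathlib
import Cfsg.Prelude.Def_CaseTheorems
import Cfsg.Agent.H2.PCentral
import Cfsg.Agent.H1.NormalRankTwo
import Cfsg.Agent.H1.Card

set_option autoImplicit false
open scoped commutatorElement

namespace Cfsg.Agent.H2.ChiefRank2

open Cfsg.Agent.H2.PCentral

variable {P : Type*} [Group P]

lemma map_mem_Om {p : ℕ} (φ : P ≃* P) {x : P} (hx : x ∈ Om p P) : φ x ∈ Om p P := by
  refine ⟨?_, ?_⟩
  · rw [Subgroup.mem_center_iff]
    intro g
    have h1 := Subgroup.mem_center_iff.mp hx.1 (φ.symm g)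
    have h2 := congrArg φ h1
    simpa using h2
  · show (φ x) ^ p = 1
    rw [← map_pow, hx.2, map_one]

instance Om_characteristic (p : ℕ) : (Om p P).Characteristic := by
  rw [Subgroup.characteristic_iff_map_le]
  intro φ
  rintro _ ⟨x, hx, rfl⟩
  exact map_mem_Om φ hx

/-- elements of `Om` commute with everything -/
lemma Om_comm {p : ℕ} {z : P} (hz : z ∈ Om p P) (g : P) : g * z = z * g :=
  Subgroup.mem_center_iff.mp hz.1 g

/-- `E = Ω₁` of the preimage of `Ω₁(Z(P / Z₁))`, where `Z₁ = Ω₁(Z(P))`. -/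
def Ee (p : ℕ) [hp' : Fact p.Prime] (hp : p ≠ 2) (P : Type*) [Group P] : Subgroup P where
  carrier := {x | x ^ p = 1 ∧ ∀ h : P, ⁅x, h⁆ ∈ Om p P}
  mul_mem' := by
    rintro x y ⟨hx, hx'⟩ ⟨hy, hy'⟩
    constructor
    · have hc := hy' x
      have h1 : y * x = ⁅y, x⁆ * (x * y) := by rw [commutatorElement_def]; group
      have hcx : Commute ⁅y, x⁆ x := (Om_comm hc x).symm
      have hcy : Commute ⁅y, x⁆ y := (Om_comm hc y).symm
      rw [mul_pow_prime_of_comm hp'.out hp h1 hcx hcy hc.2, hx, hy, one_mul]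
    · intro h
      have h1 : ⁅x * y, h⁆ = x * ⁅y, h⁆ * x⁻¹ * ⁅x, h⁆ := by
        simp only [commutatorElement_def]; group
      rw [h1, Om_comm (hy' h) x, mul_inv_cancel_right]
      exact (Om p P).mul_mem (hy' h) (hx' h)
  one_mem' := by
    refine ⟨one_pow _, fun h => ?_⟩
    rw [commutatorElement_one_left]
    exact (Om p P).one_mem
  inv_mem' := by
    rintro x ⟨hx, hx'⟩
    refine ⟨by rw [inv_pow, hx, inv_one], fun h => ?_⟩
    have h1 : ⁅x⁻¹, h⁆ = x⁻¹ * (⁅x, h⁆)⁻¹ * x := by
      simp only [commutatorElement_def]; group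
    have h2 := (Om p P).inv_mem (hx' h)
    rw [h1, Om_comm h2 x⁻¹, mul_assoc, inv_mul_cancel, mul_one]
    exact h2

section
variable {p : ℕ} [hp' : Fact p.Prime] {hp : p ≠ 2}

lemma mem_Ee {x : P} : x ∈ Ee p hp P ↔ x ^ p = 1 ∧ ∀ h : P, ⁅x, h⁆ ∈ Om p P := Iff.rfl

instance Ee_characteristic : (Ee p hp P).Characteristic := by
  rw [Subgroup.characteristic_iff_map_le]
  intro φ
  rintro _ ⟨x, hx, rfl⟩
  refine ⟨?_, ?_⟩
  · show (φ x) ^ p = 1
    rw [← map_pow, hx.1, map_one]
  · intro h
    have h1 := map_mem_Om φ (hx.2 (φ.symm h))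
    have h2 : φ ⁅x, φ.symm h⁆ = ⁅φ x, h⁆ := by
      rw [map_commutatorElement]; simp
    have h3 : ⁅φ.toMonoidHom x, h⁆ = ⁅φ x, h⁆ := rfl
    rw [h3, ← h2]; exact h1

lemma Om_le_Ee : Om p P ≤ Ee p hp P := by
  intro z hz
  refine ⟨hz.2, fun h => ?_⟩
  have : ⁅z, h⁆ = 1 := by
    rw [commutatorElement_eq_one_iff_mul_comm]; exact (Om_comm hz h).symm
  rw [this]; exact (Om p P).one_mem

end

/-- pointwise elementary abelian -/
def EA (p : ℕ) (A : Subgroup P) : Prop :=
  (∀ a ∈ A, ∀ b ∈ A, a * b = b * a) ∧ ∀ a ∈ A, a ^ p = 1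

lemma EA.card_le {p : ℕ} {A : Subgroup P} (hA : EA p A) (hr : Cfsg.PRankLE p 2 P) :
    Nat.card A ≤ p ^ 2 :=
  hr A ⟨⟨fun a b => Subtype.ext (hA.1 a a.2 b b.2)⟩⟩ hA.2

lemma EA.sup_zpowers {p : ℕ} {A : Subgroup P} (hA : EA p A) {x : P} (hx : x ^ p = 1)
    (hxA : ∀ a ∈ A, a * x = x * a) : EA p (A ⊔ Subgroup.zpowers x) := by
  have hS : ∀ u ∈ (A : Set P) ∪ {x}, ∀ v ∈ (A : Set P) ∪ {x}, u * v = v * u := by
    rintro u (hu | hu) v (hv | hv)
    · exact hA.1 u hu v hv
    · rw [Set.mem_singleton_iff] at hv; subst hv; exact hxA u hu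
    · rw [Set.mem_singleton_iff] at hu; subst hu; exact (hxA v hv).symm
    · rw [Set.mem_singleton_iff] at hu hv; subst hu; subst hv; rfl
  have hcl : A ⊔ Subgroup.zpowers x = Subgroup.closure ((A : Set P) ∪ {x}) := by
    rw [Subgroup.closure_union, Subgroup.closure_eq, Subgroup.zpowers_eq_closure]
  rw [hcl]
  have hcomm : ∀ u ∈ Subgroup.closure ((A : Set P) ∪ {x}),
      ∀ v ∈ Subgroup.closure ((A : Set P) ∪ {x}), u * v = v * u := by
    intro u hu v hv
    have hI := Subgroup.isMulCommutative_closure hS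
    have := hI.is_comm.comm (⟨u, hu⟩ : Subgroup.closure ((A : Set P) ∪ {x})) ⟨v, hv⟩
    exact congrArg Subtype.val this
  refine ⟨hcomm, ?_⟩
  intro u hu
  induction hu using Subgroup.closure_induction with
  | mem u hu =>
    rcases hu with hu | hu
    · exact hA.2 u hu
    · rw [Set.mem_singleton_iff] at hu; subst hu; exact hx
  | one => exact one_pow _
  | mul u v hu hv ihu ihv =>
    have hc : Commute u v := hcomm u hu v hv
    rw [hc.mul_pow, ihu, ihv, one_mul]
  | inv u hu ihu => rw [inv_pow, ihu, inv_one]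

lemma card_mul_le_of_lt {p : ℕ} [hp' : Fact p.Prime] [Finite P] (hP : IsPGroup p P)
    {A B : Subgroup P} (h : A < B) : Nat.card A * p ≤ Nat.card B := by
  have hpp := hp'.out
  have hdvd := Subgroup.card_dvd_of_le h.le
  obtain ⟨b, hb⟩ := (hP.to_subgroup B).exists_card_eq
  rw [hb] at hdvd ⊢
  obtain ⟨a, hab, ha⟩ := (Nat.dvd_prime_pow hpp).mp hdvd
  rw [ha]
  have hne : a ≠ b := by
    rintro rfl
    have : A = B := Subgroup.eq_of_le_of_card_ge h.le (by rw [ha, hb])
    exact h.ne this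
  have : a + 1 ≤ b := by omega
  calc p ^ a * p = p ^ (a + 1) := (pow_succ p a).symm
    _ ≤ p ^ b := Nat.pow_le_pow_right hpp.pos this

/-- the centralizer of an element of `E` has index at most `#Ω` -/
lemma index_centralizer_le {p : ℕ} [Fact p.Prime] {hp : p ≠ 2} [Finite P] {e : P}
    (he : e ∈ Ee p hp P) : (Subgroup.centralizer ({e} : Set P)).index ≤ Nat.card (Om p P) := by
  rw [Subgroup.index_eq_card]
  have hmem : ∀ g : P, ⁅g, e⁆ ∈ Om p P := by
    intro g
    rw [← commutatorElement_inv]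
    exact (Om p P).inv_mem (he.2 g)
  apply Nat.card_le_card_of_injective
    (fun q : P ⧸ Subgroup.centralizer ({e} : Set P) => (⟨⁅q.out, e⁆, hmem _⟩ : ↥(Om p P)))
  intro q q' hqq
  have h1 : ⁅q.out, e⁆ = ⁅q'.out, e⁆ := by
    have := congrArg (fun u : ↥(Om p P) => (u : P)) hqq
    simpa using this
  have h2 : q.out⁻¹ * q'.out ∈ Subgroup.centralizer ({e} : Set P) := by
    rw [Subgroup.mem_centralizer_singleton_iff]
    simp only [commutatorElement_def] at h1
    have h3 : q.out * e * q.out⁻¹ = q'.out * e * q'.out⁻¹ := mul_right_cancel h1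
    calc q.out⁻¹ * q'.out * e = q.out⁻¹ * (q'.out * e * q'.out⁻¹) * q'.out := by group
      _ = q.out⁻¹ * (q.out * e * q.out⁻¹) * q'.out := by rw [h3]
      _ = e * (q.out⁻¹ * q'.out) := by group
  have h4 := QuotientGroup.eq.mpr h2
  rwa [QuotientGroup.out_eq', QuotientGroup.out_eq'] at h4


/-- a normal subgroup `A` with `⁅A, ⊤⁆ = A` in a nilpotent group is trivial -/
lemma eq_bot_of_commutator_eq [hnil : Group.IsNilpotent P] {A : Subgroup P}
    (h : ⁅A, (⊤ : Subgroup P)⁆ = A) : A = ⊥ := by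
  obtain ⟨n, hn⟩ := Subgroup.nilpotent_iff_lowerCentralSeries.mp hnil
  have key : ∀ k : ℕ, A ≤ Subgroup.lowerCentralSeries (⊤ : Subgroup P) k := by
    intro k
    induction k with
    | zero => exact le_top
    | succ k ih =>
      rw [Subgroup.lowerCentralSeries_succ]
      calc A = ⁅A, (⊤ : Subgroup P)⁆ := h.symm
        _ ≤ _ := Subgroup.commutator_mono ih le_rfl
  rw [eq_bot_iff, ← hn]
  exact key n

theorem dichotomy {p : ℕ} [hp' : Fact p.Prime] (hp : p ≠ 2) [Finite P] (hP : IsPGroup p P)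
    (hr : Cfsg.PRankLE p 2 P) :
    (IsPCentral p P ∧ Nat.card (Om p P) ≤ p ^ 2) ∨
      ∃ C : Subgroup P, C.Characteristic ∧ C ≠ ⊤ ∧ C.index ≤ p ^ 2 := by
  classical
  have hpp := hp'.out
  have hOmEA : EA p (Om p P) := ⟨fun a _ b hb => Om_comm hb a, fun a ha => ha.2⟩
  by_cases hcen : IsPCentral p P
  · exact Or.inl ⟨hcen, hOmEA.card_le hr⟩
  right
  unfold IsPCentral at hcen
  push Not at hcen
  obtain ⟨x0, hx0, hx0c⟩ := hcen
  have hnt : Nontrivial P := ⟨⟨x0, 1, fun h => hx0c (h ▸ Subgroup.one_mem _)⟩⟩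
  have hnil : Group.IsNilpotent P := hP.isNilpotent
  have hOmne : Om p P ≠ ⊥ := Om_ne_bot hP
  -- `#Ω = p`
  have hOmcard : Nat.card (Om p P) = p := by
    obtain ⟨k, hk⟩ := (hP.to_subgroup (Om p P)).exists_card_eq
    have hk0 : k ≠ 0 := by
      rintro rfl
      rw [pow_zero] at hk
      exact hOmne (Subgroup.card_eq_one.mp hk)
    have hk2 : k ≤ 2 := by
      have := hOmEA.card_le hr
      rw [hk] at this
      exact (Nat.pow_le_pow_iff_right hpp.one_lt).mp this
    have hk2' : k ≠ 2 := by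
      rintro rfl
      have hEA := hOmEA.sup_zpowers hx0 (fun a ha => (Om_comm ha x0).symm)
      have h1 := hEA.card_le hr
      have h2 : Om p P = Om p P ⊔ Subgroup.zpowers x0 :=
        Subgroup.eq_of_le_of_card_ge le_sup_left (by rw [hk]; exact h1)
      have h3 : x0 ∈ Om p P := by
        rw [h2]; exact (le_sup_right : Subgroup.zpowers x0 ≤ _) (Subgroup.mem_zpowers x0)
      exact hx0c h3.1
    have : k = 1 := by omega
    rw [hk, this, pow_one]
  -- `P` is not cyclic
  have hncyc : ¬ IsCyclic P := by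
    intro hc
    apply hx0c
    rw [Subgroup.mem_center_iff]
    intro g
    obtain ⟨c, hc'⟩ := hc.exists_generator
    obtain ⟨i, rfl⟩ := Subgroup.mem_zpowers_iff.mp (hc' g)
    obtain ⟨j, rfl⟩ := Subgroup.mem_zpowers_iff.mp (hc' x0)
    rw [← zpow_add, ← zpow_add, add_comm]
  have hncyc' : ¬ IsCyclic (⊤ : Subgroup P) := fun h =>
    hncyc (isCyclic_of_surjective (Subgroup.topEquiv : (⊤ : Subgroup P) ≃* P)
      Subgroup.topEquiv.surjective)
  obtain ⟨A, -, hAn, hAea, hAcard⟩ := Cfsg.Agent.H1.normal_elem_abelian_sq_le hp hP ⊤ hncyc'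
  -- every element of order `p` in the centre generates `Ω`
  have hgen : ∀ z : P, z ∈ Subgroup.center P → orderOf z = p → Subgroup.zpowers z = Om p P := by
    intro z hzc hzo
    apply Subgroup.eq_of_le_of_card_ge
    · rw [Subgroup.zpowers_le]
      exact ⟨hzc, by rw [← hzo]; exact pow_orderOf_eq_one z⟩
    · rw [Nat.card_zpowers, hzo, hOmcard]
  have hAne : A ≠ ⊥ := by
    rintro rfl
    rw [Subgroup.card_bot] at hAcard
    have := hpp.one_lt
    nlinarith
  have hOmA : Om p P ≤ A := by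
    obtain ⟨z, hzA, hzc, hzo⟩ := Cfsg.Agent.H1.exists_central_order_p hP A hAne
    rw [← hgen z hzc hzo, Subgroup.zpowers_le]
    exact hzA
  -- `⁅A, ⊤⁆ ≤ Ω`
  have hBle : ⁅A, (⊤ : Subgroup P)⁆ ≤ A := Subgroup.commutator_le_left A ⊤
  have hBne : ⁅A, (⊤ : Subgroup P)⁆ ≠ A := fun h => hAne (eq_bot_of_commutator_eq h)
  have hBcard : Nat.card ↥⁅A, (⊤ : Subgroup P)⁆ ≤ p := by
    have := card_mul_le_of_lt hP (lt_of_le_of_ne hBle hBne)
    rw [hAcard, pow_two] at this
    exact Nat.le_of_mul_le_mul_right this hpp.pos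
  have hBOm : ⁅A, (⊤ : Subgroup P)⁆ ≤ Om p P := by
    by_cases hB : ⁅A, (⊤ : Subgroup P)⁆ = ⊥
    · rw [hB]; exact bot_le
    · obtain ⟨z, hzB, hzc, hzo⟩ := Cfsg.Agent.H1.exists_central_order_p hP _ hB
      have h1 : Subgroup.zpowers z = ⁅A, (⊤ : Subgroup P)⁆ :=
        Subgroup.eq_of_le_of_card_ge (by rw [Subgroup.zpowers_le]; exact hzB)
          (by rw [Nat.card_zpowers, hzo]; exact hBcard)
      rw [← h1, hgen z hzc hzo]
  have hAE : A ≤ Ee p hp P := by
    intro a ha
    refine ⟨hAea.2 a ha, fun h => hBOm ?_⟩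
    exact Subgroup.commutator_mem_commutator ha (Subgroup.mem_top h)
  -- an element of `E` outside `Ω`
  obtain ⟨a, haA, haOm⟩ : ∃ a ∈ A, a ∉ Om p P := by
    by_contra hcon
    push Not at hcon
    have h1 : A ≤ Om p P := hcon
    have h2 := Subgroup.card_le_of_le h1
    rw [hAcard, hOmcard, pow_two] at h2
    have := hpp.one_lt
    nlinarith
  have haE : a ∈ Ee p hp P := hAE haA
  refine ⟨Subgroup.centralizer (Ee p hp P : Set P), inferInstance, ?_, ?_⟩
  · -- the centralizer is proper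
    intro htop
    apply haOm
    refine ⟨?_, haE.1⟩
    rw [Subgroup.mem_center_iff]
    intro g
    have hg : g ∈ Subgroup.centralizer (Ee p hp P : Set P) := by rw [htop]; trivial
    exact (Subgroup.mem_centralizer_iff.mp hg a haE).symm
  · -- the index bound
    have hidx : ∀ e ∈ Ee p hp P, (Subgroup.centralizer ({e} : Set P)).index ≤ p := fun e he => by
      have := index_centralizer_le he
      rwa [hOmcard] at this
    have hcentr : ∀ (h : P) (S : Subgroup P) (x : P), (∀ u ∈ S, u * h = h * u) → x * h = h * x →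
        ∀ u ∈ S ⊔ Subgroup.zpowers x, u * h = h * u := by
      intro h S x hS hx u hu
      have : S ⊔ Subgroup.zpowers x ≤ Subgroup.centralizer ({h} : Set P) := by
        apply sup_le
        · intro z hz
          rw [Subgroup.mem_centralizer_singleton_iff]; exact hS z hz
        · rw [Subgroup.zpowers_le, Subgroup.mem_centralizer_singleton_iff]; exact hx
      exact Subgroup.mem_centralizer_singleton_iff.mp (this hu)
    set A1 := Om p P ⊔ Subgroup.zpowers a with hA1
    have hA1EA : EA p A1 := hOmEA.sup_zpowers haE.1 (fun z hz => (Om_comm hz a).symm)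
    have hA1E : A1 ≤ Ee p hp P := sup_le Om_le_Ee (by rw [Subgroup.zpowers_le]; exact haE)
    have hA1card : p ^ 2 ≤ Nat.card A1 := by
      have hlt : Om p P < A1 := lt_of_le_of_ne le_sup_left (fun h => haOm (by
        rw [h]; exact (le_sup_right : Subgroup.zpowers a ≤ A1) (Subgroup.mem_zpowers a)))
      have := card_mul_le_of_lt hP hlt
      rw [hOmcard] at this
      rwa [pow_two]
    have hA1h : ∀ h : P, a * h = h * a → ∀ u ∈ A1, u * h = h * u := fun h hh =>
      hcentr h (Om p P) a (fun z hz => (Om_comm hz h).symm) hh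
    -- `E ⊓ C(a) ≤ A1`
    have hECa : ∀ c ∈ Ee p hp P, a * c = c * a → c ∈ A1 := by
      intro c hc hca
      have hEA2 := hA1EA.sup_zpowers hc.1 (hA1h c hca)
      have h1 := hEA2.card_le hr
      have h2 : A1 = A1 ⊔ Subgroup.zpowers c :=
        Subgroup.eq_of_le_of_card_ge le_sup_left (h1.trans hA1card)
      rw [h2]
      exact (le_sup_right : Subgroup.zpowers c ≤ _) (Subgroup.mem_zpowers c)
    have hp1 : p ≤ p ^ 2 := by
      rw [pow_two]; exact Nat.le_mul_of_pos_left p hpp.pos
    by_cases hEA1 : Ee p hp P ≤ A1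
    · have hle : Subgroup.centralizer ({a} : Set P) ≤ Subgroup.centralizer (Ee p hp P : Set P) := by
        intro h hh
        rw [Subgroup.mem_centralizer_singleton_iff] at hh
        rw [Subgroup.mem_centralizer_iff]
        intro e he
        exact hA1h h hh.symm e (hEA1 he)
      calc (Subgroup.centralizer (Ee p hp P : Set P)).index
          ≤ (Subgroup.centralizer ({a} : Set P)).index :=
            Nat.le_of_dvd (Nat.pos_of_ne_zero Subgroup.index_ne_zero_of_finite)
              (Subgroup.index_dvd_of_le hle)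
        _ ≤ p := hidx a haE
        _ ≤ p ^ 2 := hp1
    · obtain ⟨b, hbE, hbA1⟩ := SetLike.not_le_iff_exists.mp hEA1
      set A2 := A1 ⊔ Subgroup.zpowers b with hA2
      have hA2E : A2 ≤ Ee p hp P := sup_le hA1E (by rw [Subgroup.zpowers_le]; exact hbE)
      have hA2card : p ^ 3 ≤ Nat.card A2 := by
        have hlt : A1 < A2 := lt_of_le_of_ne le_sup_left (fun h => hbA1 (by
          rw [h]; exact (le_sup_right : Subgroup.zpowers b ≤ A2) (Subgroup.mem_zpowers b)))
        have := card_mul_le_of_lt hP hlt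
        calc p ^ 3 = p ^ 2 * p := by ring
          _ ≤ Nat.card A1 * p := Nat.mul_le_mul_right _ hA1card
          _ ≤ _ := this
      have hEcard : Nat.card (Ee p hp P) ≤ p ^ 3 := by
        have h1 := Cfsg.Agent.H1.card_eq_relIndex_mul_card
          (inf_le_left : Ee p hp P ⊓ Subgroup.centralizer ({a} : Set P) ≤ Ee p hp P)
        rw [Subgroup.inf_relIndex_left] at h1
        have h2 : (Subgroup.centralizer ({a} : Set P)).relIndex (Ee p hp P) ≤ p := by
          have := Subgroup.relIndex_le_of_le_right (H := Subgroup.centralizer ({a} : Set P))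
            (le_top : Ee p hp P ≤ ⊤) (by
              rw [Subgroup.relIndex_top_right]; exact Subgroup.index_ne_zero_of_finite)
          rw [Subgroup.relIndex_top_right] at this
          exact this.trans (hidx a haE)
        have h3 : Ee p hp P ⊓ Subgroup.centralizer ({a} : Set P) ≤ A1 := by
          intro c hc
          obtain ⟨hcE, hca⟩ := Subgroup.mem_inf.mp hc
          rw [Subgroup.mem_centralizer_singleton_iff] at hca
          exact hECa c hcE hca.symm
        have h4 := (Subgroup.card_le_of_le h3).trans (hA1EA.card_le hr)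
        rw [h1]
        calc _ ≤ p * p ^ 2 := Nat.mul_le_mul h2 h4
          _ = p ^ 3 := by ring
      have hA2eq : A2 = Ee p hp P := Subgroup.eq_of_le_of_card_ge hA2E (hEcard.trans hA2card)
      have hle : Subgroup.centralizer ({a} : Set P) ⊓ Subgroup.centralizer ({b} : Set P) ≤
          Subgroup.centralizer (Ee p hp P : Set P) := by
        intro h hh
        obtain ⟨hha, hhb⟩ := Subgroup.mem_inf.mp hh
        rw [Subgroup.mem_centralizer_singleton_iff] at hha hhb
        rw [Subgroup.mem_centralizer_iff]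
        intro e he
        rw [← hA2eq] at he
        exact hcentr h A1 b (hA1h h hha.symm) hhb.symm e he
      calc (Subgroup.centralizer (Ee p hp P : Set P)).index
          ≤ (Subgroup.centralizer ({a} : Set P) ⊓ Subgroup.centralizer ({b} : Set P)).index :=
            Nat.le_of_dvd (Nat.pos_of_ne_zero Subgroup.index_ne_zero_of_finite)
              (Subgroup.index_dvd_of_le hle)
        _ ≤ (Subgroup.centralizer ({a} : Set P)).index * (Subgroup.centralizer ({b} : Set P)).index :=
            Subgroup.index_inf_le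
        _ ≤ p * p := Nat.mul_le_mul (hidx a haE) (hidx b hbE)
        _ = p ^ 2 := by ring

end Cfsg.Agent.H2.ChiefRank2
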