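import Mathlib
import Cfsg.Prelude.Def_CaseTheorems
import Cfsg.Agent.H2.ChiefRank2A
import Cfsg.Agent.H1.Frattini

set_option autoImplicit false
open scoped commutatorElement

namespace Cfsg.Agent.H2.ChiefRank2

open Cfsg.Agent.H2.PCentral

variable {G : Type*} [Group G] [Finite G]

/-- **Chief factors inside a normal `p`-subgroup of rank at most two** (`p` odd) have order at most `p²`. -/
theorem chief_le_sq {p : ℕ} [hp' : Fact p.Prime] (hp : p ≠ 2) :
    ∀ (n : ℕ) (H K : Subgroup G), H.Normal → K.Normal → Nat.card H ≤ n → IsPGroup p H →
      (∀ A : Subgroup G, A ≤ H → IsMulCommutative A → (∀ a ∈ A, a ^ p = 1) → Nat.card A ≤ p ^ 2) →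
      K < H → (∀ L : Subgroup G, L.Normal → K ≤ L → L ≤ H → L = K ∨ L = H) →
      K.relIndex H ≤ p ^ 2 := by
  have hpp := hp'.out
  intro n
  induction n with
  | zero =>
    intro H K _ _ hcard
    have := Nat.card_pos (α := H)
    omega
  | succ n ih =>
    intro H K hHn hKn hcard hHp hr hKH hchief
    by_cases h0 : ∀ Y : Subgroup G, Y.Normal → Y < H → Y ≤ K
    · have := hHn
      -- the rank condition on the type `↥H`
      have hrH : Cfsg.PRankLE p 2 ↥H := by
        intro A hA hAp
        have h1 := hr (A.map H.subtype) (Subgroup.map_subtype_le A)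
          (by
            refine ⟨⟨?_⟩⟩
            rintro ⟨_, ⟨a, ha, rfl⟩⟩ ⟨_, ⟨b, hb, rfl⟩⟩
            apply Subtype.ext
            have := hA.is_comm.comm ⟨a, ha⟩ ⟨b, hb⟩
            have h2 := congrArg (fun u : ↥A => ((u : ↥H) : G)) this
            simpa using h2)
          (by
            rintro _ ⟨a, ha, rfl⟩
            have := hAp a ha
            have h2 := congrArg (fun u : ↥H => (u : G)) this
            simpa using h2)
        rwa [Subgroup.card_map_of_injective H.subtype_injective] at h1
      have hHnt : Nontrivial ↥H := by
        rw [Subgroup.nontrivial_iff_ne_bot]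
        rintro rfl
        exact (not_lt_bot hKH)
      -- the Frattini subgroup lies in `K`
      have hΦ : (frattini ↥H).map H.subtype ≤ K := by
        apply h0 _ inferInstance
        refine lt_of_le_of_ne (Subgroup.map_subtype_le _) ?_
        intro h
        have h1 : frattini ↥H = ⊤ := by
          have h2 : (frattini ↥H).map H.subtype = (⊤ : Subgroup ↥H).map H.subtype := by
            rw [h, ← MonoidHom.range_eq_map, Subgroup.range_subtype]
          exact Subgroup.map_injective H.subtype_injective h2
        obtain ⟨M, hM, -⟩ := (eq_top_or_exists_le_coatom (⊥ : Subgroup ↥H)).resolve_left bot_ne_top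
        have := frattini_le_coatom hM
        rw [h1, top_le_iff] at this
        exact hM.1 this
      have hKc : ∀ x y : ↥H, ⁅x, y⁆ ∈ K.subgroupOf H := by
        intro x y
        rw [Subgroup.mem_subgroupOf]
        apply hΦ
        refine ⟨⁅x, y⁆, ?_, rfl⟩
        exact Cfsg.Agent.H1.commutator_le_frattini hHp
          (Subgroup.commutator_mem_commutator (Subgroup.mem_top x) (Subgroup.mem_top y))
      have hKp : ∀ x : ↥H, x ^ p ∈ K.subgroupOf H := by
        intro x
        rw [Subgroup.mem_subgroupOf]
        apply hΦ
        exact ⟨x ^ p, Cfsg.Agent.H1.pow_p_mem_frattini hHp x, rfl⟩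
      rcases dichotomy hp hHp hrH with ⟨hcen, hOm⟩ | ⟨C, hCchar, hCne, hCidx⟩
      · have := index_le_card_Om hp (Nat.card H) ↥H le_rfl hHp hcen (K.subgroupOf H) hKc hKp
        exact this.trans hOm
      · have := hCchar
        have hCK : C.map H.subtype ≤ K := by
          apply h0 _ inferInstance
          refine lt_of_le_of_ne (Subgroup.map_subtype_le _) ?_
          intro h
          apply hCne
          have h2 : C.map H.subtype = (⊤ : Subgroup ↥H).map H.subtype := by
            rw [h, ← MonoidHom.range_eq_map, Subgroup.range_subtype]
          exact Subgroup.map_injective H.subtype_injective h2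
        have h1 : K.relIndex H ∣ (C.map H.subtype).relIndex H := Subgroup.relIndex_dvd_of_le_left H hCK
        have h2 : (C.map H.subtype).relIndex H = C.index := by
          unfold Subgroup.relIndex Subgroup.subgroupOf
          rw [Subgroup.comap_map_eq_self_of_injective H.subtype_injective]
        rw [h2] at h1
        exact (Nat.le_of_dvd (Nat.pos_of_ne_zero Subgroup.index_ne_zero_of_finite) h1).trans hCidx
    · push Not at h0
      obtain ⟨Y, hYn, hYH, hYK⟩ := h0
      have := hYn
      have := hKn
      have hsup : Y ⊔ K = H := by
        rcases hchief (Y ⊔ K) inferInstance le_sup_right (sup_le hYH.le hKH.le) with h | h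
        · exact absurd (h ▸ le_sup_left : Y ≤ K) hYK
        · exact h
      have hYcard : Nat.card Y ≤ n := by
        by_contra hcon
        have : Y = H := Subgroup.eq_of_le_of_card_ge hYH.le (by omega)
        exact hYH.ne this
      have hlt : Y ⊓ K < Y := lt_of_le_of_ne inf_le_left (fun h => hYK (h ▸ inf_le_right))
      have key := ih Y (Y ⊓ K) hYn inferInstance hYcard (hHp.to_le hYH.le)
        (fun A hA => hr A (hA.trans hYH.le)) hlt (by
          intro L hLn hKL hLY
          have := hLn
          rcases hchief (L ⊔ K) inferInstance le_sup_right (sup_le (hLY.trans hYH.le) hKH.le) with h | h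
          · left
            have hLK : L ≤ K := h ▸ le_sup_left
            exact le_antisymm (le_inf hLY hLK) hKL
          · right
            apply le_antisymm hLY
            intro y hy
            have hyH : y ∈ L ⊔ K := by rw [h]; exact hYH.le hy
            obtain ⟨l, hl, k, hk, rfl⟩ := Subgroup.mem_sup_of_normal_right.mp hyH
            have hkY : k ∈ Y := by
              have : k = l⁻¹ * (l * k) := by group
              rw [this]
              exact Y.mul_mem (Y.inv_mem (hLY hl)) hy
            exact L.mul_mem hl (hKL ⟨hkY, hk⟩))
      rwa [Subgroup.inf_relIndex_left, ← Subgroup.relIndex_sup_right, hsup] at key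

end Cfsg.Agent.H2.ChiefRank2
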