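import Mathlib
import Cfsg.Agent.H2.ConjMap

set_option autoImplicit false

namespace Cfsg.Agent.H2

variable {G : Type*} [Group G]

/-- A finite group is not the union of the conjugates of a proper subgroup. -/
theorem exists_not_mem_conj_of_ne_top [Finite G] (H : Subgroup G) (hH : H ≠ ⊤) :
    ∃ g : G, ∀ x : G, g ∉ H.map (MulAut.conj x).toMonoidHom := by
  classical
  by_contra hcon
  push Not at hcon
  haveI := Fintype.ofFinite G
  let F : Option ((G ⧸ H) × {h : H // h ≠ 1}) → G := fun o =>
    match o with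
    | none => 1
    | some (q, h) => q.out * (h : H) * q.out⁻¹
  have hsurj : Function.Surjective F := by
    intro g
    by_cases hg : g = 1
    · exact ⟨none, hg.symm⟩
    · obtain ⟨x, hx⟩ := hcon g
      rw [mem_map_conj_iff] at hx
      obtain ⟨h₀, hh₀⟩ := QuotientGroup.mk_out_eq_mul H x
      have hne : (⟨(h₀ : G)⁻¹ * (x⁻¹ * g * x) * (h₀ : G), H.mul_mem (H.mul_mem (H.inv_mem h₀.2) hx) h₀.2⟩ : H) ≠ 1 := by
        intro h
        have h1 : (h₀ : G)⁻¹ * (x⁻¹ * g * x) * (h₀ : G) = 1 := congrArg Subtype.val h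
        apply hg
        calc g = x * (h₀ : G) * ((h₀ : G)⁻¹ * (x⁻¹ * g * x) * (h₀ : G)) * (h₀ : G)⁻¹ * x⁻¹ := by group
          _ = 1 := by rw [h1]; group
      refine ⟨some (QuotientGroup.mk x, ⟨_, hne⟩), ?_⟩
      show (QuotientGroup.mk x : G ⧸ H).out * ((h₀ : G)⁻¹ * (x⁻¹ * g * x) * (h₀ : G)) * ((QuotientGroup.mk x : G ⧸ H).out)⁻¹ = g
      rw [hh₀]
      group
  have hcard := Fintype.card_le_of_surjective F hsurj
  rw [Fintype.card_option, Fintype.card_prod, Fintype.card_subtype_compl, Fintype.card_subtype_eq] at hcard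
  have h1 : Fintype.card (G ⧸ H) * Fintype.card H = Fintype.card G := by
    have := Subgroup.index_mul_card H
    rw [Subgroup.index_eq_card, Nat.card_eq_fintype_card, Nat.card_eq_fintype_card,
      Nat.card_eq_fintype_card] at this
    exact this
  have h2 : 1 ≤ Fintype.card H := Fintype.card_pos
  have h3 : 2 ≤ Fintype.card (G ⧸ H) := by
    by_contra h
    push Not at h
    have h4 : H.index = 1 := by
      rw [Subgroup.index_eq_card, Nat.card_eq_fintype_card]
      have : 0 < Fintype.card (G ⧸ H) := Fintype.card_pos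
      omega
    exact hH (Subgroup.index_eq_one.1 h4)
  have h5 : Fintype.card (G ⧸ H) * (Fintype.card H - 1) + Fintype.card (G ⧸ H) = Fintype.card G := by
    rw [← h1, ← Nat.mul_succ]
    congr 1
    omega
  omega

open scoped Pointwise in
/-- Variant with `MulAut.conj g • H`. -/
theorem exists_not_mem_conj_smul_of_ne_top [Finite G] (H : Subgroup G) (hH : H ≠ ⊤) :
    ∃ g : G, ∀ x : G, g ∉ MulAut.conj x • H := by
  obtain ⟨g, hg⟩ := exists_not_mem_conj_of_ne_top H hH
  exact ⟨g, fun x => by rw [conj_smul_eq_map]; exact hg x⟩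

end Cfsg.Agent.H2
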