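import Mathlib
import Cfsg.Agent.H2.ClassFarA
import Cfsg.Agent.H2.ConjUnion
import Cfsg.Agent.H2.SylowExtra

/-!
# Two families of classes with separated prime sets, II (helper2)

The Sylow `q`-subgroups (for `q ∈ B` dividing some class size) are abelian with a normal
complement.
-/

set_option autoImplicit false
set_option linter.unusedSectionVars false
set_option linter.style.haveILetI false
set_option linter.deprecated false

namespace Cfsg.Agent.H2.ClassFar

open Cfsg.Agent.H2.ClassProd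

variable {G : Type*} [Group G] [Finite G] {A B : Set ℕ}

section sep

variable (hsep : ∀ (g : G) (r t : ℕ), r ∈ A → t ∈ B → r ∣ cs g → t ∣ cs g → False)
  (c : G) (hc : c ∈ PP A) (hmax : ∀ g : G, g ∈ PP A ∨ g ∈ PP B → cs g ≤ cs c)
  (q : ℕ) [hqF : Fact q.Prime] (hqB : q ∈ B) (d₀ : G) (hd₀ : d₀ ∈ PP B) (hqd : q ∣ cs d₀)

include hsep hc hmax hqB hd₀ hqd

/-- **II.3** every Sylow `q`-subgroup is central in its normalizer -/
theorem sylow_normalizer_le (Q : Sylow q G) :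
    Subgroup.normalizer ((Q : Subgroup G) : Set G) ≤
      Subgroup.centralizer ((Q : Subgroup G) : Set G) := by
  have hq : q.Prime := Fact.out
  obtain ⟨β, hβQ, n, hnN, hβn⟩ := claim1 hsep c hc hmax q hqB d₀ hd₀ hqd Q
  have h1 : ¬ NN (PP (G := G) B) ≤ Subgroup.centralizer ({β} : Set G) := by
    intro hle
    apply hβn
    have := (mem_centralizer_singleton β n).1 (hle hnN)
    calc β * n * β⁻¹ = (n * β) * β⁻¹ := by rw [this]
      _ = n := by group
  obtain ⟨r, hr, hrN, n₀, hn₀N, hn₀β, k, hk⟩ := exists_primary_not_mem _ _ h1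
  haveI : Fact r.Prime := ⟨hr⟩
  have hrA : r ∈ A := prime_dvd_card_NN hsep c hc hmax r hr hrN
  have hrq : r ≠ q := by
    rintro rfl
    exact not_dvd_card_NN hsep c hc hmax r hr hqB hrN
  have hno : ∀ x : G, ¬ r * q ∣ (Subgroup.centralizer ({x} : Set G)).index := by
    intro x hx
    exact hsep x r q hrA hqB (Dvd.dvd.trans (Dvd.intro _ rfl) hx)
      (Dvd.dvd.trans (Dvd.intro_left _ rfl) hx)
  -- a Sylow `r`-subgroup containing `n₀`
  have hpg : IsPGroup r (Subgroup.zpowers n₀) := by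
    apply IsPGroup.of_card (n := k)
    rw [Nat.card_zpowers, hk]
  obtain ⟨R, hR⟩ := hpg.exists_le_sylow
  have hn₀R : n₀ ∈ (R : Subgroup G) := hR (Subgroup.mem_zpowers n₀)
  rcases Cfsg.Agent.H2.ConjUnionCount.normal_complement_of_no_pq_class r q hrq hno R Q with hR' | hQ'
  swap
  · exact hQ'
  exfalso
  obtain ⟨L, hLn, hLcop, -, hLc⟩ := exists_normal_complement R hR'
  obtain ⟨l, hl, s, hs, hβ⟩ := hLc R β
  -- `s` commutes with `n₀`
  have hsn : s * n₀ = n₀ * s := by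
    have h2 : s ∈ Subgroup.centralizer ((R : Subgroup G) : Set G) :=
      hR' (Subgroup.le_normalizer hs)
    rw [Subgroup.mem_centralizer_iff] at h2
    exact (h2 n₀ hn₀R).symm
  -- `l` commutes with `n₀`
  have hln : l * n₀ * l⁻¹ * n₀⁻¹ = 1 := by
    set w := l * n₀ * l⁻¹ * n₀⁻¹ with hw
    have hwL : w ∈ L := by
      have e : w = l * (n₀ * l⁻¹ * n₀⁻¹) := by rw [hw]; group
      rw [e]
      exact Subgroup.mul_mem _ hl (hLn.conj_mem _ (Subgroup.inv_mem _ hl) n₀)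
    have hn₁N : l * n₀ * l⁻¹ ∈ NN (PP (G := G) B) :=
      (NN_PP_normal (G := G) B).conj_mem _ hn₀N l
    have hcomm : Commute (l * n₀ * l⁻¹) n₀⁻¹ :=
      NN_comm hsep c hc hmax _ _ hn₁N (Subgroup.inv_mem _ hn₀N)
    have hpw : w ^ (r ^ k) = 1 := by
      rw [hw, hcomm.mul_pow]
      have e1 : (l * n₀ * l⁻¹) ^ (r ^ k) = l * n₀ ^ (r ^ k) * l⁻¹ := by
        rw [conj_pow]
      rw [e1, inv_pow, ← hk, pow_orderOf_eq_one]
      group
    have h3 : orderOf w ∣ r ^ k := orderOf_dvd_of_pow_eq_one hpw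
    have h4 : orderOf w ∣ Nat.card L := by
      have := orderOf_dvd_natCard (⟨w, hwL⟩ : L)
      rwa [Subgroup.orderOf_mk] at this
    have h5 : (Nat.card L).Coprime (r ^ k) := Nat.Coprime.pow_right _ hLcop
    have h6 := Nat.dvd_gcd h4 h3
    rw [Nat.Coprime] at h5
    rw [h5, Nat.dvd_one, orderOf_eq_one_iff] at h6
    exact h6
  apply hn₀β
  rw [mem_centralizer_singleton, hβ]
  have hln' : l * n₀ = n₀ * l := by
    calc l * n₀ = (l * n₀ * l⁻¹ * n₀⁻¹) * (n₀ * l) := by group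
      _ = n₀ * l := by rw [hln, one_mul]
  calc n₀ * (l * s) = (n₀ * l) * s := by group
    _ = (l * n₀) * s := by rw [hln']
    _ = l * (n₀ * s) := by group
    _ = l * (s * n₀) := by rw [hsn]
    _ = l * s * n₀ := by group

/-- the Sylow `q`-subgroups are abelian -/
theorem sylow_comm (Q : Sylow q G) (a b : G) (ha : a ∈ Q) (hb : b ∈ Q) : a * b = b * a := by
  have h1 := sylow_normalizer_le hsep c hc hmax q hqB d₀ hd₀ hqd Q (Subgroup.le_normalizer ha)
  rw [Subgroup.mem_centralizer_iff] at h1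
  exact (h1 b hb).symm

/-- the normal `q`-complement -/
theorem exists_q_complement :
    ∃ L : Subgroup G, L.Normal ∧ (Nat.card L).Coprime q ∧
      (∀ x : G, (orderOf x).Coprime q → x ∈ L) ∧
      ∀ P' : Sylow q G, ∀ g : G, ∃ l ∈ L, ∃ s ∈ P', g = l * s :=
  exists_normal_complement (Classical.arbitrary (Sylow q G))
    (sylow_normalizer_le hsep c hc hmax q hqB d₀ hd₀ hqd _)

/-- **II.6** -/
theorem inf_centralizer_le (L : Subgroup G) (hLcop : (Nat.card L).Coprime q)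
    (hLc : ∀ P' : Sylow q G, ∀ g : G, ∃ l ∈ L, ∃ s ∈ P', g = l * s)
    (Q : Sylow q G) (b : G) (hb : ∃ k : ℕ, orderOf b = q ^ k)
    (hQb : (Q : Subgroup G) ≤ Subgroup.centralizer ({b} : Set G))
    (hbA : ¬ NN (PP (G := G) B) ≤ Subgroup.centralizer ({b} : Set G)) :
    L ⊓ Subgroup.centralizer ({b} : Set G) ≤ Subgroup.centralizer ((Q : Subgroup G) : Set G) := by
  set M := L ⊓ Subgroup.centralizer ({b} : Set G) with hM
  let F : Subgroup M := (Subgroup.centralizer ((Q : Subgroup G) : Set G)).subgroupOf M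
  by_contra hcon
  have hne : F ≠ ⊤ := by
    intro e
    exact hcon (Subgroup.subgroupOf_eq_top.1 e)
  obtain ⟨l, hl⟩ := Cfsg.Agent.H2.exists_not_mem_conj_of_ne_top F hne
  have hlL : (l : G) ∈ L := (Subgroup.mem_inf.1 l.2).1
  have hlb : (l : G) * b = b * (l : G) :=
    (mem_centralizer_singleton b _).1 (Subgroup.mem_inf.1 l.2).2
  obtain ⟨kb, hkb⟩ := hb
  have hcopo : (orderOf b).Coprime (orderOf (l : G)) := by
    rw [hkb]
    apply Nat.Coprime.pow_left
    have h1 : orderOf (l : G) ∣ Nat.card L := by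
      have := orderOf_dvd_natCard (⟨(l : G), hlL⟩ : L)
      rwa [Subgroup.orderOf_mk] at this
    exact (Nat.Coprime.coprime_dvd_left h1 hLcop).symm
  obtain ⟨k', hk'⟩ := exists_pow_mul_eq_left b (l : G) hlb.symm hcopo
  -- `b * l` does not centralize `N`
  have hblA : ¬ NN (PP (G := G) B) ≤ Subgroup.centralizer ({b * (l : G)} : Set G) := by
    intro hle
    apply hbA
    have := le_centralizer_pow _ _ k' hle
    rwa [hk'] at this
  have hqbl : ¬ q ∣ cs (b * (l : G)) := star hsep c hc hmax _ hblA q hqB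
  obtain ⟨Q', hQ'⟩ := exists_sylow_le_centralizer (p := q) _ hqbl
  have hQ'b : (Q' : Subgroup G) ≤ Subgroup.centralizer ({b} : Set G) := by
    intro a ha
    have h1 := (mem_centralizer_singleton _ a).1 (hQ' ha)
    rw [mem_centralizer_singleton, ← hk']
    have hc' : Commute a (b * (l : G)) := h1
    exact (hc'.pow_right k').eq
  have hQ'l : ∀ a ∈ Q', a * (l : G) = (l : G) * a := by
    intro a ha
    have h1 := (mem_centralizer_singleton _ a).1 (hQ' ha)
    have h2 := (mem_centralizer_singleton _ a).1 (hQ'b ha)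
    calc a * (l : G) = b⁻¹ * (b * a) * (l : G) := by group
      _ = b⁻¹ * (a * b) * (l : G) := by rw [h2]
      _ = b⁻¹ * (a * (b * (l : G))) := by group
      _ = b⁻¹ * ((b * (l : G)) * a) := by rw [h1]
      _ = (l : G) * a := by group
  obtain ⟨k, hkb', hkQ⟩ := Cfsg.Agent.H2.exists_conj_le_sylow_of_le Q'
    (Subgroup.centralizer ({b} : Set G)) hQ'b (Q : Subgroup G) Q.2 hQb
  -- `k⁻¹ l k` centralizes `Q`
  have hkl : ∀ a ∈ Q, (k⁻¹ * (l : G) * k) * a = a * (k⁻¹ * (l : G) * k) := by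
    intro a ha
    have h1 : k * a * k⁻¹ ∈ (Q' : Subgroup G) :=
      hkQ (Cfsg.Agent.H2.conj_mem_map_conj _ k ha)
    have h2 := hQ'l _ h1
    calc (k⁻¹ * (l : G) * k) * a = k⁻¹ * ((l : G) * (k * a * k⁻¹)) * k := by group
      _ = k⁻¹ * ((k * a * k⁻¹) * (l : G)) * k := by rw [h2]
      _ = a * (k⁻¹ * (l : G) * k) := by group
  obtain ⟨y₀, hy₀L, σ, hσ, hkσ⟩ := hLc Q k
  have hy₀b : y₀ ∈ Subgroup.centralizer ({b} : Set G) := by
    have e : y₀ = k * σ⁻¹ := by rw [hkσ]; group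
    rw [e]
    exact Subgroup.mul_mem _ hkb' (Subgroup.inv_mem _ (hQb hσ))
  have hy₀M : y₀ ∈ M := Subgroup.mem_inf.2 ⟨hy₀L, hy₀b⟩
  apply hl ⟨y₀, hy₀M⟩
  rw [Cfsg.Agent.H2.mem_map_conj_iff]
  show ((⟨y₀, hy₀M⟩ : M)⁻¹ * l * ⟨y₀, hy₀M⟩ : M) ∈
    (Subgroup.centralizer ((Q : Subgroup G) : Set G)).subgroupOf M
  rw [Subgroup.mem_subgroupOf, Subgroup.mem_centralizer_iff]
  intro a ha
  have e : (((⟨y₀, hy₀M⟩ : M)⁻¹ * l * ⟨y₀, hy₀M⟩ : M) : G) = y₀⁻¹ * (l : G) * y₀ := by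
    simp
  rw [e]
  have ha' : σ⁻¹ * a * σ ∈ (Q : Subgroup G) :=
    Subgroup.mul_mem _ (Subgroup.mul_mem _ (Subgroup.inv_mem _ hσ) ha) hσ
  have h3 := hkl _ ha'
  rw [hkσ] at h3
  calc a * (y₀⁻¹ * (l : G) * y₀)
      = σ * ((σ⁻¹ * a * σ) * ((y₀ * σ)⁻¹ * (l : G) * (y₀ * σ))) * σ⁻¹ := by group
    _ = σ * (((y₀ * σ)⁻¹ * (l : G) * (y₀ * σ)) * (σ⁻¹ * a * σ)) * σ⁻¹ := by rw [h3]
    _ = y₀⁻¹ * (l : G) * y₀ * a := by group

end sep

end Cfsg.Agent.H2.ClassFar
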