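import Mathlib
import Cfsg.Agent.H2.ClassFarC

/-!
# Two families of classes with separated prime sets, III (helper2)

The core dichotomy behind the diameter bound for the class-size prime graph.
-/

set_option autoImplicit false
set_option linter.unusedSectionVars false
set_option linter.style.haveILetI false
set_option linter.deprecated false

namespace Cfsg.Agent.H2.ClassFar

open Cfsg.Agent.H2.ClassProd

variable {G : Type*} [Group G] [Finite G] {A B : Set ℕ}

section sep

variable (hsep : ∀ (g : G) (r t : ℕ), r ∈ A → t ∈ B → r ∣ cs g → t ∣ cs g → False)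
  (c : G) (hc : c ∈ PP A) (hmax : ∀ g : G, g ∈ PP A ∨ g ∈ PP B → cs g ≤ cs c)
  (q : ℕ) [hqF : Fact q.Prime] (hqB : q ∈ B) (d₀ : G) (hd₀ : d₀ ∈ PP B) (hqd : q ∣ cs d₀)

include hsep hc hmax hqB hd₀ hqd

/-- **II.7** every class size divisible by a prime of `B` is divisible by `q` -/
theorem final (u : ℕ) (hu : u.Prime) (huB : u ∈ B) (g : G) (hug : u ∣ cs g) : q ∣ cs g := by
  have hq : q.Prime := Fact.out
  by_contra hqg
  haveI : Fact u.Prime := ⟨hu⟩
  have huq : u ≠ q := by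
    rintro rfl
    exact hqg hug
  -- `g` centralizes `N`
  have hgA : NN (PP (G := G) B) ≤ Subgroup.centralizer ({g} : Set G) := by
    by_contra hcon
    exact star hsep c hc hmax g hcon u huB hug
  obtain ⟨Q, hQg⟩ := exists_sylow_le_centralizer (p := q) g hqg
  obtain ⟨β, hβQ, n, hnN, hβn⟩ := claim1 hsep c hc hmax q hqB d₀ hd₀ hqd Q
  have hβg : β * g = g * β := (mem_centralizer_singleton g β).1 (hQg hβQ)
  have hng : n * g = g * n := (mem_centralizer_singleton g n).1 (hgA hnN)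
  have hnβ : n * β ≠ β * n := by
    intro e
    apply hβn
    rw [← e]; group
  obtain ⟨L, hLn, hLcop, hLmem, hLc⟩ := exists_q_complement hsep c hc hmax q hqB d₀ hd₀ hqd
  -- `g' = β g`
  set g' := β * g with hg'
  have hg'A : ¬ NN (PP (G := G) B) ≤ Subgroup.centralizer ({g'} : Set G) := by
    intro hle
    apply hnβ
    have h1 := (mem_centralizer_singleton g' n).1 (hle hnN)
    have e : β = g' * g⁻¹ := by rw [hg']; group
    have hng' : n * g⁻¹ = g⁻¹ * n := by
      calc n * g⁻¹ = g⁻¹ * (g * n) * g⁻¹ := by group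
        _ = g⁻¹ * (n * g) * g⁻¹ := by rw [hng]
        _ = g⁻¹ * n := by group
    calc n * β = n * (g' * g⁻¹) := by rw [← e]
      _ = (n * g') * g⁻¹ := by group
      _ = (g' * n) * g⁻¹ := by rw [h1]
      _ = g' * (n * g⁻¹) := by group
      _ = g' * (g⁻¹ * n) := by rw [hng']
      _ = (g' * g⁻¹) * n := by group
      _ = β * n := by rw [← e]
  have hug' : ¬ u ∣ cs g' := star hsep c hc hmax g' hg'A u huB
  obtain ⟨U, hUg'⟩ := exists_sylow_le_centralizer (p := u) g' hug'
  -- `Q ≤ C(g')`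
  have hQβ : ∀ a ∈ Q, a * β = β * a := fun a ha =>
    sylow_comm hsep c hc hmax q hqB d₀ hd₀ hqd Q a β ha hβQ
  have hQg' : ∀ a ∈ Q, a * g' = g' * a := by
    intro a ha
    have h1 := hQβ a ha
    have h2 := (mem_centralizer_singleton g a).1 (hQg ha)
    calc a * g' = (a * β) * g := by rw [hg']; group
      _ = (β * a) * g := by rw [h1]
      _ = β * (a * g) := by group
      _ = β * (g * a) := by rw [h2]
      _ = g' * a := by rw [hg']; group
  -- the `q`-part `a = g' ^ m`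
  have ho : orderOf g' ≠ 0 := (orderOf_pos g').ne'
  obtain ⟨e, m, hqm, hom⟩ := Nat.exists_eq_pow_mul_and_not_dvd ho q hq.ne_one
  have hm0 : m ≠ 0 := by
    rintro rfl
    exact hqm (dvd_zero q)
  set a := g' ^ m with ha
  have hoa : orderOf a = q ^ e := by
    rw [ha, orderOf_pow_of_dvd hm0 (Dvd.intro_left _ hom.symm), hom]
    exact Nat.mul_div_cancel _ (Nat.pos_of_ne_zero hm0)
  have hcβg : Commute β g := hβg
  have haβg : a = β ^ m * g ^ m := by
    rw [ha, hg', hcβg.mul_pow]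
  have haA : ¬ NN (PP (G := G) B) ≤ Subgroup.centralizer ({a} : Set G) := by
    intro hle
    apply hnβ
    have h1 := (mem_centralizer_singleton a n).1 (hle hnN)
    have hcng : Commute n g := hng
    have h2 : n * g ^ m = g ^ m * n := (hcng.pow_right m).eq
    have h3 : n * β ^ m = β ^ m * n := by
      have e1 : β ^ m = a * (g ^ m)⁻¹ := by rw [haβg]; group
      have h2' : n * (g ^ m)⁻¹ = (g ^ m)⁻¹ * n := by
        calc n * (g ^ m)⁻¹ = (g ^ m)⁻¹ * (g ^ m * n) * (g ^ m)⁻¹ := by group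
          _ = (g ^ m)⁻¹ * (n * g ^ m) * (g ^ m)⁻¹ := by rw [h2]
          _ = (g ^ m)⁻¹ * n := by group
      calc n * β ^ m = n * (a * (g ^ m)⁻¹) := by rw [← e1]
        _ = (n * a) * (g ^ m)⁻¹ := by group
        _ = (a * n) * (g ^ m)⁻¹ := by rw [h1]
        _ = a * (n * (g ^ m)⁻¹) := by group
        _ = a * ((g ^ m)⁻¹ * n) := by rw [h2']
        _ = (a * (g ^ m)⁻¹) * n := by group
        _ = β ^ m * n := by rw [← e1]
    obtain ⟨kβ, hkβ⟩ := (IsPGroup.iff_orderOf.1 Q.2) ⟨β, hβQ⟩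
    rw [Subgroup.orderOf_mk] at hkβ
    have hcop : m.Coprime (orderOf β) := by
      rw [hkβ]
      apply Nat.Coprime.pow_right
      exact ((Nat.Prime.coprime_iff_not_dvd hq).2 hqm).symm
    obtain ⟨s, hs⟩ := exists_pow_eq_self_of_coprime hcop
    have hc3 : Commute n (β ^ m) := h3
    have := (hc3.pow_right s).eq
    rwa [hs] at this
  have hQa : (Q : Subgroup G) ≤ Subgroup.centralizer ({a} : Set G) := by
    intro x hx
    rw [mem_centralizer_singleton, ha]
    have hcx : Commute x g' := hQg' x hx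
    exact (hcx.pow_right m).eq
  have hII6 := inf_centralizer_le hsep c hc hmax q hqB d₀ hd₀ hqd L hLcop hLc Q a ⟨e, hoa⟩ hQa haA
  -- `U ≤ L ⊓ C(a)`
  have hUC : (U : Subgroup G) ≤ Subgroup.centralizer ((Q : Subgroup G) : Set G) := by
    intro x hx
    apply hII6
    rw [Subgroup.mem_inf]
    constructor
    · apply hLmem
      obtain ⟨kx, hkx⟩ := (IsPGroup.iff_orderOf.1 U.2) ⟨x, hx⟩
      rw [Subgroup.orderOf_mk] at hkx
      rw [hkx]
      apply Nat.Coprime.pow_left
      exact (Nat.coprime_primes hu hq).2 huq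
    · rw [mem_centralizer_singleton, ha]
      have hcx : Commute x g' := (mem_centralizer_singleton g' x).1 (hUg' hx)
      exact (hcx.pow_right m).eq
  -- hence `U ≤ C(g)`
  have hUg : (U : Subgroup G) ≤ Subgroup.centralizer ({g} : Set G) := by
    intro x hx
    have h1 := hUC hx
    rw [Subgroup.mem_centralizer_iff] at h1
    have h2 : β * x = x * β := h1 β hβQ
    have h3 := (mem_centralizer_singleton g' x).1 (hUg' hx)
    rw [mem_centralizer_singleton]
    calc x * g = β⁻¹ * (β * x) * g := by group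
      _ = β⁻¹ * (x * β) * g := by rw [h2]
      _ = β⁻¹ * (x * g') := by rw [hg']; group
      _ = β⁻¹ * (g' * x) := by rw [h3]
      _ = g * x := by rw [hg']; group
  exact not_dvd_cs_of_sylow_le g U hUg hug

end sep

/-- the core dichotomy -/
theorem core (hsep : ∀ (g : G) (r t : ℕ), r ∈ A → t ∈ B → r ∣ cs g → t ∣ cs g → False)
    (p q : ℕ) (hp : p.Prime) (hq : q.Prime) (hpA : p ∈ A) (hqB : q ∈ B)
    (hA : ∀ g : G, p ∣ cs g → ∀ t : ℕ, t.Prime → t ∣ cs g → t ∈ A)
    (hB : ∀ g : G, q ∣ cs g → ∀ t : ℕ, t.Prime → t ∣ cs g → t ∈ B)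
    (gp gq : G) (hgp : p ∣ cs gp) (hgq : q ∣ cs gq) :
    (∀ u : ℕ, u.Prime → u ∈ B → ∀ g : G, u ∣ cs g → q ∣ cs g) ∨
      (∀ u : ℕ, u.Prime → u ∈ A → ∀ g : G, u ∣ cs g → p ∣ cs g) := by
  haveI : Fact p.Prime := ⟨hp⟩
  haveI : Fact q.Prime := ⟨hq⟩
  have hgpP : gp ∈ PP (G := G) A := by
    refine ⟨?_, hA gp hgp⟩
    intro e
    rw [e] at hgp
    exact hp.one_lt.ne' (Nat.dvd_one.1 hgp)
  have hgqP : gq ∈ PP (G := G) B := by
    refine ⟨?_, hB gq hgq⟩
    intro e
    rw [e] at hgq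
    exact hq.one_lt.ne' (Nat.dvd_one.1 hgq)
  haveI : Nonempty {g : G // g ∈ PP A ∨ g ∈ PP B} := ⟨⟨gp, Or.inl hgpP⟩⟩
  obtain ⟨⟨c, hc⟩, hmax⟩ := Finite.exists_max (fun x : {g : G // g ∈ PP A ∨ g ∈ PP B} => cs (x : G))
  have hmax' : ∀ g : G, g ∈ PP A ∨ g ∈ PP B → cs g ≤ cs c := fun g hg => hmax ⟨g, hg⟩
  rcases hc with hc | hc
  · left
    intro u hu huB g hug
    exact final hsep c hc hmax' q hqB gq hgqP hgq u hu huB g hug
  · right
    intro u hu huA g hug
    have hsep' : ∀ (g : G) (r t : ℕ), r ∈ B → t ∈ A → r ∣ cs g → t ∣ cs g → False :=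
      fun g r t hr ht h1 h2 => hsep g t r ht hr h2 h1
    exact final hsep' c hc (fun g hg => hmax' g hg.symm) p hpA gp hgpP hgp u hu huA g hug

end Cfsg.Agent.H2.ClassFar
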