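import Mathlib
import Cfsg.Agent.H2.ClassProdB

/-!
# Groups whose non-central classes split into two families of coprime sizes, II (helper2)

`K = Y ∪ Z(G)` is abelian and the centralizers of its non-central elements are normal.
-/

set_option autoImplicit false
set_option linter.unusedSectionVars false
set_option linter.style.haveILetI false
set_option linter.deprecated false

namespace Cfsg.Agent.H2.ClassProd

variable {G : Type*} [Group G] [Finite G] {X Y : Set G}

section withmax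

variable (h : Split X Y) (c : G) (hc : c ∈ X) (hmax : ∀ g : G, cs g ≤ cs c)

include h hc hmax

/-- **M7**: `K` is abelian -/
theorem Split.KK_comm (k d : G) (hk : k ∈ h.KK c hc hmax) (hd : d ∈ h.KK c hc hmax) :
    k * d = d * k := by
  rcases (h.mem_KK_iff c hc hmax d).1 hd with hdY | hdZ
  swap
  · exact Subgroup.mem_center_iff.1 hdZ k
  set K := h.KK c hc hmax with hK
  have hKn : K.Normal := h.KK_normal c hc hmax
  -- the commutator homomorphism
  have hmem : ∀ k : K, (k : G) * d * (k : G)⁻¹ * d⁻¹ ∈ NN Y := by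
    intro k
    have := h.comm_mem_NN' c hc hmax d hd (k : G)
    have e : (k : G) * d * (k : G)⁻¹ * d⁻¹ = (d * (k : G) * d⁻¹ * (k : G)⁻¹)⁻¹ := by group
    rw [e]; exact Subgroup.inv_mem _ this
  let f : K →* NN Y := MonoidHom.mk' (fun k => ⟨(k : G) * d * (k : G)⁻¹ * d⁻¹, hmem k⟩) (by
    intro k₁ k₂
    apply Subtype.ext
    simp only [Subgroup.coe_mul]
    have h1 := h.NN_comm_KK c hc hmax _ (k₁ : G) (hmem k₂) k₁.2
    have h2 := h.NN_comm_KK c hc hmax _ ((k₁ : G) * d * (k₁ : G)⁻¹ * d⁻¹) (hmem k₂)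
      (h.NN_le_KK c hc hmax (hmem k₁))
    calc (k₁ : G) * (k₂ : G) * d * ((k₁ : G) * (k₂ : G))⁻¹ * d⁻¹
        = (k₁ : G) * ((k₂ : G) * d * (k₂ : G)⁻¹ * d⁻¹) * (d * (k₁ : G)⁻¹ * d⁻¹) := by group
      _ = ((k₂ : G) * d * (k₂ : G)⁻¹ * d⁻¹) * (k₁ : G) * (d * (k₁ : G)⁻¹ * d⁻¹) := by rw [← h1]
      _ = ((k₂ : G) * d * (k₂ : G)⁻¹ * d⁻¹) * ((k₁ : G) * d * (k₁ : G)⁻¹ * d⁻¹) := by group
      _ = ((k₁ : G) * d * (k₁ : G)⁻¹ * d⁻¹) * ((k₂ : G) * d * (k₂ : G)⁻¹ * d⁻¹) := h2)
  have hker : f.ker = (Subgroup.centralizer ({d} : Set G)).subgroupOf K := by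
    ext k
    rw [MonoidHom.mem_ker, Subgroup.mem_subgroupOf, mem_centralizer_singleton]
    constructor
    · intro h1
      have h2 : (k : G) * d * (k : G)⁻¹ * d⁻¹ = 1 := congrArg Subtype.val h1
      calc (k : G) * d = ((k : G) * d * (k : G)⁻¹ * d⁻¹) * (d * (k : G)) := by group
        _ = d * (k : G) := by rw [h2, one_mul]
    · intro h1
      apply Subtype.ext
      show (k : G) * d * (k : G)⁻¹ * d⁻¹ = 1
      rw [h1]; group
  have h1 : (Subgroup.centralizer ({d} : Set G)).relIndex K ∣ Nat.card (NN Y) := by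
    rw [Subgroup.relIndex, ← hker, Subgroup.index_ker]
    exact Subgroup.card_subgroup_dvd_card _
  have h2 : (Subgroup.centralizer ({d} : Set G)).relIndex K ∣ cs d :=
    relIndex_dvd_index_of_normal' _ K
  have hcop := h.card_NN_coprime c hc hmax d hdY
  have h3 := Nat.dvd_gcd h1 h2
  rw [Nat.Coprime] at hcop
  rw [hcop, Nat.dvd_one] at h3
  have h4 : K ≤ Subgroup.centralizer ({d} : Set G) := Subgroup.relIndex_eq_one.1 h3
  exact (mem_centralizer_singleton d k).1 (h4 hk)

/-- **M8**: centralizers of elements of `Y` are normal -/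
theorem Split.centralizer_normal (d : G) (hd : d ∈ Y) :
    (Subgroup.centralizer ({d} : Set G)).Normal := by
  have hdK := h.Y_le_KK c hc hmax hd
  have hKn : (h.KK c hc hmax).Normal := h.KK_normal c hc hmax
  constructor
  intro n hn g
  by_cases hnX : n ∈ X
  · obtain ⟨k, hk, hk'⟩ := conj_eq_conj_of_coprime n d (h.cop n hnX d hd) g
    rw [hk']
    exact Subgroup.mul_mem _ (Subgroup.mul_mem _ hk hn) (Subgroup.inv_mem _ hk)
  · have h1 : g * n * g⁻¹ ∈ h.KK c hc hmax := hKn.conj_mem n hnX g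
    rw [mem_centralizer_singleton]
    exact h.KK_comm c hc hmax _ _ h1 hdK

end withmax

end Cfsg.Agent.H2.ClassProd
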