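import Mathlib
import Cfsg.Agent.H2.ClassProdC
import Cfsg.Agent.H2.ConjUnion
import Cfsg.Agent.H2.ConjUnionCount

/-!
# Groups whose non-central classes split into two families of coprime sizes, III (helper2)

`K = Y ∪ Z(G)` is self-centralizing.
-/

set_option autoImplicit false
set_option linter.unusedSectionVars false
set_option linter.style.haveILetI false
set_option linter.deprecated false

namespace Cfsg.Agent.H2.ClassProd

variable {G : Type*} [Group G] [Finite G] {X Y : Set G}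

section withmax

variable (h : Split X Y) (c : G) (hc : c ∈ X) (hmax : ∀ g : G, cs g ≤ cs c)

include h hc hmax

/-- the index of `C_G(K)` is coprime to the class sizes in `X` -/
theorem Split.index_centralizer_coprime (x : G) (hx : x ∈ X) :
    ((Subgroup.centralizer ((h.KK c hc hmax : Subgroup G) : Set G)).index).Coprime (cs x) := by
  set K := h.KK c hc hmax with hK
  set A := Subgroup.centralizer (K : Set G) with hA
  have hKn : K.Normal := h.KK_normal c hc hmax
  haveI : A.Normal := Subgroup.normal_centralizer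
  apply Nat.coprime_of_dvd
  intro r hr hrA hrx
  haveI : Fact r.Prime := ⟨hr⟩
  rw [Subgroup.index_eq_card] at hrA
  obtain ⟨gq, hgq⟩ := exists_prime_orderOf_dvd_card' r hrA
  obtain ⟨g, rfl⟩ := QuotientGroup.mk_surjective gq
  have hgA : g ∉ A := by
    intro hg
    have : (g : G ⧸ A) = 1 := (QuotientGroup.eq_one_iff g).2 hg
    rw [this, orderOf_one] at hgq
    exact hr.one_lt.ne hgq
  have hgr : g ^ r ∈ A := by
    rw [← QuotientGroup.eq_one_iff, QuotientGroup.mk_pow, ← hgq, pow_orderOf_eq_one]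
  rw [hA, Subgroup.mem_centralizer_iff] at hgA
  push Not at hgA
  obtain ⟨k, hkK, hk⟩ := hgA
  have hkY : k ∈ Y := by
    rcases (h.mem_KK_iff c hc hmax k).1 hkK with h1 | h1
    · exact h1
    · exact absurd (Subgroup.mem_center_iff.1 h1 g).symm hk
  haveI := h.centralizer_normal c hc hmax k hkY
  have h1 : orderOf (g : G ⧸ Subgroup.centralizer ({k} : Set G)) = r := by
    apply orderOf_eq_prime
    · rw [← QuotientGroup.mk_pow, QuotientGroup.eq_one_iff, mem_centralizer_singleton]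
      exact ((Subgroup.mem_centralizer_iff.1 hgr) k hkK).symm
    · rw [Ne, QuotientGroup.eq_one_iff, mem_centralizer_singleton]
      exact fun e => hk e.symm
  have h2 : r ∣ cs k := by
    rw [← h1]
    unfold cs
    rw [Subgroup.index_eq_card]
    exact orderOf_dvd_natCard _
  have h3 := h.cop x hx k hkY
  have h4 := Nat.dvd_gcd hrx h2
  rw [Nat.Coprime] at h3
  rw [h3] at h4
  exact hr.one_lt.ne' (Nat.dvd_one.1 h4)

/-- conjugates of `y ∈ C_G(K) ∩ X` are conjugates under `C_G(K)` -/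
theorem Split.conj_by_centralizer (y : G) (hyX : y ∈ X) (g : G) :
    ∃ t ∈ Subgroup.centralizer ((h.KK c hc hmax : Subgroup G) : Set G),
      g * y * g⁻¹ = t * y * t⁻¹ := by
  obtain ⟨t, ht, u, hu, rfl⟩ := exists_mul_of_coprime_index _ _
    (h.index_centralizer_coprime c hc hmax y hyX) g
  refine ⟨t, ht, ?_⟩
  have hu' := (mem_centralizer_singleton y u).1 hu
  calc t * u * y * (t * u)⁻¹ = t * (u * y) * u⁻¹ * t⁻¹ := by group
    _ = t * (y * u) * u⁻¹ * t⁻¹ := by rw [hu']
    _ = t * y * t⁻¹ := by group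

/-- **M9**: `K` is self-centralizing -/
theorem Split.centralizer_KK_le (hY : Y.Nonempty) :
    Subgroup.centralizer ((h.KK c hc hmax : Subgroup G) : Set G) ≤ h.KK c hc hmax := by
  set K := h.KK c hc hmax with hK
  set A := Subgroup.centralizer (K : Set G) with hA
  have hKn : K.Normal := h.KK_normal c hc hmax
  haveI hAn : A.Normal := Subgroup.normal_centralizer
  intro y hyA
  by_contra hyK
  have hyX : y ∈ X := not_not.1 hyK
  obtain ⟨d₀, hd₀⟩ := hY
  have hd₀1 : cs d₀ ≠ 1 := fun e => h.ync d₀ hd₀ ((cs_eq_one_iff d₀).1 e)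
  obtain ⟨q, hq, hqd⟩ := Nat.exists_prime_and_dvd hd₀1
  haveI : Fact q.Prime := ⟨hq⟩
  have hqX : ∀ x ∈ X, ¬ q ∣ cs x := by
    intro x hx hqx
    have h1 := Nat.dvd_gcd hqx hqd
    have h2 := h.cop x hx d₀ hd₀
    rw [Nat.Coprime] at h2
    rw [h2] at h1
    exact hq.one_lt.ne' (Nat.dvd_one.1 h1)
  -- a Sylow `q`-subgroup centralizing `y`
  obtain ⟨Q, hQ⟩ : ∃ Q : Sylow q G, ∀ a ∈ Q, a * y = y * a := by
    obtain ⟨s, z, hz, hyz⟩ := Cfsg.Agent.H2.ConjUnionCount.mem_conj_centralizer_of_not_dvd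
      (Classical.arbitrary (Sylow q G)) y (hqX y hyX)
    refine ⟨s • Classical.arbitrary (Sylow q G), ?_⟩
    intro a ha
    have ha' : s⁻¹ * a * s ∈ ((Classical.arbitrary (Sylow q G) : Sylow q G) : Subgroup G) :=
      (Cfsg.Agent.H2.mem_sylow_smul_iff _ s a).1 ha
    rw [Subgroup.mem_centralizer_iff] at hz
    have h1 := hz _ ha'
    rw [hyz]
    calc a * (s * z * s⁻¹) = s * ((s⁻¹ * a * s) * z) * s⁻¹ := by group
      _ = s * (z * (s⁻¹ * a * s)) * s⁻¹ := by rw [h1]
      _ = s * z * s⁻¹ * a := by group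
  -- Claim 1: `Q` acts nontrivially on `N`
  obtain ⟨a, haQ, n, hnN, han⟩ : ∃ a ∈ Q, ∃ n ∈ NN Y, a * n * a⁻¹ ≠ n := by
    have h1 : ¬ (Q : Subgroup G) ≤ Subgroup.centralizer ({d₀} : Set G) := by
      intro hle
      have h2 := Subgroup.index_dvd_of_le hle
      exact Q.not_dvd_index (hqd.trans h2)
    rw [SetLike.not_le_iff_exists] at h1
    obtain ⟨a, haQ, hac⟩ := h1
    rw [mem_centralizer_singleton] at hac
    have hd₀K := h.Y_le_KK c hc hmax hd₀
    have hnN : a * d₀ * a⁻¹ * d₀⁻¹ ∈ NN Y := by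
      have := h.comm_mem_NN' c hc hmax d₀ hd₀K a
      have e : a * d₀ * a⁻¹ * d₀⁻¹ = (d₀ * a * d₀⁻¹ * a⁻¹)⁻¹ := by group
      rw [e]; exact Subgroup.inv_mem _ this
    refine ⟨a, haQ, a * d₀ * a⁻¹ * d₀⁻¹, hnN, ?_⟩
    intro hfix
    set n := a * d₀ * a⁻¹ * d₀⁻¹ with hn
    have hnd : n * d₀ = d₀ * n := h.NN_comm_KK c hc hmax n d₀ hnN hd₀K
    have han : a * n = n * a := by
      calc a * n = (a * n * a⁻¹) * a := by group
        _ = n * a := by rw [hfix]
    have hpow : ∀ j : ℕ, a ^ j * d₀ * (a ^ j)⁻¹ = n ^ j * d₀ := by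
      intro j
      induction j with
      | zero => simp
      | succ j ih =>
        have hanj : a * n ^ j = n ^ j * a := by
          have : Commute a n := han
          exact (this.pow_right j).eq
        calc a ^ (j + 1) * d₀ * (a ^ (j + 1))⁻¹ = a * (a ^ j * d₀ * (a ^ j)⁻¹) * a⁻¹ := by
              rw [pow_succ']; group
          _ = a * (n ^ j * d₀) * a⁻¹ := by rw [ih]
          _ = (a * n ^ j) * d₀ * a⁻¹ := by group
          _ = (n ^ j * a) * d₀ * a⁻¹ := by rw [hanj]
          _ = n ^ j * (a * d₀ * a⁻¹ * d₀⁻¹) * d₀ := by group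
          _ = n ^ (j + 1) * d₀ := by rw [← hn, pow_succ]
    have h2 := hpow (orderOf a)
    rw [pow_orderOf_eq_one, one_mul, inv_one, mul_one] at h2
    have h3 : n ^ orderOf a = 1 := by
      have := congrArg (fun t => t * d₀⁻¹) h2
      simp only [mul_inv_cancel, mul_inv_cancel_right] at this
      exact this.symm
    have h4 : orderOf n ∣ orderOf a := orderOf_dvd_of_pow_eq_one h3
    have h5 : orderOf n ∣ Nat.card (NN Y) := by
      have := orderOf_dvd_natCard (⟨n, hnN⟩ : NN Y)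
      rwa [Subgroup.orderOf_mk] at this
    obtain ⟨b, hb⟩ := (IsPGroup.iff_orderOf.1 Q.2) ⟨a, haQ⟩
    rw [Subgroup.orderOf_mk] at hb
    have h6 : (Nat.card (NN Y)).Coprime (orderOf a) := by
      rw [hb]
      apply Nat.Coprime.pow_right
      have h7 := h.card_NN_coprime c hc hmax d₀ hd₀
      exact Nat.Coprime.coprime_dvd_right hqd h7
    have h8 := Nat.dvd_gcd h5 h4
    rw [Nat.Coprime] at h6
    rw [h6, Nat.dvd_one, orderOf_eq_one_iff] at h8
    apply hac
    have : a * d₀ * a⁻¹ * d₀⁻¹ = 1 := h8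
    calc a * d₀ = (a * d₀ * a⁻¹ * d₀⁻¹) * (d₀ * a) := by group
      _ = d₀ * a := by rw [this, one_mul]
  -- Claim 2: `Q` acts trivially on `A / K`
  have hclaim2 : ∀ t ∈ A, ∀ a ∈ Q, a * t * a⁻¹ * t⁻¹ ∈ K := by
    let F : Subgroup A :=
      { carrier := {g : A | ∀ a ∈ Q, a * (g : G) * a⁻¹ * (g : G)⁻¹ ∈ K}
        one_mem' := by
          intro a _
          simp only [Subgroup.coe_one]
          have : a * 1 * a⁻¹ * (1 : G)⁻¹ = 1 := by group
          rw [this]; exact Subgroup.one_mem _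
        mul_mem' := by
          intro g₁ g₂ h1 h2 a ha
          have e : a * ((g₁ * g₂ : A) : G) * a⁻¹ * ((g₁ * g₂ : A) : G)⁻¹ =
              (a * (g₁ : G) * a⁻¹ * (g₁ : G)⁻¹) *
                ((g₁ : G) * (a * (g₂ : G) * a⁻¹ * (g₂ : G)⁻¹) * (g₁ : G)⁻¹) := by
            rw [Subgroup.coe_mul]; group
          rw [e]
          exact Subgroup.mul_mem _ (h1 a ha) (hKn.conj_mem _ (h2 a ha) _)
        inv_mem' := by
          intro g h1 a ha
          have e : a * ((g⁻¹ : A) : G) * a⁻¹ * ((g⁻¹ : A) : G)⁻¹ =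
              (g : G)⁻¹ * (a * (g : G) * a⁻¹ * (g : G)⁻¹)⁻¹ * (g : G)⁻¹⁻¹ := by
            rw [Subgroup.coe_inv]; group
          rw [e]
          exact hKn.conj_mem _ (Subgroup.inv_mem _ (h1 a ha)) _ }
    have hF : F = ⊤ := by
      by_contra hne
      obtain ⟨g, hg⟩ := Cfsg.Agent.H2.exists_not_mem_conj_of_ne_top F hne
      by_cases hgK : (g : G) ∈ K
      · apply hg 1
        rw [Cfsg.Agent.H2.mem_map_conj_iff]
        simp only [inv_one, one_mul, mul_one]
        intro a ha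
        exact Subgroup.mul_mem _ (hKn.conj_mem _ hgK a) (Subgroup.inv_mem _ hgK)
      · have hgX : (g : G) ∈ X := not_not.1 hgK
        obtain ⟨s, z, hz, hgz⟩ := Cfsg.Agent.H2.ConjUnionCount.mem_conj_centralizer_of_not_dvd
          Q (g : G) (hqX _ hgX)
        obtain ⟨t', ht', ht'e⟩ := h.conj_by_centralizer c hc hmax (g : G) hgX s⁻¹
        have hzeq : z = t' * (g : G) * t'⁻¹ := by
          rw [← ht'e, hgz]; group
        apply hg (⟨t', ht'⟩ : A)⁻¹
        rw [Cfsg.Agent.H2.mem_map_conj_iff]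
        intro a ha
        have e : (((⟨t', ht'⟩ : A)⁻¹⁻¹ * g * (⟨t', ht'⟩ : A)⁻¹ : A) : G) = z := by
          rw [hzeq]; simp
        rw [e]
        rw [Subgroup.mem_centralizer_iff] at hz
        have h1 := hz a ha
        have : a * z * a⁻¹ * z⁻¹ = 1 := by rw [h1]; group
        rw [this]; exact Subgroup.one_mem _
    intro t ht a ha
    have : (⟨t, ht⟩ : A) ∈ F := by rw [hF]; exact Subgroup.mem_top _
    exact this a ha
  -- Claim 3: contradiction
  have hyn : y * n ∈ cl y := h.invariant c hc hmax y hyX y (self_mem_cl y) n hnN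
  obtain ⟨g, hg⟩ := hyn
  obtain ⟨t, ht, hte⟩ := h.conj_by_centralizer c hc hmax y hyX g
  rw [hte] at hg
  have hay : a * y * a⁻¹ = y := by rw [hQ a haQ]; group
  have hkK := hclaim2 t ht a haQ
  set k := a * t * a⁻¹ * t⁻¹ with hk
  have hnK : n ∈ K := h.NN_le_KK c hc hmax hnN
  have hyk : y * k = k * y := ((Subgroup.mem_centralizer_iff.1 hyA) k hkK).symm
  have hnk : k * n = n * k := h.KK_comm c hc hmax k n hkK hnK
  apply han
  have e1 : a * (y * n) * a⁻¹ = y * (a * n * a⁻¹) := by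
    calc a * (y * n) * a⁻¹ = (a * y * a⁻¹) * (a * n * a⁻¹) := by group
      _ = y * (a * n * a⁻¹) := by rw [hay]
  have e2 : a * (t * y * t⁻¹) * a⁻¹ = y * n := by
    calc a * (t * y * t⁻¹) * a⁻¹ = (a * t * a⁻¹) * (a * y * a⁻¹) * (a * t * a⁻¹)⁻¹ := by group
      _ = (k * t) * y * (k * t)⁻¹ := by
          rw [hay]
          have : a * t * a⁻¹ = k * t := by rw [hk]; group
          rw [this]
      _ = k * (t * y * t⁻¹) * k⁻¹ := by group
      _ = k * (y * n) * k⁻¹ := by rw [← hg]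
      _ = (k * y) * n * k⁻¹ := by group
      _ = (y * k) * n * k⁻¹ := by rw [hyk]
      _ = y * (k * n) * k⁻¹ := by group
      _ = y * (n * k) * k⁻¹ := by rw [hnk]
      _ = y * n := by group
  rw [hg, e2] at e1
  exact (mul_left_cancel e1).symm

end withmax

end Cfsg.Agent.H2.ClassProd
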