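import Mathlib
import Cfsg.Agent.H2.ClassProdD
import Cfsg.Agent.H2.FrobeniusInternal

/-!
# Groups whose non-central classes split into two families of coprime sizes, IV (helper2)

`G / Z(G)` is a Frobenius group with abelian kernel and complement.
-/

set_option autoImplicit false
set_option linter.unusedSectionVars false
set_option linter.style.haveILetI false
set_option linter.deprecated false

namespace Cfsg.Agent.H2.ClassProd

variable {G : Type*} [Group G] [Finite G] {X Y : Set G}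

section withmax

variable (h : Split X Y) (c : G) (hc : c ∈ X) (hmax : ∀ g : G, cs g ≤ cs c)

include h hc hmax

/-- **M10** -/
theorem Split.KK_index_coprime (hY : Y.Nonempty) (x : G) (hx : x ∈ X) :
    ((h.KK c hc hmax).index).Coprime (cs x) := by
  have h1 : Subgroup.centralizer ((h.KK c hc hmax : Subgroup G) : Set G) = h.KK c hc hmax := by
    apply le_antisymm (h.centralizer_KK_le c hc hmax hY)
    intro k hk
    rw [Subgroup.mem_centralizer_iff]
    intro d hd
    exact h.KK_comm c hc hmax d k hd hk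
  have := h.index_centralizer_coprime c hc hmax x hx
  rwa [h1] at this

theorem Split.KK_index_coprime_NN (hY : Y.Nonempty) :
    ((h.KK c hc hmax).index).Coprime (Nat.card (NN Y)) :=
  Nat.Coprime.coprime_dvd_right (h.card_NN_dvd c hc hmax) (h.KK_index_coprime c hc hmax hY c hc)

/-- an element of `N` killed by the index of `K` is trivial -/
theorem Split.eq_one_of_pow_index (hY : Y.Nonempty) (n : G) (hn : n ∈ NN Y)
    (hpow : n ^ (h.KK c hc hmax).index = 1) : n = 1 := by
  have h4 : orderOf n ∣ (h.KK c hc hmax).index := orderOf_dvd_of_pow_eq_one hpow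
  have h5 : orderOf n ∣ Nat.card (NN Y) := by
    have := orderOf_dvd_natCard (⟨n, hn⟩ : NN Y)
    rwa [Subgroup.orderOf_mk] at this
  have h6 := h.KK_index_coprime_NN c hc hmax hY
  have h8 := Nat.dvd_gcd h4 h5
  rw [Nat.Coprime] at h6
  rw [h6, Nat.dvd_one, orderOf_eq_one_iff] at h8
  exact h8

/-- **M11** -/
theorem Split.not_comm (hY : Y.Nonempty) (x d : G) (hx : x ∈ X) (hd : d ∈ Y) :
    x * d ≠ d * x := by
  intro hxd
  set K := h.KK c hc hmax with hK
  have hKn : K.Normal := h.KK_normal c hc hmax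
  have hcop := h.cop x hx d hd
  -- `x` commutes with all conjugates of `d`
  have hall : ∀ g : G, x * (g * d * g⁻¹) = (g * d * g⁻¹) * x := by
    intro g
    obtain ⟨k, hk, hk'⟩ := conj_eq_conj_of_coprime d x hcop.symm g
    have hkx := (mem_centralizer_singleton x k).1 hk
    rw [hk']
    have hx' : k * x * k⁻¹ = x := by rw [hkx]; group
    calc x * (k * d * k⁻¹) = (k * x * k⁻¹) * (k * d * k⁻¹) := by rw [hx']
      _ = k * (x * d) * k⁻¹ := by group
      _ = k * (d * x) * k⁻¹ := by rw [hxd]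
      _ = (k * d * k⁻¹) * (k * x * k⁻¹) := by group
      _ = (k * d * k⁻¹) * x := by rw [hx']
  -- a nontrivial element of `N` commuting with `x`
  have hdnc := h.ync d hd
  rw [Subgroup.mem_center_iff] at hdnc
  push Not at hdnc
  obtain ⟨g, hg⟩ := hdnc
  set n := d * (g * d⁻¹ * g⁻¹) with hn
  have hnN : n ∈ NN Y := comm_mem_NN hd g
  have hn1 : n ≠ 1 := by
    intro e
    apply hg
    have : g * d = (d * (g * d⁻¹ * g⁻¹))⁻¹ * (d * g) := by group
    rw [this, ← hn, e, inv_one, one_mul]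
  have hxn : x * n = n * x := by
    have h1 := hall g
    have h2 : x * (g * d⁻¹ * g⁻¹) = (g * d⁻¹ * g⁻¹) * x := by
      have e1 : g * d⁻¹ * g⁻¹ = (g * d * g⁻¹)⁻¹ := by group
      rw [e1]
      calc x * (g * d * g⁻¹)⁻¹ = (g * d * g⁻¹)⁻¹ * ((g * d * g⁻¹) * x) * (g * d * g⁻¹)⁻¹ := by group
        _ = (g * d * g⁻¹)⁻¹ * (x * (g * d * g⁻¹)) * (g * d * g⁻¹)⁻¹ := by rw [h1]
        _ = (g * d * g⁻¹)⁻¹ * x := by group
    calc x * n = (x * d) * (g * d⁻¹ * g⁻¹) := by rw [hn]; group
      _ = (d * x) * (g * d⁻¹ * g⁻¹) := by rw [hxd]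
      _ = d * (x * (g * d⁻¹ * g⁻¹)) := by group
      _ = d * ((g * d⁻¹ * g⁻¹) * x) := by rw [h2]
      _ = n * x := by rw [hn]; group
  -- `x n` is a `K`-conjugate of `x`
  have hxn_cl : x * n ∈ cl x := h.invariant c hc hmax x hx x (self_mem_cl x) n hnN
  obtain ⟨g', hg'⟩ := hxn_cl
  obtain ⟨k, hk, u, hu, rfl⟩ := exists_mul_of_coprime_index K (Subgroup.centralizer ({x} : Set G))
    (h.KK_index_coprime c hc hmax hY x hx) g'
  have hux := (mem_centralizer_singleton x u).1 hu
  have hkx : k * x * k⁻¹ = x * n := by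
    rw [hg']
    calc k * x * k⁻¹ = k * (x * u) * u⁻¹ * k⁻¹ := by group
      _ = k * (u * x) * u⁻¹ * k⁻¹ := by rw [hux]
      _ = k * u * x * (k * u)⁻¹ := by group
  have hxk : x⁻¹ * k * x = n * k := by
    have : x⁻¹ * k * x = x⁻¹ * (k * x * k⁻¹) * k := by group
    rw [this, hkx]; group
  have hnk : n * k = k * n := h.NN_comm_KK c hc hmax n k hnN hk
  have hpow : ∀ j : ℕ, (x ^ j)⁻¹ * k * x ^ j = n ^ j * k := by
    intro j
    induction j with
    | zero => simp
    | succ j ih =>
      have hc1 : Commute x n := hxn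
      have hxnj : x⁻¹ * n ^ j * x = n ^ j := by
        have := (hc1.pow_right j).eq
        calc x⁻¹ * n ^ j * x = x⁻¹ * (n ^ j * x) := by group
          _ = x⁻¹ * (x * n ^ j) := by rw [this]
          _ = n ^ j := by group
      calc (x ^ (j + 1))⁻¹ * k * x ^ (j + 1) = x⁻¹ * ((x ^ j)⁻¹ * k * x ^ j) * x := by
            rw [pow_succ]; group
        _ = x⁻¹ * (n ^ j * k) * x := by rw [ih]
        _ = (x⁻¹ * n ^ j * x) * (x⁻¹ * k * x) := by group
        _ = n ^ j * (n * k) := by rw [hxnj, hxk]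
        _ = n ^ (j + 1) * k := by rw [pow_succ]; group
  have h1 := hpow K.index
  have h2 : x ^ K.index ∈ K := K.pow_index_mem x
  have h3 : (x ^ K.index)⁻¹ * k * x ^ K.index = k := by
    have := h.KK_comm c hc hmax _ _ h2 hk
    calc (x ^ K.index)⁻¹ * k * x ^ K.index = (x ^ K.index)⁻¹ * (k * x ^ K.index) := by group
      _ = (x ^ K.index)⁻¹ * (x ^ K.index * k) := by rw [this]
      _ = k := by group
  rw [h3] at h1
  have h4 : n ^ K.index = 1 := by
    have := congrArg (fun t => t * k⁻¹) h1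
    simp only [mul_inv_cancel, mul_inv_cancel_right] at this
    exact this.symm
  exact hn1 (h.eq_one_of_pow_index c hc hmax hY n hnN h4)

/-- **M12** -/
theorem Split.comm_not_central (hY : Y.Nonempty) (x d : G) (hx : x ∈ X) (hd : d ∈ Y) :
    x * d * x⁻¹ * d⁻¹ ∉ Subgroup.center G := by
  intro hz
  set K := h.KK c hc hmax with hK
  have hKn : K.Normal := h.KK_normal c hc hmax
  set z := x * d * x⁻¹ * d⁻¹ with hzdef
  have hdK := h.Y_le_KK c hc hmax hd
  have hzN : z ∈ NN Y := by
    have := h.comm_mem_NN' c hc hmax d hdK x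
    have e : z = (d * x * d⁻¹ * x⁻¹)⁻¹ := by rw [hzdef]; group
    rw [e]; exact Subgroup.inv_mem _ this
  have hzc := Subgroup.mem_center_iff.1 hz
  have hpow : ∀ j : ℕ, x ^ j * d * (x ^ j)⁻¹ = z ^ j * d := by
    intro j
    induction j with
    | zero => simp
    | succ j ih =>
      have hzj : z ^ j ∈ Subgroup.center G := Subgroup.pow_mem _ hz j
      have hzjc := Subgroup.mem_center_iff.1 hzj
      calc x ^ (j + 1) * d * (x ^ (j + 1))⁻¹ = x * (x ^ j * d * (x ^ j)⁻¹) * x⁻¹ := by
            rw [pow_succ']; group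
        _ = x * (z ^ j * d) * x⁻¹ := by rw [ih]
        _ = (x * z ^ j) * d * x⁻¹ := by group
        _ = (z ^ j * x) * d * x⁻¹ := by rw [hzjc x]
        _ = z ^ j * (x * d * x⁻¹ * d⁻¹) * d := by group
        _ = z ^ (j + 1) * d := by rw [← hzdef, pow_succ]
  have h1 := hpow K.index
  have h2 : x ^ K.index ∈ K := K.pow_index_mem x
  have h3 : x ^ K.index * d * (x ^ K.index)⁻¹ = d := by
    have := h.KK_comm c hc hmax _ _ h2 hdK
    rw [this]; group
  rw [h3] at h1
  have h4 : z ^ K.index = 1 := by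
    have := congrArg (fun t => t * d⁻¹) h1
    simp only [mul_inv_cancel, mul_inv_cancel_right] at this
    exact this.symm
  have h5 := h.eq_one_of_pow_index c hc hmax hY z hzN h4
  apply h.not_comm c hc hmax hY x d hx hd
  calc x * d = (x * d * x⁻¹ * d⁻¹) * (d * x) := by group
    _ = d * x := by rw [← hzdef, h5, one_mul]

/-- the main theorem when the largest class size occurs in `X` -/
theorem Split.frobenius_of_max (hY : Y.Nonempty) :
    ∃ H : Subgroup (G ⧸ Subgroup.center G), Cfsg.IsFrobeniusComplement H ∧ IsMulCommutative H ∧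
      ∀ x ∈ Cfsg.frobeniusKernel H, ∀ y ∈ Cfsg.frobeniusKernel H, x * y = y * x := by
  set K := h.KK c hc hmax with hK
  have hKn : K.Normal := h.KK_normal c hc hmax
  set Hc := Subgroup.centralizer ({c} : Set G) with hHc
  set π := QuotientGroup.mk' (Subgroup.center G) with hπ
  have hπs : Function.Surjective π := QuotientGroup.mk'_surjective _
  have hker : ∀ a : G, π a = 1 ↔ a ∈ Subgroup.center G := fun a => QuotientGroup.eq_one_iff a
  have hZK : Subgroup.center G ≤ K := fun z hz => (h.mem_KK_iff c hc hmax z).2 (Or.inr hz)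
  -- `K ∩ H = Z`
  have hKH : ∀ a, a ∈ K → a ∈ Hc → a ∈ Subgroup.center G := by
    intro a haK haH
    rcases (h.mem_KK_iff c hc hmax a).1 haK with h1 | h1
    · exfalso
      exact h.not_comm c hc hmax hY c a hc h1 ((mem_centralizer_singleton c a).1 haH).symm
    · exact h1
  -- elements of `H` outside `Z` lie in `X`
  have hHX : ∀ a ∈ Hc, a ∉ Subgroup.center G → a ∈ X := by
    intro a haH haZ
    by_contra haX
    exact haZ (hKH a haX haH)
  -- `H / Z` is abelian
  have hHab : ∀ a ∈ Hc, ∀ b ∈ Hc, a * b * a⁻¹ * b⁻¹ ∈ Subgroup.center G := by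
    intro a ha b hb
    by_cases haZ : a ∈ Subgroup.center G
    · have : a * b * a⁻¹ * b⁻¹ = 1 := by
        rw [← Subgroup.mem_center_iff.1 haZ b]; group
      rw [this]; exact Subgroup.one_mem _
    · have haX := hHX a ha haZ
      obtain ⟨k, hk, u, hu, rfl⟩ := exists_mul_of_coprime_index K
        (Subgroup.centralizer ({a} : Set G)) (h.KK_index_coprime c hc hmax hY a haX) b
      have hua := (mem_centralizer_singleton a u).1 hu
      have e : a * (k * u) * a⁻¹ * (k * u)⁻¹ = a * k * a⁻¹ * k⁻¹ := by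
        calc a * (k * u) * a⁻¹ * (k * u)⁻¹ = a * k * (u * a⁻¹ * u⁻¹) * k⁻¹ := by group
          _ = a * k * a⁻¹ * k⁻¹ := by
              have : u * a⁻¹ * u⁻¹ = a⁻¹ := by
                calc u * a⁻¹ * u⁻¹ = a⁻¹ * (a * u) * a⁻¹ * u⁻¹ := by group
                  _ = a⁻¹ * (u * a) * a⁻¹ * u⁻¹ := by rw [hua]
                  _ = a⁻¹ := by group
              rw [this]
      apply hKH
      · rw [e]
        exact Subgroup.mul_mem _ (hKn.conj_mem k hk a) (Subgroup.inv_mem _ hk)
      · exact Subgroup.mul_mem _ (Subgroup.mul_mem _ (Subgroup.mul_mem _ ha hb)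
          (Subgroup.inv_mem _ ha)) (Subgroup.inv_mem _ hb)
  -- the images
  have hKbn : (K.map π).Normal := Subgroup.Normal.map hKn π hπs
  have hsup : K.map π ⊔ Hc.map π = ⊤ := by
    rw [← Subgroup.map_sup]
    have : K ⊔ Hc = ⊤ := by
      rw [← Subgroup.index_eq_one]
      have h1 : (K ⊔ Hc).index ∣ K.index := Subgroup.index_dvd_of_le le_sup_left
      have h2 : (K ⊔ Hc).index ∣ cs c := Subgroup.index_dvd_of_le le_sup_right
      have h3 := h.KK_index_coprime c hc hmax hY c hc
      have h4 := Nat.dvd_gcd h1 h2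
      rw [Nat.Coprime] at h3
      rw [h3] at h4
      exact Nat.dvd_one.1 h4
    rw [this]
    exact Subgroup.map_top_of_surjective π hπs
  have hinf : K.map π ⊓ Hc.map π = ⊥ := by
    rw [eq_bot_iff]
    rintro x ⟨⟨k, hk, rfl⟩, ⟨b, hb, hbk⟩⟩
    rw [Subgroup.mem_bot]
    have h1 : π (k⁻¹ * b) = 1 := by rw [map_mul, map_inv, hbk, inv_mul_cancel]
    have h2 := (hker _).1 h1
    have h3 : b ∈ K := by
      have : b = k * (k⁻¹ * b) := by group
      rw [this]; exact Subgroup.mul_mem _ hk (hZK h2)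
    rw [← hbk]
    exact (hker b).2 (hKH b h3 hb)
  have hcH : c ∈ Hc := (mem_centralizer_singleton c c).2 rfl
  have hHne : Hc.map π ≠ ⊥ := by
    intro e
    have : π c ∈ Hc.map π := Subgroup.mem_map_of_mem π hcH
    rw [e, Subgroup.mem_bot, hker] at this
    exact h.xnc c hc this
  have hKne : K.map π ≠ ⊥ := by
    intro e
    obtain ⟨d, hd⟩ := hY
    have : π d ∈ K.map π := Subgroup.mem_map_of_mem π (h.Y_le_KK c hc hmax hd)
    rw [e, Subgroup.mem_bot, hker] at this
    exact h.ync d hd this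
  have hfpf : ∀ a ∈ Hc.map π, a ≠ 1 → ∀ n ∈ K.map π, a * n = n * a → n = 1 := by
    rintro _ ⟨a, ha, rfl⟩ ha1 _ ⟨k, hk, rfl⟩ hcomm
    have haZ : a ∉ Subgroup.center G := fun hz => ha1 ((hker a).2 hz)
    have haX := hHX a ha haZ
    rw [hker]
    rcases (h.mem_KK_iff c hc hmax k).1 hk with h1 | h1
    · exfalso
      apply h.comm_not_central c hc hmax hY a k haX h1
      rw [← hker, map_mul, map_mul, map_mul, map_inv, map_inv, hcomm]
      group
    · exact h1
  obtain ⟨hF, hFk⟩ := Cfsg.Agent.H2.FrobInt.frobenius_of_fpf (K.map π) (Hc.map π) hsup hinf hHne hKne hfpf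
  refine ⟨Hc.map π, hF, ?_, ?_⟩
  · refine ⟨⟨?_⟩⟩
    rintro ⟨_, a, ha, rfl⟩ ⟨_, b, hb, rfl⟩
    apply Subtype.ext
    show π a * π b = π b * π a
    have h1 := (hker _).2 (hHab a ha b hb)
    rw [map_mul, map_mul, map_mul, map_inv, map_inv] at h1
    calc π a * π b = (π a * π b * (π a)⁻¹ * (π b)⁻¹) * (π b * π a) := by group
      _ = π b * π a := by rw [h1, one_mul]
  · rw [hFk]
    rintro _ ⟨k₁, hk₁, rfl⟩ _ ⟨k₂, hk₂, rfl⟩
    rw [← map_mul, ← map_mul, h.KK_comm c hc hmax k₁ k₂ hk₁ hk₂]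

end withmax

/-- **Main theorem**: a splitting of the non-central elements into two non-empty families with
coprime class sizes across forces `G / Z(G)` to be a Frobenius group with abelian kernel and
complement. -/
theorem Split.frobenius (h : Split X Y) (hX : X.Nonempty) (hY : Y.Nonempty) :
    ∃ H : Subgroup (G ⧸ Subgroup.center G), Cfsg.IsFrobeniusComplement H ∧ IsMulCommutative H ∧
      ∀ x ∈ Cfsg.frobeniusKernel H, ∀ y ∈ Cfsg.frobeniusKernel H, x * y = y * x := by
  obtain ⟨c, hc⟩ := Finite.exists_max (fun g : G => cs g)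
  obtain ⟨x₀, hx₀⟩ := hX
  have hcnc : c ∉ Subgroup.center G := by
    intro hz
    have h1 := (cs_eq_one_iff c).2 hz
    have h2 : cs x₀ ≤ cs c := hc x₀
    rw [h1] at h2
    have h3 : cs x₀ = 1 := le_antisymm h2 (cs_pos x₀)
    exact h.xnc x₀ hx₀ ((cs_eq_one_iff x₀).1 h3)
  rcases h.cover c hcnc with hcX | hcY
  · exact h.frobenius_of_max c hcX hc hY
  · exact h.symm.frobenius_of_max c hcY hc ⟨x₀, hx₀⟩

end Cfsg.Agent.H2.ClassProd
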