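import Mathlib
import Cfsg.Agent.Lib.helper3.Ito
import Cfsg.Agent.Lib.helper3.GoingDown2

/-!
# The number of conjugates of a function on a normal subgroup (helper2)
-/

set_option autoImplicit false
set_option linter.style.haveILetI false
set_option linter.unusedSectionVars false

namespace Cfsg.Agent.H2.ConjOrbitCard

open Cfsg Cfsg.Agent.Lib.helper3.Irr Cfsg.Agent.Lib.helper3.CharBasic

variable {G : Type*} [Group G] [Fintype G]

/-- The number of distinct conjugates of `θ` times the order of its inertia group is `|G|`. -/
theorem card_image_conjFun_mul (N : Subgroup G) [hN : N.Normal] (θ : N → ℂ)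
    [DecidableEq (N → ℂ)] :
    (Finset.univ.image (conjFun N θ)).card * Nat.card (inertia N θ) = Nat.card G := by
  classical
  rw [Nat.card_eq_fintype_card (α := G), ← Finset.card_univ,
    Finset.card_eq_sum_card_image (conjFun N θ) Finset.univ]
  rw [Finset.sum_const_nat (m := Nat.card (inertia N θ))]
  intro ψ hψ
  obtain ⟨g₀, -, rfl⟩ := Finset.mem_image.mp hψ
  rw [Nat.card_eq_fintype_card, ← Finset.card_univ]
  symm
  apply Finset.card_bij (fun (x : inertia N θ) _ => (x : G) * g₀)
  · intro x _
    rw [Finset.mem_filter]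
    refine ⟨Finset.mem_univ _, ?_⟩
    rw [← conjFun_mul]
    have hx : conjFun N θ (x : G) = θ := x.2
    rw [hx]
  · intro x _ y _ hxy
    exact Subtype.ext (mul_right_cancel hxy)
  · intro g hg
    rw [Finset.mem_filter] at hg
    have h1 : conjFun N θ (g * g₀⁻¹) = θ := by
      rw [← conjFun_mul, hg.2, conjFun_mul, mul_inv_cancel, conjFun_one]
    exact ⟨⟨g * g₀⁻¹, h1⟩, Finset.mem_univ _, by simp⟩

/-- The number of distinct conjugates of `θ` is the index of its inertia group. -/
theorem card_image_conjFun (N : Subgroup G) [hN : N.Normal] (θ : N → ℂ)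
    [DecidableEq (N → ℂ)] :
    (Finset.univ.image (conjFun N θ)).card = (inertia N θ).index := by
  have h1 := card_image_conjFun_mul N θ
  have h2 := Subgroup.card_mul_index (inertia N θ)
  rw [← h2, mul_comm] at h1
  exact Nat.eq_of_mul_eq_mul_left Nat.card_pos h1

end Cfsg.Agent.H2.ConjOrbitCard
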