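import Mathlib
import Cfsg.Prelude.Def_Transfer
import Cfsg.Agent.H1.NormalRankTwo
import Cfsg.Agent.H2.CyclicSylowStructure

/-!
# p-groups (p odd) acting faithfully with constant stabiliser order are cyclic and fixed-point-free

(author: helper2)
-/

set_option autoImplicit false

namespace Cfsg.Agent.H2.ConstStab

variable {P E : Type*} [Group P] [AddCommGroup E] [DistribMulAction P E]

/-- the partial trace `e ↦ ∑_{j<p} v^j • e` -/
def tr (p : ℕ) (v : P) (e : E) : E := ∑ j ∈ Finset.range p, v ^ j • e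

theorem smul_tr {p : ℕ} {v : P} (hv : v ^ p = 1) (e : E) : v • tr p v e = tr p v e := by
  unfold tr
  rw [Finset.smul_sum]
  have h0 : ∀ j, v • v ^ j • e = v ^ (j + 1) • e := fun j => by rw [smul_smul, ← pow_succ']
  simp_rw [h0]
  have h1 := Finset.sum_range_succ (fun j => v ^ j • e) p
  have h2 := Finset.sum_range_succ' (fun j => v ^ j • e) p
  rw [h1] at h2
  simp only [hv, pow_zero] at h2
  exact (add_right_cancel h2).symm

theorem pow_smul_of_fixed {v : P} {e : E} (h : v • e = e) (j : ℕ) : v ^ j • e = e := by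
  induction j with
  | zero => simp
  | succ n ih => rw [pow_succ, mul_smul, h, ih]

theorem tr_of_fixed {p : ℕ} {v : P} {e : E} (h : v • e = e) : tr p v e = p • e := by
  unfold tr
  simp [pow_smul_of_fixed h]

theorem smul_tr_comm {p : ℕ} {v w : P} (hc : Commute w v) (e : E) :
    w • tr p v e = tr p v (w • e) := by
  unfold tr
  rw [Finset.smul_sum]
  apply Finset.sum_congr rfl
  intro j _
  rw [smul_smul, (hc.pow_right j).eq, mul_smul]

theorem tr_add (p : ℕ) (v : P) (a b : E) : tr p v (a + b) = tr p v a + tr p v b := by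
  unfold tr; simp [smul_add, Finset.sum_add_distrib]

theorem tr_sub (p : ℕ) (v : P) (a b : E) : tr p v (a - b) = tr p v a - tr p v b := by
  unfold tr; simp [smul_sub, Finset.sum_sub_distrib]

theorem tr_nsmul (p : ℕ) (v : P) (n : ℕ) (a : E) : tr p v (n • a) = n • tr p v a := by
  unfold tr
  rw [Finset.smul_sum]
  apply Finset.sum_congr rfl
  intro j _
  rw [smul_comm]

theorem tr_zero (p : ℕ) (v : P) : tr p v (0 : E) = 0 := by
  unfold tr; simp

theorem eq_zero_of_nsmul {p q : ℕ} (hpq : Nat.Coprime p q) (hE : ∀ e : E, q • e = 0) {e : E}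
    (h : p • e = 0) : e = 0 := by
  have h1 : addOrderOf e ∣ p := addOrderOf_dvd_of_nsmul_eq_zero h
  have h2 : addOrderOf e ∣ q := addOrderOf_dvd_of_nsmul_eq_zero (hE e)
  have h3 : addOrderOf e ∣ 1 := by
    have := Nat.dvd_gcd h1 h2
    rwa [hpq.gcd_eq_one] at this
  exact AddMonoid.addOrderOf_eq_one_iff.mp (Nat.dvd_one.mp h3)

theorem fixed_of_nsmul_fixed {p q : ℕ} (hpq : Nat.Coprime p q) (hE : ∀ e : E, q • e = 0) {g : P}
    {e : E} (h : g • (p • e) = p • e) : g • e = e := by
  have h1 : p • (g • e - e) = 0 := by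
    rw [smul_sub, ← smul_comm, h, sub_self]
  exact sub_eq_zero.mp (eq_zero_of_nsmul hpq hE h1)

variable [Finite P]

theorem stab_eq_of_le
    (hconst : ∀ a b : E, a ≠ 0 → b ≠ 0 →
      Nat.card (MulAction.stabilizer P a) = Nat.card (MulAction.stabilizer P b))
    {a b : E} (ha : a ≠ 0) (hb : b ≠ 0)
    (hle : MulAction.stabilizer P a ≤ MulAction.stabilizer P b) :
    MulAction.stabilizer P a = MulAction.stabilizer P b :=
  Subgroup.eq_of_le_of_card_ge hle (hconst a b ha hb).ge

/-- the two-block argument -/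
theorem stab_eq_of_pair
    (hconst : ∀ a b : E, a ≠ 0 → b ≠ 0 →
      Nat.card (MulAction.stabilizer P a) = Nat.card (MulAction.stabilizer P b))
    {a b : E} (ha : a ≠ 0) (hb : b ≠ 0) (hab : a + b ≠ 0)
    (h : ∀ g : P, g • (a + b) = a + b → g • a = a ∧ g • b = b) :
    MulAction.stabilizer P a = MulAction.stabilizer P b := by
  have h1 : MulAction.stabilizer P (a + b) = MulAction.stabilizer P a :=
    stab_eq_of_le hconst hab ha (fun g hg => (h g hg).1)
  have h2 : MulAction.stabilizer P (a + b) = MulAction.stabilizer P b :=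
    stab_eq_of_le hconst hab hb (fun g hg => (h g hg).2)
  rw [← h1, h2]


theorem fpf_of_cyclic [FaithfulSMul P E] {p : ℕ} [Fact p.Prime] (hP : IsPGroup p P) [IsCyclic P]
    (hconst : ∀ a b : E, a ≠ 0 → b ≠ 0 →
      Nat.card (MulAction.stabilizer P a) = Nat.card (MulAction.stabilizer P b)) :
    ∀ g : P, g ≠ 1 → ∀ a : E, g • a = a → a = 0 := by
  intro g hg a hga
  by_contra ha
  apply hg
  apply FaithfulSMul.eq_of_smul_eq_smul (α := E)
  intro b
  rw [one_smul]
  by_cases hb : b = 0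
  · rw [hb, smul_zero]
  · have h1 : MulAction.stabilizer P a = MulAction.stabilizer P b := by
      rcases Cfsg.Agent.H2.CycSyl.le_or_le_of_cyclic_pgroup hP (MulAction.stabilizer P a)
        (MulAction.stabilizer P b) with h | h
      · exact stab_eq_of_le hconst ha hb h
      · exact (stab_eq_of_le hconst hb ha h).symm
    have : g ∈ MulAction.stabilizer P b := by rw [← h1]; exact hga
    exact this

theorem subsingleton_of_fixed [FaithfulSMul P E]
    (hconst : ∀ a b : E, a ≠ 0 → b ≠ 0 →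
      Nat.card (MulAction.stabilizer P a) = Nat.card (MulAction.stabilizer P b))
    {a : E} (ha : a ≠ 0) (hfix : ∀ g : P, g • a = a) : Subsingleton P := by
  have h0 : MulAction.stabilizer P a = ⊤ := by
    ext g
    simp [MulAction.mem_stabilizer_iff, hfix g]
  have h1 : ∀ b : E, b ≠ 0 → MulAction.stabilizer P b = ⊤ := by
    intro b hb
    apply Subgroup.eq_top_of_card_eq
    rw [← hconst a b ha hb, h0, Subgroup.card_top]
  constructor
  intro g h
  apply FaithfulSMul.eq_of_smul_eq_smul (α := E)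
  intro b
  by_cases hb : b = 0
  · rw [hb, smul_zero, smul_zero]
  · have hg : g ∈ MulAction.stabilizer P b := by rw [h1 b hb]; trivial
    have hh : h ∈ MulAction.stabilizer P b := by rw [h1 b hb]; trivial
    rw [MulAction.mem_stabilizer_iff] at hg hh
    rw [hg, hh]

theorem exists_fixed_of_eq [Finite E] {p : ℕ} [Fact p.Prime] (hP : IsPGroup p P)
    (hE : ∀ e : E, p • e = 0) {e₀ : E} (he₀ : e₀ ≠ 0) : ∃ a : E, a ≠ 0 ∧ ∀ g : P, g • a = a := by
  have hp : p.Prime := Fact.out
  have h1 : p ∣ Nat.card E := by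
    have h2 : addOrderOf e₀ ∣ p := addOrderOf_dvd_of_nsmul_eq_zero (hE e₀)
    have h3 : addOrderOf e₀ = p := by
      rcases (Nat.dvd_prime hp).mp h2 with h | h
      · exact absurd (AddMonoid.addOrderOf_eq_one_iff.mp h) he₀
      · exact h
    rw [← h3]; exact addOrderOf_dvd_natCard e₀
  have h4 := hP.card_modEq_card_fixedPoints E
  have h5 : p ∣ Nat.card (MulAction.fixedPoints P E) :=
    (Nat.modEq_zero_iff_dvd.mp (h4.symm.trans (Nat.modEq_zero_iff_dvd.mpr h1)))
  have hz : (0 : E) ∈ MulAction.fixedPoints P E := by intro g; simp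
  have h6 : 1 < Nat.card (MulAction.fixedPoints P E) := by
    have h7 : Nat.card (MulAction.fixedPoints P E) ≠ 0 :=
      Nat.card_ne_zero.mpr ⟨⟨⟨0, hz⟩⟩, inferInstance⟩
    have := Nat.le_of_dvd (Nat.pos_of_ne_zero h7) h5
    exact lt_of_lt_of_le hp.one_lt this
  have h8 := Finite.one_lt_card_iff_nontrivial.mp h6
  obtain ⟨⟨a, ha⟩, ha0⟩ := exists_ne (⟨0, hz⟩ : MulAction.fixedPoints P E)
  refine ⟨a, ?_, fun g => ha g⟩
  intro h
  apply ha0
  exact Subtype.ext h

/-- a central element of order `p` fixes only `0` -/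
theorem fix_central_eq_zero [FaithfulSMul P E] {p q : ℕ} (hpq : Nat.Coprime p q)
    (hE : ∀ e : E, q • e = 0)
    (hconst : ∀ a b : E, a ≠ 0 → b ≠ 0 →
      Nat.card (MulAction.stabilizer P a) = Nat.card (MulAction.stabilizer P b))
    {z : P} (hz : z ∈ Subgroup.center P) (hzp : z ^ p = 1) (hz1 : z ≠ 1) :
    ∀ a : E, z • a = a → a = 0 := by
  intro a hza
  by_contra ha
  obtain ⟨e, he⟩ : ∃ e : E, z • e ≠ e := by
    by_contra hcon
    push_neg at hcon
    apply hz1
    apply FaithfulSMul.eq_of_smul_eq_smul (α := E)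
    intro b; rw [hcon b, one_smul]
  obtain ⟨b, hbdef⟩ : ∃ b, b = p • e - tr p z e := ⟨_, rfl⟩
  have hcomm : ∀ g : P, Commute g z := fun g => (Subgroup.mem_center_iff.mp hz g)
  have hb_tr : tr p z b = 0 := by
    rw [hbdef, tr_sub, tr_nsmul, tr_of_fixed (smul_tr hzp e), sub_self]
  have hb0 : b ≠ 0 := by
    intro hb
    apply he
    apply fixed_of_nsmul_fixed hpq hE
    have : p • e = tr p z e := by rw [hbdef] at hb; exact sub_eq_zero.mp hb
    rw [this]; exact smul_tr hzp e
  have hkey : ∀ d : E, z • d = d → tr p z d = 0 → d = 0 := by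
    intro d h1 h2
    rw [tr_of_fixed h1] at h2
    exact eq_zero_of_nsmul hpq hE h2
  have hab : a + b ≠ 0 := by
    intro h
    have hb' : b = -a := by
      rw [add_comm] at h
      exact eq_neg_of_add_eq_zero_left h
    apply hb0
    apply hkey b _ hb_tr
    rw [hb', smul_neg, hza]
  have hstab := stab_eq_of_pair hconst ha hb0 hab ?_
  · have : z ∈ MulAction.stabilizer P b := by rw [← hstab]; exact hza
    exact hb0 (hkey b this hb_tr)
  · intro g hg
    have hd : g • a - a = b - g • b := by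
      rw [smul_add] at hg
      rw [sub_eq_sub_iff_add_eq_add, hg, add_comm]
    have hd1 : z • (g • a - a) = g • a - a := by
      rw [smul_sub, hza, smul_smul, ← (hcomm g).eq, mul_smul, hza]
    have hd2 : tr p z (g • a - a) = 0 := by
      rw [hd, tr_sub, hb_tr, ← smul_tr_comm (hcomm g) b, hb_tr, smul_zero, sub_zero]
    have h0 := hkey _ hd1 hd2
    refine ⟨sub_eq_zero.mp h0, ?_⟩
    rw [h0] at hd
    exact (sub_eq_zero.mp hd.symm).symm

theorem generation {p : ℕ} (hp : p.Prime) {x z : P} (hz : z ∈ Subgroup.center P)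
    (hzo : orderOf z = p) (hfix0 : ∀ a : E, z • a = a → a = 0) (e : E) :
    ∑ i ∈ Finset.range p, tr p (x * z ^ i) e = p • e := by
  have hzp : z ^ p = 1 := by rw [← hzo]; exact pow_orderOf_eq_one z
  have h1 : ∀ j ∈ Finset.range p,
      ∑ i ∈ Finset.range p, (x * z ^ i) ^ j • e = x ^ j • tr p (z ^ j) e := by
    intro j _
    unfold tr
    rw [Finset.smul_sum]
    apply Finset.sum_congr rfl
    intro i _
    have hc : Commute x (z ^ i) := (Subgroup.mem_center_iff.mp (Subgroup.pow_mem _ hz i)) x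
    rw [hc.mul_pow, ← pow_mul, mul_comm i j, pow_mul, mul_smul]
  unfold tr
  rw [Finset.sum_comm, Finset.sum_congr rfl h1, Finset.sum_eq_single 0]
  · rw [pow_zero, one_smul, pow_zero]; exact tr_of_fixed (one_smul _ _)
  · intro j hj hj0
    have h2 : tr p (z ^ j) e = 0 := by
      apply hfix0
      have h3 : (z ^ j) • tr p (z ^ j) e = tr p (z ^ j) e :=
        smul_tr (by rw [← pow_mul, mul_comm, pow_mul, hzp, one_pow]) e
      have hcop : Nat.Coprime j (orderOf z) := by
        rw [hzo]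
        apply Nat.Coprime.symm
        rw [Nat.Prime.coprime_iff_not_dvd hp]
        exact Nat.not_dvd_of_pos_of_lt (Nat.pos_of_ne_zero hj0) (Finset.mem_range.mp hj)
      obtain ⟨m, hm⟩ := exists_pow_eq_self_of_coprime hcop
      have h4 := pow_smul_of_fixed h3 m
      rwa [hm] at h4
    rw [h2, smul_zero]
  · intro h; exact absurd (Finset.mem_range.mpr hp.pos) h


section blocks

variable [FaithfulSMul P E] {p q : ℕ} [Fact p.Prime]

theorem card_zpowers_eq {A : Subgroup P} (hAe : ∀ a ∈ A, a ^ p = 1) {v : P} (hv : v ∈ A)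
    (hv1 : v ≠ 1) : Nat.card (Subgroup.zpowers v) = p := by
  have hp : p.Prime := Fact.out
  rw [Nat.card_zpowers]
  rcases (Nat.dvd_prime hp).mp (orderOf_dvd_of_pow_eq_one (hAe v hv)) with h | h
  · exact absurd (orderOf_eq_one_iff.mp h) hv1
  · exact h

theorem zpowers_eq_of_mem {A : Subgroup P} (hAe : ∀ a ∈ A, a ^ p = 1) {v w : P} (hv : v ∈ A)
    (hv1 : v ≠ 1) (hw : w ∈ A) (hw1 : w ≠ 1) (h : w ∈ Subgroup.zpowers v) :
    Subgroup.zpowers w = Subgroup.zpowers v := by
  apply Subgroup.eq_of_le_of_card_ge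
  · exact (Subgroup.zpowers_le).mpr h
  · rw [card_zpowers_eq hAe hv hv1, card_zpowers_eq hAe hw hw1]

theorem factA {A : Subgroup P} (hAe : ∀ a ∈ A, a ^ p = 1) (hAcard : Nat.card A = p ^ 2)
    {z : P} (hzA : z ∈ A) (hfix0 : ∀ a : E, z • a = a → a = 0)
    {v w : P} (hv : v ∈ A) (hv1 : v ≠ 1) (hw : w ∈ A) (hwv : w ∉ Subgroup.zpowers v) {e : E}
    (h1 : v • e = e) (h2 : w • e = e) : e = 0 := by
  have hp : p.Prime := Fact.out
  apply hfix0
  obtain ⟨K, hK⟩ : ∃ K : Subgroup P, K = MulAction.stabilizer P e ⊓ A := ⟨_, rfl⟩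
  have hvK : Subgroup.zpowers v ≤ K := by
    rw [Subgroup.zpowers_le, hK]; exact ⟨h1, hv⟩
  have hwK : w ∈ K := by rw [hK]; exact ⟨h2, hw⟩
  have hKA : K ≤ A := by rw [hK]; exact inf_le_right
  have hcardK : Nat.card K = p ^ 2 := by
    have h3 : Nat.card K ∣ p ^ 2 := by rw [← hAcard]; exact Subgroup.card_dvd_of_le hKA
    obtain ⟨j, hj, hjc⟩ := (Nat.dvd_prime_pow hp).mp h3
    have h4 : p ∣ Nat.card K := by
      rw [← card_zpowers_eq hAe hv hv1]; exact Subgroup.card_dvd_of_le hvK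
    interval_cases j
    · rw [hjc, pow_zero] at h4; exact absurd (Nat.dvd_one.mp h4) hp.one_lt.ne'
    · exfalso
      apply hwv
      have : Subgroup.zpowers v = K :=
        Subgroup.eq_of_le_of_card_ge hvK (by rw [hjc, pow_one, card_zpowers_eq hAe hv hv1])
      rw [this]; exact hwK
    · exact hjc
  have hKeq : K = A := Subgroup.eq_of_le_of_card_ge hKA (by rw [hcardK, hAcard])
  have : z ∈ K := by rw [hKeq]; exact hzA
  rw [hK] at this
  exact this.1

theorem factB {A : Subgroup P} (hAc : ∀ a ∈ A, ∀ b ∈ A, a * b = b * a)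
    (hAe : ∀ a ∈ A, a ^ p = 1) (hAcard : Nat.card A = p ^ 2)
    {z : P} (hzA : z ∈ A) (hfix0 : ∀ a : E, z • a = a → a = 0)
    {v w : P} (hv : v ∈ A) (hv1 : v ≠ 1) (hw : w ∈ A) (hwv : w ∉ Subgroup.zpowers v) {e : E}
    (h2 : w • e = e) : tr p v e = 0 := by
  apply factA hAe hAcard hzA hfix0 hv hv1 hw hwv
  · exact smul_tr (hAe v hv) e
  · rw [smul_tr_comm (hAc w hw v hv) e, h2]

theorem pair_stab (hp2 : p ≠ 2) (hP : IsPGroup p P) (hpq : Nat.Coprime p q)
    (hE : ∀ e : E, q • e = 0)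
    (hconst : ∀ a b : E, a ≠ 0 → b ≠ 0 →
      Nat.card (MulAction.stabilizer P a) = Nat.card (MulAction.stabilizer P b))
    {A : Subgroup P} (hAn : A.Normal) (hAc : ∀ a ∈ A, ∀ b ∈ A, a * b = b * a)
    (hAe : ∀ a ∈ A, a ^ p = 1) (hAcard : Nat.card A = p ^ 2)
    {z : P} (hzA : z ∈ A) (hfix0 : ∀ a : E, z • a = a → a = 0)
    {v w : P} (hv : v ∈ A) (hv1 : v ≠ 1) (hw : w ∈ A) (hw1 : w ≠ 1)
    (hvw : Subgroup.zpowers v ≠ Subgroup.zpowers w)
    {a b : E} (ha : a ≠ 0) (hb : b ≠ 0) (hva : v • a = a) (hwb : w • b = b) :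
    MulAction.stabilizer P a = MulAction.stabilizer P b := by
  have hp : p.Prime := Fact.out
  have hwv : w ∉ Subgroup.zpowers v := fun h => hvw (zpowers_eq_of_mem hAe hv hv1 hw hw1 h).symm
  have hvw' : v ∉ Subgroup.zpowers w := fun h => hvw (zpowers_eq_of_mem hAe hw hw1 hv hv1 h)
  have hA0 : ∀ e : E, v • e = e → w • e = e → e = 0 :=
    fun e h1 h2 => factA hAe hAcard hzA hfix0 hv hv1 hw hwv h1 h2
  have hab : a + b ≠ 0 := by
    intro h
    have hb' : b = -a := by rw [add_comm] at h; exact eq_neg_of_add_eq_zero_left h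
    apply hb
    apply hA0 b _ hwb
    rw [hb', smul_neg, hva]
  apply stab_eq_of_pair hconst ha hb hab
  intro g hg
  obtain ⟨v', hv'def⟩ : ∃ v', v' = g * v * g⁻¹ := ⟨_, rfl⟩
  obtain ⟨w', hw'def⟩ : ∃ w', w' = g * w * g⁻¹ := ⟨_, rfl⟩
  have hv'A : v' ∈ A := by rw [hv'def]; exact hAn.conj_mem v hv g
  have hw'A : w' ∈ A := by rw [hw'def]; exact hAn.conj_mem w hw g
  have hv'1 : v' ≠ 1 := by
    rw [hv'def]; intro h; apply hv1
    have := congrArg (fun t => g⁻¹ * t * g) h
    simpa [mul_assoc] using this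
  have hw'1 : w' ≠ 1 := by
    rw [hw'def]; intro h; apply hw1
    have := congrArg (fun t => g⁻¹ * t * g) h
    simpa [mul_assoc] using this
  have hv'a : v' • (g • a) = g • a := by
    rw [hv'def, smul_smul, inv_mul_cancel_right, mul_smul, hva]
  have hw'b : w' • (g • b) = g • b := by
    rw [hw'def, smul_smul, inv_mul_cancel_right, mul_smul, hwb]
  have hconj : ∀ u : P, Subgroup.zpowers (g * u * g⁻¹) =
      (Subgroup.zpowers u).map (MulAut.conj g : P →* P) := by
    intro u
    rw [MonoidHom.map_zpowers]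
    rfl
  have hv'w' : Subgroup.zpowers v' ≠ Subgroup.zpowers w' := by
    rw [hv'def, hw'def, hconj, hconj]
    intro h
    exact hvw (Subgroup.map_injective (MulAut.conj g).injective h)
  have hsum : a + b = g • a + g • b := by rw [← smul_add, hg]
  have hT1 : Subgroup.zpowers v' = Subgroup.zpowers v ∨
      Subgroup.zpowers w' = Subgroup.zpowers v := by
    by_contra hcon
    push_neg at hcon
    have h1 : v' ∉ Subgroup.zpowers v :=
      fun h => hcon.1 (zpowers_eq_of_mem hAe hv hv1 hv'A hv'1 h)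
    have h2 : w' ∉ Subgroup.zpowers v :=
      fun h => hcon.2 (zpowers_eq_of_mem hAe hv hv1 hw'A hw'1 h)
    have h3 := congrArg (tr p v) hsum
    rw [tr_add, tr_add, tr_of_fixed hva,
      factB hAc hAe hAcard hzA hfix0 hv hv1 hw hwv hwb,
      factB hAc hAe hAcard hzA hfix0 hv hv1 hv'A h1 hv'a,
      factB hAc hAe hAcard hzA hfix0 hv hv1 hw'A h2 hw'b, add_zero, add_zero] at h3
    exact ha (eq_zero_of_nsmul hpq hE h3)
  have hT2 : Subgroup.zpowers v' = Subgroup.zpowers w ∨
      Subgroup.zpowers w' = Subgroup.zpowers w := by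
    by_contra hcon
    push_neg at hcon
    have h1 : v' ∉ Subgroup.zpowers w :=
      fun h => hcon.1 (zpowers_eq_of_mem hAe hw hw1 hv'A hv'1 h)
    have h2 : w' ∉ Subgroup.zpowers w :=
      fun h => hcon.2 (zpowers_eq_of_mem hAe hw hw1 hw'A hw'1 h)
    have h3 := congrArg (tr p w) hsum
    rw [tr_add, tr_add, tr_of_fixed hwb,
      factB hAc hAe hAcard hzA hfix0 hw hw1 hv hvw' hva,
      factB hAc hAe hAcard hzA hfix0 hw hw1 hv'A h1 hv'a,
      factB hAc hAe hAcard hzA hfix0 hw hw1 hw'A h2 hw'b, add_zero, zero_add] at h3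
    exact hb (eq_zero_of_nsmul hpq hE h3)
  have hfixz : ∀ (u u' : P) (e : E), u' • e = e → u ∈ Subgroup.zpowers u' → u • e = e := by
    intro u u' e h1 h2
    have : Subgroup.zpowers u' ≤ MulAction.stabilizer P e := by
      rw [Subgroup.zpowers_le]; exact h1
    exact this h2
  rcases hT1 with h1 | h1
  · have h2 : Subgroup.zpowers w' = Subgroup.zpowers w := by
      rcases hT2 with h2 | h2
      · exact absurd (h1.symm.trans h2) hvw
      · exact h2
    have h3 : v • (g • a) = g • a :=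
      hfixz v v' _ hv'a (by rw [h1]; exact Subgroup.mem_zpowers v)
    have h4 : w • (g • b) = g • b :=
      hfixz w w' _ hw'b (by rw [h2]; exact Subgroup.mem_zpowers w)
    have hd : g • a - a = b - g • b := by
      rw [sub_eq_sub_iff_add_eq_add, ← hsum, add_comm]
    have h5 : g • a - a = 0 := by
      apply hA0
      · rw [smul_sub, h3, hva]
      · rw [hd, smul_sub, hwb, h4]
    refine ⟨sub_eq_zero.mp h5, ?_⟩
    rw [h5] at hd
    exact (sub_eq_zero.mp hd.symm).symm
  · exfalso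
    have h2 : Subgroup.zpowers v' = Subgroup.zpowers w := by
      rcases hT2 with h2 | h2
      · exact h2
      · exact absurd (h1.symm.trans h2) hvw
    have hne : Subgroup.zpowers v' ≠ Subgroup.zpowers v := by
      rw [h2]; exact fun h => hvw h.symm
    apply hne
    rw [hv'def, hconj]
    rw [hv'def, hconj] at h2
    rw [hw'def, hconj] at h1
    have hN2 : g ^ 2 ∈ Subgroup.normalizer (Subgroup.zpowers v : Set P) := by
      rw [Subgroup.mem_normalizer_iff_map_conj_eq]
      have h6 : (Subgroup.zpowers v).map (MulAut.conj (g ^ 2) : P →* P) =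
          ((Subgroup.zpowers v).map (MulAut.conj g : P →* P)).map (MulAut.conj g : P →* P) := by
        rw [Subgroup.map_map]
        congr 1
        ext x
        simp [pow_two, mul_assoc]
      rw [h6, h2, h1]
    have hodd : Odd (orderOf g) := by
      obtain ⟨k, hk⟩ := (IsPGroup.iff_orderOf.mp hP) g
      rw [hk]
      exact (hp.odd_of_ne_two hp2).pow
    have hN : g ∈ Subgroup.normalizer (Subgroup.zpowers v : Set P) := by
      obtain ⟨m, hm⟩ := hodd
      have h7 : g = (g ^ 2) ^ (m + 1) := by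
        rw [← pow_mul]
        have : 2 * (m + 1) = orderOf g + 1 := by omega
        rw [this, pow_succ, pow_orderOf_eq_one, one_mul]
      rw [h7]
      exact Subgroup.pow_mem _ hN2 _
    exact Subgroup.mem_normalizer_iff_map_conj_eq.mp hN


theorem noncyclic_contra (hp2 : p ≠ 2) (hP : IsPGroup p P) (hpq : Nat.Coprime p q)
    (hE : ∀ e : E, q • e = 0)
    (hconst : ∀ a b : E, a ≠ 0 → b ≠ 0 →
      Nat.card (MulAction.stabilizer P a) = Nat.card (MulAction.stabilizer P b))
    (hnc : ¬ IsCyclic P) : False := by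
  have hp : p.Prime := Fact.out
  have hnc' : ¬ IsCyclic (⊤ : Subgroup P) := fun h =>
    hnc (isCyclic_of_surjective (Subgroup.topEquiv : (⊤ : Subgroup P) ≃* P).toMonoidHom
      Subgroup.topEquiv.surjective)
  obtain ⟨A, -, hAn, hAel, hAcard⟩ :=
    Cfsg.Agent.H1.normal_elem_abelian_sq_le hp2 hP (⊤ : Subgroup P) hnc'
  have hAc : ∀ a ∈ A, ∀ b ∈ A, a * b = b * a := by
    intro a ha b hb
    have := hAel.1.is_comm.comm ⟨a, ha⟩ ⟨b, hb⟩
    exact congrArg Subtype.val this
  have hAe := hAel.2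
  have hAbot : A ≠ ⊥ := by
    intro h
    rw [h, Subgroup.card_bot] at hAcard
    have : 1 < p ^ 2 := Nat.one_lt_pow (by norm_num) hp.one_lt
    omega
  obtain ⟨z, hzA, hzc, hzo⟩ := Cfsg.Agent.H1.exists_central_order_p hP A hAbot
  have hz1 : z ≠ 1 := by
    intro h; rw [h, orderOf_one] at hzo; exact hp.one_lt.ne hzo
  have hzp : z ^ p = 1 := by rw [← hzo]; exact pow_orderOf_eq_one z
  have hfix0 := fix_central_eq_zero hpq hE hconst hzc hzp hz1
  obtain ⟨x, hxA, hxz⟩ : ∃ x ∈ A, x ∉ Subgroup.zpowers z := by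
    by_contra hcon
    push_neg at hcon
    have h1 : A ≤ Subgroup.zpowers z := hcon
    have h2 := Subgroup.card_le_of_le h1
    rw [hAcard, Nat.card_zpowers, hzo] at h2
    nlinarith [hp.one_lt]
  have hxi : ∀ i : ℕ, x * z ^ i ∈ A ∧ x * z ^ i ≠ 1 := by
    intro i
    refine ⟨A.mul_mem hxA (A.pow_mem hzA i), ?_⟩
    intro h
    apply hxz
    have : x = (z ^ i)⁻¹ := eq_inv_of_mul_eq_one_left h
    rw [this]
    exact (Subgroup.zpowers z).inv_mem (Subgroup.pow_mem _ (Subgroup.mem_zpowers z) i)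
  have hP3 : ∀ g : P,
      (∀ (e : E) (i : ℕ), g • tr p (x * z ^ i) e = tr p (x * z ^ i) e) → g = 1 := by
    intro g hg
    apply FaithfulSMul.eq_of_smul_eq_smul (α := E)
    intro e
    rw [one_smul]
    apply fixed_of_nsmul_fixed hpq hE
    rw [← generation hp hzc hzo hfix0 e (x := x), Finset.smul_sum]
    apply Finset.sum_congr rfl
    intro i _
    exact hg e i
  have htrfix : ∀ (e : E) (i : ℕ),
      (x * z ^ i) • tr p (x * z ^ i) e = tr p (x * z ^ i) e :=
    fun e i => smul_tr (hAe _ (hxi i).1) e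
  obtain ⟨a₀, v₀, ha₀, hv₀A, hv₀1, hv₀a⟩ :
      ∃ (a₀ : E) (v₀ : P), a₀ ≠ 0 ∧ v₀ ∈ A ∧ v₀ ≠ 1 ∧ v₀ • a₀ = a₀ := by
    by_contra hcon
    push_neg at hcon
    apply hz1
    apply hP3
    intro e i
    have : tr p (x * z ^ i) e = 0 := by
      by_contra h
      exact hcon _ _ h (hxi i).1 (hxi i).2 (htrfix e i)
    rw [this, smul_zero]
  obtain ⟨c₀, u₀, hc₀, hu₀A, hu₀1, hu₀c, hu₀v₀⟩ :
      ∃ (c₀ : E) (u₀ : P), c₀ ≠ 0 ∧ u₀ ∈ A ∧ u₀ ≠ 1 ∧ u₀ • c₀ = c₀ ∧
        Subgroup.zpowers u₀ ≠ Subgroup.zpowers v₀ := by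
    by_contra hcon
    push_neg at hcon
    apply hv₀1
    apply hP3
    intro e i
    by_cases h : tr p (x * z ^ i) e = 0
    · rw [h, smul_zero]
    · have h1 := hcon _ _ h (hxi i).1 (hxi i).2 (htrfix e i)
      have h2 : v₀ ∈ Subgroup.zpowers (x * z ^ i) := by
        rw [h1]; exact Subgroup.mem_zpowers v₀
      have h3 : Subgroup.zpowers (x * z ^ i) ≤
          MulAction.stabilizer P (tr p (x * z ^ i) e) := by
        rw [Subgroup.zpowers_le]; exact htrfix e i
      exact h3 h2
  have hac : MulAction.stabilizer P a₀ = MulAction.stabilizer P c₀ :=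
    pair_stab hp2 hP hpq hE hconst hAn hAc hAe hAcard hzA hfix0 hv₀A hv₀1 hu₀A hu₀1
      hu₀v₀.symm ha₀ hc₀ hv₀a hu₀c
  have hD : ∀ (b : E) (w : P), b ≠ 0 → w ∈ A → w ≠ 1 → w • b = b →
      MulAction.stabilizer P b = MulAction.stabilizer P a₀ := by
    intro b w hb hwA hw1 hwb
    by_cases h : Subgroup.zpowers w = Subgroup.zpowers v₀
    · have h' : Subgroup.zpowers w ≠ Subgroup.zpowers u₀ := by rw [h]; exact hu₀v₀.symm
      rw [hac]
      exact pair_stab hp2 hP hpq hE hconst hAn hAc hAe hAcard hzA hfix0 hwA hw1 hu₀A hu₀1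
        h' hb hc₀ hwb hu₀c
    · exact pair_stab hp2 hP hpq hE hconst hAn hAc hAe hAcard hzA hfix0 hwA hw1 hv₀A hv₀1
        h hb ha₀ hwb hv₀a
  apply hv₀1
  apply hP3
  intro e i
  by_cases h : tr p (x * z ^ i) e = 0
  · rw [h, smul_zero]
  · have h1 := hD _ _ h (hxi i).1 (hxi i).2 (htrfix e i)
    have : v₀ ∈ MulAction.stabilizer P (tr p (x * z ^ i) e) := by rw [h1]; exact hv₀a
    exact this

theorem main [Finite E] (hp2 : p ≠ 2) (hP : IsPGroup p P) (hq : q.Prime)
    (hE : ∀ e : E, q • e = 0)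
    (hconst : ∀ a b : E, a ≠ 0 → b ≠ 0 →
      Nat.card (MulAction.stabilizer P a) = Nat.card (MulAction.stabilizer P b)) :
    IsCyclic P ∧ ∀ g : P, g ≠ 1 → ∀ a : E, g • a = a → a = 0 := by
  have hp : p.Prime := Fact.out
  have hcyc : IsCyclic P := by
    by_contra hnc
    by_cases hqp : q = p
    · subst hqp
      by_cases hE0 : ∀ e : E, e = 0
      · apply hnc
        have : Subsingleton P := by
          constructor
          intro g h
          apply FaithfulSMul.eq_of_smul_eq_smul (α := E)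
          intro b; rw [hE0 b, smul_zero, smul_zero]
        exact isCyclic_of_subsingleton
      · push_neg at hE0
        obtain ⟨e₀, he₀⟩ := hE0
        obtain ⟨a, ha, hfix⟩ := exists_fixed_of_eq hP hE he₀
        have := subsingleton_of_fixed hconst ha hfix
        exact hnc isCyclic_of_subsingleton
    · have hpq : Nat.Coprime p q := (Nat.coprime_primes hp hq).mpr (Ne.symm hqp)
      exact noncyclic_contra hp2 hP hpq hE hconst hnc
  exact ⟨hcyc, fpf_of_cyclic hP hconst⟩

end blocks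

end Cfsg.Agent.H2.ConstStab
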