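import Mathlib
import Cfsg.Agent.H2.AutFrattini
import Cfsg.Agent.H1.Frattini

/-!
# A `p'`-element acting trivially on `D / D'` centralizes the normal `p`-subgroup `D` (helper2)
-/

set_option autoImplicit false

namespace Cfsg.Agent.H2.CoprimeDerived

variable {G : Type*} [Group G] [Finite G]

/-- If `x` is a `p'`-element normalizing... (here `D` is normal) and `[D, x] ≤ D'`, then `x`
centralizes `D`. -/
theorem mem_centralizer_of_commutator_mem {p : ℕ} [hp : Fact p.Prime] (D : Subgroup G) [hDn : D.Normal]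
    (hD : IsPGroup p D) (x : G) (hx : ¬ p ∣ orderOf x)
    (hcomm : ∀ d ∈ D, x * d * x⁻¹ * d⁻¹ ∈ ⁅D, D⁆) :
    x ∈ Subgroup.centralizer (D : Set G) := by
  classical
  -- the conjugation automorphism of `D`
  obtain ⟨α, hα⟩ : ∃ α : MulAut D, α = MulAut.conjNormal (H := D) x := ⟨_, rfl⟩
  have hαapp : ∀ (k : ℕ) (d : D), (((α ^ k) d : D) : G) = x ^ k * (d : G) * (x ^ k)⁻¹ := by
    intro k d
    rw [hα, ← map_pow]
    rfl
  -- `x ^ k` also acts trivially mod `D'`
  have hpow : ∀ (k : ℕ), ∀ d ∈ D, x ^ k * d * (x ^ k)⁻¹ * d⁻¹ ∈ ⁅D, D⁆ := by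
    intro k
    induction k with
    | zero =>
      intro d _
      simp
    | succ k ih =>
      intro d hd
      have h1 := ih d hd
      have hd' : x ^ k * d * (x ^ k)⁻¹ ∈ D := hDn.conj_mem d hd (x ^ k)
      have h2 := hcomm _ hd'
      have : x ^ (k + 1) * d * (x ^ (k + 1))⁻¹ * d⁻¹
          = (x * (x ^ k * d * (x ^ k)⁻¹) * x⁻¹ * (x ^ k * d * (x ^ k)⁻¹)⁻¹)
            * (x ^ k * d * (x ^ k)⁻¹ * d⁻¹) := by
        rw [pow_succ']
        group
      rw [this]
      exact Subgroup.mul_mem _ h2 h1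
  obtain ⟨n, hn⟩ := IsPGroup.iff_card.mp hD
  obtain ⟨r, hr⟩ : ∃ r : ℕ, (frattini D).index = p ^ r := by
    have h1 : (frattini D).index ∣ p ^ n := by
      rw [← hn]
      exact Subgroup.index_dvd_card _
    obtain ⟨r, -, hr⟩ := (Nat.dvd_prime_pow hp.out).mp h1
    exact ⟨r, hr⟩
  have hA : ∀ β ∈ Subgroup.zpowers α, ∀ d : D, β d * d⁻¹ ∈ frattini D := by
    intro β hβ d
    have hfin : IsOfFinOrder α := isOfFinOrder_of_finite α
    rw [← hfin.mem_powers_iff_mem_zpowers] at hβ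
    obtain ⟨k, rfl⟩ := (Submonoid.mem_powers_iff _ _).mp hβ
    apply Cfsg.Agent.H1.commutator_le_frattini hD
    have h1 := hpow k d d.2
    rw [commutator_def]
    have h2 : Subgroup.map D.subtype ⁅(⊤ : Subgroup D), (⊤ : Subgroup D)⁆ = ⁅D, D⁆ := by
      rw [Subgroup.map_commutator, ← MonoidHom.range_eq_map, Subgroup.range_subtype]
    rw [← h2] at h1
    obtain ⟨y, hy, hyeq⟩ := h1
    have : y = (α ^ k) d * d⁻¹ := by
      apply Subtype.ext
      rw [Subgroup.coe_mul, hαapp, Subgroup.coe_inv]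
      exact hyeq
    rw [← this]
    exact hy
  have hdvd := Cfsg.Agent.H2.AutFrat.card_dvd_of_trivial_on_frattini_quotient hn hr
    (Subgroup.zpowers α) hA
  rw [Nat.card_zpowers] at hdvd
  have hdvd2 : orderOf α ∣ orderOf x := by
    rw [hα]
    exact orderOf_map_dvd _ x
  have hone : orderOf α = 1 := by
    obtain ⟨j, -, hj⟩ := (Nat.dvd_prime_pow hp.out).mp hdvd
    rcases Nat.eq_zero_or_pos j with h0 | hpos
    · rw [hj, h0, pow_zero]
    · exfalso
      apply hx
      exact (dvd_pow_self p hpos.ne').trans (hj ▸ hdvd2)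
  rw [orderOf_eq_one_iff] at hone
  rw [Subgroup.mem_centralizer_iff]
  intro d hd
  have h1 := hαapp 1 ⟨d, hd⟩
  rw [hone, pow_one, pow_one] at h1
  simp only [MulAut.one_apply] at h1
  calc d * x = (x * d * x⁻¹) * x := by rw [← h1]
    _ = x * d := by group

end Cfsg.Agent.H2.CoprimeDerived
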