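import Mathlib
import Cfsg.Prelude.Def_Local
import Cfsg.Agent.H2.Transitivity
import Cfsg.Agent.S0058
import Cfsg.Agent.S0023
import Cfsg.Agent.S0024
import Cfsg.Agent.S0025
import Cfsg.Agent.Lib.Lead.ProdCard
import Cfsg.Agent.H1.CoprimeAction

/-!
Factorization `K = X Y` of a group under a noncyclic coprime abelian action from the factorizations
of the centralizers `C_K(a)` (helper2).
-/

set_option autoImplicit false
open scoped commutatorElement Pointwise

namespace Cfsg.Agent.H2.CoprimeFactor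

open Cfsg.Agent.H2.DiagComp Cfsg.Agent.H2.Transitivity

section

variable {H : Type*} [Group H] [Finite H]

lemma normalizer_sup {A U V : Subgroup H} (hU : A ≤ Subgroup.normalizer (U : Set H))
    (hV : A ≤ Subgroup.normalizer (V : Set H)) : A ≤ Subgroup.normalizer ((U ⊔ V : Subgroup H) : Set H) := by
  apply le_normalizer_of_conj_mem
  intro a ha
  have : U ⊔ V ≤ (U ⊔ V).comap (MulAut.conj a).toMonoidHom := by
    refine sup_le (fun x hx => ?_) (fun x hx => ?_)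
    · show a * x * a⁻¹ ∈ U ⊔ V
      exact (le_sup_left : U ≤ U ⊔ V) (conj_mem_of_le_normalizer hU ha hx)
    · show a * x * a⁻¹ ∈ U ⊔ V
      exact (le_sup_right : V ≤ U ⊔ V) (conj_mem_of_le_normalizer hV ha hx)
  intro u hu
  exact this hu

lemma normalizer_commutator {A U V : Subgroup H} (hU : A ≤ Subgroup.normalizer (U : Set H))
    (hV : A ≤ Subgroup.normalizer (V : Set H)) : A ≤ Subgroup.normalizer ((⁅U, V⁆ : Subgroup H) : Set H) := by
  apply le_normalizer_of_conj_mem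
  intro a ha
  have : ⁅U, V⁆ ≤ (⁅U, V⁆).comap (MulAut.conj a).toMonoidHom := by
    rw [Subgroup.commutator_le]
    intro g₁ h₁ g₂ h₂
    show (MulAut.conj a).toMonoidHom ⁅g₁, g₂⁆ ∈ ⁅U, V⁆
    rw [map_commutatorElement]
    exact Subgroup.commutator_mem_commutator (conj_mem_of_le_normalizer hU ha h₁)
      (conj_mem_of_le_normalizer hV ha h₂)
  intro u hu
  exact this hu

lemma normalizer_inf_centralizer {A Z : Subgroup H} (hcomm : ∀ x ∈ A, ∀ y ∈ A, x * y = y * x)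
    (hZ : A ≤ Subgroup.normalizer (Z : Set H)) {b : H} (hb : b ∈ A) :
    A ≤ Subgroup.normalizer ((Z ⊓ Subgroup.centralizer {b} : Subgroup H) : Set H) := by
  apply le_normalizer_of_conj_mem
  intro a ha u hu
  refine ⟨conj_mem_of_le_normalizer hZ ha hu.1, ?_⟩
  show a * u * a⁻¹ ∈ Subgroup.centralizer {b}
  rw [Subgroup.mem_centralizer_singleton_iff]
  have h1 : u * b = b * u := Subgroup.mem_centralizer_singleton_iff.1 hu.2
  have h2 : a * b = b * a := hcomm a ha b hb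
  have h3 : a⁻¹ * b = b * a⁻¹ := by
    have : b = a * b * a⁻¹ := by rw [h2]; group
    calc a⁻¹ * b = a⁻¹ * (a * b * a⁻¹) := by rw [← this]
      _ = b * a⁻¹ := by group
  calc a * u * a⁻¹ * b = a * u * (a⁻¹ * b) := by group
    _ = a * (u * b) * a⁻¹ := by rw [h3]; group
    _ = (a * b) * u * a⁻¹ := by rw [h1]; group
    _ = b * (a * u * a⁻¹) := by rw [h2]; group

/-- in a nilpotent group `Q`, a nontrivial subgroup `Z` normalized by `Q` has `⁅Z, Q⁆ < Z` -/
lemma commutator_lt_of_nilpotent {Q Z : Subgroup H} (hQ : Group.IsNilpotent ↥Q) (hZQ : Z ≤ Q)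
    (hn : Q ≤ Subgroup.normalizer (Z : Set H)) (hZ : Z ≠ ⊥) : ⁅Z, Q⁆ < Z := by
  have hle : ⁅Z, Q⁆ ≤ Z := by
    rw [Subgroup.commutator_le]
    intro g₁ h₁ g₂ h₂
    have : g₂ * g₁⁻¹ * g₂⁻¹ ∈ Z := conj_mem_of_le_normalizer hn h₂ (Z.inv_mem h₁)
    have e : ⁅g₁, g₂⁆ = g₁ * (g₂ * g₁⁻¹ * g₂⁻¹) := by rw [commutatorElement_def]; group
    rw [e]
    exact Z.mul_mem h₁ this
  refine lt_of_le_of_ne hle (fun heq => hZ ?_)
  have key : ∀ n : ℕ, Z ≤ Q.lowerCentralSeries n := by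
    intro n
    induction n with
    | zero => exact hZQ
    | succ n ih =>
      rw [Subgroup.lowerCentralSeries_succ]
      calc Z = ⁅Z, Q⁆ := heq.symm
        _ ≤ ⁅Q.lowerCentralSeries n, Q⁆ := Subgroup.commutator_mono ih le_rfl
  obtain ⟨n, hn⟩ := (Subgroup.isNilpotent_iff_lowerCentralSeries Q).1 hQ
  exact le_bot_iff.1 (hn ▸ key n)


lemma card_lt_of_lt' {U V : Subgroup H} (h : U < V) : Nat.card ↥U < Nat.card ↥V :=
  lt_of_le_of_ne (Subgroup.card_le_of_le h.le)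
    (fun e => h.ne (Subgroup.eq_of_le_of_card_ge h.le e.ge))

/-- The nilpotent case: if every `C_Q(a)` (`a ∈ A#`) lies in the product set `Q₁ Q₂`, then
`Q = Q₁ Q₂`. -/
theorem nilpotent_factor (A Q Q₁ Q₂ : Subgroup H) [IsMulCommutative A] (hA : ¬ IsCyclic A)
    (hQn : Group.IsNilpotent ↥Q)
    (hAQ : A ≤ Subgroup.normalizer (Q : Set H)) (hcop : (Nat.card A).Coprime (Nat.card Q))
    (h₁ : Q₁ ≤ Q)
    (hfac : ∀ a ∈ A, a ≠ 1 → ∀ x ∈ Q ⊓ Subgroup.centralizer {a},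
        ∃ y ∈ Q₁, ∃ z ∈ Q₂, x = y * z) :
    ∀ x ∈ Q, ∃ y ∈ Q₁, ∃ z ∈ Q₂, x = y * z := by
  have hcomm : ∀ x ∈ A, ∀ y ∈ A, x * y = y * x := fun x hx y hy =>
    congrArg Subtype.val (IsMulCommutative.is_comm.comm (⟨x, hx⟩ : ↥A) ⟨y, hy⟩)
  have key : ∀ n : ℕ, ∀ Z : Subgroup H, Nat.card ↥Z = n → Z ≤ Q →
      Q ≤ Subgroup.normalizer (Z : Set H) → A ≤ Subgroup.normalizer (Z : Set H) →
      (∀ x ∈ Q, ∃ y ∈ Q₁, ∃ w ∈ Z, ∃ z ∈ Q₂, x = y * w * z) →
      ∀ x ∈ Q, ∃ y ∈ Q₁, ∃ z ∈ Q₂, x = y * z := by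
    intro n
    induction n using Nat.strong_induction_on with
    | _ n ih =>
    intro Z hn hZQ hQZ hAZ hZ
    by_cases hZb : Z = ⊥
    · intro x hx
      obtain ⟨y, hy, w, hw, z, hz, rfl⟩ := hZ x hx
      rw [hZb, Subgroup.mem_bot] at hw
      exact ⟨y, hy, z, hz, by rw [hw, mul_one]⟩
    · have hD : ⁅Z, Q⁆ < Z := commutator_lt_of_nilpotent hQn hZQ hQZ hZb
      have hAD : A ≤ Subgroup.normalizer ((⁅Z, Q⁆ : Subgroup H) : Set H) :=
        normalizer_commutator hAZ hAQ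
      have hne : Nonempty {Z' : Subgroup H // ⁅Z, Q⁆ ≤ Z' ∧ Z' < Z ∧
          A ≤ Subgroup.normalizer (Z' : Set H)} := ⟨⟨⁅Z, Q⁆, le_rfl, hD, hAD⟩⟩
      obtain ⟨Z', hZ'max⟩ := Finite.exists_max
        (fun R : {Z' : Subgroup H // ⁅Z, Q⁆ ≤ Z' ∧ Z' < Z ∧
          A ≤ Subgroup.normalizer (Z' : Set H)} => Nat.card (R : Subgroup H))
      obtain ⟨Z', hDZ', hZ'Z, hAZ'⟩ := Z'
      have hQZ' : Q ≤ Subgroup.normalizer (Z' : Set H) := by
        apply le_normalizer_of_conj_mem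
        intro g hg w hw
        have h1 : ⁅g, w⁆ ∈ ⁅Z, Q⁆ := by
          rw [Subgroup.commutator_comm]
          exact Subgroup.commutator_mem_commutator hg (hZ'Z.le hw)
        have e : g * w * g⁻¹ = ⁅g, w⁆ * w := by rw [commutatorElement_def]; group
        rw [e]
        exact Z'.mul_mem (hDZ' h1) hw
      have hcopZ : (Nat.card ↥A).Coprime (Nat.card ↥Z) :=
        Nat.Coprime.coprime_dvd_right (Subgroup.card_dvd_of_le hZQ) hcop
      have hgen := Cfsg.Agent.S0058.result A Z hA hAZ hcopZ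
      have hb : ∃ b ∈ A, b ≠ 1 ∧ ¬ (Z ⊓ Subgroup.centralizer {b} ≤ Z') := by
        by_contra hcon
        push Not at hcon
        apply hZ'Z.ne
        apply le_antisymm hZ'Z.le
        rw [← hgen]
        exact iSup₂_le (fun b hb => hcon b hb.1 hb.2)
      obtain ⟨b, hbA, hb1, hbZ'⟩ := hb
      have hAC : A ≤ Subgroup.normalizer ((Z ⊓ Subgroup.centralizer {b} : Subgroup H) : Set H) :=
        normalizer_inf_centralizer hcomm hAZ hbA
      have hZ'' : Z' ⊔ (Z ⊓ Subgroup.centralizer {b}) = Z := by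
        have hle : Z' ⊔ (Z ⊓ Subgroup.centralizer {b}) ≤ Z := sup_le hZ'Z.le inf_le_left
        by_contra hne'
        have hlt : Z' ⊔ (Z ⊓ Subgroup.centralizer {b}) < Z := lt_of_le_of_ne hle hne'
        have h1 := hZ'max ⟨Z' ⊔ (Z ⊓ Subgroup.centralizer {b}), hDZ'.trans le_sup_left, hlt,
          normalizer_sup hAZ' hAC⟩
        have h2 : Z' = Z' ⊔ (Z ⊓ Subgroup.centralizer {b}) :=
          Subgroup.eq_of_le_of_card_ge le_sup_left h1
        apply hbZ'
        rw [h2]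
        exact le_sup_right
      have hcard : Nat.card ↥Z' < n := hn ▸ card_lt_of_lt' hZ'Z
      apply ih (Nat.card ↥Z') hcard Z' rfl (hZ'Z.le.trans hZQ) hQZ' hAZ'
      intro x hx
      obtain ⟨y, hy, w, hw, z, hz, rfl⟩ := hZ x hx
      rw [← hZ''] at hw
      have hnorm : Z ⊓ Subgroup.centralizer {b} ≤ Subgroup.normalizer (Z' : Set H) :=
        (inf_le_left.trans hZQ).trans hQZ'
      obtain ⟨m, hm, c, hc, rfl⟩ := (Cfsg.Agent.H1.mem_sup_of_le_normalizer Z' _ hnorm).1 hw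
      obtain ⟨u, hu, v, hv, rfl⟩ := hfac b hbA hb1 c ⟨hZQ hc.1, hc.2⟩
      refine ⟨y * u, Q₁.mul_mem hy hu, u⁻¹ * m * u, ?_, v * z, Q₂.mul_mem hv hz, by group⟩
      have := conj_mem_of_le_normalizer hQZ' (Q.inv_mem (h₁ hu)) hm
      rwa [inv_inv] at this
  apply key (Nat.card ↥Q) Q rfl le_rfl Subgroup.le_normalizer hAQ
  intro x hx
  exact ⟨1, Q₁.one_mem, x, hx, 1, Q₂.one_mem, by group⟩


/-- `Q` is a Sylow `q`-subgroup of `K` (ambient form, by cardinality) -/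
def IsSyl (q : ℕ) (Q K : Subgroup H) : Prop :=
  Q ≤ K ∧ IsPGroup q ↥Q ∧ Nat.card ↥Q = q ^ (Nat.card ↥K).factorization q

lemma card_eq_pow_le {q : ℕ} [Fact q.Prime] {U K : Subgroup H} (hUK : U ≤ K) (hU : IsPGroup q ↥U) :
    ∃ k ≤ (Nat.card ↥K).factorization q, Nat.card ↥U = q ^ k := by
  obtain ⟨k, hk⟩ := IsPGroup.iff_card.1 hU
  refine ⟨k, ?_, hk⟩
  have hdvd : q ^ k ∣ Nat.card ↥K := hk ▸ Subgroup.card_dvd_of_le hUK
  exact (Nat.Prime.pow_dvd_iff_le_factorization Fact.out Nat.card_pos.ne').1 hdvd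

lemma card_le_of_isPGroup {q : ℕ} [Fact q.Prime] {U K : Subgroup H} (hUK : U ≤ K)
    (hU : IsPGroup q ↥U) : Nat.card ↥U ≤ q ^ (Nat.card ↥K).factorization q := by
  obtain ⟨k, hk, e⟩ := card_eq_pow_le hUK hU
  rw [e]
  exact Nat.pow_le_pow_right (Fact.out : q.Prime).pos hk

lemma isSyl_of_sylow {q : ℕ} [Fact q.Prime] {K : Subgroup H} (P : Sylow q ↥K) :
    IsSyl q ((P : Subgroup ↥K).map K.subtype) K := by
  refine ⟨Cfsg.Agent.H2.map_subtype_le _ _, P.isPGroup'.map _, ?_⟩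
  rw [Subgroup.card_map_of_injective K.subtype_injective]
  exact P.card_eq_multiplicity

lemma exists_inv_syl (A K : Subgroup H) (hAK : A ≤ Subgroup.normalizer (K : Set H))
    (hcop : (Nat.card ↥A).Coprime (Nat.card ↥K)) (hsolv : Group.IsSolvable ↥A)
    (q : ℕ) [Fact q.Prime] :
    ∃ Q, IsSyl q Q K ∧ A ≤ Subgroup.normalizer (Q : Set H) := by
  obtain ⟨P, hP⟩ := Cfsg.Agent.S0023.result A K hAK hcop (Or.inl hsolv) q
  exact ⟨_, isSyl_of_sylow P, hP⟩

lemma exists_inv_syl_ge (A K : Subgroup H) (hAK : A ≤ Subgroup.normalizer (K : Set H))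
    (hcop : (Nat.card ↥A).Coprime (Nat.card ↥K)) (hsolv : Group.IsSolvable ↥A)
    (q : ℕ) [Fact q.Prime] (U : Subgroup H) (hUK : U ≤ K) (hU : IsPGroup q ↥U)
    (hUA : A ≤ Subgroup.normalizer (U : Set H)) :
    ∃ Q, IsSyl q Q K ∧ A ≤ Subgroup.normalizer (Q : Set H) ∧ U ≤ Q := by
  obtain ⟨P, hUP, hP⟩ := Cfsg.Agent.S0025.result A K hAK hcop (Or.inl hsolv) q U hUK hU hUA
  exact ⟨_, isSyl_of_sylow P, hP, hUP⟩

lemma inv_syl_conj (A K : Subgroup H) (hAK : A ≤ Subgroup.normalizer (K : Set H))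
    (hcop : (Nat.card ↥A).Coprime (Nat.card ↥K)) (hsolv : Group.IsSolvable ↥A)
    (q : ℕ) [Fact q.Prime] {Q Q' : Subgroup H} (hQ : IsSyl q Q K) (hQ' : IsSyl q Q' K)
    (hAQ : A ≤ Subgroup.normalizer (Q : Set H)) (hAQ' : A ≤ Subgroup.normalizer (Q' : Set H)) :
    ∃ c ∈ K ⊓ Subgroup.centralizer (A : Set H), cj c Q = Q' := by
  have hc1 : Nat.card ↥(Q.subgroupOf K) = q ^ (Nat.card ↥K).factorization q := by
    rw [Nat.card_congr (Subgroup.subgroupOfEquivOfLe hQ.1).toEquiv]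
    exact hQ.2.2
  have hc2 : Nat.card ↥(Q'.subgroupOf K) = q ^ (Nat.card ↥K).factorization q := by
    rw [Nat.card_congr (Subgroup.subgroupOfEquivOfLe hQ'.1).toEquiv]
    exact hQ'.2.2
  have e1 : ((Sylow.ofCard (Q.subgroupOf K) hc1 : Sylow q ↥K) : Subgroup ↥K).map K.subtype = Q := by
    rw [Sylow.coe_ofCard]
    exact Subgroup.map_subgroupOf_eq_of_le hQ.1
  have e2 : ((Sylow.ofCard (Q'.subgroupOf K) hc2 : Sylow q ↥K) : Subgroup ↥K).map K.subtype = Q' := by
    rw [Sylow.coe_ofCard]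
    exact Subgroup.map_subgroupOf_eq_of_le hQ'.1
  obtain ⟨c, hcA, hc⟩ := Cfsg.Agent.S0024.result A K hAK hcop (Or.inl hsolv) q
    (Sylow.ofCard (Q.subgroupOf K) hc1) (Sylow.ofCard (Q'.subgroupOf K) hc2)
    (by rw [e1]; exact hAQ) (by rw [e2]; exact hAQ')
  refine ⟨(c : H), ⟨c.2, hcA⟩, ?_⟩
  rw [← Sylow.smul_def] at hc
  have := Cfsg.Agent.H1.sylow_smul_map_subtype K (Sylow.ofCard (Q.subgroupOf K) hc1) c
  rw [hc, e1, e2] at this
  exact this.symm

omit [Finite H] in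
lemma card_cj (c : H) (U : Subgroup H) : Nat.card ↥(cj c U) = Nat.card ↥U :=
  Subgroup.card_map_of_injective (MulAut.conj c).injective

omit [Finite H] in
lemma cj_eq_of_mem_normalizer {c : H} {U : Subgroup H} (hc : c ∈ Subgroup.normalizer (U : Set H)) :
    cj c U = U := by
  ext y
  rw [mem_cj]
  have hc' : c⁻¹ ∈ Subgroup.normalizer (U : Set H) := inv_mem hc
  have := (Subgroup.mem_normalizer_iff.1 hc' y)
  rw [inv_inv] at this
  exact this.symm

lemma cj_centralizer_singleton {c a : H} (hca : c * a = a * c) :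
    cj c (Subgroup.centralizer {a}) = Subgroup.centralizer {a} := by
  apply cj_eq_of_mem_normalizer
  apply Cfsg.Agent.H1.mem_normalizer_of_conj_mem
  intro u hu
  rw [Subgroup.mem_centralizer_singleton_iff] at hu ⊢
  have h3 : c⁻¹ * a = a * c⁻¹ := by
    have : a = c * a * c⁻¹ := by rw [hca]; group
    calc c⁻¹ * a = c⁻¹ * (c * a * c⁻¹) := by rw [← this]
      _ = a * c⁻¹ := by group
  calc c * u * c⁻¹ * a = c * u * (c⁻¹ * a) := by group
    _ = c * (u * a) * c⁻¹ := by rw [h3]; group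
    _ = (c * a) * u * c⁻¹ := by rw [hu]; group
    _ = a * (c * u * c⁻¹) := by rw [hca]; group

omit [Finite H] in
lemma cj_inf (c : H) (U V : Subgroup H) : cj c (U ⊓ V) = cj c U ⊓ cj c V :=
  Subgroup.map_inf _ _ _ (MulAut.conj c).injective

/-- the fixed points of `a ∈ A` on an `A`-invariant Sylow subgroup form a Sylow subgroup of the
fixed points -/
lemma isSyl_centralizer (A K : Subgroup H) (hcomm : ∀ x ∈ A, ∀ y ∈ A, x * y = y * x)
    (hAK : A ≤ Subgroup.normalizer (K : Set H))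
    (hcop : (Nat.card ↥A).Coprime (Nat.card ↥K)) (hsolv : Group.IsSolvable ↥A)
    (q : ℕ) [Fact q.Prime] {Q : Subgroup H} (hQ : IsSyl q Q K)
    (hAQ : A ≤ Subgroup.normalizer (Q : Set H)) {a : H} (ha : a ∈ A) :
    IsSyl q (Q ⊓ Subgroup.centralizer {a}) (K ⊓ Subgroup.centralizer {a}) := by
  have hle : Q ⊓ Subgroup.centralizer {a} ≤ K ⊓ Subgroup.centralizer {a} :=
    inf_le_inf_right _ hQ.1
  have hpg : IsPGroup q ↥(Q ⊓ Subgroup.centralizer {a} : Subgroup H) := hQ.2.1.to_le inf_le_left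
  refine ⟨hle, hpg, le_antisymm (card_le_of_isPGroup hle hpg) ?_⟩
  have hAKa := normalizer_inf_centralizer hcomm hAK ha
  have hcopa : (Nat.card ↥A).Coprime (Nat.card ↥(K ⊓ Subgroup.centralizer {a} : Subgroup H)) :=
    Nat.Coprime.coprime_dvd_right (Subgroup.card_dvd_of_le inf_le_left) hcop
  obtain ⟨R, hR, hAR⟩ := exists_inv_syl A _ hAKa hcopa hsolv q
  obtain ⟨Q', hQ', hAQ', hRQ'⟩ := exists_inv_syl_ge A K hAK hcop hsolv q R
    (hR.1.trans inf_le_left) hR.2.1 hAR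
  obtain ⟨c, hc, hcQ⟩ := inv_syl_conj A K hAK hcop hsolv q hQ' hQ hAQ' hAQ
  have hca : c * a = a * c := (Subgroup.mem_centralizer_iff.1 hc.2 a ha).symm
  have h1 : cj c R ≤ Q ⊓ Subgroup.centralizer {a} := by
    apply le_inf
    · rw [← hcQ]
      exact Subgroup.map_mono hRQ'
    · rw [← cj_centralizer_singleton hca]
      exact Subgroup.map_mono (hR.1.trans inf_le_right)
  rw [← hR.2.2, ← card_cj c R]
  exact Subgroup.card_le_of_le h1


lemma normalizer_cj_of_centralizer {A U : Subgroup H} {c : H}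
    (hc : c ∈ Subgroup.centralizer (A : Set H)) (hU : A ≤ Subgroup.normalizer (U : Set H)) :
    A ≤ Subgroup.normalizer ((cj c U : Subgroup H) : Set H) := by
  apply le_normalizer_of_conj_mem
  intro a ha y hy
  rw [mem_cj] at hy ⊢
  have hca : a * c = c * a := Subgroup.mem_centralizer_iff.1 hc a ha
  have hca' : c⁻¹ * a = a * c⁻¹ := by
    calc c⁻¹ * a = c⁻¹ * (a * c) * c⁻¹ := by group
      _ = a * c⁻¹ := by rw [hca]; group
  have hca'' : a⁻¹ * c = c * a⁻¹ := by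
    calc a⁻¹ * c = a⁻¹ * (c * a) * a⁻¹ := by group
      _ = c * a⁻¹ := by rw [← hca]; group
  have e : c⁻¹ * (a * y * a⁻¹) * c = a * (c⁻¹ * y * c) * a⁻¹ := by
    calc c⁻¹ * (a * y * a⁻¹) * c = (c⁻¹ * a) * y * (a⁻¹ * c) := by group
      _ = a * (c⁻¹ * y * c) * a⁻¹ := by rw [hca', hca'']; group
  rw [e]
  exact conj_mem_of_le_normalizer hU ha hy

omit [Finite H] in
lemma card_eq_ncard (U : Subgroup H) : Nat.card ↥U = (U : Set H).ncard :=
  Nat.card_coe_set_eq (U : Set H)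

/-- counting in a factorized group: Sylow subgroups of the factors inside a Sylow subgroup of the
product factorize it, and their intersection is a Sylow subgroup of the intersection -/
lemma syl_factor_count {q : ℕ} [Fact q.Prime] {K X Y Q QX QY : Subgroup H}
    (hK : (K : Set H) = (X : Set H) * (Y : Set H))
    (hQ : IsSyl q Q K) (hQX : IsSyl q QX X) (hQY : IsSyl q QY Y) (hX : QX ≤ Q) (hY : QY ≤ Q) :
    (Q : Set H) = (QX : Set H) * (QY : Set H) ∧ IsSyl q (QX ⊓ QY) (X ⊓ Y) := by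
  have hq : q.Prime := Fact.out
  have h1 := Cfsg.Agent.Lib.Lead.ProdCard.card_mul_card_eq X Y
  rw [← hK, ← card_eq_ncard] at h1
  have h2 := Cfsg.Agent.Lib.Lead.ProdCard.card_mul_card_eq QX QY
  have hsub : (QX : Set H) * (QY : Set H) ⊆ (Q : Set H) := by
    rintro _ ⟨x, hx, y, hy, rfl⟩
    exact Q.mul_mem (hX hx) (hY hy)
  have hS : ((QX : Set H) * (QY : Set H)).ncard ≤ q ^ (Nat.card ↥K).factorization q := by
    rw [← hQ.2.2, card_eq_ncard]
    exact Set.ncard_le_ncard hsub (Set.toFinite _)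
  have hR : Nat.card ↥(QX ⊓ QY : Subgroup H) ≤ q ^ (Nat.card ↥(X ⊓ Y : Subgroup H)).factorization q :=
    card_le_of_isPGroup (inf_le_inf hQX.1 hQY.1) (hQX.2.1.to_le inf_le_left)
  have hv : (Nat.card ↥X).factorization q + (Nat.card ↥Y).factorization q =
      (Nat.card ↥K).factorization q + (Nat.card ↥(X ⊓ Y : Subgroup H)).factorization q := by
    have := congrArg (fun n => n.factorization q) h1
    simp only [Nat.factorization_mul Nat.card_pos.ne' Nat.card_pos.ne', Finsupp.coe_add,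
      Pi.add_apply] at this
    exact this
  rw [hQX.2.2, hQY.2.2, ← pow_add, hv, pow_add] at h2
  have hpos1 : 0 < q ^ (Nat.card ↥K).factorization q := pow_pos hq.pos _
  have hpos2 : 0 < q ^ (Nat.card ↥(X ⊓ Y : Subgroup H)).factorization q := pow_pos hq.pos _
  have hS' : ((QX : Set H) * (QY : Set H)).ncard = q ^ (Nat.card ↥K).factorization q := by
    by_contra hne
    have hlt := lt_of_le_of_ne hS hne
    have hRpos : 0 < Nat.card ↥(QX ⊓ QY : Subgroup H) := Nat.card_pos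
    have : ((QX : Set H) * (QY : Set H)).ncard * Nat.card ↥(QX ⊓ QY : Subgroup H) <
        q ^ (Nat.card ↥K).factorization q * q ^ (Nat.card ↥(X ⊓ Y : Subgroup H)).factorization q :=
      calc ((QX : Set H) * (QY : Set H)).ncard * Nat.card ↥(QX ⊓ QY : Subgroup H)
          < q ^ (Nat.card ↥K).factorization q * Nat.card ↥(QX ⊓ QY : Subgroup H) :=
            Nat.mul_lt_mul_of_pos_right hlt hRpos
        _ ≤ _ := Nat.mul_le_mul_left _ hR
    omega
  have hR' : Nat.card ↥(QX ⊓ QY : Subgroup H) =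
      q ^ (Nat.card ↥(X ⊓ Y : Subgroup H)).factorization q := by
    rw [hS'] at h2
    exact (Nat.eq_of_mul_eq_mul_left hpos1 h2).symm
  refine ⟨?_, inf_le_inf hQX.1 hQY.1, hQX.2.1.to_le inf_le_left, hR'⟩
  symm
  apply Set.eq_of_subset_of_ncard_le hsub _ (Set.toFinite _)
  rw [hS', ← card_eq_ncard, hQ.2.2]

/-- an invariant `q`-subgroup whose fixed points are Sylow in the fixed points is Sylow -/
lemma isSyl_of_centralizers (A W R : Subgroup H) [IsMulCommutative A] (hA : ¬ IsCyclic A)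
    (hAW : A ≤ Subgroup.normalizer (W : Set H))
    (hcop : (Nat.card ↥A).Coprime (Nat.card ↥W)) (hsolv : Group.IsSolvable ↥A)
    (q : ℕ) [Fact q.Prime] (hRW : R ≤ W) (hR : IsPGroup q ↥R)
    (hAR : A ≤ Subgroup.normalizer (R : Set H))
    (hcent : ∀ a ∈ A, a ≠ 1 → IsSyl q (R ⊓ Subgroup.centralizer {a}) (W ⊓ Subgroup.centralizer {a})) :
    IsSyl q R W := by
  obtain ⟨R', hR', hAR', hRR'⟩ := exists_inv_syl_ge A W hAW hcop hsolv q R hRW hR hAR
  have hcopR : (Nat.card ↥A).Coprime (Nat.card ↥R') :=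
    Nat.Coprime.coprime_dvd_right (Subgroup.card_dvd_of_le hR'.1) hcop
  have hgen := Cfsg.Agent.S0058.result A R' hA hAR' hcopR
  have hle : R' ≤ R := by
    rw [← hgen]
    apply iSup₂_le
    intro a ha
    have h1 : R ⊓ Subgroup.centralizer {a} ≤ R' ⊓ Subgroup.centralizer {a} :=
      inf_le_inf_right _ hRR'
    have h2 : Nat.card ↥(R' ⊓ Subgroup.centralizer {a} : Subgroup H) ≤
        Nat.card ↥(R ⊓ Subgroup.centralizer {a} : Subgroup H) := by
      rw [(hcent a ha.1 ha.2).2.2]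
      exact card_le_of_isPGroup (inf_le_inf_right _ hR'.1) (hR'.2.1.to_le inf_le_left)
    rw [← Subgroup.eq_of_le_of_card_ge h1 h2]
    exact inf_le_left
  rw [le_antisymm hRR' hle]
  exact hR'


/-- the `q`-parts of the orders multiply as in a factorization `K = X Y` -/
theorem factorization_eq (A K X Y : Subgroup H) [IsMulCommutative A] (hA : ¬ IsCyclic A)
    (hcop : (Nat.card ↥A).Coprime (Nat.card ↥K))
    (hAK : A ≤ Subgroup.normalizer (K : Set H)) (hX : X ≤ K) (hY : Y ≤ K)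
    (hAX : A ≤ Subgroup.normalizer (X : Set H)) (hAY : A ≤ Subgroup.normalizer (Y : Set H))
    (hCX : K ⊓ Subgroup.centralizer (A : Set H) ≤ Subgroup.normalizer (X : Set H))
    (hfac : ∀ a ∈ A, a ≠ 1 → ((K ⊓ Subgroup.centralizer {a} : Subgroup H) : Set H) =
      ((X ⊓ Subgroup.centralizer {a} : Subgroup H) : Set H) *
        ((Y ⊓ Subgroup.centralizer {a} : Subgroup H) : Set H))
    (q : ℕ) [Fact q.Prime] :
    (Nat.card ↥K).factorization q + (Nat.card ↥(X ⊓ Y : Subgroup H)).factorization q =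
      (Nat.card ↥X).factorization q + (Nat.card ↥Y).factorization q := by
  have hq : q.Prime := Fact.out
  have hcomm : ∀ x ∈ A, ∀ y ∈ A, x * y = y * x := fun x hx y hy =>
    congrArg Subtype.val (IsMulCommutative.is_comm.comm (⟨x, hx⟩ : ↥A) ⟨y, hy⟩)
  have hsolv : Group.IsSolvable ↥A :=
    Group.isSolvable_of_comm (fun a b => IsMulCommutative.is_comm.comm a b)
  have hcopX : (Nat.card ↥A).Coprime (Nat.card ↥X) :=
    Nat.Coprime.coprime_dvd_right (Subgroup.card_dvd_of_le hX) hcop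
  have hcopY : (Nat.card ↥A).Coprime (Nat.card ↥Y) :=
    Nat.Coprime.coprime_dvd_right (Subgroup.card_dvd_of_le hY) hcop
  -- the Sylow triple
  obtain ⟨QY, hQY, hAQY⟩ := exists_inv_syl A Y hAY hcopY hsolv q
  obtain ⟨Q, hQ, hAQ, hQYQ⟩ := exists_inv_syl_ge A K hAK hcop hsolv q QY (hQY.1.trans hY)
    hQY.2.1 hAQY
  obtain ⟨QX0, hQX0, hAQX0⟩ := exists_inv_syl A X hAX hcopX hsolv q
  obtain ⟨Q', hQ', hAQ', hQX0Q'⟩ := exists_inv_syl_ge A K hAK hcop hsolv q QX0 (hQX0.1.trans hX)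
    hQX0.2.1 hAQX0
  obtain ⟨c, hc, hcQ⟩ := inv_syl_conj A K hAK hcop hsolv q hQ' hQ hAQ' hAQ
  obtain ⟨QX, hQXdef⟩ : ∃ QX, QX = cj c QX0 := ⟨_, rfl⟩
  have hQXQ : QX ≤ Q := by
    rw [hQXdef, ← hcQ]
    exact Subgroup.map_mono hQX0Q'
  have hQX : IsSyl q QX X := by
    refine ⟨?_, ?_, ?_⟩
    · rw [hQXdef, ← cj_eq_of_mem_normalizer (hCX hc)]
      exact Subgroup.map_mono hQX0.1
    · rw [hQXdef]
      exact hQX0.2.1.map _
    · rw [hQXdef, card_cj]
      exact hQX0.2.2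
  have hAQX : A ≤ Subgroup.normalizer (QX : Set H) := by
    rw [hQXdef]
    exact normalizer_cj_of_centralizer hc.2 hAQX0
  -- centralizers
  have hcent : ∀ a ∈ A, a ≠ 1 →
      ((Q ⊓ Subgroup.centralizer {a} : Subgroup H) : Set H) =
        ((QX ⊓ Subgroup.centralizer {a} : Subgroup H) : Set H) *
          ((QY ⊓ Subgroup.centralizer {a} : Subgroup H) : Set H) ∧
      IsSyl q ((QX ⊓ Subgroup.centralizer {a}) ⊓ (QY ⊓ Subgroup.centralizer {a}))
        ((X ⊓ Subgroup.centralizer {a}) ⊓ (Y ⊓ Subgroup.centralizer {a})) := by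
    intro a ha ha1
    exact syl_factor_count (hfac a ha ha1)
      (isSyl_centralizer A K hcomm hAK hcop hsolv q hQ hAQ ha)
      (isSyl_centralizer A X hcomm hAX hcopX hsolv q hQX hAQX ha)
      (isSyl_centralizer A Y hcomm hAY hcopY hsolv q hQY hAQY ha)
      (inf_le_inf_right _ hQXQ) (inf_le_inf_right _ hQYQ)
  -- the Sylow subgroup factorizes
  have hcopQ : (Nat.card ↥A).Coprime (Nat.card ↥Q) :=
    Nat.Coprime.coprime_dvd_right (Subgroup.card_dvd_of_le hQ.1) hcop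
  have hQfac : ∀ x ∈ Q, ∃ y ∈ QX, ∃ z ∈ QY, x = y * z := by
    apply nilpotent_factor A Q QX QY hA hQ.2.1.isNilpotent hAQ hcopQ hQXQ
    intro a ha ha1 x hx
    have hx' : x ∈ ((Q ⊓ Subgroup.centralizer {a} : Subgroup H) : Set H) := hx
    rw [(hcent a ha ha1).1] at hx'
    obtain ⟨y, hy, z, hz, rfl⟩ := hx'
    exact ⟨y, hy.1, z, hz.1, rfl⟩
  have hQset : (Q : Set H) = (QX : Set H) * (QY : Set H) := by
    apply Set.Subset.antisymm
    · intro x hx
      obtain ⟨y, hy, z, hz, rfl⟩ := hQfac x hx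
      exact ⟨y, hy, z, hz, rfl⟩
    · rintro _ ⟨y, hy, z, hz, rfl⟩
      exact Q.mul_mem (hQXQ hy) (hQYQ hz)
  -- the intersection is Sylow
  have hAW : A ≤ Subgroup.normalizer ((X ⊓ Y : Subgroup H) : Set H) := by
    apply le_normalizer_of_conj_mem
    intro a ha u hu
    exact ⟨conj_mem_of_le_normalizer hAX ha hu.1, conj_mem_of_le_normalizer hAY ha hu.2⟩
  have hAR : A ≤ Subgroup.normalizer ((QX ⊓ QY : Subgroup H) : Set H) := by
    apply le_normalizer_of_conj_mem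
    intro a ha u hu
    exact ⟨conj_mem_of_le_normalizer hAQX ha hu.1, conj_mem_of_le_normalizer hAQY ha hu.2⟩
  have hcopW : (Nat.card ↥A).Coprime (Nat.card ↥(X ⊓ Y : Subgroup H)) :=
    Nat.Coprime.coprime_dvd_right (Subgroup.card_dvd_of_le inf_le_left) hcopX
  have hRW : IsSyl q (QX ⊓ QY) (X ⊓ Y) := by
    apply isSyl_of_centralizers A (X ⊓ Y) (QX ⊓ QY) hA hAW hcopW hsolv q
      (inf_le_inf hQX.1 hQY.1) (hQX.2.1.to_le inf_le_left) hAR
    intro a ha ha1
    have := (hcent a ha ha1).2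
    rw [← inf_inf_distrib_right, ← inf_inf_distrib_right] at this
    exact this
  -- count
  have h2 := Cfsg.Agent.Lib.Lead.ProdCard.card_mul_card_eq QX QY
  rw [← hQset, ← card_eq_ncard, hQ.2.2, hQX.2.2, hQY.2.2, hRW.2.2, ← pow_add, ← pow_add] at h2
  exact (Nat.pow_right_injective hq.two_le h2).symm

/-- **Factorization under a noncyclic coprime action.** -/
theorem factor_of_centralizers (A K X Y : Subgroup H) [IsMulCommutative A] (hA : ¬ IsCyclic A)
    (hcop : (Nat.card ↥A).Coprime (Nat.card ↥K))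
    (hAK : A ≤ Subgroup.normalizer (K : Set H)) (hX : X ≤ K) (hY : Y ≤ K)
    (hAX : A ≤ Subgroup.normalizer (X : Set H)) (hAY : A ≤ Subgroup.normalizer (Y : Set H))
    (hCX : K ⊓ Subgroup.centralizer (A : Set H) ≤ Subgroup.normalizer (X : Set H))
    (hfac : ∀ a ∈ A, a ≠ 1 → ((K ⊓ Subgroup.centralizer {a} : Subgroup H) : Set H) =
      ((X ⊓ Subgroup.centralizer {a} : Subgroup H) : Set H) *
        ((Y ⊓ Subgroup.centralizer {a} : Subgroup H) : Set H)) :
    (K : Set H) = (X : Set H) * (Y : Set H) := by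
  have hcard : Nat.card ↥K * Nat.card ↥(X ⊓ Y : Subgroup H) = Nat.card ↥X * Nat.card ↥Y := by
    apply Nat.eq_of_factorization_eq (mul_ne_zero Nat.card_pos.ne' Nat.card_pos.ne')
      (mul_ne_zero Nat.card_pos.ne' Nat.card_pos.ne')
    intro q
    rw [Nat.factorization_mul Nat.card_pos.ne' Nat.card_pos.ne',
      Nat.factorization_mul Nat.card_pos.ne' Nat.card_pos.ne', Finsupp.coe_add, Finsupp.coe_add,
      Pi.add_apply, Pi.add_apply]
    by_cases hq : q.Prime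
    · have : Fact q.Prime := ⟨hq⟩
      exact factorization_eq A K X Y hA hcop hAK hX hY hAX hAY hCX hfac q
    · simp [Nat.factorization_eq_zero_of_not_prime _ hq]
  have h1 := Cfsg.Agent.Lib.Lead.ProdCard.card_mul_card_eq X Y
  rw [← hcard] at h1
  have h2 : Nat.card ↥K = ((X : Set H) * (Y : Set H)).ncard :=
    Nat.eq_of_mul_eq_mul_right Nat.card_pos h1
  have hsub : (X : Set H) * (Y : Set H) ⊆ (K : Set H) := by
    rintro _ ⟨x, hx, y, hy, rfl⟩
    exact K.mul_mem (hX hx) (hY hy)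
  symm
  apply Set.eq_of_subset_of_ncard_le hsub _ (Set.toFinite _)
  rw [← h2, card_eq_ncard]


omit [Finite H] in
/-- a noncyclic elementary abelian group is not cyclic -/
lemma not_isCyclic_of_elementaryAbelian {p : ℕ} [Fact p.Prime] {A : Subgroup H}
    (hA : Cfsg.IsElementaryAbelian p A) (hA2 : p ^ 2 ≤ Nat.card ↥A) : ¬ IsCyclic ↥A := by
  intro hcyc
  have hp : p.Prime := Fact.out
  obtain ⟨g, hg⟩ := hcyc.exists_generator
  have h1 : orderOf g = Nat.card ↥A := orderOf_eq_card_of_forall_mem_zpowers hg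
  have h2 : g ^ p = 1 := Subtype.ext (by simpa using hA.2 g g.2)
  have h3 : Nat.card ↥A ∣ p := h1 ▸ orderOf_dvd_of_pow_eq_one h2
  have h4 : Nat.card ↥A ≤ p := Nat.le_of_dvd hp.pos h3
  have h5 : p < p ^ 2 := by
    have := hp.two_le
    nlinarith
  omega

end

end Cfsg.Agent.H2.CoprimeFactor
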