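import Mathlib
import Cfsg.Agent.S0023
import Cfsg.Agent.S0024
import Cfsg.Agent.S0025
import Cfsg.Agent.S0026
import Cfsg.Agent.S0027

/-!
# External coprime actions (helper2)

Bridge between a group `A` acting on a group `G` via `MulDistribMulAction A G` and the internal
setting (subgroups `A`, `K` of an ambient group with `A ≤ N(K)`), through the semidirect product
`G ⋊ A`.  External versions of the coprime action results `S0023`, `S0025`, `S0026`, `S0027`.
-/

set_option autoImplicit false

namespace Cfsg.Agent.H2.ExtAct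

open scoped commutatorElement

variable (A G : Type*) [Group A] [Group G] [MulDistribMulAction A G]

/-- the semidirect product `G ⋊ A` -/
abbrev SD := G ⋊[MulDistribMulAction.toMulAut A G] A

variable {A G}

/-- `G → G ⋊ A` -/
def iG : G →* SD A G := SemidirectProduct.inl

/-- `A → G ⋊ A` -/
def iA : A →* SD A G := SemidirectProduct.inr

theorem iG_injective : Function.Injective (iG : G →* SD A G) := SemidirectProduct.inl_injective

theorem iA_injective : Function.Injective (iA : A →* SD A G) := SemidirectProduct.inr_injective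

theorem conj_iA_iG (a : A) (g : G) : (iA a : SD A G) * iG g * (iA a)⁻¹ = iG (a • g) := by
  have := SemidirectProduct.inl_aut (φ := MulDistribMulAction.toMulAut A G) a g
  rw [map_inv] at this
  exact this.symm

variable (A G)

/-- the image of `G` -/
def KK : Subgroup (SD A G) := (iG : G →* SD A G).range

/-- the image of `A` -/
def AA : Subgroup (SD A G) := (iA : A →* SD A G).range

instance KK_normal : (KK A G).Normal := by
  have : KK A G = (SemidirectProduct.rightHom : SD A G →* A).ker :=
    SemidirectProduct.range_inl_eq_ker_rightHom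
  rw [this]
  infer_instance

instance [Finite A] [Finite G] : Finite (SD A G) :=
  Finite.of_equiv _ (SemidirectProduct.equivProd (φ := MulDistribMulAction.toMulAut A G)).symm

theorem card_KK : Nat.card (KK A G) = Nat.card G :=
  (Nat.card_congr (MonoidHom.ofInjective iG_injective).toEquiv).symm

theorem card_AA : Nat.card (AA A G) = Nat.card A :=
  (Nat.card_congr (MonoidHom.ofInjective iA_injective).toEquiv).symm

theorem AA_le_normalizer_KK : AA A G ≤ Subgroup.normalizer (KK A G : Set (SD A G)) := by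
  rw [Subgroup.normalizer_eq_top]; exact le_top

variable {A G}

theorem map_le_KK (H : Subgroup G) : H.map iG ≤ KK A G := by
  rintro _ ⟨h, _, rfl⟩
  exact ⟨h, rfl⟩

theorem card_map (H : Subgroup G) : Nat.card (H.map (iG : G →* SD A G)) = Nat.card H :=
  Subgroup.card_map_of_injective iG_injective

theorem map_comap_eq (H : Subgroup (SD A G)) (hH : H ≤ KK A G) : (H.comap iG).map iG = H :=
  Subgroup.map_comap_eq_self hH

/-- invariance of a subgroup under the action, in internal terms -/
theorem AA_le_normalizer_map_iff (H : Subgroup G) :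
    AA A G ≤ Subgroup.normalizer ((H.map (iG : G →* SD A G) : Subgroup (SD A G)) : Set (SD A G)) ↔
      ∀ a : A, ∀ x ∈ H, a • x ∈ H := by
  constructor
  · intro h a x hx
    have ha : (iA a : SD A G) ∈ AA A G := ⟨a, rfl⟩
    have h1 := (Subgroup.mem_normalizer_iff.mp (h ha) (iG x)).mp ⟨x, hx, rfl⟩
    rw [conj_iA_iG] at h1
    obtain ⟨y, hy, hyx⟩ := h1
    rw [← iG_injective hyx]
    exact hy
  · rintro h _ ⟨a, rfl⟩
    rw [Subgroup.mem_normalizer_iff]
    have key : ∀ (b : A) (y : SD A G), y ∈ H.map iG → (iA b : SD A G) * y * (iA b)⁻¹ ∈ H.map iG := by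
      rintro b _ ⟨x, hx, rfl⟩
      rw [conj_iA_iG]
      exact ⟨b • x, h b x hx, rfl⟩
    intro y
    constructor
    · exact key a y
    · intro hy
      have := key a⁻¹ _ hy
      rw [map_inv] at this
      have e : ((iA a : SD A G))⁻¹ * ((iA a : SD A G) * y * ((iA a : SD A G))⁻¹) *
          (((iA a : SD A G))⁻¹)⁻¹ = y := by group
      rw [e] at this
      exact this

/-- fixed points, in internal terms -/
theorem iG_mem_centralizer_AA_iff (g : G) :
    (iG g : SD A G) ∈ Subgroup.centralizer (AA A G : Set (SD A G)) ↔ ∀ a : A, a • g = g := by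
  rw [Subgroup.mem_centralizer_iff]
  constructor
  · intro h a
    have h1 := h (iA a) ⟨a, rfl⟩
    have h2 : (iA a : SD A G) * iG g * (iA a)⁻¹ = iG g := by
      rw [h1]; group
    rw [conj_iA_iG] at h2
    exact iG_injective h2
  · rintro h _ ⟨a, rfl⟩
    have h2 := conj_iA_iG a g
    rw [h a] at h2
    calc (iA a : SD A G) * iG g = ((iA a : SD A G) * iG g * (iA a)⁻¹) * iA a := by group
      _ = iG g * iA a := by rw [h2]

theorem KK_inf_centralizer_eq :
    KK A G ⊓ Subgroup.centralizer (AA A G : Set (SD A G)) =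
      (FixedPoints.subgroup A G).map (iG : G →* SD A G) := by
  ext x
  constructor
  · rintro ⟨⟨g, rfl⟩, h2⟩
    exact ⟨g, (iG_mem_centralizer_AA_iff g).mp h2, rfl⟩
  · rintro ⟨g, hg, rfl⟩
    exact ⟨⟨g, rfl⟩, (iG_mem_centralizer_AA_iff g).mpr hg⟩

/-- the subgroup `[H, A]` generated by the `h⁻¹ (a • h)` -/
def comm (A : Type*) [Group A] [MulDistribMulAction A G] (H : Subgroup G) : Subgroup G :=
  Subgroup.closure {y : G | ∃ a : A, ∃ h ∈ H, y = h⁻¹ * a • h}

theorem comm_top_eq :
    comm A (⊤ : Subgroup G) = Subgroup.closure {y : G | ∃ (a : A) (g : G), y = g⁻¹ * a • g} := by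
  unfold comm
  congr 1
  ext y
  constructor
  · rintro ⟨a, h, _, rfl⟩; exact ⟨a, h, rfl⟩
  · rintro ⟨a, h, rfl⟩; exact ⟨a, h, trivial, rfl⟩

theorem map_comm (H : Subgroup G) :
    (comm A H).map (iG : G →* SD A G) = ⁅H.map (iG : G →* SD A G), AA A G⁆ := by
  unfold comm
  rw [MonoidHom.map_closure]
  apply le_antisymm
  · rw [Subgroup.closure_le]
    rintro _ ⟨_, ⟨a, h, hh, rfl⟩, rfl⟩
    have e : (iG (h⁻¹ * a • h) : SD A G) = ⁅(iG h⁻¹ : SD A G), iA a⁆ := by
      rw [commutatorElement_def, map_mul, ← conj_iA_iG, map_inv, inv_inv]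
      group
    rw [SetLike.mem_coe, e]
    exact Subgroup.commutator_mem_commutator ⟨h⁻¹, H.inv_mem hh, rfl⟩ ⟨a, rfl⟩
  · rw [Subgroup.commutator_le]
    rintro _ ⟨h, hh, rfl⟩ _ ⟨a, rfl⟩
    apply Subgroup.subset_closure
    refine ⟨h * a • h⁻¹, ⟨a, h⁻¹, H.inv_mem hh, by rw [inv_inv]⟩, ?_⟩
    rw [commutatorElement_def, map_mul, ← conj_iA_iG, map_inv]
    group

theorem coprime_AA_KK (hcop : (Nat.card A).Coprime (Nat.card G)) :
    (Nat.card (AA A G)).Coprime (Nat.card (KK A G)) := by
  rw [card_AA, card_KK]; exact hcop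

theorem coprime_AA_map (hcop : (Nat.card A).Coprime (Nat.card G)) (H : Subgroup G) :
    (Nat.card (AA A G)).Coprime (Nat.card (H.map (iG : G →* SD A G))) := by
  rw [card_AA, card_map]
  exact Nat.Coprime.coprime_dvd_right (Subgroup.card_subgroup_dvd_card H) hcop

theorem solvable_AA_or_map (hsolv : Group.IsSolvable A ∨ Group.IsSolvable G) (H : Subgroup G) :
    Group.IsSolvable (AA A G) ∨ Group.IsSolvable (H.map (iG : G →* SD A G)) := by
  rcases hsolv with h | h
  · left
    exact Group.isSolvable_of_surjective (f := (iA : A →* SD A G).rangeRestrict)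
      (iA : A →* SD A G).rangeRestrict_surjective
  · right
    have hH : Group.IsSolvable H := inferInstance
    exact Group.isSolvable_of_surjective (f := (iG : G →* SD A G).subgroupMap H)
      ((iG : G →* SD A G).subgroupMap_surjective H)

theorem solvable_AA_or_KK (hsolv : Group.IsSolvable A ∨ Group.IsSolvable G) :
    Group.IsSolvable (AA A G) ∨ Group.IsSolvable (KK A G) := by
  rcases hsolv with h | h
  · left
    exact Group.isSolvable_of_surjective (f := (iA : A →* SD A G).rangeRestrict)
      (iA : A →* SD A G).rangeRestrict_surjective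
  · right
    exact Group.isSolvable_of_surjective (f := (iG : G →* SD A G).rangeRestrict)
      (iG : G →* SD A G).rangeRestrict_surjective

section finite

variable [Finite A] [Finite G]

/-- pull a Sylow subgroup of `KK` back to `G` -/
theorem exists_sylow_of_sylow_KK (p : ℕ) [Fact p.Prime] (P : Sylow p (KK A G)) :
    ∃ Q : Sylow p G, (Q : Subgroup G).map (iG : G →* SD A G) =
      (P : Subgroup (KK A G)).map (KK A G).subtype := by
  have hle : (P : Subgroup (KK A G)).map (KK A G).subtype ≤ KK A G := Subgroup.map_subtype_le _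
  have hmap := map_comap_eq _ hle
  have hcard : Nat.card (((P : Subgroup (KK A G)).map (KK A G).subtype).comap
      (iG : G →* SD A G)) = p ^ (Nat.card G).factorization p := by
    rw [← card_map (A := A), hmap, Subgroup.card_map_of_injective (Subgroup.subtype_injective _),
      P.card_eq_multiplicity, card_KK]
  exact ⟨Sylow.ofCard _ hcard, hmap⟩

/-- External `S0023`: under coprime action there is an invariant Sylow `p`-subgroup. -/
theorem exists_invariant_sylow (hcop : (Nat.card A).Coprime (Nat.card G))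
    (hsolv : Group.IsSolvable A ∨ Group.IsSolvable G) (p : ℕ) [Fact p.Prime] :
    ∃ P : Sylow p G, ∀ a : A, ∀ x ∈ (P : Subgroup G), a • x ∈ (P : Subgroup G) := by
  obtain ⟨P, hP⟩ := Cfsg.Agent.S0023.result (AA A G) (KK A G) (AA_le_normalizer_KK A G)
    (coprime_AA_KK hcop) (solvable_AA_or_KK hsolv) p
  obtain ⟨Q, hQ⟩ := exists_sylow_of_sylow_KK p P
  refine ⟨Q, ?_⟩
  rw [← AA_le_normalizer_map_iff, hQ]
  exact hP

/-- External `S0025`: an invariant `p`-subgroup lies in an invariant Sylow `p`-subgroup. -/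
theorem exists_invariant_sylow_ge (hcop : (Nat.card A).Coprime (Nat.card G))
    (hsolv : Group.IsSolvable A ∨ Group.IsSolvable G) (p : ℕ) [Fact p.Prime]
    (U : Subgroup G) (hU : IsPGroup p U) (hUA : ∀ a : A, ∀ x ∈ U, a • x ∈ U) :
    ∃ P : Sylow p G, U ≤ (P : Subgroup G) ∧
      ∀ a : A, ∀ x ∈ (P : Subgroup G), a • x ∈ (P : Subgroup G) := by
  obtain ⟨P, hUP, hP⟩ := Cfsg.Agent.S0025.result (AA A G) (KK A G) (AA_le_normalizer_KK A G)
    (coprime_AA_KK hcop) (solvable_AA_or_KK hsolv) p (U.map iG) (map_le_KK U)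
    (hU.map _) ((AA_le_normalizer_map_iff U).mpr hUA)
  obtain ⟨Q, hQ⟩ := exists_sylow_of_sylow_KK p P
  refine ⟨Q, ?_, ?_⟩
  · rw [← hQ] at hUP
    exact (Subgroup.map_le_map_iff_of_injective iG_injective).mp hUP
  · rw [← AA_le_normalizer_map_iff, hQ]
    exact hP

/-- External `S0026`: `H = [H, A] C_H(A)` for an invariant subgroup `H`. -/
theorem comm_sup_fixed (hcop : (Nat.card A).Coprime (Nat.card G))
    (hsolv : Group.IsSolvable A ∨ Group.IsSolvable G)
    (H : Subgroup G) (hHA : ∀ a : A, ∀ x ∈ H, a • x ∈ H) :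
    comm A H ⊔ (H ⊓ FixedPoints.subgroup A G) = H := by
  have h := Cfsg.Agent.S0026.result (AA A G) (H.map iG) ((AA_le_normalizer_map_iff H).mpr hHA)
    (coprime_AA_map hcop H) (solvable_AA_or_map hsolv H)
  have h2 : H.map (iG : G →* SD A G) ⊓ Subgroup.centralizer (AA A G : Set (SD A G)) =
      (H ⊓ FixedPoints.subgroup A G).map iG := by
    rw [Subgroup.map_inf _ _ _ iG_injective, ← KK_inf_centralizer_eq, ← inf_assoc,
      inf_eq_left.mpr (map_le_KK H)]
  rw [← map_comm, h2, ← Subgroup.map_sup] at h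
  exact Subgroup.map_injective iG_injective h

/-- External `S0027`: `[[H, A], A] = [H, A]` for an invariant subgroup `H`. -/
theorem comm_comm (hcop : (Nat.card A).Coprime (Nat.card G))
    (hsolv : Group.IsSolvable A ∨ Group.IsSolvable G)
    (H : Subgroup G) (hHA : ∀ a : A, ∀ x ∈ H, a • x ∈ H) :
    comm A (comm A H) = comm A H := by
  have h := Cfsg.Agent.S0027.result (AA A G) (H.map iG) ((AA_le_normalizer_map_iff H).mpr hHA)
    (coprime_AA_map hcop H) (solvable_AA_or_map hsolv H)
  rw [← map_comm, ← map_comm] at h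
  exact Subgroup.map_injective iG_injective h

end finite

/-- `[H, A]` is invariant. -/
theorem comm_invariant (H : Subgroup G) (hHA : ∀ a : A, ∀ x ∈ H, a • x ∈ H) :
    ∀ a : A, ∀ x ∈ comm A H, a • x ∈ comm A H := by
  intro a x hx
  unfold comm at hx ⊢
  induction hx using Subgroup.closure_induction with
  | mem y hy =>
    obtain ⟨b, h, hh, rfl⟩ := hy
    -- a • (h⁻¹ * b • h) = (a • h)⁻¹ * (a b a⁻¹) • (a • h)
    apply Subgroup.subset_closure
    refine ⟨a * b * a⁻¹, a • h, hHA a h hh, ?_⟩
    rw [smul_mul', smul_inv', mul_smul, mul_smul, inv_smul_smul]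
  | one => rw [smul_one]; exact Subgroup.one_mem _
  | mul x y _ _ hx hy => rw [smul_mul']; exact Subgroup.mul_mem _ hx hy
  | inv x _ hx => rw [smul_inv']; exact Subgroup.inv_mem _ hx

/-- `[H, A] ≤ H` for an invariant subgroup `H`. -/
theorem comm_le (H : Subgroup G) (hHA : ∀ a : A, ∀ x ∈ H, a • x ∈ H) : comm A H ≤ H := by
  unfold comm
  rw [Subgroup.closure_le]
  rintro _ ⟨a, h, hh, rfl⟩
  exact H.mul_mem (H.inv_mem hh) (hHA a h hh)

/-- `[G, A]` is normal in `G`. -/
theorem comm_top_normal : (comm A (⊤ : Subgroup G)).Normal := by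
  have hn : (⊤ : Subgroup G).map (iG : G →* SD A G) ≤
      Subgroup.normalizer ((⁅(⊤ : Subgroup G).map (iG : G →* SD A G), AA A G⁆ :
        Subgroup (SD A G)) : Set (SD A G)) :=
    Subgroup.normalizer_commutator_ge_left _ _
  rw [← map_comm] at hn
  constructor
  intro n hn' g
  have h1 : (iG g : SD A G) ∈ (⊤ : Subgroup G).map (iG : G →* SD A G) := ⟨g, trivial, rfl⟩
  have h2 := (Subgroup.mem_normalizer_iff.mp (hn h1) (iG n)).mp ⟨n, hn', rfl⟩
  obtain ⟨y, hy, hyx⟩ := h2
  have : (iG y : SD A G) = iG (g * n * g⁻¹) := by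
    rw [hyx, map_mul, map_mul, map_inv]
  rw [← iG_injective this]
  exact hy

end Cfsg.Agent.H2.ExtAct
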