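import Mathlib

/-!
# Maschke's theorem for coprime action on an elementary abelian group (helper2)

Multiplicative, hands-on version: a finite group `A` acts (through `act : A → V →* V`) on an
elementary abelian `p`-group `V` with `p ∤ |A|`; every invariant subgroup has an invariant
complement.
-/

set_option autoImplicit false

namespace Cfsg.Agent.H2.Maschke

section complement

variable {V : Type*} [CommGroup V] [Finite V]

/-- complements exist in elementary abelian groups -/
theorem exists_complement (p : ℕ) [Fact p.Prime] (hexp : ∀ v : V, v ^ p = 1) (U : Subgroup V) :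
    ∃ W : Subgroup V, U ⊓ W = ⊥ ∧ U ⊔ W = ⊤ := by
  have hp : p.Prime := Fact.out
  obtain ⟨W, -, hW⟩ := Finite.exists_le_maximal (p := fun W : Subgroup V => U ⊓ W = ⊥)
    (a := ⊥) (by simp)
  have hW1 : U ⊓ W = ⊥ := hW.prop
  refine ⟨W, hW1, ?_⟩
  by_contra hne
  obtain ⟨x, hx⟩ : ∃ x : V, x ∉ U ⊔ W := by
    by_contra h
    push Not at h
    exact hne (eq_top_iff.mpr fun x _ => h x)
  have hW2 : U ⊓ (W ⊔ Subgroup.zpowers x) = ⊥ := by
    rw [eq_bot_iff]
    intro y hy
    obtain ⟨hyU, hyW⟩ := Subgroup.mem_inf.mp hy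
    obtain ⟨w, hw, z, hz, rfl⟩ := Subgroup.mem_sup.mp hyW
    obtain ⟨k, rfl⟩ := Subgroup.mem_zpowers_iff.mp hz
    by_cases hk : (p : ℤ) ∣ k
    · obtain ⟨j, rfl⟩ := hk
      have : x ^ ((p : ℤ) * j) = 1 := by
        rw [zpow_mul, zpow_natCast, hexp, one_zpow]
      rw [this, mul_one] at hyU ⊢
      have : w ∈ U ⊓ W := ⟨hyU, hw⟩
      rw [hW1] at this
      exact this
    · exfalso
      apply hx
      have hcop : IsCoprime k (p : ℤ) := by
        rw [isCoprime_comm]
        exact (Nat.prime_iff_prime_int.mp hp).coprime_iff_not_dvd.mpr hk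
      obtain ⟨a, b, hab⟩ := hcop
      have hxk : x ^ k ∈ U ⊔ W := by
        have : x ^ k = (w * x ^ k) * w⁻¹ := by
          rw [mul_comm w, mul_assoc, mul_inv_cancel, mul_one]
        rw [this]
        exact Subgroup.mul_mem _ (Subgroup.mem_sup_left hyU)
          (Subgroup.mem_sup_right (W.inv_mem hw))
      have : x = (x ^ k) ^ a := by
        have h1 : x ^ (a * k + b * (p : ℤ)) = x := by rw [hab, zpow_one]
        have h2 : x ^ (b * (p : ℤ)) = 1 := by
          rw [mul_comm, zpow_mul, zpow_natCast, hexp, one_zpow]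
        rw [zpow_add, h2, mul_one, mul_comm a k, zpow_mul] at h1
        exact h1.symm
      rw [this]
      exact Subgroup.zpow_mem _ hxk _
  have hle : W ≤ W ⊔ Subgroup.zpowers x := le_sup_left
  have := hW.le_of_ge hW2 hle
  apply hx
  exact Subgroup.mem_sup_right (this (Subgroup.mem_sup_right (Subgroup.mem_zpowers x)))

/-- a projection onto `U` -/
theorem exists_projection (p : ℕ) [Fact p.Prime] (hexp : ∀ v : V, v ^ p = 1) (U : Subgroup V) :
    ∃ π : V →* V, (∀ v, π v ∈ U) ∧ ∀ u ∈ U, π u = u := by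
  obtain ⟨W, hUW, hUW'⟩ := exists_complement p hexp U
  let f : U × W →* V := U.subtype.coprod W.subtype
  have hfapp : ∀ x : U × W, f x = (x.1 : V) * (x.2 : V) := fun x => by
    simp [f, MonoidHom.coprod_apply]
  have hinj : Function.Injective f := by
    rw [injective_iff_map_eq_one]
    rintro ⟨u, w⟩ h
    rw [hfapp] at h
    have h1 : (u : V) = (w : V)⁻¹ := eq_inv_of_mul_eq_one_left h
    have h2 : (u : V) ∈ U ⊓ W := ⟨u.2, by rw [h1]; exact W.inv_mem w.2⟩
    rw [hUW, Subgroup.mem_bot] at h2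
    have h3 : (w : V) = 1 := by
      rw [h2] at h1
      exact inv_eq_one.mp h1.symm
    ext
    · exact h2
    · exact h3
  have hsurj : Function.Surjective f := by
    intro v
    have : v ∈ U ⊔ W := by rw [hUW']; trivial
    obtain ⟨u, hu, w, hw, rfl⟩ := Subgroup.mem_sup.mp this
    exact ⟨(⟨u, hu⟩, ⟨w, hw⟩), hfapp _⟩
  let e : U × W ≃* V := MulEquiv.ofBijective f ⟨hinj, hsurj⟩
  refine ⟨U.subtype.comp ((MonoidHom.fst U W).comp e.symm.toMonoidHom), ?_, ?_⟩
  · intro v
    exact (e.symm v).1.2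
  · intro u hu
    have : e.symm u = (⟨u, hu⟩, 1) := by
      rw [MulEquiv.symm_apply_eq]
      show u = f _
      rw [hfapp]
      simp
    simp [this]

end complement

section averaging

variable {A V : Type*} [Group A] [Finite A] [CommGroup V] [Finite V]

theorem maschke (p : ℕ) [Fact p.Prime] (hexp : ∀ v : V, v ^ p = 1)
    (hcop : (Nat.card A).Coprime p)
    (act : A → V →* V) (h1 : ∀ v, act 1 v = v) (hmul : ∀ a b v, act (a * b) v = act a (act b v))
    (U : Subgroup V) (hU : ∀ a, ∀ u ∈ U, act a u ∈ U) :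
    ∃ W : Subgroup V, (∀ a, ∀ w ∈ W, act a w ∈ W) ∧ U ⊓ W = ⊥ ∧ U ⊔ W = ⊤ := by
  classical
  have hp : p.Prime := Fact.out
  have : Fintype A := Fintype.ofFinite A
  obtain ⟨π₀, hπ₀U, hπ₀id⟩ := exists_projection p hexp U
  obtain ⟨m, -, hm⟩ := Nat.exists_mul_mod_eq_one_of_coprime hcop hp.one_lt
  -- the averaged projection
  let π : V →* V := (∏ a : A, (act a).comp (π₀.comp (act a⁻¹))) ^ m
  have hπapp : ∀ v, π v = (∏ a : A, act a (π₀ (act a⁻¹ v))) ^ m := by
    intro v
    simp [π, MonoidHom.pow_apply]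
  have hπU : ∀ v, π v ∈ U := by
    intro v
    rw [hπapp]
    apply Subgroup.pow_mem
    apply Subgroup.prod_mem
    intro a _
    exact hU a _ (hπ₀U _)
  have hπid : ∀ u ∈ U, π u = u := by
    intro u hu
    rw [hπapp]
    have : ∀ a : A, act a (π₀ (act a⁻¹ u)) = u := by
      intro a
      rw [hπ₀id _ (hU a⁻¹ u hu), ← hmul, mul_inv_cancel, h1]
    rw [Finset.prod_congr rfl (fun a _ => this a), Finset.prod_const, Finset.card_univ,
      ← Nat.card_eq_fintype_card, ← pow_mul, pow_eq_pow_mod _ (hexp u), hm, pow_one]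
  have hπeq : ∀ (b : A) (v : V), act b (π v) = π (act b v) := by
    intro b v
    rw [hπapp, hπapp, map_pow, map_prod]
    congr 1
    refine Fintype.prod_equiv (Equiv.mulLeft b) _ _ ?_
    intro a
    simp only [Equiv.coe_mulLeft]
    rw [hmul b a, mul_inv_rev, hmul a⁻¹ b⁻¹, ← hmul b⁻¹ b, inv_mul_cancel, h1]
  refine ⟨π.ker, ?_, ?_, ?_⟩
  · intro a w hw
    rw [MonoidHom.mem_ker] at hw ⊢
    rw [← hπeq, hw, map_one]
  · rw [eq_bot_iff]
    intro u hu
    obtain ⟨hu1, hu2⟩ := Subgroup.mem_inf.mp hu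
    rw [MonoidHom.mem_ker, hπid u hu1] at hu2
    rw [Subgroup.mem_bot]; exact hu2
  · rw [eq_top_iff]
    intro v _
    have : v = π v * ((π v)⁻¹ * v) := by rw [mul_inv_cancel_left]
    rw [this]
    refine Subgroup.mul_mem _ (Subgroup.mem_sup_left (hπU v)) (Subgroup.mem_sup_right ?_)
    rw [MonoidHom.mem_ker, map_mul, map_inv, hπid _ (hπU v), inv_mul_cancel]

end averaging

end Cfsg.Agent.H2.Maschke
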