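import Mathlib
import Cfsg.Agent.H1.Frattini
import Cfsg.Agent.H1.PGroup
import Cfsg.Agent.H2.ExtAction
import Cfsg.Agent.H2.Maschke

/-!
# Maximal invariant subgroups under coprime action (helper2)
-/

set_option autoImplicit false

namespace Cfsg.Agent.H2.MaxInv

open Cfsg.Agent.H1 Cfsg.Agent.H2
open scoped Pointwise commutatorElement

variable {A G : Type*} [Group A] [Group G] [MulDistribMulAction A G]

/-- `M` is invariant under the action of `A`. -/
def Inv (A : Type*) [Group A] [MulDistribMulAction A G] (M : Subgroup G) : Prop :=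
  ∀ a : A, ∀ x ∈ M, a • x ∈ M

/-- `M` is a maximal `A`-invariant subgroup. -/
def IsMaxInv (A : Type*) [Group A] [MulDistribMulAction A G] (M : Subgroup G) : Prop :=
  M ≠ ⊤ ∧ Inv A M ∧ ∀ L : Subgroup G, M < L → Inv A L → L = ⊤

theorem inv_top : Inv A (⊤ : Subgroup G) := fun _ _ _ => trivial

theorem inv_bot : Inv A (⊥ : Subgroup G) := by
  intro a x hx
  rw [Subgroup.mem_bot] at hx ⊢
  rw [hx, smul_one]

theorem inv_sup {M N : Subgroup G} (hM : Inv A M) (hN : Inv A N) : Inv A (M ⊔ N) := by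
  intro a x hx
  rw [← Subgroup.closure_eq M, ← Subgroup.closure_eq N, ← Subgroup.closure_union] at hx ⊢
  induction hx using Subgroup.closure_induction with
  | mem y hy =>
    apply Subgroup.subset_closure
    rcases hy with hy | hy
    · exact Or.inl (hM a y hy)
    · exact Or.inr (hN a y hy)
  | one => rw [smul_one]; exact Subgroup.one_mem _
  | mul x y _ _ hx hy => rw [smul_mul']; exact Subgroup.mul_mem _ hx hy
  | inv x _ hx => rw [smul_inv']; exact Subgroup.inv_mem _ hx

theorem inv_of_characteristic (M : Subgroup G) [hM : M.Characteristic] : Inv A M := by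
  intro a x hx
  have h := (Subgroup.characteristic_iff_map_eq.mp hM) (MulDistribMulAction.toMulEquiv G a)
  rw [← h]
  exact ⟨x, hx, rfl⟩

theorem inv_frattini : Inv A (frattini G) := inv_of_characteristic _

section finite

variable [Finite G]

theorem exists_isMaxInv_ge (M : Subgroup G) (hM : M ≠ ⊤) (hinv : Inv A M) :
    ∃ N : Subgroup G, M ≤ N ∧ IsMaxInv A N := by
  obtain ⟨N, hMN, hN⟩ := Finite.exists_le_maximal (p := fun N : Subgroup G => N ≠ ⊤ ∧ Inv A N)
    (a := M) ⟨hM, hinv⟩
  refine ⟨N, hMN, hN.prop.1, hN.prop.2, ?_⟩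
  intro L hNL hL
  by_contra hLtop
  exact (not_le_of_gt hNL) (hN.le_of_ge ⟨hLtop, hL⟩ hNL.le)

/-- if `M ⊔ Φ(G) = ⊤` then `M = ⊤` -/
theorem frattini_le_of_isMaxInv {M : Subgroup G} (hM : IsMaxInv A M) : frattini G ≤ M := by
  by_contra hle
  have h1 : M < M ⊔ frattini G := by
    refine lt_of_le_of_ne le_sup_left ?_
    intro h
    apply hle
    rw [h]; exact le_sup_right
  have h2 := hM.2.2 _ h1 (inv_sup hM.2.1 inv_frattini)
  exact hM.1 (frattini_nongenerating h2)

theorem frattini_ne_top [Nontrivial G] : frattini G ≠ ⊤ := by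
  intro h
  have h1 : (⊥ : Subgroup G) ⊔ frattini G = ⊤ := by rw [h, sup_top_eq]
  have h2 := frattini_nongenerating h1
  exact bot_ne_top h2

variable [Finite A]

/-- the quotient action on `G ⧸ Φ(G)` -/
noncomputable def actQ (a : A) : G ⧸ frattini G →* G ⧸ frattini G :=
  QuotientGroup.map (frattini G) (frattini G) (MulDistribMulAction.toMonoidHom G a)
    (fun x hx => inv_frattini a x hx)

omit [Finite G] [Finite A] in
theorem actQ_mk (a : A) (g : G) : actQ a (g : G ⧸ frattini G) = ((a • g : G) : G ⧸ frattini G) :=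
  rfl

/-- Relative Maschke for the Frattini quotient of a `p`-group. -/
theorem exists_inv_complement (p : ℕ) [Fact p.Prime] (hG : IsPGroup p G)
    (hcop : (Nat.card A).Coprime (Nat.card G)) (M : Subgroup G) (hMΦ : frattini G ≤ M)
    (hM : Inv A M) :
    ∃ L : Subgroup G, frattini G ≤ L ∧ Inv A L ∧ M ⊓ L = frattini G ∧ M ⊔ L = ⊤ := by
  by_cases htriv : Nat.card G = 1
  · have : Subsingleton G := (Nat.card_eq_one_iff_unique.mp htriv).1
    refine ⟨⊤, le_top, inv_top, ?_, ?_⟩ <;> exact Subsingleton.elim _ _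
  have hcop' : (Nat.card A).Coprime p := by
    obtain ⟨n, hn⟩ := hG.exists_card_eq
    rw [hn] at hcop htriv
    have hn0 : n ≠ 0 := by rintro rfl; exact htriv (pow_zero p)
    exact (Nat.coprime_pow_right_iff (Nat.pos_of_ne_zero hn0) _ _).mp hcop
  have hcomm : ∀ x y : G ⧸ frattini G, x * y = y * x := by
    intro x y
    induction x using QuotientGroup.induction_on with | _ x =>
    induction y using QuotientGroup.induction_on with | _ y =>
    rw [← QuotientGroup.mk_mul, ← QuotientGroup.mk_mul, QuotientGroup.eq]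
    apply commutator_le_frattini hG
    have : (x * y)⁻¹ * (y * x) = ⁅y⁻¹, x⁻¹⁆ := by
      rw [commutatorElement_def]; group
    rw [this]
    exact Subgroup.commutator_mem_commutator (Subgroup.mem_top _) (Subgroup.mem_top _)
  let inst : CommGroup (G ⧸ frattini G) :=
    { (inferInstance : Group (G ⧸ frattini G)) with mul_comm := hcomm }
  have hexp : ∀ v : G ⧸ frattini G, v ^ p = 1 := by
    intro v
    induction v using QuotientGroup.induction_on with | _ x =>
    rw [← QuotientGroup.mk_pow, QuotientGroup.eq_one_iff]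
    exact pow_p_mem_frattini hG x
  have h1 : ∀ v : G ⧸ frattini G, actQ (1 : A) v = v := by
    intro v
    induction v using QuotientGroup.induction_on with | _ x =>
    rw [actQ_mk, one_smul]
  have hmul : ∀ (a b : A) (v : G ⧸ frattini G), actQ (a * b) v = actQ a (actQ b v) := by
    intro a b v
    induction v using QuotientGroup.induction_on with | _ x =>
    rw [actQ_mk, actQ_mk, actQ_mk, mul_smul]
  have hU : ∀ a : A, ∀ u ∈ M.map (QuotientGroup.mk' (frattini G)),
      actQ a u ∈ M.map (QuotientGroup.mk' (frattini G)) := by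
    rintro a _ ⟨x, hx, rfl⟩
    exact ⟨a • x, hM a x hx, rfl⟩
  obtain ⟨W, hW, hUW, hUW'⟩ := @Maschke.maschke A (G ⧸ frattini G) _ _ inst _ p _ hexp hcop'
    actQ h1 hmul (M.map (QuotientGroup.mk' (frattini G))) hU
  refine ⟨W.comap (QuotientGroup.mk' (frattini G)), ?_, ?_, ?_, ?_⟩
  · intro x hx
    rw [Subgroup.mem_comap, QuotientGroup.mk'_apply, (QuotientGroup.eq_one_iff x).mpr hx]
    exact W.one_mem
  · intro a x hx
    rw [Subgroup.mem_comap] at hx ⊢
    exact hW a _ hx
  · apply le_antisymm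
    · intro x hx
      obtain ⟨hx1, hx2⟩ := Subgroup.mem_inf.mp hx
      have : (QuotientGroup.mk' (frattini G)) x ∈ M.map (QuotientGroup.mk' (frattini G)) ⊓ W :=
        ⟨⟨x, hx1, rfl⟩, hx2⟩
      rw [hUW, Subgroup.mem_bot, QuotientGroup.mk'_apply, QuotientGroup.eq_one_iff] at this
      exact this
    · refine le_inf hMΦ ?_
      intro x hx
      rw [Subgroup.mem_comap, QuotientGroup.mk'_apply, (QuotientGroup.eq_one_iff x).mpr hx]
      exact W.one_mem
  · rw [eq_top_iff]
    intro x _
    have : (QuotientGroup.mk' (frattini G)) x ∈ M.map (QuotientGroup.mk' (frattini G)) ⊔ W := by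
      rw [hUW']; trivial
    obtain ⟨u, ⟨m, hm, rfl⟩, w, hw, hmw⟩ := Subgroup.mem_sup.mp this
    obtain ⟨y, rfl⟩ := QuotientGroup.mk'_surjective (frattini G) w
    have h2 : m⁻¹ * x ∈ W.comap (QuotientGroup.mk' (frattini G)) := by
      rw [Subgroup.mem_comap, map_mul, map_inv, ← hmw, inv_mul_cancel_left]
      exact hw
    have : x = m * (m⁻¹ * x) := by rw [mul_inv_cancel_left]
    rw [this]
    exact Subgroup.mul_mem _ (Subgroup.mem_sup_left hm) (Subgroup.mem_sup_right h2)

omit [Finite A] in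
/-- under the irreducibility condition the only maximal invariant subgroup is `Φ(G)` -/
theorem isMaxInv_iff_of_irred
    (hirr : ∀ L : Subgroup G, frattini G < L → Inv A L → L = ⊤) (M : Subgroup G) :
    IsMaxInv A M ↔ (M = frattini G ∧ M ≠ ⊤) := by
  constructor
  · intro hM
    refine ⟨?_, hM.1⟩
    have hle := frattini_le_of_isMaxInv hM
    by_contra hne
    exact hM.1 (hirr M (lt_of_le_of_ne hle (Ne.symm hne)) hM.2.1)
  · rintro ⟨rfl, hne⟩
    exact ⟨hne, inv_frattini, hirr⟩

theorem card_dvd_of_forall_prime_pow_dvd {d n : ℕ} (hd : d ≠ 0) (hn : n ≠ 0)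
    (h : ∀ q : ℕ, q.Prime → q ^ d.factorization q ∣ n) : d ∣ n := by
  rw [← Nat.factorization_le_iff_dvd hd hn]
  intro q
  by_cases hq : q.Prime
  · exact (hq.pow_dvd_iff_le_factorization hn).mp (h q hq)
  · rw [Nat.factorization_eq_zero_of_not_prime _ hq]
    exact Nat.zero_le _

theorem isPGroup_and_irred_of_conj (hcop : (Nat.card A).Coprime (Nat.card G))
    (hsol : Group.IsSolvable A ∨ Group.IsSolvable G)
    (hconj : ∀ M N : Subgroup G, IsMaxInv A M → IsMaxInv A N →
      ∃ c : G, (∀ a : A, a • c = c) ∧ N = MulAut.conj c • M) :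
    (∃ p : ℕ, p.Prime ∧ IsPGroup p G) ∧
      ∀ L : Subgroup G, frattini G < L → Inv A L → L = ⊤ := by
  have hcard : ∀ M N : Subgroup G, IsMaxInv A M → IsMaxInv A N → Nat.card N = Nat.card M := by
    intro M N hM hN
    obtain ⟨c, -, rfl⟩ := hconj M N hM hN
    exact (Nat.card_congr (Subgroup.equivSMul (MulAut.conj c) M).toEquiv).symm
  have hpg : ∃ p : ℕ, p.Prime ∧ IsPGroup p G := by
    by_contra hpg
    push Not at hpg
    have hnt : Nontrivial G := by
      by_contra hnt
      rw [not_nontrivial_iff_subsingleton] at hnt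
      apply hpg 2 Nat.prime_two
      have : Fact (Nat.Prime 2) := ⟨Nat.prime_two⟩
      exact IsPGroup.of_card (n := 0) (by rw [pow_zero]; exact Nat.card_unique)
    obtain ⟨M₀, -, hM₀⟩ := exists_isMaxInv_ge (A := A) (⊥ : Subgroup G) bot_ne_top inv_bot
    have hdvd : Nat.card G ∣ Nat.card M₀ := by
      apply card_dvd_of_forall_prime_pow_dvd Nat.card_pos.ne' Nat.card_pos.ne'
      intro q hq
      have : Fact q.Prime := ⟨hq⟩
      obtain ⟨Q, hQ⟩ := ExtAct.exists_invariant_sylow hcop hsol q
      have hQtop : (Q : Subgroup G) ≠ ⊤ := by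
        intro h
        apply hpg q hq
        intro g
        have hg : g ∈ (Q : Subgroup G) := h ▸ Subgroup.mem_top g
        obtain ⟨k, hk⟩ := Q.2 ⟨g, hg⟩
        refine ⟨k, ?_⟩
        have := congrArg Subtype.val hk
        simpa using this
      obtain ⟨Mq, hQM, hMq⟩ := exists_isMaxInv_ge (A := A) (Q : Subgroup G) hQtop hQ
      rw [hcard Mq M₀ hMq hM₀, ← Q.card_eq_multiplicity]
      exact Subgroup.card_dvd_of_le hQM
    have : Nat.card M₀ = Nat.card G :=
      le_antisymm (Subgroup.card_le_card_group M₀) (Nat.le_of_dvd Nat.card_pos hdvd)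
    exact hM₀.1 ((Subgroup.card_eq_iff_eq_top M₀).mp this)
  refine ⟨hpg, ?_⟩
  obtain ⟨p, hp, hG⟩ := hpg
  have : Fact p.Prime := ⟨hp⟩
  intro L hΦL hL
  by_contra hLtop
  obtain ⟨M, hLM, hM⟩ := exists_isMaxInv_ge (A := A) L hLtop hL
  have hΦM : frattini G < M := lt_of_lt_of_le hΦL hLM
  obtain ⟨L', hΦL', hL'inv, hML', hML''⟩ := exists_inv_complement p hG hcop M hΦM.le hM.2.1
  have hL'top : L' ≠ ⊤ := by
    intro h
    rw [h, inf_top_eq] at hML'
    exact (ne_of_gt hΦM) hML'
  obtain ⟨M', hL'M', hM'⟩ := exists_isMaxInv_ge (A := A) L' hL'top hL'inv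
  obtain ⟨c, -, hc⟩ := hconj M M' hM hM'
  have hMn : M.Normal := by
    constructor
    intro m hm g
    have h1 : g * m * g⁻¹ = ⁅g, m⁆ * m := by rw [commutatorElement_def]; group
    rw [h1]
    refine M.mul_mem (hΦM.le (commutator_le_frattini hG ?_)) hm
    exact Subgroup.commutator_mem_commutator (Subgroup.mem_top _) (Subgroup.mem_top _)
  rw [Subgroup.Normal.conj_smul_eq_self] at hc
  rw [hc] at hL'M'
  apply hM.1
  rw [eq_top_iff, ← hML'']
  exact sup_le le_rfl hL'M'

end finite

end Cfsg.Agent.H2.MaxInv
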