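import Mathlib
import Cfsg.Agent.H2.ExtAction
import Cfsg.Agent.H2.MaxInvariant

/-!
# Coprime action on a group with cyclic Sylow subgroups (helper2)
-/

set_option autoImplicit false

namespace Cfsg.Agent.H2.CopZ

open Cfsg.Agent.H2 Cfsg.Agent.H2.ExtAct

section abstract

variable {A V : Type*} [Group A] [Finite A] [CommGroup V] [Finite V]

omit [Finite V] in
/-- In an abelian group under coprime action, a fixed point lying in `[V, A]` is trivial. -/
theorem fixed_comm_eq_one (hcop : (Nat.card A).Coprime (Nat.card V))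
    (act : A → V →* V) (hmul : ∀ a b v, act (a * b) v = act a (act b v))
    (c : V) (hfix : ∀ a, act a c = c)
    (hc : c ∈ Subgroup.closure {y : V | ∃ (a : A) (v : V), y = v⁻¹ * act a v}) : c = 1 := by
  classical
  have : Fintype A := Fintype.ofFinite A
  let τ : V →* V := ∏ a : A, act a
  have hτapp : ∀ v, τ v = ∏ a : A, act a v := by
    intro v; simp [τ]
  have hτact : ∀ b v, τ (act b v) = τ v := by
    intro b v
    rw [hτapp, hτapp]
    refine Fintype.prod_equiv (Equiv.mulRight b) _ _ ?_
    intro a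
    simp only [Equiv.coe_mulRight]
    rw [hmul]
  have hker : Subgroup.closure {y : V | ∃ (a : A) (v : V), y = v⁻¹ * act a v} ≤ τ.ker := by
    rw [Subgroup.closure_le]
    rintro _ ⟨a, v, rfl⟩
    rw [SetLike.mem_coe, MonoidHom.mem_ker, map_mul, map_inv, hτact, inv_mul_cancel]
  have h1 : τ c = 1 := hker hc
  have h2 : τ c = c ^ Nat.card A := by
    rw [hτapp, Finset.prod_congr rfl (fun a _ => hfix a), Finset.prod_const, Finset.card_univ,
      Nat.card_eq_fintype_card]
  rw [h2] at h1
  have h3 : orderOf c ∣ Nat.card A := orderOf_dvd_of_pow_eq_one h1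
  have h4 : orderOf c ∣ Nat.card V := orderOf_dvd_natCard c
  have h5 : orderOf c ∣ 1 := by
    have := Nat.dvd_gcd h3 h4
    rwa [Nat.Coprime.gcd_eq_one hcop] at this
  exact orderOf_eq_one_iff.mp (Nat.dvd_one.mp h5)

end abstract

variable {A G : Type*} [Group A] [Group G] [MulDistribMulAction A G]

/-- the action restricted to an invariant subgroup -/
@[instance_reducible]
def restrictAction (H : Subgroup G) (hH : ∀ a : A, ∀ x ∈ H, a • x ∈ H) :
    MulDistribMulAction A H where
  smul a x := ⟨a • x.1, hH a x.1 x.2⟩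
  one_smul x := Subtype.ext (one_smul A x.1)
  mul_smul a b x := Subtype.ext (mul_smul a b x.1)
  smul_mul a x y := Subtype.ext (smul_mul' a x.1 y.1)
  smul_one a := Subtype.ext (smul_one a)

/-- In an abelian invariant subgroup under coprime action, a fixed point lying in `[H, A]` is
trivial. -/
theorem fixed_comm_eq_one_sub [Finite A] [Finite G] (H : Subgroup G)
    (hH : ∀ a : A, ∀ x ∈ H, a • x ∈ H)
    (hcomm : ∀ x ∈ H, ∀ y ∈ H, x * y = y * x) (hcop : (Nat.card A).Coprime (Nat.card H))
    (c : G) (hcH : c ∈ comm A H) (hfix : ∀ a : A, a • c = c) : c = 1 := by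
  let inst : CommGroup H :=
    { (inferInstance : Group H) with mul_comm := fun x y => Subtype.ext (hcomm x.1 x.2 y.1 y.2) }
  let act : A → H →* H := fun a =>
    MonoidHom.mk' (fun x => ⟨a • x.1, hH a x.1 x.2⟩) (fun x y => Subtype.ext (smul_mul' a x.1 y.1))
  have hle : comm A H ≤ (Subgroup.closure {y : H | ∃ (a : A) (v : H), y = v⁻¹ * act a v}).map
      H.subtype := by
    unfold ExtAct.comm
    rw [Subgroup.closure_le]
    rintro _ ⟨a, h, hh, rfl⟩
    refine ⟨(⟨h, hh⟩ : H)⁻¹ * act a ⟨h, hh⟩, Subgroup.subset_closure ⟨a, ⟨h, hh⟩, rfl⟩, rfl⟩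
  obtain ⟨c', hc', rfl⟩ := hle hcH
  have := @fixed_comm_eq_one A H _ _ inst hcop act
    (fun a b v => Subtype.ext (mul_smul a b v.1)) c'
    (fun a => Subtype.ext (hfix a)) hc'
  rw [this]; rfl

section zgroup

variable [Finite G]

omit [Finite G] in
/-- every `g⁻¹ (a • g)` centralizes the (cyclic) commutator subgroup -/
theorem comm_top_le_centralizer_commutator (hc : IsCyclic (commutator G)) :
    comm A (⊤ : Subgroup G) ≤ Subgroup.centralizer (commutator G : Set G) := by
  obtain ⟨⟨z, hz⟩, hgen⟩ := hc.exists_generator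
  have hzgen : ∀ x ∈ commutator G, ∃ n : ℤ, x = z ^ n := by
    intro x hx
    obtain ⟨n, hn⟩ := Subgroup.mem_zpowers_iff.mp (hgen ⟨x, hx⟩)
    refine ⟨n, ?_⟩
    have := congrArg Subtype.val hn
    simpa using this.symm
  have hinv : ∀ a : A, ∀ x ∈ commutator G, a • x ∈ commutator G :=
    MaxInv.inv_of_characteristic (commutator G)
  -- conjugation acts as a power map
  have hpow : ∀ g : G, ∃ k : ℤ, ∀ y ∈ commutator G, g * y * g⁻¹ = y ^ k := by
    intro g
    have hn : (commutator G).Normal := inferInstance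
    obtain ⟨k, hk⟩ := hzgen _ (hn.conj_mem z hz g)
    refine ⟨k, ?_⟩
    intro y hy
    obtain ⟨n, rfl⟩ := hzgen y hy
    rw [← zpow_mul, mul_comm, zpow_mul, ← hk]
    exact map_zpow (MulAut.conj g) z n
  unfold ExtAct.comm
  rw [Subgroup.closure_le]
  rintro _ ⟨a, g, -, rfl⟩
  rw [SetLike.mem_coe, Subgroup.mem_centralizer_iff]
  intro x hx
  obtain ⟨k, hk⟩ := hpow g
  have h1 : (a • g) * x * (a • g)⁻¹ = g * x * g⁻¹ := by
    have h2 : (a • g) * x * (a • g)⁻¹ = a • (g * (a⁻¹ • x) * g⁻¹) := by
      rw [smul_mul', smul_mul', smul_inv', smul_inv_smul]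
    rw [h2, hk _ (hinv a⁻¹ x hx), smul_zpow', smul_inv_smul, hk x hx]
  have h3 : (a • g) * x = g * x * g⁻¹ * (a • g) := by
    rw [← h1]; group
  calc x * (g⁻¹ * a • g) = g⁻¹ * (g * x * g⁻¹ * (a • g)) := by group
    _ = g⁻¹ * a • g * x := by rw [← h3]; group

/-- the centralizer of the commutator subgroup of a finite `Z`-group is abelian -/
theorem centralizer_commutator_comm [IsZGroup G] :
    ∀ x ∈ Subgroup.centralizer (commutator G : Set G),
      ∀ y ∈ Subgroup.centralizer (commutator G : Set G), x * y = y * x := by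
  have hcab : IsCyclic (Abelianization G) := inferInstance
  have hcab' : IsCyclic (G ⧸ commutator G) := hcab
  let Z := Subgroup.centralizer (commutator G : Set G)
  have hcZ : IsCyclic (Z.map (QuotientGroup.mk' (commutator G))) := inferInstance
  obtain ⟨⟨w, ⟨z₀, hz₀, rfl⟩⟩, hgen⟩ := hcZ.exists_generator
  have hdec : ∀ x ∈ Z, ∃ (n : ℤ) (u : G), u ∈ commutator G ∧ x = z₀ ^ n * u := by
    intro x hx
    obtain ⟨n, hn⟩ := Subgroup.mem_zpowers_iff.mp
      (hgen ⟨(QuotientGroup.mk' (commutator G)) x, ⟨x, hx, rfl⟩⟩)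
    have h1 : ((QuotientGroup.mk' (commutator G)) z₀) ^ n = (QuotientGroup.mk' (commutator G)) x := by
      have := congrArg Subtype.val hn
      simpa using this
    rw [← map_zpow, QuotientGroup.mk'_apply, QuotientGroup.mk'_apply, QuotientGroup.eq] at h1
    exact ⟨n, (z₀ ^ n)⁻¹ * x, h1, by group⟩
  have hcc : IsCyclic (commutator G) := IsZGroup.isCyclic_commutator G
  have hcomm' : ∀ u ∈ commutator G, ∀ v ∈ commutator G, u * v = v * u := by
    intro u hu v hv
    have := hcc.commGroup.mul_comm ⟨u, hu⟩ ⟨v, hv⟩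
    exact congrArg Subtype.val this
  intro x hx y hy
  obtain ⟨n, u, hu, rfl⟩ := hdec x hx
  obtain ⟨m, v, hv, rfl⟩ := hdec y hy
  have hz₀u : ∀ w ∈ commutator G, ∀ j : ℤ, z₀ ^ j * w = w * z₀ ^ j := by
    intro w hw j
    have h1 : Commute w z₀ := (Subgroup.mem_centralizer_iff.mp hz₀ w hw)
    exact ((h1.zpow_right j).eq).symm
  calc z₀ ^ n * u * (z₀ ^ m * v) = z₀ ^ n * (u * z₀ ^ m) * v := by group
    _ = z₀ ^ n * (z₀ ^ m * u) * v := by rw [hz₀u u hu m]
    _ = (z₀ ^ n * z₀ ^ m) * (u * v) := by group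
    _ = (z₀ ^ m * z₀ ^ n) * (v * u) := by
        rw [hcomm' u hu v hv, ← zpow_add, ← zpow_add, add_comm]
    _ = z₀ ^ m * (z₀ ^ n * v) * u := by group
    _ = z₀ ^ m * (v * z₀ ^ n) * u := by rw [hz₀u v hv n]
    _ = z₀ ^ m * v * (z₀ ^ n * u) := by group

variable [Finite A]

theorem main (hcop : (Nat.card A).Coprime (Nat.card G)) [hZ : IsZGroup G] :
    (Nat.card (FixedPoints.subgroup A G)).Coprime ((FixedPoints.subgroup A G).index) ∧
    IsCyclic (comm A (⊤ : Subgroup G)) ∧ (comm A (⊤ : Subgroup G)).Normal ∧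
    (∀ c ∈ comm A (⊤ : Subgroup G), (∀ a : A, a • c = c) → c = 1) ∧
    comm A (⊤ : Subgroup G) ⊔ FixedPoints.subgroup A G = ⊤ := by
  have hsolv : Group.IsSolvable A ∨ Group.IsSolvable G := Or.inr inferInstance
  have hDinv : ∀ a : A, ∀ x ∈ comm A (⊤ : Subgroup G), a • x ∈ comm A (⊤ : Subgroup G) :=
    comm_invariant ⊤ MaxInv.inv_top
  have hDZ : comm A (⊤ : Subgroup G) ≤ Subgroup.centralizer (commutator G : Set G) :=
    comm_top_le_centralizer_commutator (IsZGroup.isCyclic_commutator G)
  have hDcomm : ∀ x ∈ comm A (⊤ : Subgroup G), ∀ y ∈ comm A (⊤ : Subgroup G), x * y = y * x :=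
    fun x hx y hy => centralizer_commutator_comm x (hDZ hx) y (hDZ hy)
  refine ⟨?_, ?_, comm_top_normal, ?_, ?_⟩
  · -- Hall
    apply Nat.Coprime.symm
    apply Nat.coprime_of_dvd
    intro p hp hpi hpC
    have : Fact p.Prime := ⟨hp⟩
    let S : Sylow p (FixedPoints.subgroup A G) := default
    have hUfix : ∀ x ∈ (S : Subgroup (FixedPoints.subgroup A G)).map
        (FixedPoints.subgroup A G).subtype, ∀ a : A, a • x = x := by
      rintro _ ⟨x, -, rfl⟩ a
      exact x.2 a
    have hUinv : ∀ a : A, ∀ x ∈ (S : Subgroup (FixedPoints.subgroup A G)).map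
        (FixedPoints.subgroup A G).subtype, a • x ∈ (S : Subgroup (FixedPoints.subgroup A G)).map
        (FixedPoints.subgroup A G).subtype := by
      intro a x hx
      rw [hUfix x hx a]; exact hx
    obtain ⟨P, hUP, hP⟩ := exists_invariant_sylow_ge hcop hsolv p _ (S.2.map _) hUinv
    have hPcyc : IsCyclic (P : Subgroup G) := inferInstance
    have hPcomm : ∀ x ∈ (P : Subgroup G), ∀ y ∈ (P : Subgroup G), x * y = y * x := by
      intro x hx y hy
      have := hPcyc.commGroup.mul_comm ⟨x, hx⟩ ⟨y, hy⟩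
      exact congrArg Subtype.val this
    have hcopP : (Nat.card (P : Subgroup G)).Coprime (Nat.card A) :=
      (Nat.Coprime.coprime_dvd_right (Subgroup.card_subgroup_dvd_card _) hcop).symm
    rcases @IsPGroup.smul_mul_inv_trivial_or_surjective (P : Subgroup G) _ p _ hPcyc P.2 A _
      (restrictAction (P : Subgroup G) hP) hcopP with h | h
    · -- trivial action: `P ≤ C`
      have hPC : (P : Subgroup G) ≤ FixedPoints.subgroup A G := by
        intro g hg a
        have h1 := h ⟨g, hg⟩ a
        have h2 : a • g * g⁻¹ = 1 := congrArg Subtype.val h1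
        exact mul_inv_eq_one.mp h2
      exact P.not_dvd_index (dvd_trans hpi (Subgroup.index_dvd_of_le hPC))
    · -- fixed-point-free: the Sylow subgroup of `C` is trivial
      have hU : (S : Subgroup (FixedPoints.subgroup A G)).map
          (FixedPoints.subgroup A G).subtype = ⊥ := by
        rw [eq_bot_iff]
        intro u hu
        rw [Subgroup.mem_bot]
        obtain ⟨k, q, hkq⟩ := h ⟨u, hUP hu⟩
        have h2 : k • q.1 * q.1⁻¹ = u := congrArg Subtype.val hkq
        apply fixed_comm_eq_one_sub (A := A) (P : Subgroup G) hP hPcomm hcopP.symm u ?_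
          (hUfix u hu)
        apply Subgroup.subset_closure
        refine ⟨k, q.1, q.2, ?_⟩
        rw [← h2]
        exact hPcomm _ (hP k q.1 q.2) _ ((P : Subgroup G).inv_mem q.2)
      have hS : Nat.card S = 1 := by
        rw [← Subgroup.card_map_of_injective (Subgroup.subtype_injective _), hU]
        exact Subgroup.card_bot
      rw [S.card_eq_multiplicity] at hS
      have hv : (Nat.card (FixedPoints.subgroup A G)).factorization p = 0 := by
        by_contra hv
        have := Nat.one_lt_pow hv hp.one_lt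
        omega
      have := (hp.dvd_iff_one_le_factorization Nat.card_pos.ne').mp hpC
      omega
  · -- cyclic
    let inst : CommGroup (comm A (⊤ : Subgroup G)) :=
      { (inferInstance : Group (comm A (⊤ : Subgroup G))) with
        mul_comm := fun x y => Subtype.ext (hDcomm x.1 x.2 y.1 y.2) }
    have hnil : Group.IsNilpotent (comm A (⊤ : Subgroup G)) := @CommGroup.isNilpotent _ inst
    infer_instance
  · intro c hc hfix
    have hcopD : (Nat.card A).Coprime (Nat.card (comm A (⊤ : Subgroup G))) :=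
      Nat.Coprime.coprime_dvd_right (Subgroup.card_subgroup_dvd_card _) hcop
    apply fixed_comm_eq_one_sub (A := A) _ hDinv hDcomm hcopD c ?_ hfix
    rw [comm_comm hcop hsolv ⊤ MaxInv.inv_top]
    exact hc
  · have := comm_sup_fixed hcop hsolv (⊤ : Subgroup G) MaxInv.inv_top
    rw [top_inf_eq] at this
    exact this

end zgroup

end Cfsg.Agent.H2.CopZ
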