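import Mathlib
import Cfsg.Prelude.Def_OddOrderLocal

/-!
# A Sylow `3`-subgroup with small normalizer: structure lemmas

Setting: `P` an abelian Sylow `3`-subgroup, `|N_G(P)| = 4|P|`, `|C_G(P)| = 2|P|`, `C_G(P)` a
TI-subgroup, all proper subgroups of even order have order dividing `4|P|`, `G` simple.
-/

set_option autoImplicit false
set_option linter.unusedSectionVars false
set_option linter.unusedVariables false

namespace Cfsg.Agent.H2.KleinRes

open Subgroup

variable {G : Type*} [Group G] [Finite G]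

/-- A `p`-element normalizing a Sylow `p`-subgroup lies in it. -/
theorem mem_sylow_of_mem_normalizer {p : ℕ} [Fact p.Prime] (P : Sylow p G) {y : G}
    (hy : y ∈ normalizer ((P : Subgroup G) : Set G)) {k : ℕ} (hk : y ^ (p ^ k) = 1) :
    y ∈ (P : Subgroup G) := by
  have hZ : IsPGroup p (zpowers y) := by
    have hd : orderOf y ∣ p ^ k := orderOf_dvd_of_pow_eq_one hk
    obtain ⟨j, _, hj⟩ := (Nat.dvd_prime_pow (Fact.out)).1 hd
    apply IsPGroup.of_card (n := j)
    rw [Nat.card_zpowers, hj]
  have hle : zpowers y ≤ normalizer ((P : Subgroup G) : Set G) := by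
    rw [zpowers_le]; exact hy
  have hsup : IsPGroup p ((P : Subgroup G) ⊔ zpowers y : Subgroup G) :=
    IsPGroup.to_sup_of_normal_left' P.isPGroup' hZ hle
  have h := P.is_maximal' hsup le_sup_left
  have : y ∈ ((P : Subgroup G) ⊔ zpowers y : Subgroup G) :=
    (le_sup_right : zpowers y ≤ _) (mem_zpowers y)
  rw [h] at this
  exact this

/-- An element of odd order whose square is trivial is trivial. -/
theorem eq_one_of_sq_of_odd_pow {y : G} {n : ℕ} (hn : Odd n) (h2 : y * y = 1) (hyn : y ^ n = 1) :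
    y = 1 := by
  obtain ⟨j, hj⟩ := hn
  rw [hj, pow_succ, pow_mul, pow_two, h2, one_pow, one_mul] at hyn
  exact hyn

theorem mul_self_of_orderOf_two {a : G} (h : orderOf a = 2) : a * a = 1 := by
  have := pow_orderOf_eq_one a
  rw [h, pow_two] at this
  exact this

theorem ne_one_of_orderOf_two {a : G} (h : orderOf a = 2) : a ≠ 1 := by
  rintro rfl
  rw [orderOf_one] at h
  omega

theorem orderOf_two_of {a : G} (h : a * a = 1) (h1 : a ≠ 1) : orderOf a = 2 :=
  orderOf_eq_prime (by rw [pow_two, h]) h1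

theorem inv_of_mul_self {a : G} (h : a * a = 1) : a⁻¹ = a := inv_eq_of_mul_eq_one_left h

section main

variable (P : Sylow 3 G)

theorem card_P_pow : ∃ k : ℕ, Nat.card P = 3 ^ k := IsPGroup.iff_card.mp P.isPGroup'

theorem card_P_odd : Odd (Nat.card P) := by
  obtain ⟨k, hk⟩ := card_P_pow P
  rw [hk]
  exact Odd.pow (by decide)

theorem pow_card_P {y : G} (hy : y ∈ (P : Subgroup G)) : y ^ Nat.card P = 1 := by
  have := pow_card_eq_one' (G := (P : Subgroup G)) (x := ⟨y, hy⟩)
  exact congrArg Subtype.val this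

variable (hab : IsMulCommutative P)
    (hN : Nat.card (normalizer ((P : Subgroup G) : Set G)) = 4 * Nat.card P)
    (hC : Nat.card (centralizer (P : Set G)) = 2 * Nat.card P)

include hab in
theorem P_le_C : (P : Subgroup G) ≤ centralizer (P : Set G) :=
  le_centralizer_iff_isMulCommutative.2 hab

include hN hC in
theorem three_dvd_card_P : 3 ∣ Nat.card P := by
  obtain ⟨k, hk⟩ := card_P_pow P
  rcases Nat.eq_zero_or_pos k with h0 | h0
  · exfalso
    rw [h0, pow_zero] at hk
    have hbot : (P : Subgroup G) = ⊥ := Subgroup.eq_bot_of_card_eq _ hk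
    have hCtop : centralizer (P : Set G) = ⊤ := by
      rw [show (P : Set G) = ((P : Subgroup G) : Set G) from rfl, hbot]
      simp
    have hNtop : normalizer ((P : Subgroup G) : Set G) = ⊤ :=
      top_le_iff.1 (hCtop ▸ centralizer_le_normalizer _)
    rw [hCtop] at hC
    rw [hNtop] at hN
    omega
  · rw [hk]
    exact dvd_pow_self 3 (by omega)

include hC in
theorem exists_invol : ∃ t : G, t ∈ centralizer (P : Set G) ∧ orderOf t = 2 := by
  haveI : Fact (Nat.Prime 2) := ⟨Nat.prime_two⟩
  have h2 : 2 ∣ Nat.card (centralizer (P : Set G)) := by rw [hC]; exact dvd_mul_right 2 _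
  obtain ⟨x, hx⟩ := exists_prime_orderOf_dvd_card' (G := centralizer (P : Set G)) 2 h2
  exact ⟨x.1, x.2, by rw [← hx]; exact (Subgroup.orderOf_coe x)⟩

theorem invol_not_mem_P {t : G} (ht2 : orderOf t = 2) : t ∉ (P : Subgroup G) := by
  intro h
  exact ne_one_of_orderOf_two ht2
    (eq_one_of_sq_of_odd_pow (card_P_odd P) (mul_self_of_orderOf_two ht2) (pow_card_P P h))

include hab hC in
theorem invol_unique {t : G} (ht : t ∈ centralizer (P : Set G)) (ht2 : orderOf t = 2)
    {c : G} (hc : c ∈ centralizer (P : Set G)) (hc2 : orderOf c = 2) : c = t := by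
  have hPC := P_le_C P hab
  have hcardH : Nat.card ((P : Subgroup G).subgroupOf (centralizer (P : Set G))) = Nat.card P :=
    Nat.card_congr (Subgroup.subgroupOfEquivOfLe hPC).toEquiv
  have hidx : ((P : Subgroup G).subgroupOf (centralizer (P : Set G))).index = 2 := by
    have h1 := Subgroup.card_mul_index ((P : Subgroup G).subgroupOf (centralizer (P : Set G)))
    rw [hcardH, hC] at h1
    have hpos : 0 < Nat.card P := Nat.card_pos
    have h2 : Nat.card P * ((P : Subgroup G).subgroupOf (centralizer (P : Set G))).index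
        = Nat.card P * 2 := by rw [h1]; ring
    exact Nat.eq_of_mul_eq_mul_left hpos h2
  have htP : (⟨t, ht⟩ : centralizer (P : Set G)) ∉
      (P : Subgroup G).subgroupOf (centralizer (P : Set G)) := by
    rw [Subgroup.mem_subgroupOf]
    exact invol_not_mem_P P ht2
  have hcP : (⟨c, hc⟩ : centralizer (P : Set G)) ∉
      (P : Subgroup G).subgroupOf (centralizer (P : Set G)) := by
    rw [Subgroup.mem_subgroupOf]
    exact invol_not_mem_P P hc2
  have hmem : (⟨c, hc⟩ : centralizer (P : Set G)) * ⟨t, ht⟩ ∈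
      (P : Subgroup G).subgroupOf (centralizer (P : Set G)) := by
    rw [Subgroup.mul_mem_iff_of_index_two hidx]
    exact ⟨fun h => absurd h hcP, fun h => absurd h htP⟩
  rw [Subgroup.mem_subgroupOf] at hmem
  have hy : c * t ∈ (P : Subgroup G) := hmem
  have htt := mul_self_of_orderOf_two ht2
  have hcc := mul_self_of_orderOf_two hc2
  have hcomm : (c * t) * t = t * (c * t) := (mem_centralizer_iff.1 ht (c * t) hy)
  have hyy : (c * t) * (c * t) = 1 := by
    have e1 : c = (c * t) * t := by
      rw [mul_assoc, htt, mul_one]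
    calc (c * t) * (c * t) = (c * t) * ((c * t) * t * t) := by rw [← e1]
      _ = (c * t) * (t * (c * t) * t) := by rw [hcomm]
      _ = ((c * t) * t) * ((c * t) * t) := by group
      _ = c * c := by rw [← e1]
      _ = 1 := hcc
  have h1 : c * t = 1 := eq_one_of_sq_of_odd_pow (card_P_odd P) hyy (pow_card_P P hy)
  calc c = c * (t * t) := by rw [htt, mul_one]
    _ = (c * t) * t := by group
    _ = t := by rw [h1, one_mul]

/-- The normalizer of `P` normalizes the centralizer of `P`. -/
theorem conj_mem_centralizer {g : G} (hg : g ∈ normalizer ((P : Subgroup G) : Set G))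
    {c : G} (hc : c ∈ centralizer (P : Set G)) : g * c * g⁻¹ ∈ centralizer (P : Set G) := by
  rw [mem_centralizer_iff]
  intro y hy
  have hy' : g⁻¹ * y * g ∈ (P : Subgroup G) := (mem_set_normalizer_iff''.1 hg y).1 hy
  have h1 := mem_centralizer_iff.1 hc (g⁻¹ * y * g) hy'
  calc y * (g * c * g⁻¹) = g * ((g⁻¹ * y * g) * c) * g⁻¹ := by group
    _ = g * (c * (g⁻¹ * y * g)) * g⁻¹ := by rw [h1]
    _ = g * c * g⁻¹ * y := by group

theorem orderOf_conj_two {t : G} (ht2 : orderOf t = 2) (g : G) : orderOf (g * t * g⁻¹) = 2 := by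
  have htt := mul_self_of_orderOf_two ht2
  apply orderOf_two_of
  · calc g * t * g⁻¹ * (g * t * g⁻¹) = g * (t * t) * g⁻¹ := by group
      _ = 1 := by rw [htt]; group
  · intro h
    apply ne_one_of_orderOf_two ht2
    calc t = g⁻¹ * (g * t * g⁻¹) * g := by group
      _ = 1 := by rw [h]; group

variable (heven : ∀ H : Subgroup G, H ≠ ⊤ → 2 ∣ Nat.card H → Nat.card H ∣ 4 * Nat.card P)
    (hs : IsSimpleGroup G)

include hab hN hC heven hs in
theorem centralizer_invol_eq {t : G} (ht : t ∈ centralizer (P : Set G)) (ht2 : orderOf t = 2) :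
    centralizer ({t} : Set G) = normalizer ((P : Subgroup G) : Set G) := by
  have hle : normalizer ((P : Subgroup G) : Set G) ≤ centralizer ({t} : Set G) := by
    intro g hg
    rw [mem_centralizer_singleton_iff]
    have h1 := invol_unique P hab hC ht ht2 (conj_mem_centralizer P hg ht)
      (orderOf_conj_two ht2 g)
    calc g * t = (g * t * g⁻¹) * g := by group
      _ = t * g := by rw [h1]
  have hne : centralizer ({t} : Set G) ≠ ⊤ := by
    intro htop
    have hnorm : (zpowers t).Normal := by
      constructor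
      intro x hx g
      have hg : g ∈ centralizer ({t} : Set G) := htop ▸ mem_top g
      obtain ⟨k, hk⟩ := mem_zpowers_iff.1 hx
      have hcm : Commute g t := mem_centralizer_singleton_iff.1 hg
      have hcm2 : Commute g (t ^ k) := hcm.zpow_right k
      have e : g * x * g⁻¹ = x := by
        rw [← hk]
        calc g * t ^ k * g⁻¹ = (t ^ k * g) * g⁻¹ := by rw [hcm2.eq]
          _ = t ^ k := by group
      rw [e]
      exact hx
    rcases hnorm.eq_bot_or_eq_top with h | h
    · apply ne_one_of_orderOf_two ht2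
      have : t ∈ (zpowers t) := mem_zpowers t
      rw [h, mem_bot] at this
      exact this
    · have hcard : Nat.card (zpowers t) = Nat.card G := by
        rw [h]; exact Subgroup.card_top
      rw [Nat.card_zpowers, ht2] at hcard
      have hdvd := Subgroup.card_subgroup_dvd_card (normalizer ((P : Subgroup G) : Set G))
      rw [hN, ← hcard] at hdvd
      have hpos : 0 < Nat.card P := Nat.card_pos
      have := Nat.le_of_dvd (by norm_num) hdvd
      omega
  have h2 : 2 ∣ Nat.card (centralizer ({t} : Set G)) := by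
    have h := Subgroup.orderOf_dvd_natCard (centralizer ({t} : Set G))
      (x := t) (mem_centralizer_singleton_iff.2 rfl)
    rwa [ht2] at h
  have hdvd := heven _ hne h2
  have hle2 : Nat.card (centralizer ({t} : Set G)) ≤
      Nat.card (normalizer ((P : Subgroup G) : Set G)) := by
    rw [hN]
    exact Nat.le_of_dvd (by have : 0 < Nat.card P := Nat.card_pos; omega) hdvd
  exact (Subgroup.eq_of_le_of_card_ge hle hle2).symm

theorem three_elt_mem_P {y : G} (hy : y ∈ normalizer ((P : Subgroup G) : Set G)) {k : ℕ}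
    (hk : y ^ (3 ^ k) = 1) : y ∈ (P : Subgroup G) :=
  mem_sylow_of_mem_normalizer P hy hk

include hab in
theorem normalizer_C_le :
    normalizer ((centralizer (P : Set G) : Subgroup G) : Set G)
      ≤ normalizer ((P : Subgroup G) : Set G) := by
  intro g hg
  obtain ⟨k, hk⟩ := card_P_pow P
  have hPC := P_le_C P hab
  have hCN : centralizer (P : Set G) ≤ normalizer ((P : Subgroup G) : Set G) :=
    centralizer_le_normalizer _
  rw [mem_set_normalizer_iff] at hg ⊢
  intro y
  constructor
  · intro hy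
    have h1 : g * y * g⁻¹ ∈ centralizer (P : Set G) := (hg y).1 (hPC hy)
    apply three_elt_mem_P P (hCN h1) (k := k)
    rw [conj_pow, ← hk, pow_card_P P hy]
    group
  · intro hy
    have h1 : y ∈ centralizer (P : Set G) := (hg y).2 (hPC hy)
    apply three_elt_mem_P P (hCN h1) (k := k)
    have h2 := pow_card_P P hy
    rw [conj_pow, hk] at h2
    calc y ^ 3 ^ k = g⁻¹ * (g * y ^ 3 ^ k * g⁻¹) * g := by group
      _ = 1 := by rw [h2]; group

variable (hTI : Cfsg.IsTISubset (centralizer (P : Set G) : Set G))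

include hab hTI in
theorem TI_use {y g : G} (hy : y ∈ (P : Subgroup G)) (hy1 : y ≠ 1)
    (hgy : g * y * g⁻¹ ∈ (P : Subgroup G)) : g ∈ normalizer ((P : Subgroup G) : Set G) := by
  by_contra hg
  have hg' : g ∉ normalizer ((centralizer (P : Set G) : Subgroup G) : Set G) :=
    fun h => hg (normalizer_C_le P hab h)
  exact hy1 (hTI g hg' y (P_le_C P hab hy) (P_le_C P hab hgy))

include hN hC heven hs in
theorem card_G_eq : ∃ g₀ : ℕ, Odd g₀ ∧ Nat.card G = 4 * g₀ ∧
    ¬ ∃ K : Subgroup G, K.Normal ∧ Nat.card K = g₀ := by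
  haveI : Fact (Nat.Prime 2) := ⟨Nat.prime_two⟩
  have h3 := three_dvd_card_P P hN hC
  have hodd := card_P_odd P
  have hNdvd := Subgroup.card_subgroup_dvd_card (normalizer ((P : Subgroup G) : Set G))
  rw [hN] at hNdvd
  have h4 : 4 ∣ Nat.card G := (dvd_mul_right 4 _).trans hNdvd
  have h3G : 3 ∣ Nat.card G := (h3.trans (dvd_mul_left _ 4)).trans hNdvd
  have h8 : ¬ 8 ∣ Nat.card G := by
    intro h
    obtain ⟨K, hK⟩ := Sylow.exists_subgroup_card_pow_prime 2 (n := 3) (G := G) (by simpa using h)
    have hKne : K ≠ ⊤ := by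
      rintro rfl
      rw [Subgroup.card_top] at hK
      rw [hK] at h3G
      norm_num at h3G
    have hd := heven K hKne (by rw [hK]; norm_num)
    rw [hK] at hd
    obtain ⟨j, hj⟩ := hodd
    rw [hj] at hd
    omega
  obtain ⟨g₀, hg₀⟩ := h4
  have hodd0 : Odd g₀ := by
    rw [← Nat.not_even_iff_odd]
    intro he
    obtain ⟨r, hr⟩ := he
    apply h8
    rw [hg₀, hr]
    exact ⟨r, by ring⟩
  refine ⟨g₀, hodd0, hg₀, ?_⟩
  rintro ⟨K, hKn, hKc⟩
  have hpos : 0 < Nat.card G := Nat.card_pos
  rcases hKn.eq_bot_or_eq_top with h | h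
  · rw [h, Subgroup.card_bot] at hKc
    rw [← hKc] at hg₀
    rw [hg₀] at h3G
    norm_num at h3G
  · rw [h, Subgroup.card_top] at hKc
    omega

theorem sylow2_comm (S : Sylow 2 G) (hexp : ∀ x : S, x * x = 1) {a b : G}
    (ha : a ∈ (S : Subgroup G)) (hb : b ∈ (S : Subgroup G)) : a * b = b * a := by
  have haa : a * a = 1 := congrArg Subtype.val (hexp ⟨a, ha⟩)
  have hbb : b * b = 1 := congrArg Subtype.val (hexp ⟨b, hb⟩)
  have hab' : (a * b) * (a * b) = 1 := congrArg Subtype.val (hexp ⟨a * b, mul_mem ha hb⟩)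
  calc a * b = (b * b) * (a * b) * (a * a) := by rw [haa, hbb, one_mul, mul_one]
    _ = b * (b * a) * ((b * a) * a) := by group
    _ = b * ((b * a) * (b * a)) * a := by group
    _ = b * a := by
      have : (b * a) * (b * a) = 1 := by
        calc (b * a) * (b * a) = b * ((a * b) * (a * b)) * b⁻¹ := by group
          _ = 1 := by rw [hab']; group
      rw [this, mul_one]

include hab hN hC heven hs hTI in
theorem card_centralizer_sylow2 (S : Sylow 2 G) (hS4 : Nat.card S = 4)
    (hexp : ∀ x : S, x * x = 1)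
    (hone : ∀ s t : G, orderOf s = 2 → orderOf t = 2 → IsConj s t)
    {t : G} (ht : t ∈ centralizer (P : Set G)) (ht2 : orderOf t = 2)
    (htS : t ∈ (S : Subgroup G)) :
    Nat.card (centralizer ((S : Subgroup G) : Set G)) = 4 := by
  haveI : Fact (Nat.Prime 2) := ⟨Nat.prime_two⟩
  haveI : Fact (Nat.Prime 3) := ⟨Nat.prime_three⟩
  have hCt := centralizer_invol_eq P hab hN hC heven hs ht ht2
  have hSC : (S : Subgroup G) ≤ centralizer ((S : Subgroup G) : Set G) := by
    intro a ha
    rw [mem_centralizer_iff]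
    intro b hb
    exact sylow2_comm S hexp hb ha
  have hCSN : centralizer ((S : Subgroup G) : Set G) ≤ normalizer ((P : Subgroup G) : Set G) := by
    rw [← hCt]
    exact centralizer_le (Set.singleton_subset_iff.2 htS)
  -- another involution in S
  obtain ⟨u, huS, hut, hu2⟩ : ∃ u : G, u ∈ (S : Subgroup G) ∧ u ≠ t ∧ orderOf u = 2 := by
    by_contra hcon
    push Not at hcon
    have hle : (S : Subgroup G) ≤ zpowers t := by
      intro a ha
      by_cases ha1 : a = 1
      · rw [ha1]; exact one_mem _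
      by_cases hat : a = t
      · rw [hat]; exact mem_zpowers t
      · exfalso
        have haa : a * a = 1 := congrArg Subtype.val (hexp ⟨a, ha⟩)
        exact hcon a ha hat (orderOf_two_of haa ha1)
    have := Nat.le_of_dvd Nat.card_pos (Subgroup.card_dvd_of_le hle)
    rw [Nat.card_zpowers, ht2] at this
    have h4 : Nat.card (S : Subgroup G) = 4 := hS4
    omega
  -- fusion
  obtain ⟨c, hc⟩ := isConj_iff.1 (hone t u ht2 hu2)
  have hfus := Sylow.conj_eq_normalizer_conj_of_mem_centralizer S t c⁻¹ (hSC htS)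
    (by rw [inv_inv, hc]; exact hSC huS)
  obtain ⟨m, hm, hmeq⟩ := hfus
  rw [inv_inv, hc] at hmeq
  have hmN : m ∉ normalizer ((P : Subgroup G) : Set G) := by
    intro h
    rw [← hCt, mem_centralizer_singleton_iff] at h
    apply hut
    rw [hmeq]
    calc m⁻¹ * t * m = m⁻¹ * (t * m) := by group
      _ = m⁻¹ * (m * t) := by rw [h]
      _ = t := by group
  -- no element of order 3 in C(S)
  have hno3 : ¬ 3 ∣ Nat.card (centralizer ((S : Subgroup G) : Set G)) := by
    intro h3
    obtain ⟨y, hy⟩ := exists_prime_orderOf_dvd_card'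
      (G := centralizer ((S : Subgroup G) : Set G)) 3 h3
    have hy3 : (y : G) ^ 3 ^ 1 = 1 := by
      have := pow_orderOf_eq_one y
      rw [hy] at this
      rw [pow_one]
      exact_mod_cast congrArg Subtype.val this
    have hy1 : (y : G) ≠ 1 := by
      intro h
      have : y = 1 := Subtype.ext h
      rw [this, orderOf_one] at hy
      omega
    have hyP : (y : G) ∈ (P : Subgroup G) := three_elt_mem_P P (hCSN y.2) hy3
    have hy'CS : m⁻¹ * (y : G) * m⁻¹⁻¹ ∈ centralizer ((S : Subgroup G) : Set G) := by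
      rw [mem_centralizer_iff]
      intro s hs'
      have hms : m * s * m⁻¹ ∈ (S : Subgroup G) := (mem_set_normalizer_iff.1 hm s).1 hs'
      have h1 := mem_centralizer_iff.1 y.2 (m * s * m⁻¹) hms
      calc s * (m⁻¹ * (y : G) * m⁻¹⁻¹) = m⁻¹ * ((m * s * m⁻¹) * (y : G)) * m := by group
        _ = m⁻¹ * ((y : G) * (m * s * m⁻¹)) * m := by rw [h1]
        _ = m⁻¹ * (y : G) * m⁻¹⁻¹ * s := by group
    have hy'P : m⁻¹ * (y : G) * m⁻¹⁻¹ ∈ (P : Subgroup G) := by
      apply three_elt_mem_P P (hCSN hy'CS) (k := 1)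
      rw [conj_pow, hy3]
      group
    have := TI_use P hab hTI hyP hy1 hy'P
    exact hmN (inv_mem_iff.1 this)
  obtain ⟨k, hk⟩ := card_P_pow P
  have hdvd : Nat.card (centralizer ((S : Subgroup G) : Set G)) ∣ 4 * 3 ^ k := by
    rw [← hk, ← hN]
    exact Subgroup.card_dvd_of_le hCSN
  have hcop : Nat.Coprime (Nat.card (centralizer ((S : Subgroup G) : Set G))) (3 ^ k) := by
    apply Nat.Coprime.pow_right
    exact (Nat.Prime.coprime_iff_not_dvd Nat.prime_three).2 hno3 |>.symm
  have hd4 : Nat.card (centralizer ((S : Subgroup G) : Set G)) ∣ 4 :=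
    hcop.dvd_of_dvd_mul_right hdvd
  have h4d : 4 ∣ Nat.card (centralizer ((S : Subgroup G) : Set G)) := by
    have := Subgroup.card_dvd_of_le hSC
    have h4 : Nat.card (S : Subgroup G) = 4 := hS4
    rwa [h4] at this
  exact Nat.dvd_antisymm hd4 h4d

theorem invol_mem_normalizer_zpowers {c x : G} (hc : c * c = 1)
    (h : c * x * c⁻¹ ∈ zpowers x) :
    c ∈ normalizer ((zpowers x : Subgroup G) : Set G) := by
  have key : ∀ u ∈ zpowers x, c * u * c⁻¹ ∈ zpowers x := by
    intro u hu
    obtain ⟨k, rfl⟩ := mem_zpowers_iff.1 hu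
    rw [← conj_zpow]
    exact zpow_mem h _
  rw [mem_set_normalizer_iff]
  intro u
  refine ⟨key u, fun hu => ?_⟩
  have := key _ hu
  have hci : c⁻¹ = c := inv_of_mul_self hc
  have e : c * (c * u * c⁻¹) * c⁻¹ = (c * c) * u * (c⁻¹ * c⁻¹) := by group
  rw [e, hci, hc, one_mul, mul_one] at this
  exact this

include hab hN hC heven hs hTI in
/-- Two non-commuting involutions have a common commuting involution. -/
theorem exists_common_invol {t : G} (ht : t ∈ centralizer (P : Set G)) (ht2 : orderOf t = 2)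
    {s : G} (hs2 : orderOf s = 2) (hst : s * t ≠ t * s) :
    ∃ t' : G, orderOf t' = 2 ∧ t' ≠ t ∧ t' * t = t * t' ∧ s * t' = t' * s := by
  haveI : Fact (Nat.Prime 3) := ⟨Nat.prime_three⟩
  have hCt := centralizer_invol_eq P hab hN hC heven hs ht ht2
  have htt := mul_self_of_orderOf_two ht2
  have hss := mul_self_of_orderOf_two hs2
  have hti := inv_of_mul_self htt
  have hsi := inv_of_mul_self hss
  obtain ⟨d, hd⟩ : ∃ d : G, d = t * s := ⟨_, rfl⟩
  have hdt : t * d * t⁻¹ = d⁻¹ := by
    rw [hd, mul_inv_rev, hti, hsi]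
    calc t * (t * s) * t = (t * t) * s * t := by group
      _ = s * t := by rw [htt, one_mul]
  have hds : s * d * s⁻¹ = d⁻¹ := by
    rw [hd, mul_inv_rev, hti, hsi]
    calc s * (t * s) * s = s * t * (s * s) := by group
      _ = s * t := by rw [hss, mul_one]
  have htH : t ∈ normalizer ((zpowers d : Subgroup G) : Set G) :=
    invol_mem_normalizer_zpowers htt (by rw [hdt]; exact inv_mem (mem_zpowers d))
  have hsH : s ∈ normalizer ((zpowers d : Subgroup G) : Set G) :=
    invol_mem_normalizer_zpowers hss (by rw [hds]; exact inv_mem (mem_zpowers d))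
  have hHne : normalizer ((zpowers d : Subgroup G) : Set G) ≠ ⊤ := by
    intro htop
    have hnorm : (zpowers d).Normal := normalizer_eq_top_iff.1 htop
    rcases hnorm.eq_bot_or_eq_top with h | h
    · have : d ∈ (zpowers d) := mem_zpowers d
      rw [h, mem_bot] at this
      apply hst
      have e : s = t := by
        calc s = t⁻¹ * (t * s) := by group
          _ = t := by rw [← hd, this, mul_one, hti]
      rw [e]
    · have h1 : t ∈ zpowers d := h ▸ mem_top t
      have h2 : s ∈ zpowers d := h ▸ mem_top s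
      obtain ⟨a, ha⟩ := mem_zpowers_iff.1 h1
      obtain ⟨b, hb⟩ := mem_zpowers_iff.1 h2
      apply hst
      rw [← ha, ← hb, ← zpow_add, ← zpow_add, add_comm]
  have h2H : 2 ∣ Nat.card (normalizer ((zpowers d : Subgroup G) : Set G)) := by
    have h := Subgroup.orderOf_dvd_natCard _ htH
    rwa [ht2] at h
  have hdvd := heven _ hHne h2H
  have hdH : d ∈ normalizer ((zpowers d : Subgroup G) : Set G) :=
    le_normalizer (mem_zpowers d)
  have hd4n : d ^ (4 * Nat.card P) = 1 := by
    have h1 := Subgroup.orderOf_dvd_natCard _ hdH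
    exact orderOf_dvd_iff_pow_eq_one.1 (h1.trans hdvd)
  obtain ⟨y, hy⟩ : ∃ y : G, y = d ^ 4 := ⟨_, rfl⟩
  have hyn : y ^ Nat.card P = 1 := by rw [hy, ← pow_mul]; exact hd4n
  have hyt : t * y * t⁻¹ = y⁻¹ := by rw [hy, ← conj_pow, hdt, inv_pow]
  have hys : s * y * s⁻¹ = y⁻¹ := by rw [hy, ← conj_pow, hds, inv_pow]
  by_cases hy1 : y = 1
  · -- `d ^ 2` is the common involution
    obtain ⟨z, hz⟩ : ∃ z : G, z = d ^ 2 := ⟨_, rfl⟩
    have hzz : z * z = 1 := by
      rw [hz, ← pow_add, ← hy, hy1]
    have hzt : t * z * t⁻¹ = z⁻¹ := by rw [hz, ← conj_pow, hdt, inv_pow]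
    have hzs : s * z * s⁻¹ = z⁻¹ := by rw [hz, ← conj_pow, hds, inv_pow]
    have hzi := inv_of_mul_self hzz
    have hz1 : z ≠ 1 := by
      intro h
      apply hst
      rw [hz, pow_two, hd] at h
      -- t s t s = 1
      calc s * t = t * (t * s * (t * s)) * s := by
            have : t * (t * s * (t * s)) * s = (t * t) * s * t * (s * s) := by group
            rw [this, htt, hss, one_mul, mul_one]
        _ = t * s := by rw [h, mul_one]
    have hzt' : z * t = t * z := by
      rw [hzi] at hzt
      calc z * t = (t * z * t⁻¹) * t := by rw [hzt]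
        _ = t * z := by group
    have hzs' : s * z = z * s := by
      rw [hzi] at hzs
      calc s * z = (s * z * s⁻¹) * s := by group
        _ = z * s := by rw [hzs]
    have hzne : z ≠ t := by
      intro h
      rw [hz, pow_two, hd] at h
      apply ne_one_of_orderOf_two ht2
      -- t s t s = t  ⇒ s t s = 1 ⇒ t = 1
      have h1 : s * t * s = 1 := by
        calc s * t * s = t⁻¹ * (t * s * (t * s)) := by group
          _ = 1 := by rw [h, hti, htt]
      calc t = s⁻¹ * (s * t * s) * s⁻¹ := by group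
        _ = 1 := by rw [h1, hsi, mul_one, hss]
    exact ⟨z, orderOf_two_of hzz hz1, hzne, hzt', hzs'⟩
  · -- `y` is a nontrivial 3-element inverted by `t` and `s`
    obtain ⟨k, hk⟩ := card_P_pow P
    have hZ : IsPGroup 3 (zpowers y) := by
      have hdv : orderOf y ∣ 3 ^ k := by
        rw [← hk]; exact orderOf_dvd_of_pow_eq_one hyn
      obtain ⟨j, _, hj⟩ := (Nat.dvd_prime_pow Nat.prime_three).1 hdv
      apply IsPGroup.of_card (n := j)
      rw [Nat.card_zpowers, hj]
    obtain ⟨Q, hQ⟩ := hZ.exists_le_sylow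
    obtain ⟨g, hg⟩ := MulAction.exists_smul_eq G P Q
    have hyQ : y ∈ (Q : Subgroup G) := hQ (mem_zpowers y)
    rw [← hg, Sylow.smul_def] at hyQ
    have hy0 := (Subgroup.mem_pointwise_smul_iff_inv_smul_mem).mp hyQ
    have hconj : (MulAut.conj g)⁻¹ • y = g⁻¹ * y * g := by
      rw [MulAut.smul_def, MulAut.conj_inv_apply]
    rw [hconj] at hy0
    have hy01 : g⁻¹ * y * g ≠ 1 := by
      intro h
      apply hy1
      calc y = g * (g⁻¹ * y * g) * g⁻¹ := by group
        _ = 1 := by rw [h]; group
    -- `g⁻¹ t g` and `g⁻¹ s g` lie in `N`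
    have hinvP : (g⁻¹ * y * g)⁻¹ ∈ (P : Subgroup G) := inv_mem hy0
    have haN : g⁻¹ * t * g ∈ normalizer ((P : Subgroup G) : Set G) := by
      apply TI_use P hab hTI hy0 hy01
      have : g⁻¹ * t * g * (g⁻¹ * y * g) * (g⁻¹ * t * g)⁻¹ = g⁻¹ * (t * y * t⁻¹) * g := by group
      rw [this, hyt]
      have : g⁻¹ * y⁻¹ * g = (g⁻¹ * y * g)⁻¹ := by group
      rw [this]
      exact hinvP
    have hbN : g⁻¹ * s * g ∈ normalizer ((P : Subgroup G) : Set G) := by
      apply TI_use P hab hTI hy0 hy01
      have : g⁻¹ * s * g * (g⁻¹ * y * g) * (g⁻¹ * s * g)⁻¹ = g⁻¹ * (s * y * s⁻¹) * g := by group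
      rw [this, hys]
      have : g⁻¹ * y⁻¹ * g = (g⁻¹ * y * g)⁻¹ := by group
      rw [this]
      exact hinvP
    rw [← hCt, mem_centralizer_singleton_iff] at haN hbN
    refine ⟨g * t * g⁻¹, orderOf_conj_two ht2 g, ?_, ?_, ?_⟩
    · intro h
      -- then `t` centralizes `y`
      have hc : t * (g⁻¹ * y * g) = (g⁻¹ * y * g) * t := (mem_centralizer_iff.1 ht _ hy0).symm
      have hc2 : (g * t * g⁻¹) * y = y * (g * t * g⁻¹) := by
        calc (g * t * g⁻¹) * y = g * (t * (g⁻¹ * y * g)) * g⁻¹ := by group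
          _ = g * ((g⁻¹ * y * g) * t) * g⁻¹ := by rw [hc]
          _ = y * (g * t * g⁻¹) := by group
      rw [h] at hc2
      have hyy : y * y = 1 := by
        have : y⁻¹ = y := by
          rw [← hyt]
          calc t * y * t⁻¹ = (y * t) * t⁻¹ := by rw [hc2]
            _ = y := by group
        calc y * y = y⁻¹ * y := by rw [this]
          _ = 1 := by group
      exact hy1 (eq_one_of_sq_of_odd_pow (card_P_odd P) hyy hyn)
    · calc g * t * g⁻¹ * t = g * ((t * g⁻¹) * t * g) * g⁻¹ := by group
        _ = g * (g⁻¹ * t * g * t) * g⁻¹ := by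
            have : (t * g⁻¹) * t * g = t * (g⁻¹ * t * g) := by group
            rw [this, ← haN]
        _ = t * (g * t * g⁻¹) := by group
    · calc s * (g * t * g⁻¹) = g * ((g⁻¹ * s * g) * t) * g⁻¹ := by group
        _ = g * (t * (g⁻¹ * s * g)) * g⁻¹ := by rw [hbN]
        _ = g * t * g⁻¹ * s := by group

end main

end Cfsg.Agent.H2.KleinRes
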