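import Mathlib
import Cfsg.Agent.H1.Card
import Cfsg.Agent.H1.NormMap
import Cfsg.Agent.H2.CyclicSylowStructure
import Cfsg.Agent.H2.KleinResA

/-!
# Cyclic Sylow `p`-subgroup with abelian `p'`-subgroups: general lemmas (towards S4016)
-/

set_option autoImplicit false
set_option linter.unusedSectionVars false
set_option linter.unusedVariables false
set_option linter.style.haveILetI false

namespace Cfsg.Agent.H2.CycSylAb

open Subgroup
open scoped commutatorElement

variable {G : Type*} [Group G] [Finite G] {p : ℕ} [hp : Fact p.Prime]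

/-- if conjugation by `g` maps the finite subgroup `H` into itself then `g` normalizes `H` -/
theorem mem_normalizer_of_conj_le {H : Subgroup G} {g : G}
    (h : ∀ u ∈ H, g * u * g⁻¹ ∈ H) : g ∈ normalizer (H : Set G) := by
  rw [mem_normalizer_iff_map_conj_eq]
  apply Subgroup.eq_of_le_of_card_ge
  · rintro _ ⟨u, hu, rfl⟩
    exact h u hu
  · rw [Subgroup.card_map_of_injective (MulAut.conj g).injective]

/-- a `p'`-element normalizing a `p'`-subgroup centralizes it, when `p'`-subgroups are abelian -/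
theorem centralizes_of_coprime
    (hab : ∀ H : Subgroup G, ¬ p ∣ Nat.card H → IsMulCommutative H)
    {Q : Subgroup G} (hQ : ¬ p ∣ Nat.card Q) {v : G} (hv : v ∈ normalizer (Q : Set G))
    (hvp : (orderOf v).Coprime p) : v ∈ centralizer (Q : Set G) := by
  have hle : zpowers v ≤ normalizer (Q : Set G) := by rw [zpowers_le]; exact hv
  have hcard := Cfsg.Agent.H1.card_sup_mul_card_inf (zpowers v) Q hle
  have hnd : ¬ p ∣ Nat.card (zpowers v ⊔ Q : Subgroup G) := by
    intro hd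
    have h1 : p ∣ Nat.card (zpowers v) * Nat.card Q := by
      rw [← hcard]; exact Dvd.dvd.mul_right hd _
    rcases (Nat.Prime.dvd_mul hp.out).1 h1 with h2 | h2
    · rw [Nat.card_zpowers] at h2
      have := Nat.Coprime.eq_one_of_dvd hvp.symm h2
      exact hp.out.one_lt.ne' this
    · exact hQ h2
  have hc := hab _ hnd
  rw [mem_centralizer_iff]
  intro q hq
  have hv' : v ∈ (zpowers v ⊔ Q : Subgroup G) :=
    (le_sup_left : zpowers v ≤ _) (mem_zpowers v)
  have hq' : q ∈ (zpowers v ⊔ Q : Subgroup G) := (le_sup_right : Q ≤ _) hq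
  exact Subtype.ext_iff.1 (hc.is_comm.comm ⟨q, hq'⟩ ⟨v, hv'⟩)

/-- if `[P, A] = P`, `P` normalizes `T` and `A` centralizes `T`, then `P` centralizes `T` -/
theorem le_centralizer_of_commutator_eq {P A T : Subgroup G} (hPA : ⁅P, A⁆ = P)
    (hPT : P ≤ normalizer (T : Set G)) (hAT : A ≤ centralizer (T : Set G)) :
    P ≤ centralizer (T : Set G) := by
  rw [← hPA, Subgroup.commutator_le]
  intro y hy a ha
  rw [mem_centralizer_iff]
  intro t ht
  have h1 : y⁻¹ * t * y ∈ T := (mem_set_normalizer_iff''.1 (hPT hy) t).1 ht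
  have h2 : t * a = a * t := mem_centralizer_iff.1 (hAT ha) t ht
  have h3 : (y⁻¹ * t * y) * a = a * (y⁻¹ * t * y) := mem_centralizer_iff.1 (hAT ha) _ h1
  rw [commutatorElement_def]
  have h2' : a⁻¹ * t * a = t := by rw [mul_assoc, h2]; group
  have h3' : a * (y⁻¹ * t * y) * a⁻¹ = y⁻¹ * t * y := by rw [← h3]; group
  calc t * (y * a * y⁻¹ * a⁻¹)
      = (y * a * y⁻¹ * a⁻¹) * (a * (y * (a⁻¹ * (y⁻¹ * t * y) * a) * y⁻¹) * a⁻¹) := by group
    _ = (y * a * y⁻¹ * a⁻¹) * (a * (y * (y⁻¹ * t * y) * y⁻¹) * a⁻¹) := by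
        have : a⁻¹ * (y⁻¹ * t * y) * a = y⁻¹ * t * y := by
          calc a⁻¹ * (y⁻¹ * t * y) * a = a⁻¹ * (a * (y⁻¹ * t * y) * a⁻¹) * a := by rw [h3']
            _ = y⁻¹ * t * y := by group
        rw [this]
    _ = (y * a * y⁻¹ * a⁻¹) * (a * t * a⁻¹) := by group
    _ = (y * a * y⁻¹ * a⁻¹) * t := by
        have : a * t * a⁻¹ = t := by rw [← h2]; group
        rw [this]

/-- the `p`-part / `p'`-part decomposition of an element -/
theorem exists_pparts (g : G) : ∃ j r : ℕ, ¬ p ∣ r ∧ (g ^ r) ^ (p ^ j) = 1 ∧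
    (orderOf (g ^ (p ^ j))).Coprime p ∧
    ∀ S : Subgroup G, g ^ r ∈ S → g ^ (p ^ j) ∈ S → g ∈ S := by
  obtain ⟨j, r, hpr, hnr⟩ :=
    Nat.exists_eq_pow_mul_and_not_dvd (orderOf_pos g).ne' p hp.out.ne_one
  have hr0 : r ≠ 0 := by
    intro h0
    rw [h0, mul_zero] at hnr
    exact (orderOf_pos g).ne' hnr
  have hcopr : (p ^ j).Coprime r := ((Nat.Prime.coprime_iff_not_dvd hp.out).mpr hpr).pow_left j
  refine ⟨j, r, hpr, ?_, ?_, ?_⟩
  · rw [← pow_mul, mul_comm, ← hnr, pow_orderOf_eq_one]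
  · rw [orderOf_pow_of_dvd (pow_pos hp.out.pos j).ne' (by rw [hnr]; exact dvd_mul_right _ r), hnr,
      Nat.mul_div_cancel_left _ (pow_pos hp.out.pos j)]
    exact ((Nat.Prime.coprime_iff_not_dvd hp.out).mpr hpr).symm
  · intro S h1 h2
    have h3 : ((Nat.gcd (p ^ j) r : ℕ) : ℤ) = (p ^ j : ℕ) * Nat.gcdA (p ^ j) r +
        (r : ℕ) * Nat.gcdB (p ^ j) r := Nat.gcd_eq_gcd_ab (p ^ j) r
    rw [hcopr, Nat.cast_one] at h3
    have h4 : g = (g ^ p ^ j) ^ (Nat.gcdA (p ^ j) r) * (g ^ r) ^ (Nat.gcdB (p ^ j) r) := by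
      rw [← zpow_natCast, ← zpow_natCast, ← zpow_mul, ← zpow_mul, ← zpow_add, ← h3, zpow_one]
    rw [h4]
    exact Subgroup.mul_mem _ (Subgroup.zpow_mem _ h2 _) (Subgroup.zpow_mem _ h1 _)

end Cfsg.Agent.H2.CycSylAb
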