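import Mathlib
import Cfsg.Prelude.Def_Transfer
import Cfsg.Agent.H2.CycSylA
import Cfsg.Agent.H2.Transfer
import Cfsg.Agent.H1.Transfer
import Cfsg.Agent.Lib.Lead.NormalPComplement

/-!
# Cyclic Sylow `p`-subgroup with abelian `p'`-subgroups: the minimal counterexample (towards S4016)
-/

set_option autoImplicit false
set_option linter.unusedSectionVars false
set_option linter.unusedVariables false
set_option linter.style.haveILetI false

namespace Cfsg.Agent.H2.CycSylAb

open Subgroup Cfsg
open scoped commutatorElement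

universe u

variable {G : Type u} [Group G] [Finite G] {p : ℕ} [hp : Fact p.Prime]

/-- internal form of a normal `p`-complement of a subgroup -/
theorem internal_npc (H : Subgroup G) (h : HasNormalPComplement p ↥H) :
    ∃ T : Subgroup G, T ≤ H ∧ H ≤ normalizer (T : Set G) ∧ (Nat.card T).Coprime p ∧
      (∃ k : ℕ, Nat.card H = Nat.card T * p ^ k) ∧
      ∀ h ∈ H, (orderOf h).Coprime p → h ∈ T := by
  obtain ⟨T', hT'n, hc, k, hk⟩ :=
    Cfsg.Agent.Lib.Lead.NormalPComplement.exists_normal_of_hasNormalPComplement h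
  haveI := hT'n
  refine ⟨T'.map H.subtype, Subgroup.map_subtype_le _, ?_, ?_, ⟨k, ?_⟩, ?_⟩
  · intro h hh
    apply mem_normalizer_of_conj_le
    rintro _ ⟨t, ht, rfl⟩
    refine ⟨⟨h, hh⟩ * t * ⟨h, hh⟩⁻¹, hT'n.conj_mem t ht ⟨h, hh⟩, ?_⟩
    simp
  · rw [Subgroup.card_map_of_injective H.subtype_injective]
    exact hc
  · rw [Subgroup.card_map_of_injective H.subtype_injective, ← hk, Subgroup.card_mul_index]
  · intro h hh hcop
    have hq : IsPGroup p (↥H ⧸ T') := by
      apply IsPGroup.of_card (n := k)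
      rw [← Subgroup.index_eq_card, hk]
    have h1 : (⟨h, hh⟩ : ↥H) ∈ T' :=
      Cfsg.Agent.Lib.Lead.Frobenius.mem_of_coprime_of_isPGroup_quotient T' hq
        (by rw [Subgroup.orderOf_mk]; exact hcop)
    exact ⟨⟨h, hh⟩, h1, rfl⟩

section ctx

variable (P : Sylow p G) (hcyc : IsCyclic P)
  (hab : ∀ H : Subgroup G, ¬ p ∣ Nat.card H → IsMulCommutative H)
  (hIH : ∀ H : Subgroup G, H ≠ ⊤ → ∀ Q : Sylow p H,
    HasNormalPComplement p H ∨ (Q : Subgroup H).Normal)
  (hnc : ¬ HasNormalPComplement p G) (hnn : ¬ (P : Subgroup G).Normal)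

include hcyc in
theorem P_comm {a b : G} (ha : a ∈ (P : Subgroup G)) (hb : b ∈ (P : Subgroup G)) :
    a * b = b * a := by
  haveI := hcyc
  have h1 : (⟨a, ha⟩ : ↥(P : Subgroup G)) * ⟨b, hb⟩ = ⟨b, hb⟩ * ⟨a, ha⟩ :=
    IsMulCommutative.is_comm.comm _ _
  exact congrArg Subtype.val h1

include hcyc in
theorem P_le_C : (P : Subgroup G) ≤ centralizer ((P : Subgroup G) : Set G) := by
  intro a ha
  rw [mem_centralizer_iff]
  intro b hb
  exact P_comm P hcyc hb ha

theorem pow_card_P {y : G} (hy : y ∈ (P : Subgroup G)) : y ^ Nat.card P = 1 := by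
  have := pow_card_eq_one' (G := (P : Subgroup G)) (x := ⟨y, hy⟩)
  exact congrArg Subtype.val this

/-- `p`-elements of `N_G(P)` lie in `P` -/
theorem p_elt_mem {y : G} (hy : y ∈ normalizer ((P : Subgroup G) : Set G)) {k : ℕ}
    (hk : y ^ (p ^ k) = 1) : y ∈ (P : Subgroup G) :=
  Cfsg.Agent.H2.KleinRes.mem_sylow_of_mem_normalizer P hy hk

include hcyc hnc in
theorem exists_x : ∃ x : G, x ∈ normalizer ((P : Subgroup G) : Set G) ∧ (orderOf x).Coprime p ∧
    x ∉ centralizer ((P : Subgroup G) : Set G) := by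
  have hNC : ¬ normalizer ((P : Subgroup G) : Set G) ≤ centralizer ((P : Subgroup G) : Set G) := by
    intro h
    apply hnc
    exact ⟨P, (MonoidHom.transferSylow P h).ker, inferInstance,
      MonoidHom.ker_transferSylow_isComplement' P h⟩
  rw [SetLike.not_le_iff_exists] at hNC
  obtain ⟨g, hgN, hgC⟩ := hNC
  obtain ⟨j, r, hpr, h1, h2, h3⟩ := exists_pparts (p := p) g
  refine ⟨g ^ p ^ j, pow_mem hgN _, h2, ?_⟩
  intro hC
  apply hgC
  apply h3 _ _ hC
  exact P_le_C P hcyc (p_elt_mem P (pow_mem hgN _) h1)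

include hcyc in
/-- a `p'`-element of `N_G(P)` with a nontrivial fixed point on `P` centralizes `P` -/
theorem dichotomy {g : G} (hg : g ∈ normalizer ((P : Subgroup G) : Set G))
    (hgp : (orderOf g).Coprime p) {y : G} (hy : y ∈ (P : Subgroup G)) (hy1 : y ≠ 1)
    (hgy : g * y = y * g) : g ∈ centralizer ((P : Subgroup G) : Set G) := by
  by_contra hgC
  obtain ⟨k, hk⟩ := IsPGroup.iff_card.mp P.isPGroup'
  have hAN : zpowers g ≤ normalizer ((P : Subgroup G) : Set G) := by rw [zpowers_le]; exact hg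
  have hcop : (Nat.card (zpowers g)).Coprime (Nat.card (P : Subgroup G)) := by
    rw [Nat.card_zpowers, hk]; exact hgp.pow_right k
  have hnc' : ¬ zpowers g ≤ centralizer ((P : Subgroup G) : Set G) := by
    intro h; exact hgC (h (mem_zpowers g))
  have h1 := Cfsg.Agent.H2.CycSyl.commutator_eq_of_cyclic (P : Subgroup G) (zpowers g)
    P.isPGroup' hcyc hAN hcop hnc'
  have h2 := Cfsg.Agent.H1.commutator_inf_centralizer_eq_bot_of_abelian (P : Subgroup G)
    (zpowers g) (by haveI := hcyc; infer_instance) hAN hcop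
  rw [h1] at h2
  have h3 : y ∈ (P : Subgroup G) ⊓ centralizer ((zpowers g : Subgroup G) : Set G) := by
    refine Subgroup.mem_inf.2 ⟨hy, ?_⟩
    rw [mem_centralizer_iff]
    intro a ha
    obtain ⟨n, rfl⟩ := mem_zpowers_iff.1 ha
    have hc : Commute g y := hgy
    exact (hc.zpow_left n).eq
  rw [h2, mem_bot] at h3
  exact hy1 h3

/-- an element of a `p'`-subgroup lying in `P` is trivial -/
theorem eq_one_of_mem_coprime {T : Subgroup G} (hT : (Nat.card T).Coprime p) {c : G}
    (hcT : c ∈ T) (hcP : c ∈ (P : Subgroup G)) : c = 1 := by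
  obtain ⟨k, hk⟩ := IsPGroup.iff_card.mp P.isPGroup'
  have h1 : orderOf c ∣ Nat.card T := Subgroup.orderOf_dvd_natCard T hcT
  have h2 : orderOf c ∣ p ^ k := by
    rw [← hk]; exact Subgroup.orderOf_dvd_natCard (P : Subgroup G) hcP
  have h3 : orderOf c = 1 :=
    Nat.Coprime.eq_one_of_dvd (Nat.Coprime.coprime_dvd_left h1 (hT.pow_right k)) h2
  exact orderOf_eq_one_iff.1 h3

section withx

variable {x : G} (hxN : x ∈ normalizer ((P : Subgroup G) : Set G)) (hxp : (orderOf x).Coprime p)
  (hxC : x ∉ centralizer ((P : Subgroup G) : Set G))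

include hIH hxN hxp hxC in
/-- (U1') a proper subgroup containing `P` and `x` normalizes `P` -/
theorem le_normalizer_of_proper {H : Subgroup G} (hH : H ≠ ⊤) (hPH : (P : Subgroup G) ≤ H)
    (hxH : x ∈ H) : H ≤ normalizer ((P : Subgroup G) : Set G) := by
  rcases hIH H hH (P.subtype hPH) with h | h
  · exfalso
    obtain ⟨T, hTH, hHT, hTc, -, hTmem⟩ := internal_npc H h
    have hxT : x ∈ T := hTmem x hxH hxp
    apply hxC
    rw [mem_centralizer_iff]
    intro y hy
    have hc1 : x * y * x⁻¹ * y⁻¹ ∈ T := by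
      have : y * x⁻¹ * y⁻¹ ∈ T :=
        (mem_set_normalizer_iff.1 (hHT (hPH hy)) x⁻¹).1 (inv_mem hxT)
      have e : x * y * x⁻¹ * y⁻¹ = x * (y * x⁻¹ * y⁻¹) := by group
      rw [e]; exact mul_mem hxT this
    have hc2 : x * y * x⁻¹ * y⁻¹ ∈ (P : Subgroup G) :=
      mul_mem ((mem_set_normalizer_iff.1 hxN y).1 hy) (inv_mem hy)
    have hc := eq_one_of_mem_coprime P hTc hc1 hc2
    calc y * x = (x * y * x⁻¹ * y⁻¹)⁻¹ * (x * y) := by group
      _ = x * y := by rw [hc]; group
  · rw [Sylow.coe_subtype] at h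
    exact (Subgroup.normal_subgroupOf_iff_le_normalizer hPH).1 h

include hcyc hxN hxp hxC in
theorem comm_eq : ⁅(P : Subgroup G), zpowers x⁆ = (P : Subgroup G) := by
  obtain ⟨k, hk⟩ := IsPGroup.iff_card.mp P.isPGroup'
  have hAN : zpowers x ≤ normalizer ((P : Subgroup G) : Set G) := by rw [zpowers_le]; exact hxN
  have hcop : (Nat.card (zpowers x)).Coprime (Nat.card (P : Subgroup G)) := by
    rw [Nat.card_zpowers, hk]; exact hxp.pow_right k
  have hnc' : ¬ zpowers x ≤ centralizer ((P : Subgroup G) : Set G) := by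
    intro h; exact hxC (h (mem_zpowers x))
  exact Cfsg.Agent.H2.CycSyl.commutator_eq_of_cyclic (P : Subgroup G) (zpowers x)
    P.isPGroup' hcyc hAN hcop hnc'

include hnn in
/-- a normal subgroup normalizing `P` does not contain `P` -/
theorem not_le_normalizer_of_normal {M : Subgroup G} (hM : M.Normal)
    (hPM : (P : Subgroup G) ≤ M) : ¬ M ≤ normalizer ((P : Subgroup G) : Set G) := by
  intro hMN
  apply hnn
  rw [← normalizer_eq_top_iff, eq_top_iff]
  intro g _
  obtain ⟨k, hk⟩ := IsPGroup.iff_card.mp P.isPGroup'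
  apply mem_normalizer_of_conj_le
  intro u hu
  apply p_elt_mem P (hMN (hM.conj_mem u (hPM hu) g)) (k := k)
  rw [conj_pow, ← hk, pow_card_P P hu]
  group

include hcyc hab hIH hnn hxN hxp hxC in
/-- (U2) no proper normal subgroup contains `P` -/
theorem eq_top_of_normal {M : Subgroup G} (hM : M.Normal) (hPM : (P : Subgroup G) ≤ M) :
    M = ⊤ := by
  by_contra hMt
  apply not_le_normalizer_of_normal P hnn hM hPM
  rcases hIH M hMt (P.subtype hPM) with h | h
  · obtain ⟨T, hTM, hMT, hTc, ⟨k, hk⟩, hTmem⟩ := internal_npc M h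
    -- `T` is normal in `G`
    have hTn : T.Normal := by
      constructor
      intro t ht g
      apply hTmem _ (hM.conj_mem t (hTM ht) g)
      have : orderOf (g * t * g⁻¹) = orderOf t := by
        have := orderOf_injective (MulAut.conj g).toMonoidHom (MulAut.conj g).injective t
        simpa using this
      rw [this]
      exact Nat.Coprime.coprime_dvd_left (Subgroup.orderOf_dvd_natCard T ht) hTc
    have hTp : ¬ p ∣ Nat.card T := by
      intro hd
      have := Nat.Coprime.eq_one_of_dvd hTc.symm hd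
      exact hp.out.one_lt.ne' this
    have hxT : x ∈ centralizer (T : Set G) :=
      centralizes_of_coprime hab hTp (by rw [normalizer_eq_top_iff.2 hTn]; exact mem_top x) hxp
    have hPT : (P : Subgroup G) ≤ centralizer (T : Set G) :=
      le_centralizer_of_commutator_eq (comm_eq P hcyc hxN hxp hxC)
        (by rw [normalizer_eq_top_iff.2 hTn]; exact le_top)
        (by rw [zpowers_le]; exact hxT)
    -- `M = T ⊔ P`
    have hinf : T ⊓ (P : Subgroup G) = ⊥ := by
      rw [eq_bot_iff]
      intro c hc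
      rw [mem_bot]
      exact eq_one_of_mem_coprime P hTc hc.1 hc.2
    have hTC : T ≤ centralizer ((P : Subgroup G) : Set G) := le_centralizer_iff.1 hPT
    have hTN : T ≤ normalizer ((P : Subgroup G) : Set G) :=
      hTC.trans (centralizer_le_normalizer _)
    have hcard := Cfsg.Agent.H1.card_sup_mul_card_inf T (P : Subgroup G) hTN
    rw [hinf, Subgroup.card_bot, mul_one] at hcard
    obtain ⟨a, ha⟩ := IsPGroup.iff_card.mp P.isPGroup'
    have hPk : Nat.card (P : Subgroup G) = p ^ k := by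
      apply Nat.dvd_antisymm
      · have h1 : Nat.card (P : Subgroup G) ∣ Nat.card T * p ^ k := by
          rw [← hk]; exact Subgroup.card_dvd_of_le hPM
        have h2 : (Nat.card (P : Subgroup G)).Coprime (Nat.card T) := by
          rw [ha]; exact (hTc.pow_right a).symm
        exact h2.dvd_of_dvd_mul_left h1
      · apply P.pow_dvd_card_of_pow_dvd_card
        exact (Dvd.intro_left _ hk.symm).trans (Subgroup.card_subgroup_dvd_card M)
    have hsup : (T ⊔ (P : Subgroup G) : Subgroup G) = M := by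
      apply Subgroup.eq_of_le_of_card_ge (sup_le hTM hPM)
      rw [hcard, hk, hPk]
    rw [← hsup]
    exact sup_le hTN le_normalizer
  · rw [Sylow.coe_subtype] at h
    exact (Subgroup.normal_subgroupOf_iff_le_normalizer hPM).1 h

include hcyc hab hIH hnn hxN hxp hxC in
theorem perfect : commutator G = ⊤ := by
  apply eq_top_of_normal P hcyc hab hIH hnn hxN hxp hxC inferInstance
  rw [← comm_eq P hcyc hxN hxp hxC, commutator_def]
  exact Subgroup.commutator_mono le_top le_top

include hcyc hab hIH hnn hxN hxp hxC in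
theorem center_eq_bot : center G = ⊥ := by
  rw [eq_bot_iff]
  intro z hz
  rw [mem_bot]
  by_contra hz1
  have hperf := perfect P hcyc hab hIH hnn hxN hxp hxC
  have ho : orderOf z ≠ 1 := fun h => hz1 (orderOf_eq_one_iff.1 h)
  obtain ⟨q, hq, hqz⟩ := Nat.exists_prime_and_dvd ho
  haveI : Fact q.Prime := ⟨hq⟩
  obtain ⟨Q⟩ : Nonempty (Sylow q G) := inferInstance
  have hQc : IsMulCommutative (Q : Subgroup G) := by
    by_cases hqp : q = p
    · subst hqp
      haveI := Cfsg.Agent.H2.CycSyl.isCyclic_of_pgroup P hcyc Q.isPGroup'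
      infer_instance
    · apply hab
      obtain ⟨a, ha⟩ := IsPGroup.iff_card.mp Q.isPGroup'
      rw [ha]
      intro hd
      exact hqp ((Nat.prime_dvd_prime_iff_eq hp.out hq).1 (hp.out.dvd_of_dvd_pow hd)).symm
  have h1 := Cfsg.Agent.H1.transfer_central_pow (Q : Subgroup G) hQc z hz
    (by rw [hperf]; exact mem_top z)
  have h2 : q ∣ (Q : Subgroup G).index := hqz.trans (orderOf_dvd_of_pow_eq_one h1)
  exact Q.not_dvd_index h2

include hcyc hab hIH hnn hxN hxp hxC in
/-- normal `p'`-subgroups are trivial -/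
theorem eq_bot_of_normal_coprime {T : Subgroup G} (hTn : T.Normal) (hTp : ¬ p ∣ Nat.card T) :
    T = ⊥ := by
  have hxT : x ∈ centralizer (T : Set G) :=
    centralizes_of_coprime hab hTp (by rw [normalizer_eq_top_iff.2 hTn]; exact mem_top x) hxp
  have hPT : (P : Subgroup G) ≤ centralizer (T : Set G) :=
    le_centralizer_of_commutator_eq (comm_eq P hcyc hxN hxp hxC)
      (by rw [normalizer_eq_top_iff.2 hTn]; exact le_top)
      (by rw [zpowers_le]; exact hxT)
  haveI := hTn
  have htop := eq_top_of_normal P hcyc hab hIH hnn hxN hxp hxC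
    (inferInstance : (centralizer (T : Set G)).Normal) hPT
  have hTZ : T ≤ center G := by
    intro t ht
    rw [mem_center_iff]
    intro g
    have hg : g ∈ centralizer (T : Set G) := htop ▸ mem_top g
    exact (mem_centralizer_iff.1 hg t ht).symm
  rw [center_eq_bot P hcyc hab hIH hnn hxN hxp hxC] at hTZ
  exact le_bot_iff.1 hTZ

include hcyc hnn in
theorem N_ne_top : normalizer ((P : Subgroup G) : Set G) ≠ ⊤ := by
  intro h
  exact hnn (normalizer_eq_top_iff.1 h)

include hcyc hab hIH hnn hxN hxp hxC in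
/-- `N_G(Q) ≤ N_G(P)` for `1 ≠ Q ≤ P` -/
theorem normalizer_le {Q : Subgroup G} (hQP : Q ≤ (P : Subgroup G)) (hQ1 : Q ≠ ⊥) :
    normalizer (Q : Set G) ≤ normalizer ((P : Subgroup G) : Set G) := by
  have hPQ : (P : Subgroup G) ≤ normalizer (Q : Set G) := by
    intro u hu
    apply mem_normalizer_of_conj_le
    intro v hv
    have : u * v * u⁻¹ = v := by
      rw [P_comm P hcyc hu (hQP hv)]; group
    rw [this]; exact hv
  have hxQ : x ∈ normalizer (Q : Set G) := by
    apply mem_normalizer_of_conj_le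
    -- `x Q x⁻¹` is a subgroup of `P` of the same order as `Q`
    have hmap : Q.map (MulAut.conj x).toMonoidHom ≤ (P : Subgroup G) := by
      rintro _ ⟨v, hv, rfl⟩
      exact (mem_set_normalizer_iff.1 hxN v).1 (hQP hv)
    have hcardmap : Nat.card (Q.map (MulAut.conj x).toMonoidHom) = Nat.card Q :=
      Subgroup.card_map_of_injective (MulAut.conj x).injective
    rcases Cfsg.Agent.H2.CycSyl.le_or_le_of_le_cyclic P.isPGroup' hcyc hmap hQP with h | h
    · intro v hv
      exact h ⟨v, hv, rfl⟩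
    · have := Subgroup.eq_of_le_of_card_ge h (by rw [hcardmap])
      intro v hv
      rw [this]
      exact ⟨v, hv, rfl⟩
  by_cases hH : normalizer (Q : Set G) = ⊤
  · exfalso
    have hQn : Q.Normal := normalizer_eq_top_iff.1 hH
    haveI := hQn
    have hPC : (P : Subgroup G) ≤ centralizer (Q : Set G) := by
      intro u hu
      rw [mem_centralizer_iff]
      intro v hv
      exact P_comm P hcyc (hQP hv) hu
    have htop := eq_top_of_normal P hcyc hab hIH hnn hxN hxp hxC
      (inferInstance : (centralizer (Q : Set G)).Normal) hPC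
    have hQZ : Q ≤ center G := by
      intro t ht
      rw [mem_center_iff]
      intro g
      have hg : g ∈ centralizer (Q : Set G) := htop ▸ mem_top g
      exact (mem_centralizer_iff.1 hg t ht).symm
    rw [center_eq_bot P hcyc hab hIH hnn hxN hxp hxC] at hQZ
    exact hQ1 (le_bot_iff.1 hQZ)
  · exact le_normalizer_of_proper P hIH hxN hxp hxC hH hPQ hxQ

include hcyc hab hIH hnn hxN hxp hxC in
/-- `P` is a TI-subgroup -/
theorem TI {y g : G} (hy : y ∈ (P : Subgroup G)) (hy1 : y ≠ 1)
    (hgy : g * y * g⁻¹ ∈ (P : Subgroup G)) : g ∈ normalizer ((P : Subgroup G) : Set G) := by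
  obtain ⟨k, hk⟩ := IsPGroup.iff_card.mp P.isPGroup'
  have hQ1 : zpowers (g * y * g⁻¹) ≠ ⊥ := by
    intro h
    rw [zpowers_eq_bot] at h
    apply hy1
    calc y = g⁻¹ * (g * y * g⁻¹) * g := by group
      _ = 1 := by rw [h]; group
  have hQP : zpowers (g * y * g⁻¹) ≤ (P : Subgroup G) := by rw [zpowers_le]; exact hgy
  have hle := normalizer_le P hcyc hab hIH hnn hxN hxp hxC hQP hQ1
  apply mem_normalizer_of_conj_le
  intro u hu
  apply p_elt_mem P _ (k := k)
  · rw [conj_pow, ← hk, pow_card_P P hu]; group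
  · apply hle
    apply centralizer_le_normalizer
    rw [mem_centralizer_iff]
    intro a ha
    obtain ⟨n, rfl⟩ := mem_zpowers_iff.1 ha
    have hc : Commute (g * u * g⁻¹) (g * y * g⁻¹) := by
      show g * u * g⁻¹ * (g * y * g⁻¹) = g * y * g⁻¹ * (g * u * g⁻¹)
      have := P_comm P hcyc hu hy
      calc g * u * g⁻¹ * (g * y * g⁻¹) = g * (u * y) * g⁻¹ := by group
        _ = g * (y * u) * g⁻¹ := by rw [this]
        _ = g * y * g⁻¹ * (g * u * g⁻¹) := by group
    exact ((hc.zpow_right n).eq).symm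

include hcyc hab hIH hnn hxN hxp hxC in
/-- `p'`-elements centralizing a nontrivial element of `P` centralize `P` -/
theorem coprime_centralizer {y g : G} (hy : y ∈ (P : Subgroup G)) (hy1 : y ≠ 1)
    (hgy : g * y = y * g) (hgp : (orderOf g).Coprime p) :
    g ∈ centralizer ((P : Subgroup G) : Set G) := by
  have hgN : g ∈ normalizer ((P : Subgroup G) : Set G) := by
    apply TI P hcyc hab hIH hnn hxN hxp hxC hy hy1
    have : g * y * g⁻¹ = y := by rw [hgy]; group
    rw [this]; exact hy
  exact dichotomy P hcyc hgN hgp hy hy1 hgy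

include hcyc hab hIH hnn hxN hxp hxC in
/-- `N_G(P)` is a maximal subgroup -/
theorem maximal {H : Subgroup G} (hNH : normalizer ((P : Subgroup G) : Set G) ≤ H)
    (hH : H ≠ ⊤) : H = normalizer ((P : Subgroup G) : Set G) :=
  le_antisymm (le_normalizer_of_proper P hIH hxN hxp hxC hH (le_normalizer.trans hNH)
    (hNH hxN)) hNH

/-- `N_G(P)` is self-normalizing -/
theorem normalizer_normalizer {g : G}
    (hg : ∀ n ∈ normalizer ((P : Subgroup G) : Set G),
      g * n * g⁻¹ ∈ normalizer ((P : Subgroup G) : Set G)) :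
    g ∈ normalizer ((P : Subgroup G) : Set G) := by
  obtain ⟨k, hk⟩ := IsPGroup.iff_card.mp P.isPGroup'
  apply mem_normalizer_of_conj_le
  intro u hu
  apply p_elt_mem P (hg u (le_normalizer hu)) (k := k)
  rw [conj_pow, ← hk, pow_card_P P hu]; group

include hcyc hab hIH hnn hxN hxp hxC in
/-- a nontrivial Sylow subgroup is not central in its normalizer -/
theorem sylow_not_central {q : ℕ} [Fact q.Prime] (Q : Sylow q G) (hQ : (Q : Subgroup G) ≠ ⊥) :
    ¬ normalizer ((Q : Subgroup G) : Set G) ≤ centralizer ((Q : Subgroup G) : Set G) := by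
  intro h
  exact hQ (Cfsg.Agent.H2.sylow_eq_bot_of_perfect_of_normalizer_le_centralizer
    (perfect P hcyc hab hIH hnn hxN hxp hxC) Q h)

include hcyc hab hIH hnn hxN hxp hxC in
/-- the normalizer of a nontrivial Sylow `q`-subgroup, `q ≠ p`, contains an element of order `p` -/
theorem exists_order_p {q : ℕ} [Fact q.Prime] (hqp : q ≠ p) (Q : Sylow q G)
    (hQ : (Q : Subgroup G) ≠ ⊥) :
    ∃ s : G, s ∈ normalizer ((Q : Subgroup G) : Set G) ∧ orderOf s = p := by
  by_contra hcon
  push Not at hcon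
  have hnd : ¬ p ∣ Nat.card (normalizer ((Q : Subgroup G) : Set G)) := by
    intro hd
    obtain ⟨s, hs⟩ := exists_prime_orderOf_dvd_card' (G := normalizer ((Q : Subgroup G) : Set G)) p hd
    apply hcon s.1 s.2
    rw [← hs]
    exact Subgroup.orderOf_coe s
  have hc := hab _ hnd
  apply sylow_not_central P hcyc hab hIH hnn hxN hxp hxC Q hQ
  intro g hg
  rw [mem_centralizer_iff]
  intro v hv
  exact Subtype.ext_iff.1 (hc.is_comm.comm ⟨v, le_normalizer hv⟩ ⟨g, hg⟩)

end withx

/-- a complement `L` of `P` in `N_G(P)` (Schur–Zassenhaus) -/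
theorem exists_L : ∃ L : Subgroup G, L ≤ normalizer ((P : Subgroup G) : Set G) ∧
    ¬ p ∣ Nat.card L ∧
    Nat.card (normalizer ((P : Subgroup G) : Set G)) = Nat.card (P : Subgroup G) * Nat.card L ∧
    ∀ n ∈ normalizer ((P : Subgroup G) : Set G), ∃ u ∈ (P : Subgroup G), ∃ l ∈ L, n = u * l := by
  have hpp : p.Prime := hp.out
  obtain ⟨L, hL⟩ : ∃ L, L = normalizer ((P : Subgroup G) : Set G) := ⟨_, rfl⟩
  have hPL : (P : Subgroup G) ≤ L := hL ▸ le_normalizer
  have hPLn : ((P : Subgroup G).subgroupOf L).Normal := by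
    rw [hL]; exact normal_in_normalizer
  have hidx : ¬ p ∣ ((P : Subgroup G).subgroupOf L).index := by
    intro hd
    have := Subgroup.relIndex_mul_index hPL
    exact P.not_dvd_index (this ▸ Dvd.dvd.mul_right hd _)
  have hcop : Nat.Coprime (Nat.card ((P : Subgroup G).subgroupOf L))
      ((P : Subgroup G).subgroupOf L).index := by
    have hpg : IsPGroup p ((P : Subgroup G).subgroupOf L) := P.2.comap_subtype
    obtain ⟨n, hn⟩ := hpg.exists_card_eq
    rw [hn]
    exact Nat.Coprime.pow_left _ ((Nat.Prime.coprime_iff_not_dvd hpp).2 hidx)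
  obtain ⟨K', hK'⟩ := Subgroup.exists_right_complement'_of_coprime hcop
  refine ⟨K'.map L.subtype, ?_, ?_, ?_, ?_⟩
  · rw [← hL]; exact Subgroup.map_subtype_le K'
  · rw [Subgroup.card_map_of_injective L.subtype_injective, ← hK'.symm.index_eq_card]
    exact hidx
  · rw [Subgroup.card_map_of_injective L.subtype_injective, ← hL, ← hK'.card_mul_card]
    congr 1
    exact Nat.card_congr (Subgroup.subgroupOfEquivOfLe hPL).toEquiv
  · rw [← hL]
    intro n hn
    obtain ⟨⟨u', k'⟩, huk⟩ := hK'.2 ⟨n, hn⟩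
    refine ⟨(u' : L), u'.2, (k' : L), Subgroup.mem_map_of_mem L.subtype k'.2, ?_⟩
    have := congrArg Subtype.val huk
    simpa using this.symm

section withL

variable {L : Subgroup G} (hLN : L ≤ normalizer ((P : Subgroup G) : Set G))
  (hLp : ¬ p ∣ Nat.card L)
  (hLdec : ∀ n ∈ normalizer ((P : Subgroup G) : Set G),
    ∃ u ∈ (P : Subgroup G), ∃ l ∈ L, n = u * l)

include hLp in
theorem L_inf_P : L ⊓ (P : Subgroup G) = ⊥ := by
  rw [eq_bot_iff]
  intro c hc
  rw [mem_bot]
  refine eq_one_of_mem_coprime P ?_ hc.1 hc.2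
  exact ((Nat.Prime.coprime_iff_not_dvd hp.out).2 hLp).symm

include hab hLp in
theorem L_comm {a b : G} (ha : a ∈ L) (hb : b ∈ L) : a * b = b * a :=
  Subtype.ext_iff.1 ((hab L hLp).is_comm.comm ⟨a, ha⟩ ⟨b, hb⟩)

include hcyc hab hLN hLp hLdec in
/-- the `p'`-elements of `C_G(P)` lie in `K = L ∩ C_G(P)` -/
theorem mem_K_of_coprime {w : G} (hwC : w ∈ centralizer ((P : Subgroup G) : Set G))
    (hwp : (orderOf w).Coprime p) : w ∈ L := by
  obtain ⟨u, hu, l, hl, rfl⟩ := hLdec w (centralizer_le_normalizer _ hwC)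
  have hlC : l ∈ centralizer ((P : Subgroup G) : Set G) := by
    have : l = u⁻¹ * (u * l) := by group
    rw [this]
    exact mul_mem (inv_mem (P_le_C P hcyc hu)) hwC
  have hcomm : Commute u l := (mem_centralizer_iff.1 hlC u hu)
  have h1 : u ^ orderOf (u * l) * l ^ orderOf (u * l) = 1 := by
    rw [← hcomm.mul_pow, pow_orderOf_eq_one]
  have h2 : u ^ orderOf (u * l) ∈ L ⊓ (P : Subgroup G) := by
    refine Subgroup.mem_inf.2 ⟨?_, pow_mem hu _⟩
    have : u ^ orderOf (u * l) = (l ^ orderOf (u * l))⁻¹ := eq_inv_of_mul_eq_one_left h1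
    rw [this]
    exact inv_mem (pow_mem hl _)
  rw [L_inf_P P hLp, mem_bot] at h2
  obtain ⟨k, hk⟩ := IsPGroup.iff_card.mp P.isPGroup'
  have h3 : orderOf u ∣ orderOf (u * l) := orderOf_dvd_of_pow_eq_one h2
  have h4 : orderOf u ∣ p ^ k := by
    rw [← hk]; exact Subgroup.orderOf_dvd_natCard (P : Subgroup G) hu
  have h5 : orderOf u = 1 :=
    Nat.Coprime.eq_one_of_dvd (Nat.Coprime.coprime_dvd_left h3 (hwp.pow_right k)) h4
  rw [orderOf_eq_one_iff.1 h5, one_mul]
  exact hl

include hcyc hab hLN hLp hLdec in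
/-- elements of `K = L ∩ C_G(P)` are central in `N_G(P)` -/
theorem K_central {k : G} (hkL : k ∈ L) (hkC : k ∈ centralizer ((P : Subgroup G) : Set G))
    {n : G} (hn : n ∈ normalizer ((P : Subgroup G) : Set G)) : n * k = k * n := by
  obtain ⟨u, hu, l, hl, rfl⟩ := hLdec n hn
  have h1 : u * k = k * u := mem_centralizer_iff.1 hkC u hu
  have h2 : l * k = k * l := L_comm hab hLp hl hkL
  calc u * l * k = u * (l * k) := by group
    _ = u * (k * l) := by rw [h2]
    _ = (u * k) * l := by group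
    _ = k * u * l := by rw [h1]
    _ = k * (u * l) := by group

end withL

end ctx

end Cfsg.Agent.H2.CycSylAb
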