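import Mathlib
import Cfsg.Agent.H2.HHd

namespace Cfsg.Agent.H2.HH

open Module

universe u v

section EIrr
variable {k : Type*} [Field k] [IsAlgClosed k] {W : Type u} [AddCommGroup W] [Module k W]
  [FiniteDimensional k W] {Γ : Type*} [Group Γ] [Finite Γ]

theorem E_irreducible (ρ : Representation k Γ W) (Q Z : Subgroup Γ) (x : Γ) (q r : ℕ) (hq : q.Prime)
    (hr : r.Prime) (hqr : q ≠ r) (hqk : (q : k) ≠ 0) (hrk : (r : k) ≠ 0) (hxr : x ^ r = 1)
    (hQ : IsPGroup q Q) (hxQ : ∀ g ∈ Q, x * g * x⁻¹ ∈ Q)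
    (hZQ : Z ≤ Q) (hZcard : Nat.card Z = q)
    (hZc : ∀ z ∈ Z, ∀ g ∈ Q, z * g = g * z) (hZx : ∀ z ∈ Z, z * x = x * z)
    (hcomm : ∀ g ∈ Q, ∀ h ∈ Q, g * h * g⁻¹ * h⁻¹ ∈ Z)
    (hZfull : ∀ g ∈ Q, (∀ h ∈ Q, g * h = h * g) → g ∈ Z)
    (hCQ : ∀ g ∈ Q, g * x = x * g → g ∈ Z)
    (hCW : ∀ w, ρ x w = w → w = 0)
    (hz₀ : ∃ z ∈ Z, ρ z ≠ 1)
    (hirr : ∀ U : Submodule k W, (∀ g ∈ Q, ∀ u ∈ U, ρ g u ∈ U) → (∀ u ∈ U, ρ x u ∈ U) →
      U = ⊥ ∨ U = ⊤) :
    Nat.card Q ≤ q * (r - 1) ^ 2 := by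
  classical
  obtain ⟨z₀, hz₀Z, hz₀ρ⟩ := hz₀
  have hW : Nontrivial W := by
    by_contra hW
    rw [not_nontrivial_iff_subsingleton] at hW
    apply hz₀ρ
    exact LinearMap.ext fun w => Subsingleton.elim _ _
  haveI : Fact q.Prime := ⟨hq⟩
  have hxQ' := conj_inv_mem Q x r hr.pos hxr hxQ
  obtain ⟨aQ, haQ⟩ := IsPGroup.iff_card.1 hQ
  -- Schur
  have hschur : ∀ T : Module.End k W, (∀ g ∈ Q, T * ρ g = ρ g * T) → T * ρ x = ρ x * T →
      ∃ c : k, T = c • 1 := by
    intro T hT1 hT2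
    obtain ⟨μ, hμ⟩ := Module.End.exists_eigenvalue T
    have hU := hirr (T.eigenspace μ)
      (by
        intro g hg u hu
        rw [Module.End.mem_eigenspace_iff] at hu ⊢
        rw [← Module.End.mul_apply, hT1 g hg, Module.End.mul_apply, hu, map_smul])
      (by
        intro u hu
        rw [Module.End.mem_eigenspace_iff] at hu ⊢
        rw [← Module.End.mul_apply, hT2, Module.End.mul_apply, hu, map_smul])
    rcases hU with hU | hU
    · exact absurd hU hμ
    · refine ⟨μ, LinearMap.ext fun w => ?_⟩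
      have hw : w ∈ T.eigenspace μ := by rw [hU]; exact Submodule.mem_top
      rw [Module.End.mem_eigenspace_iff] at hw
      rw [hw, LinearMap.smul_apply, Module.End.one_apply]
  -- Z acts by scalars
  have hZscalar : ∀ z ∈ Z, ∃ c : k, ρ z = c • 1 := by
    intro z hz
    apply hschur (ρ z)
    · intro g hg
      rw [← map_mul, ← map_mul, hZc z hz g hg]
    · rw [← map_mul, ← map_mul, hZx z hz]
  -- injective on Z
  have hZinj : ∀ z ∈ Z, ρ z = 1 → z = 1 := by
    intro z hz hρz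
    by_contra hz1
    have h3 : (⟨z₀, hz₀Z⟩ : Z) ∈ Subgroup.zpowers (⟨z, hz⟩ : Z) :=
      mem_zpowers_of_prime_card hZcard (fun h => hz1 (congrArg Subtype.val h))
    obtain ⟨n, hn⟩ := Subgroup.mem_zpowers_iff.1 h3
    have h4 : z ^ n = z₀ := by
      have := congrArg Subtype.val hn
      rwa [Subgroup.coe_zpow] at this
    apply hz₀ρ
    have hzker : z ∈ MonoidHom.ker ρ := hρz
    have h5 : z ^ n ∈ MonoidHom.ker ρ := Subgroup.zpow_mem _ hzker n
    rw [h4] at h5
    exact h5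
  -- scalar elements of Q lie in Z
  have hscalZ : ∀ g ∈ Q, (∃ c : k, ρ g = c • 1) → g ∈ Z := by
    rintro g hg ⟨c, hc⟩
    apply hZfull g hg
    intro h hh
    have h3 : g * h * g⁻¹ * h⁻¹ ∈ Z := hcomm g hg h hh
    have h4 : ρ (g * h * g⁻¹ * h⁻¹) = 1 := by
      have hgc : ρ g * ρ h = ρ h * ρ g := by
        rw [hc, smul_mul_assoc, mul_smul_comm, one_mul, mul_one]
      rw [map_mul, map_mul, map_mul, hgc, mul_assoc (ρ h), rho_mul_inv, mul_one, rho_mul_inv]
    have h5 := hZinj _ h3 h4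
    calc g * h = (g * h * g⁻¹ * h⁻¹) * (h * g) := by group
      _ = h * g := by rw [h5, one_mul]
  -- (h1)
  have h1 : ∀ g ∈ Q, ∀ h ∈ Q, ∃ c : k, ρ g * ρ h = c • (ρ h * ρ g) := by
    intro g hg h hh
    obtain ⟨c, hc⟩ := hZscalar _ (hcomm g hg h hh)
    refine ⟨c, ?_⟩
    have e : g * h = (g * h * g⁻¹ * h⁻¹) * (h * g) := by group
    rw [← map_mul, e, map_mul, hc, smul_mul_assoc, one_mul, map_mul]
  -- x normalizes Q
  have hxN : x ∈ Subgroup.normalizer (Q : Set Γ) := by
    rw [Subgroup.mem_normalizer_iff]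
    intro h
    constructor
    · exact hxQ h
    · intro hh
      have := hxQ' _ hh
      have e : x⁻¹ * (x * h * x⁻¹) * x = h := by group
      rwa [e] at this
  -- (h2)
  have h2 : ∀ g ∈ Q, ∀ j : ℤ, ¬ (r : ℤ) ∣ j →
      (∃ c : k, ρ g * ρ (x ^ j) = c • (ρ (x ^ j) * ρ g)) → ∃ c : k, ρ g = c • 1 := by
    intro g hg j hj ⟨c, hc⟩
    set y := x ^ j with hy
    have hyN : y ∈ Subgroup.normalizer (Q : Set Γ) := Subgroup.zpow_mem _ hxN j
    have hygQ : y * g⁻¹ * y⁻¹ ∈ Q := (Subgroup.mem_normalizer_iff.1 hyN g⁻¹).1 (Q.inv_mem hg)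
    set d := g * y * g⁻¹ * y⁻¹ with hd
    have hdQ : d ∈ Q := by
      have e : d = g * (y * g⁻¹ * y⁻¹) := by rw [hd]; group
      rw [e]
      exact Q.mul_mem hg hygQ
    have hρd : ρ d = c • 1 := by
      rw [hd, map_mul, map_mul, map_mul, hc, smul_mul_assoc, smul_mul_assoc, mul_assoc (ρ y),
        rho_mul_inv, mul_one, rho_mul_inv]
    have hdZ : d ∈ Z := hscalZ d hdQ ⟨c, hρd⟩
    have hdx : Commute d x := hZx d hdZ
    have hdy : Commute d y := hdx.zpow_right j
    have hyr : y ^ r = 1 := by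
      rw [hy, ← zpow_natCast, ← zpow_mul, mul_comm, zpow_mul, zpow_natCast, hxr, one_zpow]
    have h3 : g * y * g⁻¹ = d * y := by rw [hd]; group
    have h4 : (g * y * g⁻¹) ^ r = 1 := by
      rw [conj_pow, hyr, mul_one, mul_inv_cancel]
    rw [h3, hdy.mul_pow, hyr, mul_one] at h4
    have hd1 : d = 1 := by
      obtain ⟨a, ha⟩ := hQ ⟨d, hdQ⟩
      have ha' : d ^ (q ^ a) = 1 := by
        have := congrArg Subtype.val ha
        rwa [Subgroup.coe_pow] at this
      have h5 : d ^ (Nat.gcd r (q ^ a)) = 1 := pow_gcd_eq_one.2 ⟨h4, ha'⟩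
      have h6 : Nat.gcd r (q ^ a) = 1 :=
        Nat.Coprime.pow_right _ ((Nat.coprime_primes hr hq).2 hqr.symm)
      rwa [h6, pow_one] at h5
    have hgy : g * y = y * g := by
      have e : g * y = d * (y * g) := by rw [hd]; group
      rw [e, hd1, one_mul]
    have hcy : Commute g y := hgy
    have hcopj : IsCoprime j (r : ℤ) := by
      rw [Int.isCoprime_iff_gcd_eq_one, Int.gcd_comm]
      have : Nat.Coprime r j.natAbs := by
        rw [Nat.Prime.coprime_iff_not_dvd hr]
        intro h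
        exact hj (Int.natCast_dvd.2 h)
      exact this
    obtain ⟨a', b', hab⟩ := hcopj
    have hxy : x = y ^ a' := by
      have h3 : x ^ (a' * j + b' * (r : ℤ)) = x := by rw [hab, zpow_one]
      rw [zpow_add, zpow_mul' x a' j, zpow_mul' x b' (r : ℤ), zpow_natCast, hxr, one_zpow,
        mul_one] at h3
      exact h3.symm
    have hgx : g * x = x * g := by
      rw [hxy]
      exact (hcy.zpow_right a').eq
    exact hZscalar g (hCQ g hg hgx)
  -- apply the core
  have hQk : (Nat.card Q : k) ≠ 0 := by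
    rw [haQ, Nat.cast_pow]
    exact pow_ne_zero _ hqk
  have hr2 : 2 ≤ r := hr.two_le
  rcases core' ρ Q x r hr hxr hxQ hrk hQk hirr hCW h1 h2 with hcore | ⟨hf, hnr⟩
  · have hQZ : Q ≤ Z := fun g hg => hscalZ g hg (hcore g hg)
    have h3 : Nat.card Q ≤ Nat.card Z := Subgroup.card_le_of_le hQZ
    rw [hZcard] at h3
    calc Nat.card Q ≤ q := h3
      _ = q * 1 := (mul_one q).symm
      _ ≤ q * (r - 1) ^ 2 := Nat.mul_le_mul_left _ (Nat.one_le_pow _ _ (by omega))
  · have hdvd := level1 ρ Q hQk hf h1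
    rw [haQ] at hdvd
    obtain ⟨b, _, hb⟩ := (Nat.dvd_prime_pow hq).1 hdvd
    have hfrk : (finrank k W : k) ≠ 0 := by
      rw [hb, Nat.cast_pow]
      exact pow_ne_zero _ hqk
    -- trace vanishing
    have htr : ∀ g ∈ Q, g ∉ Z → LinearMap.trace k W (ρ g) = 0 := by
      intro g hg hgZ
      have h3 : ¬ ∀ h ∈ Q, g * h = h * g := fun h => hgZ (hZfull g hg h)
      push Not at h3
      obtain ⟨h, hh, hne⟩ := h3
      set d := h * g * h⁻¹ * g⁻¹ with hd
      have hdZ : d ∈ Z := hcomm h hh g hg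
      obtain ⟨c, hc⟩ := hZscalar d hdZ
      have hc1 : c ≠ 1 := by
        intro hc1
        rw [hc1, one_smul] at hc
        have h4 := hZinj d hdZ hc
        apply hne
        have e : h * g = d * (g * h) := by rw [hd]; group
        rw [h4, one_mul] at e
        exact e.symm
      have hconj : ρ h * ρ g * ρ h⁻¹ = c • ρ g := by
        have e : h * g * h⁻¹ = d * g := by rw [hd]; group
        rw [← map_mul, ← map_mul, e, map_mul, hc, smul_mul_assoc, one_mul]
      have h4 : LinearMap.trace k W (ρ h * ρ g * ρ h⁻¹) = LinearMap.trace k W (ρ g) := by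
        rw [LinearMap.trace_mul_comm, ← mul_assoc, rho_inv_mul, one_mul]
      rw [hconj, map_smul, smul_eq_mul] at h4
      have h5 : (c - 1) * LinearMap.trace k W (ρ g) = 0 := by rw [sub_mul, one_mul, h4, sub_self]
      rcases mul_eq_zero.1 h5 with h6 | h6
      · exact absurd (sub_eq_zero.1 h6) hc1
      · exact h6
    -- linear independence of coset representatives
    set Zq : Subgroup Q := Z.subgroupOf Q with hZq
    let t : Q ⧸ Zq → Q := fun c => Quotient.out c
    have ht : ∀ c, (QuotientGroup.mk (t c) : Q ⧸ Zq) = c := fun c => QuotientGroup.out_eq' c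
    let T : Q ⧸ Zq → Module.End k W := fun c => ρ (t c : Γ)
    have hli : LinearIndependent k T := by
      rw [linearIndependent_iff']
      intro s a hsum j hj
      have h3 := congrArg (fun M => LinearMap.trace k W (ρ ((t j : Γ)⁻¹) * M)) hsum
      simp only [Finset.mul_sum, mul_smul_comm, map_sum, map_smul, mul_zero, map_zero] at h3
      rw [Finset.sum_eq_single j] at h3
      · have h4 : ρ ((t j : Γ)⁻¹) * T j = 1 := rho_inv_mul ρ _
        rw [h4, LinearMap.trace_one, smul_eq_mul] at h3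
        rcases mul_eq_zero.1 h3 with h5 | h5
        · exact h5
        · exact absurd h5 hfrk
      · intro c _ hcj
        have h4 : ρ ((t j : Γ)⁻¹) * T c = ρ ((t j : Γ)⁻¹ * (t c : Γ)) := (map_mul ρ _ _).symm
        rw [h4, htr, smul_zero]
        · exact Q.mul_mem (Q.inv_mem (t j).2) (t c).2
        · intro hmem
          apply hcj
          rw [← ht c, ← ht j]
          symm
          rw [QuotientGroup.eq]
          rw [hZq, Subgroup.mem_subgroupOf]
          exact hmem
      · intro hj'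
        exact absurd hj hj'
    haveI : Fintype (Q ⧸ Zq) := Fintype.ofFinite _
    have hle := hli.fintype_card_le_finrank
    rw [Module.finrank_linearMap, ← Nat.card_eq_fintype_card] at hle
    have hcardQ : Nat.card Q = Nat.card (Q ⧸ Zq) * Nat.card Zq :=
      Subgroup.card_eq_card_quotient_mul_card_subgroup Zq
    have hcardZq : Nat.card Zq = q := by
      rw [← hZcard]
      exact Nat.card_congr (Subgroup.subgroupOfEquivOfLe hZQ).toEquiv
    have hfr : finrank k W = r - 1 := by omega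
    rw [hcardQ, hcardZq, mul_comm]
    apply Nat.mul_le_mul_left
    rw [hfr] at hle
    calc Nat.card (Q ⧸ Zq) ≤ (r - 1) * (r - 1) := hle
      _ = (r - 1) ^ 2 := (sq _).symm

end EIrr

end Cfsg.Agent.H2.HH
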