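import Mathlib
import Cfsg.Agent.H2.HHf

namespace Cfsg.Agent.H2.HH

open Module

universe u v

section MainE
variable {k : Type*} [Field k] [IsAlgClosed k]

theorem main_E (q r : ℕ) (hq : q.Prime) (hr : r.Prime) (hqr : q ≠ r)
    (hqk : (q : k) ≠ 0) (hrk : (r : k) ≠ 0)
    {Γ : Type v} [Group Γ] [Finite Γ] (x : Γ) {W : Type u} [AddCommGroup W] [Module k W]
    [FiniteDimensional k W] (ρ : Representation k Γ W) (Q Z : Subgroup Γ)
    (hxr : x ^ r = 1) (hQ : IsPGroup q Q) (hxQ : ∀ g ∈ Q, x * g * x⁻¹ ∈ Q)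
    (hZQ : Z ≤ Q) (hZcard : Nat.card Z = q)
    (hZc : ∀ z ∈ Z, ∀ g ∈ Q, z * g = g * z) (hZx : ∀ z ∈ Z, z * x = x * z)
    (hcomm : ∀ g ∈ Q, ∀ h ∈ Q, g * h * g⁻¹ * h⁻¹ ∈ Z)
    (hZfull : ∀ g ∈ Q, (∀ h ∈ Q, g * h = h * g) → g ∈ Z)
    (hCQ : ∀ g ∈ Q, g * x = x * g → g ∈ Z)
    (hCW : ∀ w, ρ x w = w → w = 0)
    (hz₀ : ∃ z ∈ Z, ρ z ≠ 1) :
    Nat.card Q ≤ q * (r - 1) ^ 2 := by
  classical
  obtain ⟨z₀, hz₀Z, hz₀ρ⟩ := hz₀
  haveI : Fact q.Prime := ⟨hq⟩
  have hxQ' := conj_inv_mem Q x r hr.pos hxr hxQ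
  -- z₀ ^ q = 1
  have hz₀q : z₀ ^ q = 1 := by
    have h3 : (⟨z₀, hz₀Z⟩ : Z) ^ Nat.card Z = 1 := pow_card_eq_one'
    have h4 := congrArg Subtype.val h3
    rwa [Subgroup.coe_pow, hZcard] at h4
  set A : Module.End k W := ρ z₀ with hA
  have hAq : A ^ q = 1 := by rw [hA, ← map_pow, hz₀q, map_one]
  set Nm : Module.End k W := ∑ i ∈ Finset.range q, A ^ i with hNm
  have hNmA : Nm * (A - 1) = 0 := by
    rw [hNm, geom_sum_mul, hAq, sub_self]
  have hAQ : ∀ g ∈ Q, Commute (ρ g) A := by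
    intro g hg
    show ρ g * ρ z₀ = ρ z₀ * ρ g
    rw [← map_mul, ← map_mul, hZc z₀ hz₀Z g hg]
  have hAx : Commute (ρ x) A := by
    show ρ x * ρ z₀ = ρ z₀ * ρ x
    rw [← map_mul, ← map_mul, hZx z₀ hz₀Z]
  have hNmQ : ∀ g ∈ Q, Commute (ρ g) Nm := by
    intro g hg
    rw [hNm]
    exact Commute.sum_right _ _ _ (fun i _ => (hAQ g hg).pow_right i)
  have hNmx : Commute (ρ x) Nm := by
    rw [hNm]
    exact Commute.sum_right _ _ _ (fun i _ => hAx.pow_right i)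
  set U₀ : Submodule k W := LinearMap.ker Nm with hU₀
  have hU₀Q : ∀ g ∈ Q, ∀ u ∈ U₀, ρ g u ∈ U₀ := by
    intro g hg u hu
    rw [hU₀, LinearMap.mem_ker] at hu ⊢
    rw [← Module.End.mul_apply, ← (hNmQ g hg).eq, Module.End.mul_apply, hu, map_zero]
  have hU₀x : ∀ u ∈ U₀, ρ x u ∈ U₀ := by
    intro u hu
    rw [hU₀, LinearMap.mem_ker] at hu ⊢
    rw [← Module.End.mul_apply, ← hNmx.eq, Module.End.mul_apply, hu, map_zero]
  have hU₀fix : ∀ u ∈ U₀, A u = u → u = 0 := by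
    intro u hu hAu
    rw [hU₀, LinearMap.mem_ker] at hu
    have hpow : ∀ i : ℕ, (A ^ i) u = u := by
      intro i
      induction i with
      | zero => simp
      | succ i ih => rw [pow_succ, Module.End.mul_apply, hAu, ih]
    rw [hNm, LinearMap.sum_apply] at hu
    simp only [hpow, Finset.sum_const, Finset.card_range] at hu
    rw [← Nat.cast_smul_eq_nsmul k] at hu
    rcases smul_eq_zero.1 hu with h | h
    · exact absurd h hqk
    · exact h
  have hU₀ne : U₀ ≠ ⊥ := by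
    intro h
    apply hz₀ρ
    refine LinearMap.ext fun w => ?_
    have h3 : (A - 1) w ∈ U₀ := by
      rw [hU₀, LinearMap.mem_ker, ← Module.End.mul_apply, hNmA, LinearMap.zero_apply]
    rw [h, Submodule.mem_bot, LinearMap.sub_apply, Module.End.one_apply, sub_eq_zero] at h3
    rw [h3, Module.End.one_apply]
  -- a minimal invariant subspace
  let S : Set (Submodule k W) := {U | U ≠ ⊥ ∧ U ≤ U₀ ∧ (∀ g ∈ Q, ∀ u ∈ U, ρ g u ∈ U) ∧
    (∀ u ∈ U, ρ x u ∈ U)}
  have hSne : S.Nonempty := ⟨U₀, hU₀ne, le_rfl, hU₀Q, hU₀x⟩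
  obtain ⟨W₁, hW₁S, hW₁min⟩ := (wellFounded_lt (α := Submodule k W)).has_min S hSne
  obtain ⟨hW₁ne, hW₁U₀, hW₁Q, hW₁x⟩ := hW₁S
  -- restrict
  have hpowU : ∀ n : ℕ, ∀ u ∈ W₁, (ρ x ^ n) u ∈ W₁ := by
    intro n
    induction n with
    | zero => intro u hu; simpa using hu
    | succ n ih' =>
      intro u hu
      rw [pow_succ, Module.End.mul_apply]
      exact ih' _ (hW₁x u hu)
  have hW₁x' : ∀ u ∈ W₁, ρ x⁻¹ u ∈ W₁ := by
    intro u hu
    rw [inv_eq_pow_pred x r hr.pos hxr, map_pow]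
    exact hpowU _ u hu
  set Γ' := stab ρ W₁ with hΓ'
  have hQΓ' : Q ≤ Γ' := fun g hg => ⟨hW₁Q g hg, hW₁Q g⁻¹ (Q.inv_mem hg)⟩
  have hZΓ' : Z ≤ Γ' := hZQ.trans hQΓ'
  have hxΓ' : x ∈ Γ' := ⟨hW₁x, hW₁x'⟩
  set ρ' : Representation k Γ' W := ρ.comp Γ'.subtype with hρ'
  have hle_comap : ∀ γ : Γ', W₁ ≤ W₁.comap (ρ' γ) := fun γ u hu => γ.2.1 u hu
  set ρU := ρ'.subrepresentation W₁ hle_comap with hρU
  have hρUapp : ∀ (γ : Γ') (u : W₁), ((ρU γ u : W₁) : W) = ρ (γ : Γ) (u : W) := fun γ u => rfl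
  set Q' : Subgroup Γ' := Q.subgroupOf Γ' with hQ'
  set Z' : Subgroup Γ' := Z.subgroupOf Γ' with hZ'
  set x' : Γ' := ⟨x, hxΓ'⟩ with hx'
  have hcard : Nat.card Q' = Nat.card Q :=
    Nat.card_congr (Subgroup.subgroupOfEquivOfLe hQΓ').toEquiv
  have hcardZ : Nat.card Z' = Nat.card Z :=
    Nat.card_congr (Subgroup.subgroupOfEquivOfLe hZΓ').toEquiv
  have hQ'P : IsPGroup q Q' := hQ.comap_subtype
  have hx'r : x' ^ r = 1 := by
    apply Subtype.ext
    rw [Subgroup.coe_pow]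
    exact hxr
  have hx'Q' : ∀ g ∈ Q', x' * g * x'⁻¹ ∈ Q' := by
    intro g hg
    rw [hQ', Subgroup.mem_subgroupOf] at hg ⊢
    exact hxQ _ hg
  have key := E_irreducible ρU Q' Z' x' q r hq hr hqr hqk hrk hx'r hQ'P hx'Q'
    (by
      intro g hg
      rw [hZ', Subgroup.mem_subgroupOf] at hg
      rw [hQ', Subgroup.mem_subgroupOf]
      exact hZQ hg)
    (by rw [hcardZ, hZcard])
    (by
      intro z hz g hg
      apply Subtype.ext
      exact hZc _ (Subgroup.mem_subgroupOf.1 hz) _ (Subgroup.mem_subgroupOf.1 hg))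
    (by
      intro z hz
      apply Subtype.ext
      exact hZx _ (Subgroup.mem_subgroupOf.1 hz))
    (by
      intro g hg h hh
      rw [hZ', Subgroup.mem_subgroupOf]
      exact hcomm _ (Subgroup.mem_subgroupOf.1 hg) _ (Subgroup.mem_subgroupOf.1 hh))
    (by
      intro g hg hall
      rw [hZ', Subgroup.mem_subgroupOf]
      apply hZfull _ (Subgroup.mem_subgroupOf.1 hg)
      intro h hh
      have := hall ⟨h, hQΓ' hh⟩ (Subgroup.mem_subgroupOf.2 hh)
      exact congrArg Subtype.val this)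
    (by
      intro g hg hgx
      rw [hZ', Subgroup.mem_subgroupOf]
      apply hCQ _ (Subgroup.mem_subgroupOf.1 hg)
      exact congrArg Subtype.val hgx)
    (by
      intro u hu
      apply Subtype.ext
      apply hCW
      have := congrArg Subtype.val hu
      rwa [hρUapp] at this)
    (by
      refine ⟨⟨z₀, hZΓ' hz₀Z⟩, Subgroup.mem_subgroupOf.2 hz₀Z, ?_⟩
      intro h
      apply hW₁ne
      rw [eq_bot_iff]
      intro u hu
      rw [Submodule.mem_bot]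
      apply hU₀fix u (hW₁U₀ hu)
      have h3 := congrArg Subtype.val (LinearMap.congr_fun h ⟨u, hu⟩)
      rw [hρUapp] at h3
      exact h3)
    (by
      intro U hUQ hUx
      by_cases hU0 : U = ⊥
      · left; exact hU0
      right
      set U₁ : Submodule k W := U.map W₁.subtype with hU₁
      have hU₁le : U₁ ≤ W₁ := by
        rintro _ ⟨u, _, rfl⟩
        exact u.2
      have hU₁S : U₁ ∈ S := by
        refine ⟨?_, hU₁le.trans hW₁U₀, ?_, ?_⟩
        · intro h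
          apply hU0
          rw [eq_bot_iff]
          intro u hu
          have h3 : (u : W) ∈ U₁ := ⟨u, hu, rfl⟩
          rw [h, Submodule.mem_bot] at h3
          rw [Submodule.mem_bot]
          exact Subtype.ext h3
        · rintro g hg _ ⟨u, hu, rfl⟩
          refine ⟨ρU ⟨g, hQΓ' hg⟩ u, hUQ ⟨g, hQΓ' hg⟩ (Subgroup.mem_subgroupOf.2 hg) u hu, ?_⟩
          rfl
        · rintro _ ⟨u, hu, rfl⟩
          refine ⟨ρU x' u, hUx u hu, ?_⟩
          rfl
      have h3 : ¬ U₁ < W₁ := hW₁min U₁ hU₁S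
      have h4 : U₁ = W₁ := by
        by_contra hne
        exact h3 (lt_of_le_of_ne hU₁le hne)
      rw [eq_top_iff]
      intro u _
      have h5 : (u : W) ∈ U₁ := by rw [h4]; exact u.2
      obtain ⟨u', hu', hu'e⟩ := h5
      have : u' = u := Subtype.ext hu'e
      rw [← this]
      exact hu')
  rw [hcard] at key
  exact key

end MainE

end Cfsg.Agent.H2.HH
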