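import Mathlib
import Cfsg.Agent.H2.HHg
import Cfsg.Agent.H1.FrobFixC

namespace Cfsg.Agent.H2.HH

open Module
open scoped TensorProduct

universe u v

theorem main_E_field {F : Type*} [Field F] (q r : ℕ) (hq : q.Prime) (hr : r.Prime) (hqr : q ≠ r)
    (hqF : (q : F) ≠ 0) (hrF : (r : F) ≠ 0)
    {Γ : Type v} [Group Γ] [Finite Γ] (x : Γ) {V : Type u} [AddCommGroup V] [Module F V]
    [FiniteDimensional F V] (ρ₀ : Representation F Γ V) (Q Z : Subgroup Γ) (hxr : x ^ r = 1)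
    (hQ : IsPGroup q Q) (hxQ : ∀ g ∈ Q, x * g * x⁻¹ ∈ Q)
    (hZQ : Z ≤ Q) (hZcard : Nat.card Z = q)
    (hZc : ∀ z ∈ Z, ∀ g ∈ Q, z * g = g * z) (hZx : ∀ z ∈ Z, z * x = x * z)
    (hcomm : ∀ g ∈ Q, ∀ h ∈ Q, g * h * g⁻¹ * h⁻¹ ∈ Z)
    (hZfull : ∀ g ∈ Q, (∀ h ∈ Q, g * h = h * g) → g ∈ Z)
    (hCQ : ∀ g ∈ Q, g * x = x * g → g ∈ Z)
    (hCV : ∀ v, ρ₀ x v = v → v = 0)
    (hz₀ : ∃ z ∈ Z, ρ₀ z ≠ 1) :
    Nat.card Q ≤ q * (r - 1) ^ 2 := by
  set k := AlgebraicClosure F with hk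
  set bc : Module.End F V →ₐ[F] Module.End k (k ⊗[F] V) := Module.End.baseChangeHom F k V with hbc
  have hbcinj : Function.Injective bc := by
    intro a b hab
    exact LinearMap.baseChangeHom_injective F V k hab
  set ρ : Representation k Γ (k ⊗[F] V) := (bc : Module.End F V →* Module.End k (k ⊗[F] V)).comp ρ₀
    with hρ
  have hρapp : ∀ g : Γ, ρ g = bc (ρ₀ g) := fun g => rfl
  have hqk : (q : k) ≠ 0 := by
    intro h
    apply hqF
    apply (algebraMap F k).injective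
    rw [map_natCast, h, map_zero]
  have hrk : (r : k) ≠ 0 := by
    intro h
    apply hrF
    apply (algebraMap F k).injective
    rw [map_natCast, h, map_zero]
  have hCW : ∀ w, ρ x w = w → w = 0 := by
    intro w hw
    have hker : LinearMap.ker (ρ₀ x - 1) = ⊥ := by
      rw [LinearMap.ker_eq_bot']
      intro v hv
      rw [LinearMap.sub_apply, Module.End.one_apply, sub_eq_zero] at hv
      exact hCV v hv
    obtain ⟨S, hS⟩ := LinearMap.exists_leftInverse_of_injective (ρ₀ x - 1) hker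
    have hS' : S * (ρ₀ x - 1) = 1 := hS
    have h3 : bc S * (ρ x - 1) = 1 := by
      calc bc S * (ρ x - 1) = bc S * bc (ρ₀ x - 1) := by rw [map_sub, map_one, hρapp]
        _ = bc (S * (ρ₀ x - 1)) := (map_mul bc _ _).symm
        _ = 1 := by rw [hS', map_one]
    have h4 : w = (bc S * (ρ x - 1)) w := by rw [h3, Module.End.one_apply]
    rw [h4, Module.End.mul_apply, LinearMap.sub_apply, Module.End.one_apply, hw, sub_self, map_zero]
  obtain ⟨z₀, hz₀Z, hz₀ρ⟩ := hz₀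
  exact main_E (k := k) q r hq hr hqr hqk hrk x ρ Q Z hxr hQ hxQ hZQ hZcard hZc hZx hcomm hZfull
    hCQ hCW ⟨z₀, hz₀Z, fun h => hz₀ρ (hbcinj (by rw [← hρapp, h, map_one]))⟩

open Cfsg.Agent.H1.FrobFix in
theorem action_E {F : Type v} [Group F] [Finite F] {H : Type u} [CommGroup H] [Finite H]
    (p q r : ℕ) [hp : Fact p.Prime] (hq : q.Prime) (hr : r.Prime) (hpq : p ≠ q) (hpr : p ≠ r)
    (hqr : q ≠ r) [Module (ZMod p) (Additive H)]
    (φ : F →* MulAut H) (x : F) (Q Z : Subgroup F) (hxr : x ^ r = 1) (hQ : IsPGroup q Q)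
    (hxQ : ∀ g ∈ Q, x * g * x⁻¹ ∈ Q)
    (hZQ : Z ≤ Q) (hZcard : Nat.card Z = q)
    (hZc : ∀ z ∈ Z, ∀ g ∈ Q, z * g = g * z) (hZx : ∀ z ∈ Z, z * x = x * z)
    (hcomm : ∀ g ∈ Q, ∀ h ∈ Q, g * h * g⁻¹ * h⁻¹ ∈ Z)
    (hZfull : ∀ g ∈ Q, (∀ h ∈ Q, g * h = h * g) → g ∈ Z)
    (hCQ : ∀ g ∈ Q, g * x = x * g → g ∈ Z)
    (hCV : ∀ h : H, φ x h = h → h = 1)
    (hz₀ : ∃ z ∈ Z, ∃ h : H, φ z h ≠ h) :
    Nat.card Q ≤ q * (r - 1) ^ 2 := by
  classical
  let ρ₀ : F →* Module.End (ZMod p) (Additive H) :=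
    { toFun := fun f => actLin p (φ f)
      map_one' := by
        refine LinearMap.ext fun v => ?_
        rw [actLin_apply, map_one, MulAut.one_apply, Module.End.one_apply]
        rfl
      map_mul' := by
        intro f g
        refine LinearMap.ext fun v => ?_
        rw [Module.End.mul_apply, actLin_apply, actLin_apply, actLin_apply, phi_mul_apply]
        rfl }
  have hρ₀ : ∀ (f : F) (v : Additive H), ρ₀ f v = Additive.ofMul (φ f (Additive.toMul v)) :=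
    fun f v => rfl
  have hqF : (q : ZMod p) ≠ 0 := by
    rw [Ne, ZMod.natCast_eq_zero_iff]
    intro h
    exact hpq ((Nat.prime_dvd_prime_iff_eq hp.out hq).1 h)
  have hrF : (r : ZMod p) ≠ 0 := by
    rw [Ne, ZMod.natCast_eq_zero_iff]
    intro h
    exact hpr ((Nat.prime_dvd_prime_iff_eq hp.out hr).1 h)
  haveI : Finite (Additive H) := inferInstanceAs (Finite H)
  haveI : FiniteDimensional (ZMod p) (Additive H) := Module.Finite.of_finite
  obtain ⟨z₀, hz₀Z, h₀, hz₀h⟩ := hz₀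
  exact main_E_field (F := ZMod p) q r hq hr hqr hqF hrF x ρ₀ Q Z hxr hQ hxQ hZQ hZcard hZc hZx
    hcomm hZfull hCQ
    (by
      intro v hv
      rw [hρ₀] at hv
      have h3 : φ x (Additive.toMul v) = Additive.toMul v := congrArg Additive.toMul hv
      have h4 := hCV _ h3
      exact congrArg Additive.ofMul h4)
    ⟨z₀, hz₀Z, by
      intro h
      apply hz₀h
      have h3 := LinearMap.congr_fun h (Additive.ofMul h₀)
      rw [hρ₀, Module.End.one_apply] at h3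
      exact congrArg Additive.toMul h3⟩

theorem internal_E {G : Type u} [Group G] [Finite G] {p q r : ℕ} (hp : p.Prime) (hq : q.Prime)
    (hr : r.Prime) (hpq : p ≠ q) (hpr : p ≠ r) (hqr : q ≠ r) (Q Z V : Subgroup G) (x : G)
    (hxr : x ^ r = 1) (hQ : IsPGroup q Q) (hxQ : ∀ g ∈ Q, x * g * x⁻¹ ∈ Q)
    (hZQ : Z ≤ Q) (hZcard : Nat.card Z = q)
    (hZc : ∀ z ∈ Z, ∀ g ∈ Q, z * g = g * z) (hZx : ∀ z ∈ Z, z * x = x * z)
    (hcomm : ∀ g ∈ Q, ∀ h ∈ Q, g * h * g⁻¹ * h⁻¹ ∈ Z)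
    (hZfull : ∀ g ∈ Q, (∀ h ∈ Q, g * h = h * g) → g ∈ Z)
    (hCQ : ∀ g ∈ Q, g * x = x * g → g ∈ Z)
    (hVcomm : ∀ a ∈ V, ∀ b ∈ V, a * b = b * a) (hVexp : ∀ a ∈ V, a ^ p = 1)
    (hxV : x ∈ Subgroup.normalizer (V : Set G)) (hQV : Q ≤ Subgroup.normalizer (V : Set G))
    (hCV : ∀ v ∈ V, x * v = v * x → v = 1)
    (hz₀ : ∃ z ∈ Z, ∃ v ∈ V, z * v ≠ v * z) :
    Nat.card Q ≤ q * (r - 1) ^ 2 := by
  classical
  haveI : Fact p.Prime := ⟨hp⟩
  set L := Subgroup.normalizer (V : Set G) with hLdef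
  have hL : ∀ y ∈ L, ∀ h ∈ V, y * h * y⁻¹ ∈ V :=
    fun y hy h hh => (Subgroup.mem_normalizer_iff.1 hy h).1 hh
  set φ := Cfsg.Agent.H1.FrobFix.conjAct L V hL with hφ
  letI : CommGroup V :=
    { (inferInstance : Group V) with mul_comm := fun a b => Subtype.ext (hVcomm a a.2 b b.2) }
  letI : Module (ZMod p) (Additive V) := AddCommGroup.zmodModule (n := p) (by
    intro v
    show Additive.ofMul ((Additive.toMul v) ^ p) = 0
    have : (Additive.toMul v) ^ p = 1 := by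
      apply Subtype.ext
      rw [Subgroup.coe_pow]
      exact hVexp _ (Additive.toMul v).2
    rw [this]
    rfl)
  have hZL : Z ≤ L := hZQ.trans hQV
  have hcard : Nat.card (Q.subgroupOf L) = Nat.card Q :=
    Nat.card_congr (Subgroup.subgroupOfEquivOfLe hQV).toEquiv
  have hcardZ : Nat.card (Z.subgroupOf L) = Nat.card Z :=
    Nat.card_congr (Subgroup.subgroupOfEquivOfLe hZL).toEquiv
  obtain ⟨z₀, hz₀Z, v₀, hv₀V, hz₀v₀⟩ := hz₀
  have key := action_E (F := L) (H := V) p q r hq hr hpq hpr hqr φ ⟨x, hxV⟩ (Q.subgroupOf L)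
    (Z.subgroupOf L)
    (by
      apply Subtype.ext
      rw [Subgroup.coe_pow]
      exact hxr)
    hQ.comap_subtype
    (by
      intro g hg
      rw [Subgroup.mem_subgroupOf] at hg ⊢
      exact hxQ _ hg)
    (by
      intro g hg
      rw [Subgroup.mem_subgroupOf] at hg ⊢
      exact hZQ hg)
    (by rw [hcardZ, hZcard])
    (by
      intro z hz g hg
      apply Subtype.ext
      exact hZc _ (Subgroup.mem_subgroupOf.1 hz) _ (Subgroup.mem_subgroupOf.1 hg))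
    (by
      intro z hz
      apply Subtype.ext
      exact hZx _ (Subgroup.mem_subgroupOf.1 hz))
    (by
      intro g hg h hh
      rw [Subgroup.mem_subgroupOf]
      exact hcomm _ (Subgroup.mem_subgroupOf.1 hg) _ (Subgroup.mem_subgroupOf.1 hh))
    (by
      intro g hg hall
      rw [Subgroup.mem_subgroupOf]
      apply hZfull _ (Subgroup.mem_subgroupOf.1 hg)
      intro h hh
      have := hall ⟨h, hQV hh⟩ (Subgroup.mem_subgroupOf.2 hh)
      exact congrArg Subtype.val this)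
    (by
      intro g hg hgx
      rw [Subgroup.mem_subgroupOf]
      apply hCQ _ (Subgroup.mem_subgroupOf.1 hg)
      exact congrArg Subtype.val hgx)
    (by
      intro h hh
      have h3 : x * (h : G) * x⁻¹ = (h : G) := congrArg Subtype.val hh
      apply Subtype.ext
      apply hCV _ h.2
      calc x * (h : G) = (x * (h : G) * x⁻¹) * x := by group
        _ = (h : G) * x := by rw [h3])
    ⟨⟨z₀, hZL hz₀Z⟩, Subgroup.mem_subgroupOf.2 hz₀Z, ⟨v₀, hv₀V⟩, by
      intro h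
      apply hz₀v₀
      have h3 : z₀ * v₀ * z₀⁻¹ = v₀ := congrArg Subtype.val h
      calc z₀ * v₀ = (z₀ * v₀ * z₀⁻¹) * z₀ := by group
        _ = v₀ * z₀ := by rw [h3]⟩
  rw [hcard] at key
  exact key

end Cfsg.Agent.H2.HH
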