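import Mathlib
import Cfsg.Agent.H2.HHh

namespace Cfsg.Agent.H2.HH

theorem card_modEq_of_normalizes {G : Type*} [Group G] [Finite G] (X Q : Subgroup G) (r : ℕ)
    [Fact r.Prime] (hX : IsPGroup r X) (hXQ : X ≤ Subgroup.normalizer (Q : Set G)) :
    Nat.card Q ≡ Nat.card (Q ⊓ Subgroup.centralizer (X : Set G) : Subgroup G) [MOD r] := by
  classical
  letI : MulAction X Q :=
    { smul := fun y g => ⟨(y : G) * g * (y : G)⁻¹,
        (Subgroup.mem_normalizer_iff.1 (hXQ y.2) g).1 g.2⟩
      one_smul := fun g => by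
        apply Subtype.ext
        show ((1 : X) : G) * g * ((1 : X) : G)⁻¹ = g
        simp
      mul_smul := fun a b g => by
        apply Subtype.ext
        show ((a * b : X) : G) * g * ((a * b : X) : G)⁻¹
          = (a : G) * ((b : G) * g * (b : G)⁻¹) * (a : G)⁻¹
        rw [Subgroup.coe_mul]
        group }
  have hsmul : ∀ (y : X) (g : Q), ((y • g : Q) : G) = (y : G) * g * (y : G)⁻¹ := fun _ _ => rfl
  have h1 := hX.card_modEq_card_fixedPoints Q
  have h2 : Nat.card (MulAction.fixedPoints X Q)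
      = Nat.card (Q ⊓ Subgroup.centralizer (X : Set G) : Subgroup G) := by
    apply Nat.card_congr
    exact
    { toFun := fun g => ⟨((g : Q) : G), (g : Q).2, by
          change _ ∈ Subgroup.centralizer _
          rw [Subgroup.mem_centralizer_iff]
          intro y hy
          have h3 := congrArg Subtype.val (g.2 ⟨y, hy⟩)
          rw [hsmul] at h3
          calc y * ((g : Q) : G) = (y * ((g : Q) : G) * y⁻¹) * y := by group
            _ = ((g : Q) : G) * y := by rw [h3]⟩
      invFun := fun g => ⟨⟨g, g.2.1⟩, by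
          intro y
          apply Subtype.ext
          rw [hsmul]
          have h3 := Subgroup.mem_centralizer_iff.1 g.2.2 y y.2
          show (y : G) * g * (y : G)⁻¹ = g
          rw [h3]
          group⟩
      left_inv := fun g => rfl
      right_inv := fun g => rfl }
  rw [h2] at h1
  exact h1

theorem nt_E (n s : ℕ) (hs1 : 1 ≤ s) (hs2 : s ≤ 2 * n) (hdvd : 2 ^ n + 1 ∣ 2 ^ s - 1) :
    s = 2 * n := by
  have hpos : 0 < 2 ^ s - 1 := by
    have : 2 ^ 1 ≤ 2 ^ s := Nat.pow_le_pow_right (by norm_num) hs1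
    omega
  have hle := Nat.le_of_dvd hpos hdvd
  by_contra hne
  have hlt : s < 2 * n := lt_of_le_of_ne hs2 hne
  by_cases hsn : s ≤ n
  · have : 2 ^ s ≤ 2 ^ n := Nat.pow_le_pow_right (by norm_num) hsn
    omega
  · push Not at hsn
    obtain ⟨t, rfl⟩ := Nat.exists_eq_add_of_le hsn.le
    have ht1 : 1 ≤ t := by omega
    have htn : t < n := by omega
    have h1 : 2 ^ n + 1 ∣ 2 ^ t * (2 ^ n + 1) := Dvd.intro_left _ rfl
    have h2 := Nat.dvd_sub h1 hdvd
    have e : 2 ^ t * (2 ^ n + 1) - (2 ^ (n + t) - 1) = 2 ^ t + 1 := by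
      have h6 : 2 ^ (n + t) = 2 ^ t * 2 ^ n := by rw [pow_add, mul_comm]
      have h3 : 1 ≤ 2 ^ t * 2 ^ n := by rw [← h6]; exact Nat.one_le_two_pow
      rw [h6, mul_add, mul_one]
      generalize 2 ^ t * 2 ^ n = A at h3 ⊢
      generalize 2 ^ t = B
      omega
    rw [e] at h2
    have h4 := Nat.le_of_dvd (by positivity) h2
    have h5 : 2 ^ t < 2 ^ n := Nat.pow_lt_pow_right (by norm_num) htn
    omega

end Cfsg.Agent.H2.HH
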