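import Mathlib
import Cfsg.Agent.H2.CycSylB
import Cfsg.Agent.H2.HHi

/-!
# Cyclic Sylow `p`-subgroup with abelian `p'`-subgroups: the case `K = 1` (towards S4016)
-/

set_option autoImplicit false
set_option linter.unusedSectionVars false
set_option linter.unusedVariables false
set_option linter.style.haveILetI false

namespace Cfsg.Agent.H2.CycSylAb

open Subgroup Cfsg
open scoped commutatorElement

universe u

/-- the data of a minimal counterexample -/
structure Ctx (p : ℕ) [hp : Fact p.Prime] (G : Type u) [Group G] [Finite G] : Type u where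
  P : Sylow p G
  hcyc : IsCyclic P
  hab : ∀ H : Subgroup G, ¬ p ∣ Nat.card H → IsMulCommutative H
  hIH : ∀ H : Subgroup G, H ≠ ⊤ → ∀ Q : Sylow p H,
    HasNormalPComplement p H ∨ (Q : Subgroup H).Normal
  hnn : ¬ (P : Subgroup G).Normal
  x : G
  hxN : x ∈ normalizer ((P : Subgroup G) : Set G)
  hxp : (orderOf x).Coprime p
  hxC : x ∉ centralizer ((P : Subgroup G) : Set G)
  L : Subgroup G
  hLN : L ≤ normalizer ((P : Subgroup G) : Set G)
  hLp : ¬ p ∣ Nat.card L
  hLcard : Nat.card (normalizer ((P : Subgroup G) : Set G))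
    = Nat.card (P : Subgroup G) * Nat.card L
  hLdec : ∀ n ∈ normalizer ((P : Subgroup G) : Set G),
    ∃ u ∈ (P : Subgroup G), ∃ l ∈ L, n = u * l

variable {G : Type u} [Group G] [Finite G] {p : ℕ} [hp : Fact p.Prime] (c : Ctx p G)

namespace Ctx

include c

/-- the normalizer of `P` -/
abbrev N : Subgroup G := normalizer ((c.P : Subgroup G) : Set G)

/-- the centralizer of `P` -/
abbrev C : Subgroup G := centralizer ((c.P : Subgroup G) : Set G)

theorem P_le_C : (c.P : Subgroup G) ≤ c.C := CycSylAb.P_le_C c.P c.hcyc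

theorem C_le_N : c.C ≤ c.N := centralizer_le_normalizer _

theorem P_le_N : (c.P : Subgroup G) ≤ c.N := le_normalizer

theorem TI {y g : G} (hy : y ∈ (c.P : Subgroup G)) (hy1 : y ≠ 1)
    (hgy : g * y * g⁻¹ ∈ (c.P : Subgroup G)) : g ∈ c.N :=
  CycSylAb.TI c.P c.hcyc c.hab c.hIH c.hnn c.hxN c.hxp c.hxC hy hy1 hgy

theorem coprime_centralizer {y g : G} (hy : y ∈ (c.P : Subgroup G)) (hy1 : y ≠ 1)
    (hgy : g * y = y * g) (hgp : (orderOf g).Coprime p) : g ∈ c.C :=
  CycSylAb.coprime_centralizer c.P c.hcyc c.hab c.hIH c.hnn c.hxN c.hxp c.hxC hy hy1 hgy hgp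

theorem maximal {H : Subgroup G} (hNH : c.N ≤ H) (hH : H ≠ ⊤) : H = c.N :=
  CycSylAb.maximal c.P c.hcyc c.hab c.hIH c.hnn c.hxN c.hxp c.hxC hNH hH

theorem N_ne_top : c.N ≠ ⊤ := CycSylAb.N_ne_top c.P c.hcyc c.hnn

theorem center_eq_bot : center G = ⊥ :=
  CycSylAb.center_eq_bot c.P c.hcyc c.hab c.hIH c.hnn c.hxN c.hxp c.hxC

theorem eq_bot_of_normal_coprime {T : Subgroup G} (hTn : T.Normal) (hTp : ¬ p ∣ Nat.card T) :
    T = ⊥ :=
  CycSylAb.eq_bot_of_normal_coprime c.P c.hcyc c.hab c.hIH c.hnn c.hxN c.hxp c.hxC hTn hTp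

theorem eq_top_of_normal {M : Subgroup G} (hM : M.Normal) (hPM : (c.P : Subgroup G) ≤ M) :
    M = ⊤ :=
  CycSylAb.eq_top_of_normal c.P c.hcyc c.hab c.hIH c.hnn c.hxN c.hxp c.hxC hM hPM

theorem normalizer_le {Q : Subgroup G} (hQP : Q ≤ (c.P : Subgroup G)) (hQ1 : Q ≠ ⊥) :
    normalizer (Q : Set G) ≤ c.N :=
  CycSylAb.normalizer_le c.P c.hcyc c.hab c.hIH c.hnn c.hxN c.hxp c.hxC hQP hQ1

theorem sylow_not_central {q : ℕ} [Fact q.Prime] (Q : Sylow q G) (hQ : (Q : Subgroup G) ≠ ⊥) :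
    ¬ normalizer ((Q : Subgroup G) : Set G) ≤ centralizer ((Q : Subgroup G) : Set G) :=
  CycSylAb.sylow_not_central c.P c.hcyc c.hab c.hIH c.hnn c.hxN c.hxp c.hxC Q hQ

theorem exists_order_p {q : ℕ} [Fact q.Prime] (hqp : q ≠ p) (Q : Sylow q G)
    (hQ : (Q : Subgroup G) ≠ ⊥) :
    ∃ s : G, s ∈ normalizer ((Q : Subgroup G) : Set G) ∧ orderOf s = p :=
  CycSylAb.exists_order_p c.P c.hcyc c.hab c.hIH c.hnn c.hxN c.hxp c.hxC hqp Q hQ

theorem mem_L_of_coprime {w : G} (hwC : w ∈ c.C) (hwp : (orderOf w).Coprime p) : w ∈ c.L :=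
  CycSylAb.mem_K_of_coprime c.P c.hcyc c.hab c.hLN c.hLp c.hLdec hwC hwp

theorem K_central {k : G} (hkL : k ∈ c.L) (hkC : k ∈ c.C) {n : G} (hn : n ∈ c.N) :
    n * k = k * n :=
  CycSylAb.K_central c.P c.hcyc c.hab c.hLN c.hLp c.hLdec hkL hkC hn

theorem normalizer_normalizer {g : G} (hg : ∀ n ∈ c.N, g * n * g⁻¹ ∈ c.N) : g ∈ c.N :=
  CycSylAb.normalizer_normalizer c.P hg

theorem p_elt_mem {y : G} (hy : y ∈ c.N) {k : ℕ} (hk : y ^ (p ^ k) = 1) :
    y ∈ (c.P : Subgroup G) := CycSylAb.p_elt_mem c.P hy hk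

/-- `C_G(k) = N_G(P)` for `1 ≠ k ∈ K` -/
theorem centralizer_K {k : G} (hkL : k ∈ c.L) (hkC : k ∈ c.C) (hk1 : k ≠ 1) :
    centralizer ({k} : Set G) = c.N := by
  apply c.maximal
  · intro n hn
    rw [mem_centralizer_singleton_iff]
    exact c.K_central hkL hkC hn
  · intro htop
    apply hk1
    have : k ∈ center G := by
      rw [mem_center_iff]
      intro g
      have hg : g ∈ centralizer ({k} : Set G) := htop ▸ mem_top g
      exact (mem_centralizer_singleton_iff.1 hg)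
    rw [c.center_eq_bot, mem_bot] at this
    exact this

/-- every `p`-element lies in a conjugate of `P` -/
theorem exists_conj_mem_P {s : G} {k : ℕ} (hs : s ^ p ^ k = 1) :
    ∃ g : G, g⁻¹ * s * g ∈ (c.P : Subgroup G) := by
  have hZ : IsPGroup p (zpowers s) := by
    have hd : orderOf s ∣ p ^ k := orderOf_dvd_of_pow_eq_one hs
    obtain ⟨j, _, hj⟩ := (Nat.dvd_prime_pow hp.out).1 hd
    apply IsPGroup.of_card (n := j)
    rw [Nat.card_zpowers, hj]
  obtain ⟨Q, hQ⟩ := hZ.exists_le_sylow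
  obtain ⟨g, hg⟩ := MulAction.exists_smul_eq G c.P Q
  have hsQ : s ∈ (Q : Subgroup G) := hQ (mem_zpowers s)
  rw [← hg, Sylow.smul_def] at hsQ
  have hy0 := (Subgroup.mem_pointwise_smul_iff_inv_smul_mem).mp hsQ
  have hconj : (MulAut.conj g)⁻¹ • s = g⁻¹ * s * g := by
    rw [MulAut.smul_def, MulAut.conj_inv_apply]
  rw [hconj] at hy0
  exact ⟨g, hy0⟩

/-- a `p'`-element commuting with an element of order `p` is conjugate into `K` -/
theorem fixed_mem_K {s w : G} (hs : orderOf s = p) (hws : w * s = s * w)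
    (hwp : (orderOf w).Coprime p) :
    ∃ g : G, g⁻¹ * s * g ∈ (c.P : Subgroup G) ∧ g⁻¹ * w * g ∈ c.L ∧ g⁻¹ * w * g ∈ c.C := by
  have hs1 : s ^ p ^ 1 = 1 := by rw [pow_one, ← hs, pow_orderOf_eq_one]
  obtain ⟨g, hg⟩ := c.exists_conj_mem_P hs1
  have hne : g⁻¹ * s * g ≠ 1 := by
    intro h
    have : s = 1 := by
      calc s = g * (g⁻¹ * s * g) * g⁻¹ := by group
        _ = 1 := by rw [h]; group
    rw [this, orderOf_one] at hs
    exact hp.out.one_lt.ne hs
  have hcomm : (g⁻¹ * w * g) * (g⁻¹ * s * g) = (g⁻¹ * s * g) * (g⁻¹ * w * g) := by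
    calc (g⁻¹ * w * g) * (g⁻¹ * s * g) = g⁻¹ * (w * s) * g := by group
      _ = g⁻¹ * (s * w) * g := by rw [hws]
      _ = (g⁻¹ * s * g) * (g⁻¹ * w * g) := by group
  have hord : orderOf (g⁻¹ * w * g) = orderOf w := by
    have := orderOf_injective (MulAut.conj g⁻¹).toMonoidHom (MulAut.conj g⁻¹).injective w
    simpa using this
  have hC := c.coprime_centralizer hg hne hcomm (by rw [hord]; exact hwp)
  exact ⟨g, hg, c.mem_L_of_coprime hC (by rw [hord]; exact hwp), hC⟩

/-- the index `e = |N : C|` -/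
noncomputable abbrev e : ℕ := c.C.relIndex c.N

theorem e_dvd : c.e ∣ p - 1 := by
  have key := card_dvd_of_injective _
    (QuotientGroup.kerLift_injective (c.P : Subgroup G).normalizerMonoidHom)
  rw [normalizerMonoidHom_ker, ← index, ← relIndex] at key
  haveI := c.hcyc
  rw [IsCyclic.card_mulAut (c.P : Subgroup G)] at key
  obtain ⟨k, hk⟩ := IsPGroup.iff_card.mp c.P.isPGroup'
  have hcop : (c.e).Coprime p := by
    apply Nat.Coprime.coprime_dvd_left (relIndex_dvd_of_le_left _ c.P_le_C)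
    apply Nat.Coprime.coprime_dvd_left (relIndex_dvd_index_of_le c.P_le_N)
    rw [Nat.coprime_comm, Nat.Prime.coprime_iff_not_dvd hp.out]
    exact c.P.not_dvd_index
  rcases Nat.eq_zero_or_pos k with h0 | h0
  · rw [hk, h0, pow_zero, Nat.totient_one] at key
    exact key.trans (one_dvd _)
  · rw [hk, Nat.totient_prime_pow hp.out h0] at key
    exact (hcop.pow_right (k - 1)).dvd_of_dvd_mul_left key

theorem e_ne_one : c.e ≠ 1 := by
  intro h
  have : c.N ≤ c.C := relIndex_eq_one.1 h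
  exact c.hxC (this c.hxN)

theorem L_inf_P : c.L ⊓ (c.P : Subgroup G) = ⊥ := CycSylAb.L_inf_P c.P c.hLp

theorem card_C : Nat.card c.C = Nat.card (c.P : Subgroup G) * Nat.card (c.L ⊓ c.C : Subgroup G) := by
  have hsup : ((c.P : Subgroup G) ⊔ (c.L ⊓ c.C) : Subgroup G) = c.C := by
    apply le_antisymm (sup_le c.P_le_C inf_le_right)
    intro w hw
    obtain ⟨u, hu, l, hl, rfl⟩ := c.hLdec w (c.C_le_N hw)
    have hlC : l ∈ c.C := by
      have : l = u⁻¹ * (u * l) := by group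
      rw [this]
      exact mul_mem (inv_mem (c.P_le_C hu)) hw
    exact mul_mem ((le_sup_left : (c.P : Subgroup G) ≤ _) hu)
      ((le_sup_right : (c.L ⊓ c.C : Subgroup G) ≤ _) (Subgroup.mem_inf.2 ⟨hl, hlC⟩))
  have hinf : ((c.P : Subgroup G) ⊓ (c.L ⊓ c.C) : Subgroup G) = ⊥ := by
    rw [eq_bot_iff, ← c.L_inf_P]
    intro w hw
    exact Subgroup.mem_inf.2 ⟨hw.2.1, hw.1⟩
  have hnorm : (c.P : Subgroup G) ≤ normalizer ((c.L ⊓ c.C : Subgroup G) : Set G) := by
    intro u hu
    apply mem_normalizer_of_conj_le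
    intro v hv
    have h1 : v * u = u * v := (mem_centralizer_iff.1 hv.2 u hu).symm
    have : u * v * u⁻¹ = v := by rw [← h1]; group
    rw [this]; exact hv
  have := Cfsg.Agent.H1.card_sup_mul_card_inf (c.P : Subgroup G) (c.L ⊓ c.C) hnorm
  rw [hsup, hinf, Subgroup.card_bot, mul_one] at this
  exact this

theorem card_L : Nat.card c.L = Nat.card (c.L ⊓ c.C : Subgroup G) * c.e := by
  have h1 := c.hLcard
  have h2 := Cfsg.Agent.H1.card_eq_relIndex_mul_card c.C_le_N
  rw [c.card_C] at h2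
  have hpos : 0 < Nat.card (c.P : Subgroup G) := Nat.card_pos
  apply Nat.eq_of_mul_eq_mul_left hpos
  rw [← h1]
  show Nat.card c.N = _
  rw [h2]
  ring

/-- Sylow `q`-subgroups, `q ≠ p`, have order `≡ 1 mod p` when `K = 1` -/
theorem card_sylow_modEq (hK : c.L ⊓ c.C = ⊥) {q : ℕ} [Fact q.Prime] (hqp : q ≠ p)
    (Q : Sylow q G) : Nat.card Q ≡ 1 [MOD p] := by
  by_cases hQ : (Q : Subgroup G) = ⊥
  · have : Nat.card (Q : Subgroup G) = 1 := by rw [hQ]; exact Subgroup.card_bot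
    rw [show Nat.card Q = Nat.card (Q : Subgroup G) from rfl, this]
  obtain ⟨s, hsN, hs⟩ := c.exists_order_p hqp Q hQ
  have hX : IsPGroup p (zpowers s) := by
    apply IsPGroup.of_card (n := 1); rw [Nat.card_zpowers, hs, pow_one]
  have hXQ : zpowers s ≤ normalizer ((Q : Subgroup G) : Set G) := by rw [zpowers_le]; exact hsN
  have h1 := Cfsg.Agent.H2.HH.card_modEq_of_normalizes (zpowers s) (Q : Subgroup G) p hX hXQ
  have h2 : ((Q : Subgroup G) ⊓ centralizer ((zpowers s : Subgroup G) : Set G) : Subgroup G) = ⊥ := by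
    rw [eq_bot_iff]
    intro w hw
    rw [mem_bot]
    have hws : w * s = s * w := (mem_centralizer_iff.1 hw.2 s (mem_zpowers s)).symm
    have hwp : (orderOf w).Coprime p := by
      obtain ⟨a, ha⟩ := IsPGroup.iff_card.mp Q.isPGroup'
      have h3 : orderOf w ∣ q ^ a := by
        rw [← ha]; exact Subgroup.orderOf_dvd_natCard (Q : Subgroup G) hw.1
      apply Nat.Coprime.coprime_dvd_left h3
      apply Nat.Coprime.pow_left
      exact (Nat.coprime_primes (Fact.out : q.Prime) hp.out).2 hqp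
    obtain ⟨g, -, hgL, hgC⟩ := c.fixed_mem_K hs hws hwp
    have : g⁻¹ * w * g ∈ c.L ⊓ c.C := Subgroup.mem_inf.2 ⟨hgL, hgC⟩
    rw [hK, mem_bot] at this
    calc w = g * (g⁻¹ * w * g) * g⁻¹ := by group
      _ = 1 := by rw [this]; group
  rw [h2, Subgroup.card_bot] at h1
  exact h1

theorem index_modEq (hK : c.L ⊓ c.C = ⊥) : (c.P : Subgroup G).index ≡ 1 [MOD p] := by
  obtain ⟨m, hm⟩ : ∃ m, m = (c.P : Subgroup G).index := ⟨_, rfl⟩
  have hm0 : m ≠ 0 := by rw [hm]; exact Subgroup.index_ne_zero_of_finite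
  have hG : Nat.card G = Nat.card (c.P : Subgroup G) * m := by
    rw [hm, Subgroup.card_mul_index]
  obtain ⟨k, hk⟩ := IsPGroup.iff_card.mp c.P.isPGroup'
  rw [← hm, ← Nat.prod_factorization_pow_eq_self hm0, Finsupp.prod]
  apply Finset.prod_induction _ (fun n => n ≡ 1 [MOD p])
  · intro a b ha hb
    have := ha.mul hb
    simpa using this
  · exact Nat.ModEq.refl 1
  · intro q hq
    rw [Nat.support_factorization] at hq
    have hqprime : q.Prime := Nat.prime_of_mem_primeFactors hq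
    have hqm : q ∣ m := Nat.dvd_of_mem_primeFactors hq
    haveI : Fact q.Prime := ⟨hqprime⟩
    have hqp : q ≠ p := by
      rintro rfl
      exact c.P.not_dvd_index (hm ▸ hqm)
    obtain ⟨Q⟩ : Nonempty (Sylow q G) := inferInstance
    have h1 := c.card_sylow_modEq hK hqp Q
    have h2 : Nat.card Q = q ^ (Nat.card G).factorization q := Sylow.card_eq_multiplicity Q
    have h3 : (Nat.card G).factorization q = m.factorization q := by
      rw [hG, Nat.factorization_mul (Nat.card_pos.ne') hm0, Finsupp.add_apply, hk]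
      have : (p ^ k).factorization q = 0 := by
        apply Nat.factorization_eq_zero_of_not_dvd
        intro hd
        exact hqp ((Nat.prime_dvd_prime_iff_eq hqprime hp.out).1 (hqprime.dvd_of_dvd_pow hd))
      rw [this, zero_add]
    rw [h2, h3] at h1
    exact h1

/-- the case `K = 1` is contradictory -/
theorem false_of_K_eq_bot (hK : c.L ⊓ c.C = ⊥) : False := by
  have h1 := c.index_modEq hK
  have h2 : (c.P : Subgroup G).index = (c.P : Subgroup G).relIndex c.N * c.N.index :=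
    (Subgroup.relIndex_mul_index c.P_le_N).symm
  have h3 : (c.P : Subgroup G).relIndex c.N = Nat.card c.L := by
    have h4 := Cfsg.Agent.H1.card_eq_relIndex_mul_card c.P_le_N
    have h5 := c.hLcard
    have hpos : 0 < Nat.card (c.P : Subgroup G) := Nat.card_pos
    apply Nat.eq_of_mul_eq_mul_right hpos
    rw [← h4]
    show Nat.card c.N = _
    rw [h5, mul_comm]
  have h6 : Nat.card c.L = c.e := by
    rw [c.card_L, hK, Subgroup.card_bot, one_mul]
  have h7 : c.N.index ≡ 1 [MOD p] := by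
    have := card_sylow_modEq_one p G
    rw [Sylow.card_eq_index_normalizer c.P] at this
    exact this
  rw [h2, h3, h6] at h1
  have h8 : c.e * c.N.index ≡ c.e * 1 [MOD p] := Nat.ModEq.mul_left _ h7
  have h9 : c.e ≡ 1 [MOD p] := by
    have := h8.symm.trans h1
    rwa [mul_one] at this
  have hd := c.e_dvd
  have hne := c.e_ne_one
  have hp2 : 2 ≤ p := hp.out.two_le
  have hle : c.e ≤ p - 1 := Nat.le_of_dvd (by omega) hd
  have hpos : 0 < c.e := Nat.pos_of_dvd_of_pos hd (by omega)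
  unfold Nat.ModEq at h9
  rw [Nat.mod_eq_of_lt (by omega), Nat.mod_eq_of_lt (by omega)] at h9
  exact hne h9

end Ctx

end Cfsg.Agent.H2.CycSylAb
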