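import Mathlib
import Cfsg.Agent.H2.CycSylC

/-!
# Cyclic Sylow `p`-subgroup with abelian `p'`-subgroups: the case `K ≠ 1` forces `p = 3`
(towards S4016)
-/

set_option autoImplicit false
set_option linter.unusedSectionVars false
set_option linter.unusedVariables false
set_option linter.style.haveILetI false

namespace Cfsg.Agent.H2.CycSylAb

open Subgroup Cfsg
open scoped commutatorElement

universe u

/-- arithmetic: `r ∣ p - 1`, `1 < r^d ≤ r^2`, `r^d ≡ 1 mod p` force `p = 3`, `r = 2` -/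
theorem arith_pr (p r d : ℕ) (hp : p.Prime) (hr : r.Prime) (hrp : r ∣ p - 1) (hd1 : 1 ≤ d)
    (hd2 : r ^ d ≤ r * r) (hmod : r ^ d ≡ 1 [MOD p]) : p = 3 ∧ r = 2 := by
  have hp2 := hp.two_le
  have hr2 := hr.two_le
  have hrle : r ≤ p - 1 := Nat.le_of_dvd (by omega) hrp
  have hd : d = 1 ∨ d = 2 := by
    have h3 : d ≤ 2 := by
      by_contra hcon
      push Not at hcon
      have : r ^ 3 ≤ r ^ d := Nat.pow_le_pow_right (by omega) hcon
      have h4 : r * r * 2 ≤ r ^ 3 := by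
        have : r ^ 3 = r * r * r := by ring
        rw [this]
        exact Nat.mul_le_mul_left _ hr2
      nlinarith
    omega
  rcases hd with rfl | rfl
  · exfalso
    rw [pow_one] at hmod
    unfold Nat.ModEq at hmod
    rw [Nat.mod_eq_of_lt (by omega), Nat.mod_eq_of_lt (by omega)] at hmod
    omega
  · have h1 : p ∣ r ^ 2 - 1 := (Nat.modEq_iff_dvd' (by nlinarith)).1 hmod.symm
    have h2 : r ^ 2 - 1 = (r - 1) * (r + 1) := by
      obtain ⟨t, rfl⟩ : ∃ t, r = t + 1 := ⟨r - 1, by omega⟩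
      have : (t + 1) ^ 2 - 1 = t * (t + 2) := by
        have : (t + 1) ^ 2 = t * (t + 2) + 1 := by ring
        omega
      rw [this]
      simp
    rw [h2] at h1
    rcases (Nat.Prime.dvd_mul hp).1 h1 with h3 | h3
    · exfalso
      have := Nat.le_of_dvd (by omega) h3
      omega
    · have h4 := Nat.le_of_dvd (by omega) h3
      have h5 : p = r + 1 := by omega
      have hr' : r = 2 := by
        rcases Nat.Prime.eq_two_or_odd hr with h | h
        · exact h
        · exfalso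
          rcases Nat.Prime.eq_two_or_odd hp with h6 | h6
          · omega
          · omega
      exact ⟨by omega, hr'⟩

variable {G : Type u} [Group G] [Finite G] {p : ℕ} [hp : Fact p.Prime] (c : Ctx p G)

namespace Ctx

include c

/-- a nontrivial Sylow `r`-subgroup, `r ≠ p`, does not centralize `P` -/
theorem sylow_not_le_C {r : ℕ} [Fact r.Prime] (hrp : r ≠ p) (R : Sylow r G)
    (hR : (R : Subgroup G) ≠ ⊥) : ¬ (R : Subgroup G) ≤ c.C := by
  intro hRC
  have hrcop : ∀ w ∈ (R : Subgroup G), (orderOf w).Coprime p := by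
    intro w hw
    obtain ⟨a, ha⟩ := IsPGroup.iff_card.mp R.isPGroup'
    have h3 : orderOf w ∣ r ^ a := by
      rw [← ha]; exact Subgroup.orderOf_dvd_natCard (R : Subgroup G) hw
    apply Nat.Coprime.coprime_dvd_left h3
    apply Nat.Coprime.pow_left
    exact (Nat.coprime_primes (Fact.out : r.Prime) hp.out).2 hrp
  have hNC : c.N ≤ centralizer ((R : Subgroup G) : Set G) := by
    intro n hn
    rw [mem_centralizer_iff]
    intro w hw
    exact (c.K_central (c.mem_L_of_coprime (hRC hw) (hrcop w hw)) (hRC hw) hn).symm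
  have hNN : c.N ≤ normalizer ((R : Subgroup G) : Set G) :=
    hNC.trans (centralizer_le_normalizer _)
  by_cases htop : normalizer ((R : Subgroup G) : Set G) = ⊤
  · have hRn : (R : Subgroup G).Normal := normalizer_eq_top_iff.1 htop
    have hRp : ¬ p ∣ Nat.card (R : Subgroup G) := by
      obtain ⟨a, ha⟩ := IsPGroup.iff_card.mp R.isPGroup'
      rw [ha]
      intro hd
      exact hrp ((Nat.prime_dvd_prime_iff_eq hp.out (Fact.out : r.Prime)).1
        (hp.out.dvd_of_dvd_pow hd)).symm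
    exact hR (c.eq_bot_of_normal_coprime hRn hRp)
  · have := c.maximal hNN htop
    apply c.sylow_not_central R hR
    rw [this]
    exact hNC

/-- a Sylow `r`-subgroup inside `N` normalized by a nontrivial element of `P` centralizes `P` -/
theorem sylow_le_C_of_normalized {r : ℕ} [Fact r.Prime] (hrp : r ≠ p) (R : Sylow r G)
    (hRN : (R : Subgroup G) ≤ c.N) {s : G} (hsP : s ∈ (c.P : Subgroup G)) (hs1 : s ≠ 1)
    (hsR : s ∈ normalizer ((R : Subgroup G) : Set G)) : (R : Subgroup G) ≤ c.C := by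
  intro w hw
  have hrcop : (orderOf w).Coprime p := by
    obtain ⟨a, ha⟩ := IsPGroup.iff_card.mp R.isPGroup'
    have h3 : orderOf w ∣ r ^ a := by
      rw [← ha]; exact Subgroup.orderOf_dvd_natCard (R : Subgroup G) hw
    apply Nat.Coprime.coprime_dvd_left h3
    apply Nat.Coprime.pow_left
    exact (Nat.coprime_primes (Fact.out : r.Prime) hp.out).2 hrp
  have hRc : (Nat.card (R : Subgroup G)).Coprime p := by
    obtain ⟨a, ha⟩ := IsPGroup.iff_card.mp R.isPGroup'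
    rw [ha]
    apply Nat.Coprime.pow_left
    exact (Nat.coprime_primes (Fact.out : r.Prime) hp.out).2 hrp
  have h1 : s * w * s⁻¹ * w⁻¹ ∈ (R : Subgroup G) :=
    mul_mem ((mem_set_normalizer_iff.1 hsR w).1 hw) (inv_mem hw)
  have h2 : s * w * s⁻¹ * w⁻¹ ∈ (c.P : Subgroup G) := by
    have : w * s⁻¹ * w⁻¹ ∈ (c.P : Subgroup G) :=
      (mem_set_normalizer_iff.1 (hRN hw) s⁻¹).1 (inv_mem hsP)
    have e : s * w * s⁻¹ * w⁻¹ = s * (w * s⁻¹ * w⁻¹) := by group
    rw [e]; exact mul_mem hsP this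
  have h3 := eq_one_of_mem_coprime c.P hRc h1 h2
  apply c.coprime_centralizer hsP hs1 _ hrcop
  calc w * s = (s * w * s⁻¹ * w⁻¹)⁻¹ * (s * w) := by group
    _ = s * w := by rw [h3]; group

section rdata

variable {r : ℕ} [hr : Fact r.Prime] (hrp : r ≠ p) (R : Sylow r G)
  {k : G} (hkL : k ∈ c.L) (hkC : k ∈ c.C) (hk1 : k ≠ 1) (hkR : k ∈ (R : Subgroup G))
  {s : G} (hsR : s ∈ normalizer ((R : Subgroup G) : Set G)) (hs : orderOf s = p)

include hrp in
theorem R_card_coprime : (Nat.card (R : Subgroup G)).Coprime p := by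
  obtain ⟨a, ha⟩ := IsPGroup.iff_card.mp R.isPGroup'
  rw [ha]
  apply Nat.Coprime.pow_left
  exact (Nat.coprime_primes (Fact.out : r.Prime) hp.out).2 hrp

include hrp in
theorem R_elt_coprime {w : G} (hw : w ∈ (R : Subgroup G)) : (orderOf w).Coprime p :=
  Nat.Coprime.coprime_dvd_left (Subgroup.orderOf_dvd_natCard (R : Subgroup G) hw)
    (c.R_card_coprime hrp R)

include hrp in
theorem R_comm {a b : G} (ha : a ∈ (R : Subgroup G)) (hb : b ∈ (R : Subgroup G)) :
    a * b = b * a := by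
  have hnd : ¬ p ∣ Nat.card (R : Subgroup G) := by
    intro hd
    have := Nat.Coprime.eq_one_of_dvd (c.R_card_coprime hrp R).symm hd
    exact hp.out.one_lt.ne' this
  exact Subtype.ext_iff.1 ((c.hab _ hnd).is_comm.comm ⟨a, ha⟩ ⟨b, hb⟩)

include hrp hkL hkC hk1 hkR in
theorem R_le_N : (R : Subgroup G) ≤ c.N := by
  intro w hw
  rw [← c.centralizer_K hkL hkC hk1, mem_centralizer_singleton_iff]
  exact c.R_comm hrp R hw hkR

include hrp hkL hkC hk1 hkR in
theorem R_ne_bot : (R : Subgroup G) ≠ ⊥ := by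
  intro h
  rw [h, mem_bot] at hkR
  exact hk1 hkR

include hs in
theorem s_ne_one : s ≠ 1 := by
  intro h
  rw [h, orderOf_one] at hs
  exact hp.out.one_lt.ne hs

include hrp hkL hkC hk1 hkR hsR hs in
theorem s_not_mem_N : s ∉ c.N := by
  intro hsN
  have hsP : s ∈ (c.P : Subgroup G) :=
    c.p_elt_mem hsN (k := 1) (by rw [pow_one, ← hs, pow_orderOf_eq_one])
  exact c.sylow_not_le_C hrp R (c.R_ne_bot hrp R hkL hkC hk1 hkR)
    (c.sylow_le_C_of_normalized hrp R (c.R_le_N hrp R hkL hkC hk1 hkR) hsP (c.s_ne_one hs) hsR)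

include hrp hkL hkC hk1 hkR hsR hs in
/-- `R₁ ∩ s R₁ s⁻¹ = 1` where `R₁ = R ∩ C` -/
theorem disj {w : G} (hwR : w ∈ (R : Subgroup G)) (hwC : w ∈ c.C)
    (hwC' : s⁻¹ * w * s ∈ c.C) : w = 1 := by
  by_contra hw1
  have hs'R : s⁻¹ * w * s ∈ (R : Subgroup G) := (mem_set_normalizer_iff''.1 hsR w).1 hwR
  have hwL : w ∈ c.L := c.mem_L_of_coprime hwC (c.R_elt_coprime hrp R hwR)
  have hw'L : s⁻¹ * w * s ∈ c.L := c.mem_L_of_coprime hwC' (c.R_elt_coprime hrp R hs'R)
  have hw'1 : s⁻¹ * w * s ≠ 1 := by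
    intro h
    apply hw1
    calc w = s * (s⁻¹ * w * s) * s⁻¹ := by group
      _ = 1 := by rw [h]; group
  have h1 := c.centralizer_K hwL hwC hw1
  have h2 := c.centralizer_K hw'L hwC' hw'1
  apply c.s_not_mem_N hrp R hkL hkC hk1 hkR hsR hs
  apply c.normalizer_normalizer
  intro n hn
  rw [← h2, mem_centralizer_singleton_iff] at hn
  rw [← h1, mem_centralizer_singleton_iff]
  calc s * n * s⁻¹ * w = s * (n * (s⁻¹ * w * s)) * s⁻¹ := by group
    _ = s * ((s⁻¹ * w * s) * n) * s⁻¹ := by rw [hn]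
    _ = w * (s * n * s⁻¹) := by group

include hrp hkL hkC hk1 hkR hsR hs in
/-- `s` acts fixed-point-freely on `R` -/
theorem fpf {w : G} (hwR : w ∈ (R : Subgroup G)) (hws : w * s = s * w) : w = 1 := by
  by_contra hw1
  obtain ⟨g, hgP, hgL, hgC⟩ := c.fixed_mem_K hs hws (c.R_elt_coprime hrp R hwR)
  have hw'1 : g⁻¹ * w * g ≠ 1 := by
    intro h
    apply hw1
    calc w = g * (g⁻¹ * w * g) * g⁻¹ := by group
      _ = 1 := by rw [h]; group
  have hs'1 : g⁻¹ * s * g ≠ 1 := by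
    intro h
    apply c.s_ne_one hs
    calc s = g * (g⁻¹ * s * g) * g⁻¹ := by group
      _ = 1 := by rw [h]; group
  have hcent := c.centralizer_K hgL hgC hw'1
  -- the conjugate Sylow subgroup
  have hmem : ∀ v : G, v ∈ ((g⁻¹ • R : Sylow r G) : Subgroup G) ↔ g * v * g⁻¹ ∈ (R : Subgroup G) := by
    intro v
    rw [Sylow.smul_def]
    have h1 : v ∈ ((MulAut.conj g⁻¹ • R : Sylow r G) : Subgroup G) ↔
        (MulAut.conj g⁻¹)⁻¹ • v ∈ (R : Subgroup G) :=
      Subgroup.mem_pointwise_smul_iff_inv_smul_mem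
    rw [h1, MulAut.smul_def, map_inv, inv_inv, MulAut.conj_apply]
  have hR'N : ((g⁻¹ • R : Sylow r G) : Subgroup G) ≤ c.N := by
    intro v hv
    rw [hmem] at hv
    rw [← hcent, mem_centralizer_singleton_iff]
    have := c.R_comm hrp R hv hwR
    calc v * (g⁻¹ * w * g) = g⁻¹ * ((g * v * g⁻¹) * w) * g := by group
      _ = g⁻¹ * (w * (g * v * g⁻¹)) * g := by rw [this]
      _ = g⁻¹ * w * g * v := by group
  have hs'R : g⁻¹ * s * g ∈ normalizer (((g⁻¹ • R : Sylow r G) : Subgroup G) : Set G) := by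
    apply mem_normalizer_of_conj_le
    intro v hv
    rw [hmem] at hv ⊢
    have := (mem_set_normalizer_iff.1 hsR _).1 hv
    have e : g * (g⁻¹ * s * g * v * (g⁻¹ * s * g)⁻¹) * g⁻¹ = s * (g * v * g⁻¹) * s⁻¹ := by group
    rw [e]; exact this
  have hR'ne : ((g⁻¹ • R : Sylow r G) : Subgroup G) ≠ ⊥ := by
    intro h
    have : g⁻¹ * w * g ∈ ((g⁻¹ • R : Sylow r G) : Subgroup G) := by
      rw [hmem]
      have e : g * (g⁻¹ * w * g) * g⁻¹ = w := by group
      rw [e]; exact hwR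
    rw [h, mem_bot] at this
    exact hw'1 this
  exact c.sylow_not_le_C hrp _ hR'ne
    (c.sylow_le_C_of_normalized hrp _ hR'N hgP hs'1 hs'R)

end rdata

/-- `Aut(P)` is cyclic for odd `p` -/
theorem isCyclic_mulAut (hp2 : p ≠ 2) : IsCyclic (MulAut (c.P : Subgroup G)) := by
  haveI := c.hcyc
  obtain ⟨k, hk⟩ := IsPGroup.iff_card.mp c.P.isPGroup'
  haveI : IsCyclic (ZMod (Nat.card (c.P : Subgroup G)))ˣ := by
    rw [hk]
    exact ZMod.isCyclic_units_of_prime_pow p hp.out hp2 k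
  exact isCyclic_of_surjective (IsCyclic.mulAutMulEquiv (c.P : Subgroup G)).symm
    (IsCyclic.mulAutMulEquiv (c.P : Subgroup G)).symm.surjective

/-- the number of automorphisms of `P` of order dividing `r` is at most `r` -/
theorem card_aut_pow_le (hp2 : p ≠ 2) {r : ℕ} (hr0 : 0 < r) :
    Nat.card {α : MulAut (c.P : Subgroup G) // α ^ r = 1} ≤ r := by
  classical
  haveI := c.isCyclic_mulAut hp2
  haveI : Fintype (MulAut (c.P : Subgroup G)) := Fintype.ofFinite _
  rw [Nat.card_eq_fintype_card, Fintype.card_subtype]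
  exact IsCyclic.card_pow_eq_one_le hr0

section rdata2

variable {r : ℕ} [hr : Fact r.Prime] (hrp : r ≠ p) (R : Sylow r G)

/-- the elements of order dividing `r` in the abelian Sylow subgroup `R` -/
def omega : Subgroup G where
  carrier := {w | w ∈ (R : Subgroup G) ∧ w ^ r = 1}
  mul_mem' := by
    rintro a b ⟨ha, ha'⟩ ⟨hb, hb'⟩
    refine ⟨mul_mem ha hb, ?_⟩
    have : Commute a b := c.R_comm hrp R ha hb
    rw [this.mul_pow, ha', hb', one_mul]
  one_mem' := ⟨one_mem _, one_pow _⟩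
  inv_mem' := by
    rintro a ⟨ha, ha'⟩
    exact ⟨inv_mem ha, by rw [inv_pow, ha', inv_one]⟩

theorem mem_omega {w : G} : w ∈ c.omega hrp R ↔ w ∈ (R : Subgroup G) ∧ w ^ r = 1 := Iff.rfl

variable {k : G} (hkL : k ∈ c.L) (hkC : k ∈ c.C) (hkr : orderOf k = r) (hkR : k ∈ (R : Subgroup G))
  {s : G} (hsR : s ∈ normalizer ((R : Subgroup G) : Set G)) (hs : orderOf s = p)

include hkr in
theorem k_ne_one : k ≠ 1 := by
  intro h
  rw [h, orderOf_one] at hkr
  exact (Fact.out : r.Prime).one_lt.ne hkr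

include hkL hkC hkr hkR hsR hs in
theorem card_omega_modEq : Nat.card (c.omega hrp R) ≡ 1 [MOD p] := by
  have hk1 := c.k_ne_one (r := r) hkr
  have hX : IsPGroup p (zpowers s) := by
    apply IsPGroup.of_card (n := 1); rw [Nat.card_zpowers, hs, pow_one]
  have hXQ : zpowers s ≤ normalizer ((c.omega hrp R : Subgroup G) : Set G) := by
    rw [zpowers_le]
    apply mem_normalizer_of_conj_le
    intro w hw
    rw [mem_omega] at hw ⊢
    refine ⟨(mem_set_normalizer_iff.1 hsR w).1 hw.1, ?_⟩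
    rw [conj_pow, hw.2]; group
  have h1 := Cfsg.Agent.H2.HH.card_modEq_of_normalizes (zpowers s) (c.omega hrp R) p hX hXQ
  have h2 : ((c.omega hrp R) ⊓ centralizer ((zpowers s : Subgroup G) : Set G) : Subgroup G) = ⊥ := by
    rw [eq_bot_iff]
    intro w hw
    rw [mem_bot]
    have hws : w * s = s * w := (mem_centralizer_iff.1 hw.2 s (mem_zpowers s)).symm
    exact c.fpf hrp R hkL hkC hk1 hkR hsR hs hw.1.1 hws
  rw [h2, Subgroup.card_bot] at h1
  exact h1

include hkL hkC hkr hkR hsR hs in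
theorem card_omega_le (hp2 : p ≠ 2) : Nat.card (c.omega hrp R) ≤ r * r := by
  have hk1 := c.k_ne_one (r := r) hkr
  have hRN := c.R_le_N hrp R hkL hkC hk1 hkR
  have hs'R : ∀ w ∈ (R : Subgroup G), s⁻¹ * w * s ∈ (R : Subgroup G) :=
    fun w hw => (mem_set_normalizer_iff''.1 hsR w).1 hw
  let φ := (c.P : Subgroup G).normalizerMonoidHom
  have hφ : ∀ (n : c.N), φ n = 1 ↔ (n : G) ∈ c.C := by
    intro n
    rw [← MonoidHom.mem_ker, normalizerMonoidHom_ker, mem_subgroupOf]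
  let f : c.omega hrp R → {α : MulAut (c.P : Subgroup G) // α ^ r = 1} ×
      {α : MulAut (c.P : Subgroup G) // α ^ r = 1} := fun w =>
    (⟨φ ⟨w.1, hRN w.2.1⟩, by
        rw [← map_pow]
        have : (⟨w.1, hRN w.2.1⟩ : c.N) ^ r = 1 := Subtype.ext (by simpa using w.2.2)
        rw [this, map_one]⟩,
     ⟨φ ⟨s⁻¹ * w.1 * s, hRN (hs'R _ w.2.1)⟩, by
        rw [← map_pow]
        have : (⟨s⁻¹ * w.1 * s, hRN (hs'R _ w.2.1)⟩ : c.N) ^ r = 1 := by
          apply Subtype.ext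
          have e : (s⁻¹ * w.1 * s) ^ r = s⁻¹ * w.1 ^ r * s := by
            have := conj_pow (a := s⁻¹) (b := w.1) (i := r)
            simpa using this
          simp only [Subgroup.coe_pow, Subgroup.coe_one]
          rw [e, w.2.2]; group
        rw [this, map_one]⟩)
  have hf : Function.Injective f := by
    intro w₁ w₂ h
    have h1 : φ ⟨w₁.1, hRN w₁.2.1⟩ = φ ⟨w₂.1, hRN w₂.2.1⟩ :=
      congrArg (fun x => (x.1 : MulAut (c.P : Subgroup G))) h
    have h2 : φ ⟨s⁻¹ * w₁.1 * s, hRN (hs'R _ w₁.2.1)⟩ = φ ⟨s⁻¹ * w₂.1 * s, hRN (hs'R _ w₂.2.1)⟩ :=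
      congrArg (fun x => (x.2 : MulAut (c.P : Subgroup G))) h
    have hd1 : w₁.1 * w₂.1⁻¹ ∈ c.C := by
      have : φ (⟨w₁.1, hRN w₁.2.1⟩ * ⟨w₂.1, hRN w₂.2.1⟩⁻¹) = 1 := by
        rw [map_mul, map_inv, h1, mul_inv_cancel]
      exact (hφ _).1 this
    have hd2 : s⁻¹ * (w₁.1 * w₂.1⁻¹) * s ∈ c.C := by
      have : φ (⟨s⁻¹ * w₁.1 * s, hRN (hs'R _ w₁.2.1)⟩ *
          ⟨s⁻¹ * w₂.1 * s, hRN (hs'R _ w₂.2.1)⟩⁻¹) = 1 := by
        rw [map_mul, map_inv, h2, mul_inv_cancel]
      have h3 := (hφ _).1 this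
      have e : s⁻¹ * (w₁.1 * w₂.1⁻¹) * s = (s⁻¹ * w₁.1 * s) * (s⁻¹ * w₂.1 * s)⁻¹ := by group
      rw [e]
      exact h3
    have := c.disj hrp R hkL hkC hk1 hkR hsR hs (mul_mem w₁.2.1 (inv_mem w₂.2.1)) hd1 hd2
    apply Subtype.ext
    exact mul_inv_eq_one.1 this
  have hfin : Finite ({α : MulAut (c.P : Subgroup G) // α ^ r = 1} ×
      {α : MulAut (c.P : Subgroup G) // α ^ r = 1}) := inferInstance
  have h1 := Nat.card_le_card_of_injective f hf
  rw [Nat.card_prod] at h1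
  have h2 := c.card_aut_pow_le hp2 (Fact.out : r.Prime).pos
  exact h1.trans (Nat.mul_le_mul h2 h2)

end rdata2

theorem p_ne_two : p ≠ 2 := by
  intro h
  have h1 := c.e_dvd
  have h2 := c.e_ne_one
  have h3 : p - 1 = 1 := by omega
  rw [h3] at h1
  exact h2 (Nat.dvd_one.1 h1)

/-- a prime `r ≠ p` dividing the order of a subgroup of `N` not centralizing `P` divides `p - 1` -/
theorem dvd_p_sub_one {r : ℕ} [hr : Fact r.Prime] (hrp : r ≠ p) (R : Sylow r G)
    (hRN : (R : Subgroup G) ≤ c.N) (hRC : ¬ (R : Subgroup G) ≤ c.C) : r ∣ p - 1 := by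
  rw [SetLike.not_le_iff_exists] at hRC
  obtain ⟨v, hvR, hvC⟩ := hRC
  let φ := (c.P : Subgroup G).normalizerMonoidHom
  have hφ : ∀ (n : c.N), φ n = 1 ↔ (n : G) ∈ c.C := by
    intro n
    rw [← MonoidHom.mem_ker, normalizerMonoidHom_ker, mem_subgroupOf]
  have hα1 : φ ⟨v, hRN hvR⟩ ≠ 1 := fun h => hvC ((hφ _).1 h)
  obtain ⟨a, ha⟩ := IsPGroup.iff_card.mp R.isPGroup'
  have hpow : φ ⟨v, hRN hvR⟩ ^ r ^ a = 1 := by
    rw [← map_pow]
    have : (⟨v, hRN hvR⟩ : c.N) ^ r ^ a = 1 := by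
      apply Subtype.ext
      simp only [Subgroup.coe_pow, Subgroup.coe_one]
      rw [← ha]
      have := pow_card_eq_one' (G := (R : Subgroup G)) (x := ⟨v, hvR⟩)
      exact congrArg Subtype.val this
    rw [this, map_one]
  have hord : orderOf (φ ⟨v, hRN hvR⟩) ∣ r ^ a := orderOf_dvd_of_pow_eq_one hpow
  obtain ⟨j, hj, hjeq⟩ := (Nat.dvd_prime_pow hr.out).1 hord
  have hj1 : j ≠ 0 := by
    intro h0
    rw [h0, pow_zero, orderOf_eq_one_iff] at hjeq
    exact hα1 hjeq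
  have hrdvd : r ∣ orderOf (φ ⟨v, hRN hvR⟩) := by
    rw [hjeq]; exact dvd_pow_self r hj1
  have hcard : orderOf (φ ⟨v, hRN hvR⟩) ∣ Nat.card (MulAut (c.P : Subgroup G)) :=
    orderOf_dvd_natCard _
  haveI := c.hcyc
  rw [IsCyclic.card_mulAut (c.P : Subgroup G)] at hcard
  obtain ⟨k, hk⟩ := IsPGroup.iff_card.mp c.P.isPGroup'
  rw [hk] at hcard
  rcases Nat.eq_zero_or_pos k with h0 | h0
  · exfalso
    rw [h0, pow_zero, Nat.totient_one, Nat.dvd_one, orderOf_eq_one_iff] at hcard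
    exact hα1 hcard
  · rw [Nat.totient_prime_pow hp.out h0] at hcard
    have h1 : r ∣ p ^ (k - 1) * (p - 1) := hrdvd.trans hcard
    rcases (Nat.Prime.dvd_mul hr.out).1 h1 with h2 | h2
    · exfalso
      exact hrp ((Nat.prime_dvd_prime_iff_eq hr.out hp.out).1 (hr.out.dvd_of_dvd_pow h2))
    · exact h2

/-- a prime dividing `|K|` forces `p = 3` and `r = 2` -/
theorem p_eq_three_of_prime_dvd_K {r : ℕ} [hr : Fact r.Prime]
    (hrK : r ∣ Nat.card (c.L ⊓ c.C : Subgroup G)) : p = 3 ∧ r = 2 := by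
  obtain ⟨k', hk'⟩ := exists_prime_orderOf_dvd_card' (G := (c.L ⊓ c.C : Subgroup G)) r hrK
  obtain ⟨k, hkdef⟩ : ∃ k : G, k = k'.1 := ⟨_, rfl⟩
  have hkr : orderOf k = r := by rw [hkdef, ← hk']; exact Subgroup.orderOf_coe k'
  have hkL : k ∈ c.L := by rw [hkdef]; exact k'.2.1
  have hkC : k ∈ c.C := by rw [hkdef]; exact k'.2.2
  have hk1 := c.k_ne_one (r := r) hkr
  have hrp : r ≠ p := by
    rintro rfl
    apply c.hLp
    exact hrK.trans (Subgroup.card_dvd_of_le inf_le_left)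
  have hZ : IsPGroup r (zpowers k) := by
    apply IsPGroup.of_card (n := 1); rw [Nat.card_zpowers, hkr, pow_one]
  obtain ⟨R, hR⟩ := hZ.exists_le_sylow
  have hkR : k ∈ (R : Subgroup G) := hR (mem_zpowers k)
  have hRne := c.R_ne_bot hrp R hkL hkC hk1 hkR
  obtain ⟨s, hsR, hs⟩ := c.exists_order_p hrp R hRne
  have hRN := c.R_le_N hrp R hkL hkC hk1 hkR
  have hrdvd := c.dvd_p_sub_one hrp R hRN (c.sylow_not_le_C hrp R hRne)
  have h1 := c.card_omega_modEq hrp R hkL hkC hkr hkR hsR hs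
  have h2 := c.card_omega_le hrp R hkL hkC hkr hkR hsR hs c.p_ne_two
  have hΩR : c.omega hrp R ≤ (R : Subgroup G) := fun w hw => hw.1
  obtain ⟨d, hd⟩ := IsPGroup.iff_card.mp (R.isPGroup'.to_le hΩR)
  have hd1 : 1 ≤ d := by
    by_contra hcon
    have hd0 : d = 0 := by omega
    rw [hd0, pow_zero] at hd
    have hbot : c.omega hrp R = ⊥ := Subgroup.eq_bot_of_card_eq _ hd
    have hkΩ : k ∈ c.omega hrp R := by
      rw [mem_omega]
      exact ⟨hkR, by rw [← hkr, pow_orderOf_eq_one]⟩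
    rw [hbot, mem_bot] at hkΩ
    exact hk1 hkΩ
  rw [hd] at h1 h2
  exact arith_pr p r d hp.out hr.out hrdvd hd1 h2 h1

end Ctx

end Cfsg.Agent.H2.CycSylAb
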