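import Mathlib
import Cfsg.Agent.H2.CycSylD

/-!
# Cyclic Sylow `p`-subgroup with abelian `p'`-subgroups: numerics of the case `K ≠ 1`
(towards S4016)
-/

set_option autoImplicit false
set_option linter.unusedSectionVars false
set_option linter.unusedVariables false
set_option linter.style.haveILetI false

namespace Cfsg.Agent.H2.CycSylAb

open Subgroup Cfsg
open scoped commutatorElement

universe u

variable {G : Type u} [Group G] [Finite G] {p : ℕ} [hp : Fact p.Prime] (c : Ctx p G)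

namespace Ctx

include c

theorem p_eq_three (hK : c.L ⊓ c.C ≠ ⊥) : p = 3 := by
  have h1 : Nat.card (c.L ⊓ c.C : Subgroup G) ≠ 1 := by
    intro h
    exact hK (Subgroup.eq_bot_of_card_eq _ h)
  obtain ⟨r, hr, hrK⟩ := Nat.exists_prime_and_dvd h1
  haveI : Fact r.Prime := ⟨hr⟩
  exact (c.p_eq_three_of_prime_dvd_K hrK).1

theorem card_K_pow (hK : c.L ⊓ c.C ≠ ⊥) :
    ∃ a : ℕ, Nat.card (c.L ⊓ c.C : Subgroup G) = 2 ^ a := by
  refine ⟨_, Nat.eq_prime_pow_of_unique_prime_dvd Nat.card_pos.ne' ?_⟩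
  intro d hd hdK
  haveI : Fact d.Prime := ⟨hd⟩
  exact (c.p_eq_three_of_prime_dvd_K hdK).2

theorem e_eq_two (hK : c.L ⊓ c.C ≠ ⊥) : c.e = 2 := by
  have h1 := c.e_dvd
  have h2 := c.e_ne_one
  have h3 := c.p_eq_three hK
  have h4 : p - 1 = 2 := by omega
  rw [h4] at h1
  have := Nat.le_of_dvd (by norm_num) h1
  have hpos : 0 < c.e := Nat.pos_of_dvd_of_pos h1 (by norm_num)
  omega

theorem two_ne_p (hK : c.L ⊓ c.C ≠ ⊥) : 2 ≠ p := by
  have := c.p_eq_three hK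
  omega

/-- the basic data in the case `K ≠ 1` -/
theorem exists_data (hK : c.L ⊓ c.C ≠ ⊥) : ∃ (R : Sylow 2 G) (k s : G),
    (c.L ⊓ c.C : Subgroup G) ≤ (R : Subgroup G) ∧ k ∈ c.L ∧ k ∈ c.C ∧ orderOf k = 2 ∧
    s ∈ normalizer ((R : Subgroup G) : Set G) ∧ orderOf s = p := by
  obtain ⟨a, ha⟩ := c.card_K_pow hK
  have ha1 : a ≠ 0 := by
    intro h0
    rw [h0, pow_zero] at ha
    exact hK (Subgroup.eq_bot_of_card_eq _ ha)
  have hKp : IsPGroup 2 (c.L ⊓ c.C : Subgroup G) := IsPGroup.of_card ha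
  obtain ⟨R, hR⟩ := hKp.exists_le_sylow
  have h2 : 2 ∣ Nat.card (c.L ⊓ c.C : Subgroup G) := by rw [ha]; exact dvd_pow_self 2 ha1
  obtain ⟨k', hk'⟩ := exists_prime_orderOf_dvd_card' (G := (c.L ⊓ c.C : Subgroup G)) 2 h2
  have hkR : (k' : G) ∈ (R : Subgroup G) := hR k'.2
  have hk2 : orderOf (k' : G) = 2 := by rw [← hk']; exact Subgroup.orderOf_coe k'
  have hk1 : (k' : G) ≠ 1 := c.k_ne_one (r := 2) hk2
  have hRne := c.R_ne_bot (c.two_ne_p hK) R k'.2.1 k'.2.2 hk1 hkR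
  obtain ⟨s, hsR, hs⟩ := c.exists_order_p (c.two_ne_p hK) R hRne
  exact ⟨R, k', s, hR, k'.2.1, k'.2.2, hk2, hsR, hs⟩

section data

variable (hK : c.L ⊓ c.C ≠ ⊥) (R : Sylow 2 G) {k s : G}
  (hKR : (c.L ⊓ c.C : Subgroup G) ≤ (R : Subgroup G))
  (hkL : k ∈ c.L) (hkC : k ∈ c.C) (hk2 : orderOf k = 2)
  (hsR : s ∈ normalizer ((R : Subgroup G) : Set G)) (hs : orderOf s = p)

include hK hKR hkL hkC hk2 in
theorem card_R_le : Nat.card (R : Subgroup G) ≤ 2 * Nat.card (c.L ⊓ c.C : Subgroup G) := by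
  have hk1 : k ≠ 1 := c.k_ne_one (r := 2) hk2
  have hkR : k ∈ (R : Subgroup G) := hKR (Subgroup.mem_inf.2 ⟨hkL, hkC⟩)
  have hRN := c.R_le_N (c.two_ne_p hK) R hkL hkC hk1 hkR
  have h1 : Nat.card (R : Subgroup G) ∣ Nat.card c.N := Subgroup.card_dvd_of_le hRN
  have h2 : Nat.card c.N = Nat.card (c.P : Subgroup G) * Nat.card c.L := c.hLcard
  rw [h2, c.card_L, c.e_eq_two hK] at h1
  have hcop : (Nat.card (R : Subgroup G)).Coprime (Nat.card (c.P : Subgroup G)) := by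
    obtain ⟨j, hj⟩ := IsPGroup.iff_card.mp c.P.isPGroup'
    rw [hj]
    exact (c.R_card_coprime (c.two_ne_p hK) R).pow_right j
  have h3 := hcop.dvd_of_dvd_mul_left h1
  have hKpos : 0 < Nat.card (c.L ⊓ c.C : Subgroup G) := Nat.card_pos
  have := Nat.le_of_dvd (by omega) h3
  omega

include hK hKR hkL hkC hk2 hsR hs in
theorem card_K_eq_two : Nat.card (c.L ⊓ c.C : Subgroup G) = 2 := by
  have hk1 : k ≠ 1 := c.k_ne_one (r := 2) hk2
  have hkR : k ∈ (R : Subgroup G) := hKR (Subgroup.mem_inf.2 ⟨hkL, hkC⟩)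
  have h2p := c.two_ne_p hK
  obtain ⟨K', hK'⟩ : ∃ K' : Subgroup G,
      K' = (c.L ⊓ c.C : Subgroup G).map (MulAut.conj s).toMonoidHom := ⟨_, rfl⟩
  have hK'R : K' ≤ (R : Subgroup G) := by
    rw [hK']
    rintro _ ⟨w, hw, rfl⟩
    exact (mem_set_normalizer_iff.1 hsR w).1 (hKR hw)
  have hinf : (c.L ⊓ c.C : Subgroup G) ⊓ K' = ⊥ := by
    rw [eq_bot_iff]
    rintro v ⟨hv, hv'⟩
    rw [mem_bot]
    rw [hK'] at hv'
    obtain ⟨w, hw, hwv⟩ := hv'
    have hwv' : s * w * s⁻¹ = v := hwv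
    apply c.disj h2p R hkL hkC hk1 hkR hsR hs (hKR hv) hv.2
    rw [← hwv']
    have e : s⁻¹ * (s * w * s⁻¹) * s = w := by group
    rw [e]
    exact hw.2
  have hnorm : (c.L ⊓ c.C : Subgroup G) ≤ normalizer (K' : Set G) := by
    intro u hu
    apply mem_normalizer_of_conj_le
    intro v hv
    have := c.R_comm h2p R (hKR hu) (hK'R hv)
    have e : u * v * u⁻¹ = v := by rw [this]; group
    rw [e]; exact hv
  have hcard := Cfsg.Agent.H1.card_sup_mul_card_inf (c.L ⊓ c.C : Subgroup G) K' hnorm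
  rw [hinf, Subgroup.card_bot, mul_one] at hcard
  have hK'card : Nat.card K' = Nat.card (c.L ⊓ c.C : Subgroup G) := by
    rw [hK']
    exact Subgroup.card_map_of_injective (MulAut.conj s).injective
  rw [hK'card] at hcard
  have hle : Nat.card ((c.L ⊓ c.C : Subgroup G) ⊔ K' : Subgroup G) ≤ Nat.card (R : Subgroup G) :=
    Nat.le_of_dvd Nat.card_pos (Subgroup.card_dvd_of_le (sup_le hKR hK'R))
  have hR := c.card_R_le hK R hKR hkL hkC hk2
  obtain ⟨a, ha⟩ := c.card_K_pow hK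
  have hpos : 2 ≤ Nat.card (c.L ⊓ c.C : Subgroup G) := by
    by_contra hcon
    have h1 : Nat.card (c.L ⊓ c.C : Subgroup G) = 1 := by
      have : 0 < Nat.card (c.L ⊓ c.C : Subgroup G) := Nat.card_pos
      omega
    exact hK (Subgroup.eq_bot_of_card_eq _ h1)
  nlinarith

include hK hKR hkL hkC hk2 hsR hs in
theorem card_N_eq : Nat.card c.N = 4 * Nat.card (c.P : Subgroup G) := by
  have h2 : Nat.card c.N = Nat.card (c.P : Subgroup G) * Nat.card c.L := c.hLcard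
  rw [h2, c.card_L, c.e_eq_two hK, c.card_K_eq_two hK R hKR hkL hkC hk2 hsR hs]
  ring

include hK hKR hkL hkC hk2 hsR hs in
theorem card_C_eq : Nat.card c.C = 2 * Nat.card (c.P : Subgroup G) := by
  rw [c.card_C, c.card_K_eq_two hK R hKR hkL hkC hk2 hsR hs]
  ring

end data

end Ctx

end Cfsg.Agent.H2.CycSylAb
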