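import Mathlib
import Cfsg.Agent.H2.KleinResA

/-!
# Counting involutions in the small-normalizer setting
-/

set_option autoImplicit false
set_option linter.unusedSectionVars false
set_option linter.unusedVariables false
set_option linter.style.haveILetI false

namespace Cfsg.Agent.H2.KleinRes

open Subgroup
open Classical

variable {G : Type*} [Group G] [Fintype G]

/-- Involutions different from `v` commuting with `v`. -/
noncomputable def nbr (v : G) : Finset G :=
  Finset.univ.filter (fun w : G => orderOf w = 2 ∧ w ≠ v ∧ w * v = v * w)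

theorem mem_nbr {v w : G} : w ∈ nbr v ↔ orderOf w = 2 ∧ w ≠ v ∧ w * v = v * w := by
  simp [nbr]

theorem index_centralizer_le (t : G) (ht2 : orderOf t = 2) :
    (centralizer ({t} : Set G)).index
      ≤ (Finset.univ.filter (fun w : G => orderOf w = 2)).card := by
  have h1 : (centralizer ({t} : Set G)).index = (MulAction.stabilizer (ConjAct G) t).index := by
    rw [Subgroup.centralizer_eq_comap_stabilizer]
    exact Subgroup.index_comap_of_surjective _ (ConjAct.toConjAct (G := G)).surjective
  rw [h1, MulAction.index_stabilizer, ← Set.ncard_coe_finset]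
  apply Set.ncard_le_ncard _ (Set.toFinite _)
  intro x hx
  obtain ⟨g, rfl⟩ := hx
  simp only [Finset.coe_filter, Finset.mem_univ, true_and, Set.mem_ofPred_eq]
  rw [ConjAct.smul_def]
  exact orderOf_conj_two ht2 _

section main

variable (P : Sylow 3 G) (hab : IsMulCommutative P)
    (hN : Nat.card (normalizer ((P : Subgroup G) : Set G)) = 4 * Nat.card P)
    (hC : Nat.card (centralizer (P : Set G)) = 2 * Nat.card P)
    (heven : ∀ H : Subgroup G, H ≠ ⊤ → 2 ∣ Nat.card H → Nat.card H ∣ 4 * Nat.card P)
    (hs : IsSimpleGroup G)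
    (hTI : Cfsg.IsTISubset (centralizer (P : Set G) : Set G))

include hab hN hC heven hs in
theorem card_nbr_le {t : G} (ht : t ∈ centralizer (P : Set G)) (ht2 : orderOf t = 2) :
    (nbr t).card ≤ 2 * Nat.card P := by
  have hCt := centralizer_invol_eq P hab hN hC heven hs ht ht2
  have hCN : centralizer (P : Set G) ≤ normalizer ((P : Subgroup G) : Set G) :=
    centralizer_le_normalizer _
  have hsub : nbr t ⊆ (Finset.univ.filter (fun w : G => w ∈ normalizer ((P : Subgroup G) : Set G)))
      \ (Finset.univ.filter (fun w : G => w ∈ centralizer (P : Set G))) := by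
    intro w hw
    rw [mem_nbr] at hw
    obtain ⟨hw2, hwt, hcomm⟩ := hw
    rw [Finset.mem_sdiff, Finset.mem_filter, Finset.mem_filter]
    refine ⟨⟨Finset.mem_univ _, ?_⟩, ?_⟩
    · rw [← hCt, mem_centralizer_singleton_iff]
      exact hcomm
    · rintro ⟨_, hwC⟩
      exact hwt (invol_unique P hab hC ht ht2 hwC hw2)
  have hcard := Finset.card_le_card hsub
  have hsub2 : (Finset.univ.filter (fun w : G => w ∈ centralizer (P : Set G)))
      ⊆ (Finset.univ.filter (fun w : G => w ∈ normalizer ((P : Subgroup G) : Set G))) := by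
    intro w hw
    rw [Finset.mem_filter] at hw ⊢
    exact ⟨hw.1, hCN hw.2⟩
  rw [Finset.card_sdiff_of_subset hsub2] at hcard
  have e1 : (Finset.univ.filter (fun w : G => w ∈ normalizer ((P : Subgroup G) : Set G))).card
      = Nat.card (normalizer ((P : Subgroup G) : Set G)) := by
    rw [Nat.card_eq_fintype_card, Fintype.card_subtype]
  have e2 : (Finset.univ.filter (fun w : G => w ∈ centralizer (P : Set G))).card
      = Nat.card (centralizer (P : Set G)) := by
    rw [Nat.card_eq_fintype_card, Fintype.card_subtype]
  rw [e1, e2, hN, hC] at hcard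
  omega

include hab hN hC heven hs in
theorem card_nbr_le' {t : G} (ht : t ∈ centralizer (P : Set G)) (ht2 : orderOf t = 2)
    (hone : ∀ s t : G, orderOf s = 2 → orderOf t = 2 → IsConj s t)
    {v : G} (hv2 : orderOf v = 2) : (nbr v).card ≤ 2 * Nat.card P := by
  obtain ⟨c, hc⟩ := isConj_iff.1 (hone t v ht2 hv2)
  obtain ⟨g, hg⟩ : ∃ g : G, g = c⁻¹ := ⟨_, rfl⟩
  have hgv : g * v * g⁻¹ = t := by
    rw [hg, ← hc]; group
  refine le_trans ?_ (card_nbr_le P hab hN hC heven hs ht ht2)
  apply Finset.card_le_card_of_injOn (fun w => g * w * g⁻¹)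
  · intro w hw
    have hw' := mem_nbr.1 (Finset.mem_coe.1 hw)
    obtain ⟨hw2, hwv, hcomm⟩ := hw'
    apply Finset.mem_coe.2
    rw [mem_nbr]
    refine ⟨orderOf_conj_two hw2 g, ?_, ?_⟩
    · intro h
      apply hwv
      rw [← hgv] at h
      have := mul_left_cancel (mul_right_cancel h)
      exact this
    · rw [← hgv]
      calc g * w * g⁻¹ * (g * v * g⁻¹) = g * (w * v) * g⁻¹ := by group
        _ = g * (v * w) * g⁻¹ := by rw [hcomm]
        _ = g * v * g⁻¹ * (g * w * g⁻¹) := by group
  · intro a _ b _ h
    exact mul_left_cancel (mul_right_cancel h)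

include hab hN hC heven hs hTI in
theorem card_invol_le {t : G} (ht : t ∈ centralizer (P : Set G)) (ht2 : orderOf t = 2)
    (hone : ∀ s t : G, orderOf s = 2 → orderOf t = 2 → IsConj s t) :
    (Finset.univ.filter (fun w : G => orderOf w = 2)).card
      ≤ 1 + (2 * Nat.card P + (2 * Nat.card P) * (2 * Nat.card P - 2)) := by
  have htt := mul_self_of_orderOf_two ht2
  have ht1 := ne_one_of_orderOf_two ht2
  have hsub : (Finset.univ.filter (fun w : G => orderOf w = 2)) ⊆
      insert t (nbr t ∪ (nbr t).biUnion (fun t' => ((nbr t').erase t).erase (t * t'))) := by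
    intro w hw
    rw [Finset.mem_filter] at hw
    have hw2 := hw.2
    rw [Finset.mem_insert, Finset.mem_union]
    by_cases hwt : w = t
    · left; exact hwt
    right
    by_cases hcomm : w * t = t * w
    · left
      rw [mem_nbr]
      exact ⟨hw2, hwt, hcomm⟩
    right
    obtain ⟨t', ht'2, ht't, hc1, hc2⟩ :=
      exists_common_invol P hab hN hC heven hs hTI ht ht2 hw2 hcomm
    rw [Finset.mem_biUnion]
    refine ⟨t', mem_nbr.2 ⟨ht'2, ht't, hc1⟩, ?_⟩
    rw [Finset.mem_erase, Finset.mem_erase, mem_nbr]
    refine ⟨?_, hwt, hw2, ?_, hc2⟩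
    · intro h
      apply hcomm
      rw [h]
      calc t * t' * t = t * (t' * t) := by group
        _ = t * (t * t') := by rw [hc1]
    · intro h
      apply hcomm
      rw [h, hc1]
  have hpiece : ∀ t' ∈ nbr t, (((nbr t').erase t).erase (t * t')).card ≤ 2 * Nat.card P - 2 := by
    intro t' ht'
    rw [mem_nbr] at ht'
    obtain ⟨ht'2, ht't, hc1⟩ := ht'
    have ht't' := mul_self_of_orderOf_two ht'2
    have ht'1 := ne_one_of_orderOf_two ht'2
    have h1 : t ∈ nbr t' := mem_nbr.2 ⟨ht2, fun h => ht't h.symm, hc1.symm⟩
    have h2 : t * t' ∈ (nbr t').erase t := by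
      rw [Finset.mem_erase, mem_nbr]
      refine ⟨?_, ?_, ?_, ?_⟩
      · intro h
        apply ht'1
        have : t * t' = t * 1 := by rw [mul_one]; exact h
        exact mul_left_cancel this
      · apply orderOf_two_of
        · calc t * t' * (t * t') = t * (t' * t) * t' := by group
            _ = t * (t * t') * t' := by rw [hc1]
            _ = (t * t) * (t' * t') := by group
            _ = 1 := by rw [htt, ht't', one_mul]
        · intro h
          apply ht't
          have h3 : t' = t⁻¹ := by
            rw [eq_inv_iff_mul_eq_one]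
            rw [hc1]; exact h
          rw [h3, inv_of_mul_self htt]
      · intro h
        apply ht1
        have : t * t' = 1 * t' := by rw [one_mul]; exact h
        exact mul_right_cancel this
      · calc t * t' * t' = t * (t' * t') := by group
          _ = t := by rw [ht't', mul_one]
          _ = (t' * t') * t := by rw [ht't', one_mul]
          _ = t' * (t' * t) := by group
          _ = t' * (t * t') := by rw [hc1]
    rw [Finset.card_erase_of_mem h2, Finset.card_erase_of_mem h1]
    have := card_nbr_le' P hab hN hC heven hs ht ht2 hone ht'2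
    omega
  have hnt := card_nbr_le P hab hN hC heven hs ht ht2
  calc (Finset.univ.filter (fun w : G => orderOf w = 2)).card
      ≤ (insert t (nbr t ∪ (nbr t).biUnion
          (fun t' => ((nbr t').erase t).erase (t * t')))).card := Finset.card_le_card hsub
    _ ≤ (nbr t ∪ (nbr t).biUnion
          (fun t' => ((nbr t').erase t).erase (t * t'))).card + 1 := Finset.card_insert_le _ _
    _ ≤ ((nbr t).card + ((nbr t).biUnion
          (fun t' => ((nbr t').erase t).erase (t * t'))).card) + 1 :=
        Nat.add_le_add_right (Finset.card_union_le _ _) 1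
    _ ≤ ((nbr t).card + (nbr t).card • (2 * Nat.card P - 2)) + 1 := by
        apply Nat.add_le_add_right
        apply Nat.add_le_add_left
        exact le_trans Finset.card_biUnion_le (Finset.sum_le_card_nsmul _ _ _ hpiece)
    _ ≤ 1 + (2 * Nat.card P + (2 * Nat.card P) * (2 * Nat.card P - 2)) := by
        rw [smul_eq_mul]
        have := Nat.mul_le_mul_right (2 * Nat.card P - 2) hnt
        omega

end main

end Cfsg.Agent.H2.KleinRes
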