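import Mathlib
import Cfsg.Agent.H2.KleinResB
import Cfsg.Agent.Lib.helper3.KleinFS3
import Cfsg.Agent.Lib.helper3.KleinOne6
import Cfsg.Agent.Lib.helper3.LocalM3
import Cfsg.Agent.Lib.helper3.KleinGrp1

/-!
# The small-normalizer setting is contradictory (Brauer's order formula)
-/

set_option autoImplicit false
set_option linter.unusedSectionVars false
set_option linter.unusedVariables false
set_option linter.style.haveILetI false

namespace Cfsg.Agent.H2.KleinRes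

open Subgroup Cfsg

/-- arithmetic of the `PSL`-shaped case -/
theorem arith_psl (n i m q : ℕ) (hn : 1 ≤ n) (hq : 1 ≤ q) (hq4 : (4 : ℤ) ∣ (q : ℤ) + 1)
    (h1 : 4 * (4 * n) = m * 4 * (q + 1))
    (h2 : 8 * (4 * n * i) = m ^ 3 * 4 * (q ^ 3 - q))
    (hb : i + 2 * n ≤ 4 * n * n + 1) (hi3 : i % 3 = 1) : False := by
  have hm : 1 ≤ m := by
    rcases Nat.eq_zero_or_pos m with h | h
    · rw [h] at h1; omega
    · exact h
  have h1' : 4 * n = m * (q + 1) := by nlinarith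
  have hqq : q ≤ q ^ 3 := by
    calc q = q ^ 1 := (pow_one q).symm
      _ ≤ q ^ 3 := Nat.pow_le_pow_right hq (by norm_num)
  have h2z : (8 : ℤ) * (4 * n * i) = (m : ℤ) ^ 3 * 4 * ((q : ℤ) ^ 3 - q) := by
    have := congrArg (Nat.cast (R := ℤ)) h2
    push_cast [Nat.cast_sub hqq] at this
    exact this
  have h1z : (4 : ℤ) * n = m * ((q : ℤ) + 1) := by exact_mod_cast h1'
  have hmz : (1 : ℤ) ≤ m := by exact_mod_cast hm
  have hqz : (1 : ℤ) ≤ q := by exact_mod_cast hq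
  have hnz : (1 : ℤ) ≤ n := by exact_mod_cast hn
  have hbz : (i : ℤ) + 2 * n ≤ 4 * n * n + 1 := by exact_mod_cast hb
  -- 2 i = m² q (q-1)
  have h3 : (2 : ℤ) * i = (m : ℤ) ^ 2 * q * ((q : ℤ) - 1) := by
    have hpos : (0 : ℤ) < m * ((q : ℤ) + 1) := by positivity
    apply mul_left_cancel₀ hpos.ne'
    have e1 : (m : ℤ) * ((q : ℤ) + 1) * (2 * i) = 2 * (4 * n) * i := by rw [h1z]; ring
    rw [e1]
    have e2 : (2 : ℤ) * (4 * n) * i * 4 = 8 * (4 * n * i) := by ring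
    have : (2 : ℤ) * (4 * n) * i * 4
        = (m * ((q : ℤ) + 1) * ((m : ℤ) ^ 2 * q * ((q : ℤ) - 1))) * 4 := by
      rw [e2, h2z]; ring
    linarith
  -- q ≤ 4
  have hq4' : (q : ℤ) ≤ 4 := by
    by_contra hcon
    push Not at hcon
    have hi : (4 : ℤ) * i < (m : ℤ) ^ 2 * ((q : ℤ) + 1) ^ 2 := by
      have : (m : ℤ) ^ 2 * ((q : ℤ) + 1) ^ 2 = (4 * n) ^ 2 := by rw [h1z]; ring
      rw [this]
      nlinarith
    have hm2 : (0 : ℤ) < (m : ℤ) ^ 2 := by positivity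
    have : (2 : ℤ) * ((m : ℤ) ^ 2 * q * ((q : ℤ) - 1)) < (m : ℤ) ^ 2 * ((q : ℤ) + 1) ^ 2 := by
      rw [← h3]; linarith
    have h5 : (2 : ℤ) * (q * ((q : ℤ) - 1)) < ((q : ℤ) + 1) ^ 2 := by
      by_contra h
      push Not at h
      have := mul_le_mul_of_nonneg_left h hm2.le
      nlinarith
    nlinarith
  have hq3 : q = 3 := by
    have hq4n : q ≤ 4 := by exact_mod_cast hq4'
    obtain ⟨c, hc⟩ := hq4
    interval_cases q <;> omega
  subst hq3
  have : (2 : ℤ) * i = (m : ℤ) ^ 2 * 6 := by rw [h3]; push_cast; ring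
  have h6 : (i : ℤ) = 3 * (m : ℤ) ^ 2 := by linarith
  have h7 : i = 3 * m ^ 2 := by exact_mod_cast h6
  rw [h7] at hi3
  omega

/-- arithmetic of the other case -/
theorem arith_other (n i : ℕ) (a b c : ℤ) (hn : 1 ≤ n) (ha : 1 ≤ a) (hb : 1 ≤ b) (hc : 1 ≤ c)
    (hden : (a + 1) * (b - 1) * (c - 1) ≠ 0)
    (hmain : (i : ℤ) * ((a + 1) * (b - 1) * (c - 1)) = 8 * (n : ℤ) ^ 2 * (a * b * c))
    (hbd : i + 2 * n ≤ 4 * n * n + 1) : False := by
  have hnz : (1 : ℤ) ≤ n := by exact_mod_cast hn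
  have hbz : (i : ℤ) + 2 * n ≤ 4 * n * n + 1 := by exact_mod_cast hbd
  have hb1 : 1 ≤ b - 1 := by
    have : b - 1 ≠ 0 := by
      intro h; apply hden; rw [h]; ring
    omega
  have hc1 : 1 ≤ c - 1 := by
    have : c - 1 ≠ 0 := by
      intro h; apply hden; rw [h]; ring
    omega
  have hD : 0 < (a + 1) * (b - 1) * (c - 1) := by positivity
  have hi : (i : ℤ) < 4 * (n : ℤ) ^ 2 := by nlinarith
  have h1 : (i : ℤ) * ((a + 1) * (b - 1) * (c - 1))
      < 4 * (n : ℤ) ^ 2 * ((a + 1) * (b - 1) * (c - 1)) := mul_lt_mul_of_pos_right hi hD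
  rw [hmain] at h1
  have hn2 : (0 : ℤ) < 4 * (n : ℤ) ^ 2 := by positivity
  have h2 : 2 * (a * b * c) < (a + 1) * (b - 1) * (c - 1) := by
    by_contra h
    push Not at h
    have := mul_le_mul_of_nonneg_left h hn2.le
    nlinarith
  have h3 : (a + 1) * (b - 1) * (c - 1) ≤ 2 * a * ((b - 1) * (c - 1)) := by
    have : 0 ≤ (b - 1) * (c - 1) := by positivity
    nlinarith
  have h4 : (b - 1) * (c - 1) < b * c := by nlinarith
  have h5 : 2 * a * ((b - 1) * (c - 1)) < 2 * a * (b * c) := by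
    apply mul_lt_mul_of_pos_left h4
    linarith
  nlinarith

open Cfsg.Agent.Lib.helper3.Block Cfsg.Agent.Lib.helper3.Klein Cfsg.Agent.Lib.helper3.LocalM in
/-- The main theorem: the small-normalizer setting does not occur in a simple group. -/
theorem not_simple {G : Type*} [Group G] [Finite G]
    (P : Sylow 3 G) (hab : IsMulCommutative P)
    (hN : Nat.card (Subgroup.normalizer ((P : Subgroup G) : Set G)) = 4 * Nat.card P)
    (hC : Nat.card (Subgroup.centralizer (P : Set G)) = 2 * Nat.card P)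
    (hTI : Cfsg.IsTISubset (Subgroup.centralizer (P : Set G) : Set G))
    (heven : ∀ H : Subgroup G, H ≠ ⊤ → 2 ∣ Nat.card H → Nat.card H ∣ 4 * Nat.card P) :
    ¬ IsSimpleGroup G := by
  intro hs
  classical
  letI : Fintype G := Fintype.ofFinite G
  haveI : Fact (Nat.Prime 2) := ⟨Nat.prime_two⟩
  haveI : Fact (Nat.Prime 3) := ⟨Nat.prime_three⟩
  obtain ⟨t, ht, ht2⟩ := exists_invol P hC
  obtain ⟨g₀, hg₀, hG, hnc⟩ := card_G_eq P hN hC heven hs
  have hZ : IsPGroup 2 (zpowers t) :=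
    IsPGroup.of_card (n := 1) (by rw [Nat.card_zpowers, ht2]; norm_num)
  obtain ⟨S, hS⟩ := hZ.exists_le_sylow
  have htS : t ∈ (S : Subgroup G) := hS (mem_zpowers t)
  obtain ⟨hS4, hexp, hone⟩ := klein_of_no_normal_complement g₀ hg₀ hG hnc S
  have hCS := card_centralizer_sylow2 P hab hN hC heven hs hTI S hS4 hexp hone ht ht2 htS
  have hCt := centralizer_invol_eq P hab hN hC heven hs ht ht2
  have hCtcard : Nat.card (centralizer ({t} : Set G)) = 4 * Nat.card P := by rw [hCt, hN]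
  obtain ⟨n, hn⟩ : ∃ n, n = Nat.card P := ⟨_, rfl⟩
  obtain ⟨i, hi⟩ : ∃ i, i = (normalizer ((P : Subgroup G) : Set G)).index := ⟨_, rfl⟩
  have hn1 : 1 ≤ n := hn ▸ Nat.card_pos
  have hGi : Nat.card G = 4 * n * i := by
    rw [hn, hi, ← hN, Subgroup.card_mul_index]
  have hi3 : i % 3 = 1 := by
    have h1 := card_sylow_modEq_one 3 G
    have e : Nat.card (Sylow 3 G) = i := by
      rw [hi]; exact Sylow.card_eq_index_normalizer P
    rw [e] at h1
    exact h1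
  have hibound : i + 2 * n ≤ 4 * n * n + 1 := by
    have h1 := index_centralizer_le t ht2
    rw [hCt, ← hi] at h1
    have h2 := card_invol_le P hab hN hC heven hs hTI ht ht2 hone
    rw [← hn] at h2
    have h3 := le_trans h1 h2
    obtain ⟨m, rfl⟩ : ∃ m, n = m + 1 := ⟨n - 1, by omega⟩
    have : 2 * (m + 1) - 2 = 2 * m := by omega
    rw [this] at h3
    nlinarith
  obtain ⟨M, hM⟩ := exists_isPModular 2 Nat.prime_two
  obtain ⟨ζ₂, ζ₃, ζ₄, ε, hε, h2ne, h3ne, h23, h24, h34, hB, hval, hd2, hd3, hd4, -⟩ :=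
    klein_principal_block hM S hS4 hexp hone
  have hvt := hval t ht2
  have h4ne : (ζ₄ : G → ℂ) ≠ fun _ => 1 := by
    intro h
    have := hvt.2.2
    rw [h] at this
    norm_num at this
  have hq0 : charDegree (ζ₄ : G → ℂ) ≠ 0 := charDegree_ne_zero ζ₄
  have ha0 : charDegree (ζ₂ : G → ℂ) ≠ 0 := charDegree_ne_zero ζ₂
  have hb0 : charDegree (ζ₃ : G → ℂ) ≠ 0 := charDegree_ne_zero ζ₃
  rcases hε with rfl | rfl
  · obtain ⟨m, hm1, hm2⟩ := klein_psl_shape hM S hS4 hexp hone t htS ht2 ζ₂ ζ₃ ζ₄ 1 1 (-1) hB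
      ⟨h2ne, h3ne, h4ne, h23, h24, h34⟩ ⟨Or.inl rfl, Or.inl rfl, Or.inr rfl⟩
      ⟨by simpa using hvt.1, by simpa using hvt.2.1, by simpa using hvt.2.2⟩ (by norm_num) rfl
    rw [hCtcard, hCS, ← hn] at hm1
    rw [hCS, hGi] at hm2
    exact arith_psl n i m (charDegree (ζ₄ : G → ℂ)) hn1 (by omega) hd4 hm1 hm2 hibound hi3
  · obtain ⟨horth, hden, hmain⟩ := klein_order_formula hM S hS4 hexp hone t htS ht2 ζ₂ ζ₃ ζ₄
      1 (-1) (-1) hB
      ⟨h2ne, h3ne, h4ne, h23, h24, h34⟩ ⟨Or.inl rfl, Or.inr rfl, Or.inr rfl⟩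
      ⟨by simpa using hvt.1, by simpa using hvt.2.1, by simpa using hvt.2.2⟩
    rw [hCtcard, hCS, hGi, ← hn] at hmain
    obtain ⟨a, hadef⟩ : ∃ a : ℕ, a = charDegree (ζ₂ : G → ℂ) := ⟨_, rfl⟩
    obtain ⟨b, hbdef⟩ : ∃ b : ℕ, b = charDegree (ζ₃ : G → ℂ) := ⟨_, rfl⟩
    obtain ⟨c, hcdef⟩ : ∃ c : ℕ, c = charDegree (ζ₄ : G → ℂ) := ⟨_, rfl⟩
    rw [← hadef, ← hbdef, ← hcdef] at hden hmain
    rw [← hadef] at ha0
    rw [← hbdef] at hb0
    rw [← hcdef] at hq0
    have hdenZ : (((a : ℤ) + 1) * ((b : ℤ) - 1) * ((c : ℤ) - 1)) ≠ 0 := by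
      intro h
      apply hden
      have : (((a : ℤ) + 1) * ((b : ℤ) - 1) * ((c : ℤ) - 1) : ℂ) = 0 := by exact_mod_cast h
      push_cast
      linear_combination this
    have hmainZ : (i : ℤ) * (((a : ℤ) + 1) * ((b : ℤ) - 1) * ((c : ℤ) - 1))
        = 8 * (n : ℤ) ^ 2 * ((a : ℤ) * b * c) := by
      have hnC : (n : ℂ) ≠ 0 := by
        have : n ≠ 0 := by omega
        exact_mod_cast this
      have hC : ((i : ℂ) * (((a : ℂ) + 1) * ((b : ℂ) - 1) * ((c : ℂ) - 1))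
          = 8 * (n : ℂ) ^ 2 * ((a : ℂ) * b * c)) := by
        have hden' : ((a : ℂ) + 1) * ((b : ℂ) - 1) * ((c : ℂ) - 1) ≠ 0 := by
          intro h
          apply hden
          push_cast
          linear_combination h
        push_cast at hmain
        have h16 : ((4 : ℂ)) ^ 2 ≠ 0 := by norm_num
        have e : ((a : ℂ) + 1) * ((b : ℂ) + -1) * ((c : ℂ) + -1)
            = ((a : ℂ) + 1) * ((b : ℂ) - 1) * ((c : ℂ) - 1) := by ring
        rw [e] at hmain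
        have key : ((a : ℂ) * b * c / (((a : ℂ) + 1) * ((b : ℂ) - 1) * ((c : ℂ) - 1)))
            * (((a : ℂ) + 1) * ((b : ℂ) - 1) * ((c : ℂ) - 1)) = (a : ℂ) * b * c :=
          div_mul_cancel₀ _ hden'
        have h4n : (4 : ℂ) * n ≠ 0 := mul_ne_zero (by norm_num) hnC
        apply mul_left_cancel₀ h4n
        linear_combination (((a : ℂ) + 1) * ((b : ℂ) - 1) * ((c : ℂ) - 1)) * hmain
          + (8 * (4 * (n : ℂ)) ^ 3 / 4 ^ 2) * key
      exact_mod_cast hC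
    exact arith_other n i a b c hn1 (by omega) (by omega) (by omega) hdenZ hmainZ hibound

end Cfsg.Agent.H2.KleinRes
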