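import Cfsg.Agent.H2.V4cB2
import Cfsg.Agent.S0202
import Cfsg.Agent.S0203

set_option autoImplicit false
set_option maxHeartbeats 800000

namespace Cfsg.Agent.H2.V4c

variable {G : Type*} [Group G]

/-- Hypotheses of case A: all involutions are conjugate with Klein four centralizers. -/
structure HypA (G : Type*) [Group G] : Prop where
  conj : ∀ s t : G, orderOf s = 2 → orderOf t = 2 → ∃ g, g * s * g⁻¹ = t
  card : ∀ t : G, orderOf t = 2 → Nat.card (Subgroup.centralizer ({t} : Set G)) = 4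
  exp : ∀ t : G, orderOf t = 2 → ∀ c ∈ Subgroup.centralizer ({t} : Set G), c ^ 2 = 1

theorem isKleinFour_of_card_exp (H : Subgroup G) (h4 : Nat.card H = 4)
    (he : ∀ c ∈ H, c ^ 2 = 1) : IsKleinFour ↥H := by
  refine ⟨h4, ?_⟩
  have h1 : Monoid.exponent ↥H ∣ 2 := by
    rw [Monoid.exponent_dvd_iff_forall_pow_eq_one]
    intro g
    apply Subtype.ext
    simpa using he g.1 g.2
  have h2 : Monoid.exponent ↥H ≠ 1 := by
    intro h
    rw [Monoid.exp_eq_one_iff] at h
    have := Nat.card_eq_one_iff_unique.mpr ⟨h, ⟨1⟩⟩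
    omega
  have h3 := Nat.le_of_dvd (by norm_num) h1
  have h4 : Monoid.exponent ↥H ≠ 0 := by
    intro h; rw [h] at h1; simp at h1
  omega

theorem card_centralizer_conj [Finite G] (x g : G) :
    Nat.card (Subgroup.centralizer ({g * x * g⁻¹} : Set G)) =
      Nat.card (Subgroup.centralizer ({x} : Set G)) := by
  apply Nat.card_congr
  refine
    { toFun := fun c => ⟨g⁻¹ * c.1 * g, ?_⟩
      invFun := fun c => ⟨g * c.1 * g⁻¹, ?_⟩
      left_inv := fun c => Subtype.ext (by simp only; group)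
      right_inv := fun c => Subtype.ext (by simp only; group) }
  · have := c.2
    rw [mem_centralizer_singleton] at this ⊢
    calc x * (g⁻¹ * c.1 * g) = g⁻¹ * ((g * x * g⁻¹) * c.1) * g := by group
      _ = g⁻¹ * (c.1 * (g * x * g⁻¹)) * g := by rw [this]
      _ = g⁻¹ * c.1 * g * x := by group
  · have := c.2
    rw [mem_centralizer_singleton] at this ⊢
    calc g * x * g⁻¹ * (g * c.1 * g⁻¹) = g * (x * c.1) * g⁻¹ := by group
      _ = g * (c.1 * x) * g⁻¹ := by rw [this]
      _ = g * c.1 * g⁻¹ * (g * x * g⁻¹) := by group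

theorem exp_centralizer_conj (x g : G)
    (hCe : ∀ c ∈ Subgroup.centralizer ({x} : Set G), c ^ 2 = 1) :
    ∀ c ∈ Subgroup.centralizer ({g * x * g⁻¹} : Set G), c ^ 2 = 1 := by
  intro c hc
  rw [mem_centralizer_singleton] at hc
  have h1 : g⁻¹ * c * g ∈ Subgroup.centralizer ({x} : Set G) := by
    rw [mem_centralizer_singleton]
    calc x * (g⁻¹ * c * g) = g⁻¹ * ((g * x * g⁻¹) * c) * g := by group
      _ = g⁻¹ * (c * (g * x * g⁻¹)) * g := by rw [hc]
      _ = g⁻¹ * c * g * x := by group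
  have h2 := hCe _ h1
  have h3 : (g⁻¹ * c * g) ^ 2 = g⁻¹ * c ^ 2 * g := by rw [pow_two, pow_two]; group
  rw [h3] at h2
  calc c ^ 2 = g * (g⁻¹ * c ^ 2 * g) * g⁻¹ := by group
    _ = 1 := by rw [h2]; group

theorem hypA_of_sylow [Finite G] (x : G) (hx : orderOf x = 2)
    (hC4 : Nat.card ↥(Subgroup.centralizer ({x} : Set G)) = 4)
    (hCe : ∀ c ∈ Subgroup.centralizer ({x} : Set G), c ^ 2 = 1)
    (hnc : ¬ Cfsg.HasNormalPComplement 2 G)
    (S : Sylow 2 G) (hS : (S : Subgroup G) = Subgroup.centralizer ({x} : Set G)) : HypA G := by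
  have hK : IsKleinFour ↥(S : Subgroup G) := by
    rw [hS]; exact isKleinFour_of_card_exp _ hC4 hCe
  have h1 := Cfsg.Agent.S0202.result S hK
  have h2 := Cfsg.Agent.S0203.result S hK
  have h3 : Nat.card {C : ConjClasses G // ∃ t : G, orderOf t = 2 ∧ ConjClasses.mk t = C} = 1 := by
    rcases h1 with h | h
    · exact h
    · exfalso
      obtain ⟨N, hN, hc⟩ := h2.mp h
      exact hnc ⟨S, N, hN, hc⟩
  have hconj : ∀ s t : G, orderOf s = 2 → orderOf t = 2 → ∃ g, g * s * g⁻¹ = t := by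
    intro s t hs ht
    have hsub := (Nat.card_eq_one_iff_unique.mp h3).1
    have := hsub.elim (⟨ConjClasses.mk s, s, hs, rfl⟩ :
      {C : ConjClasses G // ∃ t : G, orderOf t = 2 ∧ ConjClasses.mk t = C})
      ⟨ConjClasses.mk t, t, ht, rfl⟩
    have h4 : ConjClasses.mk s = ConjClasses.mk t := congrArg Subtype.val this
    rw [ConjClasses.mk_eq_mk_iff_isConj, isConj_iff] at h4
    exact h4
  refine ⟨hconj, ?_, ?_⟩
  · intro t ht
    obtain ⟨g, rfl⟩ := hconj x t hx ht
    rw [card_centralizer_conj, hC4]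
  · intro t ht
    obtain ⟨g, rfl⟩ := hconj x t hx ht
    exact exp_centralizer_conj x g hCe

end Cfsg.Agent.H2.V4c
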