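import Mathlib
import Cfsg.Agent.H2.CycSylE
import Cfsg.Agent.H2.V4cA1
import Cfsg.Agent.Lib.helper3.KleinGrp1
import Cfsg.Agent.H2.KleinResC

/-!
# Cyclic Sylow `p`-subgroup with abelian `p'`-subgroups: simplicity, Hall complements
(towards S4016)
-/

set_option autoImplicit false
set_option linter.unusedSectionVars false
set_option linter.unusedVariables false
set_option linter.style.haveILetI false

namespace Cfsg.Agent.H2.CycSylAb

open Subgroup Cfsg
open scoped commutatorElement

universe u

variable {G : Type u} [Group G] [Finite G] {p : ℕ} [hp : Fact p.Prime] (c : Ctx p G)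

namespace Ctx

include c

/-- there are no nontrivial normal `p`-subgroups -/
theorem no_normal_pgroup {Q : Subgroup G} (hQn : Q.Normal) (hQp : IsPGroup p Q) : Q = ⊥ := by
  by_contra h1
  haveI := hQn
  have hsup : IsPGroup p ((c.P : Subgroup G) ⊔ Q : Subgroup G) :=
    IsPGroup.to_sup_of_normal_right c.P.isPGroup' hQp
  have h2 := c.P.is_maximal' hsup le_sup_left
  have hQP : Q ≤ (c.P : Subgroup G) := by
    rw [← h2]; exact le_sup_right
  have h3 := c.normalizer_le hQP h1
  rw [normalizer_eq_top_iff.2 hQn] at h3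
  exact c.N_ne_top (top_le_iff.1 h3)

/-- the normal `p`-complement of a normal subgroup is normal -/
theorem npc_normal {M T : Subgroup G} (hM : M.Normal) (hTM : T ≤ M)
    (hTc : (Nat.card T).Coprime p)
    (hTmem : ∀ h ∈ M, (orderOf h).Coprime p → h ∈ T) : T.Normal := by
  constructor
  intro t ht g
  apply hTmem _ (hM.conj_mem t (hTM ht) g)
  have : orderOf (g * t * g⁻¹) = orderOf t := by
    have := orderOf_injective (MulAut.conj g).toMonoidHom (MulAut.conj g).injective t
    simpa using this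
  rw [this]
  exact Nat.Coprime.coprime_dvd_left (Subgroup.orderOf_dvd_natCard T ht) hTc

/-- a minimal counterexample is simple -/
theorem simple : IsSimpleGroup G := by
  haveI : Nontrivial G := by
    by_contra h
    rw [not_nontrivial_iff_subsingleton] at h
    apply c.N_ne_top
    rw [eq_top_iff]
    intro g _
    rw [Subsingleton.elim g 1]
    exact one_mem _
  refine ⟨fun M hM => ?_⟩
  by_cases hMt : M = ⊤
  · right; exact hMt
  left
  by_cases hpM : p ∣ Nat.card M
  · obtain ⟨Q⟩ : Nonempty (Sylow p M) := inferInstance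
    rcases c.hIH M hMt Q with h | h
    · obtain ⟨T, hTM, hMT, hTc, ⟨k, hk⟩, hTmem⟩ := internal_npc M h
      have hTn := c.npc_normal hM hTM hTc hTmem
      have hTp : ¬ p ∣ Nat.card T := by
        intro hd
        have := Nat.Coprime.eq_one_of_dvd hTc.symm hd
        exact hp.out.one_lt.ne' this
      have hT := c.eq_bot_of_normal_coprime hTn hTp
      rw [hT, Subgroup.card_bot, one_mul] at hk
      exact c.no_normal_pgroup hM (IsPGroup.of_card hk)
    · exfalso
      haveI := hM
      haveI := Q.characteristic_of_normal h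
      have hn : ((Q : Subgroup M).map M.subtype).Normal :=
        ConjAct.normal_of_characteristic_of_normal
      have hbot := c.no_normal_pgroup hn (Q.isPGroup'.map M.subtype)
      have hQbot : (Q : Subgroup M) = ⊥ := by
        rw [Subgroup.map_eq_bot_iff_of_injective _ M.subtype_injective] at hbot
        exact hbot
      have hd := Q.dvd_card_of_dvd_card hpM
      rw [show Nat.card Q = Nat.card (Q : Subgroup M) from rfl, hQbot, Subgroup.card_bot] at hd
      exact hp.out.one_lt.ne' (Nat.dvd_one.1 hd)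
  · exact c.eq_bot_of_normal_coprime hM hpM

/-- proper subgroups have Hall `p'`-subgroups -/
theorem exists_hall {H : Subgroup G} (hH : H ≠ ⊤) :
    ∃ T : Subgroup G, T ≤ H ∧ (Nat.card T).Coprime p ∧ ∃ j : ℕ, Nat.card H = Nat.card T * p ^ j := by
  obtain ⟨Q⟩ : Nonempty (Sylow p H) := inferInstance
  rcases c.hIH H hH Q with h | h
  · obtain ⟨T, hTH, -, hTc, hk, -⟩ := internal_npc H h
    exact ⟨T, hTH, hTc, hk⟩
  · haveI := h
    have hidx : ¬ p ∣ (Q : Subgroup H).index := Q.not_dvd_index
    obtain ⟨j, hj⟩ := IsPGroup.iff_card.mp Q.isPGroup'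
    have hcop : Nat.Coprime (Nat.card (Q : Subgroup H)) (Q : Subgroup H).index := by
      rw [hj]
      exact Nat.Coprime.pow_left _ ((Nat.Prime.coprime_iff_not_dvd hp.out).2 hidx)
    obtain ⟨T', hT'⟩ := Subgroup.exists_right_complement'_of_coprime hcop
    refine ⟨T'.map H.subtype, Subgroup.map_subtype_le _, ?_, j, ?_⟩
    · rw [Subgroup.card_map_of_injective H.subtype_injective, ← hT'.symm.index_eq_card]
      exact ((Nat.Prime.coprime_iff_not_dvd hp.out).2 hidx).symm
    · rw [Subgroup.card_map_of_injective H.subtype_injective, ← hT'.card_mul_card, hj, mul_comm]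

section data

variable (hK : c.L ⊓ c.C ≠ ⊥) (R : Sylow 2 G) {k s : G}
  (hKR : (c.L ⊓ c.C : Subgroup G) ≤ (R : Subgroup G))
  (hkL : k ∈ c.L) (hkC : k ∈ c.C) (hk2 : orderOf k = 2)
  (hsR : s ∈ normalizer ((R : Subgroup G) : Set G)) (hs : orderOf s = p)

include hK hKR hkL hkC hk2 hsR hs in
/-- all involutions are conjugate to `k` -/
theorem invol_conj {t : G} (ht : orderOf t = 2) : ∃ g : G, g * k * g⁻¹ = t := by
  classical
  have hk1 : k ≠ 1 := c.k_ne_one (r := 2) hk2
  have hkR : k ∈ (R : Subgroup G) := hKR (Subgroup.mem_inf.2 ⟨hkL, hkC⟩)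
  have h2p := c.two_ne_p hK
  have hp3 := c.p_eq_three hK
  obtain ⟨d, hd⟩ := Cfsg.Agent.Lib.helper3.Klein.exists_conj_mem_sylow R t ⟨1, by rw [ht, pow_one]⟩
  have ht'1 : d⁻¹ * t * d ≠ 1 := by
    intro h
    have : t = 1 := by
      calc t = d * (d⁻¹ * t * d) * d⁻¹ := by group
        _ = 1 := by rw [h]; group
    rw [this, orderOf_one] at ht
    omega
  have haR : s * k * s⁻¹ ∈ (R : Subgroup G) := (mem_set_normalizer_iff.1 hsR k).1 hkR
  have hbR : s⁻¹ * k * s ∈ (R : Subgroup G) := (mem_set_normalizer_iff''.1 hsR k).1 hkR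
  have hfpf : ∀ w ∈ (R : Subgroup G), w * s = s * w → w = 1 :=
    fun w hw h => c.fpf h2p R hkL hkC hk1 hkR hsR hs hw h
  have ha1 : s * k * s⁻¹ ≠ 1 := by
    intro h
    apply hk1
    calc k = s⁻¹ * (s * k * s⁻¹) * s := by group
      _ = 1 := by rw [h]; group
  have hb1 : s⁻¹ * k * s ≠ 1 := by
    intro h
    apply hk1
    calc k = s * (s⁻¹ * k * s) * s⁻¹ := by group
      _ = 1 := by rw [h]; group
  have hak : s * k * s⁻¹ ≠ k := by
    intro h
    apply hk1
    apply hfpf k hkR
    calc k * s = (s * k * s⁻¹) * s := by rw [h]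
      _ = s * k := by group
  have hbk : s⁻¹ * k * s ≠ k := by
    intro h
    apply hk1
    apply hfpf k hkR
    calc k * s = s * (s⁻¹ * k * s) := by group
      _ = s * k := by rw [h]
  have hs3 : s * s * s = 1 := by
    have := pow_orderOf_eq_one s
    rw [hs, hp3] at this
    calc s * s * s = s ^ 3 := by simp [pow_succ]
      _ = 1 := this
  have hab' : s * k * s⁻¹ ≠ s⁻¹ * k * s := by
    intro h
    apply hbk
    have hsi : s * s = s⁻¹ := by
      calc s * s = (s * s * s) * s⁻¹ := by group
        _ = s⁻¹ := by rw [hs3, one_mul]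
    calc s⁻¹ * k * s = (s * s) * k * (s * s)⁻¹ := by rw [hsi, inv_inv]
      _ = s * (s * k * s⁻¹) * s⁻¹ := by group
      _ = s * (s⁻¹ * k * s) * s⁻¹ := by rw [h]
      _ = k := by group
  by_cases h1 : d⁻¹ * t * d = k
  · exact ⟨d, by rw [← h1]; group⟩
  by_cases h2 : d⁻¹ * t * d = s * k * s⁻¹
  · exact ⟨d * s, by
      calc d * s * k * (d * s)⁻¹ = d * (s * k * s⁻¹) * d⁻¹ := by group
        _ = t := by rw [← h2]; group⟩
  by_cases h3 : d⁻¹ * t * d = s⁻¹ * k * s
  · exact ⟨d * s⁻¹, by
      calc d * s⁻¹ * k * (d * s⁻¹)⁻¹ = d * (s⁻¹ * k * s) * d⁻¹ := by group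
        _ = t := by rw [← h3]; group⟩
  exfalso
  -- five distinct elements in `R`
  have hcardR := c.card_R_le hK R hKR hkL hkC hk2
  rw [c.card_K_eq_two hK R hKR hkL hkC hk2 hsR hs] at hcardR
  haveI : Fintype G := Fintype.ofFinite G
  have hsub : ({1, k, s * k * s⁻¹, s⁻¹ * k * s, d⁻¹ * t * d} : Finset G) ⊆
      Finset.univ.filter (fun w => w ∈ (R : Subgroup G)) := by
    intro w hw
    simp only [Finset.mem_insert, Finset.mem_singleton] at hw
    rw [Finset.mem_filter]
    refine ⟨Finset.mem_univ _, ?_⟩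
    rcases hw with rfl | rfl | rfl | rfl | rfl
    · exact one_mem _
    · exact hkR
    · exact haR
    · exact hbR
    · exact hd
  have hcard5 : ({1, k, s * k * s⁻¹, s⁻¹ * k * s, d⁻¹ * t * d} : Finset G).card = 5 := by
    rw [Finset.card_insert_of_notMem, Finset.card_insert_of_notMem, Finset.card_insert_of_notMem,
      Finset.card_insert_of_notMem, Finset.card_singleton]
    · simp only [Finset.mem_singleton]
      exact fun h => h3 h.symm
    · simp only [Finset.mem_insert, Finset.mem_singleton]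
      rintro (h | h)
      · exact hab' h
      · exact h2 h.symm
    · simp only [Finset.mem_insert, Finset.mem_singleton]
      rintro (h | h | h)
      · exact hak h.symm
      · exact hbk h.symm
      · exact h1 h.symm
    · simp only [Finset.mem_insert, Finset.mem_singleton]
      rintro (h | h | h | h)
      · exact hk1 h.symm
      · exact ha1 h.symm
      · exact hb1 h.symm
      · exact ht'1 h.symm
  have hle := Finset.card_le_card hsub
  rw [hcard5] at hle
  have hRc : (Finset.univ.filter (fun w => w ∈ (R : Subgroup G))).card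
      = Nat.card (R : Subgroup G) := by
    rw [Nat.card_eq_fintype_card, Fintype.card_subtype]
  rw [hRc] at hle
  omega

end data

section data2

variable (hK : c.L ⊓ c.C ≠ ⊥) (R : Sylow 2 G) {k s : G}
  (hKR : (c.L ⊓ c.C : Subgroup G) ≤ (R : Subgroup G))
  (hkL : k ∈ c.L) (hkC : k ∈ c.C) (hk2 : orderOf k = 2)
  (hsR : s ∈ normalizer ((R : Subgroup G) : Set G)) (hs : orderOf s = p)

/-- `N_G(P)` normalizes `C_G(P)` -/
theorem conj_mem_C {g v : G} (hg : g ∈ c.N) (hv : v ∈ c.C) : g * v * g⁻¹ ∈ c.C := by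
  rw [mem_centralizer_iff]
  intro y hy
  have hy' : g⁻¹ * y * g ∈ (c.P : Subgroup G) := (mem_set_normalizer_iff''.1 hg y).1 hy
  have h1 := mem_centralizer_iff.1 hv (g⁻¹ * y * g) hy'
  calc y * (g * v * g⁻¹) = g * ((g⁻¹ * y * g) * v) * g⁻¹ := by group
    _ = g * (v * (g⁻¹ * y * g)) * g⁻¹ := by rw [h1]
    _ = g * v * g⁻¹ * y := by group

include hK hKR hkL hkC hk2 hsR hs in
theorem isTI : Cfsg.IsTISubset ((c.C : Subgroup G) : Set G) := by
  intro g hg x hx hgx
  have hp3 := c.p_eq_three hK
  have hcardK := c.card_K_eq_two hK R hKR hkL hkC hk2 hsR hs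
  have hgN : g ∉ c.N := by
    intro h
    apply hg
    apply mem_normalizer_of_conj_le
    intro v hv
    exact c.conj_mem_C h hv
  have hx' : x ∈ c.C := hx
  have hgx' : g * x * g⁻¹ ∈ c.C := hgx
  by_contra hx1
  -- squares of elements of `C` lie in `P`
  have hsq : ∀ v ∈ c.C, v * v ∈ (c.P : Subgroup G) := by
    intro v hv
    obtain ⟨u, hu, l, hl, rfl⟩ := c.hLdec v (c.C_le_N hv)
    have hlC : l ∈ c.C := by
      have : l = u⁻¹ * (u * l) := by group
      rw [this]
      exact mul_mem (inv_mem (c.P_le_C hu)) hv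
    have hll : l * l = 1 := by
      have := pow_card_eq_one' (G := (c.L ⊓ c.C : Subgroup G)) (x := ⟨l, Subgroup.mem_inf.2 ⟨hl, hlC⟩⟩)
      rw [hcardK] at this
      have h2 := congrArg Subtype.val this
      simpa [pow_two] using h2
    have hcomm : u * l = l * u := mem_centralizer_iff.1 hlC u hu
    have : u * l * (u * l) = u * u := by
      calc u * l * (u * l) = u * (l * u) * l := by group
        _ = u * (u * l) * l := by rw [hcomm]
        _ = u * u * (l * l) := by group
        _ = u * u := by rw [hll, mul_one]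
    rw [this]
    exact mul_mem hu hu
  by_cases hy1 : x * x = 1
  · -- `x` is an involution of `K`
    have hx2 : orderOf x = 2 := orderOf_eq_prime (by rw [pow_two, hy1]) hx1
    have hgx2 : orderOf (g * x * g⁻¹) = 2 := by
      have := orderOf_injective (MulAut.conj g).toMonoidHom (MulAut.conj g).injective x
      rw [← hx2]
      simpa using this
    have hcop : (2 : ℕ).Coprime p := by rw [hp3]; norm_num
    have hxL : x ∈ c.L := c.mem_L_of_coprime hx' (by rw [hx2]; exact hcop)
    have hgxL : g * x * g⁻¹ ∈ c.L := c.mem_L_of_coprime hgx' (by rw [hgx2]; exact hcop)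
    obtain ⟨y, -, hy⟩ := (Nat.card_eq_two_iff' (1 : (c.L ⊓ c.C : Subgroup G))).1 hcardK
    have e1 := hy ⟨x, Subgroup.mem_inf.2 ⟨hxL, hx'⟩⟩ (fun h => hx1 (congrArg Subtype.val h))
    have e2 := hy ⟨g * x * g⁻¹, Subgroup.mem_inf.2 ⟨hgxL, hgx'⟩⟩ (fun h => by
      have h' : g * x * g⁻¹ = 1 := congrArg Subtype.val h
      apply hx1
      calc x = g⁻¹ * (g * x * g⁻¹) * g := by group
        _ = 1 := by rw [h']; group)
    have e3 : g * x * g⁻¹ = x := by
      have := e2.trans e1.symm
      exact congrArg Subtype.val this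
    apply hgN
    rw [← c.centralizer_K hxL hx' hx1, mem_centralizer_singleton_iff]
    calc g * x = (g * x * g⁻¹) * g := by group
      _ = x * g := by rw [e3]
  · apply hgN
    apply c.TI (hsq x hx') hy1
    have : g * (x * x) * g⁻¹ = (g * x * g⁻¹) * (g * x * g⁻¹) := by group
    rw [this]
    exact hsq _ hgx'

include hK hKR hkL hkC hk2 hsR hs in
theorem even_dvd (H : Subgroup G) (hH : H ≠ ⊤) (h2 : 2 ∣ Nat.card H) :
    Nat.card H ∣ 4 * Nat.card (c.P : Subgroup G) := by
  have hp3 := c.p_eq_three hK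
  have hk1 : k ≠ 1 := c.k_ne_one (r := 2) hk2
  obtain ⟨T, hTH, hTc, j, hj⟩ := c.exists_hall hH
  have hTp : ¬ p ∣ Nat.card T := by
    intro hd
    have := Nat.Coprime.eq_one_of_dvd hTc.symm hd
    exact hp.out.one_lt.ne' this
  have h2T : 2 ∣ Nat.card T := by
    rw [hj] at h2
    have hcop : (2 : ℕ).Coprime (p ^ j) := by
      apply Nat.Coprime.pow_right
      rw [hp3]; norm_num
    exact hcop.dvd_of_dvd_mul_right h2
  obtain ⟨t', ht'⟩ := exists_prime_orderOf_dvd_card' (G := T) 2 h2T
  have ht2 : orderOf (t' : G) = 2 := by rw [← ht']; exact Subgroup.orderOf_coe t'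
  obtain ⟨g, hg⟩ := c.invol_conj hK R hKR hkL hkC hk2 hsR hs ht2
  have hTcent : T ≤ centralizer ({(t' : G)} : Set G) := by
    intro v hv
    rw [mem_centralizer_singleton_iff]
    exact Subtype.ext_iff.1 ((c.hab T hTp).is_comm.comm ⟨v, hv⟩ t')
  have hcardcent : Nat.card (centralizer ({(t' : G)} : Set G)) = 4 * Nat.card (c.P : Subgroup G) := by
    rw [← hg, Cfsg.Agent.H2.V4c.card_centralizer_conj, c.centralizer_K hkL hkC hk1]
    exact c.card_N_eq hK R hKR hkL hkC hk2 hsR hs
  have hTd : Nat.card T ∣ 4 * Nat.card (c.P : Subgroup G) := by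
    rw [← hcardcent]; exact Subgroup.card_dvd_of_le hTcent
  obtain ⟨a, ha⟩ := IsPGroup.iff_card.mp c.P.isPGroup'
  have hT4 : Nat.card T ∣ 4 := by
    rw [ha] at hTd
    exact (hTc.pow_right a).dvd_of_dvd_mul_right hTd
  have hjP : p ^ j ∣ Nat.card (c.P : Subgroup G) := by
    apply c.P.pow_dvd_card_of_pow_dvd_card
    exact (Dvd.intro_left _ hj.symm).trans (Subgroup.card_subgroup_dvd_card H)
  rw [hj]
  exact mul_dvd_mul hT4 hjP

include hK in
/-- the case `K ≠ 1` is contradictory -/
theorem false_of_K_ne_bot : False := by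
  obtain ⟨R, k, s, hKR, hkL, hkC, hk2, hsR, hs⟩ := c.exists_data hK
  have hp3 := c.p_eq_three hK
  have hN := c.card_N_eq hK R hKR hkL hkC hk2 hsR hs
  have hC := c.card_C_eq hK R hKR hkL hkC hk2 hsR hs
  have hTI := c.isTI hK R hKR hkL hkC hk2 hsR hs
  have heven := c.even_dvd hK R hKR hkL hkC hk2 hsR hs
  have hsimple := c.simple
  have hcomm : IsMulCommutative (c.P : Subgroup G) := by haveI := c.hcyc; infer_instance
  subst hp3
  exact Cfsg.Agent.H2.KleinRes.not_simple c.P hcomm hN hC hTI heven hsimple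

end data2

/-- a minimal counterexample does not exist -/
theorem false : False := by
  by_cases hK : c.L ⊓ c.C = ⊥
  · exact c.false_of_K_eq_bot hK
  · exact c.false_of_K_ne_bot hK

end Ctx

end Cfsg.Agent.H2.CycSylAb
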