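import Mathlib
import Cfsg.Prelude.Def_Blocks
import Cfsg.Agent.Lib.helper3.IrrCongr

/-!
# Transport of defect classes and defect groups along a group isomorphism (helper2)
-/

set_option autoImplicit false
set_option linter.style.haveILetI false
set_option linter.unusedSectionVars false

namespace Cfsg.Agent.H2.DefectTransport

open Cfsg Cfsg.Agent.Lib.helper3.Block

variable {H H' : Type*} [Group H] [Group H'] [Fintype H] [Fintype H'] {M : Ideal AlgInt}

theorem isDefectClass_image_irrCongr (ι : H' ≃* H) (S : Set (IrrCharacter H)) (g' : H') :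
    IsDefectClass M (irrCongr ι '' S) g' ↔ IsDefectClass M S (ι g') := by
  unfold IsDefectClass
  rw [blockCoeff_image_irrCongr]
  constructor
  · rintro ⟨h1, h2, h3⟩
    refine ⟨h1, h2, ?_⟩
    intro χ hχ
    have := h3 (irrCongr ι χ) ⟨χ, hχ, rfl⟩
    rwa [centralChar_irrCongr] at this
  · rintro ⟨h1, h2, h3⟩
    refine ⟨h1, h2, ?_⟩
    rintro _ ⟨χ, hχ, rfl⟩
    rw [centralChar_irrCongr]
    exact h3 χ hχ

theorem centralizer_comap (ι : H' ≃* H) (g' : H') :
    (Subgroup.centralizer ({ι g'} : Set H)).comap ι.toMonoidHom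
      = Subgroup.centralizer ({g'} : Set H') := by
  ext x
  rw [Subgroup.mem_comap, Subgroup.mem_centralizer_singleton_iff,
    Subgroup.mem_centralizer_singleton_iff]
  show ι x * ι g' = ι g' * ι x ↔ _
  rw [← map_mul, ← map_mul, ι.injective.eq_iff]

theorem card_comap_mulEquiv (ι : H' ≃* H) (D : Subgroup H) :
    Nat.card (D.comap ι.toMonoidHom) = Nat.card D := by
  apply Nat.card_congr
  exact (ι.subgroupMap (D.comap ι.toMonoidHom)).toEquiv.trans
    (MulEquiv.subgroupCongr (by
      ext y
      constructor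
      · rintro ⟨x, hx, rfl⟩
        exact hx
      · intro hy
        exact ⟨ι.symm y, by simpa using hy, by simp⟩)).toEquiv

/-- Transport of defect groups along an isomorphism. -/
theorem isDefectGroup_image_irrCongr {p : ℕ} [hp : Fact p.Prime] (ι : H' ≃* H)
    (S : Set (IrrCharacter H)) (D : Subgroup H) (hD : IsDefectGroup p M S D) :
    IsDefectGroup p M (irrCongr ι '' S) (D.comap ι.toMonoidHom) := by
  classical
  obtain ⟨g, hg, P, rfl⟩ := hD
  obtain ⟨g', rfl⟩ := ι.surjective g
  refine ⟨g', (isDefectClass_image_irrCongr ι S g').mpr hg, ?_⟩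
  obtain ⟨D, hDdef⟩ : ∃ D : Subgroup H, D = (P : Subgroup (Subgroup.centralizer ({ι g'} : Set H))).map
      (Subgroup.centralizer ({ι g'} : Set H)).subtype := ⟨_, rfl⟩
  rw [← hDdef]
  have hDle : D ≤ Subgroup.centralizer ({ι g'} : Set H) := by
    rw [hDdef]
    exact Subgroup.map_subtype_le _
  have hD'le : D.comap ι.toMonoidHom ≤ Subgroup.centralizer ({g'} : Set H') := by
    rw [← centralizer_comap ι g']
    exact Subgroup.comap_mono hDle
  have hcardD : Nat.card D = p ^ (Nat.card (Subgroup.centralizer ({ι g'} : Set H))).factorization p := by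
    rw [hDdef, Subgroup.card_map_of_injective (Subgroup.subtype_injective _)]
    exact P.card_eq_multiplicity
  have hcardC : Nat.card (Subgroup.centralizer ({g'} : Set H'))
      = Nat.card (Subgroup.centralizer ({ι g'} : Set H)) := by
    rw [← centralizer_comap ι g', card_comap_mulEquiv]
  have hcardQ : Nat.card ((D.comap ι.toMonoidHom).subgroupOf (Subgroup.centralizer ({g'} : Set H')))
      = p ^ (Nat.card (Subgroup.centralizer ({g'} : Set H'))).factorization p := by
    rw [Nat.card_congr (Subgroup.subgroupOfEquivOfLe hD'le).toEquiv, card_comap_mulEquiv, hcardD,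
      hcardC]
  refine ⟨Sylow.ofCard _ hcardQ, ?_⟩
  rw [Sylow.coe_ofCard, Subgroup.subgroupOf_map_subtype, inf_of_le_left hD'le]

end Cfsg.Agent.H2.DefectTransport
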