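import Mathlib
import Cfsg.Agent.Lib.Lead.KleinFour
import Cfsg.Agent.Lib.Lead.Conj
import Cfsg.Agent.S1963

/-!
# Four-subgroups of a dihedral group, up to conjugacy

`S ≤ X` with `e : S ≃* DihedralGroup m`, `4 ∣ m`.  Elements of `S` are `ρ j`, `σ j`.  A four-subgroup
(order `4`, exponent `2`) of `S` is `{1, ρ h, σ i, σ (i+h)}` with `h = m/2`; its class in `S` is
determined by the parity of `i`.
-/

set_option autoImplicit false
set_option linter.unusedSectionVars false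
set_option linter.unusedVariables false

namespace Cfsg.Agent.H2.DihFourClasses

open Cfsg Cfsg.Agent.Lib.Lead Cfsg.Agent.Lib.Lead.Conj Cfsg.Agent.S1963

variable {X : Type*} [Group X] {S : Subgroup X} {m : ℕ} (e : ↥S ≃* DihedralGroup m)

/-- rotations -/
def ρ (j : ZMod m) : X := ((e.symm (DihedralGroup.r j) : ↥S) : X)
/-- reflections -/
def σ (j : ZMod m) : X := ((e.symm (DihedralGroup.sr j) : ↥S) : X)

theorem ρ_mem (j : ZMod m) : ρ e j ∈ S := (e.symm _).2
theorem σ_mem (j : ZMod m) : σ e j ∈ S := (e.symm _).2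

theorem ρ_mul_ρ (i j : ZMod m) : ρ e i * ρ e j = ρ e (i + j) := by
  unfold ρ; rw [← Subgroup.coe_mul, ← map_mul, DihedralGroup.r_mul_r]
theorem ρ_mul_σ (i j : ZMod m) : ρ e i * σ e j = σ e (j - i) := by
  unfold ρ σ; rw [← Subgroup.coe_mul, ← map_mul, DihedralGroup.r_mul_sr]
theorem σ_mul_ρ (i j : ZMod m) : σ e i * ρ e j = σ e (i + j) := by
  unfold ρ σ; rw [← Subgroup.coe_mul, ← map_mul, DihedralGroup.sr_mul_r]
theorem σ_mul_σ (i j : ZMod m) : σ e i * σ e j = ρ e (j - i) := by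
  unfold ρ σ; rw [← Subgroup.coe_mul, ← map_mul, DihedralGroup.sr_mul_sr]
theorem ρ_zero : ρ e 0 = 1 := by
  unfold ρ; rw [← DihedralGroup.one_def, map_one, Subgroup.coe_one]
theorem ρ_inv (i : ZMod m) : (ρ e i)⁻¹ = ρ e (-i) := by
  apply inv_eq_of_mul_eq_one_right
  rw [ρ_mul_ρ, add_neg_cancel, ρ_zero]
theorem σ_inv (i : ZMod m) : (σ e i)⁻¹ = σ e i := by
  apply inv_eq_of_mul_eq_one_right
  rw [σ_mul_σ, sub_self, ρ_zero]

theorem cases_mem {x : X} (hx : x ∈ S) : (∃ j, x = ρ e j) ∨ (∃ j, x = σ e j) := by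
  rcases h : e ⟨x, hx⟩ with j | j
  · left; refine ⟨j, ?_⟩; unfold ρ; rw [← h, e.symm_apply_apply]
  · right; refine ⟨j, ?_⟩; unfold σ; rw [← h, e.symm_apply_apply]

theorem ρ_inj {i j : ZMod m} (h : ρ e i = ρ e j) : i = j := by
  have := e.symm.injective (Subtype.ext h)
  exact DihedralGroup.r.inj this
theorem σ_inj {i j : ZMod m} (h : σ e i = σ e j) : i = j := by
  have := e.symm.injective (Subtype.ext h)
  exact DihedralGroup.sr.inj this
theorem ρ_ne_σ (i j : ZMod m) : ρ e i ≠ σ e j := by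
  intro h
  have := e.symm.injective (Subtype.ext h)
  cases this

section arith

variable (m) in
/-- half of `m` in `ZMod m` -/
def hh : ZMod m := ((m / 2 : ℕ) : ZMod m)

theorem hh_add_hh (h2 : 2 ∣ m) : hh m + hh m = 0 := by
  unfold hh
  rw [← Nat.cast_add]
  have : m / 2 + m / 2 = m := by omega
  rw [this, ZMod.natCast_self]

theorem neg_hh (h2 : 2 ∣ m) : -hh m = hh m := neg_eq_of_add_eq_zero_left (hh_add_hh h2)

theorem hh_ne_zero [NeZero m] (h2 : 2 ∣ m) : hh m ≠ 0 := by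
  unfold hh
  rw [Ne, ZMod.natCast_eq_zero_iff]
  intro h
  have hpos : 0 < m := Nat.pos_of_ne_zero (NeZero.ne m)
  have h1 : 0 < m / 2 := by omega
  have := Nat.le_of_dvd h1 h
  omega

theorem eq_of_add_self [NeZero m] (h2 : 2 ∣ m) (j : ZMod m) (hj : j + j = 0) : j = 0 ∨ j = hh m := by
  have h1 : ((j.val + j.val : ℕ) : ZMod m) = 0 := by
    push_cast
    rw [ZMod.natCast_zmod_val]
    exact hj
  rw [ZMod.natCast_eq_zero_iff] at h1
  have hlt := ZMod.val_lt j
  obtain ⟨c, hc⟩ := h1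
  have hc01 : c = 0 ∨ c = 1 := by
    rcases c with _ | _ | c
    · left; rfl
    · right; rfl
    · exfalso; nlinarith
  rcases hc01 with rfl | rfl
  · left
    have : j.val = 0 := by omega
    exact (ZMod.val_eq_zero j).mp this
  · right
    unfold hh
    have : j.val = m / 2 := by omega
    rw [← this, ZMod.natCast_zmod_val]

/-- parity -/
def par (h2 : 2 ∣ m) : ZMod m →+* ZMod 2 := ZMod.castHom h2 (ZMod 2)

theorem par_hh (h4 : 4 ∣ m) : par (Dvd.dvd.trans (by norm_num) h4) (hh m) = 0 := by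
  unfold hh par
  rw [map_natCast, ZMod.natCast_eq_zero_iff]
  omega

theorem exists_half [NeZero m] (h2 : 2 ∣ m) (k : ZMod m) (hk : par h2 k = 0) : ∃ j, k = j + j := by
  have h1 : ((k.val : ℕ) : ZMod 2) = 0 := by
    rw [← map_natCast (par h2), ZMod.natCast_zmod_val]
    exact hk
  rw [ZMod.natCast_eq_zero_iff] at h1
  obtain ⟨t, ht⟩ := h1
  refine ⟨(t : ZMod m), ?_⟩
  rw [← Nat.cast_add, ← two_mul, ← ht, ZMod.natCast_zmod_val]

end arith

section four

theorem ncard_pair_le' {α : Type*} (a b : α) : ({a, b} : Set α).ncard ≤ 2 := by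
  refine (Set.ncard_insert_le _ _).trans ?_
  rw [Set.ncard_singleton]

/-- a four-subgroup of `S` -/
structure Four (S V : Subgroup X) : Prop where
  le : V ≤ S
  card : Nat.card ↥V = 4
  exp : ∀ v ∈ V, v * v = 1

variable [NeZero m]

theorem rot_mem (h2 : 2 ∣ m) {V : Subgroup X} (hV : Four S V) {j : ZMod m} (hj : ρ e j ∈ V) :
    j = 0 ∨ j = hh m := by
  apply eq_of_add_self h2
  have := hV.exp _ hj
  rw [ρ_mul_ρ, ← ρ_zero e] at this
  exact ρ_inj e this

theorem refl_mem (h2 : 2 ∣ m) {V : Subgroup X} (hV : Four S V) {i j : ZMod m} (hi : σ e i ∈ V)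
    (hj : σ e j ∈ V) : j = i ∨ j = i + hh m := by
  have h1 : ρ e (j - i) ∈ V := by
    rw [← σ_mul_σ]; exact V.mul_mem hi hj
  rcases rot_mem e h2 hV h1 with h | h
  · left; exact sub_eq_zero.mp h
  · right; rw [← h]; ring

theorem exists_refl (h2 : 2 ∣ m) {V : Subgroup X} (hV : Four S V) : ∃ i, σ e i ∈ V := by
  by_contra hcon
  have hsub : (V : Set X) ⊆ {ρ e 0, ρ e (hh m)} := by
    intro v hv
    rcases cases_mem e (hV.le hv) with ⟨j, rfl⟩ | ⟨j, rfl⟩
    · rcases rot_mem e h2 hV hv with h | h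
      · left; rw [h]
      · right; rw [h]; rfl
    · exact absurd ⟨j, hv⟩ hcon
  have h1 : (V : Set X).ncard ≤ 2 :=
    (Set.ncard_le_ncard hsub (Set.toFinite _)).trans (ncard_pair_le' _ _)
  have h2 : (V : Set X).ncard = 4 := hV.card
  omega

theorem coe_eq (h2 : 2 ∣ m) {V : Subgroup X} (hV : Four S V) {i : ZMod m} (hi : σ e i ∈ V) :
    (V : Set X) = {1, ρ e (hh m), σ e i, σ e (i + hh m)} := by
  apply Set.eq_of_subset_of_ncard_le
  · intro v hv
    rcases cases_mem e (hV.le hv) with ⟨j, rfl⟩ | ⟨j, rfl⟩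
    · rcases rot_mem e h2 hV hv with h | h
      · left; rw [h, ρ_zero]
      · right; left; rw [h]
    · rcases refl_mem e h2 hV hi hv with h | h
      · right; right; left; rw [h]
      · right; right; right; rw [h]; rfl
  · have h1 : (V : Set X).ncard = 4 := hV.card
    rw [h1]
    refine (Set.ncard_insert_le _ _).trans ?_
    refine Nat.succ_le_succ ((Set.ncard_insert_le _ _).trans ?_)
    exact Nat.succ_le_succ (ncard_pair_le' _ _)
  · exact Set.toFinite _

theorem eq_of_refl (h2 : 2 ∣ m) {V V' : Subgroup X} (hV : Four S V) (hV' : Four S V') {i : ZMod m}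
    (hi : σ e i ∈ V) (hi' : σ e i ∈ V') : V = V' := by
  apply SetLike.coe_injective
  rw [coe_eq e h2 hV hi, coe_eq e h2 hV' hi']

theorem exists_four (h2 : 2 ∣ m) (i : ZMod m) :
    ∃ U : Subgroup X, IsKleinFour ↥U ∧ Four S U ∧ σ e i ∈ U := by
  have hx : ρ e (hh m) * ρ e (hh m) = 1 := by rw [ρ_mul_ρ, hh_add_hh h2, ρ_zero]
  have hy : σ e i * σ e i = 1 := by rw [σ_mul_σ, sub_self, ρ_zero]
  have hc : ρ e (hh m) * σ e i = σ e i * ρ e (hh m) := by
    rw [ρ_mul_σ, σ_mul_ρ, sub_eq_add_neg, neg_hh h2]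
  have hx1 : ρ e (hh m) ≠ 1 := by
    rw [← ρ_zero e]
    intro h
    exact hh_ne_zero h2 (ρ_inj e h)
  have hy1 : σ e i ≠ 1 := by
    rw [← ρ_zero e]
    exact (ρ_ne_σ e 0 i).symm
  obtain ⟨V, hVK, hxV, hyV, hVel⟩ :=
    KleinFour.exists_kleinFour hx hy hc hx1 hy1 (ρ_ne_σ e _ _)
  refine ⟨V, hVK, ⟨?_, IsKleinFour.card_four, fun v hv => KleinFour.KleinFourSub.sq_eq_one hVK hv⟩, hyV⟩
  intro v hv
  rcases hVel v hv with rfl | rfl | rfl | rfl
  · exact S.one_mem
  · exact ρ_mem e _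
  · exact σ_mem e _
  · exact S.mul_mem (ρ_mem e _) (σ_mem e _)

theorem four_cj {V : Subgroup X} (hV : Four S V) {s : X} (hs : s ∈ S) : Four S (cj s V) := by
  refine ⟨?_, by rw [card_cj]; exact hV.card, ?_⟩
  · intro y hy
    rw [mem_map_conj] at hy
    have hy' := hV.le hy
    have e1 : y = s * (s⁻¹ * y * s) * s⁻¹ := by group
    rw [e1]
    exact S.mul_mem (S.mul_mem hs hy') (S.inv_mem hs)
  · intro y hy
    rw [mem_map_conj] at hy
    have := hV.exp _ hy
    have e1 : y * y = s * ((s⁻¹ * y * s) * (s⁻¹ * y * s)) * s⁻¹ := by group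
    rw [e1, this]
    group

theorem conj_of_par_eq (h2 : 2 ∣ m) {V V' : Subgroup X} (hV : Four S V) (hV' : Four S V')
    {i i' : ZMod m} (hi : σ e i ∈ V) (hi' : σ e i' ∈ V') (hp : par h2 i = par h2 i') :
    ∃ s ∈ S, cj s V = V' := by
  have hk : par h2 (i - i') = 0 := by rw [map_sub, hp, sub_self]
  obtain ⟨j, hj⟩ := exists_half h2 (i - i') hk
  refine ⟨ρ e j, ρ_mem e j, ?_⟩
  apply eq_of_refl e h2 (four_cj hV (ρ_mem e j)) hV' (i := i') _ hi'
  rw [mem_map_conj, ρ_inv, ρ_mul_σ, σ_mul_ρ]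
  have : i' - -j + j = i := by
    have : i = i' + (j + j) := by rw [← hj]; ring
    rw [this]; ring
  rw [this]
  exact hi

theorem par_eq_of_conj (h4 : 4 ∣ m) {V V' : Subgroup X} (hV : Four S V) (hV' : Four S V')
    {i i' : ZMod m} (hi : σ e i ∈ V) (hi' : σ e i' ∈ V') {s : X} (hs : s ∈ S)
    (hc : cj s V = V') :
    par (Dvd.dvd.trans (by norm_num) h4) i = par (Dvd.dvd.trans (by norm_num) h4) i' := by
  have h2 : 2 ∣ m := Dvd.dvd.trans (by norm_num) h4
  have hmem : s * σ e i * s⁻¹ ∈ V' := by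
    rw [← hc, mem_map_conj]
    have e1 : s⁻¹ * (s * σ e i * s⁻¹) * s = σ e i := by group
    rw [e1]; exact hi
  have key : ∀ k : ZMod m, σ e k ∈ V' → par h2 k = par h2 i' := by
    intro k hk
    rcases refl_mem e h2 hV' hi' hk with h | h
    · rw [h]
    · rw [h, map_add, par_hh h4, add_zero]
  rcases cases_mem e hs with ⟨j, rfl⟩ | ⟨j, rfl⟩
  · rw [ρ_inv, ρ_mul_σ, σ_mul_ρ] at hmem
    have := key _ hmem
    rw [← this, map_add, map_sub, map_neg]
    have h5 : par h2 j + par h2 j = 0 := CharTwo.add_self_eq_zero _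
    have h6 : par h2 i - par h2 j + -par h2 j = par h2 i - (par h2 j + par h2 j) := by ring
    rw [h6, h5, sub_zero]
  · rw [σ_inv, σ_mul_σ, ρ_mul_σ] at hmem
    have := key _ hmem
    rw [← this, map_sub, map_sub]
    have h5 : par h2 j + par h2 j = 0 := CharTwo.add_self_eq_zero _
    have h6 : par h2 j - (par h2 i - par h2 j) = (par h2 j + par h2 j) - par h2 i := by ring
    rw [h6, h5, zero_sub, CharTwo.neg_eq]

end four

end Cfsg.Agent.H2.DihFourClasses
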