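import Mathlib
import Cfsg.Agent.Lib.Lead.AlperinGoldschmidt
import Cfsg.Agent.Lib.Lead.DihShape

/-!
# Fusion of four-groups in a dihedral Sylow 2-subgroup

If the Sylow `2`-subgroup `S` of `X` has dihedral shape and is not a four-group, then the
centric radical subgroups of `S` are `S` and (some) four-groups, `N_X(S) = S C_X(S)`, and two
four-subgroups of `S` conjugate in `X` are conjugate in `S`.
-/

set_option autoImplicit false
set_option linter.unusedSectionVars false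
set_option linter.unusedVariables false

namespace Cfsg.Agent.H2.DihFourFusion

open Cfsg Cfsg.Agent.Lib.Lead Cfsg.Agent.Lib.Lead.Conj Cfsg.Agent.Lib.Lead.ConjFamily
  Cfsg.Agent.Lib.Lead.AlperinGoldschmidt Cfsg.Agent.Lib.Lead.DihShape Cfsg.Agent.S1963
  Cfsg.Agent.S1959

universe u
variable {X : Type u} [Group X] [Finite X]

/-- the odd part of an element: `k ^ 2 ^ j` has odd order for suitable `j`. -/
theorem exists_pow_odd (k : X) : ∃ j : ℕ, Nat.Coprime (orderOf (k ^ 2 ^ j)) 2 := by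
  have hpos : 0 < orderOf k := orderOf_pos k
  obtain ⟨j, q, hq, hkq⟩ := Nat.exists_eq_two_pow_mul_odd (n := orderOf k) hpos.ne'
  refine ⟨j, ?_⟩
  have h1 : orderOf (k ^ 2 ^ j) = q := by
    rw [orderOf_pow' k (pow_ne_zero j (by norm_num : (2 : ℕ) ≠ 0)), hkq]
    have : Nat.gcd (2 ^ j * q) (2 ^ j) = 2 ^ j := Nat.gcd_eq_right (Dvd.intro _ rfl)
    rw [this, Nat.mul_div_cancel_left _ (pow_pos (by norm_num) j)]
  rw [h1]
  exact (Nat.coprime_two_right.mpr hq)

/-- A centric radical subgroup of a Sylow `2`-subgroup of dihedral shape is the whole Sylow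
subgroup or a four-group. -/
theorem cr_cases (S : Sylow 2 X) {R₀ : Subgroup X} (hshape : Shape (S : Subgroup X) R₀)
    (T : Subgroup X) (hT : CR S T) :
    T = (S : Subgroup X) ∨ (Nat.card ↥T = 4 ∧ ∀ q ∈ T, q * q = 1) := by
  have _ : Fact (Nat.Prime 2) := ⟨Nat.prime_two⟩
  by_cases h4 : Nat.card ↥T = 4 ∧ ∀ q ∈ T, q * q = 1
  · exact Or.inr h4
  left
  have hTS : T ≤ (S : Subgroup X) := hT.1.1
  have hcent : ∀ g ∈ Subgroup.normalizer (T : Set X), Nat.Coprime (orderOf g) 2 →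
      g ∈ Subgroup.centralizer (T : Set X) := fun g hg hodd =>
    (DihShape.main hshape S.2 T hTS g hg hodd).resolve_right h4
  have hP : PModC 2 T (Subgroup.normalizer (T : Set X)) := by
    refine ⟨le_rfl, ?_, ?_⟩
    · intro n hn
      rw [cj_normalizer]
      have : cj n T = T := Subgroup.mem_normalizer_iff_map_conj_eq.mp hn
      rw [this]
    · intro k hk
      obtain ⟨j, hj⟩ := exists_pow_odd k
      exact ⟨j, hcent _ (Subgroup.pow_mem _ hk _) hj⟩
  have h1 := hT.2 _ hP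
  by_contra hne
  have h2 := Cfsg.Agent.S1965.exists_mem_normalizer_not_mem S hTS hne
  exact absurd (lt_of_lt_of_le h2 h1) (lt_irrefl _)

/-- `N_X(S) = S C_X(S)` for a Sylow `2`-subgroup of dihedral shape which is not a four-group. -/
theorem normalizer_decomp (S : Sylow 2 X) {R₀ : Subgroup X} (hshape : Shape (S : Subgroup X) R₀)
    (hS4 : ¬ (Nat.card ↥(S : Subgroup X) = 4 ∧ ∀ q ∈ (S : Subgroup X), q * q = 1))
    (x : X) (hx : x ∈ Subgroup.normalizer ((S : Subgroup X) : Set X)) :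
    ∃ s ∈ (S : Subgroup X), ∃ c ∈ Subgroup.centralizer ((S : Subgroup X) : Set X), x = s * c := by
  have _ : Fact (Nat.Prime 2) := ⟨Nat.prime_two⟩
  have hpos : 0 < orderOf x := orderOf_pos x
  obtain ⟨j, q, hq, hkq⟩ := Nat.exists_eq_two_pow_mul_odd (n := orderOf x) hpos.ne'
  have hcop : Nat.Coprime (2 ^ j) q := Nat.Coprime.pow_left _ (Nat.coprime_two_left.mpr hq)
  have hbez := Nat.gcd_eq_gcd_ab (2 ^ j) q
  rw [hcop.gcd_eq_one, Nat.cast_one] at hbez
  set A := Nat.gcdA (2 ^ j) q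
  set B := Nat.gcdB (2 ^ j) q
  -- odd part
  have hy1 : orderOf (x ^ 2 ^ j) = q := by
    rw [orderOf_pow' x (pow_ne_zero j (by norm_num : (2 : ℕ) ≠ 0)), hkq]
    have : Nat.gcd (2 ^ j * q) (2 ^ j) = 2 ^ j := Nat.gcd_eq_right (Dvd.intro _ rfl)
    rw [this, Nat.mul_div_cancel_left _ (pow_pos (by norm_num) j)]
  have hyc : x ^ 2 ^ j ∈ Subgroup.centralizer ((S : Subgroup X) : Set X) := by
    have := DihShape.main hshape S.2 (S : Subgroup X) le_rfl (x ^ 2 ^ j) (Subgroup.pow_mem _ hx _)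
      (by rw [hy1]; exact Nat.coprime_two_right.mpr hq)
    exact this.resolve_right hS4
  -- 2-part
  have htS : x ^ q ∈ (S : Subgroup X) := by
    have hpow : (x ^ q) ^ 2 ^ j = 1 := by
      rw [← pow_mul, mul_comm, ← hkq, pow_orderOf_eq_one]
    have hP : IsPGroup 2 ↥(Subgroup.zpowers (x ^ q)) := by
      obtain ⟨i, -, hi⟩ := (Nat.dvd_prime_pow Nat.prime_two).mp (orderOf_dvd_of_pow_eq_one hpow)
      apply IsPGroup.of_card (n := i)
      rw [Nat.card_zpowers, hi]
    have h1 := hP.inf_normalizer_sylow S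
    have h2 : x ^ q ∈ Subgroup.zpowers (x ^ q) ⊓ Subgroup.normalizer ((S : Subgroup X) : Set X) :=
      ⟨Subgroup.mem_zpowers _, Subgroup.pow_mem _ hx _⟩
    have h3 : x ^ q ∈ Subgroup.zpowers (x ^ q) ⊓ (S : Subgroup X) := by
      rw [← h1]; exact h2
    exact h3.2
  refine ⟨(x ^ q) ^ B, Subgroup.zpow_mem _ htS _, (x ^ 2 ^ j) ^ A, Subgroup.zpow_mem _ hyc _, ?_⟩
  have e : (x ^ q) ^ B * (x ^ 2 ^ j) ^ A = x := by
    rw [← zpow_natCast x q, ← zpow_natCast x (2 ^ j), ← zpow_mul, ← zpow_mul, ← zpow_add]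
    have h5 : (q : ℤ) * B + ((2 ^ j : ℕ) : ℤ) * A = 1 := by rw [hbez]; ring
    rw [h5, zpow_one]
  rw [e]

/-- a chain of normalizers of centric radical subgroups acts on a four-subgroup of `S` like an
element of `S`. -/
theorem chain_four (S : Sylow 2 X) {R₀ : Subgroup X} (hshape : Shape (S : Subgroup X) R₀)
    (hS4 : ¬ (Nat.card ↥(S : Subgroup X) = 4 ∧ ∀ q ∈ (S : Subgroup X), q * q = 1)) :
    ∀ (l : List (Subgroup X × X)) (V : Subgroup X), V ≤ (S : Subgroup X) → Nat.card ↥V = 4 →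
      DecL {U | CR S U} l (V : Set X) →
      ∃ s ∈ (S : Subgroup X), rc (prodL l) (V : Set X) = rc s (V : Set X) := by
  intro l
  induction l with
  | nil =>
    intro V _ _ _
    exact ⟨1, Subgroup.one_mem _, by rw [prodL_nil]⟩
  | cons a l ih =>
    obtain ⟨T, x⟩ := a
    rintro V hVS hV4 ⟨hT, hx, hVT, hdec⟩
    have hstep : ∃ s₁ ∈ (S : Subgroup X), rc x (V : Set X) = rc s₁ (V : Set X) := by
      rcases cr_cases S hshape T hT with hTS | ⟨hT4, -⟩
      · rw [hTS] at hx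
        obtain ⟨s, hs, c, hc, hxsc⟩ := normalizer_decomp S hshape hS4 x hx
        refine ⟨s, hs, ?_⟩
        rw [hxsc, rc_mul]
        apply rc_centralizer
        refine Subgroup.centralizer_le ?_ hc
        intro y hy
        rw [mem_rc] at hy
        have hy' := hVS hy
        have e : y = s⁻¹ * (s * y * s⁻¹) * s := by group
        rw [e]
        exact Subgroup.mul_mem _ (Subgroup.mul_mem _ (Subgroup.inv_mem _ hs) hy') hs
      · have hVT' : V = T := Subgroup.eq_of_le_of_card_ge hVT (by rw [hT4, hV4])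
        refine ⟨1, Subgroup.one_mem _, ?_⟩
        rw [rc_one, hVT', rc_normalizer hx]
    obtain ⟨s₁, hs₁, he₁⟩ := hstep
    have hcoe : rc s₁ (V : Set X) = ((cj s₁⁻¹ V : Subgroup X) : Set X) := rc_coe s₁ V
    have hV'S : cj s₁⁻¹ V ≤ (S : Subgroup X) := by
      intro y hy
      rw [mem_map_conj, inv_inv] at hy
      have hy' := hVS hy
      have e : y = s₁⁻¹ * (s₁ * y * s₁⁻¹) * s₁ := by group
      rw [e]
      exact Subgroup.mul_mem _ (Subgroup.mul_mem _ (Subgroup.inv_mem _ hs₁) hy') hs₁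
    have hV'4 : Nat.card ↥(cj s₁⁻¹ V) = 4 := by rw [card_cj, hV4]
    rw [he₁, hcoe] at hdec
    obtain ⟨s₂, hs₂, he₂⟩ := ih (cj s₁⁻¹ V) hV'S hV'4 hdec
    refine ⟨s₁ * s₂, Subgroup.mul_mem _ hs₁ hs₂, ?_⟩
    rw [prodL_cons, rc_mul, he₁, hcoe, he₂, ← hcoe, ← rc_mul]

/-- **Fusion of four-groups**: two four-subgroups of a dihedral-shaped Sylow `2`-subgroup `S`
(not itself a four-group) which are conjugate in `X` are conjugate in `S`. -/
theorem fusion_four (S : Sylow 2 X) {R₀ : Subgroup X} (hshape : Shape (S : Subgroup X) R₀)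
    (hS4 : ¬ (Nat.card ↥(S : Subgroup X) = 4 ∧ ∀ q ∈ (S : Subgroup X), q * q = 1))
    (V : Subgroup X) (hVS : V ≤ (S : Subgroup X)) (hV4 : Nat.card ↥V = 4) (g : X)
    (hg : cj g V ≤ (S : Subgroup X)) : ∃ s ∈ (S : Subgroup X), cj g V = cj s V := by
  have _ : Fact (Nat.Prime 2) := ⟨Nat.prime_two⟩
  have hrc : rc g⁻¹ (V : Set X) ⊆ ((S : Subgroup X) : Set X) := by
    rw [rc_coe, inv_inv]
    exact hg
  obtain ⟨c, hc, l, hgl, hdec⟩ := alperin_goldschmidt S (V : Set X) g⁻¹ hVS hrc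
  obtain ⟨s, hs, hes⟩ := chain_four S hshape hS4 l V hVS hV4 hdec
  refine ⟨s⁻¹, Subgroup.inv_mem _ hs, ?_⟩
  apply SetLike.coe_injective
  have h1 : rc g⁻¹ (V : Set X) = rc s (V : Set X) := by
    rw [hgl, rc_mul, rc_centralizer hc, hes]
  rw [rc_coe, rc_coe, inv_inv] at h1
  exact h1

end Cfsg.Agent.H2.DihFourFusion
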