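import Mathlib

/-! Sign-of-coset-action argument (helper2): an element of order `2^a` acting semiregularly on
`G ⧸ M` with `|G : M| = 2^a * odd` is an odd permutation, hence lies outside a normal subgroup of
index 2. -/

set_option autoImplicit false

namespace Cfsg.Agent.H2.SignTransfer

/-- A permutation `σ` with `σ^(2^a) = 1`, `σ^(2^(a-1))` fixed-point-free, on a set with
`2^a * m` points (`m` odd) is odd. -/
theorem sign_eq_neg_one {X : Type*} [Fintype X] [DecidableEq X] (σ : Equiv.Perm X) (a m : ℕ)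
    (ha : 1 ≤ a) (hpow : σ ^ (2 ^ a) = 1) (hfpf : ∀ y, (σ ^ (2 ^ (a - 1))) y ≠ y)
    (hcard : Fintype.card X = 2 ^ a * m) (hm : Odd m) :
    Equiv.Perm.sign σ = -1 := by
  have hall : ∀ n ∈ σ.cycleType, n = 2 ^ a := by
    intro n hn
    have h1 : n ∣ 2 ^ a :=
      (Equiv.Perm.dvd_of_mem_cycleType hn).trans (orderOf_dvd_of_pow_eq_one hpow)
    obtain ⟨i, hi, rfl⟩ := (Nat.dvd_prime_pow Nat.prime_two).1 h1
    rcases Nat.lt_or_ge i a with hlt | hge
    · exfalso
      obtain ⟨c, τ, hστ, hdisj, hc, hcs⟩ := Equiv.Perm.mem_cycleType_iff.1 hn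
      obtain ⟨y, hy⟩ := hc.nonempty_support
      have hτy : τ y = y := by
        rcases hdisj y with h | h
        · exact absurd h (Equiv.Perm.mem_support.1 hy)
        · exact h
      have hck : c ^ (2 ^ (a - 1)) = 1 := by
        rw [← orderOf_dvd_iff_pow_eq_one, hc.orderOf, hcs]
        exact pow_dvd_pow 2 (by omega)
      apply hfpf y
      rw [hστ, hdisj.commute.mul_pow, hck, one_mul]
      exact Equiv.Perm.pow_apply_eq_self_of_apply_eq_self hτy _
    · rw [le_antisymm hi hge]
  have hrep : σ.cycleType = Multiset.replicate (Multiset.card σ.cycleType) (2 ^ a) :=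
    Multiset.eq_replicate_card.2 hall
  have hsupp : σ.support = Finset.univ := by
    rw [Finset.eq_univ_iff_forall]
    intro y
    rw [Equiv.Perm.mem_support]
    intro hy
    exact hfpf y (Equiv.Perm.pow_apply_eq_self_of_apply_eq_self hy _)
  have hsum : Multiset.card σ.cycleType * 2 ^ a = 2 ^ a * m := by
    have h := σ.sum_cycleType
    rw [hsupp, Finset.card_univ, hcard, hrep, Multiset.sum_replicate, smul_eq_mul] at h
    exact h
  have hk : Multiset.card σ.cycleType = m := by
    rw [mul_comm] at hsum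
    exact Nat.eq_of_mul_eq_mul_left (by positivity) hsum
  rw [Equiv.Perm.sign_of_cycleType, hrep, hk, Multiset.sum_replicate, Multiset.card_replicate,
    smul_eq_mul]
  have h2a : Even (m * 2 ^ a) := by
    apply Even.mul_left
    rw [Nat.even_pow]; exact ⟨even_two, by omega⟩
  rw [pow_add, h2a.neg_one_pow, hm.neg_one_pow, one_mul]

/-- The sign argument: `x` of order dividing `2^a`, `x^(2^(a-1))` not conjugate into `M`,
`|G : M| = 2^a * odd`. Then some normal subgroup of index 2 misses `x`. -/
theorem exists_index_two {G : Type*} [Group G] [Finite G] (M : Subgroup G) (x : G) (a m : ℕ)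
    (ha : 1 ≤ a) (hx : x ^ (2 ^ a) = 1) (hcon : ∀ g : G, g * x ^ (2 ^ (a - 1)) * g⁻¹ ∉ M)
    (hidx : M.index = 2 ^ a * m) (hm : Odd m) :
    ∃ N : Subgroup G, N.Normal ∧ N.index = 2 ∧ x ∉ N := by
  classical
  have : Fintype (G ⧸ M) := Fintype.ofFinite _
  let φ : G →* ℤˣ := Equiv.Perm.sign.comp (MulAction.toPermHom G (G ⧸ M))
  have hφx : φ x = -1 := by
    show Equiv.Perm.sign (MulAction.toPermHom G (G ⧸ M) x) = -1
    apply sign_eq_neg_one _ a m ha
    · rw [← map_pow, hx, map_one]
    · intro y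
      induction y using QuotientGroup.induction_on with
      | H g =>
        rw [← map_pow]
        show (x ^ 2 ^ (a - 1)) • (g : G ⧸ M) ≠ g
        intro h
        rw [MulAction.Quotient.smul_mk, QuotientGroup.eq] at h
        apply hcon g⁻¹
        have h' := M.inv_mem h
        have e : ((x ^ 2 ^ (a - 1) • g)⁻¹ * g)⁻¹ = g⁻¹ * x ^ 2 ^ (a - 1) * g⁻¹⁻¹ := by
          simp only [smul_eq_mul]; group
        rw [e] at h'
        exact h'
    · rw [← Nat.card_eq_fintype_card]; exact hidx
    · exact hm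
  refine ⟨φ.ker, inferInstance, ?_, ?_⟩
  · rw [Subgroup.index_eq_two_iff]
    refine ⟨x, fun b => ?_⟩
    rw [MonoidHom.mem_ker, MonoidHom.mem_ker, map_mul, hφx]
    rcases Int.units_eq_one_or (φ b) with h | h <;> rw [h] <;> simp
  · rw [MonoidHom.mem_ker, hφx]
    decide

end Cfsg.Agent.H2.SignTransfer
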