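import Mathlib
import Cfsg.Prelude.Def_Transfer
import Cfsg.Agent.H1.Card
import Cfsg.Agent.H2.SignTransfer

/-! Pieces for the "Thompson transfer with dihedral complement" lemma (helper2). -/

set_option autoImplicit false

namespace Cfsg.Agent.H2.DihedralTransfer

/-- the rotation subgroup of a dihedral group -/
def rot (n : ℕ) : Subgroup (DihedralGroup n) where
  carrier := {d | ∃ j, d = DihedralGroup.r j}
  one_mem' := ⟨0, DihedralGroup.one_def⟩
  mul_mem' := by
    rintro _ _ ⟨a, rfl⟩ ⟨b, rfl⟩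
    exact ⟨a + b, DihedralGroup.r_mul_r a b⟩
  inv_mem' := by
    rintro _ ⟨a, rfl⟩
    exact ⟨-a, rfl⟩

theorem mem_rot {n : ℕ} (d : DihedralGroup n) : d ∈ rot n ↔ ∃ j, d = DihedralGroup.r j := Iff.rfl

/-- In a dihedral group `D` with a cyclic subgroup `C` of index 2, every element outside `C` is an
involution. -/
theorem orderOf_eq_two_of_not_mem {G : Type*} [Group G] (D C : Subgroup G)
    (hDih : ∃ n : ℕ, 2 ≤ n ∧ Nonempty (↥D ≃* DihedralGroup n)) (hCD : C ≤ D) (hC : IsCyclic ↥C)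
    (hCi : C.relIndex D = 2) (x : G) (hxD : x ∈ D) (hxC : x ∉ C) : orderOf x = 2 := by
  obtain ⟨n, hn, ⟨e⟩⟩ := hDih
  obtain ⟨g, hg⟩ := hC.exists_generator
  have hidx : (C.subgroupOf D).index = 2 := hCi
  have hx'C : (⟨x, hxD⟩ : ↥D) ∉ C.subgroupOf D := fun h => hxC (Subgroup.mem_subgroupOf.1 h)
  have hgen : ∀ c : ↥D, c ∈ C.subgroupOf D → c ∈ Subgroup.zpowers (⟨g, hCD g.2⟩ : ↥D) := by
    intro c hc
    obtain ⟨m, hm⟩ := Subgroup.mem_zpowers_iff.1 (hg ⟨c, Subgroup.mem_subgroupOf.1 hc⟩)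
    refine Subgroup.mem_zpowers_iff.2 ⟨m, ?_⟩
    apply Subtype.ext
    have := congrArg (fun t : ↥C => (t : G)) hm
    simpa using this
  have hord : orderOf x = orderOf (e ⟨x, hxD⟩) := by
    rw [MulEquiv.orderOf_eq, Subgroup.orderOf_mk]
  have hx1 : e ⟨x, hxD⟩ ≠ 1 := by
    intro h
    have : (⟨x, hxD⟩ : ↥D) = 1 := by
      apply e.injective; rw [h, map_one]
    apply hxC
    have hx : x = 1 := congrArg Subtype.val this
    rw [hx]; exact C.one_mem
  rw [hord]
  cases hex : e ⟨x, hxD⟩ with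
  | sr i => exact DihedralGroup.orderOf_sr i
  | r i =>
    rw [hex] at hx1
    cases heg : e ⟨g, hCD g.2⟩ with
    | r k =>
      exfalso
      have hCrot : ∀ c : ↥D, c ∈ C.subgroupOf D → e c ∈ rot n := by
        intro c hc
        have h1 := hgen c hc
        have h2 : Subgroup.zpowers (⟨g, hCD g.2⟩ : ↥D) ≤ (rot n).comap e.toMonoidHom := by
          rw [Subgroup.zpowers_le]
          show e ⟨g, hCD g.2⟩ ∈ rot n
          rw [heg]; exact ⟨k, rfl⟩
        exact h2 h1
      have hy : e.symm (DihedralGroup.sr 0) ∉ C.subgroupOf D := by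
        intro h
        obtain ⟨j, hj⟩ := hCrot _ h
        rw [MulEquiv.apply_symm_apply] at hj
        exact absurd hj (by simp)
      have hxy : (⟨x, hxD⟩ : ↥D) * e.symm (DihedralGroup.sr 0) ∈ C.subgroupOf D := by
        rw [Subgroup.mul_mem_iff_of_index_two hidx]
        exact ⟨fun h => absurd h hx'C, fun h => absurd h hy⟩
      obtain ⟨j, hj⟩ := hCrot _ hxy
      rw [map_mul, hex, MulEquiv.apply_symm_apply, DihedralGroup.r_mul_sr] at hj
      exact absurd hj (by simp)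
    | sr k =>
      have hsq : (⟨x, hxD⟩ : ↥D) * ⟨x, hxD⟩ ∈ C.subgroupOf D := by
        rw [Subgroup.mul_mem_iff_of_index_two hidx]
      obtain ⟨m, hm⟩ := Subgroup.mem_zpowers_iff.1 (hgen _ hsq)
      have hm' : (DihedralGroup.sr k : DihedralGroup n) ^ m = DihedralGroup.r (i + i) := by
        rw [← heg, ← map_zpow, hm, map_mul, hex, DihedralGroup.r_mul_r]
      have hpow : (DihedralGroup.r i : DihedralGroup n) ^ 2 = 1 := by
        rw [pow_two, DihedralGroup.r_mul_r, ← hm']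
        rw [← zpow_mod_orderOf, DihedralGroup.orderOf_sr] at hm' ⊢
        rcases Int.emod_two_eq_zero_or_one m with h | h
        · rw [Nat.cast_ofNat, h, zpow_zero]
        · exfalso
          rw [Nat.cast_ofNat, h, zpow_one] at hm'
          exact absurd hm' (by simp)
      exact orderOf_eq_prime hpow hx1

/-- the product map `A × B → M` is injective when `A ⊓ B = ⊥` -/
theorem prod_injective {G : Type*} [Group G] (A B M : Subgroup G) (hA : A ≤ M) (hB : B ≤ M)
    (hAB : A ⊓ B = ⊥) :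
    Function.Injective (fun p : ↥A × ↥B => (⟨p.1 * p.2, M.mul_mem (hA p.1.2) (hB p.2.2)⟩ : ↥M)) := by
  rintro ⟨t, d⟩ ⟨t', d'⟩ h
  have h' : (t : G) * d = t' * d' := congrArg Subtype.val h
  have h1 : (t' : G)⁻¹ * t = d' * (d : G)⁻¹ := by
    rw [inv_mul_eq_iff_eq_mul, ← mul_assoc, ← h']; group
  have h2 : (d' : G) * (d : G)⁻¹ ∈ A ⊓ B :=
    ⟨h1 ▸ A.mul_mem (A.inv_mem t'.2) t.2, B.mul_mem d'.2 (B.inv_mem d.2)⟩
  rw [hAB, Subgroup.mem_bot, mul_inv_eq_one] at h2
  have ht : (t : G) = t' := by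
    rw [h2] at h'; exact mul_right_cancel h'
  exact Prod.ext (Subtype.ext ht) (Subtype.ext h2.symm)

theorem card_mul_le {G : Type*} [Group G] [Finite G] (A B M : Subgroup G) (hA : A ≤ M) (hB : B ≤ M)
    (hAB : A ⊓ B = ⊥) : Nat.card A * Nat.card B ≤ Nat.card M := by
  rw [← Nat.card_prod]
  exact Nat.card_le_card_of_injective _ (prod_injective A B M hA hB hAB)

theorem exists_mul_of_card {G : Type*} [Group G] [Finite G] (A B M : Subgroup G) (hA : A ≤ M)
    (hB : B ≤ M) (hAB : A ⊓ B = ⊥) (hcard : Nat.card A * Nat.card B = Nat.card M) :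
    ∀ s ∈ M, ∃ a ∈ A, ∃ b ∈ B, s = a * b := by
  have hbij : Function.Bijective
      (fun p : ↥A × ↥B => (⟨p.1 * p.2, M.mul_mem (hA p.1.2) (hB p.2.2)⟩ : ↥M)) := by
    rw [Nat.bijective_iff_injective_and_card]
    exact ⟨prod_injective A B M hA hB hAB, by rw [Nat.card_prod, hcard]⟩
  intro s hs
  obtain ⟨⟨t, d⟩, h⟩ := hbij.2 ⟨s, hs⟩
  exact ⟨t, t.2, d, d.2, (congrArg Subtype.val h).symm⟩

/-- `S = T D` (exact factorisation), `T ≤ K`: then `|K : T| = |D ∩ K| |K : S ∩ K|`. -/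
theorem relIndex_eq {G : Type*} [Group G] [Finite G] (T D S K : Subgroup G) (hTS : T ≤ S)
    (hDS : D ≤ S) (hDT : D ⊓ T = ⊥) (hcard : Nat.card T * Nat.card D = Nat.card S) (hTK : T ≤ K) :
    T.relIndex K = Nat.card ↥(D ⊓ K) * S.relIndex K := by
  have hTD : T ⊓ D = ⊥ := by rw [inf_comm]; exact hDT
  have hTS' : T ≤ S ⊓ K := le_inf hTS hTK
  have hDS' : D ⊓ K ≤ S ⊓ K := inf_le_inf_right K hDS
  have hbot : T ⊓ (D ⊓ K) = ⊥ := by
    rw [eq_bot_iff, ← hTD]
    exact le_inf inf_le_left (inf_le_right.trans inf_le_left)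
  have hfac := exists_mul_of_card T D S hTS hDS hTD hcard
  have hsurj : Function.Surjective (fun p : ↥T × ↥(D ⊓ K) =>
      (⟨p.1 * p.2, (S ⊓ K).mul_mem (hTS' p.1.2) (hDS' p.2.2)⟩ : ↥(S ⊓ K))) := by
    rintro ⟨s, hs⟩
    rw [Subgroup.mem_inf] at hs
    obtain ⟨t, ht, d, hd, rfl⟩ := hfac s hs.1
    have hdK : d ∈ K := by
      have : d = t⁻¹ * (t * d) := by group
      rw [this]; exact K.mul_mem (K.inv_mem (hTK ht)) hs.2
    exact ⟨(⟨t, ht⟩, ⟨d, Subgroup.mem_inf.2 ⟨hd, hdK⟩⟩), rfl⟩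
  have hc : Nat.card ↥(S ⊓ K) = Nat.card T * Nat.card ↥(D ⊓ K) := by
    rw [← Nat.card_prod]
    exact (Nat.card_congr (Equiv.ofBijective _ ⟨prod_injective T (D ⊓ K) (S ⊓ K) hTS' hDS' hbot,
      hsurj⟩)).symm
  have h1 : T.relIndex (S ⊓ K) = Nat.card ↥(D ⊓ K) := by
    have := H1.card_eq_relIndex_mul_card hTS'
    rw [hc, mul_comm] at this
    exact (Nat.eq_of_mul_eq_mul_right Nat.card_pos this).symm
  rw [← Subgroup.relIndex_mul_relIndex T (S ⊓ K) K hTS' inf_le_right, h1,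
    Subgroup.inf_relIndex_right]

/-- a subgroup `L` with `O^p(L) = L` lies in `O^p(G)` -/
theorem le_pResidual_of_eq_top {G : Type*} [Group G] (L : Subgroup G) (p : ℕ)
    (hL : Cfsg.pResidual p ↥L = ⊤) : L ≤ Cfsg.pResidual p G := by
  have h : Cfsg.pResidual p ↥L ≤ (Cfsg.pResidual p G).comap L.subtype := by
    unfold Cfsg.pResidual
    rw [Subgroup.closure_le]
    intro g hg
    show (g : G) ∈ Subgroup.closure _
    apply Subgroup.subset_closure
    show Nat.Coprime (orderOf (g : G)) p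
    rw [Subgroup.orderOf_coe]; exact hg
  intro l hl
  have : (⟨l, hl⟩ : ↥L) ∈ Cfsg.pResidual p ↥L := by rw [hL]; trivial
  exact h this

/-- `O^2(G)` has no subgroup of index 2 -/
theorem pResidual_no_index_two {G : Type*} [Group G] (N : Subgroup ↥(Cfsg.pResidual 2 G))
    (hN : N.index = 2) : False := by
  have hgen : ∀ g : G, Nat.Coprime (orderOf g) 2 → g ∈ N.map (Cfsg.pResidual 2 G).subtype := by
    intro g hg
    have hgK : g ∈ Cfsg.pResidual 2 G := Subgroup.subset_closure hg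
    refine ⟨⟨g, hgK⟩, ?_, rfl⟩
    have hsq := Subgroup.sq_mem_of_index_two hN ⟨g, hgK⟩
    have hodd : Odd (orderOf (⟨g, hgK⟩ : ↥(Cfsg.pResidual 2 G))) := by
      rw [Subgroup.orderOf_mk]
      exact Nat.Coprime.odd_of_right hg
    obtain ⟨q, hq⟩ := hodd
    have : (⟨g, hgK⟩ : ↥(Cfsg.pResidual 2 G)) = (⟨g, hgK⟩ ^ 2) ^ (q + 1) := by
      rw [← pow_mul, show 2 * (q + 1) = (2 * q + 1) + 1 by ring, pow_succ, ← hq, pow_orderOf_eq_one,
        one_mul]
    rw [SetLike.mem_coe, this]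
    exact N.pow_mem hsq _
  have hle : Cfsg.pResidual 2 G ≤ N.map (Cfsg.pResidual 2 G).subtype := by
    have : Subgroup.closure {g : G | Nat.Coprime (orderOf g) 2} ≤
        N.map (Cfsg.pResidual 2 G).subtype := by
      rw [Subgroup.closure_le]; exact fun g hg => hgen g hg
    exact this
  have htop : N = ⊤ := by
    rw [eq_top_iff]
    intro y _
    obtain ⟨n, hn, hny⟩ := hle y.2
    have : n = y := Subtype.ext hny
    rw [← this]; exact hn
  rw [htop, Subgroup.index_top] at hN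
  exact absurd hN (by norm_num)

/-- two "Sylow" 2-subgroups of `L` have the same order -/
theorem card_eq_of_sylow {G : Type*} [Group G] [Finite G] (L T T' : Subgroup G) (hTL : T ≤ L)
    (hT'L : T' ≤ L) (hT : IsPGroup 2 T) (hT' : IsPGroup 2 T') (h : ¬ 2 ∣ T.relIndex L)
    (h' : ¬ 2 ∣ T'.relIndex L) : Nat.card T' = Nat.card T := by
  have hp2 : Fact (Nat.Prime 2) := ⟨Nat.prime_two⟩
  obtain ⟨a, ha⟩ := IsPGroup.iff_card.1 hT
  obtain ⟨b, hb⟩ := IsPGroup.iff_card.1 hT'
  have e1 := H1.card_eq_relIndex_mul_card hTL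
  have e2 := H1.card_eq_relIndex_mul_card hT'L
  rw [ha] at e1
  rw [hb] at e2
  have hc1 : Nat.Coprime (2 ^ a) (T'.relIndex L) :=
    Nat.Coprime.pow_left a ((Nat.Prime.coprime_iff_not_dvd Nat.prime_two).2 h')
  have hc2 : Nat.Coprime (2 ^ b) (T.relIndex L) :=
    Nat.Coprime.pow_left b ((Nat.Prime.coprime_iff_not_dvd Nat.prime_two).2 h)
  have d1 : 2 ^ a ∣ 2 ^ b := by
    apply hc1.dvd_of_dvd_mul_left
    rw [← e2, e1]; exact Dvd.intro_left _ rfl
  have d2 : 2 ^ b ∣ 2 ^ a := by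
    apply hc2.dvd_of_dvd_mul_left
    rw [← e1, e2]; exact Dvd.intro_left _ rfl
  rw [ha, hb]
  exact Nat.dvd_antisymm d2 d1

/-- main lemma, for any normal `K` behaving like `O^2(G)` -/
theorem main {G : Type*} [Group G] [Finite G] (L T S D C K : Subgroup G) (hKn : K.Normal)
    (hSK : S ⊔ K = ⊤) (hLK : L ≤ K)
    (hKmin : ∀ N : Subgroup G, N.Normal → N.index = 2 → K ≤ N)
    (hKperf : ∀ N : Subgroup ↥K, N.index = 2 → False)
    (hTL : T ≤ L) (hS2 : IsPGroup 2 S) (hSsyl : ¬ 2 ∣ S.index) (hTS : T ≤ S)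
    (hDS : D ≤ S) (hDih : ∃ n : ℕ, 2 ≤ n ∧ Nonempty (↥D ≃* DihedralGroup n)) (hDT : D ⊓ T = ⊥)
    (hTD : T ⊔ D = S) (hTDc : Nat.card T * Nat.card D = Nat.card S)
    (hCD : C ≤ D) (hC : IsCyclic ↥C) (hCi : C.relIndex D = 2)
    (h1 : ∀ x ∈ D, x ∉ C → orderOf x = 2 → ∀ g : G, g * x * g⁻¹ ∈ T ⊔ C → False)
    (h2 : ∀ c ∈ C, orderOf c = 2 → ∀ g : G, g * c * g⁻¹ ∈ T → False) :
    K ⊔ D = ⊤ ∧ T ≤ K ∧ ¬ 2 ∣ T.relIndex K := by
  have hp2 : Fact (Nat.Prime 2) := ⟨Nat.prime_two⟩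
  have hTK : T ≤ K := hTL.trans hLK
  have hSoddK : ¬ 2 ∣ S.relIndex K := by
    intro h
    apply hSsyl
    have := H1.relIndex_dvd_relIndex_of_normal S K ⊤ le_top
      (by rw [Subgroup.normalizer_eq_top]) 
    rw [Subgroup.relIndex_top_right] at this
    exact h.trans this
  have hrel := relIndex_eq T D S K hTS hDS hDT hTDc hTK
  -- Step 1
  have hstep1 : ∀ x ∈ D, x ∉ C → x ∉ K := by
    intro x hxD hxC hxK
    have hox := orderOf_eq_two_of_not_mem D C hDih hCD hC hCi x hxD hxC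
    have hCS : C ≤ S := hCD.trans hDS
    have hMS : T ⊔ C ≤ S := sup_le hTS hCS
    have hxM : x ∉ T ⊔ C := fun h => h1 x hxD hxC hox 1 (by simpa using h)
    have hTC : T ⊓ C = ⊥ := by
      rw [eq_bot_iff, ← hDT]
      exact le_inf (inf_le_right.trans hCD) inf_le_left
    have hle : Nat.card T * Nat.card C ≤ Nat.card ↥(T ⊔ C) :=
      card_mul_le T C (T ⊔ C) le_sup_left le_sup_right hTC
    have hD2 : Nat.card D = 2 * Nat.card C := by
      rw [H1.card_eq_relIndex_mul_card hCD, hCi]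
    have hSM : Nat.card S = (T ⊔ C).relIndex S * Nat.card ↥(T ⊔ C) :=
      H1.card_eq_relIndex_mul_card hMS
    have hq : (T ⊔ C).relIndex S = 2 := by
      have hq0 : (T ⊔ C).relIndex S ≠ 0 := by
        intro h
        rw [h, zero_mul] at hSM
        exact (Nat.card_pos (α := ↥S)).ne' hSM
      have hq1 : (T ⊔ C).relIndex S ≠ 1 := by
        intro h
        rw [Subgroup.relIndex_eq_one] at h
        exact hxM (h (hDS hxD))
      have hq2 : (T ⊔ C).relIndex S ≤ 2 := by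
        by_contra hlt
        push Not at hlt
        have h3 : 3 * Nat.card ↥(T ⊔ C) ≤ Nat.card S := by
          rw [hSM]; exact Nat.mul_le_mul_right _ hlt
        have hpos : 0 < Nat.card T * Nat.card C := Nat.mul_pos Nat.card_pos Nat.card_pos
        rw [← hTDc, hD2] at h3
        nlinarith
      omega
    have hidx : (T ⊔ C).index = 2 ^ 1 * S.index := by
      rw [← Subgroup.relIndex_mul_index hMS, hq, pow_one]
    have hodd : Odd S.index := Nat.not_even_iff_odd.1 (fun h => hSsyl (even_iff_two_dvd.1 h))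
    obtain ⟨N, hNn, hN2, hxN⟩ := SignTransfer.exists_index_two (T ⊔ C) x 1 S.index le_rfl
      (by rw [pow_one, ← hox]; exact pow_orderOf_eq_one x)
      (by
        intro g hg
        simp only [Nat.sub_self, pow_zero, pow_one] at hg
        exact h1 x hxD hxC hox g hg) hidx hodd
    exact hxN (hKmin N hNn hN2 hxK)
  -- Step 2
  have hbot : D ⊓ K = ⊥ := by
    by_contra hne
    have hDC : D ⊓ K ≤ C := by
      intro y hy
      rw [Subgroup.mem_inf] at hy
      by_contra hyC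
      exact hstep1 y hy.1 hyC hy.2
    have hcyc : IsCyclic ↥(D ⊓ K) := by
      have : IsCyclic ↥((D ⊓ K).subgroupOf C) := inferInstance
      exact isCyclic_of_surjective (Subgroup.subgroupOfEquivOfLe hDC).toMonoidHom
        (Subgroup.subgroupOfEquivOfLe hDC).surjective
    obtain ⟨d0, hd0⟩ := hcyc.exists_generator
    have hord0 : orderOf (d0 : G) = Nat.card ↥(D ⊓ K) := by
      rw [Subgroup.orderOf_coe]; exact orderOf_eq_card_of_forall_mem_zpowers hd0
    have hP : IsPGroup 2 ↥(D ⊓ K) := hS2.to_le (inf_le_left.trans hDS)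
    obtain ⟨j, hj⟩ := IsPGroup.iff_card.1 hP
    have hj1 : 1 ≤ j := by
      rcases Nat.eq_zero_or_pos j with h0 | h0
      · exfalso
        rw [h0, pow_zero] at hj
        exact hne (Subgroup.eq_bot_of_card_eq _ hj)
      · exact h0
    have hdK : (d0 : G) ∈ K := (Subgroup.mem_inf.1 d0.2).2
    have hdC : (d0 : G) ∈ C := hDC d0.2
    have hordj : orderOf (d0 : G) = 2 ^ j := by rw [hord0, hj]
    have hz2 : orderOf ((d0 : G) ^ 2 ^ (j - 1)) = 2 := by
      apply orderOf_eq_prime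
      · rw [← pow_mul, ← pow_succ, Nat.sub_add_cancel hj1, ← hordj, pow_orderOf_eq_one]
      · apply pow_ne_one_of_lt_orderOf (by positivity)
        rw [hordj]
        exact Nat.pow_lt_pow_right (by norm_num) (by omega)
    have hzC : (d0 : G) ^ 2 ^ (j - 1) ∈ C := C.pow_mem hdC _
    have hoddK : Odd (S.relIndex K) :=
      Nat.not_even_iff_odd.1 (fun h => hSoddK (even_iff_two_dvd.1 h))
    obtain ⟨N, _, hN2, _⟩ := SignTransfer.exists_index_two (T.subgroupOf K) (⟨(d0 : G), hdK⟩ : ↥K) j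
      (S.relIndex K) hj1
      (by
        apply Subtype.ext
        rw [Subgroup.coe_pow, Subgroup.coe_one]
        show (d0 : G) ^ 2 ^ j = 1
        rw [← hordj, pow_orderOf_eq_one])
      (by
        intro g hg
        rw [Subgroup.mem_subgroupOf] at hg
        exact h2 _ hzC hz2 (g : G) (by simpa using hg))
      (by
        show T.relIndex K = _
        rw [hrel, hj])
      hoddK
    exact hKperf N hN2
  refine ⟨?_, hTK, ?_⟩
  · rw [eq_top_iff, ← hSK, ← hTD]
    exact sup_le (sup_le (hTK.trans le_sup_left) le_sup_right) le_sup_left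
  · rw [hrel, hbot, Subgroup.card_bot, one_mul]
    exact hSoddK

end Cfsg.Agent.H2.DihedralTransfer
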