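import Mathlib
import Cfsg.Agent.H2.ItoTwo
import Cfsg.Agent.Lib.Helper5.DihedralRecog

set_option autoImplicit false

/-!
# Groups whose `p`-by-cyclic subgroups are cyclic or dihedral (`p` odd)
-/

namespace Cfsg.Agent.H2.PByCyclic

open Cfsg.Agent.H2.ItoTwo

variable {G : Type*} [Group G] [Finite G] {p : ℕ} [Fact p.Prime]

/-- the two hypotheses on a subgroup `H`: normal Sylow `p`-subgroup with cyclic quotient -/
def PBC (p : ℕ) [Fact p.Prime] (H : Subgroup G) : Prop :=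
  (∀ S : Sylow p ↥H, (S : Subgroup ↥H).Normal) ∧
    (∀ (S : Sylow p ↥H) [(S : Subgroup ↥H).Normal], IsCyclic (↥H ⧸ (S : Subgroup ↥H)))

/-- a `p`-subgroup together with an element normalizing it generates a `p`-by-cyclic subgroup -/
theorem pbc_of_normalizes (R : Subgroup G) (hR : IsPGroup p R) (y : G)
    (hy : y ∈ Subgroup.normalizer (R : Set G)) : PBC p (R ⊔ Subgroup.zpowers y) := by
  have hp : p.Prime := Fact.out
  obtain ⟨e, m, hm, hNe⟩ := Nat.exists_eq_pow_mul_and_not_dvd (orderOf_pos y).ne' p hp.ne_one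
  obtain ⟨H, hH⟩ : ∃ H, H = R ⊔ Subgroup.zpowers y := ⟨_, rfl⟩
  rw [← hH]
  obtain ⟨S₀, hS₀⟩ : ∃ S₀, S₀ = R ⊔ Subgroup.zpowers (y ^ m) := ⟨_, rfl⟩
  have hyH : y ∈ H := hH ▸ Subgroup.mem_sup_right (Subgroup.mem_zpowers y)
  have hRH : R ≤ H := hH ▸ le_sup_left
  -- (a)
  have hzp : IsPGroup p (Subgroup.zpowers (y ^ m)) := by
    apply IsPGroup.of_card_dvd_pow (n := e)
    rw [Nat.card_zpowers]
    apply orderOf_dvd_of_pow_eq_one
    rw [← pow_mul, mul_comm, ← hNe, pow_orderOf_eq_one]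
  have hymN : Subgroup.zpowers (y ^ m) ≤ Subgroup.normalizer (R : Set G) := by
    rw [Subgroup.zpowers_le]
    exact Subgroup.pow_mem _ hy m
  have hS₀p : IsPGroup p S₀ := hS₀ ▸ hR.to_sup_of_normal_left' hzp hymN
  -- (b)
  have hyS₀ : y ∈ Subgroup.normalizer (S₀ : Set G) := by
    rw [Subgroup.mem_normalizer_iff_map_conj_eq, hS₀, Subgroup.map_sup, MonoidHom.map_zpowers]
    have h1 : R.map (MulAut.conj y : G →* G) = R := Subgroup.mem_normalizer_iff_map_conj_eq.mp hy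
    have h2 : (MulAut.conj y : G →* G) (y ^ m) = y ^ m := by
      change y * y ^ m * y⁻¹ = y ^ m
      rw [← pow_succ', pow_succ, mul_inv_cancel_right]
    rw [h1, h2]
  have hHN : H ≤ Subgroup.normalizer (S₀ : Set G) := by
    rw [hH]
    apply sup_le
    · exact (hS₀ ▸ le_sup_left : R ≤ S₀).trans Subgroup.le_normalizer
    · rw [Subgroup.zpowers_le]; exact hyS₀
  -- (c)
  have hS₀H : S₀ ≤ H := by
    rw [hS₀]
    apply sup_le hRH
    rw [Subgroup.zpowers_le]
    exact Subgroup.pow_mem _ hyH m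
  -- (d)
  have hnorm : (S₀.subgroupOf H).Normal :=
    (Subgroup.normal_subgroupOf_iff_le_normalizer hS₀H).mpr hHN
  -- (e)
  obtain ⟨y₀, hy₀⟩ : ∃ y₀ : H, y₀ = ⟨y, hyH⟩ := ⟨_, rfl⟩
  have hgen : ∀ q : H ⧸ S₀.subgroupOf H, q ∈ Subgroup.zpowers (QuotientGroup.mk y₀ : H ⧸ S₀.subgroupOf H) := by
    intro q
    obtain ⟨h, rfl⟩ := QuotientGroup.mk_surjective q
    obtain ⟨K, hK⟩ : ∃ K : Subgroup H, K = (Subgroup.zpowers (QuotientGroup.mk y₀ :
      H ⧸ S₀.subgroupOf H)).comap (QuotientGroup.mk' (S₀.subgroupOf H)) := ⟨_, rfl⟩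
    have hle : H ≤ K.map H.subtype := by
      conv_lhs => rw [hH]
      apply sup_le
      · intro a ha
        refine ⟨⟨a, hRH ha⟩, ?_, rfl⟩
        rw [SetLike.mem_coe, hK, Subgroup.mem_comap]
        have : (QuotientGroup.mk' (S₀.subgroupOf H)) ⟨a, hRH ha⟩ = 1 := by
          rw [QuotientGroup.mk'_apply, QuotientGroup.eq_one_iff, Subgroup.mem_subgroupOf]
          exact (hS₀ ▸ le_sup_left : R ≤ S₀) ha
        rw [this]; exact Subgroup.one_mem _
      · rw [Subgroup.zpowers_le]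
        refine ⟨y₀, ?_, by rw [hy₀]; rfl⟩
        rw [SetLike.mem_coe, hK, Subgroup.mem_comap]
        exact Subgroup.mem_zpowers _
    obtain ⟨k, hk, hkh⟩ := hle h.2
    have : k = h := Subtype.ext hkh
    rw [← this]
    rw [SetLike.mem_coe, hK, Subgroup.mem_comap] at hk
    exact hk
  have hcyc : IsCyclic (H ⧸ S₀.subgroupOf H) := ⟨⟨_, hgen⟩⟩
  -- (f)
  have hidx : ¬ p ∣ (S₀.subgroupOf H).index := by
    have h1 : orderOf (QuotientGroup.mk y₀ : H ⧸ S₀.subgroupOf H) = Nat.card (H ⧸ S₀.subgroupOf H) :=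
      orderOf_eq_card_of_forall_mem_zpowers hgen
    have h2 : (QuotientGroup.mk y₀ : H ⧸ S₀.subgroupOf H) ^ m = 1 := by
      rw [← QuotientGroup.mk_pow, QuotientGroup.eq_one_iff, Subgroup.mem_subgroupOf, hy₀]
      change y ^ m ∈ S₀
      rw [hS₀]
      exact Subgroup.mem_sup_right (Subgroup.mem_zpowers _)
    have h3 : (S₀.subgroupOf H).index ∣ m := by
      change Nat.card (H ⧸ S₀.subgroupOf H) ∣ m
      rw [← h1]
      exact orderOf_dvd_of_pow_eq_one h2
    intro hd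
    exact hm (hd.trans h3)
  -- (g)
  have hpg : IsPGroup p (S₀.subgroupOf H) := hS₀p.comap_subtype
  obtain ⟨P₀, hP₀⟩ : ∃ P₀ : Sylow p H, (P₀ : Subgroup H) = S₀.subgroupOf H :=
    ⟨hpg.toSylow hidx, IsPGroup.toSylow_coe hpg hidx⟩
  have hP₀n : (P₀ : Subgroup H).Normal := hP₀ ▸ hnorm
  have huniq : ∀ S : Sylow p H, S = P₀ := by
    intro S
    obtain ⟨k, hk⟩ := MulAction.exists_smul_eq H P₀ S
    rw [Sylow.smul_eq_of_normal] at hk
    exact hk.symm
  constructor
  · intro S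
    rw [huniq S]; exact hP₀n
  · intro S hS
    have hSeq := huniq S
    subst hSeq
    have : (S : Subgroup H) = S₀.subgroupOf H := hP₀
    have e := QuotientGroup.quotientMulEquivOfEq this.symm
    exact isCyclic_of_surjective e e.surjective

/-- the restricted `p`-by-cyclic subgroups property -/
def Restricted (p : ℕ) [Fact p.Prime] (G : Type*) [Group G] : Prop :=
  ∀ H : Subgroup G, PBC p H → IsCyclic H ∨ ∃ n : ℕ, Nonempty (H ≃* DihedralGroup (p ^ n))

omit [Finite G] [Fact p.Prime] in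
theorem comm_of_isCyclic (H : Subgroup G) (hc : IsCyclic H) {a b : G} (ha : a ∈ H) (hb : b ∈ H) :
    a * b = b * a := by
  obtain ⟨γ, hγ⟩ := hc
  obtain ⟨i, hi⟩ := Subgroup.mem_zpowers_iff.mp (hγ ⟨a, ha⟩)
  obtain ⟨j, hj⟩ := Subgroup.mem_zpowers_iff.mp (hγ ⟨b, hb⟩)
  have : (⟨a, ha⟩ : H) * ⟨b, hb⟩ = ⟨b, hb⟩ * ⟨a, ha⟩ := by
    rw [← hi, ← hj]
    exact ((Commute.refl γ).zpow_left i).zpow_right j
  exact congrArg Subtype.val this

section Dihedral

variable {H : Type*} [Group H] {m : ℕ} (e : H ≃* DihedralGroup m)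

include e

omit [Fact p.Prime] in
theorem rot_of_pow (hp : p.Prime) (hp2 : p ≠ 2) {x : H} {k : ℕ} (hx : x ^ (p ^ k) = 1) :
    ∃ i, e x = DihedralGroup.r i := by
  rcases hex : e x with i | i
  · exact ⟨i, rfl⟩
  · exfalso
    have h1 : (DihedralGroup.sr i : DihedralGroup m) ^ (p ^ k) = 1 := by
      rw [← hex, ← map_pow, hx, map_one]
    have h2 := orderOf_dvd_of_pow_eq_one h1
    rw [DihedralGroup.orderOf_sr] at h2
    have h3 : 2 ∣ p := (Nat.Prime.dvd_of_dvd_pow Nat.prime_two h2)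
    exact hp2 ((Nat.prime_dvd_prime_iff_eq Nat.prime_two hp).mp h3).symm

theorem comm_of_rot {x y : H} {i j : ZMod m} (hx : e x = DihedralGroup.r i)
    (hy : e y = DihedralGroup.r j) : x * y = y * x := by
  apply e.injective
  rw [map_mul, map_mul, hx, hy, DihedralGroup.r_mul_r, DihedralGroup.r_mul_r, add_comm]

theorem sq_of_refl {y : H} {i : ZMod m} (hy : e y = DihedralGroup.sr i) : y * y = 1 ∧ y ≠ 1 := by
  constructor
  · apply e.injective
    rw [map_mul, hy, DihedralGroup.sr_mul_self, map_one]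
  · intro h
    rw [h, map_one] at hy
    exact absurd hy (by
      intro h1
      have : (1 : DihedralGroup m) = DihedralGroup.r 0 := rfl
      rw [this] at h1
      cases h1)

theorem inv_of_refl {x y : H} {i j : ZMod m} (hy : e y = DihedralGroup.sr i)
    (hx : e x = DihedralGroup.r j) : y * x * y⁻¹ = x⁻¹ := by
  apply e.injective
  rw [map_mul, map_mul, map_inv, map_inv, hy, hx, DihedralGroup.inv_sr, DihedralGroup.sr_mul_r,
    DihedralGroup.sr_mul_sr, DihedralGroup.inv_r]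
  congr 1
  ring

end Dihedral

section Forward

variable (hres : Restricted p G) (hp2 : p ≠ 2)

include hres hp2

/-- an element normalizing a `p`-subgroup centralizes or inverts it -/
theorem normalizer_dichotomy (R : Subgroup G) (hR : IsPGroup p R) {x : G}
    (hx : x ∈ Subgroup.normalizer (R : Set G)) :
    (∀ a ∈ R, x * a = a * x) ∨ ((∀ a ∈ R, x * a * x⁻¹ = a⁻¹) ∧ x * x = 1 ∧ x ≠ 1) := by
  have hp : p.Prime := Fact.out
  have hpbc := pbc_of_normalizes R hR x hx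
  obtain ⟨H, hH⟩ : ∃ H, H = R ⊔ Subgroup.zpowers x := ⟨_, rfl⟩
  rw [← hH] at hpbc
  have hxH : x ∈ H := hH ▸ Subgroup.mem_sup_right (Subgroup.mem_zpowers x)
  have hRH : R ≤ H := hH ▸ le_sup_left
  rcases hres H hpbc with hc | ⟨n, ⟨e⟩⟩
  · left
    intro a ha
    exact comm_of_isCyclic H hc hxH (hRH ha)
  · have hrot : ∀ a (ha : a ∈ R), ∃ j, e ⟨a, hRH ha⟩ = DihedralGroup.r j := by
      intro a ha
      obtain ⟨k, hk⟩ := hR ⟨a, ha⟩
      have hk' : (⟨a, hRH ha⟩ : H) ^ (p ^ k) = 1 := by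
        apply Subtype.ext
        have := congrArg Subtype.val hk
        simpa using this
      exact rot_of_pow e hp hp2 hk'
    rcases hex : e ⟨x, hxH⟩ with i | i
    · left
      intro a ha
      obtain ⟨j, hj⟩ := hrot a ha
      exact congrArg Subtype.val (comm_of_rot e hex hj)
    · right
      refine ⟨?_, ?_, ?_⟩
      · intro a ha
        obtain ⟨j, hj⟩ := hrot a ha
        exact congrArg Subtype.val (inv_of_refl e hex hj)
      · exact congrArg Subtype.val (sq_of_refl e hex).1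
      · intro h1
        apply (sq_of_refl e hex).2
        exact Subtype.ext h1

theorem sylow_isCyclic (P : Sylow p G) : IsCyclic (P : Subgroup G) := by
  have hp : p.Prime := Fact.out
  have hpbc := pbc_of_normalizes (P : Subgroup G) P.isPGroup' 1 (Subgroup.one_mem _)
  rw [Subgroup.zpowers_one_eq_bot, sup_bot_eq] at hpbc
  rcases hres _ hpbc with hc | ⟨n, ⟨e⟩⟩
  · exact hc
  · exfalso
    have h1 : Nat.card (P : Subgroup G) = 2 * p ^ n := by
      rw [Nat.card_congr e.toEquiv, DihedralGroup.nat_card]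
    obtain ⟨k, hk⟩ := IsPGroup.iff_card.mp P.isPGroup'
    rw [hk] at h1
    have h2 : 2 ∣ p ^ k := ⟨_, h1⟩
    have h3 : 2 ∣ p := Nat.Prime.dvd_of_dvd_pow Nat.prime_two h2
    exact hp2 ((Nat.prime_dvd_prime_iff_eq Nat.prime_two hp).mp h3).symm

omit [Finite G] [Fact p.Prime] hres hp2 in
theorem mem_centralizer_set_iff {R : Subgroup G} {x : G} :
    x ∈ Subgroup.centralizer (R : Set G) ↔ ∀ a ∈ R, x * a = a * x := by
  rw [Subgroup.mem_centralizer_iff]
  constructor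
  · intro h a ha; exact (h a ha).symm
  · intro h a ha; exact (h a ha).symm

/-- the forward direction -/
theorem forward (P : Sylow p G) :
    IsCyclic (P : Subgroup G) ∧
      (Subgroup.normalizer ((P : Subgroup G) : Set G) = Subgroup.centralizer ((P : Subgroup G) : Set G) ∨
       ((Subgroup.centralizer ((P : Subgroup G) : Set G)).relIndex
          (Subgroup.normalizer ((P : Subgroup G) : Set G)) = 2 ∧
        ∀ Q : Subgroup G, Q ≤ P → Nat.card Q = p →
          IsMulCommutative ↥(Subgroup.centralizer (Q : Set G)) ∧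
          ∀ x : G, x ∈ Subgroup.normalizer (Q : Set G) → x ∉ Subgroup.centralizer (Q : Set G) →
            orderOf x = 2 ∧ ∀ c : G, c ∈ Subgroup.centralizer (Q : Set G) → x * c * x⁻¹ = c⁻¹)) := by
  have hp : p.Prime := Fact.out
  refine ⟨sylow_isCyclic hres hp2 P, ?_⟩
  by_cases hNC : Subgroup.normalizer ((P : Subgroup G) : Set G) ≤
      Subgroup.centralizer ((P : Subgroup G) : Set G)
  · left
    exact le_antisymm hNC (Subgroup.centralizer_le_normalizer _)
  right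
  obtain ⟨x₀, hx₀N, hx₀C⟩ := SetLike.not_le_iff_exists.mp hNC
  have hdich : ∀ x ∈ Subgroup.normalizer ((P : Subgroup G) : Set G),
      x ∉ Subgroup.centralizer ((P : Subgroup G) : Set G) →
      (∀ a ∈ (P : Subgroup G), x * a * x⁻¹ = a⁻¹) ∧ x * x = 1 ∧ x ≠ 1 := by
    intro x hxN hxC
    rcases normalizer_dichotomy hres hp2 (P : Subgroup G) P.isPGroup' hxN with h | h
    · exact absurd (mem_centralizer_set_iff.mpr h) hxC
    · exact h
  obtain ⟨hinv₀, hsq₀, hne₀⟩ := hdich x₀ hx₀N hx₀C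
  have hx₀inv : x₀⁻¹ = x₀ := inv_eq_of_mul_eq_one_left hsq₀
  refine ⟨?_, ?_⟩
  · rw [Subgroup.relIndex_eq_two_iff]
    refine ⟨x₀, hx₀N, ?_⟩
    intro b hbN
    by_cases hbC : b ∈ Subgroup.centralizer ((P : Subgroup G) : Set G)
    · right
      refine ⟨hbC, ?_⟩
      intro h
      apply hx₀C
      have := Subgroup.mul_mem _ (Subgroup.inv_mem _ hbC) h
      rwa [inv_mul_cancel_left] at this
    · left
      refine ⟨?_, hbC⟩
      obtain ⟨hinvb, -, -⟩ := hdich b hbN hbC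
      rw [mem_centralizer_set_iff]
      intro a ha
      have h1 : x₀ * a * x₀⁻¹ = a⁻¹ := hinv₀ a ha
      have h2 : b * a⁻¹ * b⁻¹ = a⁻¹⁻¹ := hinvb a⁻¹ (Subgroup.inv_mem _ ha)
      rw [inv_inv] at h2
      calc b * x₀ * a = b * (x₀ * a * x₀⁻¹) * x₀ := by group
        _ = b * a⁻¹ * x₀ := by rw [h1]
        _ = (b * a⁻¹ * b⁻¹) * b * x₀ := by group
        _ = a * (b * x₀) := by rw [h2]; group
  · intro Q hQP hQcard
    have hQp : IsPGroup p Q := P.isPGroup'.to_le hQP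
    -- `x₀` normalizes but does not centralize `Q`
    have hx₀NQ : x₀ ∈ Subgroup.normalizer (Q : Set G) := by
      rw [Subgroup.mem_normalizer_iff]
      intro h
      constructor
      · intro hh
        rw [hinv₀ h (hQP hh)]
        exact Q.inv_mem hh
      · intro hh
        have h1 := hinv₀ _ (hQP hh)
        have h2 : x₀ * (x₀ * h * x₀⁻¹) * x₀⁻¹ = h := by
          rw [hx₀inv]
          calc x₀ * (x₀ * h * x₀) * x₀ = (x₀ * x₀) * h * (x₀ * x₀) := by group
            _ = h := by rw [hsq₀, one_mul, mul_one]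
        rw [h2] at h1
        rw [h1]
        exact Q.inv_mem hh
    have hodd : ∀ q ∈ Q, q * q = 1 → q = 1 := by
      intro q hq hqq
      have h1 : orderOf q ∣ 2 := orderOf_dvd_of_pow_eq_one (by rw [pow_two]; exact hqq)
      have h2 : orderOf q ∣ p := by
        have := orderOf_dvd_natCard (⟨q, hq⟩ : Q)
        rw [hQcard] at this
        have e : orderOf (⟨q, hq⟩ : Q) = orderOf q := Subgroup.orderOf_mk q hq
        rwa [e] at this
      have h3 : orderOf q ∣ Nat.gcd 2 p := Nat.dvd_gcd h1 h2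
      have h4 : Nat.gcd 2 p = 1 := by
        rw [Nat.coprime_primes Nat.prime_two hp |>.mpr (Ne.symm hp2)]
      rw [h4, Nat.dvd_one, orderOf_eq_one_iff] at h3
      exact h3
    have hQnt : ∃ q ∈ Q, q ≠ 1 := by
      by_contra hcon
      push Not at hcon
      have : Q = ⊥ := by
        rw [eq_bot_iff]
        intro q hq
        rw [Subgroup.mem_bot]; exact hcon q hq
      rw [this, Subgroup.card_bot] at hQcard
      exact hp.ne_one hQcard.symm
    have hx₀CQ : x₀ ∉ Subgroup.centralizer (Q : Set G) := by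
      intro hc
      obtain ⟨q, hq, hq1⟩ := hQnt
      apply hq1
      apply hodd q hq
      have h1 := hinv₀ q (hQP hq)
      have h2 := mem_centralizer_set_iff.mp hc q hq
      rw [h2, mul_assoc, mul_inv_cancel, mul_one] at h1
      calc q * q = q * q⁻¹ := by rw [← h1]
        _ = 1 := mul_inv_cancel q
    have hdichQ : ∀ y ∈ Subgroup.normalizer (Q : Set G), y ∉ Subgroup.centralizer (Q : Set G) →
        y * y = 1 ∧ y ≠ 1 := by
      intro y hyN hyC
      rcases normalizer_dichotomy hres hp2 Q hQp hyN with h | h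
      · exact absurd (mem_centralizer_set_iff.mpr h) hyC
      · exact h.2
    have hinvT : ∀ y ∈ Subgroup.normalizer (Q : Set G), y ∉ Subgroup.centralizer (Q : Set G) →
        ∀ c ∈ Subgroup.centralizer (Q : Set G), y * c * y⁻¹ = c⁻¹ := by
      intro y hyN hyC c hc
      have hycN : y * c ∈ Subgroup.normalizer (Q : Set G) :=
        Subgroup.mul_mem _ hyN (Subgroup.centralizer_le_normalizer _ hc)
      have hycC : y * c ∉ Subgroup.centralizer (Q : Set G) := by
        intro h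
        apply hyC
        have := Subgroup.mul_mem _ h (Subgroup.inv_mem _ hc)
        rwa [mul_inv_cancel_right] at this
      obtain ⟨h1, -⟩ := hdichQ (y * c) hycN hycC
      obtain ⟨h2, -⟩ := hdichQ y hyN hyC
      have hyinv : y⁻¹ = y := inv_eq_of_mul_eq_one_left h2
      rw [hyinv]
      calc y * c * y = c⁻¹ * (c * y * c * y) := by group
        _ = c⁻¹ * (c * (y * c * (y * c)) * c⁻¹) := by group
        _ = c⁻¹ := by rw [h1]; group
    refine ⟨?_, ?_⟩
    · refine ⟨⟨fun a b => ?_⟩⟩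
      apply Subtype.ext
      push_cast
      have ha := hinvT x₀ hx₀NQ hx₀CQ a a.2
      have hb := hinvT x₀ hx₀NQ hx₀CQ b b.2
      have hab := hinvT x₀ hx₀NQ hx₀CQ (a * b) (Subgroup.mul_mem _ a.2 b.2)
      have h1 : ((a : G) * b)⁻¹ = (a : G)⁻¹ * (b : G)⁻¹ := by
        rw [← hab, ← ha, ← hb]; group
      have h2 : ((b : G) * a)⁻¹ = (a : G)⁻¹ * (b : G)⁻¹ := by group
      exact inv_injective (h1.trans h2.symm)
    · intro y hyN hyC
      obtain ⟨h1, h2⟩ := hdichQ y hyN hyC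
      refine ⟨?_, hinvT y hyN hyC⟩
      apply orderOf_eq_prime
      · rw [pow_two]; exact h1
      · exact h2

end Forward

section Backward

omit [Finite G] [Fact p.Prime] in
theorem mem_normalizer_zpowers {x b : G} (h1 : x * b * x⁻¹ ∈ Subgroup.zpowers b)
    (h2 : x⁻¹ * b * x ∈ Subgroup.zpowers b) :
    x ∈ Subgroup.normalizer (Subgroup.zpowers b : Set G) := by
  rw [Subgroup.mem_normalizer_iff]
  intro h
  constructor
  · intro hh
    obtain ⟨i, rfl⟩ := Subgroup.mem_zpowers_iff.mp hh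
    have : x * b ^ i * x⁻¹ = (x * b * x⁻¹) ^ i := by
      rw [conj_zpow]
    rw [this]
    exact Subgroup.zpow_mem _ h1 i
  · intro hh
    obtain ⟨i, hi⟩ := Subgroup.mem_zpowers_iff.mp hh
    have : h = (x⁻¹ * b * x) ^ i := by
      have h3 : (x⁻¹ * b * x) ^ i = x⁻¹ * b ^ i * x := by
        have := conj_zpow (a := x⁻¹) (b := b) (i := i)
        rwa [inv_inv] at this
      rw [h3, hi]; group
    rw [this]
    exact Subgroup.zpow_mem _ h2 i

omit [Finite G] [Fact p.Prime] in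
theorem conj_aux {a x : G} (g : G) (j : ℕ)
    (hx : x ∈ Subgroup.normalizer (Subgroup.zpowers a : Set G)) :
    (g * x * g⁻¹) * (g * a ^ j * g⁻¹) * (g * x * g⁻¹)⁻¹ ∈ Subgroup.zpowers (g * a ^ j * g⁻¹) := by
  have h1 : x * a * x⁻¹ ∈ Subgroup.zpowers a :=
    (Subgroup.mem_normalizer_iff.mp hx a).mp (Subgroup.mem_zpowers a)
  obtain ⟨k, hk⟩ := Subgroup.mem_zpowers_iff.mp h1
  have h2 : (g * x * g⁻¹) * (g * a ^ j * g⁻¹) * (g * x * g⁻¹)⁻¹ = (g * a ^ j * g⁻¹) ^ k := by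
    calc (g * x * g⁻¹) * (g * a ^ j * g⁻¹) * (g * x * g⁻¹)⁻¹
        = g * (x * a ^ j * x⁻¹) * g⁻¹ := by group
      _ = g * (x * a * x⁻¹) ^ j * g⁻¹ := by rw [conj_pow]
      _ = g * (a ^ k) ^ j * g⁻¹ := by rw [hk]
      _ = g * (a ^ j) ^ k * g⁻¹ := by
        rw [← zpow_natCast (a ^ k), ← zpow_mul, mul_comm, zpow_mul, zpow_natCast]
      _ = (g * a ^ j * g⁻¹) ^ k := by rw [conj_zpow]
  rw [h2]
  exact Subgroup.zpow_mem _ (Subgroup.mem_zpowers _) k

omit [Finite G] [Fact p.Prime] in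
theorem conj_normalizer_zpowers {a x : G} (g : G) (j : ℕ)
    (hx : x ∈ Subgroup.normalizer (Subgroup.zpowers a : Set G)) :
    g * x * g⁻¹ ∈ Subgroup.normalizer (Subgroup.zpowers (g * a ^ j * g⁻¹) : Set G) := by
  apply mem_normalizer_zpowers
  · exact conj_aux g j hx
  · have := conj_aux g j (Subgroup.inv_mem _ hx)
    have e : (g * x * g⁻¹)⁻¹ = g * x⁻¹ * g⁻¹ := by group
    rw [e]
    have e2 : (g * x⁻¹ * g⁻¹)⁻¹ = g * x * g⁻¹ := by group
    rwa [e2] at this

omit [Fact p.Prime] in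
theorem card_of_factor (H R : Subgroup G) (hRH : R ≤ H) {y : G} (hyH : y ∈ H)
    (hfac : ∀ h ∈ H, ∃ u ∈ Subgroup.zpowers y, ∃ s ∈ R, h = u * s)
    (hcop : Nat.Coprime (orderOf y) (Nat.card R)) : Nat.card H = orderOf y * Nat.card R := by
  have h1 : Nat.card H ≤ orderOf y * Nat.card R := by
    rw [← Nat.card_zpowers, ← Nat.card_prod]
    apply Nat.card_le_card_of_surjective (fun x : Subgroup.zpowers y × R =>
      (⟨x.1 * x.2, H.mul_mem (Subgroup.zpowers_le.mpr hyH x.1.2) (hRH x.2.2)⟩ : H))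
    rintro ⟨h, hh⟩
    obtain ⟨u, hu, s, hs, rfl⟩ := hfac h hh
    exact ⟨(⟨u, hu⟩, ⟨s, hs⟩), rfl⟩
  have h2 : orderOf y ∣ Nat.card H := by
    have := orderOf_dvd_natCard (⟨y, hyH⟩ : H)
    rwa [Subgroup.orderOf_mk] at this
  have h3 : Nat.card R ∣ Nat.card H := Subgroup.card_dvd_of_le hRH
  have h4 := hcop.mul_dvd_of_dvd_of_dvd h2 h3
  exact le_antisymm h1 (Nat.le_of_dvd Nat.card_pos h4)

omit [Fact p.Prime] in
theorem isCyclic_of_comm (H R : Subgroup G) (hRH : R ≤ H) {y a₀ : G} (hyH : y ∈ H)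
    (ha₀ : Subgroup.zpowers a₀ = R)
    (hfac : ∀ h ∈ H, ∃ u ∈ Subgroup.zpowers y, ∃ s ∈ R, h = u * s)
    (hcop : Nat.Coprime (orderOf y) (Nat.card R)) (hcomm : y * a₀ = a₀ * y) : IsCyclic H := by
  have hcard := card_of_factor H R hRH hyH hfac hcop
  have ha₀H : a₀ ∈ H := hRH (ha₀ ▸ Subgroup.mem_zpowers a₀)
  have hcard' : Nat.card R = orderOf a₀ := by rw [← ha₀, Nat.card_zpowers]
  have hord : orderOf (y * a₀) = orderOf y * orderOf a₀ :=
    Commute.orderOf_mul_eq_mul_orderOf_of_coprime hcomm (by rwa [← hcard'])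
  apply isCyclic_of_orderOf_eq_card (⟨y * a₀, H.mul_mem hyH ha₀H⟩ : H)
  rw [Subgroup.orderOf_mk, hord, hcard, hcard']

theorem dihedral_of_inv (hp2 : p ≠ 2) (H R : Subgroup G) (hRH : R ≤ H) {y a₀ : G} (hyH : y ∈ H)
    (ha₀ : Subgroup.zpowers a₀ = R)
    (hfac : ∀ h ∈ H, ∃ u ∈ Subgroup.zpowers y, ∃ s ∈ R, h = u * s)
    {n : ℕ} (hcardR : Nat.card R = p ^ n) (hy2 : orderOf y = 2)
    (hinv : y * a₀ * y⁻¹ = a₀⁻¹) (ha₀1 : a₀ ≠ 1) :
    Nonempty (H ≃* DihedralGroup (p ^ n)) := by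
  have hp : p.Prime := Fact.out
  have hcop2 : Nat.Coprime 2 (p ^ n) :=
    ((Nat.coprime_primes Nat.prime_two hp).mpr (Ne.symm hp2)).pow_right n
  have hcop : Nat.Coprime (orderOf y) (Nat.card R) := by rw [hy2, hcardR]; exact hcop2
  have hcard := card_of_factor H R hRH hyH hfac hcop
  rw [hy2, hcardR] at hcard
  have ha₀H : a₀ ∈ H := hRH (ha₀ ▸ Subgroup.mem_zpowers a₀)
  have hord : orderOf a₀ = p ^ n := by rw [← hcardR, ← ha₀, Nat.card_zpowers]
  have hyy : y * y = 1 := by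
    have := pow_orderOf_eq_one y
    rwa [hy2, pow_two] at this
  have hyinv : y⁻¹ = y := inv_eq_of_mul_eq_one_left hyy
  have hya : orderOf (y * a₀) = 2 := by
    apply orderOf_eq_prime
    · rw [pow_two]
      rw [hyinv] at hinv
      calc y * a₀ * (y * a₀) = (y * a₀ * y) * a₀ := by group
        _ = 1 := by rw [hinv, inv_mul_cancel]
    · intro h
      have h1 : a₀ = y := by
        have : a₀ = y⁻¹ := eq_inv_of_mul_eq_one_right h
        rwa [hyinv] at this
      rw [h1, hy2] at hord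
      have h2 : 2 ∣ p ^ n := ⟨1, by rw [← hord]⟩
      have h3 : 2 ∣ p := Nat.Prime.dvd_of_dvd_pow Nat.prime_two h2
      exact hp2 ((Nat.prime_dvd_prime_iff_eq Nat.prime_two hp).mp h3).symm
  apply Cfsg.Agent.Lib.Helper5.DihedralRecog.dihedral_of_involutions (p ^ n) hcard
    (⟨y, hyH⟩ : H) ⟨y * a₀, H.mul_mem hyH ha₀H⟩
  · rw [Subgroup.orderOf_mk, hy2]
  · rw [Subgroup.orderOf_mk, hya]
  · intro h
    have := congrArg Subtype.val h
    simp only at this
    apply ha₀1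
    exact (mul_eq_left.mp this.symm)
  · have : ((⟨y, hyH⟩ : H) * ⟨y * a₀, H.mul_mem hyH ha₀H⟩) = ⟨a₀, ha₀H⟩ := by
      apply Subtype.ext
      change y * (y * a₀) = a₀
      rw [← mul_assoc, hyy, one_mul]
    rw [this, Subgroup.orderOf_mk, hord]

end Backward

section Main

variable (hp2 : p ≠ 2) (P : Sylow p G) (hPc : IsCyclic (P : Subgroup G))
  (hcase : Subgroup.normalizer ((P : Subgroup G) : Set G) =
      Subgroup.centralizer ((P : Subgroup G) : Set G) ∨
    ((Subgroup.centralizer ((P : Subgroup G) : Set G)).relIndex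
        (Subgroup.normalizer ((P : Subgroup G) : Set G)) = 2 ∧
      ∀ Q : Subgroup G, Q ≤ P → Nat.card Q = p →
        IsMulCommutative ↥(Subgroup.centralizer (Q : Set G)) ∧
        ∀ x : G, x ∈ Subgroup.normalizer (Q : Set G) → x ∉ Subgroup.centralizer (Q : Set G) →
          orderOf x = 2 ∧ ∀ c : G, c ∈ Subgroup.centralizer (Q : Set G) → x * c * x⁻¹ = c⁻¹))

include hPc hcase

theorem dichotomy_back (R : Subgroup G) (hR : IsPGroup p R) (g : G)
    (hg : ∀ a ∈ R, g * a * g⁻¹ ∈ (P : Subgroup G)) {a₀ : G} (ha₀ : Subgroup.zpowers a₀ = R)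
    {y : G} (hy : y ∈ Subgroup.normalizer (R : Set G)) :
    (∀ a ∈ R, y * a = a * y) ∨ ((∀ a ∈ R, y * a * y⁻¹ = a⁻¹) ∧ orderOf y = 2) := by
  have hp : p.Prime := Fact.out
  have hPcomm : ∀ a ∈ (P : Subgroup G), ∀ b ∈ (P : Subgroup G), a * b = b * a :=
    fun a ha b hb => comm_of_isCyclic _ hPc ha hb
  have hconjR : ∀ a ∈ R, y * a * y⁻¹ ∈ R := fun a ha =>
    (Subgroup.mem_normalizer_iff.mp hy a).mp ha
  rcases hcase with hNC | ⟨-, hQ⟩
  · left
    intro a ha
    have : IsMulCommutative (P : Subgroup G) :=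
      ⟨⟨fun a b => Subtype.ext (hPcomm a a.2 b b.2)⟩⟩
    have h1 : g * a * g⁻¹ ∈ (P : Subgroup G) := hg a ha
    have h2 : (g * y⁻¹ * g⁻¹)⁻¹ * (g * a * g⁻¹) * (g * y⁻¹ * g⁻¹) ∈ (P : Subgroup G) := by
      have e : (g * y⁻¹ * g⁻¹)⁻¹ * (g * a * g⁻¹) * (g * y⁻¹ * g⁻¹) = g * (y * a * y⁻¹) * g⁻¹ := by
        group
      rw [e]
      exact hg _ (hconjR a ha)
    obtain ⟨n, hnN, hn⟩ := Sylow.conj_eq_normalizer_conj_of_mem P _ _ h1 h2
    have hnC : n ∈ Subgroup.centralizer ((P : Subgroup G) : Set G) := hNC ▸ hnN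
    have h3 : n * (g * a * g⁻¹) = (g * a * g⁻¹) * n :=
      mem_centralizer_set_iff.mp hnC _ h1
    have h4 : n⁻¹ * (g * a * g⁻¹) * n = g * a * g⁻¹ := by
      rw [mul_assoc, ← h3, inv_mul_cancel_left]
    rw [h4] at hn
    have h5 : g * (y * a * y⁻¹) * g⁻¹ = g * a * g⁻¹ := by
      rw [← hn]; group
    have h6 : y * a * y⁻¹ = a := by
      have := mul_left_cancel (mul_right_cancel h5)
      exact this
    calc y * a = (y * a * y⁻¹) * y := by group
      _ = a * y := by rw [h6]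
  · by_cases ha₀1 : a₀ = 1
    · left
      intro a ha
      rw [← ha₀, ha₀1, Subgroup.zpowers_one_eq_bot, Subgroup.mem_bot] at ha
      rw [ha, mul_one, one_mul]
    have ha₀R : a₀ ∈ R := ha₀ ▸ Subgroup.mem_zpowers a₀
    obtain ⟨n, hn⟩ := (IsPGroup.iff_orderOf.mp hR) ⟨a₀, ha₀R⟩
    rw [Subgroup.orderOf_mk] at hn
    have hn0 : n ≠ 0 := by
      intro h0
      rw [h0, pow_zero, orderOf_eq_one_iff] at hn
      exact ha₀1 hn
    obtain ⟨k, rfl⟩ := Nat.exists_eq_succ_of_ne_zero hn0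
    obtain ⟨b, hb⟩ : ∃ b, b = g * a₀ ^ (p ^ k) * g⁻¹ := ⟨_, rfl⟩
    have hq₀ord : orderOf (a₀ ^ (p ^ k)) = p := by
      rw [orderOf_pow_of_dvd (pow_pos hp.pos k).ne' (hn ▸ pow_dvd_pow p (Nat.le_succ k)), hn,
        pow_succ, Nat.mul_div_cancel_left _ (pow_pos hp.pos k)]
    have hbord : orderOf b = p := by
      rw [hb]
      exact ((MulAut.conj g).orderOf_eq (a₀ ^ (p ^ k))).trans hq₀ord
    have hbP : b ∈ (P : Subgroup G) := hb ▸ hg _ (Subgroup.pow_mem _ ha₀R _)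
    have hQP : Subgroup.zpowers b ≤ (P : Subgroup G) := Subgroup.zpowers_le.mpr hbP
    have hQcard : Nat.card (Subgroup.zpowers b) = p := by rw [Nat.card_zpowers, hbord]
    obtain ⟨hab, hinv⟩ := hQ _ hQP hQcard
    have hy'N : g * y * g⁻¹ ∈ Subgroup.normalizer (Subgroup.zpowers b : Set G) := by
      rw [hb]
      apply conj_normalizer_zpowers
      rw [ha₀]; exact hy
    have hPC : ∀ c ∈ (P : Subgroup G), c ∈ Subgroup.centralizer (Subgroup.zpowers b : Set G) := by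
      intro c hc
      rw [mem_centralizer_set_iff]
      intro a ha
      exact hPcomm c hc a (hQP ha)
    by_cases hyC : g * y * g⁻¹ ∈ Subgroup.centralizer (Subgroup.zpowers b : Set G)
    · left
      intro a ha
      have h1 := hPC _ (hg a ha)
      have h2 : (⟨g * y * g⁻¹, hyC⟩ : Subgroup.centralizer (Subgroup.zpowers b : Set G)) *
          ⟨g * a * g⁻¹, h1⟩ = ⟨g * a * g⁻¹, h1⟩ * ⟨g * y * g⁻¹, hyC⟩ := hab.is_comm.comm _ _
      have h3 : (g * y * g⁻¹) * (g * a * g⁻¹) = (g * a * g⁻¹) * (g * y * g⁻¹) :=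
        congrArg Subtype.val h2
      have h4 : g * (y * a) * g⁻¹ = g * (a * y) * g⁻¹ := by
        calc g * (y * a) * g⁻¹ = (g * y * g⁻¹) * (g * a * g⁻¹) := by group
          _ = (g * a * g⁻¹) * (g * y * g⁻¹) := h3
          _ = g * (a * y) * g⁻¹ := by group
      exact mul_left_cancel (mul_right_cancel h4)
    · right
      obtain ⟨ho, hi⟩ := hinv _ hy'N hyC
      refine ⟨?_, ?_⟩
      · intro a ha
        have h1 := hi _ (hPC _ (hg a ha))
        have h4 : g * (y * a * y⁻¹) * g⁻¹ = g * a⁻¹ * g⁻¹ := by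
          calc g * (y * a * y⁻¹) * g⁻¹ = (g * y * g⁻¹) * (g * a * g⁻¹) * (g * y * g⁻¹)⁻¹ := by group
            _ = (g * a * g⁻¹)⁻¹ := h1
            _ = g * a⁻¹ * g⁻¹ := by group
        exact mul_left_cancel (mul_right_cancel h4)
      · rw [← ho]
        exact ((MulAut.conj g).orderOf_eq y).symm

include hp2 in
/-- the backward direction -/
theorem backward : Restricted p G := by
  have hp : p.Prime := Fact.out
  intro H hpbc
  obtain ⟨hn, hc⟩ := hpbc
  obtain ⟨S⟩ : Nonempty (Sylow p ↥H) := inferInstance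
  have hSn : (S : Subgroup ↥H).Normal := hn S
  have hcyc : IsCyclic (↥H ⧸ (S : Subgroup ↥H)) := hc S
  obtain ⟨γ, hγ⟩ := hcyc
  obtain ⟨g₀, rfl⟩ := QuotientGroup.mk_surjective γ
  obtain ⟨e, he⟩ := IsPGroup.iff_card.mp S.isPGroup'
  have hidx : ¬ p ∣ (S : Subgroup ↥H).index := S.not_dvd_index
  have hcardH : p ^ e * (S : Subgroup ↥H).index = Nat.card H := by
    rw [← he]; exact Subgroup.card_mul_index _
  -- the `p'`-element
  obtain ⟨y₀, hy₀⟩ : ∃ y₀ : H, y₀ = g₀ ^ (p ^ e) := ⟨_, rfl⟩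
  have hy₀pow : y₀ ^ (S : Subgroup ↥H).index = 1 := by
    rw [hy₀, ← pow_mul, hcardH, pow_card_eq_one']
  have hy₀cop : Nat.Coprime (orderOf y₀) p := by
    have h1 : orderOf y₀ ∣ (S : Subgroup ↥H).index := orderOf_dvd_of_pow_eq_one hy₀pow
    rw [Nat.coprime_comm, Nat.Prime.coprime_iff_not_dvd hp]
    intro h
    exact hidx (h.trans h1)
  have hγord : orderOf (QuotientGroup.mk g₀ : ↥H ⧸ (S : Subgroup ↥H)) = (S : Subgroup ↥H).index :=
    orderOf_eq_card_of_forall_mem_zpowers hγ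
  have hγmem : (QuotientGroup.mk g₀ : ↥H ⧸ (S : Subgroup ↥H)) ∈
      Subgroup.zpowers (QuotientGroup.mk y₀ : ↥H ⧸ (S : Subgroup ↥H)) := by
    have hcop : (p ^ e).Coprime (orderOf (QuotientGroup.mk g₀ : ↥H ⧸ (S : Subgroup ↥H))) := by
      rw [hγord]
      exact ((Nat.Prime.coprime_iff_not_dvd hp).mpr hidx).pow_left e
    obtain ⟨m, hm⟩ := exists_pow_eq_self_of_coprime hcop
    rw [← hm, hy₀, QuotientGroup.mk_pow]
    exact Subgroup.pow_mem _ (Subgroup.mem_zpowers _) m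
  have hfac₀ : ∀ h : H, ∃ i : ℤ, (y₀ ^ i)⁻¹ * h ∈ (S : Subgroup ↥H) := by
    intro h
    have h1 : (QuotientGroup.mk h : ↥H ⧸ (S : Subgroup ↥H)) ∈
        Subgroup.zpowers (QuotientGroup.mk y₀ : ↥H ⧸ (S : Subgroup ↥H)) :=
      (Subgroup.zpowers_le.mpr hγmem) (hγ _)
    obtain ⟨i, hi⟩ := Subgroup.mem_zpowers_iff.mp h1
    refine ⟨i, ?_⟩
    rw [← QuotientGroup.eq, QuotientGroup.mk_zpow, hi]
  -- pass to `G`
  obtain ⟨R, hRdef⟩ : ∃ R : Subgroup G, R = (S : Subgroup ↥H).map H.subtype := ⟨_, rfl⟩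
  obtain ⟨y, hydef⟩ : ∃ y : G, y = (y₀ : G) := ⟨_, rfl⟩
  have hyH : y ∈ H := hydef ▸ y₀.2
  have hRH : R ≤ H := by
    rw [hRdef]
    rintro _ ⟨s, -, rfl⟩
    exact s.2
  have hRp : IsPGroup p R := hRdef ▸ S.isPGroup'.map _
  have hyord : orderOf y = orderOf y₀ := by rw [hydef, Subgroup.orderOf_coe]
  have hyN : y ∈ Subgroup.normalizer (R : Set G) := by
    have h1 := Subgroup.le_normalizer_map (H := (S : Subgroup ↥H)) H.subtype
    rw [← hRdef] at h1
    apply h1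
    refine ⟨y₀, ?_, hydef.symm⟩
    rw [Subgroup.normalizer_eq_top]
    exact Subgroup.mem_top _
  have hfac : ∀ h ∈ H, ∃ u ∈ Subgroup.zpowers y, ∃ s ∈ R, h = u * s := by
    intro h hh
    obtain ⟨i, hi⟩ := hfac₀ ⟨h, hh⟩
    refine ⟨y ^ i, Subgroup.zpow_mem _ (Subgroup.mem_zpowers y) i, (y ^ i)⁻¹ * h, ?_, by group⟩
    rw [hRdef]
    refine ⟨_, hi, ?_⟩
    rw [hydef]
    simp
  have hcardR : Nat.card R = p ^ e := by
    rw [hRdef, Subgroup.card_map_of_injective H.subtype_injective, he]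
  have hcop : Nat.Coprime (orderOf y) (Nat.card R) := by
    rw [hyord, hcardR]; exact hy₀cop.pow_right e
  -- conjugate into `P`
  obtain ⟨g, hg⟩ := exists_conj_mem_sylow P R hRp
  have hRcyc : IsCyclic R := by
    obtain ⟨T, hT⟩ : ∃ T : Subgroup G, T = R.map (MulAut.conj g).toMonoidHom := ⟨_, rfl⟩
    have hTP : T ≤ (P : Subgroup G) := by
      rw [hT]
      rintro _ ⟨a, ha, rfl⟩
      exact hg a ha
    have := hPc
    have hTc : IsCyclic T := Subgroup.isCyclic_of_le hTP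
    have eRT : R ≃* T := by
      rw [hT]
      exact Subgroup.equivMapOfInjective R _ (MulAut.conj g).injective
    exact isCyclic_of_surjective eRT.symm eRT.symm.surjective
  obtain ⟨a₀, ha₀⟩ := (Subgroup.isCyclic_iff_exists_zpowers_eq_top R).mp hRcyc
  have ha₀R : a₀ ∈ R := ha₀ ▸ Subgroup.mem_zpowers a₀
  rcases dichotomy_back P hPc hcase R hRp g hg ha₀ hyN with hcomm | ⟨hinv, hy2⟩
  · left
    exact isCyclic_of_comm H R hRH hyH ha₀ hfac hcop (hcomm a₀ ha₀R)
  · by_cases ha₀1 : a₀ = 1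
    · left
      apply isCyclic_of_comm H R hRH hyH ha₀ hfac hcop
      rw [ha₀1, mul_one, one_mul]
    · right
      exact ⟨e, dihedral_of_inv hp2 H R hRH hyH ha₀ hfac hcardR hy2 (hinv a₀ ha₀R) ha₀1⟩

end Main


end Cfsg.Agent.H2.PByCyclic
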