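import Mathlib
import Cfsg.Agent.H2.PByCyclic
import Cfsg.Agent.S0206
import Cfsg.Agent.S0228

set_option autoImplicit false

/-!
# Groups whose `2`-by-cyclic subgroups are cyclic, dihedral or `A₄`
-/

namespace Cfsg.Agent.H2.TwoByCyclic

open Cfsg.Agent.H2.ItoTwo Cfsg.Agent.H2.PByCyclic

variable {G : Type*} [Group G]

/-- the basic trick: an element of odd order cannot act on a coset by a nontrivial `2`-element
it commutes with -/
theorem odd_trick {y t z : G} {m k : ℕ} (hm : Odd m) (hy : y ^ m = 1) (hz : z ^ (2 ^ k) = 1)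
    (hyz : y * z = z * y) (ht : y * t * y⁻¹ = t * z) : z = 1 := by
  have h1 : ∀ i : ℕ, y ^ i * t * (y ^ i)⁻¹ = t * z ^ i := by
    intro i
    induction i with
    | zero => simp
    | succ i ih =>
      have hc : y * z ^ i = z ^ i * y := Commute.pow_right hyz i
      calc y ^ (i + 1) * t * (y ^ (i + 1))⁻¹ = y * (y ^ i * t * (y ^ i)⁻¹) * y⁻¹ := by
            rw [pow_succ']; group
        _ = y * (t * z ^ i) * y⁻¹ := by rw [ih]
        _ = (y * t * y⁻¹) * (y * z ^ i * y⁻¹) := by group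
        _ = t * z * z ^ i := by rw [ht, hc]; group
        _ = t * z ^ (i + 1) := by rw [pow_succ', mul_assoc]
  have h2 := h1 m
  rw [hy, inv_one, mul_one, one_mul] at h2
  have h2' : z ^ m = 1 := by
    have := mul_left_cancel (a := t) (b := 1) (c := z ^ m) (by rw [mul_one]; exact h2)
    exact this.symm
  have h3 : orderOf z ∣ m := orderOf_dvd_of_pow_eq_one h2'
  have h4 : orderOf z ∣ 2 ^ k := orderOf_dvd_of_pow_eq_one hz
  have h5 : Nat.Coprime m (2 ^ k) := Nat.Coprime.pow_right k hm.coprime_two_right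
  have h6 : orderOf z ∣ Nat.gcd m (2 ^ k) := Nat.dvd_gcd h3 h4
  rw [h5, Nat.dvd_one] at h6
  exact orderOf_eq_one_iff.mp h6

/-- an element of odd order normalizing a cyclic `2`-group centralizes it -/
theorem odd_centralizes_cyclic {m : ℕ} (hm : Odd m) {y : G} (hy : y ^ m = 1) :
    ∀ (n : ℕ) (a : G), a ^ (2 ^ n) = 1 →
      y ∈ Subgroup.normalizer (Subgroup.zpowers a : Set G) → y * a = a * y := by
  intro n
  induction n with
  | zero =>
    intro a ha _
    rw [pow_zero, pow_one] at ha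
    rw [ha, mul_one, one_mul]
  | succ n ih =>
    intro a ha hyN
    have ha2 : (a ^ 2) ^ (2 ^ n) = 1 := by rw [← pow_mul, ← pow_succ', ha]
    have hyN2 : y ∈ Subgroup.normalizer (Subgroup.zpowers (a ^ 2) : Set G) := by
      have := conj_normalizer_zpowers (1 : G) 2 hyN
      simpa using this
    have hc2 : y * a ^ 2 = a ^ 2 * y := ih (a ^ 2) ha2 hyN2
    have hcz : ∀ j : ℤ, y * (a ^ 2) ^ j = (a ^ 2) ^ j * y := fun j => Commute.zpow_right hc2 j
    obtain ⟨k, hk⟩ := Subgroup.mem_zpowers_iff.mp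
      ((Subgroup.mem_normalizer_iff.mp hyN a).mp (Subgroup.mem_zpowers a))
    rcases Int.even_or_odd' k with ⟨j, hj | hj⟩
    · have h1 : y * a * y⁻¹ = (a ^ 2) ^ j := by
        rw [← hk, hj, zpow_mul, zpow_ofNat]
      have h2 : a = (a ^ 2) ^ j := by
        calc a = y⁻¹ * (y * a * y⁻¹) * y := by group
          _ = y⁻¹ * ((a ^ 2) ^ j * y) := by rw [h1]; group
          _ = y⁻¹ * (y * (a ^ 2) ^ j) := by rw [hcz j]
          _ = (a ^ 2) ^ j := by group
      rw [h2]; exact hcz j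
    · have h1 : y * a * y⁻¹ = a * (a ^ 2) ^ j := by
        rw [← hk, hj, zpow_add, zpow_one, zpow_mul, zpow_ofNat]
        have : Commute ((a ^ 2) ^ j) a := ((Commute.refl a).pow_left 2).zpow_left j
        exact this.eq
      have hz : ((a ^ 2) ^ j) ^ (2 ^ n) = 1 := by
        rw [← zpow_natCast, ← zpow_mul, mul_comm, zpow_mul, zpow_natCast, ha2, one_zpow]
      have := odd_trick hm hy hz (hcz j) h1
      rw [this, mul_one] at h1
      calc y * a = (y * a * y⁻¹) * y := by group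
        _ = a * y := by rw [h1]

/-- `R` is the union of `⟨c⟩` and `t⟨c⟩` where the involution `t ∉ ⟨c⟩` inverts `c` -/
def DihShape (R : Subgroup G) (c t : G) : Prop :=
  c ∈ R ∧ t ∈ R ∧ t * t = 1 ∧ t * c * t⁻¹ = c⁻¹ ∧ t ∉ Subgroup.zpowers c ∧
    ∀ s ∈ R, s ∈ Subgroup.zpowers c ∨ ∃ w ∈ Subgroup.zpowers c, s = t * w

theorem dihShape_of_equiv {N : ℕ} [NeZero N] (P : Subgroup G) (e : P ≃* DihedralGroup N) :
    ∃ ρ τ : G, DihShape P ρ τ := by
  obtain ⟨ρ, hρ⟩ : ∃ ρ : P, ρ = e.symm (DihedralGroup.r 1) := ⟨_, rfl⟩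
  obtain ⟨τ, hτ⟩ : ∃ τ : P, τ = e.symm (DihedralGroup.sr 0) := ⟨_, rfl⟩
  have heρ : e ρ = DihedralGroup.r 1 := by rw [hρ, MulEquiv.apply_symm_apply]
  have heτ : e τ = DihedralGroup.sr 0 := by rw [hτ, MulEquiv.apply_symm_apply]
  refine ⟨ρ, τ, ρ.2, τ.2, ?_, ?_, ?_, ?_⟩
  · have : τ * τ = 1 := by
      apply e.injective
      rw [map_mul, heτ, DihedralGroup.sr_mul_self, map_one]
    exact congrArg Subtype.val this
  · have : τ * ρ * τ⁻¹ = ρ⁻¹ := by
      apply e.injective
      rw [map_mul, map_mul, map_inv, map_inv, heτ, heρ, DihedralGroup.inv_sr,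
        DihedralGroup.sr_mul_r, DihedralGroup.sr_mul_sr, DihedralGroup.inv_r]
      congr 1
      ring
    exact congrArg Subtype.val this
  · intro h
    obtain ⟨i, hi⟩ := Subgroup.mem_zpowers_iff.mp h
    have h1 : ρ ^ i = τ := by
      apply Subtype.ext
      rw [Subgroup.coe_zpow]; exact hi
    have h2 := congrArg e h1
    rw [map_zpow, heρ, heτ, DihedralGroup.r_one_zpow] at h2
    cases h2
  · intro x hx
    rcases hex : e ⟨x, hx⟩ with i | i
    · left
      have h1 : (⟨x, hx⟩ : P) = ρ ^ i.val := by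
        apply e.injective
        rw [hex, map_pow, heρ, DihedralGroup.r_one_pow, ZMod.natCast_zmod_val]
      have h2 := congrArg Subtype.val h1
      rw [Subgroup.coe_pow] at h2
      change x = (ρ : G) ^ i.val at h2
      rw [h2]
      exact Subgroup.pow_mem _ (Subgroup.mem_zpowers _) _
    · right
      refine ⟨(ρ : G) ^ i.val, Subgroup.pow_mem _ (Subgroup.mem_zpowers _) _, ?_⟩
      have h1 : (⟨x, hx⟩ : P) = τ * ρ ^ i.val := by
        apply e.injective
        rw [hex, map_mul, map_pow, heρ, heτ, DihedralGroup.r_one_pow, ZMod.natCast_zmod_val,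
          DihedralGroup.sr_mul_r, zero_add]
      have h2 := congrArg Subtype.val h1
      rw [Subgroup.coe_mul, Subgroup.coe_pow] at h2
      exact h2

section Shape

variable {R : Subgroup G} {c t : G} (hD : DihShape R c t)

include hD

theorem DihShape.inv_of_mem {u : G} (hu : u ∈ Subgroup.zpowers c) : t * u * t⁻¹ = u⁻¹ := by
  obtain ⟨-, -, -, hinv, -, -⟩ := hD
  obtain ⟨i, rfl⟩ := Subgroup.mem_zpowers_iff.mp hu
  rw [← conj_zpow, hinv, inv_zpow]

theorem DihShape.t_inv : t⁻¹ = t := inv_eq_of_mul_eq_one_left hD.2.2.1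

theorem DihShape.sq_of_mem {u : G} (hu : u ∈ Subgroup.zpowers c) : (t * u) * (t * u) = 1 := by
  have h1 := hD.inv_of_mem hu
  rw [hD.t_inv] at h1
  calc (t * u) * (t * u) = (t * u * t) * u := by group
    _ = 1 := by rw [h1, inv_mul_cancel]

theorem DihShape.not_mem {u : G} (hu : u ∈ Subgroup.zpowers c) : t * u ∉ Subgroup.zpowers c := by
  intro h
  apply hD.2.2.2.2.1
  have := Subgroup.mul_mem _ h (Subgroup.inv_mem _ hu)
  rwa [mul_inv_cancel_right] at this

/-- a subgroup of a dihedral-shaped group is cyclic or dihedral-shaped -/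
theorem DihShape.subgroup {Q : Subgroup G} (hQR : Q ≤ R) :
    IsCyclic Q ∨ ∃ c' t', DihShape Q c' t' := by
  by_cases hle : Q ≤ Subgroup.zpowers c
  · left
    exact Subgroup.isCyclic_of_le hle
  right
  obtain ⟨t', ht'Q, ht'c⟩ := SetLike.not_le_iff_exists.mp hle
  have hcyc : IsCyclic (Q ⊓ Subgroup.zpowers c : Subgroup G) :=
    Subgroup.isCyclic_of_le (inf_le_right : Q ⊓ Subgroup.zpowers c ≤ Subgroup.zpowers c)
  obtain ⟨c', hc'⟩ := (Subgroup.isCyclic_iff_exists_zpowers_eq_top _).mp hcyc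
  have hc'mem : c' ∈ Q ⊓ Subgroup.zpowers c := hc' ▸ Subgroup.mem_zpowers c'
  have hzle : Subgroup.zpowers c' ≤ Subgroup.zpowers c := hc' ▸ inf_le_right
  obtain ⟨u, hu, ht'u⟩ : ∃ u ∈ Subgroup.zpowers c, t' = t * u := by
    rcases hD.2.2.2.2.2 t' (hQR ht'Q) with h | h
    · exact absurd h ht'c
    · exact h
  refine ⟨c', t', (Subgroup.mem_inf.mp hc'mem).1, ht'Q, ?_, ?_, ?_, ?_⟩
  · rw [ht'u]; exact hD.sq_of_mem hu
  · have hcomm : u * c' = c' * u := by
      obtain ⟨i, rfl⟩ := Subgroup.mem_zpowers_iff.mp hu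
      obtain ⟨j, hj⟩ := Subgroup.mem_zpowers_iff.mp (Subgroup.mem_inf.mp hc'mem).2
      rw [← hj]
      exact ((Commute.refl c).zpow_left i).zpow_right j
    rw [ht'u]
    calc t * u * c' * (t * u)⁻¹ = t * (u * c' * u⁻¹) * t⁻¹ := by group
      _ = t * c' * t⁻¹ := by rw [hcomm, mul_inv_cancel_right]
      _ = c'⁻¹ := hD.inv_of_mem (Subgroup.mem_inf.mp hc'mem).2
  · intro h
    exact ht'c (hzle h)
  · intro s hs
    rcases hD.2.2.2.2.2 s (hQR hs) with h | ⟨w, hw, hsw⟩
    · left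
      rw [hc']
      exact Subgroup.mem_inf.mpr ⟨hs, h⟩
    · right
      refine ⟨t'⁻¹ * s, ?_, by group⟩
      rw [hc']
      refine Subgroup.mem_inf.mpr ⟨Q.mul_mem (Q.inv_mem ht'Q) hs, ?_⟩
      have : t'⁻¹ * s = u⁻¹ * w := by
        rw [ht'u, hsw]; group
      rw [this]
      exact Subgroup.mul_mem _ (Subgroup.inv_mem _ hu) hw

theorem DihShape.t_ne_one : t ≠ 1 := by
  intro h
  apply hD.2.2.2.2.1
  rw [h]; exact Subgroup.one_mem _

theorem DihShape.closure_eq : Subgroup.closure ({t, t * c} : Set G) = R := by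
  obtain ⟨hcR, htR, -, -, -, hall⟩ := hD
  apply le_antisymm
  · rw [Subgroup.closure_le]
    rintro x (rfl | rfl)
    · exact htR
    · exact R.mul_mem htR hcR
  · have ht : t ∈ Subgroup.closure ({t, t * c} : Set G) := Subgroup.subset_closure (by simp)
    have htc : t * c ∈ Subgroup.closure ({t, t * c} : Set G) := Subgroup.subset_closure (by simp)
    have hc : c ∈ Subgroup.closure ({t, t * c} : Set G) := by
      have := Subgroup.mul_mem _ (Subgroup.inv_mem _ ht) htc
      rwa [inv_mul_cancel_left] at this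
    have hz : Subgroup.zpowers c ≤ Subgroup.closure ({t, t * c} : Set G) :=
      Subgroup.zpowers_le.mpr hc
    intro s hs
    rcases hall s hs with h | ⟨w, hw, rfl⟩
    · exact hz h
    · exact Subgroup.mul_mem _ ht (hz hw)

end Shape

theorem DihShape.equiv_dihedral [Finite G] {R : Subgroup G} {c t : G} (hD : DihShape R c t)
    (hc1 : c ≠ 1) : Nonempty (R ≃* DihedralGroup (orderOf c)) := by
  have ht2 : orderOf t = 2 := orderOf_eq_prime (by rw [pow_two]; exact hD.2.2.1) hD.t_ne_one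
  have htc2 : orderOf (t * c) = 2 := by
    apply orderOf_eq_prime
    · rw [pow_two]; exact hD.sq_of_mem (Subgroup.mem_zpowers c)
    · intro h
      apply hD.not_mem (Subgroup.mem_zpowers c)
      rw [h]; exact Subgroup.one_mem _
  have hne : t ≠ t * c := by
    intro h
    exact hc1 (mul_eq_left.mp h.symm)
  obtain ⟨e⟩ := Cfsg.Agent.S0206.result t (t * c) ht2 htc2 hne
  have h1 : t * (t * c) = c := by rw [← mul_assoc, hD.2.2.1, one_mul]
  rw [h1] at e
  exact ⟨(MulEquiv.subgroupCongr hD.closure_eq.symm).trans e⟩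

theorem mem_zpowers_of_sq {a x : G} (ha : a ^ 2 = 1) (hx : x ∈ Subgroup.zpowers a) :
    x = 1 ∨ x = a := by
  obtain ⟨i, rfl⟩ := Subgroup.mem_zpowers_iff.mp hx
  rcases Int.even_or_odd' i with ⟨j, hj | hj⟩
  · left; rw [hj, zpow_mul, zpow_ofNat, ha, one_zpow]
  · right; rw [hj, zpow_add, zpow_one, zpow_mul, zpow_ofNat, ha, one_zpow, one_mul]

theorem comm_of_sq (K : Subgroup G) (hexp : ∀ k ∈ K, k ^ 2 = 1) {a b : G} (ha : a ∈ K)
    (hb : b ∈ K) : a * b = b * a := by
  have h1 := hexp a ha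
  have h2 := hexp b hb
  have h3 := hexp (a * b) (K.mul_mem ha hb)
  rw [pow_two] at h1 h2 h3
  calc a * b = a * (a * b * (a * b)) * b := by rw [h3, mul_one]
    _ = (a * a) * (b * a) * (b * b) := by group
    _ = b * a := by rw [h1, h2, one_mul, mul_one]

theorem four_enum [Finite G] (K : Subgroup G) (hK4 : Nat.card K = 4) (hexp : ∀ k ∈ K, k ^ 2 = 1)
    {a b : G} (ha : a ∈ K) (hb : b ∈ K) (ha1 : a ≠ 1) (hb1 : b ≠ 1) (hab : a ≠ b) :
    ∀ x ∈ K, x = 1 ∨ x = a ∨ x = b ∨ x = a * b := by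
  intro x hx
  obtain ⟨L, hL⟩ : ∃ L : Subgroup K, L = Subgroup.zpowers (⟨a, ha⟩ : K) := ⟨_, rfl⟩
  have ha2 : (⟨a, ha⟩ : K) ^ 2 = 1 := Subtype.ext (by simpa using hexp a ha)
  have hmemL : ∀ z : K, z ∈ L → (z : G) = 1 ∨ (z : G) = a := by
    intro z hz
    rw [hL] at hz
    rcases mem_zpowers_of_sq ha2 hz with h | h
    · left; rw [h]; rfl
    · right; rw [h]
  have hcardL : Nat.card L = 2 := by
    rw [hL, Nat.card_zpowers]
    exact orderOf_eq_prime ha2 (fun h => ha1 (congrArg Subtype.val h))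
  have hidx : L.index = 2 := by
    have := L.card_mul_index
    rw [hcardL, hK4] at this
    omega
  have hbL : (⟨b, hb⟩ : K) ∉ L := by
    intro h
    rcases hmemL _ h with h | h
    · exact hb1 h
    · exact hab h.symm
  by_cases hxL : (⟨x, hx⟩ : K) ∈ L
  · rcases hmemL _ hxL with h | h
    · left; exact h
    · right; left; exact h
  · have h1 : (⟨x, hx⟩ : K) * ⟨b, hb⟩ ∈ L := by
      rw [Subgroup.mul_mem_iff_of_index_two hidx]
      exact ⟨fun h => absurd h hxL, fun h => absurd h hbL⟩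
    have hbinv : b⁻¹ = b := by
      have := hexp b hb
      rw [pow_two] at this
      exact inv_eq_of_mul_eq_one_left this
    rcases hmemL _ h1 with h | h
    · right; right; left
      change x * b = 1 at h
      rw [← hbinv]; exact eq_inv_of_mul_eq_one_left h
    · right; right; right
      change x * b = a at h
      rw [← h, mul_assoc, ← pow_two, hexp b hb, mul_one]

theorem klein_fix [Finite G] (K : Subgroup G) (hK4 : Nat.card K = 4) (hexp : ∀ k ∈ K, k ^ 2 = 1)
    {m : ℕ} (hm : Odd m) {y : G} (hy : y ^ m = 1) (hyN : y ∈ Subgroup.normalizer (K : Set G))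
    {k₁ : G} (hk₁ : k₁ ∈ K) (hk₁1 : k₁ ≠ 1) (hfix : y * k₁ = k₁ * y) :
    ∀ k₂ ∈ K, y * k₂ = k₂ * y := by
  intro k₂ hk₂
  by_cases h1 : k₂ = 1
  · rw [h1, mul_one, one_mul]
  by_cases h2 : k₂ = k₁
  · rw [h2]; exact hfix
  have hconj : y * k₂ * y⁻¹ ∈ K := (Subgroup.mem_normalizer_iff.mp hyN k₂).mp hk₂
  have hcomm : k₁ * k₂ = k₂ * k₁ := comm_of_sq K hexp hk₁ hk₂
  rcases four_enum K hK4 hexp hk₁ hk₂ hk₁1 h1 (Ne.symm h2) _ hconj with h | h | h | h
  · exfalso; exact h1 (conj_eq_one_iff.mp h)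
  · exfalso
    apply h2
    calc k₂ = y⁻¹ * (y * k₂ * y⁻¹) * y := by group
      _ = y⁻¹ * (k₁ * y) := by rw [h]; group
      _ = k₁ := by rw [← hfix]; group
  · calc y * k₂ = (y * k₂ * y⁻¹) * y := by group
      _ = k₂ * y := by rw [h]
  · have h' : y * k₂ * y⁻¹ = k₂ * k₁ := by rw [h, hcomm]
    have hz : k₁ ^ (2 ^ 1) = 1 := by rw [pow_one]; exact hexp k₁ hk₁
    have := odd_trick hm hy hz hfix h'
    exact absurd this hk₁1

theorem klein_main [Finite G] (K : Subgroup G) (hK4 : Nat.card K = 4)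
    (hexp : ∀ k ∈ K, k ^ 2 = 1) (hcent : ∀ x : G, (∀ k ∈ K, x * k = k * x) → x ∈ K)
    {m : ℕ} (hm : Odd m) {y : G} (hy : y ^ m = 1)
    (hyN : y ∈ Subgroup.normalizer (K : Set G)) :
    y = 1 ∨ (y ^ 3 = 1 ∧ y ≠ 1 ∧ ∀ k ∈ K, k ≠ 1 → y * k ≠ k * y) := by
  have hodd_in_K : ∀ x ∈ K, x ^ m = 1 → x = 1 := by
    intro x hx hxm
    have h1 : orderOf x ∣ m := orderOf_dvd_of_pow_eq_one hxm
    have h2 : orderOf x ∣ 2 := orderOf_dvd_of_pow_eq_one (hexp x hx)
    have h3 := Nat.dvd_gcd h1 h2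
    have h4 : Nat.gcd m 2 = 1 := hm.coprime_two_right
    rw [h4, Nat.dvd_one] at h3
    exact orderOf_eq_one_iff.mp h3
  by_cases hcz : ∀ k ∈ K, y * k = k * y
  · left
    exact hodd_in_K y (hcent y hcz) hy
  right
  have hfpf : ∀ k ∈ K, k ≠ 1 → y * k ≠ k * y := by
    intro k hk hk1 hfix
    exact hcz (klein_fix K hK4 hexp hm hy hyN hk hk1 hfix)
  have hy1 : y ≠ 1 := by
    intro h; apply hcz; intro k _; rw [h, one_mul, mul_one]
  refine ⟨?_, hy1, hfpf⟩
  obtain ⟨c, hcK, hc1⟩ : ∃ c ∈ K, c ≠ 1 := by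
    by_contra hcon
    push Not at hcon
    apply hcz; intro k hk; rw [hcon k hk, mul_one, one_mul]
  obtain ⟨c', hc'⟩ : ∃ c', c' = y * c * y⁻¹ := ⟨_, rfl⟩
  have hc'K : c' ∈ K := hc' ▸ (Subgroup.mem_normalizer_iff.mp hyN c).mp hcK
  have hc'1 : c' ≠ 1 := by
    intro h; rw [hc'] at h; exact hc1 (conj_eq_one_iff.mp h)
  have hc'c : c ≠ c' := by
    intro h
    apply hfpf c hcK hc1
    calc y * c = (y * c * y⁻¹) * y := by group
      _ = c * y := by rw [← hc', ← h]
  obtain ⟨c'', hc''⟩ : ∃ c'', c'' = y * c' * y⁻¹ := ⟨_, rfl⟩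
  have hc''K : c'' ∈ K := hc'' ▸ (Subgroup.mem_normalizer_iff.mp hyN c').mp hc'K
  have hsq_fix : ∀ k, y ^ 2 * k = k * y ^ 2 → y * k = k * y := by
    intro k hk
    obtain ⟨j, hj⟩ := hm
    have h1 : y = (y ^ 2) ^ (j + 1) := by
      have e : 2 * (j + 1) = m + 1 := by omega
      rw [← pow_mul, e, pow_succ, hy, one_mul]
    rw [h1]
    exact Commute.pow_left hk (j + 1)
  have hc''val : c'' = c * c' := by
    rcases four_enum K hK4 hexp hcK hc'K hc1 hc'1 hc'c c'' hc''K with h | h | h | h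
    · exfalso; rw [hc''] at h; exact hc'1 (conj_eq_one_iff.mp h)
    · exfalso
      apply hfpf c hcK hc1
      apply hsq_fix
      have : y ^ 2 * c * (y ^ 2)⁻¹ = c := by
        calc y ^ 2 * c * (y ^ 2)⁻¹ = y * (y * c * y⁻¹) * y⁻¹ := by rw [pow_two]; group
          _ = c := by rw [← hc', ← hc'', h]
      calc y ^ 2 * c = (y ^ 2 * c * (y ^ 2)⁻¹) * y ^ 2 := by group
        _ = c * y ^ 2 := by rw [this]
    · exfalso
      apply hfpf c' hc'K hc'1
      calc y * c' = (y * c' * y⁻¹) * y := by group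
        _ = c' * y := by rw [← hc'', h]
    · exact h
  have hcc' : c * c' = c' * c := comm_of_sq K hexp hcK hc'K
  have hc''conj : y * c'' * y⁻¹ = c := by
    rw [hc''val]
    calc y * (c * c') * y⁻¹ = (y * c * y⁻¹) * (y * c' * y⁻¹) := by group
      _ = c' * (c * c') := by rw [← hc', ← hc'', hc''val]
      _ = c' * c' * c := by rw [hcc', mul_assoc]
      _ = c := by rw [← pow_two, hexp c' hc'K, one_mul]
  have h3c : y ^ 3 * c = c * y ^ 3 := by
    have : y ^ 3 * c * (y ^ 3)⁻¹ = c := by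
      calc y ^ 3 * c * (y ^ 3)⁻¹ = y * (y * (y * c * y⁻¹) * y⁻¹) * y⁻¹ := by
            rw [pow_succ, pow_two]; group
        _ = c := by rw [← hc', ← hc'', hc''conj]
    calc y ^ 3 * c = (y ^ 3 * c * (y ^ 3)⁻¹) * y ^ 3 := by group
      _ = c * y ^ 3 := by rw [this]
  have h3c' : y ^ 3 * c' = c' * y ^ 3 := by
    have : y ^ 3 * c' * (y ^ 3)⁻¹ = c' := by
      calc y ^ 3 * c' * (y ^ 3)⁻¹ = y * (y * (y * c' * y⁻¹) * y⁻¹) * y⁻¹ := by
            rw [pow_succ, pow_two]; group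
        _ = c' := by rw [← hc'', hc''conj, ← hc']
    calc y ^ 3 * c' = (y ^ 3 * c' * (y ^ 3)⁻¹) * y ^ 3 := by group
      _ = c' * y ^ 3 := by rw [this]
  have h3K : y ^ 3 ∈ K := by
    apply hcent
    intro k hk
    rcases four_enum K hK4 hexp hcK hc'K hc1 hc'1 hc'c k hk with h | h | h | h
    · rw [h, mul_one, one_mul]
    · rw [h]; exact h3c
    · rw [h]; exact h3c'
    · rw [h, ← mul_assoc, h3c, mul_assoc, h3c', ← mul_assoc]
  apply hodd_in_K _ h3K
  rw [← pow_mul, mul_comm, pow_mul, hy, one_pow]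

theorem dihedral_two_exp : ∀ x : DihedralGroup 2, x ^ 2 = 1 := by decide

theorem DihShape.main [Finite G] {R : Subgroup G} {c t : G} (hD : DihShape R c t) (hc1 : c ≠ 1)
    (hR2 : IsPGroup 2 R)
    (hK : ∀ K : Subgroup G, K ≤ R → Nat.card K = 4 → (∀ k ∈ K, k ^ 2 = 1) →
      Subgroup.centralizer (K : Set G) = K)
    {m : ℕ} (hm : Odd m) {y : G} (hy : y ^ m = 1)
    (hyN : y ∈ Subgroup.normalizer (R : Set G)) :
    y = 1 ∨ (Nat.card R = 4 ∧ (∀ x : G, (∀ k ∈ R, x * k = k * x) → x ∈ R) ∧ y ^ 3 = 1 ∧ y ≠ 1 ∧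
      ∀ k ∈ R, k ≠ 1 → y * k ≠ k * y) := by
  have hcR : c ∈ R := hD.1
  have htR : t ∈ R := hD.2.1
  obtain ⟨k, hk⟩ := (IsPGroup.iff_orderOf.mp hR2) ⟨c, hcR⟩
  rw [Subgroup.orderOf_mk] at hk
  have hk0 : k ≠ 0 := by
    intro h0
    rw [h0, pow_zero, orderOf_eq_one_iff] at hk
    exact hc1 hk
  obtain ⟨k', rfl⟩ := Nat.exists_eq_succ_of_ne_zero hk0
  obtain ⟨z, hz⟩ : ∃ z, z = c ^ (2 ^ k') := ⟨_, rfl⟩
  have hzord : orderOf z = 2 := by
    rw [hz, orderOf_pow_of_dvd (pow_pos (by norm_num) k').ne' (hk ▸ pow_dvd_pow 2 (Nat.le_succ k')),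
      hk, pow_succ, Nat.mul_div_cancel_left _ (pow_pos (by norm_num) k')]
  have hzc : z ∈ Subgroup.zpowers c := hz ▸ Subgroup.pow_mem _ (Subgroup.mem_zpowers c) _
  have hz1 : z ≠ 1 := by
    intro h
    rw [h, orderOf_one] at hzord
    norm_num at hzord
  have ht2 : orderOf t = 2 := orderOf_eq_prime (by rw [pow_two]; exact hD.2.2.1) hD.t_ne_one
  have htz2 : orderOf (t * z) = 2 := by
    apply orderOf_eq_prime
    · rw [pow_two]; exact hD.sq_of_mem hzc
    · intro h
      apply hD.not_mem hzc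
      rw [h]; exact Subgroup.one_mem _
  have hne : t ≠ t * z := fun h => hz1 (mul_eq_left.mp h.symm)
  obtain ⟨e⟩ := Cfsg.Agent.S0206.result t (t * z) ht2 htz2 hne
  have h1 : t * (t * z) = z := by rw [← mul_assoc, hD.2.2.1, one_mul]
  rw [h1, hzord] at e
  obtain ⟨K, hKdef⟩ : ∃ K, K = Subgroup.closure ({t, t * z} : Set G) := ⟨_, rfl⟩
  rw [← hKdef] at e
  have hK4 : Nat.card K = 4 := by rw [Nat.card_congr e.toEquiv, DihedralGroup.nat_card]
  have hKexp : ∀ x ∈ K, x ^ 2 = 1 := by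
    intro x hx
    have h2 := dihedral_two_exp (e ⟨x, hx⟩)
    rw [← map_pow, ← map_one e] at h2
    have h3 := e.injective h2
    have h4 := congrArg Subtype.val h3
    simpa using h4
  have hzR : z ∈ R := hz ▸ R.pow_mem hcR _
  have hKR : K ≤ R := by
    rw [hKdef, Subgroup.closure_le]
    rintro x (rfl | rfl)
    · exact htR
    · exact R.mul_mem htR hzR
  have hcentK := hK K hKR hK4 hKexp
  have hodd2 : ∀ x : G, x ^ 2 = 1 → x ^ m = 1 → x = 1 := by
    intro x hx2 hxm
    have h1 : orderOf x ∣ m := orderOf_dvd_of_pow_eq_one hxm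
    have h2 : orderOf x ∣ 2 := orderOf_dvd_of_pow_eq_one hx2
    have h3 := Nat.dvd_gcd h1 h2
    have h4 : Nat.gcd m 2 = 1 := hm.coprime_two_right
    rw [h4, Nat.dvd_one] at h3
    exact orderOf_eq_one_iff.mp h3
  by_cases hcc : c * c = 1
  · -- `R` is a four-group
    have hk'0 : k' = 0 := by
      have h2 : orderOf c ∣ 2 := orderOf_dvd_of_pow_eq_one (by rw [pow_two]; exact hcc)
      rw [hk] at h2
      have h3 := Nat.le_of_dvd (by norm_num) h2
      by_contra hne0
      have : 2 ^ 2 ≤ 2 ^ (k' + 1) := Nat.pow_le_pow_right (by norm_num) (by omega)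
      omega
    have hzc' : z = c := by rw [hz, hk'0, pow_zero, pow_one]
    have hKR' : K = R := by rw [hKdef, hzc']; exact hD.closure_eq
    rw [hKR'] at hK4 hKexp hcentK
    have hcent : ∀ x : G, (∀ k ∈ R, x * k = k * x) → x ∈ R := by
      intro x hx
      rw [← hcentK]
      exact mem_centralizer_set_iff.mpr hx
    rcases klein_main R hK4 hKexp hcent hm hy hyN with h | ⟨h3, hne1, hfpf⟩
    · left; exact h
    · right; exact ⟨hK4, hcent, h3, hne1, hfpf⟩
  · left
    have hconj_c : ∀ x ∈ Subgroup.normalizer (R : Set G), x * c * x⁻¹ ∈ Subgroup.zpowers c := by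
      intro x hx
      have h2 : x * c * x⁻¹ ∈ R := (Subgroup.mem_normalizer_iff.mp hx c).mp hcR
      rcases hD.2.2.2.2.2 _ h2 with h | ⟨w, hw, hxw⟩
      · exact h
      · exfalso
        have h3 := hD.sq_of_mem hw
        rw [← hxw] at h3
        apply hcc
        have h4 : x * (c * c) * x⁻¹ = 1 := by
          calc x * (c * c) * x⁻¹ = (x * c * x⁻¹) * (x * c * x⁻¹) := by group
            _ = 1 := h3
        exact conj_eq_one_iff.mp h4
    have hyNc : y ∈ Subgroup.normalizer (Subgroup.zpowers c : Set G) := by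
      apply mem_normalizer_zpowers (hconj_c y hyN)
      have := hconj_c y⁻¹ (Subgroup.inv_mem _ hyN)
      rwa [inv_inv] at this
    have hyc : y * c = c * y :=
      odd_centralizes_cyclic hm hy (k' + 1) c (by rw [← hk]; exact pow_orderOf_eq_one c) hyNc
    have hyw : ∀ w ∈ Subgroup.zpowers c, y * w = w * y := by
      intro w hw
      obtain ⟨i, rfl⟩ := Subgroup.mem_zpowers_iff.mp hw
      exact Commute.zpow_right hyc i
    have hyt : y * t = t * y := by
      have h2 : y * t * y⁻¹ ∈ R := (Subgroup.mem_normalizer_iff.mp hyN t).mp htR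
      rcases hD.2.2.2.2.2 _ h2 with h | ⟨w, hw, hxw⟩
      · exfalso
        apply hD.2.2.2.2.1
        have h3 : t = y * t * y⁻¹ := by
          calc t = y⁻¹ * (y * t * y⁻¹) * y := by group
            _ = y⁻¹ * ((y * t * y⁻¹) * y) := by group
            _ = y⁻¹ * (y * (y * t * y⁻¹)) := by rw [hyw _ h]
            _ = y * t * y⁻¹ := by group
        rw [h3]; exact h
      · have hw2 : w ^ (2 ^ (k' + 1)) = 1 := by
          obtain ⟨i, rfl⟩ := Subgroup.mem_zpowers_iff.mp hw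
          rw [← zpow_natCast, ← zpow_mul, mul_comm, zpow_mul, zpow_natCast, ← hk,
            pow_orderOf_eq_one, one_zpow]
        have := odd_trick hm hy hw2 (hyw w hw) hxw
        rw [this, mul_one] at hxw
        calc y * t = (y * t * y⁻¹) * y := by group
          _ = t * y := by rw [hxw]
    have hyK : y ∈ K := by
      rw [← hcentK, hKdef, Subgroup.centralizer_closure, Subgroup.mem_centralizer_iff]
      rintro x (rfl | rfl)
      · exact hyt.symm
      · rw [mul_assoc, ← hyw z hzc, ← mul_assoc, ← hyt, mul_assoc]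
    exact hodd2 y (hKexp y hyK) hy

/-- the right hand side of the statement -/
def Hyp (P : Sylow 2 G) : Prop :=
  IsCyclic (P : Subgroup G) ∨
    ((∃ n : ℕ, 1 ≤ n ∧ Nonempty ((P : Subgroup G) ≃* DihedralGroup (2 ^ n))) ∧
      ∀ K : Subgroup G, K ≤ P → Nat.card K = 4 → (∀ k ∈ K, k ^ 2 = 1) →
        Subgroup.centralizer (K : Set G) = K)

open scoped Pointwise in
theorem hyp_conj (P : Sylow 2 G) (g : G) (h : Hyp P) : Hyp (g • P) := by
  rcases h with hc | ⟨⟨n, hn, ⟨e⟩⟩, hK⟩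
  · left
    have e := Sylow.equivSMul P g
    exact isCyclic_of_surjective e e.surjective
  · right
    refine ⟨⟨n, hn, ⟨(Sylow.equivSMul P g).symm.trans e⟩⟩, ?_⟩
    intro K hKP hK4 hKexp
    obtain ⟨K', hK'⟩ : ∃ K', K' = K.map (MulAut.conj g⁻¹).toMonoidHom := ⟨_, rfl⟩
    have hmem : ∀ x, x ∈ K ↔ g⁻¹ * x * g ∈ K' := by
      intro x
      rw [hK']
      constructor
      · intro hx
        exact ⟨x, hx, by simp⟩
      · rintro ⟨k, hk, hkx⟩
        have h1 : g⁻¹ * k * g = g⁻¹ * x * g := by simpa [MulAut.conj_apply] using hkx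
        have : k = x := mul_left_cancel (mul_right_cancel h1)
        rwa [← this]
    have hK'P : K' ≤ (P : Subgroup G) := by
      rw [hK']
      rintro _ ⟨k, hk, rfl⟩
      have h1 : k ∈ ((g • P : Sylow 2 G) : Subgroup G) := hKP hk
      rw [Sylow.coe_subgroup_smul, Subgroup.mem_pointwise_smul_iff_inv_smul_mem] at h1
      simpa [MulAut.smul_def] using h1
    have hK'4 : Nat.card K' = 4 := by
      rw [hK', Subgroup.card_map_of_injective (MulAut.conj g⁻¹).injective, hK4]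
    have hK'exp : ∀ k ∈ K', k ^ 2 = 1 := by
      rw [hK']
      rintro _ ⟨k, hk, rfl⟩
      rw [← map_pow, hKexp k hk, map_one]
    have hcent := hK K' hK'P hK'4 hK'exp
    ext x
    rw [hmem x, ← hcent, mem_centralizer_set_iff, mem_centralizer_set_iff]
    constructor
    · intro hx k' hk'
      have h1 : g * k' * g⁻¹ ∈ K := by
        rw [hmem]
        have : g⁻¹ * (g * k' * g⁻¹) * g = k' := by group
        rwa [this]
      have h2 := hx _ h1
      calc g⁻¹ * x * g * k' = g⁻¹ * (x * (g * k' * g⁻¹)) * g := by group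
        _ = g⁻¹ * ((g * k' * g⁻¹) * x) * g := by rw [h2]
        _ = k' * (g⁻¹ * x * g) := by group
    · intro hx k hk
      have h2 := hx _ ((hmem k).mp hk)
      have h3 : g⁻¹ * (x * k) * g = g⁻¹ * (k * x) * g := by
        calc g⁻¹ * (x * k) * g = (g⁻¹ * x * g) * (g⁻¹ * k * g) := by group
          _ = (g⁻¹ * k * g) * (g⁻¹ * x * g) := h2
          _ = g⁻¹ * (k * x) * g := by group
      exact mul_left_cancel (mul_right_cancel h3)

theorem card_A4 : Nat.card (alternatingGroup (Fin 4)) = 12 := by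
  rw [nat_card_alternatingGroup]
  simp
  decide

theorem A4_noncomm : ∃ a c : alternatingGroup (Fin 4), a * c ≠ c * a := by
  refine ⟨⟨Equiv.swap 0 1 * Equiv.swap 2 3, Equiv.Perm.mem_alternatingGroup.2 (by decide)⟩,
    ⟨Equiv.swap 0 1 * Equiv.swap 1 2, Equiv.Perm.mem_alternatingGroup.2 (by decide)⟩, ?_⟩
  decide

theorem dihedral_comm_dvd {N : ℕ} [NeZero N]
    (h : ∀ a b : DihedralGroup N, a * b = b * a) : N ∣ 2 := by
  have h1 := h (DihedralGroup.r 1) (DihedralGroup.sr 0)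
  rw [DihedralGroup.r_mul_sr, DihedralGroup.sr_mul_r] at h1
  have h2 : (0 : ZMod N) - 1 = 0 + 1 := by
    injection h1
  have h3 : ((2 : ℕ) : ZMod N) = 0 := by
    have : (2 : ZMod N) = (0 + 1) - (0 - 1) := by ring
    rw [← h2, sub_self] at this
    exact_mod_cast this
  exact (ZMod.natCast_eq_zero_iff 2 N).mp h3

/-- the restricted `2`-by-cyclic subgroups property -/
def Restricted2 (G : Type*) [Group G] : Prop :=
  ∀ H : Subgroup G, PBC 2 H → IsCyclic H ∨ (∃ n : ℕ, Nonempty (H ≃* DihedralGroup (2 ^ n))) ∨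
    Nonempty (H ≃* alternatingGroup (Fin 4))

section Forward

variable [Finite G] (hres : Restricted2 G)

include hres

theorem cent_of_restricted (K : Subgroup G) (hK4 : Nat.card K = 4) (hKexp : ∀ k ∈ K, k ^ 2 = 1) :
    Subgroup.centralizer (K : Set G) = K := by
  apply le_antisymm
  · intro x hx
    have hxK : ∀ k ∈ K, x * k = k * x := mem_centralizer_set_iff.mp hx
    have hK2 : IsPGroup 2 K := IsPGroup.of_card (n := 2) (by rw [hK4]; norm_num)
    have hpbc := pbc_of_normalizes K hK2 x (Subgroup.centralizer_le_normalizer _ hx)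
    obtain ⟨H, hH⟩ : ∃ H, H = K ⊔ Subgroup.zpowers x := ⟨_, rfl⟩
    rw [← hH] at hpbc
    have hKH : K ≤ H := hH ▸ le_sup_left
    have hxH : x ∈ H := hH ▸ Subgroup.mem_sup_right (Subgroup.mem_zpowers x)
    -- `H` is abelian
    have hstep1 : ∀ z ∈ H, (∀ k ∈ K, z * k = k * z) ∧ z * x = x * z := by
      intro z hz
      have hle : H ≤ Subgroup.centralizer (K : Set G) ⊓ Subgroup.centralizer ({x} : Set G) := by
        rw [hH]
        apply sup_le
        · intro k hk
          refine Subgroup.mem_inf.mpr ⟨?_, ?_⟩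
          · rw [mem_centralizer_set_iff]
            intro k' hk'
            exact comm_of_sq K hKexp hk hk'
          · rw [Subgroup.mem_centralizer_singleton_iff]
            exact (hxK k hk).symm
        · rw [Subgroup.zpowers_le]
          refine Subgroup.mem_inf.mpr ⟨hx, ?_⟩
          rw [Subgroup.mem_centralizer_singleton_iff]
      have h1 := hle hz
      rw [Subgroup.mem_inf, mem_centralizer_set_iff, Subgroup.mem_centralizer_singleton_iff] at h1
      exact h1
    have hab : ∀ z ∈ H, ∀ w ∈ H, z * w = w * z := by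
      intro z hz
      have hle : H ≤ Subgroup.centralizer ({z} : Set G) := by
        rw [hH]
        apply sup_le
        · intro k hk
          rw [Subgroup.mem_centralizer_singleton_iff]
          exact ((hstep1 z hz).1 k hk).symm
        · rw [Subgroup.zpowers_le, Subgroup.mem_centralizer_singleton_iff]
          exact ((hstep1 z hz).2).symm
      intro w hw
      have := hle hw
      rw [Subgroup.mem_centralizer_singleton_iff] at this
      exact this.symm
    rcases hres H hpbc with hc | ⟨n, ⟨e⟩⟩ | ⟨⟨e⟩⟩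
    · exfalso
      have hKc : IsCyclic K := Subgroup.isCyclic_of_le hKH
      obtain ⟨k₀, hk₀⟩ := (Subgroup.isCyclic_iff_exists_zpowers_eq_top K).mp hKc
      have hk₀K : k₀ ∈ K := hk₀ ▸ Subgroup.mem_zpowers k₀
      have h1 : orderOf k₀ ∣ 2 := orderOf_dvd_of_pow_eq_one (hKexp k₀ hk₀K)
      rw [← Nat.card_zpowers, hk₀, hK4] at h1
      norm_num at h1
    · have hcomm : ∀ a b : DihedralGroup (2 ^ n), a * b = b * a := by
        intro a b
        have h1 := hab _ (e.symm a).2 _ (e.symm b).2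
        have h2 : e.symm a * e.symm b = e.symm b * e.symm a := Subtype.ext h1
        have h3 := congrArg e h2
        simpa using h3
      have hdvd := dihedral_comm_dvd hcomm
      have hcard : Nat.card H ≤ 4 := by
        rw [Nat.card_congr e.toEquiv, DihedralGroup.nat_card]
        have := Nat.le_of_dvd (by norm_num) hdvd
        omega
      have hKeq : K = H := Subgroup.eq_of_le_of_card_ge hKH (by rw [hK4]; exact hcard)
      rw [hKeq]; exact hxH
    · exfalso
      obtain ⟨a, c, hac⟩ := A4_noncomm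
      apply hac
      have h1 := hab _ (e.symm a).2 _ (e.symm c).2
      have h2 : e.symm a * e.symm c = e.symm c * e.symm a := Subtype.ext h1
      have h3 := congrArg e h2
      simpa using h3
  · intro k hk
    rw [mem_centralizer_set_iff]
    intro k' hk'
    exact comm_of_sq K hKexp hk hk'

theorem forward2 (P : Sylow 2 G) : Hyp P := by
  have hpbc := pbc_of_normalizes (P : Subgroup G) P.isPGroup' 1 (Subgroup.one_mem _)
  rw [Subgroup.zpowers_one_eq_bot, sup_bot_eq] at hpbc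
  rcases hres _ hpbc with hc | ⟨n, ⟨e⟩⟩ | ⟨⟨e⟩⟩
  · left; exact hc
  · by_cases hn : n = 0
    · left
      have h1 : Nat.card (P : Subgroup G) = 2 := by
        rw [Nat.card_congr e.toEquiv, DihedralGroup.nat_card, hn]; norm_num
      exact isCyclic_of_prime_card h1
    · right
      refine ⟨⟨n, by omega, ⟨e⟩⟩, ?_⟩
      intro K _ hK4 hKexp
      exact cent_of_restricted hres K hK4 hKexp
  · exfalso
    have h1 : Nat.card (P : Subgroup G) = 12 := by
      rw [Nat.card_congr e.toEquiv, card_A4]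
    obtain ⟨k, hk⟩ := IsPGroup.iff_card.mp P.isPGroup'
    rw [hk] at h1
    have h2 : 3 ∣ 2 ^ k := ⟨4, by rw [h1]⟩
    have h3 : 3 ∣ 2 := Nat.Prime.dvd_of_dvd_pow Nat.prime_three h2
    norm_num at h3

end Forward

section Backward

variable [Finite G]

/-- a `p`-by-cyclic subgroup is `R⟨y⟩` with `R` a `p`-subgroup normalized by the `p'`-element `y` -/
theorem exists_factor {p : ℕ} [Fact p.Prime] (H : Subgroup G) (hpbc : PBC p H) :
    ∃ (R : Subgroup G) (y : G) (e : ℕ), R ≤ H ∧ IsPGroup p R ∧ y ∈ H ∧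
      y ∈ Subgroup.normalizer (R : Set G) ∧ Nat.Coprime (orderOf y) p ∧ Nat.card R = p ^ e ∧
      ∀ h ∈ H, ∃ u ∈ Subgroup.zpowers y, ∃ s ∈ R, h = u * s := by
  have hp : p.Prime := Fact.out
  obtain ⟨hn, hc⟩ := hpbc
  obtain ⟨S⟩ : Nonempty (Sylow p ↥H) := inferInstance
  have hSn : (S : Subgroup ↥H).Normal := hn S
  have hcyc : IsCyclic (↥H ⧸ (S : Subgroup ↥H)) := hc S
  obtain ⟨γ, hγ⟩ := hcyc
  obtain ⟨g₀, rfl⟩ := QuotientGroup.mk_surjective γ
  obtain ⟨e, he⟩ := IsPGroup.iff_card.mp S.isPGroup'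
  have hidx : ¬ p ∣ (S : Subgroup ↥H).index := S.not_dvd_index
  have hcardH : p ^ e * (S : Subgroup ↥H).index = Nat.card H := by
    rw [← he]; exact Subgroup.card_mul_index _
  obtain ⟨y₀, hy₀⟩ : ∃ y₀ : H, y₀ = g₀ ^ (p ^ e) := ⟨_, rfl⟩
  have hy₀pow : y₀ ^ (S : Subgroup ↥H).index = 1 := by
    rw [hy₀, ← pow_mul, hcardH, pow_card_eq_one']
  have hy₀cop : Nat.Coprime (orderOf y₀) p := by
    have h1 : orderOf y₀ ∣ (S : Subgroup ↥H).index := orderOf_dvd_of_pow_eq_one hy₀pow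
    rw [Nat.coprime_comm, Nat.Prime.coprime_iff_not_dvd hp]
    intro h
    exact hidx (h.trans h1)
  have hγord : orderOf (QuotientGroup.mk g₀ : ↥H ⧸ (S : Subgroup ↥H)) = (S : Subgroup ↥H).index :=
    orderOf_eq_card_of_forall_mem_zpowers hγ
  have hγmem : (QuotientGroup.mk g₀ : ↥H ⧸ (S : Subgroup ↥H)) ∈
      Subgroup.zpowers (QuotientGroup.mk y₀ : ↥H ⧸ (S : Subgroup ↥H)) := by
    have hcop : (p ^ e).Coprime (orderOf (QuotientGroup.mk g₀ : ↥H ⧸ (S : Subgroup ↥H))) := by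
      rw [hγord]
      exact ((Nat.Prime.coprime_iff_not_dvd hp).mpr hidx).pow_left e
    obtain ⟨m, hm⟩ := exists_pow_eq_self_of_coprime hcop
    rw [← hm, hy₀, QuotientGroup.mk_pow]
    exact Subgroup.pow_mem _ (Subgroup.mem_zpowers _) m
  have hfac₀ : ∀ h : H, ∃ i : ℤ, (y₀ ^ i)⁻¹ * h ∈ (S : Subgroup ↥H) := by
    intro h
    have h1 : (QuotientGroup.mk h : ↥H ⧸ (S : Subgroup ↥H)) ∈
        Subgroup.zpowers (QuotientGroup.mk y₀ : ↥H ⧸ (S : Subgroup ↥H)) :=
      (Subgroup.zpowers_le.mpr hγmem) (hγ _)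
    obtain ⟨i, hi⟩ := Subgroup.mem_zpowers_iff.mp h1
    refine ⟨i, ?_⟩
    rw [← QuotientGroup.eq, QuotientGroup.mk_zpow, hi]
  obtain ⟨R, hRdef⟩ : ∃ R : Subgroup G, R = (S : Subgroup ↥H).map H.subtype := ⟨_, rfl⟩
  obtain ⟨y, hydef⟩ : ∃ y : G, y = (y₀ : G) := ⟨_, rfl⟩
  have hyH : y ∈ H := hydef ▸ y₀.2
  have hRH : R ≤ H := by
    rw [hRdef]
    rintro _ ⟨s, -, rfl⟩
    exact s.2
  have hRp : IsPGroup p R := hRdef ▸ S.isPGroup'.map _
  have hyord : orderOf y = orderOf y₀ := by rw [hydef, Subgroup.orderOf_coe]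
  have hyN : y ∈ Subgroup.normalizer (R : Set G) := by
    have h1 := Subgroup.le_normalizer_map (H := (S : Subgroup ↥H)) H.subtype
    rw [← hRdef] at h1
    apply h1
    refine ⟨y₀, ?_, hydef.symm⟩
    rw [Subgroup.normalizer_eq_top]
    exact Subgroup.mem_top _
  have hfac : ∀ h ∈ H, ∃ u ∈ Subgroup.zpowers y, ∃ s ∈ R, h = u * s := by
    intro h hh
    obtain ⟨i, hi⟩ := hfac₀ ⟨h, hh⟩
    refine ⟨y ^ i, Subgroup.zpow_mem _ (Subgroup.mem_zpowers y) i, (y ^ i)⁻¹ * h, ?_, by group⟩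
    rw [hRdef]
    refine ⟨_, hi, ?_⟩
    rw [hydef]
    simp
  have hcardR : Nat.card R = p ^ e := by
    rw [hRdef, Subgroup.card_map_of_injective H.subtype_injective, he]
  exact ⟨R, y, e, hRH, hRp, hyH, hyN, hyord ▸ hy₀cop, hcardR, hfac⟩

theorem backward2 (P : Sylow 2 G) (hP : Hyp P) : Restricted2 G := by
  intro H hpbc
  obtain ⟨R, y, e, hRH, hRp, hyH, hyN, hycop, hcardR, hfac⟩ := exists_factor H hpbc
  obtain ⟨m, hm⟩ : ∃ m, m = orderOf y := ⟨_, rfl⟩
  have hmodd : Odd m := by rw [hm]; exact Nat.coprime_two_right.mp hycop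
  have hym : y ^ m = 1 := hm ▸ pow_orderOf_eq_one y
  have hcop : Nat.Coprime (orderOf y) (Nat.card R) := by rw [hcardR]; exact hycop.pow_right e
  obtain ⟨P', hRP'⟩ := hRp.exists_le_sylow
  obtain ⟨g, hg⟩ := MulAction.exists_smul_eq G P P'
  have hP' : Hyp P' := hg ▸ hyp_conj P g hP
  have hcyc_case : IsCyclic R → IsCyclic H := by
    intro hRc
    obtain ⟨a₀, ha₀⟩ := (Subgroup.isCyclic_iff_exists_zpowers_eq_top R).mp hRc
    apply isCyclic_of_comm H R hRH hyH ha₀ hfac hcop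
    have ha₀2 : a₀ ^ (2 ^ e) = 1 := by
      rw [← hcardR, ← ha₀, Nat.card_zpowers, pow_orderOf_eq_one]
    exact odd_centralizes_cyclic hmodd hym e a₀ ha₀2 (ha₀ ▸ hyN)
  by_cases hRc : IsCyclic R
  · left; exact hcyc_case hRc
  rcases hP' with hc | ⟨⟨n, hn, ⟨eP⟩⟩, hK⟩
  · exact absurd (Subgroup.isCyclic_of_le hRP') hRc
  · have : NeZero (2 ^ n) := ⟨(pow_pos (by norm_num) n).ne'⟩
    obtain ⟨ρ, τ, hDP⟩ := dihShape_of_equiv (P' : Subgroup G) eP
    rcases hDP.subgroup hRP' with hc | ⟨c, t, hD⟩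
    · exact absurd hc hRc
    have hc1 : c ≠ 1 := by
      intro h
      apply hRc
      rw [Subgroup.isCyclic_iff_exists_zpowers_eq_top]
      refine ⟨t, le_antisymm (Subgroup.zpowers_le.mpr hD.2.1) ?_⟩
      intro s hs
      rcases hD.2.2.2.2.2 s hs with h' | ⟨w, hw, rfl⟩
      · rw [h, Subgroup.zpowers_one_eq_bot, Subgroup.mem_bot] at h'
        rw [h']; exact Subgroup.one_mem _
      · rw [h, Subgroup.zpowers_one_eq_bot, Subgroup.mem_bot] at hw
        rw [hw, mul_one]; exact Subgroup.mem_zpowers t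
    have hK' : ∀ K : Subgroup G, K ≤ R → Nat.card K = 4 → (∀ k ∈ K, k ^ 2 = 1) →
        Subgroup.centralizer (K : Set G) = K := fun K hKR => hK K (hKR.trans hRP')
    rcases hD.main hc1 hRp hK' hmodd hym hyN with hy1 | ⟨hR4, hcent, hy3, hyne, hfpf⟩
    · right; left
      have hHR : H = R := by
        apply le_antisymm _ hRH
        intro h hh
        obtain ⟨u, hu, s, hs, rfl⟩ := hfac h hh
        rw [hy1, Subgroup.zpowers_one_eq_bot, Subgroup.mem_bot] at hu
        rw [hu, one_mul]; exact hs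
      obtain ⟨eR⟩ := hD.equiv_dihedral hc1
      obtain ⟨k, hk⟩ := (IsPGroup.iff_orderOf.mp hRp) ⟨c, hD.1⟩
      rw [Subgroup.orderOf_mk] at hk
      rw [hk] at eR
      exact ⟨k, ⟨(MulEquiv.subgroupCongr hHR).trans eR⟩⟩
    · right; right
      have hyord : orderOf y = 3 := orderOf_eq_prime hy3 hyne
      have hcardH : Nat.card H = 12 := by
        rw [card_of_factor H R hRH hyH hfac hcop, hyord, hR4]
      apply Cfsg.Agent.S0228.result hcardH
      intro z hz2 hzc
      have hzR : (z : G) ∈ R := by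
        apply hcent
        intro k hk
        have := Subgroup.mem_center_iff.mp hzc ⟨k, hRH hk⟩
        exact (congrArg Subtype.val this).symm
      have hz1 : (z : G) ≠ 1 := by
        intro h
        have : z = 1 := Subtype.ext h
        rw [this, orderOf_one] at hz2
        norm_num at hz2
      apply hfpf (z : G) hzR hz1
      have := Subgroup.mem_center_iff.mp hzc ⟨y, hyH⟩
      exact congrArg Subtype.val this

end Backward

end Cfsg.Agent.H2.TwoByCyclic
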