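import Mathlib
import Cfsg.Prelude.Def_OddOrderLocal
import Cfsg.Agent.H2.TwoByCyclic
import Cfsg.Agent.S4189

set_option autoImplicit false

/-!
# Metacyclic `2`-groups with an automorphism of odd order
-/

namespace Cfsg.Agent.H2.MetaTwoAut

open Cfsg.Agent.H2.TwoByCyclic

universe u

section Basic

variable {X : Type*} [Group X]

/-- the intersection of all subgroups of index two -/
def D (X : Type*) [Group X] : Subgroup X := sInf {M : Subgroup X | M.index = 2}

theorem mem_D {x : X} : x ∈ D X ↔ ∀ M : Subgroup X, M.index = 2 → x ∈ M := by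
  unfold D
  rw [Subgroup.mem_sInf]
  rfl

theorem D_le {M : Subgroup X} (hM : M.index = 2) : D X ≤ M := fun _ hx => mem_D.mp hx M hM

theorem exists_index_two_of_ne_top [Finite X] (hX : IsPGroup 2 X) (H : Subgroup X) (hH : H ≠ ⊤) :
    ∃ M : Subgroup X, M.index = 2 ∧ H ≤ M := by
  obtain ⟨n, hn⟩ := IsPGroup.iff_card.mp hX
  obtain ⟨k, hk⟩ := IsPGroup.iff_card.mp (hX.to_subgroup H)
  have hlt : k < n := by
    by_contra hge
    push Not at hge
    apply hH
    apply Subgroup.eq_top_of_card_eq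
    have h1 : Nat.card H ∣ Nat.card X := Subgroup.card_subgroup_dvd_card H
    rw [hk, hn] at h1
    have h2 : k ≤ n := (Nat.pow_dvd_pow_iff_le_right (by norm_num)).mp h1
    rw [hk, hn]
    congr 1
    omega
  obtain ⟨m, rfl⟩ : ∃ m, n = m + 1 := ⟨n - 1, by omega⟩
  have hdvd : 2 ^ m ∣ Nat.card X := by rw [hn]; exact pow_dvd_pow 2 (Nat.le_succ m)
  obtain ⟨K, hK, hHK⟩ := Sylow.exists_subgroup_card_pow_prime_le 2 hdvd H hk (by omega)
  refine ⟨K, ?_, hHK⟩
  have h1 := K.card_mul_index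
  rw [hK, hn, pow_succ] at h1
  exact Nat.eq_of_mul_eq_mul_left (pow_pos (by norm_num) m) h1

end Basic

section Star

variable {X : Type*} [Group X] {a b : X} (hgen : ∀ g : X, ∃ i j : ℤ, g = a ^ i * b ^ j)

include hgen

theorem index_two_pattern {M M' : Subgroup X} (hM : M.index = 2) (hM' : M'.index = 2)
    (ha : a ∈ M ↔ a ∈ M') (hb : b ∈ M ↔ b ∈ M') : M = M' := by
  obtain ⟨K, hK⟩ : ∃ K : Subgroup X, ∀ x, x ∈ K ↔ (x ∈ M ↔ x ∈ M') := by
    refine ⟨{ carrier := {x | x ∈ M ↔ x ∈ M'}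
              mul_mem' := ?_
              one_mem' := ?_
              inv_mem' := ?_ }, fun x => Iff.rfl⟩
    · intro x y hx hy
      change x * y ∈ M ↔ x * y ∈ M'
      rw [Subgroup.mul_mem_iff_of_index_two hM, Subgroup.mul_mem_iff_of_index_two hM']
      change x ∈ M ↔ x ∈ M' at hx
      change y ∈ M ↔ y ∈ M' at hy
      rw [hx, hy]
    · change (1 : X) ∈ M ↔ (1 : X) ∈ M'
      exact ⟨fun _ => M'.one_mem, fun _ => M.one_mem⟩
    · intro x hx
      change x⁻¹ ∈ M ↔ x⁻¹ ∈ M'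
      rw [Subgroup.inv_mem_iff, Subgroup.inv_mem_iff]
      exact hx
  ext x
  rw [← hK]
  obtain ⟨i, j, rfl⟩ := hgen x
  exact K.mul_mem (K.zpow_mem ((hK a).mpr ha) i) (K.zpow_mem ((hK b).mpr hb) j)

theorem not_both {M : Subgroup X} (hM : M.index = 2) : ¬ (a ∈ M ∧ b ∈ M) := by
  rintro ⟨ha, hb⟩
  have : M = ⊤ := by
    rw [eq_top_iff]
    intro x _
    obtain ⟨i, j, rfl⟩ := hgen x
    exact M.mul_mem (M.zpow_mem ha i) (M.zpow_mem hb j)
  rw [this, Subgroup.index_top] at hM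
  norm_num at hM

omit hgen in
theorem four_patterns : ∀ p₁ p₂ p₃ p₄ : Bool × Bool, p₁ ≠ (true, true) → p₂ ≠ (true, true) →
    p₃ ≠ (true, true) → p₄ ≠ (true, true) →
    p₁ = p₂ ∨ p₁ = p₃ ∨ p₁ = p₄ ∨ p₂ = p₃ ∨ p₂ = p₄ ∨ p₃ = p₄ := by decide

theorem four_index_two {M₁ M₂ M₃ M₄ : Subgroup X} (h₁ : M₁.index = 2) (h₂ : M₂.index = 2)
    (h₃ : M₃.index = 2) (h₄ : M₄.index = 2) :
    M₁ = M₂ ∨ M₁ = M₃ ∨ M₁ = M₄ ∨ M₂ = M₃ ∨ M₂ = M₄ ∨ M₃ = M₄ := by
  classical
  have key : ∀ {M M' : Subgroup X}, M.index = 2 → M'.index = 2 →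
      (decide (a ∈ M), decide (b ∈ M)) = (decide (a ∈ M'), decide (b ∈ M')) → M = M' := by
    intro M M' hM hM' h
    rw [Prod.mk.injEq, decide_eq_decide, decide_eq_decide] at h
    exact index_two_pattern hgen hM hM' h.1 h.2
  have hne : ∀ {M : Subgroup X}, M.index = 2 →
      (decide (a ∈ M), decide (b ∈ M)) ≠ (true, true) := by
    intro M hM h
    rw [Prod.mk.injEq, decide_eq_true_eq, decide_eq_true_eq] at h
    exact not_both hgen hM h
  rcases four_patterns _ _ _ _ (hne h₁) (hne h₂) (hne h₃) (hne h₄) with h | h | h | h | h | h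
  · exact Or.inl (key h₁ h₂ h)
  · exact Or.inr (Or.inl (key h₁ h₃ h))
  · exact Or.inr (Or.inr (Or.inl (key h₁ h₄ h)))
  · exact Or.inr (Or.inr (Or.inr (Or.inl (key h₂ h₃ h))))
  · exact Or.inr (Or.inr (Or.inr (Or.inr (Or.inl (key h₂ h₄ h)))))
  · exact Or.inr (Or.inr (Or.inr (Or.inr (Or.inr (key h₃ h₄ h)))))

/-- `M` is invariant under the automorphism `α` -/
def Inv (α : MulAut X) (M : Subgroup X) : Prop := ∀ x, x ∈ M ↔ α x ∈ M

omit hgen in
theorem Inv.pow {α : MulAut X} {M : Subgroup X} (h : Inv α M) (k : ℕ) : Inv (α ^ k) M := by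
  induction k with
  | zero => intro x; rw [pow_zero]; rfl
  | succ k ih =>
    intro x
    rw [pow_succ, MulAut.mul_apply, ← ih (α x)]
    exact h x

omit hgen in
theorem mem_map_aut {α : MulAut X} {M : Subgroup X} {y : X} :
    y ∈ M.map α.toMonoidHom ↔ α⁻¹ y ∈ M := by
  constructor
  · rintro ⟨x, hx, rfl⟩
    have : α⁻¹ (α.toMonoidHom x) = x := by
      change α⁻¹ (α x) = x
      rw [← MulAut.mul_apply, inv_mul_cancel, MulAut.one_apply]
    rwa [this]
  · intro h
    refine ⟨α⁻¹ y, h, ?_⟩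
    change α (α⁻¹ y) = y
    rw [← MulAut.mul_apply, mul_inv_cancel, MulAut.one_apply]

omit hgen in
theorem index_map_aut (α : MulAut X) (M : Subgroup X) :
    (M.map α.toMonoidHom).index = M.index := Subgroup.index_map_equiv M α

omit hgen in
theorem inv_apply_apply (α : MulAut X) (x : X) : α⁻¹ (α x) = x := by
  rw [← MulAut.mul_apply, inv_mul_cancel, MulAut.one_apply]

theorem all_invariant {α : MulAut X} {q : ℕ} (hq : Odd q) (hαq : α ^ q = 1) {M : Subgroup X}
    (hM2 : M.index = 2) (hM : Inv α M) : ∀ M' : Subgroup X, M'.index = 2 → Inv α M' := by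
  intro M' hM'2
  obtain ⟨M₁, hM₁⟩ : ∃ M₁, M₁ = M'.map α.toMonoidHom := ⟨_, rfl⟩
  obtain ⟨M₂, hM₂⟩ : ∃ M₂, M₂ = M₁.map α.toMonoidHom := ⟨_, rfl⟩
  have h₁ : M₁.index = 2 := by rw [hM₁, index_map_aut, hM'2]
  have h₂ : M₂.index = 2 := by rw [hM₂, index_map_aut, h₁]
  have hmem₁ : ∀ x, α x ∈ M₁ ↔ x ∈ M' := by
    intro x
    rw [hM₁, mem_map_aut, inv_apply_apply]
  have hmem₂ : ∀ x, α x ∈ M₂ ↔ x ∈ M₁ := by
    intro x
    rw [hM₂, mem_map_aut, inv_apply_apply]
  rcases four_index_two hgen hM2 hM'2 h₁ h₂ with h | h | h | h | h | h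
  · rw [← h]; exact hM
  · have : M' = M := by
      ext x
      rw [← hmem₁ x, ← h]
      exact (hM x).symm
    rw [this]; exact hM
  · have : M' = M := by
      ext x
      rw [← hmem₁ x, ← hmem₂ (α x), ← h, ← hM (α x)]
      exact (hM x).symm
    rw [this]; exact hM
  · intro x
    rw [← hmem₁ x, ← h]
  · have h2 : Inv (α * α) M' := by
      intro x
      rw [MulAut.mul_apply]
      conv_rhs => rw [h]
      rw [hmem₂, hmem₁]
    obtain ⟨j, hj⟩ := hq
    have h3 := h2.pow (j + 1)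
    have h4 : (α * α) ^ (j + 1) = α := by
      rw [← pow_two, ← pow_mul]
      have e : 2 * (j + 1) = q + 1 := by omega
      rw [e, pow_succ, hαq, one_mul]
    rwa [h4] at h3
  · have hinv₁ : ∀ y, α y ∈ M₁ ↔ y ∈ M₁ := by
      intro y
      conv_lhs => rw [h]
      exact hmem₂ y
    intro x
    rw [← hmem₁ x, ← hmem₁ (α x), hinv₁ (α x)]

omit hgen in
theorem coset_fixed [Finite X] (hX : IsPGroup 2 X) {α : MulAut X} {q : ℕ} (hqp : q.Prime)
    (hq2 : q ≠ 2) (hαq : α ^ q = 1) (hDinv : ∀ d ∈ D X, α d ∈ D X) (a : X)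
    (ha : a⁻¹ * α a ∈ D X) : ∃ d ∈ D X, α (a * d) = a * d := by
  have : Fact q.Prime := ⟨hqp⟩
  have : Fintype (D X) := Fintype.ofFinite _
  obtain ⟨g, hgdef⟩ : ∃ g : D X → D X, ∀ d : D X, (g d : X) = a⁻¹ * α a * α d :=
    ⟨fun d => ⟨a⁻¹ * α a * α d, (D X).mul_mem ha (hDinv d d.2)⟩, fun d => rfl⟩
  have hinj : Function.Injective g := by
    intro d d' h
    have h1 := congrArg Subtype.val h
    rw [hgdef, hgdef] at h1
    exact Subtype.ext (α.injective (mul_left_cancel h1))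
  obtain ⟨σ, hσ⟩ : ∃ σ : Equiv.Perm (D X), ∀ d, σ d = g d :=
    ⟨Equiv.ofBijective g (Finite.injective_iff_bijective.mp hinj), fun d => rfl⟩
  have hg : ∀ (i : ℕ) (d : D X), (((σ ^ i) d : D X) : X) = a⁻¹ * (α ^ i) (a * d) := by
    intro i
    induction i with
    | zero =>
      intro d
      rw [pow_zero, pow_zero, MulAut.one_apply, inv_mul_cancel_left]
      rfl
    | succ i ih =>
      intro d
      rw [pow_succ', pow_succ', MulAut.mul_apply, Equiv.Perm.mul_apply, hσ, hgdef, ih d, map_mul,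
        map_inv]
      group
  have hσq : σ ^ q ^ 1 = 1 := by
    ext d
    rw [pow_one, hg q d, hαq, MulAut.one_apply, inv_mul_cancel_left]
    rfl
  obtain ⟨k, hk⟩ := IsPGroup.iff_card.mp (hX.to_subgroup (D X))
  have hnd : ¬ q ∣ Fintype.card (D X) := by
    rw [← Nat.card_eq_fintype_card, hk]
    intro h1
    have h2 : q ∣ 2 := hqp.dvd_of_dvd_pow h1
    exact hq2 ((Nat.prime_dvd_prime_iff_eq hqp Nat.prime_two).mp h2)
  obtain ⟨d, hd⟩ := Equiv.Perm.exists_fixed_point_of_prime hnd hσq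
  refine ⟨d, d.2, ?_⟩
  have h1 : (g d : X) = d := by rw [← hσ, hd]
  rw [hgdef] at h1
  rw [map_mul]
  calc α a * α d = a * (a⁻¹ * α a * α d) := by group
    _ = a * d := by rw [h1]

theorem no_invariant [Finite X] (hX : IsPGroup 2 X) {α : MulAut X} {q : ℕ} (hqp : q.Prime)
    (hq2 : q ≠ 2) (hαq : α ^ q = 1) (hα1 : α ≠ 1) {M : Subgroup X} (hM2 : M.index = 2)
    (hM : Inv α M) : False := by
  have hqodd : Odd q := hqp.odd_of_ne_two hq2
  have hall := all_invariant hgen hqodd hαq hM2 hM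
  have hmemD : ∀ x, x⁻¹ * α x ∈ D X := by
    intro x
    rw [mem_D]
    intro M' hM'
    rw [Subgroup.mul_mem_iff_of_index_two hM', Subgroup.inv_mem_iff]
    exact hall M' hM' x
  have hDinv : ∀ d ∈ D X, α d ∈ D X := by
    intro d hd
    rw [mem_D]
    intro M' hM'
    exact (hall M' hM' d).mp (mem_D.mp hd M' hM')
  obtain ⟨d₁, hd₁, h₁⟩ := coset_fixed hX hqp hq2 hαq hDinv a (hmemD a)
  obtain ⟨d₂, hd₂, h₂⟩ := coset_fixed hX hqp hq2 hαq hDinv b (hmemD b)
  obtain ⟨F, hF⟩ : ∃ F : Subgroup X, ∀ x, x ∈ F ↔ α x = x := by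
    refine ⟨{ carrier := {x | α x = x}
              mul_mem' := ?_
              one_mem' := ?_
              inv_mem' := ?_ }, fun x => Iff.rfl⟩
    · intro x y hx hy
      change α (x * y) = x * y
      change α x = x at hx
      change α y = y at hy
      rw [map_mul, hx, hy]
    · change α 1 = 1
      exact map_one α
    · intro x hx
      change α x⁻¹ = x⁻¹
      change α x = x at hx
      rw [map_inv, hx]
  have hHF : Subgroup.closure ({a * d₁, b * d₂} : Set X) ≤ F := by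
    rw [Subgroup.closure_le]
    rintro x (rfl | rfl)
    · exact (hF _).mpr h₁
    · exact (hF _).mpr h₂
  have hHtop : Subgroup.closure ({a * d₁, b * d₂} : Set X) = ⊤ := by
    by_contra hne
    obtain ⟨M', hM'2, hle⟩ := exists_index_two_of_ne_top hX _ hne
    apply not_both hgen hM'2
    constructor
    · have h1 : a * d₁ ∈ M' := hle (Subgroup.subset_closure (by simp))
      have h2 : d₁ ∈ M' := D_le hM'2 hd₁
      have := M'.mul_mem h1 (M'.inv_mem h2)
      rwa [mul_inv_cancel_right] at this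
    · have h1 : b * d₂ ∈ M' := hle (Subgroup.subset_closure (by simp))
      have h2 : d₂ ∈ M' := D_le hM'2 hd₂
      have := M'.mul_mem h1 (M'.inv_mem h2)
      rwa [mul_inv_cancel_right] at this
  apply hα1
  ext x
  rw [MulAut.one_apply]
  apply (hF x).mp
  apply hHF
  rw [hHtop]
  exact Subgroup.mem_top x

end Star

section Quot

variable {X : Type*} [Group X]

/-- an automorphism of odd order acting trivially on a `2`-subgroup `Z` and on the cosets of `Z`
is trivial -/
theorem aut_eq_one_of_trivial {α : MulAut X} {m : ℕ} (hm : Odd m) (hαm : α ^ m = 1)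
    (Z : Subgroup X) (hZ2 : ∀ z ∈ Z, ∃ k : ℕ, z ^ (2 ^ k) = 1) (hfix : ∀ z ∈ Z, α z = z)
    (hquot : ∀ x, x⁻¹ * α x ∈ Z) : α = 1 := by
  ext x
  rw [MulAut.one_apply]
  obtain ⟨z, hz⟩ : ∃ z, z = x⁻¹ * α x := ⟨_, rfl⟩
  have hzZ : z ∈ Z := hz ▸ hquot x
  have hαx : α x = x * z := by rw [hz]; group
  have hpow : ∀ i : ℕ, (α ^ i) x = x * z ^ i := by
    intro i
    induction i with
    | zero => simp
    | succ i ih =>
      rw [pow_succ', MulAut.mul_apply, ih, map_mul, map_pow, hfix z hzZ, hαx, pow_succ',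
        mul_assoc]
  have h1 := hpow m
  rw [hαm, MulAut.one_apply] at h1
  have h2 : z ^ m = 1 := by
    have := mul_left_cancel (a := x) (b := 1) (c := z ^ m) (by rw [mul_one]; exact h1)
    exact this.symm
  obtain ⟨k, hk⟩ := hZ2 z hzZ
  have h3 : orderOf z ∣ Nat.gcd m (2 ^ k) :=
    Nat.dvd_gcd (orderOf_dvd_of_pow_eq_one h2) (orderOf_dvd_of_pow_eq_one hk)
  have h5 : Nat.Coprime m (2 ^ k) := Nat.Coprime.pow_right k hm.coprime_two_right
  rw [h5, Nat.dvd_one, orderOf_eq_one_iff] at h3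
  rw [hαx, h3, mul_one]

theorem map_eq_of_inv {α : MulAut X} {Z : Subgroup X} (h : Inv α Z) :
    Z.map α.toMonoidHom = Z := by
  ext y
  rw [mem_map_aut, h (α⁻¹ y)]
  have : α (α⁻¹ y) = y := by
    rw [← MulAut.mul_apply, mul_inv_cancel, MulAut.one_apply]
  rw [this]

/-- the automorphism induced on a quotient by an invariant normal subgroup -/
noncomputable def quotAut (Z : Subgroup X) [Z.Normal] (α : MulAut X) (h : Inv α Z) :
    MulAut (X ⧸ Z) :=
  QuotientGroup.congr Z Z α (map_eq_of_inv h)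

theorem quotAut_mk (Z : Subgroup X) [Z.Normal] (α : MulAut X) (h : Inv α Z) (x : X) :
    quotAut Z α h (QuotientGroup.mk x) = QuotientGroup.mk (α x) :=
  QuotientGroup.congr_mk Z Z α (map_eq_of_inv h) x

theorem quotAut_pow_mk (Z : Subgroup X) [Z.Normal] (α : MulAut X) (h : Inv α Z) (i : ℕ) (x : X) :
    (quotAut Z α h ^ i) (QuotientGroup.mk x) = QuotientGroup.mk ((α ^ i) x) := by
  induction i generalizing x with
  | zero => simp
  | succ i ih =>
    rw [pow_succ, pow_succ, MulAut.mul_apply, MulAut.mul_apply, quotAut_mk, ih]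

theorem quotAut_pow_eq_one (Z : Subgroup X) [Z.Normal] (α : MulAut X) (h : Inv α Z) {q : ℕ}
    (hαq : α ^ q = 1) : quotAut Z α h ^ q = 1 := by
  ext y
  obtain ⟨x, rfl⟩ := QuotientGroup.mk_surjective y
  rw [quotAut_pow_mk, hαq, MulAut.one_apply, MulAut.one_apply]

theorem quotAut_ne_one (Z : Subgroup X) [Z.Normal] (α : MulAut X) (h : Inv α Z) {m : ℕ}
    (hm : Odd m) (hαm : α ^ m = 1) (hα1 : α ≠ 1)
    (hZ2 : ∀ z ∈ Z, ∃ k : ℕ, z ^ (2 ^ k) = 1) (hfix : ∀ z ∈ Z, α z = z) :
    quotAut Z α h ≠ 1 := by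
  intro h1
  apply hα1
  apply aut_eq_one_of_trivial hm hαm Z hZ2 hfix
  intro x
  have h2 := congrArg (fun β : MulAut (X ⧸ Z) => β (QuotientGroup.mk x)) h1
  simp only [MulAut.one_apply] at h2
  rw [quotAut_mk] at h2
  have h3 : (QuotientGroup.mk x : X ⧸ Z) = QuotientGroup.mk (α x) := h2.symm
  exact QuotientGroup.eq.mp h3

theorem isMetacyclic_quotient (hmc : Cfsg.IsMetacyclic X) (Z : Subgroup X) [Z.Normal] :
    Cfsg.IsMetacyclic (X ⧸ Z) := by
  obtain ⟨N, hN, hNc, hQc⟩ := hmc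
  have hNn : (N.map (QuotientGroup.mk' Z)).Normal :=
    hN.map _ (QuotientGroup.mk'_surjective Z)
  refine ⟨N.map (QuotientGroup.mk' Z), hNn, ?_, ?_⟩
  · exact isCyclic_of_surjective ((QuotientGroup.mk' Z).subgroupMap N)
      ((QuotientGroup.mk' Z).subgroupMap_surjective N)
  · obtain ⟨φ, hφ⟩ : ∃ φ : X ⧸ N →* (X ⧸ Z) ⧸ N.map (QuotientGroup.mk' Z),
        ∀ x : X, φ (QuotientGroup.mk x) = QuotientGroup.mk (QuotientGroup.mk x) :=
      ⟨QuotientGroup.map N (N.map (QuotientGroup.mk' Z)) (QuotientGroup.mk' Z)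
        (Subgroup.le_comap_map _ _), fun x => rfl⟩
    apply isCyclic_of_surjective φ
    intro y
    obtain ⟨y', rfl⟩ := QuotientGroup.mk_surjective y
    obtain ⟨x, rfl⟩ := QuotientGroup.mk_surjective y'
    exact ⟨QuotientGroup.mk x, hφ x⟩

end Quot

section Abelian

variable {X : Type*} [Group X]

theorem involution_in_zpowers {c y : X} {n : ℕ} (hc : orderOf c = 2 ^ (n + 1))
    (hy : y ∈ Subgroup.zpowers c) (hy2 : orderOf y = 2) : y = c ^ (2 ^ n) := by
  obtain ⟨i, rfl⟩ := Subgroup.mem_zpowers_iff.mp hy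
  have h1 : (c ^ i) ^ 2 = 1 := by rw [← hy2]; exact pow_orderOf_eq_one _
  rw [← zpow_natCast, ← zpow_mul] at h1
  have h2 : ((orderOf c : ℕ) : ℤ) ∣ i * ((2 : ℕ) : ℤ) := orderOf_dvd_iff_zpow_eq_one.mpr h1
  rw [hc] at h2
  have h3 : ((2 : ℤ) ^ n) ∣ i := by
    have h4 : (2 : ℤ) ^ n * 2 ∣ i * 2 := by
      have : (((2 : ℕ) ^ (n + 1) : ℕ) : ℤ) = (2 : ℤ) ^ n * 2 := by push_cast; ring
      rw [this] at h2
      exact_mod_cast h2
    exact (mul_dvd_mul_iff_right (by norm_num : (2 : ℤ) ≠ 0)).mp h4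
  obtain ⟨k, rfl⟩ := h3
  have hu2 : (c ^ (2 ^ n)) ^ 2 = 1 := by
    rw [← pow_mul, ← pow_succ, ← hc]; exact pow_orderOf_eq_one c
  have h5 : c ^ ((2 : ℤ) ^ n * k) ∈ Subgroup.zpowers (c ^ (2 ^ n)) := by
    rw [zpow_mul]
    have : c ^ ((2 : ℤ) ^ n) = c ^ (2 ^ n) := by
      rw [← zpow_natCast]; push_cast; rfl
    rw [this]
    exact Subgroup.zpow_mem _ (Subgroup.mem_zpowers _) k
  rcases mem_zpowers_of_sq hu2 h5 with h | h
  · exfalso
    rw [h, orderOf_one] at hy2
    norm_num at hy2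
  · exact h

variable {a b : X} (hgen : ∀ g : X, ∃ i j : ℤ, g = a ^ i * b ^ j)

include hgen

theorem abelian_case (hX : IsPGroup 2 X) (hcomm : ∀ x y : X, x * y = y * x) {α : MulAut X}
    (hα1 : α ≠ 1) (hstar : ∀ M : Subgroup X, M.index = 2 → Inv α M → False) :
    ∃ n : ℕ, Nonempty (X ≃* Multiplicative (ZMod (2 ^ n)) × Multiplicative (ZMod (2 ^ n))) := by
  have : Fact (Nat.Prime 2) := ⟨Nat.prime_two⟩
  obtain ⟨s, hs⟩ := (IsPGroup.iff_orderOf.mp hX) a
  obtain ⟨t, ht⟩ := (IsPGroup.iff_orderOf.mp hX) b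
  obtain ⟨n, hn⟩ : ∃ n, n = max s t := ⟨_, rfl⟩
  have hsn : s ≤ n := hn ▸ le_max_left s t
  have htn : t ≤ n := hn ▸ le_max_right s t
  have ha_n : a ^ (2 ^ n) = 1 := by
    apply orderOf_dvd_iff_pow_eq_one.mp
    rw [hs]; exact pow_dvd_pow 2 hsn
  have hb_n : b ^ (2 ^ n) = 1 := by
    apply orderOf_dvd_iff_pow_eq_one.mp
    rw [ht]; exact pow_dvd_pow 2 htn
  have hn0 : n ≠ 0 := by
    intro h0
    rw [h0, pow_zero, pow_one] at ha_n hb_n
    apply hα1
    ext x
    obtain ⟨i, j, rfl⟩ := hgen x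
    rw [ha_n, hb_n]
    simp
  obtain ⟨n', rfl⟩ := Nat.exists_eq_succ_of_ne_zero hn0
  obtain ⟨φ, hφ⟩ : ∃ φ : X →* X, ∀ x, φ x = x ^ (2 ^ n') :=
    ⟨{ toFun := fun x => x ^ (2 ^ n')
       map_one' := one_pow _
       map_mul' := fun x y => Commute.mul_pow (hcomm x y) _ }, fun x => rfl⟩
  obtain ⟨u, hu⟩ : ∃ u, u = a ^ (2 ^ n') := ⟨_, rfl⟩
  obtain ⟨v, hv⟩ : ∃ v, v = b ^ (2 ^ n') := ⟨_, rfl⟩
  have hu2 : u ^ 2 = 1 := by rw [hu, ← pow_mul, ← pow_succ]; exact ha_n
  have hv2 : v ^ 2 = 1 := by rw [hv, ← pow_mul, ← pow_succ]; exact hb_n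
  have hφval : ∀ i j : ℤ, φ (a ^ i * b ^ j) = u ^ i * v ^ j := by
    intro i j
    rw [map_mul, map_zpow, map_zpow, hφ, hφ, ← hu, ← hv]
  -- one of `u`, `v` is nontrivial
  have huv1 : u ≠ 1 ∨ v ≠ 1 := by
    rcases le_total s t with hst | hst
    · right
      have htn' : t = n' + 1 := by rw [max_eq_right hst] at hn; omega
      intro h
      rw [hv] at h
      have := orderOf_dvd_of_pow_eq_one h
      rw [ht, htn'] at this
      have := (Nat.pow_dvd_pow_iff_le_right (by norm_num)).mp this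
      omega
    · left
      have hsn' : s = n' + 1 := by rw [max_eq_left hst] at hn; omega
      intro h
      rw [hu] at h
      have := orderOf_dvd_of_pow_eq_one h
      rw [hs, hsn'] at this
      have := (Nat.pow_dvd_pow_iff_le_right (by norm_num)).mp this
      omega
  have hkerinv : Inv α φ.ker := by
    intro x
    rw [MonoidHom.mem_ker, MonoidHom.mem_ker, hφ, hφ, ← map_pow]
    constructor
    · intro h; rw [h, map_one]
    · intro h
      have := α.injective (h.trans (map_one α).symm)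
      exact this
  -- the degenerate case
  have hdeg : ∀ w : X, w ≠ 1 → w ^ 2 = 1 → w ∈ φ.range → u ∈ Subgroup.zpowers w →
      v ∈ Subgroup.zpowers w → False := by
    intro w hw1 hw2 hwr huw hvw
    have hrange : φ.range = Subgroup.zpowers w := by
      apply le_antisymm
      · rintro _ ⟨x, rfl⟩
        obtain ⟨i, j, rfl⟩ := hgen x
        rw [hφval]
        exact Subgroup.mul_mem _ (Subgroup.zpow_mem _ huw i) (Subgroup.zpow_mem _ hvw j)
      · exact Subgroup.zpowers_le.mpr hwr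
    have hidx : φ.ker.index = 2 := by
      rw [Subgroup.index_ker, hrange, Nat.card_zpowers]
      exact orderOf_eq_prime hw2 hw1
    exact hstar _ hidx hkerinv
  have hur : u ∈ φ.range := ⟨a, by rw [hφ, hu]⟩
  have hvr : v ∈ φ.range := ⟨b, by rw [hφ, hv]⟩
  have hu1 : u ≠ 1 := by
    intro h
    rcases huv1 with h' | h'
    · exact h' h
    · exact hdeg v h' hv2 hvr (h ▸ Subgroup.one_mem _) (Subgroup.mem_zpowers v)
  have hv1 : v ≠ 1 := by
    intro h
    exact hdeg u hu1 hu2 hur (Subgroup.mem_zpowers u) (h ▸ Subgroup.one_mem _)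
  have huv : u ≠ v := by
    intro h
    exact hdeg u hu1 hu2 hur (Subgroup.mem_zpowers u) (h ▸ Subgroup.mem_zpowers u)
  have hoa : orderOf a = 2 ^ (n' + 1) := orderOf_eq_prime_pow (by rw [← hu]; exact hu1) ha_n
  have hob : orderOf b = 2 ^ (n' + 1) := orderOf_eq_prime_pow (by rw [← hv]; exact hv1) hb_n
  -- trivial intersection
  have hint : ∀ x, x ∈ Subgroup.zpowers a → x ∈ Subgroup.zpowers b → x = 1 := by
    intro x hxa hxb
    by_contra hx1
    obtain ⟨r, hr⟩ := (IsPGroup.iff_orderOf.mp hX) x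
    have hr0 : r ≠ 0 := by
      intro h0
      rw [h0, pow_zero, orderOf_eq_one_iff] at hr
      exact hx1 hr
    obtain ⟨r', rfl⟩ := Nat.exists_eq_succ_of_ne_zero hr0
    have hy2 : orderOf (x ^ (2 ^ r')) = 2 := by
      rw [orderOf_pow_of_dvd (pow_pos (by norm_num) r').ne' (hr ▸ pow_dvd_pow 2 (Nat.le_succ r')),
        hr, pow_succ, Nat.mul_div_cancel_left _ (pow_pos (by norm_num) r')]
    have h1 := involution_in_zpowers hoa (Subgroup.pow_mem _ hxa _) hy2
    have h2 := involution_in_zpowers hob (Subgroup.pow_mem _ hxb _) hy2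
    apply huv
    rw [hu, hv, ← h1, ← h2]
  -- the isomorphism
  obtain ⟨f, hf⟩ : ∃ f : Subgroup.zpowers a × Subgroup.zpowers b →* X,
      ∀ p, f p = (p.1 : X) * (p.2 : X) :=
    ⟨MonoidHom.noncommCoprod (Subgroup.zpowers a).subtype (Subgroup.zpowers b).subtype
      (fun x y => hcomm _ _), fun p => rfl⟩
  have hfinj : Function.Injective f := by
    rw [injective_iff_map_eq_one]
    rintro ⟨p, r⟩ hpr
    rw [hf] at hpr
    change (p : X) * (r : X) = 1 at hpr
    have h1 : (p : X) = (r : X)⁻¹ := eq_inv_of_mul_eq_one_left hpr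
    have h2 : (p : X) = 1 := hint _ p.2 (h1 ▸ Subgroup.inv_mem _ r.2)
    have h3 : (r : X) = 1 := by rw [h2, one_mul] at hpr; exact hpr
    exact Prod.ext (Subtype.ext h2) (Subtype.ext h3)
  have hfsurj : Function.Surjective f := by
    intro x
    obtain ⟨i, j, rfl⟩ := hgen x
    exact ⟨(⟨a ^ i, Subgroup.zpow_mem _ (Subgroup.mem_zpowers a) i⟩,
      ⟨b ^ j, Subgroup.zpow_mem _ (Subgroup.mem_zpowers b) j⟩), hf _⟩
  have key : ∀ (C : Subgroup X), IsCyclic C → Nat.card C = 2 ^ (n' + 1) →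
      Nonempty (Multiplicative (ZMod (2 ^ (n' + 1))) ≃* C) := by
    intro C hC hcard
    have e := zmodCyclicMulEquiv hC
    rw [hcard] at e
    exact ⟨e⟩
  obtain ⟨ea⟩ := key (Subgroup.zpowers a) inferInstance (by rw [Nat.card_zpowers, hoa])
  obtain ⟨eb⟩ := key (Subgroup.zpowers b) inferInstance (by rw [Nat.card_zpowers, hob])
  exact ⟨n' + 1, ⟨(MulEquiv.ofBijective f ⟨hfinj, hfsurj⟩).symm.trans
    (MulEquiv.prodCongr ea.symm eb.symm)⟩⟩

end Abelian

section Quaternion

open scoped commutatorElement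

theorem comm_Q8 : ∀ x y : QuaternionGroup 2,
    ⁅x, y⁆ = 1 ∨ ⁅x, y⁆ = (QuaternionGroup.a 2 : QuaternionGroup 2) := by decide

theorem comm_Q8' : ⁅(QuaternionGroup.a 1 : QuaternionGroup 2),
    (QuaternionGroup.xa 0 : QuaternionGroup 2)⁆ = QuaternionGroup.a 2 := by decide

theorem a2_sq : (QuaternionGroup.a 2 : QuaternionGroup 2) ^ 2 = 1 := by decide

theorem a2_ne : (QuaternionGroup.a 2 : QuaternionGroup 2) ≠ 1 := by decide

theorem index_commutator_Q8 : (commutator (QuaternionGroup 2)).index = 4 := by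
  have h1 : commutator (QuaternionGroup 2) =
      Subgroup.zpowers (QuaternionGroup.a 2 : QuaternionGroup 2) := by
    apply le_antisymm
    · rw [commutator_def, Subgroup.commutator_le]
      intro x _ y _
      rcases comm_Q8 x y with h | h
      · rw [h]; exact Subgroup.one_mem _
      · rw [h]; exact Subgroup.mem_zpowers _
    · rw [Subgroup.zpowers_le, ← comm_Q8', commutator_def]
      exact Subgroup.commutator_mem_commutator (Subgroup.mem_top _) (Subgroup.mem_top _)
  have h2 : Nat.card (commutator (QuaternionGroup 2)) = 2 := by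
    rw [h1, Nat.card_zpowers]
    exact orderOf_eq_prime a2_sq a2_ne
  have h3 := (commutator (QuaternionGroup 2)).card_mul_index
  rw [h2, Nat.card_eq_fintype_card, QuaternionGroup.card] at h3
  omega

/-- the index of the commutator subgroup is invariant under isomorphism -/
theorem index_commutator_congr {G H : Type*} [Group G] [Group H] (e : G ≃* H) :
    (commutator G).index = (commutator H).index := by
  have h1 : (commutator G).map e.toMonoidHom = commutator H := by
    rw [commutator_def, commutator_def, Subgroup.map_commutator]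
    have : (⊤ : Subgroup G).map e.toMonoidHom = ⊤ :=
      Subgroup.map_top_of_surjective _ e.surjective
    rw [this]
  rw [← h1]
  exact (Subgroup.index_map_equiv (commutator G) e).symm

end Quaternion

section Big

variable {X : Type*} [Group X] [Finite X] {a b : X}
  (hgen : ∀ g : X, ∃ i j : ℤ, g = a ^ i * b ^ j)

include hgen

theorem card_le_orderOf_mul : Nat.card X ≤ orderOf a * orderOf b := by
  rw [← Nat.card_zpowers a, ← Nat.card_zpowers b, ← Nat.card_prod]
  apply Nat.card_le_card_of_surjective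
    (fun p : Subgroup.zpowers a × Subgroup.zpowers b => (p.1 : X) * (p.2 : X))
  intro x
  obtain ⟨i, j, rfl⟩ := hgen x
  exact ⟨(⟨a ^ i, Subgroup.zpow_mem _ (Subgroup.mem_zpowers a) i⟩,
    ⟨b ^ j, Subgroup.zpow_mem _ (Subgroup.mem_zpowers b) j⟩), rfl⟩

theorem big_case {α : MulAut X}
    (hstar : ∀ M : Subgroup X, M.index = 2 → Inv α M → False)
    {z₀ : X} (hz2 : z₀ ^ 2 = 1) (hzc : ∀ g : X, g * z₀ = z₀ * g)
    (hcomm : ∀ x y : X, ∃ c ∈ Subgroup.zpowers z₀, y * x = x * y * c)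
    {n : ℕ} (hn : 2 ≤ n) (hexp : ∀ x : X, x ^ (2 ^ n) ∈ Subgroup.zpowers z₀)
    (hcard : Nat.card X = 2 * (2 ^ n) ^ 2) : False := by
  have hZ : ∀ c ∈ Subgroup.zpowers z₀, (∀ g : X, g * c = c * g) ∧ c ^ 2 = 1 := by
    intro c hc
    rcases mem_zpowers_of_sq hz2 hc with h | h
    · rw [h]; exact ⟨fun g => by rw [mul_one, one_mul], one_pow 2⟩
    · rw [h]; exact ⟨hzc, hz2⟩
  have sq_central : ∀ x y : X, x ^ 2 * y = y * x ^ 2 := by
    intro x y
    obtain ⟨c, hc, hyx⟩ := hcomm x y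
    obtain ⟨hcc, hc2⟩ := hZ c hc
    rw [pow_two] at hc2 ⊢
    symm
    calc y * (x * x) = (y * x) * x := by group
      _ = x * y * c * x := by rw [hyx]
      _ = x * (y * x) * c := by rw [mul_assoc (x * y), ← hcc x]; group
      _ = x * (x * y * c) * c := by rw [hyx]
      _ = x * x * y * (c * c) := by group
      _ = x * x * y := by rw [hc2, mul_one]
  have sq_mul : ∀ x y : X, ∃ c ∈ Subgroup.zpowers z₀, (x * y) ^ 2 = x ^ 2 * y ^ 2 * c := by
    intro x y
    obtain ⟨c, hc, hyx⟩ := hcomm x y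
    obtain ⟨hcc, -⟩ := hZ c hc
    refine ⟨c, hc, ?_⟩
    rw [pow_two, pow_two, pow_two]
    calc x * y * (x * y) = x * (y * x) * y := by group
      _ = x * (x * y * c) * y := by rw [hyx]
      _ = x * x * y * (c * y) := by group
      _ = x * x * y * (y * c) := by rw [← hcc y]
      _ = x * x * (y * y) * c := by group
  obtain ⟨k, rfl⟩ : ∃ k, n = k + 2 := ⟨n - 2, by omega⟩
  have pow_mul' : ∀ x y : X, (x * y) ^ (2 ^ (k + 2)) = x ^ (2 ^ (k + 2)) * y ^ (2 ^ (k + 2)) := by
    intro x y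
    obtain ⟨c, hc, hxy⟩ := sq_mul x y
    obtain ⟨hcc, hc2⟩ := hZ c hc
    have e : 2 ^ (k + 2) = 2 * 2 ^ (k + 1) := by rw [pow_succ 2 (k + 1)]; ring
    rw [e, pow_mul, pow_mul x, pow_mul y, hxy]
    have h1 : Commute (x ^ 2 * y ^ 2) c := (hcc _)
    have h2 : Commute (x ^ 2) (y ^ 2) := sq_central x _
    rw [h1.mul_pow, h2.mul_pow]
    have h3 : c ^ 2 ^ (k + 1) = 1 := by
      rw [pow_succ', pow_mul, hc2, one_pow]
    rw [h3, mul_one]
  obtain ⟨φ, hφ⟩ : ∃ φ : X →* X, ∀ x, φ x = x ^ (2 ^ (k + 2)) :=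
    ⟨{ toFun := fun x => x ^ (2 ^ (k + 2))
       map_one' := one_pow _
       map_mul' := pow_mul' }, fun x => rfl⟩
  have hkerinv : Inv α φ.ker := by
    intro x
    rw [MonoidHom.mem_ker, MonoidHom.mem_ker, hφ, hφ, ← map_pow]
    constructor
    · intro h; rw [h, map_one]
    · intro h
      exact α.injective (h.trans (map_one α).symm)
  have hrange : φ.range ≤ Subgroup.zpowers z₀ := by
    rintro _ ⟨x, rfl⟩
    rw [hφ]; exact hexp x
  by_cases hz : z₀ ∈ φ.range
  · -- the kernel has index two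
    have hreq : φ.range = Subgroup.zpowers z₀ :=
      le_antisymm hrange (Subgroup.zpowers_le.mpr hz)
    by_cases hz1 : z₀ = 1
    · -- then everything has exponent `2 ^ n`
      have hall : ∀ x : X, x ^ (2 ^ (k + 2)) = 1 := by
        intro x
        have := hexp x
        rw [hz1, Subgroup.zpowers_one_eq_bot, Subgroup.mem_bot] at this
        exact this
      have h1 := card_le_orderOf_mul hgen
      have h2 : orderOf a ≤ 2 ^ (k + 2) := orderOf_le_of_pow_eq_one (by positivity) (hall a)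
      have h3 : orderOf b ≤ 2 ^ (k + 2) := orderOf_le_of_pow_eq_one (by positivity) (hall b)
      have h4 : orderOf a * orderOf b ≤ 2 ^ (k + 2) * 2 ^ (k + 2) := Nat.mul_le_mul h2 h3
      have h5 : 0 < 2 ^ (k + 2) * 2 ^ (k + 2) := by positivity
      rw [hcard, pow_two] at h1
      omega
    · have hidx : φ.ker.index = 2 := by
        rw [Subgroup.index_ker, hreq, Nat.card_zpowers]
        exact orderOf_eq_prime hz2 hz1
      exact hstar _ hidx hkerinv
  · have hall : ∀ x : X, x ^ (2 ^ (k + 2)) = 1 := by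
      intro x
      have h1 : φ x ∈ φ.range := ⟨x, rfl⟩
      rcases mem_zpowers_of_sq hz2 (hrange h1) with h | h
      · rw [← hφ]; exact h
      · exfalso; exact hz (h ▸ h1)
    have h1 := card_le_orderOf_mul hgen
    have h2 : orderOf a ≤ 2 ^ (k + 2) := orderOf_le_of_pow_eq_one (by positivity) (hall a)
    have h3 : orderOf b ≤ 2 ^ (k + 2) := orderOf_le_of_pow_eq_one (by positivity) (hall b)
    have h4 : orderOf a * orderOf b ≤ 2 ^ (k + 2) * 2 ^ (k + 2) := Nat.mul_le_mul h2 h3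
    have h5 : 0 < 2 ^ (k + 2) * 2 ^ (k + 2) := by positivity
    rw [hcard, pow_two] at h1
    omega

end Big

section Main

open scoped commutatorElement

/-- there is an automorphism of odd prime order -/
def HasOddAut (X : Type*) [Group X] : Prop :=
  ∃ (α : MulAut X) (q : ℕ), q.Prime ∧ q ≠ 2 ∧ α ^ q = 1 ∧ α ≠ 1

theorem exists_gens' {X : Type*} [Group X] (hmc : Cfsg.IsMetacyclic X) :
    ∃ a b : X, (Subgroup.zpowers a).Normal ∧ ∀ g : X, ∃ i j : ℤ, g = a ^ i * b ^ j := by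
  obtain ⟨N, hN, hNc, hQc⟩ := hmc
  obtain ⟨⟨a, haN⟩, ha⟩ := hNc.exists_generator
  obtain ⟨q, hq⟩ := hQc.exists_generator
  obtain ⟨b, rfl⟩ := QuotientGroup.mk_surjective q
  have hNa : Subgroup.zpowers a = N := by
    ext x
    constructor
    · intro hx
      obtain ⟨k, rfl⟩ := Subgroup.mem_zpowers_iff.mp hx
      exact N.zpow_mem haN k
    · intro hx
      obtain ⟨k, hk⟩ := Subgroup.mem_zpowers_iff.mp (ha ⟨x, hx⟩)
      rw [Subgroup.mem_zpowers_iff]
      refine ⟨k, ?_⟩
      have := congrArg Subtype.val hk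
      simpa using this
  refine ⟨a, b, hNa ▸ hN, ?_⟩
  intro g
  obtain ⟨j, hj⟩ := Subgroup.mem_zpowers_iff.mp (hq (QuotientGroup.mk g))
  have h1 : g * (b ^ j)⁻¹ ∈ N := by
    rw [← QuotientGroup.eq_one_iff, QuotientGroup.mk_mul, QuotientGroup.mk_inv,
      QuotientGroup.mk_zpow, hj, mul_inv_cancel]
  rw [← hNa] at h1
  obtain ⟨i, hi⟩ := Subgroup.mem_zpowers_iff.mp h1
  exact ⟨i, j, by rw [hi]; group⟩

theorem commutator_le_zpowers {X : Type*} [Group X] {a b : X}
    (hN : (Subgroup.zpowers a).Normal) (hgen : ∀ g : X, ∃ i j : ℤ, g = a ^ i * b ^ j) :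
    commutator X ≤ Subgroup.zpowers a := by
  rw [commutator_def, Subgroup.commutator_le]
  intro x _ y _
  have key : ∀ g : X, ∃ j : ℤ, (QuotientGroup.mk g : X ⧸ Subgroup.zpowers a) =
      (QuotientGroup.mk b) ^ j := by
    intro g
    obtain ⟨i, j, rfl⟩ := hgen g
    refine ⟨j, ?_⟩
    rw [QuotientGroup.mk_mul, QuotientGroup.mk_zpow, QuotientGroup.mk_zpow]
    have : (QuotientGroup.mk a : X ⧸ Subgroup.zpowers a) = 1 :=
      (QuotientGroup.eq_one_iff a).mpr (Subgroup.mem_zpowers a)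
    rw [this, one_zpow, one_mul]
  obtain ⟨j₁, h₁⟩ := key x
  obtain ⟨j₂, h₂⟩ := key y
  rw [← QuotientGroup.eq_one_iff]
  have : (QuotientGroup.mk ⁅x, y⁆ : X ⧸ Subgroup.zpowers a) =
      ⁅(QuotientGroup.mk x : X ⧸ Subgroup.zpowers a), QuotientGroup.mk y⁆ := by
    rw [commutatorElement_def, commutatorElement_def]
    simp
  rw [this, h₁, h₂, commutatorElement_eq_one_iff_commute]
  exact ((Commute.refl _).zpow_left j₁).zpow_right j₂

theorem comm_of_isCyclic_type {X : Type*} [Group X] (h : IsCyclic X) (x y : X) :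
    x * y = y * x := by
  obtain ⟨γ, hγ⟩ := h
  obtain ⟨i, rfl⟩ := Subgroup.mem_zpowers_iff.mp (hγ x)
  obtain ⟨j, rfl⟩ := Subgroup.mem_zpowers_iff.mp (hγ y)
  exact ((Commute.refl γ).zpow_left i).zpow_right j

theorem card_mult_zmod (m : ℕ) : Nat.card (Multiplicative (ZMod m)) = m := by
  rw [Nat.card_congr Multiplicative.toAdd]
  exact Nat.card_zmod m

theorem pow_eq_one_homocyclic (n : ℕ)
    (y : Multiplicative (ZMod (2 ^ n)) × Multiplicative (ZMod (2 ^ n))) : y ^ (2 ^ n) = 1 := by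
  have h : ∀ m : Multiplicative (ZMod (2 ^ n)), m ^ (2 ^ n) = 1 := by
    intro m
    have := pow_card_eq_one' (x := m)
    rwa [card_mult_zmod] at this
  apply Prod.ext
  · rw [Prod.pow_fst, h]; rfl
  · rw [Prod.pow_snd, h]; rfl

theorem main_aux : ∀ (k : ℕ) (X : Type u) [Group X] [Finite X], Nat.card X = k → IsPGroup 2 X →
    Cfsg.IsMetacyclic X → HasOddAut X →
    Nonempty (X ≃* QuaternionGroup 2) ∨
      ∃ n : ℕ, Nonempty (X ≃* Multiplicative (ZMod (2 ^ n)) × Multiplicative (ZMod (2 ^ n))) := by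
  intro k
  induction k using Nat.strong_induction_on with
  | _ k ih =>
  intro X _ _ hk hX hmc haut
  obtain ⟨a, b, hN, hgen⟩ := exists_gens' hmc
  obtain ⟨α, q, hqp, hq2, hαq, hα1⟩ := haut
  have hqodd : Odd q := hqp.odd_of_ne_two hq2
  have hstar : ∀ M : Subgroup X, M.index = 2 → Inv α M → False :=
    fun M hM2 hM => no_invariant hgen hX hqp hq2 hαq hα1 hM2 hM
  by_cases hab : ∀ x y : X, x * y = y * x
  · right
    exact abelian_case hgen hX hab hα1 hstar
  have hna : ¬ IsMulCommutative X := fun h => hab (fun x y => h.is_comm.comm x y)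
  have haut' : ¬ IsPGroup 2 (MulAut X) := by
    intro h
    obtain ⟨j, hj⟩ := h α
    have h1 : orderOf α ∣ q := orderOf_dvd_of_pow_eq_one hαq
    have h2 : orderOf α ∣ 2 ^ j := orderOf_dvd_of_pow_eq_one hj
    rcases (Nat.dvd_prime hqp).mp h1 with h3 | h3
    · exact hα1 (orderOf_eq_one_iff.mp h3)
    · rw [h3] at h2
      have h4 : q ∣ 2 := hqp.dvd_of_dvd_pow h2
      exact hq2 ((Nat.prime_dvd_prime_iff_eq hqp Nat.prime_two).mp h4)
  -- the commutator subgroup is cyclic
  have hC_le : commutator X ≤ Subgroup.zpowers a := commutator_le_zpowers hN hgen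
  have hCcyc : IsCyclic (commutator X) := Subgroup.isCyclic_of_le hC_le
  obtain ⟨c₀, hc₀⟩ := (Subgroup.isCyclic_iff_exists_zpowers_eq_top _).mp hCcyc
  have hc₀1 : c₀ ≠ 1 := by
    intro h
    apply hab
    intro x y
    have h1 : ⁅x, y⁆ ∈ commutator X := by
      rw [commutator_def]
      exact Subgroup.commutator_mem_commutator (Subgroup.mem_top _) (Subgroup.mem_top _)
    rw [← hc₀, h, Subgroup.zpowers_one_eq_bot, Subgroup.mem_bot,
      commutatorElement_eq_one_iff_commute] at h1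
    exact h1
  obtain ⟨r, hr⟩ := (IsPGroup.iff_orderOf.mp hX) c₀
  have hr0 : r ≠ 0 := by
    intro h0
    rw [h0, pow_zero, orderOf_eq_one_iff] at hr
    exact hc₀1 hr
  obtain ⟨r', rfl⟩ := Nat.exists_eq_succ_of_ne_zero hr0
  obtain ⟨z₀, hz₀⟩ : ∃ z₀, z₀ = c₀ ^ (2 ^ r') := ⟨_, rfl⟩
  have hz₀ord : orderOf z₀ = 2 := by
    rw [hz₀, orderOf_pow_of_dvd (pow_pos (by norm_num) r').ne'
      (hr ▸ pow_dvd_pow 2 (Nat.le_succ r')), hr, pow_succ,
      Nat.mul_div_cancel_left _ (pow_pos (by norm_num) r')]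
  have hz₀C : z₀ ∈ commutator X := by
    rw [← hc₀, hz₀]; exact Subgroup.pow_mem _ (Subgroup.mem_zpowers c₀) _
  have huniq : ∀ w ∈ commutator X, orderOf w = 2 → w = z₀ := by
    intro w hw hw2
    rw [hz₀]
    exact involution_in_zpowers hr (hc₀ ▸ hw) hw2
  have hαz : α z₀ = z₀ := by
    apply huniq
    · have hchar : (commutator X).Characteristic := inferInstance
      have h1 := Subgroup.characteristic_iff_map_eq.mp hchar α
      rw [← h1]
      exact Subgroup.mem_map_of_mem _ hz₀C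
    · rw [MulEquiv.orderOf_eq, hz₀ord]
  have hconj : ∀ g : X, g * z₀ * g⁻¹ = z₀ := by
    intro g
    apply huniq
    · have hnorm : (commutator X).Normal := inferInstance
      exact hnorm.conj_mem z₀ hz₀C g
    · have := (MulAut.conj g).orderOf_eq z₀
      rw [MulAut.conj_apply] at this
      rw [this, hz₀ord]
  have hzc : ∀ g : X, g * z₀ = z₀ * g := by
    intro g
    calc g * z₀ = (g * z₀ * g⁻¹) * g := by group
      _ = z₀ * g := by rw [hconj g]
  have hz2 : z₀ ^ 2 = 1 := by rw [← hz₀ord]; exact pow_orderOf_eq_one z₀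
  have hz₀1 : z₀ ≠ 1 := by
    intro h
    rw [h, orderOf_one] at hz₀ord
    norm_num at hz₀ord
  have hZn : (Subgroup.zpowers z₀).Normal := by
    refine ⟨fun w hw g => ?_⟩
    obtain ⟨i, rfl⟩ := Subgroup.mem_zpowers_iff.mp hw
    rw [← conj_zpow, hconj g]
    exact Subgroup.zpow_mem _ (Subgroup.mem_zpowers z₀) i
  have hZfix : ∀ z ∈ Subgroup.zpowers z₀, α z = z := by
    intro z hz
    obtain ⟨i, rfl⟩ := Subgroup.mem_zpowers_iff.mp hz
    rw [map_zpow, hαz]
  have hZinv : Inv α (Subgroup.zpowers z₀) := by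
    intro x
    constructor
    · intro hx
      rw [hZfix x hx]; exact hx
    · intro hx
      have h1 := hZfix _ hx
      have h2 : α x = x := α.injective h1
      rw [← h2]; exact hx
  have hZ2 : ∀ z ∈ Subgroup.zpowers z₀, ∃ j : ℕ, z ^ (2 ^ j) = 1 := by
    intro z hz
    refine ⟨1, ?_⟩
    rw [pow_one]
    rcases mem_zpowers_of_sq hz2 hz with h | h
    · rw [h, one_pow]
    · rw [h, hz2]
  have hcardZ : Nat.card (Subgroup.zpowers z₀) = 2 := by rw [Nat.card_zpowers, hz₀ord]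
  have hcardX : Nat.card X = Nat.card (X ⧸ Subgroup.zpowers z₀) * 2 := by
    rw [← hcardZ]; exact Subgroup.card_eq_card_quotient_mul_card_subgroup _
  have hlt : Nat.card (X ⧸ Subgroup.zpowers z₀) < k := by
    rw [← hk, hcardX]
    have : 0 < Nat.card (X ⧸ Subgroup.zpowers z₀) := Nat.card_pos
    omega
  have hIH := ih _ hlt (X ⧸ Subgroup.zpowers z₀) rfl (hX.to_quotient _)
    (isMetacyclic_quotient hmc _)
    ⟨quotAut _ α hZinv, q, hqp, hq2, quotAut_pow_eq_one _ α hZinv hαq,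
      quotAut_ne_one _ α hZinv hqodd hαq hα1 hZ2 hZfix⟩
  have hmapC : (commutator X).map (QuotientGroup.mk' (Subgroup.zpowers z₀)) =
      commutator (X ⧸ Subgroup.zpowers z₀) := by
    rw [commutator_def, commutator_def, Subgroup.map_commutator]
    have : (⊤ : Subgroup X).map (QuotientGroup.mk' (Subgroup.zpowers z₀)) = ⊤ :=
      Subgroup.map_top_of_surjective _ (QuotientGroup.mk'_surjective _)
    rw [this]
  have hidxC : (commutator (X ⧸ Subgroup.zpowers z₀)).index = (commutator X).index := by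
    have hker : (QuotientGroup.mk' (Subgroup.zpowers z₀)).ker ≤ commutator X := by
      rw [QuotientGroup.ker_mk', Subgroup.zpowers_le]
      exact hz₀C
    have h1 := Subgroup.index_map_eq (H := commutator X)
      (QuotientGroup.mk'_surjective (Subgroup.zpowers z₀)) hker
    rwa [hmapC] at h1
  rcases hIH with ⟨⟨e⟩⟩ | ⟨n, ⟨e⟩⟩
  · left
    have h4 : (commutator X).index = 4 := by
      rw [← hidxC, index_commutator_congr e, index_commutator_Q8]
    exact Cfsg.Agent.S4189.result hX hna h4 haut'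
  · have hQcomm : ∀ x y : X ⧸ Subgroup.zpowers z₀, x * y = y * x := by
      intro x y
      apply e.injective
      rw [map_mul, map_mul, mul_comm]
    have hCZ : commutator X = Subgroup.zpowers z₀ := by
      apply le_antisymm
      · rw [commutator_def, Subgroup.commutator_le]
        intro x _ y _
        rw [← QuotientGroup.eq_one_iff]
        have : (QuotientGroup.mk ⁅x, y⁆ : X ⧸ Subgroup.zpowers z₀) =
            ⁅(QuotientGroup.mk x : X ⧸ Subgroup.zpowers z₀), QuotientGroup.mk y⁆ := by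
          rw [commutatorElement_def, commutatorElement_def]
          simp
        rw [this, commutatorElement_eq_one_iff_commute]
        exact hQcomm _ _
      · exact Subgroup.zpowers_le.mpr hz₀C
    have hcomm' : ∀ x y : X, ∃ c ∈ Subgroup.zpowers z₀, y * x = x * y * c := by
      intro x y
      refine ⟨⁅y⁻¹, x⁻¹⁆, ?_, ?_⟩
      · rw [← hCZ, commutator_def]
        exact Subgroup.commutator_mem_commutator (Subgroup.mem_top _) (Subgroup.mem_top _)
      · rw [commutatorElement_def]; group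
    have hcardQ : Nat.card (X ⧸ Subgroup.zpowers z₀) = (2 ^ n) ^ 2 := by
      rw [Nat.card_congr e.toEquiv, Nat.card_prod, card_mult_zmod, pow_two]
    have hexp : ∀ x : X, x ^ (2 ^ n) ∈ Subgroup.zpowers z₀ := by
      intro x
      rw [← QuotientGroup.eq_one_iff, QuotientGroup.mk_pow]
      apply e.injective
      rw [map_pow, map_one]
      exact pow_eq_one_homocyclic n _
    have hcardX' : Nat.card X = 2 * (2 ^ n) ^ 2 := by rw [hcardX, hcardQ, mul_comm]
    rcases Nat.lt_or_ge n 2 with hn | hn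
    · have hn01 : n = 0 ∨ n = 1 := by omega
      rcases hn01 with rfl | rfl
      · exfalso
        have h2 : Nat.card X = 2 := by rw [hcardX']; norm_num
        have : Fact (Nat.Prime 2) := ⟨Nat.prime_two⟩
        exact hab (comm_of_isCyclic_type (isCyclic_of_prime_card h2))
      · left
        have h4 : (commutator X).index = 4 := by
          rw [hCZ]
          have h1 := (Subgroup.zpowers z₀).card_mul_index
          rw [hcardZ, hcardX'] at h1
          norm_num at h1
          omega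
        exact Cfsg.Agent.S4189.result hX hna h4 haut'
    · exfalso
      exact big_case hgen hstar hz2 hzc hcomm' hn hexp hcardX'

theorem main {X : Type u} [Group X] [Finite X] (hX : IsPGroup 2 X)
    (hm : Cfsg.IsMetacyclic X) (hA : ¬ IsPGroup 2 (MulAut X)) :
    Nonempty (X ≃* QuaternionGroup 2) ∨
      ∃ n : ℕ, Nonempty (X ≃* Multiplicative (ZMod (2 ^ n)) × Multiplicative (ZMod (2 ^ n))) := by
  apply main_aux _ X rfl hX hm
  unfold IsPGroup at hA
  push Not at hA
  obtain ⟨β, hβ⟩ := hA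
  have hpos : 0 < orderOf β := orderOf_pos β
  rcases Nat.eq_two_pow_or_exists_odd_prime_and_dvd (orderOf β) with ⟨j, hj⟩ | ⟨q, hqp, hqd, hqodd⟩
  · exfalso
    apply hβ j
    rw [← hj]; exact pow_orderOf_eq_one β
  · have hq2 : q ≠ 2 := by
      rintro rfl
      exact absurd hqodd (by decide)
    have ho : orderOf (β ^ (orderOf β / q)) = q := orderOf_pow_orderOf_div hpos.ne' hqd
    refine ⟨β ^ (orderOf β / q), q, hqp, hq2, ?_, ?_⟩
    · have := pow_orderOf_eq_one (β ^ (orderOf β / q))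
      rwa [ho] at this
    · intro h
      rw [h, orderOf_one] at ho
      exact hqp.one_lt.ne ho

end Main

end Cfsg.Agent.H2.MetaTwoAut
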