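import Mathlib
import Cfsg.Agent.H2.UniqueOrderP
import Cfsg.Agent.H2.MetaTwoAut

set_option autoImplicit false
set_option linter.unusedSectionVars false

/-!
# `p`-groups in which subgroups of the same order are isomorphic
-/

namespace Cfsg.Agent.H2.EqualOrderIso

open scoped commutatorElement

universe u

section Pair

variable {G : Type*} [Group G]

/-- normal form in the subgroup generated by two commuting elements -/
theorem closure_pair_form {a b : G} (hab : a * b = b * a) :
    ∀ g ∈ Subgroup.closure ({a, b} : Set G), ∃ i j : ℤ, g = a ^ i * b ^ j := by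
  intro g hg
  induction hg using Subgroup.closure_induction with
  | mem x hx =>
    rcases hx with rfl | rfl
    · exact ⟨1, 0, by simp⟩
    · exact ⟨0, 1, by simp⟩
  | one => exact ⟨0, 0, by simp⟩
  | mul x y _ _ hx hy =>
    obtain ⟨i, j, rfl⟩ := hx
    obtain ⟨k, l, rfl⟩ := hy
    refine ⟨i + k, j + l, ?_⟩
    have h1 : Commute (b ^ j) (a ^ k) :=
      (((show Commute a b from hab).zpow_left k).zpow_right j).symm
    rw [zpow_add, zpow_add]
    calc a ^ i * b ^ j * (a ^ k * b ^ l) = a ^ i * (b ^ j * a ^ k) * b ^ l := by group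
      _ = a ^ i * (a ^ k * b ^ j) * b ^ l := by rw [h1.eq]
      _ = a ^ i * a ^ k * (b ^ j * b ^ l) := by group
  | inv x _ hx =>
    obtain ⟨i, j, rfl⟩ := hx
    refine ⟨-i, -j, ?_⟩
    have h1 : Commute (a ^ (-i)) (b ^ (-j)) :=
      ((show Commute a b from hab).zpow_left (-i)).zpow_right (-j)
    rw [mul_inv_rev, ← zpow_neg, ← zpow_neg]
    exact h1.eq.symm

/-- the subgroup generated by two commuting elements is commutative -/
theorem closure_pair_comm {a b : G} (hab : a * b = b * a) :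
    ∀ g ∈ Subgroup.closure ({a, b} : Set G), ∀ h ∈ Subgroup.closure ({a, b} : Set G),
      g * h = h * g := by
  intro g hg h hh
  obtain ⟨i, j, rfl⟩ := closure_pair_form hab g hg
  obtain ⟨k, l, rfl⟩ := closure_pair_form hab h hh
  have h1 : Commute a b := hab
  have h2 : Commute (a ^ i * b ^ j) (a ^ k * b ^ l) := by
    apply Commute.mul_left
    · apply Commute.mul_right
      · exact ((Commute.refl a).zpow_left i).zpow_right k
      · exact (h1.zpow_left i).zpow_right l
    · apply Commute.mul_right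
      · exact ((h1.zpow_left k).zpow_right j).symm
      · exact ((Commute.refl b).zpow_left j).zpow_right l
  exact h2.eq

/-- the subgroup generated by two commuting elements has order at most the product of orders -/
theorem card_closure_pair_le [Finite G] {a b : G} (hab : a * b = b * a) :
    Nat.card (Subgroup.closure ({a, b} : Set G)) ≤ orderOf a * orderOf b := by
  have ha : orderOf a ≠ 0 := (orderOf_pos a).ne'
  have hb : orderOf b ≠ 0 := (orderOf_pos b).ne'
  have hapos : 0 < orderOf a := Nat.pos_of_ne_zero ha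
  have hbpos : 0 < orderOf b := Nat.pos_of_ne_zero hb
  have : NeZero (orderOf a) := ⟨ha⟩
  have : NeZero (orderOf b) := ⟨hb⟩
  -- surjection from `Fin (orderOf a) × Fin (orderOf b)`
  let f : Fin (orderOf a) × Fin (orderOf b) → Subgroup.closure ({a, b} : Set G) := fun ij =>
    ⟨a ^ (ij.1 : ℕ) * b ^ (ij.2 : ℕ), mul_mem
      (pow_mem (Subgroup.subset_closure (by simp)) _)
      (pow_mem (Subgroup.subset_closure (by simp)) _)⟩
  have hf : Function.Surjective f := by
    rintro ⟨g, hg⟩
    obtain ⟨i, j, rfl⟩ := closure_pair_form hab g hg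
    refine ⟨(⟨(i % (orderOf a : ℤ)).toNat, ?_⟩, ⟨(j % (orderOf b : ℤ)).toNat, ?_⟩), ?_⟩
    · have h1 : 0 ≤ i % (orderOf a : ℤ) := Int.emod_nonneg _ (by exact_mod_cast ha)
      have h2 : i % (orderOf a : ℤ) < orderOf a := Int.emod_lt_of_pos _ (by exact_mod_cast hapos)
      omega
    · have h1 : 0 ≤ j % (orderOf b : ℤ) := Int.emod_nonneg _ (by exact_mod_cast hb)
      have h2 : j % (orderOf b : ℤ) < orderOf b := Int.emod_lt_of_pos _ (by exact_mod_cast hbpos)
      omega
    · apply Subtype.ext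
      have h1 : 0 ≤ i % (orderOf a : ℤ) := Int.emod_nonneg _ (by exact_mod_cast ha)
      have h3 : 0 ≤ j % (orderOf b : ℤ) := Int.emod_nonneg _ (by exact_mod_cast hb)
      change a ^ ((i % (orderOf a : ℤ)).toNat) * b ^ ((j % (orderOf b : ℤ)).toNat) = a ^ i * b ^ j
      rw [← zpow_natCast a, ← zpow_natCast b, Int.toNat_of_nonneg h1, Int.toNat_of_nonneg h3,
        zpow_mod_orderOf, zpow_mod_orderOf]
  have h := Nat.card_le_card_of_surjective f hf
  simpa [Nat.card_prod] using h

end Pair

section Basic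

variable {P : Type u} [Group P] [Finite P] {p : ℕ} [hp : Fact p.Prime]

/-- subgroups of equal order are isomorphic -/
def IsoProp (P : Type*) [Group P] : Prop :=
  ∀ H K : Subgroup P, Nat.card H = Nat.card K → Nonempty (H ≃* K)

theorem comm_of_card_pow_le_two {H : Type*} [Group H] {k : ℕ} (hk : Nat.card H = p ^ k)
    (hk2 : k ≤ 2) : ∀ a b : H, a * b = b * a := by
  interval_cases k
  · have : Subsingleton H := (Nat.card_eq_one_iff_unique.mp (by simpa using hk)).1
    intro a b
    rw [Subsingleton.elim a b]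
  · have : IsCyclic H := isCyclic_of_prime_card (p := p) (by simpa using hk)
    exact MetaTwoAut.comm_of_isCyclic_type this
  · have h := IsPGroup.isMulCommutative_of_card_eq_prime_sq hk
    exact fun a b => h.is_comm.comm a b

theorem orderOf_eq_p_of_pow (hexp : ∀ a : P, a ^ p = 1) {a : P} (ha : a ≠ 1) : orderOf a = p :=
  orderOf_eq_prime (hexp a) ha

/-- an element whose image is a nontrivial central element of the quotient -/
theorem exists_central_mod (hP : IsPGroup p P) (N : Subgroup P) [N.Normal] (hN : N ≠ ⊤) :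
    ∃ y : P, y ∉ N ∧ ∀ g : P, ⁅g, y⁆ ∈ N := by
  have hQ : IsPGroup p (P ⧸ N) := hP.to_quotient N
  have hnt : Nontrivial (P ⧸ N) := by
    by_contra hcon
    rw [not_nontrivial_iff_subsingleton] at hcon
    exact hN (QuotientGroup.subgroup_eq_top_of_subsingleton N hcon)
  have := hQ.center_nontrivial
  obtain ⟨⟨c, hc⟩, hne⟩ := exists_ne (1 : Subgroup.center (P ⧸ N))
  obtain ⟨y, rfl⟩ := QuotientGroup.mk_surjective c
  refine ⟨y, ?_, ?_⟩
  · intro hy
    apply hne
    apply Subtype.ext
    exact (QuotientGroup.eq_one_iff y).mpr hy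
  · intro g
    rw [← QuotientGroup.eq_one_iff]
    have h1 : ((⁅g, y⁆ : P) : P ⧸ N) = ⁅(g : P ⧸ N), (y : P ⧸ N)⁆ :=
      map_commutatorElement (QuotientGroup.mk' N) g y
    rw [h1, commutatorElement_eq_one_iff_commute]
    exact (Subgroup.mem_center_iff.mp hc (g : P ⧸ N))

/-- `g ↦ ⁅g, y⁆` is multiplicative when its values are central -/
theorem comm_mul_of_central {y : P} (hy : ∀ g : P, ⁅g, y⁆ ∈ Subgroup.center P) (g h : P) :
    ⁅g * h, y⁆ = ⁅g, y⁆ * ⁅h, y⁆ := by
  have hc : ∀ w : P, w * ⁅h, y⁆ = ⁅h, y⁆ * w := Subgroup.mem_center_iff.mp (hy h)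
  calc ⁅g * h, y⁆ = g * ⁅h, y⁆ * (y * g⁻¹ * y⁻¹) := by
        simp only [commutatorElement_def]; group
    _ = ⁅h, y⁆ * g * (y * g⁻¹ * y⁻¹) := by rw [hc g]
    _ = ⁅h, y⁆ * ⁅g, y⁆ := by simp only [commutatorElement_def]; group
    _ = ⁅g, y⁆ * ⁅h, y⁆ := (hc _).symm

/-- the commutator homomorphism -/
def commHom (y : P) (hy : ∀ g : P, ⁅g, y⁆ ∈ Subgroup.center P) : P →* P :=
  MonoidHom.mk' (fun g => ⁅g, y⁆) (comm_mul_of_central hy)

theorem commHom_apply (y : P) (hy : ∀ g : P, ⁅g, y⁆ ∈ Subgroup.center P) (g : P) :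
    commHom y hy g = ⁅g, y⁆ := rfl

theorem normal_zpowers_of_central {z : P} (hz : z ∈ Subgroup.center P) :
    (Subgroup.zpowers z).Normal := by
  refine ⟨fun n hn g => ?_⟩
  have h1 : n ∈ Subgroup.center P := (Subgroup.zpowers_le.mpr hz) hn
  have h2 : g * n = n * g := Subgroup.mem_center_iff.mp h1 g
  have h3 : g * n * g⁻¹ = n := by rw [h2]; group
  rw [h3]
  exact hn

theorem exists_central_order_p (hP : IsPGroup p P) [Nontrivial P] (hexp : ∀ a : P, a ^ p = 1) :
    ∃ z : P, z ∈ Subgroup.center P ∧ orderOf z = p := by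
  have := hP.center_nontrivial
  obtain ⟨⟨z, hz⟩, hne⟩ := exists_ne (1 : Subgroup.center P)
  refine ⟨z, hz, orderOf_eq_p_of_pow hexp ?_⟩
  intro h
  apply hne
  exact Subtype.ext h

end Basic

section Cubes

variable {P : Type u} [Group P] [Finite P] {p : ℕ} [hp : Fact p.Prime]

theorem card_zpowers_of_order {z : P} (hz : orderOf z = p) : Nat.card (Subgroup.zpowers z) = p := by
  rw [Nat.card_zpowers, hz]

theorem orderOf_le_of_pow {Q : Type*} [Group Q] {a : Q} (ha : a ^ p = 1) : orderOf a ≤ p :=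
  Nat.le_of_dvd hp.out.pos (orderOf_dvd_of_pow_eq_one ha)

/-- a nonabelian group of exponent `p` has a nonabelian subgroup of order `p ^ 3` -/
theorem exists_nonabelian_cube (hP : IsPGroup p P) (hexp : ∀ a : P, a ^ p = 1)
    (hnc : ¬ ∀ a b : P, a * b = b * a) :
    ∃ H : Subgroup P, Nat.card H = p ^ 3 ∧ ¬ ∀ a ∈ H, ∀ b ∈ H, a * b = b * a := by
  have hZ : Subgroup.center P ≠ ⊤ := by
    intro h
    apply hnc
    intro a b
    have hb : b ∈ Subgroup.center P := by rw [h]; trivial
    exact (Subgroup.mem_center_iff.mp hb a)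
  obtain ⟨y, hyZ, hy⟩ := exists_central_mod hP (Subgroup.center P) hZ
  obtain ⟨x, hx⟩ : ∃ x : P, x * y ≠ y * x := by
    by_contra hcon
    push Not at hcon
    exact hyZ (Subgroup.mem_center_iff.mpr hcon)
  obtain ⟨z, hzdef⟩ : ∃ z : P, z = ⁅x, y⁆ := ⟨_, rfl⟩
  have hz1 : z ≠ 1 := by
    rw [hzdef]
    intro h
    rw [commutatorElement_eq_one_iff_commute] at h
    exact hx h.eq
  have hzc : z ∈ Subgroup.center P := hzdef ▸ hy x
  have hzo : orderOf z = p := orderOf_eq_p_of_pow hexp hz1
  have hN : (Subgroup.zpowers z).Normal := normal_zpowers_of_central hzc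
  obtain ⟨N, hNdef⟩ : ∃ N : Subgroup P, N = Subgroup.zpowers z := ⟨_, rfl⟩
  rw [← hNdef] at hN
  have hNcard : Nat.card N = p := by rw [hNdef]; exact card_zpowers_of_order hzo
  -- the quotient
  have hcomm : ((x : P) : P ⧸ N) * (y : P ⧸ N) = (y : P ⧸ N) * (x : P ⧸ N) := by
    have h1 : ⁅((x : P) : P ⧸ N), (y : P ⧸ N)⁆ = 1 := by
      have h2 : ((⁅x, y⁆ : P) : P ⧸ N) = ⁅(x : P ⧸ N), (y : P ⧸ N)⁆ :=
        map_commutatorElement (QuotientGroup.mk' N) x y
      rw [← h2, QuotientGroup.eq_one_iff, ← hzdef, hNdef]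
      exact Subgroup.mem_zpowers z
    exact (commutatorElement_eq_one_iff_commute.mp h1).eq
  obtain ⟨A, hAdef⟩ : ∃ A : Subgroup (P ⧸ N),
      A = Subgroup.closure ({((x : P) : P ⧸ N), (y : P ⧸ N)} : Set (P ⧸ N)) := ⟨_, rfl⟩
  have hAcard : Nat.card A ≤ p * p := by
    rw [hAdef]
    refine (card_closure_pair_le hcomm).trans ?_
    apply Nat.mul_le_mul
    · apply orderOf_le_of_pow
      rw [← QuotientGroup.mk_pow, hexp]; rfl
    · apply orderOf_le_of_pow
      rw [← QuotientGroup.mk_pow, hexp]; rfl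
  obtain ⟨H, hHdef⟩ : ∃ H : Subgroup P, H = A.comap (QuotientGroup.mk' N) := ⟨_, rfl⟩
  have hidx : H.index = A.index := by
    rw [hHdef]
    exact Subgroup.index_comap_of_surjective A (QuotientGroup.mk'_surjective N)
  have hcardH : Nat.card H = p * Nat.card A := by
    have h1 := H.card_mul_index
    have h2 := A.card_mul_index
    have h3 := Subgroup.card_eq_card_quotient_mul_card_subgroup N
    rw [hNcard] at h3
    rw [h3, ← h2, hidx] at h1
    have hpos : 0 < A.index := Nat.pos_of_ne_zero (Subgroup.index_ne_zero_of_finite)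
    have h4 : Nat.card H * A.index = (p * Nat.card A) * A.index := by rw [h1]; ring
    exact Nat.eq_of_mul_eq_mul_right hpos h4
  have hxH : x ∈ H := by
    rw [hHdef, Subgroup.mem_comap, hAdef]
    exact Subgroup.subset_closure (by simp)
  have hyH : y ∈ H := by
    rw [hHdef, Subgroup.mem_comap, hAdef]
    exact Subgroup.subset_closure (by simp)
  have hHnc : ¬ ∀ a ∈ H, ∀ b ∈ H, a * b = b * a := fun h => hx (h x hxH y hyH)
  refine ⟨H, ?_, hHnc⟩
  obtain ⟨k, hk⟩ := IsPGroup.iff_card.mp (hP.to_subgroup H)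
  have hk3 : k ≤ 3 := by
    have h1 : p ^ k ≤ p ^ 3 := by
      rw [← hk, hcardH]
      calc p * Nat.card A ≤ p * (p * p) := Nat.mul_le_mul_left _ hAcard
        _ = p ^ 3 := by ring
    exact (Nat.pow_le_pow_iff_right hp.out.one_lt).mp h1
  have hk2 : ¬ k ≤ 2 := by
    intro hk2
    apply hHnc
    intro a ha b hb
    have := comm_of_card_pow_le_two (p := p) hk hk2 ⟨a, ha⟩ ⟨b, hb⟩
    exact congrArg Subtype.val this
  rw [hk]
  congr 1
  omega

/-- a group of exponent `p` and order at least `p ^ 4` has an abelian subgroup of order `p ^ 3` -/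
theorem exists_abelian_cube (hP : IsPGroup p P) (hexp : ∀ a : P, a ^ p = 1) {n : ℕ}
    (hn : Nat.card P = p ^ n) (hn4 : 4 ≤ n) :
    ∃ B : Subgroup P, Nat.card B = p ^ 3 ∧ ∀ a ∈ B, ∀ b ∈ B, a * b = b * a := by
  have hp1 : 1 < p := hp.out.one_lt
  have hnt : Nontrivial P := by
    rw [← Finite.one_lt_card_iff_nontrivial, hn]
    exact Nat.one_lt_pow (by omega) hp1
  obtain ⟨z, hzc, hzo⟩ := exists_central_order_p hP hexp
  have hN : (Subgroup.zpowers z).Normal := normal_zpowers_of_central hzc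
  obtain ⟨N, hNdef⟩ : ∃ N : Subgroup P, N = Subgroup.zpowers z := ⟨_, rfl⟩
  rw [← hNdef] at hN
  have hNcard : Nat.card N = p := by rw [hNdef]; exact card_zpowers_of_order hzo
  have hNc : N ≤ Subgroup.center P := by rw [hNdef]; exact Subgroup.zpowers_le.mpr hzc
  have hNtop : N ≠ ⊤ := by
    intro h
    have h1 : Nat.card N = Nat.card P := by rw [h, Subgroup.card_top]
    rw [hNcard, hn] at h1
    have h2 : p ^ 1 = p ^ n := by rw [pow_one]; exact h1
    have := Nat.pow_right_injective hp1 h2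
    omega
  obtain ⟨y, hyN, hy⟩ := exists_central_mod hP N hNtop
  have hy' : ∀ g : P, ⁅g, y⁆ ∈ Subgroup.center P := fun g => hNc (hy g)
  -- the kernel of the commutator map has order at least `p ^ 3`
  obtain ⟨C, hCdef⟩ : ∃ C : Subgroup P, C = (commHom y hy').ker := ⟨_, rfl⟩
  have hCmem : ∀ g : P, g ∈ C ↔ g * y = y * g := by
    intro g
    rw [hCdef, MonoidHom.mem_ker, commHom_apply, commutatorElement_eq_one_iff_commute]
    exact ⟨fun h => h.eq, fun h => h⟩
  have hCidx : C.index ≤ p := by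
    rw [hCdef, Subgroup.index_ker]
    have h1 : (commHom y hy').range ≤ N := by
      rintro _ ⟨g, rfl⟩
      rw [commHom_apply]
      exact hy g
    calc Nat.card (commHom y hy').range ≤ Nat.card N := Subgroup.card_le_of_le h1
      _ = p := hNcard
  have hCcard : p ^ 3 ≤ Nat.card C := by
    have h1 := C.card_mul_index
    rw [hn] at h1
    have h2 : p ^ n ≤ Nat.card C * p := by
      rw [← h1]
      exact Nat.mul_le_mul_left _ hCidx
    have h3 : p ^ 4 ≤ p ^ n := Nat.pow_le_pow_right hp.out.pos hn4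
    have h4 : p ^ 3 * p ≤ Nat.card C * p := by
      calc p ^ 3 * p = p ^ 4 := by ring
        _ ≤ p ^ n := h3
        _ ≤ Nat.card C * p := h2
    exact Nat.le_of_mul_le_mul_right h4 hp.out.pos
  -- `y` and `z` generate a subgroup of order at most `p ^ 2`
  have hyz : y * z = z * y := (Subgroup.mem_center_iff.mp hzc y)
  obtain ⟨E, hEdef⟩ : ∃ E : Subgroup P, E = Subgroup.closure ({y, z} : Set P) := ⟨_, rfl⟩
  have hEcard : Nat.card E ≤ p * p := by
    rw [hEdef]
    refine (card_closure_pair_le hyz).trans ?_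
    exact Nat.mul_le_mul (orderOf_le_of_pow (hexp y)) (orderOf_le_of_pow (hexp z))
  have hNE : N ≤ E := by
    rw [hNdef, hEdef, Subgroup.zpowers_le]
    exact Subgroup.subset_closure (by simp)
  have hyE : y ∈ E := by
    rw [hEdef]
    exact Subgroup.subset_closure (by simp)
  have hzE : z ∈ E := by
    rw [hEdef]
    exact Subgroup.subset_closure (by simp)
  have hEcard' : p * p ≤ Nat.card E := by
    obtain ⟨k, hk⟩ := IsPGroup.iff_card.mp (hP.to_subgroup E)
    have hk1 : ¬ k ≤ 1 := by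
      intro hk1
      have h1 : Nat.card E ≤ Nat.card N := by
        rw [hk, hNcard]
        calc p ^ k ≤ p ^ 1 := Nat.pow_le_pow_right hp.out.pos hk1
          _ = p := pow_one p
      have h2 : N = E := Subgroup.eq_of_le_of_card_ge hNE h1
      exact hyN (h2 ▸ hyE)
    rw [hk]
    calc p * p = p ^ 2 := by ring
      _ ≤ p ^ k := Nat.pow_le_pow_right hp.out.pos (by omega)
  -- pick `c` in `C` outside `E`
  obtain ⟨c, hcC, hcE⟩ : ∃ c ∈ C, c ∉ E := by
    by_contra hcon
    push Not at hcon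
    have h1 : C ≤ E := hcon
    have h2 := Subgroup.card_le_of_le h1
    have h3 : p * p < p ^ 3 := by
      have h4 : 0 < p * p := Nat.mul_pos hp.out.pos hp.out.pos
      calc p * p = p * p * 1 := by ring
        _ < p * p * p := Nat.mul_lt_mul_of_pos_left hp1 h4
        _ = p ^ 3 := by ring
    omega
  have hcy : c * y = y * c := (hCmem c).mp hcC
  have hcz : c * z = z * c := (Subgroup.mem_center_iff.mp hzc c)
  obtain ⟨B, hBdef⟩ : ∃ B : Subgroup P, B = Subgroup.closure ({y, z, c} : Set P) := ⟨_, rfl⟩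
  have hBcomm : ∀ a ∈ B, ∀ b ∈ B, a * b = b * a := by
    have hgen : ∀ a ∈ ({y, z, c} : Set P), ∀ b ∈ ({y, z, c} : Set P), a * b = b * a := by
      intro a ha b hb
      rcases ha with rfl | rfl | rfl <;> rcases hb with rfl | rfl | rfl
      · rfl
      · exact hyz
      · exact hcy.symm
      · exact hyz.symm
      · rfl
      · exact hcz.symm
      · exact hcy
      · exact hcz
      · rfl
    have hB := Subgroup.isMulCommutative_closure hgen
    intro a ha b hb
    rw [hBdef] at ha hb
    exact congrArg Subtype.val (hB.is_comm.comm ⟨a, ha⟩ ⟨b, hb⟩)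
  have hEB : E ≤ B := by
    rw [hEdef, hBdef]
    apply Subgroup.closure_mono
    intro w hw
    rcases hw with rfl | rfl
    · simp
    · simp
  have hcB : c ∈ B := by
    rw [hBdef]
    exact Subgroup.subset_closure (by simp)
  have hBcard : p ^ 3 ≤ Nat.card B := by
    obtain ⟨k, hk⟩ := IsPGroup.iff_card.mp (hP.to_subgroup B)
    have hk2 : ¬ k ≤ 2 := by
      intro hk2
      have h1 : Nat.card B ≤ Nat.card E := by
        rw [hk]
        calc p ^ k ≤ p ^ 2 := Nat.pow_le_pow_right hp.out.pos hk2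
          _ = p * p := by ring
          _ ≤ Nat.card E := hEcard'
      have h2 : E = B := Subgroup.eq_of_le_of_card_ge hEB h1
      exact hcE (h2 ▸ hcB)
    rw [hk]
    exact Nat.pow_le_pow_right hp.out.pos (by omega)
  obtain ⟨B', hB'B, hB'card⟩ :=
    Sylow.exists_subgroup_le_card_pow_prime_of_le_card hp.out hP hBcard
  exact ⟨B', hB'card, fun a ha b hb => hBcomm a (hB'B ha) b (hB'B hb)⟩

end Cubes

section CaseB

variable {P : Type u} [Group P] [Finite P] {p : ℕ} [hp : Fact p.Prime]

theorem caseB (hP : IsPGroup p P) (hiso : IsoProp P) (hexp : ∀ a : P, a ^ p = 1)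
    (hnc : ¬ ∀ a b : P, a * b = b * a) :
    p ≠ 2 ∧ Nat.card P = p ^ 3 ∧ Monoid.exponent P = p := by
  have hp1 : 1 < p := hp.out.one_lt
  have hp2 : p ≠ 2 := by
    rintro rfl
    apply hnc
    intro a b
    have h1 : ∀ w : P, w⁻¹ = w := fun w => by
      rw [inv_eq_iff_mul_eq_one, ← pow_two]; exact hexp w
    calc a * b = (a * b)⁻¹ := (h1 _).symm
      _ = b⁻¹ * a⁻¹ := mul_inv_rev a b
      _ = b * a := by rw [h1, h1]
  obtain ⟨n, hn⟩ := IsPGroup.iff_card.mp hP
  obtain ⟨H, hHcard, hHnc⟩ := exists_nonabelian_cube hP hexp hnc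
  have hn3 : 3 ≤ n := by
    have h1 := Subgroup.card_le_card_group H
    rw [hHcard, hn] at h1
    exact (Nat.pow_le_pow_iff_right hp1).mp h1
  have hn4 : ¬ 4 ≤ n := by
    intro hn4
    obtain ⟨B, hBcard, hBc⟩ := exists_abelian_cube hP hexp hn hn4
    obtain ⟨e⟩ := hiso H B (hHcard.trans hBcard.symm)
    apply hHnc
    intro a ha b hb
    have h1 := hBc _ (e ⟨a, ha⟩).2 _ (e ⟨b, hb⟩).2
    have h2 : e ⟨a, ha⟩ * e ⟨b, hb⟩ = e ⟨b, hb⟩ * e ⟨a, ha⟩ := Subtype.ext h1
    rw [← map_mul, ← map_mul] at h2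
    exact congrArg Subtype.val (e.injective h2)
  have hn' : n = 3 := by omega
  refine ⟨hp2, by rw [hn, hn'], ?_⟩
  have h1 : Monoid.exponent P ∣ p := Monoid.exponent_dvd_of_forall_pow_eq_one hexp
  rcases (Nat.dvd_prime hp.out).mp h1 with h | h
  · exfalso
    rw [Monoid.exp_eq_one_iff] at h
    apply hnc
    intro a b
    rw [Subsingleton.elim a b]
  · exact h

end CaseB

section CaseA

variable {P : Type u} [Group P] [Finite P] {p : ℕ} [hp : Fact p.Prime]

theorem isCyclic_of_iso {H K : Subgroup P} (e : H ≃* K) (hK : IsCyclic K) : IsCyclic H :=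
  isCyclic_of_surjective e.symm e.symm.surjective

/-- if there is an element of order `p ^ 2`, there is a unique subgroup of order `p` -/
theorem unique_order_p (hP : IsPGroup p P) (hiso : IsoProp P) {a : P} (ha : orderOf a = p ^ 2) :
    ∀ H K : Subgroup P, Nat.card H = p → Nat.card K = p → H = K := by
  have hp1 : 1 < p := hp.out.one_lt
  have hcyc : ∀ E : Subgroup P, Nat.card E = p ^ 2 → IsCyclic E := by
    intro E hE
    have h1 : Nat.card E = Nat.card (Subgroup.zpowers a) := by rw [hE, Nat.card_zpowers, ha]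
    obtain ⟨e⟩ := hiso E (Subgroup.zpowers a) h1
    exact isCyclic_of_iso e inferInstance
  have hnt : Nontrivial P := by
    refine ⟨⟨a, 1, ?_⟩⟩
    rintro rfl
    rw [orderOf_one] at ha
    have : 1 < p ^ 2 := Nat.one_lt_pow (by norm_num) hp1
    omega
  -- a central element of order `p`
  obtain ⟨z, hzc, hzo⟩ : ∃ z : P, z ∈ Subgroup.center P ∧ orderOf z = p := by
    have := hP.center_nontrivial
    obtain ⟨⟨z₀, hz₀⟩, hne⟩ := exists_ne (1 : Subgroup.center P)
    have hz₀1 : z₀ ≠ 1 := fun h => hne (Subtype.ext h)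
    obtain ⟨k, hk⟩ := IsPGroup.iff_orderOf.mp hP z₀
    have hk0 : k ≠ 0 := by
      rintro rfl
      rw [pow_zero, orderOf_eq_one_iff] at hk
      exact hz₀1 hk
    obtain ⟨m, rfl⟩ : ∃ m, k = m + 1 := ⟨k - 1, by omega⟩
    refine ⟨z₀ ^ (p ^ m), Subgroup.pow_mem _ hz₀ _, ?_⟩
    rw [orderOf_pow_of_dvd (pow_pos hp.out.pos m).ne' (by rw [hk]; exact pow_dvd_pow p (by omega)),
      hk, pow_succ]
    exact Nat.mul_div_cancel_left p (pow_pos hp.out.pos m)
  obtain ⟨N, hNdef⟩ : ∃ N : Subgroup P, N = Subgroup.zpowers z := ⟨_, rfl⟩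
  have hNcard : Nat.card N = p := by rw [hNdef]; exact card_zpowers_of_order hzo
  have key : ∀ H : Subgroup P, Nat.card H = p → H = N := by
    intro H hH
    have hHnt : Nontrivial H := by
      rw [← Finite.one_lt_card_iff_nontrivial, hH]; exact hp1
    obtain ⟨⟨h, hhH⟩, hne⟩ := exists_ne (1 : H)
    have hh1 : h ≠ 1 := fun hh => hne (Subtype.ext hh)
    have hho : orderOf h = p := by
      have h1 : orderOf (⟨h, hhH⟩ : H) ∣ p := hH ▸ orderOf_dvd_natCard _
      have h2 : orderOf (⟨h, hhH⟩ : H) = orderOf h := Subgroup.orderOf_mk h hhH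
      rw [h2] at h1
      rcases (Nat.dvd_prime hp.out).mp h1 with h3 | h3
      · exact absurd (orderOf_eq_one_iff.mp h3) hh1
      · exact h3
    have hHz : H = Subgroup.zpowers h := by
      symm
      apply Subgroup.eq_of_le_of_card_ge (Subgroup.zpowers_le.mpr hhH)
      rw [hH, Nat.card_zpowers, hho]
    by_cases hhN : h ∈ N
    · rw [hHz]
      apply Subgroup.eq_of_le_of_card_ge (Subgroup.zpowers_le.mpr hhN)
      rw [hNcard, Nat.card_zpowers, hho]
    · exfalso
      have hhz : h * z = z * h := (Subgroup.mem_center_iff.mp hzc h)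
      obtain ⟨E, hEdef⟩ : ∃ E : Subgroup P, E = Subgroup.closure ({h, z} : Set P) := ⟨_, rfl⟩
      have hEcard : Nat.card E ≤ p * p := by
        rw [hEdef]
        refine (card_closure_pair_le hhz).trans ?_
        rw [hho, hzo]
      have hNE : N ≤ E := by
        rw [hNdef, hEdef, Subgroup.zpowers_le]
        exact Subgroup.subset_closure (by simp)
      have hhE : h ∈ E := by
        rw [hEdef]
        exact Subgroup.subset_closure (by simp)
      have hEcard' : Nat.card E = p ^ 2 := by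
        obtain ⟨k, hk⟩ := IsPGroup.iff_card.mp (hP.to_subgroup E)
        have hk1 : ¬ k ≤ 1 := by
          intro hk1
          have h1 : Nat.card E ≤ Nat.card N := by
            rw [hk, hNcard]
            calc p ^ k ≤ p ^ 1 := Nat.pow_le_pow_right hp.out.pos hk1
              _ = p := pow_one p
          have h2 : N = E := Subgroup.eq_of_le_of_card_ge hNE h1
          exact hhN (h2 ▸ hhE)
        have hk2 : k ≤ 2 := by
          have h1 : p ^ k ≤ p ^ 2 := by rw [← hk, pow_two]; exact hEcard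
          exact (Nat.pow_le_pow_iff_right hp1).mp h1
        rw [hk]
        congr 1
        omega
      have hEc := hcyc E hEcard'
      obtain ⟨⟨g, hgE⟩, hg⟩ := hEc.exists_generator
      have hgo : orderOf g = p ^ 2 := by
        have h1 : orderOf (⟨g, hgE⟩ : E) = Nat.card E := orderOf_eq_card_of_forall_mem_zpowers hg
        rw [Subgroup.orderOf_mk, hEcard'] at h1
        exact h1
      rw [hEdef] at hgE
      obtain ⟨i, j, rfl⟩ := closure_pair_form hhz g hgE
      have hpow : (h ^ i * z ^ j) ^ p = 1 := by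
        have hc : Commute (h ^ i) (z ^ j) := ((show Commute h z from hhz).zpow_left i).zpow_right j
        rw [hc.mul_pow, ← zpow_natCast, ← zpow_natCast, ← zpow_mul, ← zpow_mul, mul_comm i,
          mul_comm j, zpow_mul, zpow_mul, zpow_natCast, zpow_natCast, ← hho, pow_orderOf_eq_one,
          hho, ← hzo, pow_orderOf_eq_one]
        simp
      have h1 : p ^ 2 ∣ p := hgo ▸ orderOf_dvd_of_pow_eq_one hpow
      have h2 : p ^ 2 ≤ p := Nat.le_of_dvd hp.out.pos h1
      have h3 : p < p ^ 2 := by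
        calc p = p ^ 1 := (pow_one p).symm
          _ < p ^ 2 := Nat.pow_lt_pow_right hp1 (by norm_num)
      omega
  intro H K hH hK
  rw [key H hH, key K hK]

end CaseA

section Quat

variable {P : Type u} [Group P] [Finite P]

theorem quat_contra (hiso : IsoProp P) (hP : IsPGroup 2 P) {N : ℕ} [NeZero N] (hN : 4 ≤ N)
    (e : P ≃* QuaternionGroup N) : False := by
  obtain ⟨a₀, ha₀⟩ : ∃ a₀ : P, a₀ = e.symm (QuaternionGroup.a 1) := ⟨_, rfl⟩
  obtain ⟨x₀, hx₀⟩ : ∃ x₀ : P, x₀ = e.symm (QuaternionGroup.xa 0) := ⟨_, rfl⟩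
  have hea : e a₀ = QuaternionGroup.a 1 := by rw [ha₀]; simp
  have hex : e x₀ = QuaternionGroup.xa 0 := by rw [hx₀]; simp
  have hao : orderOf a₀ = 2 * N := by
    rw [← MulEquiv.orderOf_eq e, hea, QuaternionGroup.orderOf_a_one]
  have hxo : orderOf x₀ = 4 := by
    rw [← MulEquiv.orderOf_eq e, hex, QuaternionGroup.orderOf_xa]
  have hcard : Nat.card P = 4 * N := by
    rw [Nat.card_congr e.toEquiv, Nat.card_eq_fintype_card, QuaternionGroup.card]
  have hXtop : Subgroup.zpowers x₀ ≠ ⊤ := by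
    intro h
    have h1 : Nat.card (Subgroup.zpowers x₀) = Nat.card P := by rw [h, Subgroup.card_top]
    rw [Nat.card_zpowers, hxo, hcard] at h1
    omega
  obtain ⟨M, hMidx, hXM⟩ := MetaTwoAut.exists_index_two_of_ne_top hP _ hXtop
  have hMcard : Nat.card M = 2 * N := by
    have := M.card_mul_index
    rw [hMidx, hcard] at this
    omega
  obtain ⟨ε⟩ := hiso M (Subgroup.zpowers a₀) (by rw [hMcard, Nat.card_zpowers, hao])
  have hMc : IsCyclic M := isCyclic_of_iso ε inferInstance
  obtain ⟨⟨g, hgM⟩, hg⟩ := hMc.exists_generator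
  have hgo : orderOf g = 2 * N := by
    have h1 : orderOf (⟨g, hgM⟩ : M) = Nat.card M := orderOf_eq_card_of_forall_mem_zpowers hg
    rw [Subgroup.orderOf_mk, hMcard] at h1
    exact h1
  have hgA : g ∈ Subgroup.zpowers a₀ := by
    rcases hq : e g with i | i
    · have h1 : e g = e (a₀ ^ i.val) := by
        rw [map_pow, hea, QuaternionGroup.a_one_pow, hq, ZMod.natCast_zmod_val]
      rw [e.injective h1]
      exact Subgroup.pow_mem _ (Subgroup.mem_zpowers a₀) _
    · exfalso
      have h1 : orderOf (e g) = 4 := by rw [hq, QuaternionGroup.orderOf_xa]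
      rw [MulEquiv.orderOf_eq, hgo] at h1
      omega
  have hMA : M ≤ Subgroup.zpowers a₀ := by
    intro m hm
    obtain ⟨k, hk⟩ := Subgroup.mem_zpowers_iff.mp (hg ⟨m, hm⟩)
    have hk' : g ^ k = m := by
      have := congrArg Subtype.val hk
      simpa using this
    rw [← hk']
    exact Subgroup.zpow_mem _ hgA k
  have hxA : x₀ ∈ Subgroup.zpowers a₀ := hMA (hXM (Subgroup.mem_zpowers x₀))
  obtain ⟨k, hk⟩ := (mem_powers_iff_mem_zpowers.mpr hxA)
  have h1 := congrArg e hk
  simp only [map_pow] at h1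
  rw [hea, QuaternionGroup.a_one_pow, hex] at h1
  cases h1

end Quat

section Main

variable {P : Type u} [Group P] [Finite P] {p : ℕ} [hp : Fact p.Prime]

theorem main (hP : IsPGroup p P) (hiso : IsoProp P) :
    IsCyclic P ∨ ((∀ a b : P, a * b = b * a) ∧ ∀ a : P, a ^ p = 1) ∨
      (p = 2 ∧ Nonempty (P ≃* QuaternionGroup 2)) ∨
      (p ≠ 2 ∧ (¬ ∀ a b : P, a * b = b * a) ∧ Nat.card P = p ^ 3 ∧ Monoid.exponent P = p) := by
  by_cases hexp : ∀ a : P, a ^ p = 1
  · by_cases hc : ∀ a b : P, a * b = b * a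
    · exact Or.inr (Or.inl ⟨hc, hexp⟩)
    · obtain ⟨h1, h2, h3⟩ := caseB hP hiso hexp hc
      exact Or.inr (Or.inr (Or.inr ⟨h1, hc, h2, h3⟩))
  · push Not at hexp
    obtain ⟨a, ha⟩ := hexp
    obtain ⟨k, hk⟩ := IsPGroup.iff_orderOf.mp hP a
    have hk2 : 2 ≤ k := by
      by_contra hlt
      push Not at hlt
      apply ha
      have h1 : orderOf a ∣ p := by
        rw [hk]
        calc p ^ k ∣ p ^ 1 := pow_dvd_pow p (by omega)
          _ = p := pow_one p
      exact orderOf_dvd_iff_pow_eq_one.mp h1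
    obtain ⟨m, rfl⟩ : ∃ m, k = m + 2 := ⟨k - 2, by omega⟩
    have ha' : orderOf (a ^ (p ^ m)) = p ^ 2 := by
      rw [orderOf_pow_of_dvd (pow_pos hp.out.pos m).ne' (by rw [hk]; exact pow_dvd_pow p (by omega)),
        hk, pow_add]
      exact Nat.mul_div_cancel_left _ (pow_pos hp.out.pos m)
    have huniq := unique_order_p hP hiso ha'
    rcases UOP.main p hP huniq with h | ⟨rfl, n, ⟨e⟩⟩
    · exact Or.inl h
    · rcases Nat.lt_or_ge n 1 with hn | hn
      · have hn0 : n = 0 := by omega
        subst hn0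
        left
        have h1 : IsCyclic (QuaternionGroup (2 ^ 0)) := by
          rw [pow_zero]; exact QuaternionGroup.quaternionGroup_one_isCyclic
        exact isCyclic_of_surjective e.symm e.symm.surjective
      · rcases Nat.lt_or_ge n 2 with hn2 | hn2
        · have hn1 : n = 1 := by omega
          subst hn1
          right; right; left
          exact ⟨rfl, ⟨e⟩⟩
        · exfalso
          have hN : 4 ≤ 2 ^ n := by
            calc 4 = 2 ^ 2 := by norm_num
              _ ≤ 2 ^ n := Nat.pow_le_pow_right (by norm_num) hn2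
          exact quat_contra hiso hP hN e

end Main

section Transfer

variable {G : Type u} [Group G]

/-- conjugate subgroups are isomorphic -/
theorem isoProp_of_conj {p : ℕ} (Q : Subgroup G) (hQ : IsPGroup p Q)
    (hC : ∀ H K : Subgroup G, IsPGroup p H → IsPGroup p K → Nat.card H = Nat.card K →
      ∃ g : G, K = H.map (MulAut.conj g).toMonoidHom) : IsoProp Q := by
  intro H K hHK
  have hHp : IsPGroup p (H.map Q.subtype) := (hQ.to_subgroup H).map Q.subtype
  have hKp : IsPGroup p (K.map Q.subtype) := (hQ.to_subgroup K).map Q.subtype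
  let eH : H ≃* H.map Q.subtype := H.equivMapOfInjective Q.subtype Q.subtype_injective
  let eK : K ≃* K.map Q.subtype := K.equivMapOfInjective Q.subtype Q.subtype_injective
  have hcard : Nat.card (H.map Q.subtype) = Nat.card (K.map Q.subtype) := by
    rw [← Nat.card_congr eH.toEquiv, ← Nat.card_congr eK.toEquiv, hHK]
  obtain ⟨g, hg⟩ := hC _ _ hHp hKp hcard
  let eC : (H.map Q.subtype) ≃* (H.map Q.subtype).map (MulAut.conj g).toMonoidHom :=
    (H.map Q.subtype).equivMapOfInjective _ (MulAut.conj g).injective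
  exact ⟨(eH.trans eC).trans ((MulEquiv.subgroupCongr hg.symm).trans eK.symm)⟩

end Transfer

end Cfsg.Agent.H2.EqualOrderIso
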