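import Mathlib
import Cfsg.Agent.Lib.Helper4.FrobDiv

/-!
# Solvable groups with exactly `n` solutions of `x ^ n = 1`

If `G` is solvable, `n ∣ |G|` and `x ^ n = 1` has exactly `n` solutions, the solutions form a
normal subgroup.
-/

namespace Cfsg.Agent.H2.ExactSol

universe u

open scoped commutatorElement

lemma exists_omega {G : Type u} [Group G] (B : Subgroup G)
    (hB : ∀ x ∈ B, ∀ y ∈ B, x * y = y * x) (p : ℕ) :
    ∃ A : Subgroup G, ∀ x, x ∈ A ↔ x ∈ B ∧ x ^ p = 1 := by
  refine ⟨{ carrier := {x | x ∈ B ∧ x ^ p = 1}, mul_mem' := ?_, one_mem' := ?_, inv_mem' := ?_ },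
    fun x => Iff.rfl⟩
  · rintro x y ⟨hx, hx'⟩ ⟨hy, hy'⟩
    refine ⟨B.mul_mem hx hy, ?_⟩
    have hc : Commute x y := hB x hx y hy
    rw [hc.mul_pow, hx', hy', one_mul]
  · exact ⟨B.one_mem, one_pow p⟩
  · rintro x ⟨hx, hx'⟩
    exact ⟨B.inv_mem hx, by rw [inv_pow, hx', inv_one]⟩

/-- a nontrivial finite solvable group has a nontrivial normal abelian subgroup of prime exponent -/
theorem exists_normal_exponent_p {G : Type u} [Group G] [Finite G] [Group.IsSolvable G] [Nontrivial G] :
    ∃ (p : ℕ) (A : Subgroup G), p.Prime ∧ A.Normal ∧ A ≠ ⊥ ∧ ∀ a ∈ A, a ^ p = 1 := by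
  classical
  have hsol : ∃ n, derivedSeries G n = ⊥ := Group.IsSolvable.solvable
  obtain ⟨n, hn, hmin⟩ : ∃ n, derivedSeries G n = ⊥ ∧ ∀ m < n, derivedSeries G m ≠ ⊥ :=
    ⟨Nat.find hsol, Nat.find_spec hsol, fun m hm => Nat.find_min hsol hm⟩
  have hn0 : n ≠ 0 := by
    rintro rfl
    rw [derivedSeries_zero] at hn
    exact top_ne_bot hn
  obtain ⟨m, rfl⟩ := Nat.exists_eq_succ_of_ne_zero hn0
  obtain ⟨B, hB⟩ : ∃ B : Subgroup G, B = derivedSeries G m := ⟨_, rfl⟩
  have hBn : B.Normal := hB ▸ inferInstance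
  have hBne : B ≠ ⊥ := hB ▸ hmin m (Nat.lt_succ_self m)
  have hBab : ∀ x ∈ B, ∀ y ∈ B, x * y = y * x := by
    intro x hx y hy
    have h1 : ⁅x, y⁆ ∈ ⁅B, B⁆ := Subgroup.commutator_mem_commutator hx hy
    rw [hB, ← derivedSeries_succ, hn, Subgroup.mem_bot] at h1
    exact commutatorElement_eq_one_iff_mul_comm.mp h1
  have hBcard : Nat.card B ≠ 1 := by
    rw [Ne, Subgroup.card_eq_one]; exact hBne
  obtain ⟨p, hp, hpB⟩ := Nat.exists_prime_and_dvd hBcard
  have : Fact p.Prime := ⟨hp⟩
  obtain ⟨b, hb⟩ := exists_prime_orderOf_dvd_card' p hpB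
  obtain ⟨A, hA⟩ := exists_omega B hBab p
  refine ⟨p, A, hp, ?_, ?_, ?_⟩
  · constructor
    intro x hx g
    rw [hA] at hx ⊢
    refine ⟨hBn.conj_mem x hx.1 g, ?_⟩
    rw [conj_pow, hx.2, mul_one, mul_inv_cancel]
  · intro h
    have h1 : (b : G) ∈ A := by
      rw [hA]
      refine ⟨b.2, ?_⟩
      have := pow_orderOf_eq_one b
      rw [hb] at this
      have h2 := congrArg Subtype.val this
      simpa using h2
    rw [h, Subgroup.mem_bot] at h1
    have h3 : b = 1 := Subtype.ext h1
    rw [h3, orderOf_one] at hb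
    exact hp.one_lt.ne hb
  · intro a ha
    exact ((hA a).mp ha).2


/-- final step: a subgroup of order `n` inside the solution set is the solution set, and normal -/
lemma finish {G : Type u} [Group G] [Finite G] (n : ℕ) (K : Subgroup G)
    (hsub : ∀ x ∈ K, x ^ n = 1) (hK : Nat.card K = n)
    (hcount : Nat.card {x : G // x ^ n = 1} = n) :
    ∃ H : Subgroup G, H.Normal ∧ (H : Set G) = {x : G | x ^ n = 1} := by
  have heq : (K : Set G) = {x : G | x ^ n = 1} := by
    have hle : ({x : G | x ^ n = 1} : Set G).ncard ≤ (K : Set G).ncard := by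
      rw [← Nat.card_coe_set_eq, ← Nat.card_coe_set_eq]
      exact le_of_eq (hcount.trans hK.symm)
    exact Set.eq_of_subset_of_ncard_le (fun x hx => hsub x hx) hle (Set.toFinite _)
  refine ⟨K, ⟨?_⟩, heq⟩
  intro x hx g
  have h1 : x ^ n = 1 := hsub x hx
  have h2 : g * x * g⁻¹ ∈ (K : Set G) := by
    rw [heq]
    change (g * x * g⁻¹) ^ n = 1
    rw [conj_pow, h1, mul_one, mul_inv_cancel]
  exact h2

/-- lifting solutions modulo a normal subgroup of coprime order -/
lemma exists_lift {G : Type u} [Group G] [Finite G] (A : Subgroup G) [A.Normal] (n : ℕ) (hn0 : n ≠ 0)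
    (hcop : Nat.Coprime (Nat.card A) n) (y : G ⧸ A) (hy : y ^ n = 1) :
    ∃ x : G, (x : G ⧸ A) = y ∧ x ^ n = 1 := by
  obtain ⟨x, rfl⟩ := QuotientGroup.mk_surjective y
  obtain ⟨e, he⟩ : ∃ e, e = Nat.card A ^ Nat.totient n := ⟨_, rfl⟩
  refine ⟨x ^ e, ?_, ?_⟩
  · rw [QuotientGroup.mk_pow]
    have h1 : e ≡ 1 [MOD n] := he ▸ Nat.ModEq.pow_totient hcop
    rw [Cfsg.Agent.Lib.Helper4.FrobDiv.pow_eq_of_modEq hy h1, pow_one]
  · have h1 : x ^ n ∈ A := by
      rw [← QuotientGroup.eq_one_iff, QuotientGroup.mk_pow]; exact hy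
    have h2 : (x ^ n) ^ Nat.card A = 1 := by
      have := pow_card_eq_one' (x := (⟨x ^ n, h1⟩ : A))
      exact congrArg Subtype.val this
    have h3 : 0 < Nat.totient n := Nat.totient_pos.mpr (Nat.pos_of_ne_zero hn0)
    obtain ⟨t, ht⟩ := Nat.exists_eq_succ_of_ne_zero h3.ne'
    rw [← pow_mul, mul_comm, pow_mul, he, ht, pow_succ', pow_mul, h2, one_pow]


/-- card of a comap along the quotient map -/
lemma card_comap_mk {G : Type u} [Group G] [Finite G] (A : Subgroup G) [A.Normal]
    (Hbar : Subgroup (G ⧸ A)) :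
    Nat.card (Hbar.comap (QuotientGroup.mk' A)) = Nat.card A * Nat.card Hbar := by
  have h := QuotientGroup.card_preimage_mk A (Hbar : Set (G ⧸ A))
  exact h

theorem aux : ∀ (N : ℕ) (G : Type u) [Group G] [Finite G] [Group.IsSolvable G], Nat.card G = N →
    ∀ n : ℕ, n ∣ Nat.card G → Nat.card {x : G // x ^ n = 1} = n →
    ∃ H : Subgroup G, H.Normal ∧ (H : Set G) = {x : G | x ^ n = 1} := by
  intro N
  induction N using Nat.strong_induction_on with
  | _ N ih =>
  intro G _ _ _ hN n hn hcount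
  rcases subsingleton_or_nontrivial G with hG | hG
  · refine ⟨⊤, inferInstance, ?_⟩
    ext x
    simp [Subsingleton.elim x 1]
  obtain ⟨p, A, hp, hAn, hAne, hAexp⟩ := exists_normal_exponent_p (G := G)
  have : Fact p.Prime := ⟨hp⟩
  have hn0 : n ≠ 0 := by
    rintro rfl
    rw [zero_dvd_iff] at hn
    exact Nat.card_pos.ne' hn
  have hcardG : Nat.card G = Nat.card A * Nat.card (G ⧸ A) := by
    rw [mul_comm]; exact Subgroup.card_eq_card_quotient_mul_card_subgroup A
  have hA2 : 2 ≤ Nat.card A := by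
    have h1 : Nat.card A ≠ 1 := by rw [Ne, Subgroup.card_eq_one]; exact hAne
    have h2 : 0 < Nat.card A := Nat.card_pos
    omega
  have hQpos : 0 < Nat.card (G ⧸ A) := Nat.card_pos
  have hlt : Nat.card (G ⧸ A) < N := by
    rw [← hN, hcardG]; nlinarith
  have hApg : IsPGroup p A := by
    intro a
    refine ⟨1, ?_⟩
    rw [pow_one]
    exact Subtype.ext (by simpa using hAexp a a.2)
  obtain ⟨k, hk⟩ := hApg.exists_card_eq
  by_cases hpn : p ∣ n
  · -- Case II
    have hpA : p ∣ Nat.card A := by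
      rw [hk]
      rcases Nat.eq_zero_or_pos k with rfl | hkpos
      · rw [hk, pow_zero] at hA2; omega
      · exact dvd_pow_self p hkpos.ne'
    obtain ⟨d, hd⟩ : ∃ d, d = Nat.gcd n (Nat.card A) := ⟨_, rfl⟩
    have hpd : p ∣ d := hd ▸ Nat.dvd_gcd hpn hpA
    have hdpos : 0 < d := hd ▸ Nat.gcd_pos_of_pos_left _ (Nat.pos_of_ne_zero hn0)
    obtain ⟨n', hn'⟩ : ∃ n', n = d * n' := hd ▸ Nat.gcd_dvd_left n (Nat.card A)
    obtain ⟨a', ha'⟩ : ∃ a', Nat.card A = d * a' := hd ▸ Nat.gcd_dvd_right n (Nat.card A)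
    have hn'pos : 0 < n' := by
      rcases Nat.eq_zero_or_pos n' with h | h
      · rw [h, mul_zero] at hn'; exact absurd hn' hn0
      · exact h
    have hcop : Nat.Coprime n' a' := by
      have h1 := Nat.coprime_div_gcd_div_gcd (m := n) (n := Nat.card A) (hd ▸ hdpos)
      rw [← hd] at h1
      have e1 : n / d = n' := by rw [hn']; exact Nat.mul_div_cancel_left _ hdpos
      have e2 : Nat.card A / d = a' := by rw [ha']; exact Nat.mul_div_cancel_left _ hdpos
      rwa [e1, e2] at h1
    have hn'Q : n' ∣ Nat.card (G ⧸ A) := by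
      rw [hcardG, hn', ha', mul_assoc] at hn
      have h1 := Nat.dvd_of_mul_dvd_mul_left hdpos hn
      exact hcop.dvd_of_dvd_mul_left h1
    have hfrob := Cfsg.Agent.Lib.Helper4.FrobDiv.frobenius_dvd (G := G ⧸ A) n' hn'Q
    -- the preimage of the solution set lies in the solution set
    obtain ⟨T, hT⟩ : ∃ T : Set (G ⧸ A), T = {y | y ^ n' = 1} := ⟨_, rfl⟩
    have hpre : ∀ x : G, (x : G ⧸ A) ^ n' = 1 → x ^ n = 1 := by
      intro x hx
      have h1 : x ^ n' ∈ A := by
        rw [← QuotientGroup.eq_one_iff, QuotientGroup.mk_pow]; exact hx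
      have h2 := hAexp _ h1
      obtain ⟨d', hd'⟩ := hpd
      have e : n = n' * p * d' := by rw [hn', hd']; ring
      rw [e, pow_mul, pow_mul, h2, one_pow]
    have hcardpre := QuotientGroup.card_preimage_mk A T
    have hle : Nat.card (QuotientGroup.mk ⁻¹' T : Set G) ≤ n := by
      rw [← hcount]
      apply Nat.card_mono (Set.toFinite _)
      intro x hx
      rw [Set.mem_preimage, hT] at hx
      exact hpre x hx
    have hTcard : Nat.card T = Nat.card {y : G ⧸ A // y ^ n' = 1} := by
      rw [hT]; rfl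
    rw [hcardpre, hTcard] at hle
    obtain ⟨t, ht⟩ := hfrob
    have htpos : 0 < t := by
      rcases Nat.eq_zero_or_pos t with h | h
      · rw [h, mul_zero] at ht
        have : 0 < Nat.card {y : G ⧸ A // y ^ n' = 1} := by
          have : Nonempty {y : G ⧸ A // y ^ n' = 1} := ⟨⟨1, one_pow _⟩⟩
          exact Nat.card_pos
        omega
      · exact h
    have hdA : d ≤ Nat.card A := Nat.le_of_dvd Nat.card_pos (hd ▸ Nat.gcd_dvd_right _ _)
    rw [ht] at hle
    have ht1 : t = 1 := by
      by_contra hne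
      have h2 : 2 ≤ t := by omega
      have h3 : Nat.card A * (n' * 2) ≤ Nat.card A * (n' * t) :=
        Nat.mul_le_mul_left _ (Nat.mul_le_mul_left _ h2)
      have h4 : d * n' ≤ Nat.card A * n' := Nat.mul_le_mul_right _ hdA
      have h5 : 0 < Nat.card A * n' := Nat.mul_pos Nat.card_pos hn'pos
      rw [hn'] at hle
      nlinarith
    rw [ht1, mul_one] at hle ht
    have hdA' : Nat.card A = d := by
      rw [hn'] at hle
      have := Nat.le_of_mul_le_mul_right hle hn'pos
      omega
    obtain ⟨Hbar, hHbarn, hHbar⟩ := ih (Nat.card (G ⧸ A)) hlt (G ⧸ A) rfl n' hn'Q ht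
    have hHbarcard : Nat.card Hbar = n' := by
      rw [← ht]
      exact Nat.card_congr (Equiv.setCongr hHbar)
    apply finish n (Hbar.comap (QuotientGroup.mk' A)) _ _ hcount
    · intro x hx
      rw [Subgroup.mem_comap] at hx
      have : (QuotientGroup.mk' A x) ∈ (Hbar : Set (G ⧸ A)) := hx
      rw [hHbar] at this
      exact hpre x this
    · rw [card_comap_mk, hHbarcard, hdA', hn']
  · -- Case I
    have hcopp : Nat.Coprime p n := (Nat.Prime.coprime_iff_not_dvd hp).mpr hpn
    have hcop : Nat.Coprime (Nat.card A) n := by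
      rw [hk]; exact hcopp.pow_left k
    have hnQ : n ∣ Nat.card (G ⧸ A) := by
      rw [hcardG] at hn
      exact hcop.symm.dvd_of_dvd_mul_left hn
    have hfrob := Cfsg.Agent.Lib.Helper4.FrobDiv.frobenius_dvd (G := G ⧸ A) n hnQ
    -- injection of solutions of the quotient into solutions of G
    have hlift := exists_lift A n hn0 hcop
    have hinj : Nat.card {y : G ⧸ A // y ^ n = 1} ≤ Nat.card {x : G // x ^ n = 1} := by
      apply Nat.card_le_card_of_injective
        (fun y : {y : G ⧸ A // y ^ n = 1} =>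
          (⟨Classical.choose (hlift y.1 y.2), (Classical.choose_spec (hlift y.1 y.2)).2⟩ :
            {x : G // x ^ n = 1}))
      intro y1 y2 h
      have h1 := congrArg Subtype.val h
      simp only at h1
      apply Subtype.ext
      rw [← (Classical.choose_spec (hlift y1.1 y1.2)).1, ← (Classical.choose_spec (hlift y2.1 y2.2)).1, h1]
    rw [hcount] at hinj
    have hpos : 0 < Nat.card {y : G ⧸ A // y ^ n = 1} := by
      have : Nonempty {y : G ⧸ A // y ^ n = 1} := ⟨⟨1, one_pow _⟩⟩
      exact Nat.card_pos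
    have hQcount : Nat.card {y : G ⧸ A // y ^ n = 1} = n :=
      le_antisymm hinj (Nat.le_of_dvd hpos hfrob)
    obtain ⟨Hbar, hHbarn, hHbar⟩ := ih (Nat.card (G ⧸ A)) hlt (G ⧸ A) rfl n hnQ hQcount
    have hHbarcard : Nat.card Hbar = n := by
      rw [← hQcount]
      exact Nat.card_congr (Equiv.setCongr hHbar)
    obtain ⟨H, hH⟩ : ∃ H : Subgroup G, H = Hbar.comap (QuotientGroup.mk' A) := ⟨_, rfl⟩
    have hHcard : Nat.card H = Nat.card A * n := by
      rw [hH, card_comap_mk, hHbarcard]
    have hAH : A ≤ H := by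
      intro a ha
      rw [hH, Subgroup.mem_comap]
      have : QuotientGroup.mk' A a = 1 := (QuotientGroup.eq_one_iff a).mpr ha
      rw [this]; exact Hbar.one_mem
    have hLH : ∀ x : G, x ^ n = 1 → x ∈ H := by
      intro x hx
      rw [hH, Subgroup.mem_comap]
      have : (QuotientGroup.mk' A x) ∈ (Hbar : Set (G ⧸ A)) := by
        rw [hHbar]
        change (x : G ⧸ A) ^ n = 1
        rw [← QuotientGroup.mk_pow, hx]; rfl
      exact this
    -- Schur–Zassenhaus in H
    have hA'n : (A.subgroupOf H).Normal := inferInstance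
    have hA'card : Nat.card (A.subgroupOf H) = Nat.card A :=
      Nat.card_congr (Subgroup.subgroupOfEquivOfLe hAH).toEquiv
    have hA'idx : (A.subgroupOf H).index = n := by
      have h1 := (A.subgroupOf H).card_mul_index
      rw [hA'card, hHcard] at h1
      exact Nat.eq_of_mul_eq_mul_left Nat.card_pos h1
    obtain ⟨K', hK'⟩ := Subgroup.exists_right_complement'_of_coprime (N := A.subgroupOf H)
      (by rw [hA'card, hA'idx]; exact hcop)
    have hK'card : Nat.card K' = n := by
      have h1 := hK'.card_mul_card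
      rw [hA'card, hHcard] at h1
      exact Nat.eq_of_mul_eq_mul_left Nat.card_pos h1
    apply finish n (K'.map H.subtype) _ _ hcount
    · intro x hx
      obtain ⟨y, hy, rfl⟩ := Subgroup.mem_map.mp hx
      have h1 := pow_card_eq_one' (x := (⟨y, hy⟩ : K'))
      rw [hK'card] at h1
      have h2 := congrArg Subtype.val h1
      simp only [SubgroupClass.coe_pow, Subgroup.coe_one] at h2
      rw [Subgroup.subtype_apply, ← SubgroupClass.coe_pow, h2, Subgroup.coe_one]
    · rw [Subgroup.card_map_of_injective H.subtype_injective, hK'card]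


/-- **Main theorem**: in a finite solvable group, if `n ∣ |G|` and `x ^ n = 1` has exactly `n`
solutions, the solutions form a normal subgroup. -/
theorem main {G : Type u} [Group G] [Finite G] [Group.IsSolvable G] (n : ℕ) (hn : n ∣ Nat.card G)
    (hcount : Nat.card {x : G // x ^ n = 1} = n) :
    ∃ H : Subgroup G, H.Normal ∧ (H : Set G) = {x : G | x ^ n = 1} :=
  aux (Nat.card G) G rfl n hn hcount

end Cfsg.Agent.H2.ExactSol
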