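import Mathlib
import Cfsg.Prelude.Def_Balance
import Cfsg.Agent.H2.PLayerEquiv
import Cfsg.Agent.H2.PPrimeCore
import Cfsg.Agent.H2.Layer
import Cfsg.Agent.H2.LocalFStar
import Cfsg.Agent.H1.Card
import Cfsg.Agent.Lib.Helper7.SylowLib

/-!
Tools for the extended 2-layer `L*_{2'}(X)` (helper2).
-/

set_option autoImplicit false

namespace Cfsg.Agent.H2

section

variable {X : Type*} [Group X]

/-- `O_{p'}(H)` of a subgroup `H`, viewed in the ambient group. -/
def pPrimeCoreOf (p : ℕ) (H : Subgroup X) : Subgroup X := (Cfsg.pPrimeCore p H).map H.subtype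

/-- `O_{p'}(C_X(H))`, viewed in the ambient group. -/
def pPrimeCoreCentralizer (p : ℕ) (H : Subgroup X) : Subgroup X :=
  pPrimeCoreOf p (Subgroup.centralizer (H : Set X))

theorem pPrimeCoreOf_map_equiv (p : ℕ) (e : X ≃* X) (H : Subgroup X) :
    (pPrimeCoreOf p H).map e.toMonoidHom = pPrimeCoreOf p (H.map e.toMonoidHom) :=
  pPrimeCore_subgroup_map_equiv p e H

theorem pPrimeCoreCentralizer_map_equiv (p : ℕ) (e : X ≃* X) (H : Subgroup X) :
    (pPrimeCoreCentralizer p H).map e.toMonoidHom = pPrimeCoreCentralizer p (H.map e.toMonoidHom) := by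
  unfold pPrimeCoreCentralizer
  rw [pPrimeCoreOf_map_equiv, centralizer_map_equiv]

theorem pPrimeCoreOf_le (p : ℕ) (H : Subgroup X) : pPrimeCoreOf p H ≤ H := by
  rintro _ ⟨x, _, rfl⟩
  exact x.2

theorem pPrimeCoreOf_coprime [Finite X] (p : ℕ) (H : Subgroup X) :
    (Nat.card (pPrimeCoreOf p H)).Coprime p := by
  unfold pPrimeCoreOf
  rw [Subgroup.card_map_of_injective (Subgroup.subtype_injective _)]
  exact Cfsg.Agent.H1.pPrimeCore_coprime p

/-- the conjugate of a Sylow subgroup of a normal subgroup `M` by an element of the whole group,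
as a Sylow subgroup of `M` -/
theorem exists_sylow_map_conj [Finite X] {p : ℕ} [Fact p.Prime] (M : Subgroup X) [hM : M.Normal]
    (T : Sylow p M) (g : X) :
    ∃ T' : Sylow p M, (T' : Subgroup M).map M.subtype =
      ((T : Subgroup M).map M.subtype).map (MulAut.conj g).toMonoidHom := by
  have hS : ((T : Subgroup M).map M.subtype).map (MulAut.conj g).toMonoidHom ≤ M := by
    rintro _ ⟨_, ⟨t, _, rfl⟩, rfl⟩
    exact hM.conj_mem _ t.2 g
  have hcard : Nat.card ((((T : Subgroup M).map M.subtype).map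
      (MulAut.conj g).toMonoidHom).subgroupOf M) = p ^ (Nat.card M).factorization p := by
    rw [Nat.card_congr (Subgroup.subgroupOfEquivOfLe hS).toEquiv,
      Subgroup.card_map_of_injective (MulAut.conj g).injective,
      Subgroup.card_map_of_injective (Subgroup.subtype_injective _)]
    exact T.card_eq_multiplicity
  refine ⟨Sylow.ofCard _ hcard, ?_⟩
  rw [Sylow.coe_ofCard, Subgroup.subgroupOf_map_subtype]
  exact inf_eq_left.2 hS

end

open Cfsg.Agent.Lib.Helper7

section

variable {X : Type*} [Group X] [Finite X]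

theorem pPrimeCore_le_pPrimePCore (p : ℕ) : Cfsg.pPrimeCore p X ≤ Cfsg.pPrimePCore p X := by
  intro x hx
  unfold Cfsg.pPrimePCore
  rw [Subgroup.mem_comap]
  have : QuotientGroup.mk' (Cfsg.pPrimeCore p X) x = 1 := (QuotientGroup.eq_one_iff x).2 hx
  rw [this]
  exact Subgroup.one_mem _

/-- `O_{p',p}(X) = O_{p'}(X) (T ∩ O_{p',p}(X))` for a Sylow `p`-subgroup `T` of any subgroup `M`
containing `O_{p',p}(X)`. -/
theorem pPrimePCore_le_sup_of_isSylowIn (p : ℕ) [Fact p.Prime] {T M : Subgroup X}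
    (hT : IsSylowIn p T M) (hM : Cfsg.pPrimePCore p X ≤ M) :
    Cfsg.pPrimePCore p X ≤ Cfsg.pPrimeCore p X ⊔ T := by
  have hp : p.Prime := Fact.out
  have hYn : (Cfsg.pPrimePCore p X).Normal := inferInstance
  have hS := hT.inf_normal (Cfsg.pPrimePCore p X) hM
    (by rw [Subgroup.normalizer_eq_top_iff.2 hYn]; exact le_top)
  -- the order of `O_{p',p}`
  have hcardY : Nat.card (Cfsg.pPrimePCore p X) =
      Nat.card (Cfsg.pCore p (X ⧸ Cfsg.pPrimeCore p X)) * Nat.card (Cfsg.pPrimeCore p X) :=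
    card_comap_mk' _ _
  obtain ⟨a, ha⟩ := (Cfsg.Agent.H1.pCore_isPGroup (G := X ⧸ Cfsg.pPrimeCore p X) p).exists_card_eq
  have hOc : (Nat.card (Cfsg.pPrimeCore p X)).Coprime p := Cfsg.Agent.H1.pPrimeCore_coprime p
  have hfac : (Nat.card (Cfsg.pPrimePCore p X)).factorization p = a := by
    rw [hcardY, ha, Nat.factorization_mul (pow_pos hp.pos a).ne' Nat.card_pos.ne']
    have h0 : (Nat.card (Cfsg.pPrimeCore p X)).factorization p = 0 := by
      apply Nat.factorization_eq_zero_of_not_dvd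
      intro hd
      exact hp.one_lt.ne' (Nat.dvd_one.1 (hOc ▸ Nat.dvd_gcd hd dvd_rfl))
    simp [h0, hp.factorization_pow]
  have hcardS : Nat.card (T ⊓ Cfsg.pPrimePCore p X : Subgroup X) = p ^ a := by
    rw [hS.2, hfac]
  -- the product
  have hprod := Cfsg.Agent.H1.card_sup_mul_card_inf (T ⊓ Cfsg.pPrimePCore p X) (Cfsg.pPrimeCore p X)
    (by rw [Subgroup.normalizer_eq_top_iff.2 inferInstance]; exact le_top)
  have hinf : (T ⊓ Cfsg.pPrimePCore p X) ⊓ Cfsg.pPrimeCore p X = ⊥ := by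
    rw [eq_bot_iff]
    intro x hx
    rw [Subgroup.mem_bot]
    apply eq_one_of_isPGroup_of_coprime hS.isPGroup hx.1
    have h1 : orderOf x ∣ Nat.card (Cfsg.pPrimeCore p X) := by
      have := orderOf_dvd_natCard (⟨x, hx.2⟩ : Cfsg.pPrimeCore p X)
      rwa [Subgroup.orderOf_mk] at this
    exact Nat.Coprime.coprime_dvd_left h1 hOc
  rw [hinf, Subgroup.card_bot, mul_one, hcardS] at hprod
  have hle : (T ⊓ Cfsg.pPrimePCore p X) ⊔ Cfsg.pPrimeCore p X ≤ Cfsg.pPrimePCore p X :=
    sup_le inf_le_right (pPrimeCore_le_pPrimePCore p)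
  have heq : (T ⊓ Cfsg.pPrimePCore p X) ⊔ Cfsg.pPrimeCore p X = Cfsg.pPrimePCore p X := by
    apply Subgroup.eq_of_le_of_card_ge hle
    rw [hprod, hcardY, ha]
  rw [← heq]
  exact sup_le (inf_le_left.trans le_sup_right) le_sup_left

end


end Cfsg.Agent.H2
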