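import Mathlib
import Cfsg.Prelude.Def_Transfer
import Cfsg.Agent.H1.Class2

/-!
# Elementary context for extraspecial groups (any exponent)

Adapted from lead's `Lib/Lead/ExtraspecialP.lean` (which assumes exponent `p`).
-/

set_option autoImplicit false
open Cfsg
open scoped commutatorElement

namespace Cfsg.Agent.H2.ESM

universe u v

section basic

variable {E : Type u} [Group E]

/-- Elementary description of an extraspecial `p`-group with centre `⟨z⟩`
(the group of order `p` is allowed). -/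
structure Ctx (p : ℕ) (z : E) : Prop where
  ne : z ≠ 1
  zp : z ^ p = 1
  cen : ∀ x : E, x * z = z * x
  comm : ∀ x y : E, ∃ k : ℤ, ⁅x, y⁆ = z ^ k
  cent : ∀ w : E, (∀ x : E, x * w = w * x) → ∃ k : ℤ, w = z ^ k

variable {p : ℕ} {z : E}

theorem zk_cen (C : Ctx p z) (k : ℤ) (g : E) : z ^ k * g = g * z ^ k :=
  (Commute.zpow_left (C.cen g).symm k).eq

theorem ccen (C : Ctx p z) (a b g : E) : ⁅a, b⁆ * g = g * ⁅a, b⁆ := by
  obtain ⟨k, hk⟩ := C.comm a b
  rw [hk]; exact zk_cen C k g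

theorem kmul (C : Ctx p z) (g y y' : E) : ⁅g, y * y'⁆ = ⁅g, y⁆ * ⁅g, y'⁆ := by
  have h : ⁅g, y * y'⁆ = ⁅g, y⁆ * (y * ⁅g, y'⁆ * y⁻¹) := by
    simp only [commutatorElement_def]; group
  rw [h, ← ccen C g y' y, mul_inv_cancel_right]

theorem kmul' (C : Ctx p z) (g g' y : E) : ⁅g * g', y⁆ = ⁅g, y⁆ * ⁅g', y⁆ := by
  have h : ⁅g * g', y⁆ = (g * ⁅g', y⁆ * g⁻¹) * ⁅g, y⁆ := by
    simp only [commutatorElement_def]; group
  rw [h, ← ccen C g' y g, mul_inv_cancel_right, ccen C g' y]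

/-- `g ↦ ⁅g, y⁆` as a homomorphism -/
def chomL (C : Ctx p z) (y : E) : E →* E :=
  MonoidHom.mk' (fun g => ⁅g, y⁆) (fun g g' => kmul' C g g' y)

/-- `y ↦ ⁅g, y⁆` as a homomorphism -/
def chomR (C : Ctx p z) (g : E) : E →* E :=
  MonoidHom.mk' (fun y => ⁅g, y⁆) (fun y y' => kmul C g y y')

theorem czpowL (C : Ctx p z) (x y : E) (a : ℤ) : ⁅x ^ a, y⁆ = ⁅x, y⁆ ^ a :=
  map_zpow (chomL C y) x a

theorem czpowR (C : Ctx p z) (x y : E) (a : ℤ) : ⁅x, y ^ a⁆ = ⁅x, y⁆ ^ a :=
  map_zpow (chomR C x) y a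

theorem cinvL (C : Ctx p z) (x y : E) : ⁅x⁻¹, y⁆ = (⁅x, y⁆)⁻¹ :=
  map_inv (chomL C y) x

theorem swap_mul (a b : E) : b * a = ⁅b, a⁆ * (a * b) := by
  simp [commutatorElement_def]

theorem orderOf_z [hp : Fact p.Prime] (C : Ctx p z) : orderOf z = p :=
  orderOf_eq_prime C.zp C.ne

theorem comm_center (C : Ctx p z) (a b : E) : ⁅a, b⁆ ∈ Subgroup.center E := by
  rw [Subgroup.mem_center_iff]
  intro g
  exact (ccen C a b g).symm

/-- `p`-th powers are central -/
theorem pow_p_cen (C : Ctx p z) (x g : E) : g * x ^ p = x ^ p * g := by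
  have h : ⁅x ^ p, g⁆ = 1 := by
    have := czpowL C x g (p : ℤ)
    rw [zpow_natCast] at this
    rw [this]
    obtain ⟨k, hk⟩ := C.comm x g
    rw [hk, ← zpow_mul, mul_comm, zpow_mul, zpow_natCast, C.zp, one_zpow]
  exact (commutatorElement_eq_one_iff_mul_comm.mp h).symm

theorem pow_p_mem (C : Ctx p z) (x : E) : ∃ k : ℤ, x ^ p = z ^ k :=
  C.cent _ (fun g => pow_p_cen C x g)

end basic

section pair

variable {E : Type u} [Group E] {p : ℕ} {z x y : E}

theorem memC {x y c : E} : c ∈ Subgroup.centralizer ({x, y} : Set E) ↔ ⁅c, x⁆ = 1 ∧ ⁅c, y⁆ = 1 := by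
  simp only [Subgroup.mem_centralizer_iff, Set.mem_insert_iff, Set.mem_singleton_iff,
    forall_eq_or_imp, forall_eq, commutatorElement_eq_one_iff_mul_comm]
  constructor <;> rintro ⟨h1, h2⟩ <;> exact ⟨h1.symm, h2.symm⟩

theorem memC_comm {x y c : E} (hc : c ∈ Subgroup.centralizer ({x, y} : Set E)) :
    x * c = c * x ∧ y * c = c * y := by
  rw [memC] at hc
  exact ⟨(commutatorElement_eq_one_iff_mul_comm.mp hc.1).symm,
    (commutatorElement_eq_one_iff_mul_comm.mp hc.2).symm⟩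

theorem z_memC (C : Ctx p z) : z ∈ Subgroup.centralizer ({x, y} : Set E) := by
  rw [memC]
  constructor <;> rw [commutatorElement_eq_one_iff_mul_comm] <;> exact (C.cen _).symm

theorem cyx (hxy : ⁅x, y⁆ = z) : ⁅y, x⁆ = z⁻¹ := by
  rw [← commutatorElement_inv, hxy]

/-- the commutators of a normal form -/
theorem comm_nf (C : Ctx p z) (hxy : ⁅x, y⁆ = z) (a b : ℤ) (c : E)
    (hc : c ∈ Subgroup.centralizer ({x, y} : Set E)) :
    ⁅x ^ a * y ^ b * c, y⁆ = z ^ a ∧ ⁅x ^ a * y ^ b * c, x⁆ = z ^ (-b) := by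
  have hc' := memC.mp hc
  constructor
  · rw [kmul' C, kmul' C, czpowL C, czpowL C, hxy, commutatorElement_self, one_zpow, hc'.2,
      mul_one, mul_one]
  · rw [kmul' C, kmul' C, czpowL C, czpowL C, cyx hxy, commutatorElement_self, one_zpow, hc'.1,
      mul_one, one_mul, inv_zpow, zpow_neg]

theorem decomp (C : Ctx p z) (hxy : ⁅x, y⁆ = z) (e : E) :
    ∃ (a b : ℤ) (c : E), c ∈ Subgroup.centralizer ({x, y} : Set E) ∧ e = x ^ a * y ^ b * c := by
  obtain ⟨a, ha⟩ := C.comm e y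
  obtain ⟨k, hk⟩ := C.comm e x
  refine ⟨a, -k, (x ^ a * y ^ (-k))⁻¹ * e, ?_, by group⟩
  have h1 := comm_nf C hxy a (-k) 1 (one_mem _)
  rw [mul_one] at h1
  rw [memC]
  constructor
  · rw [kmul' C, cinvL C, h1.2, hk, neg_neg, inv_mul_cancel]
  · rw [kmul' C, cinvL C, h1.1, ha, inv_mul_cancel]

theorem ctx_sub (C : Ctx p z) (hxy : ⁅x, y⁆ = z) :
    Ctx p (⟨z, z_memC C⟩ : Subgroup.centralizer ({x, y} : Set E)) := by
  refine ⟨fun h => C.ne (by simpa using congrArg Subtype.val h), Subtype.ext (by simpa using C.zp),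
    fun a => Subtype.ext (C.cen a), fun a b => ?_, ?_⟩
  · obtain ⟨k, hk⟩ := C.comm (a : E) b
    refine ⟨k, Subtype.ext ?_⟩
    simpa [commutatorElement_def] using hk
  · intro w hw
    have hwc := memC_comm w.2
    have hcen : ∀ e : E, e * (w : E) = w * e := by
      intro e
      obtain ⟨a, b, c, hc, rfl⟩ := decomp C hxy e
      have h1 : c * (w : E) = w * c := by
        have := hw ⟨c, hc⟩
        simpa using congrArg Subtype.val this
      have hx : Commute (x ^ a) (w : E) := Commute.zpow_left hwc.1 a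
      have hy : Commute (y ^ b) (w : E) := Commute.zpow_left hwc.2 b
      exact ((hx.mul_left hy).mul_left h1).eq
    obtain ⟨k, hk⟩ := C.cent w hcen
    exact ⟨k, Subtype.ext (by simpa using hk)⟩

/-- the order of the centraliser of a hyperbolic pair -/
theorem card_E [Finite E] [hp : Fact p.Prime] (C : Ctx p z) (hxy : ⁅x, y⁆ = z) :
    Nat.card E = p * p * Nat.card (Subgroup.centralizer ({x, y} : Set E)) := by
  have hmem : ∀ (g e : E), ⁅e, g⁆ ∈ Subgroup.zpowers z := by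
    intro g e
    obtain ⟨k, hk⟩ := C.comm e g
    rw [hk]; exact Subgroup.zpow_mem_zpowers z k
  obtain ⟨f₁, hf₁⟩ : ∃ f₁ : E →* Subgroup.zpowers z, ∀ e, (f₁ e : E) = ⁅e, x⁆ :=
    ⟨(chomL C x).codRestrict (Subgroup.zpowers z) (hmem x), fun _ => rfl⟩
  obtain ⟨f₂, hf₂⟩ : ∃ f₂ : E →* Subgroup.zpowers z, ∀ e, (f₂ e : E) = ⁅e, y⁆ :=
    ⟨(chomL C y).codRestrict (Subgroup.zpowers z) (hmem y), fun _ => rfl⟩
  obtain ⟨Φ, hΦ⟩ : ∃ Φ : E →* Subgroup.zpowers z × Subgroup.zpowers z, ∀ e, Φ e = (f₁ e, f₂ e) :=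
    ⟨f₁.prod f₂, fun _ => rfl⟩
  have hsurj : Function.Surjective Φ := by
    rintro ⟨⟨u, hu⟩, ⟨v, hv⟩⟩
    obtain ⟨k, rfl⟩ := Subgroup.mem_zpowers_iff.mp hu
    obtain ⟨a, rfl⟩ := Subgroup.mem_zpowers_iff.mp hv
    refine ⟨x ^ a * y ^ (-k) * 1, ?_⟩
    have h1 := comm_nf C hxy a (-k) 1 (one_mem _)
    rw [hΦ]
    refine Prod.ext (Subtype.ext ?_) (Subtype.ext ?_)
    · rw [hf₁, h1.2, neg_neg]
    · rw [hf₂, h1.1]
  have hker : Φ.ker = Subgroup.centralizer ({x, y} : Set E) := by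
    ext e
    rw [MonoidHom.mem_ker, hΦ, memC, Prod.ext_iff]
    simp only [Prod.fst_one, Prod.snd_one]
    rw [Subtype.ext_iff, Subtype.ext_iff, hf₁, hf₂]
    rfl
  have h1 := Subgroup.card_eq_card_quotient_mul_card_subgroup Φ.ker
  rw [Nat.card_congr (QuotientGroup.quotientKerEquivOfSurjective Φ hsurj).toEquiv, Nat.card_prod,
    Nat.card_zpowers, orderOf_z C, hker] at h1
  exact h1

end pair

section orderp

variable {E : Type u} [Group E] {p : ℕ} {z : E}

theorem mem_zpowers_z (C : Ctx p z) (a b : E) : ⁅a, b⁆ ∈ Subgroup.zpowers z := by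
  obtain ⟨k, hk⟩ := C.comm a b
  rw [hk]; exact Subgroup.zpow_mem_zpowers z k

/-- the size of the kernel of a homomorphism into `⟨z⟩` -/
theorem card_le_mul_ker [Finite E] [hp : Fact p.Prime] (C : Ctx p z)
    (f : E →* Subgroup.zpowers z) : Nat.card E ≤ p * Nat.card f.ker := by
  have h1 := Subgroup.card_eq_card_quotient_mul_card_subgroup f.ker
  have h2 : Nat.card (E ⧸ f.ker) ≤ p := by
    rw [Nat.card_congr (QuotientGroup.quotientKerEquivRange f).toEquiv]
    have := Subgroup.card_le_card_group f.range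
    rwa [Nat.card_zpowers, orderOf_z C] at this
  rw [h1]
  exact Nat.mul_le_mul_right _ h2

/-- for odd `p` there is a noncentral element of order `p` -/
theorem exists_order_p_odd [Finite E] [hp : Fact p.Prime] (C : Ctx p z) (hp2 : p ≠ 2)
    (hcard : p * p < Nat.card E) : ∃ x : E, x ∉ Subgroup.zpowers z ∧ x ^ p = 1 := by
  have hmul : ∀ x y : E, (x * y) ^ p = x ^ p * y ^ p := by
    intro x y
    apply Cfsg.Agent.H1.class2_mul_pow_prime (fun a b => comm_center C a b) hp.out hp2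
    obtain ⟨k, hk⟩ := C.comm y x
    rw [hk, ← zpow_natCast, ← zpow_mul, mul_comm, zpow_mul, zpow_natCast, C.zp, one_zpow]
  have hmem : ∀ x : E, x ^ p ∈ Subgroup.zpowers z := by
    intro x
    obtain ⟨k, hk⟩ := pow_p_mem C x
    rw [hk]; exact Subgroup.zpow_mem_zpowers z k
  obtain ⟨f, hf⟩ : ∃ f : E →* Subgroup.zpowers z, ∀ e, (f e : E) = e ^ p :=
    ⟨(MonoidHom.mk' (fun x : E => x ^ p) hmul).codRestrict (Subgroup.zpowers z) hmem,
      fun _ => rfl⟩
  by_contra hcon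
  push Not at hcon
  have hker : f.ker ≤ Subgroup.zpowers z := by
    intro x hx
    by_contra hxz
    apply hcon x hxz
    rw [MonoidHom.mem_ker] at hx
    rw [← hf, hx]
    rfl
  have h1 := card_le_mul_ker C f
  have h2 := Subgroup.card_le_of_le hker
  rw [Nat.card_zpowers, orderOf_z C] at h2
  have h3 : p * Nat.card f.ker ≤ p * p := Nat.mul_le_mul_left _ h2
  omega

/-- for `p = 2` and order more than `8` there is a noncentral involution -/
theorem exists_involution [Finite E] (C : Ctx 2 z) (hcard : 8 < Nat.card E) :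
    ∃ x : E, x ∉ Subgroup.zpowers z ∧ x ^ 2 = 1 := by
  have : Fact (Nat.Prime 2) := ⟨Nat.prime_two⟩
  have hzz : ∀ g : E, g ∈ Subgroup.zpowers z → g = 1 ∨ g = z := by
    intro g hg
    obtain ⟨k, rfl⟩ := Subgroup.mem_zpowers_iff.mp hg
    rcases Int.emod_two_eq_zero_or_one k with h | h
    · left
      have hk : k = 2 * (k / 2) := by omega
      rw [hk, zpow_mul, zpow_ofNat, C.zp, one_zpow]
    · right
      have hk : k = 2 * (k / 2) + 1 := by omega
      rw [hk, zpow_add, zpow_mul, zpow_ofNat, C.zp, one_zpow, one_mul, zpow_one]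
  have hsq : ∀ g : E, g ^ 2 = 1 ∨ g ^ 2 = z := by
    intro g
    obtain ⟨k, hk⟩ := pow_p_mem C g
    apply hzz
    rw [hk]; exact Subgroup.zpow_mem_zpowers z k
  -- a noncentral element
  have hne : ∃ x : E, x ∉ Subgroup.zpowers z := by
    by_contra hcon
    push Not at hcon
    have : Subgroup.zpowers z = ⊤ := by
      rw [Subgroup.eq_top_iff']; exact hcon
    have h2 : Nat.card (Subgroup.zpowers z) = Nat.card E := by
      rw [this, Subgroup.card_top]
    rw [Nat.card_zpowers, orderOf_z C] at h2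
    omega
  obtain ⟨x, hx⟩ := hne
  rcases hsq x with hx2 | hx2
  · exact ⟨x, hx, hx2⟩
  -- `x` has order 4
  have hx4 : x ^ 4 = 1 := by
    have : x ^ 4 = (x ^ 2) ^ 2 := by rw [← pow_mul]
    rw [this, hx2, C.zp]
  have hzx : z ∈ Subgroup.zpowers x := by
    rw [← hx2]; exact Subgroup.pow_mem _ (Subgroup.mem_zpowers x) 2
  have hcx : Nat.card (Subgroup.zpowers x) ≤ 4 := by
    rw [Nat.card_zpowers]
    exact Nat.le_of_dvd (by norm_num) (orderOf_dvd_of_pow_eq_one hx4)
  obtain ⟨f, hf⟩ : ∃ f : E →* Subgroup.zpowers z, ∀ e, (f e : E) = ⁅e, x⁆ :=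
    ⟨(chomL C x).codRestrict (Subgroup.zpowers z) (fun e => mem_zpowers_z C e x), fun _ => rfl⟩
  have h1 := card_le_mul_ker C f
  have hex : ∃ y : E, y ∈ f.ker ∧ y ∉ Subgroup.zpowers x := by
    by_contra hcon
    push Not at hcon
    have hle : f.ker ≤ Subgroup.zpowers x := hcon
    have := Subgroup.card_le_of_le hle
    omega
  obtain ⟨y, hyk, hyx⟩ := hex
  have hyc : y * x = x * y := by
    rw [MonoidHom.mem_ker] at hyk
    have h3 : ⁅y, x⁆ = 1 := by
      rw [← hf, hyk]; rfl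
    exact commutatorElement_eq_one_iff_mul_comm.mp h3
  have hzle : Subgroup.zpowers z ≤ Subgroup.zpowers x := by
    rw [Subgroup.zpowers_le]; exact hzx
  rcases hsq y with hy2 | hy2
  · exact ⟨y, fun h => hyx (hzle h), hy2⟩
  · refine ⟨x * y, ?_, ?_⟩
    · intro h
      apply hyx
      have h4 := hzle h
      have h5 := Subgroup.mul_mem _ (Subgroup.inv_mem _ (Subgroup.mem_zpowers x)) h4
      rwa [inv_mul_cancel_left] at h5
    · have hc : Commute x y := hyc.symm
      rw [hc.mul_pow, hx2, hy2, ← pow_two, C.zp]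

end orderp

section main

theorem abelian_case {E : Type u} [Group E] [Finite E] {p : ℕ} [hp : Fact p.Prime] {z : E}
    (C : Ctx p z) (hab : ∀ x y : E, ⁅x, y⁆ = 1) :
    (∀ e : E, ∃ k : ℤ, e = z ^ k) ∧ Nat.card E = p := by
  have hall : ∀ e : E, ∃ k : ℤ, e = z ^ k := fun e =>
    C.cent e (fun x => commutatorElement_eq_one_iff_mul_comm.mp (hab x e))
  refine ⟨hall, ?_⟩
  have htop : Subgroup.zpowers z = ⊤ := by
    rw [Subgroup.eq_top_iff']
    intro e
    obtain ⟨k, rfl⟩ := hall e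
    exact Subgroup.zpow_mem_zpowers z k
  rw [← Subgroup.card_top (G := E), ← htop, Nat.card_zpowers, orderOf_z C]

/-- a nontrivial commutator value can be normalised to `z` -/
theorem exists_partner {E : Type u} [Group E] {p : ℕ} [hp : Fact p.Prime] {z : E}
    (C : Ctx p z) (x y₀ : E) (h : ⁅x, y₀⁆ ≠ 1) : ∃ y : E, ⁅x, y⁆ = z := by
  obtain ⟨k, hk⟩ := C.comm x y₀
  have hpk : ¬ (p : ℤ) ∣ k := by
    rintro ⟨m, rfl⟩
    apply h
    rw [hk, zpow_mul, zpow_natCast, C.zp, one_zpow]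
  have hcop : IsCoprime k (p : ℤ) := by
    rw [isCoprime_comm]
    exact (Int.prime_iff_natAbs_prime.mpr (by simpa using hp.out)).coprime_iff_not_dvd.mpr hpk
  obtain ⟨u, v, huv⟩ := hcop
  refine ⟨y₀ ^ u, ?_⟩
  rw [czpowR C, hk, ← zpow_mul]
  have : k * u = 1 - v * p := by linarith
  rw [this, zpow_sub, zpow_one, zpow_mul', zpow_natCast, C.zp, one_zpow, inv_one, mul_one]

/-- a noncentral element has a partner -/
theorem exists_partner_of_not_mem {E : Type u} [Group E] {p : ℕ} [hp : Fact p.Prime] {z : E}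
    (C : Ctx p z) (x : E) (hx : x ∉ Subgroup.zpowers z) : ∃ y : E, ⁅x, y⁆ = z := by
  by_contra hcon
  apply hx
  have hall : ∀ y : E, ⁅x, y⁆ = 1 := by
    intro y
    by_contra h
    exact hcon (exists_partner C x y h)
  obtain ⟨k, hk⟩ := C.cent x (fun y => (commutatorElement_eq_one_iff_mul_comm.mp (hall y)).symm)
  rw [hk]
  exact Subgroup.zpow_mem_zpowers z k

theorem ctx_of_extraspecial {E : Type u} [Group E] [Finite E] {p : ℕ} [hp : Fact p.Prime]
    (hE : Cfsg.IsExtraspecial p E) : ∃ z : E, Ctx p z := by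
  obtain ⟨⟨hpg, hfr, hcm⟩, hZ⟩ := hE
  have hnt : ∃ z : Subgroup.center E, z ≠ 1 := by
    have : Nontrivial (Subgroup.center E) := by
      rw [← Finite.one_lt_card_iff_nontrivial, hZ]; exact hp.out.one_lt
    exact exists_ne 1
  obtain ⟨⟨z, hzc⟩, hz1⟩ := hnt
  have hz1' : z ≠ 1 := fun h => hz1 (Subtype.ext h)
  have hzp : z ^ p = 1 := by
    have := pow_card_eq_one' (G := Subgroup.center E) (x := ⟨z, hzc⟩)
    rw [hZ] at this
    exact congrArg Subtype.val this
  have hcen : ∀ w ∈ Subgroup.center E, ∃ k : ℤ, w = z ^ k := by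
    intro w hw
    have htop : Subgroup.zpowers (⟨z, hzc⟩ : Subgroup.center E) = ⊤ := by
      apply Subgroup.eq_top_of_card_eq
      rw [Nat.card_zpowers, hZ]
      exact orderOf_eq_prime (Subtype.ext (by simpa using hzp)) hz1
    have hmem : (⟨w, hw⟩ : Subgroup.center E) ∈
        Subgroup.zpowers (⟨z, hzc⟩ : Subgroup.center E) := by rw [htop]; trivial
    obtain ⟨k, hk⟩ := Subgroup.mem_zpowers_iff.mp hmem
    exact ⟨k, by have := congrArg Subtype.val hk; simpa using this.symm⟩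
  refine ⟨z, ⟨hz1', hzp, fun x => Subgroup.mem_center_iff.mp hzc x, ?_,
    fun w hw => hcen w (Subgroup.mem_center_iff.mpr hw)⟩⟩
  intro x y
  apply hcen
  rw [← hcm, commutator_def]
  exact Subgroup.commutator_mem_commutator (Subgroup.mem_top x) (Subgroup.mem_top y)

end main

end Cfsg.Agent.H2.ESM
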