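import Mathlib
import Cfsg.Agent.H2.ExtraspecialCtx

/-!
# Faithful modules of extraspecial groups: the norm decomposition
-/

set_option autoImplicit false
open scoped commutatorElement

namespace Cfsg.Agent.H2.ESM

universe u v

section norm

variable {E : Type u} {V : Type v} [Group E] [CommGroup V] [MulDistribMulAction E V]
variable {p : ℕ} [hp : Fact p.Prime]

/-- the norm map of an element of order dividing `p` -/
def nrm (p : ℕ) [Fact p.Prime] (u : E) : V →* V where
  toFun v := ∏ k : ZMod p, u ^ k.val • v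
  map_one' := by simp
  map_mul' a b := by simp [smul_mul', Finset.prod_mul_distrib]

theorem nrm_apply (u : E) (v : V) : nrm p u v = ∏ k : ZMod p, u ^ k.val • v := rfl

/-- the fixed points of an element -/
def fixSub (u : E) : Subgroup V where
  carrier := {v | u • v = v}
  one_mem' := smul_one u
  mul_mem' := by
    intro a b ha hb
    show u • (a * b) = a * b
    rw [smul_mul', ha, hb]
  inv_mem' := by
    intro a ha
    show u • a⁻¹ = a⁻¹
    rw [smul_inv', ha]

theorem mem_fixSub (u : E) (v : V) : v ∈ fixSub u ↔ u • v = v := Iff.rfl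

theorem pow_smul_of_fixed {u : E} {v : V} (h : u • v = v) (k : ℕ) : u ^ k • v = v := by
  induction k with
  | zero => simp
  | succ k ih => rw [pow_succ, mul_smul, h, ih]

/-- the norm is fixed -/
theorem smul_nrm {u : E} (hu : u ^ p = 1) (v : V) : u • nrm p u v = nrm p u v := by
  rw [nrm_apply, Finset.smul_prod']
  apply Fintype.prod_equiv (Equiv.addRight (1 : ZMod p))
  intro k
  rw [Equiv.coe_addRight, ← mul_smul, ← pow_succ', ZMod.val_add, ← pow_eq_pow_mod _ hu]
  congr 2
  rw [ZMod.val_one]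

/-- the norm of a fixed point is its `p`-th power -/
theorem nrm_of_fixed {u : E} {v : V} (h : u • v = v) : nrm p u v = v ^ p := by
  rw [nrm_apply]
  simp only [pow_smul_of_fixed h]
  rw [Finset.prod_const, Finset.card_univ, ZMod.card]

/-- reindexing the norm by a unit -/
theorem nrm_reindex {u : E} (hu : u ^ p = 1) (m : ZMod p) (hm : m ≠ 0) (v : V) :
    ∏ k : ZMod p, u ^ (m.val * k.val) • v = nrm p u v := by
  rw [nrm_apply]
  apply Fintype.prod_equiv (Equiv.mulLeft₀ m hm)
  intro k
  show _ = u ^ (m * k).val • v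
  rw [ZMod.val_mul, ← pow_eq_pow_mod _ hu]

end norm

section step

variable {E : Type u} {V : Type v} [Group E] [CommGroup V] [MulDistribMulAction E V]
variable {p : ℕ} [hp : Fact p.Prime]

/-- the elements `x z^i` -/
def uu (x z : E) (i : ZMod p) : E := x * z ^ i.val

theorem uu_pow {x z : E} (hxz : x * z = z * x) (i : ZMod p) (k : ℕ) :
    (uu x z i) ^ k = x ^ k * z ^ (i.val * k) := by
  unfold uu
  have hc : Commute x (z ^ i.val) := Commute.pow_right hxz i.val
  rw [hc.mul_pow, ← pow_mul]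

theorem uu_pow_p {x z : E} (hxz : x * z = z * x) (hx : x ^ p = 1) (hz : z ^ p = 1) (i : ZMod p) :
    (uu x z i) ^ p = 1 := by
  rw [uu_pow hxz, hx, one_mul, mul_comm, pow_mul, hz, one_pow]

/-- the key identity: the product of the norms of the `x z^i` is the `p`-th power, when the norm
of `z` vanishes -/
theorem prod_nrm_uu {x z : E} (hxz : x * z = z * x) (hz : z ^ p = 1) (v : V)
    (hv : nrm p z v = 1) : ∏ i : ZMod p, nrm p (uu x z i) v = v ^ p := by
  simp only [nrm_apply, uu_pow hxz]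
  rw [Finset.prod_comm]
  have hk : ∀ k : ZMod p, k ≠ 0 → ∏ i : ZMod p, (x ^ k.val * z ^ (i.val * k.val)) • v = 1 := by
    intro k hk
    have h1 : ∏ i : ZMod p, (x ^ k.val * z ^ (i.val * k.val)) • v
        = x ^ k.val • ∏ i : ZMod p, z ^ (k.val * i.val) • v := by
      rw [Finset.smul_prod']
      apply Finset.prod_congr rfl
      intro i _
      rw [mul_smul, mul_comm i.val k.val]
    rw [h1, nrm_reindex hz k hk, hv, smul_one]
  rw [← Finset.prod_erase_mul _ _ (Finset.mem_univ (0 : ZMod p))]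
  rw [Finset.prod_eq_one (fun k hk' => hk k (Finset.ne_of_mem_erase hk')), one_mul]
  simp only [ZMod.val_zero, pow_zero, mul_zero, one_mul, one_smul]
  rw [Finset.prod_const, Finset.card_univ, ZMod.card]

/-- the norm of `x z^j` on the fixed points of `x z^i`, `i ≠ j` -/
theorem nrm_uu_of_fixed {x z : E} (hxz : x * z = z * x) (hz : z ^ p = 1) (i j : ZMod p)
    (hij : j ≠ i) (a : V) (ha : uu x z i • a = a) (hza : nrm p z a = 1) :
    nrm p (uu x z j) a = 1 := by
  rw [nrm_apply]
  have h1 : ∀ k : ZMod p, (uu x z j) ^ k.val • a = z ^ ((j - i).val * k.val) • a := by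
    intro k
    have h2 : (uu x z j) ^ k.val = z ^ ((j - i).val * k.val) * (uu x z i) ^ k.val := by
      rw [uu_pow hxz, uu_pow hxz]
      have hc : Commute (x ^ k.val) (z ^ ((j - i).val * k.val)) :=
        (Commute.pow_right hxz _).pow_left _
      have h3 : ((j - i).val + i.val) % p = j.val := by
        rw [← ZMod.val_add, sub_add_cancel]
      rw [← mul_assoc, ← hc.eq, mul_assoc, ← pow_add, ← add_mul]
      congr 1
      rw [pow_mul, pow_mul z ((j - i).val + i.val)]
      congr 1
      rw [pow_eq_pow_mod ((j - i).val + i.val) hz, h3]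
    rw [h2, mul_smul, pow_smul_of_fixed ha]
  simp only [h1]
  rw [nrm_reindex hz (j - i) (sub_ne_zero.mpr hij), hza]

end step

section card

variable {E : Type u} {V : Type v} [Group E] [CommGroup V] [MulDistribMulAction E V]
variable {p r : ℕ} [hp : Fact p.Prime]

theorem eq_one_of_pow_p (hpr : p.Coprime r) {v : V} (hr : v ^ r = 1) (hpv : v ^ p = 1) : v = 1 := by
  have h1 : orderOf v ∣ r := orderOf_dvd_of_pow_eq_one hr
  have h2 : orderOf v ∣ p := orderOf_dvd_of_pow_eq_one hpv
  have : orderOf v = 1 := Nat.eq_one_of_dvd_coprimes hpr h2 h1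
  exact orderOf_eq_one_iff.mp this

theorem conj_pow_eq {x z t : E} (htz : t * z = z * t) (htx : t * x * t⁻¹ = x * z) (i : ℕ) :
    t ^ i * x * (t ^ i)⁻¹ = x * z ^ i := by
  induction i with
  | zero => simp
  | succ i ih =>
    have h1 : t ^ (i + 1) * x * (t ^ (i + 1))⁻¹ = t * (t ^ i * x * (t ^ i)⁻¹) * t⁻¹ := by
      rw [pow_succ']; group
    have h2 : t * z ^ i * t⁻¹ = z ^ i := by
      have hc : Commute t (z ^ i) := Commute.pow_right htz i
      rw [hc.eq, mul_inv_cancel_right]
    rw [h1, ih]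
    calc t * (x * z ^ i) * t⁻¹ = (t * x * t⁻¹) * (t * z ^ i * t⁻¹) := by group
      _ = x * z ^ (i + 1) := by rw [htx, h2, mul_assoc, ← pow_succ']

theorem nrm_mem (B : Subgroup V) (hB : ∀ g : E, ∀ b ∈ B, g • b ∈ B) (u : E) {b : V} (hb : b ∈ B) :
    nrm p u b ∈ B := by
  rw [nrm_apply]
  exact Subgroup.prod_mem _ (fun k _ => hB _ b hb)

/-- the inductive step on the module side -/
theorem step (hpr : p.Coprime r) (x z t : E) (hx : x ^ p = 1) (hz : z ^ p = 1)
    (hxz : x * z = z * x) (htz : t * z = z * t) (htx : t * x * t⁻¹ = x * z)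
    (B : Subgroup V) [Finite B] (hBr : ∀ b ∈ B, b ^ r = 1) (hB : ∀ g : E, ∀ b ∈ B, g • b ∈ B)
    (hfix : ∀ b ∈ B, z • b = b → b = 1) :
    (B ≠ ⊥ → B ⊓ fixSub x ≠ ⊥) ∧ Nat.card ↥(B ⊓ fixSub x) ^ p ≤ Nat.card B := by
  classical
  have hNz : ∀ b ∈ B, nrm p z b = 1 := by
    intro b hb
    exact hfix _ (nrm_mem B hB z hb) (smul_nrm hz b)
  have hT : ∀ i : ZMod p, t ^ i.val * x * (t ^ i.val)⁻¹ = uu x z i := fun i =>
    conj_pow_eq htz htx i.val
  constructor
  · intro hB1
    obtain ⟨v, hv1⟩ := (Subgroup.ne_bot_iff_exists_ne_one).mp hB1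
    have hvB' : (v : V) ∈ B := v.2
    have hv1' : (v : V) ≠ 1 := fun h => hv1 (Subtype.ext h)
    have hvp : (v : V) ^ p ≠ 1 := fun h => hv1' (eq_one_of_pow_p hpr (hBr _ hvB') h)
    have hex : ∃ i : ZMod p, nrm p (uu x z i) (v : V) ≠ 1 := by
      by_contra hcon
      push Not at hcon
      apply hvp
      rw [← prod_nrm_uu hxz hz (v : V) (hNz _ hvB')]
      exact Finset.prod_eq_one (fun i _ => hcon i)
    obtain ⟨i, hi⟩ := hex
    obtain ⟨a, ha⟩ : ∃ a : V, a = nrm p (uu x z i) (v : V) := ⟨_, rfl⟩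
    have haB : a ∈ B := ha ▸ nrm_mem B hB _ hvB'
    have hafix : uu x z i • a = a := by
      rw [ha]; exact smul_nrm (uu_pow_p hxz hx hz i) _
    intro hbot
    have hmem : (t ^ i.val)⁻¹ • a ∈ B ⊓ fixSub x := by
      refine ⟨hB _ a haB, ?_⟩
      show x • (t ^ i.val)⁻¹ • a = (t ^ i.val)⁻¹ • a
      rw [← mul_smul]
      have e : x * (t ^ i.val)⁻¹ = (t ^ i.val)⁻¹ * (t ^ i.val * x * (t ^ i.val)⁻¹) := by group
      rw [e, hT, mul_smul, hafix]
    rw [hbot, Subgroup.mem_bot] at hmem
    apply hi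
    rw [← ha]
    have := congrArg (fun w => t ^ i.val • w) hmem
    simpa using this
  · -- the product map
    have hinj : ∀ f : (i : ZMod p) → ↥(B ⊓ fixSub (uu x z i)),
        (∏ i, ((f i : ↥(B ⊓ fixSub (uu x z i))) : V)) = 1 → ∀ j, f j = 1 := by
      intro f hf j
      have h1 := congrArg (nrm p (uu x z j)) hf
      rw [map_prod, map_one] at h1
      rw [Finset.prod_eq_single j] at h1
      · have hfj := (f j).2
        rw [nrm_of_fixed hfj.2] at h1
        exact Subtype.ext (eq_one_of_pow_p hpr (hBr _ hfj.1) h1)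
      · intro i _ hij
        exact nrm_uu_of_fixed hxz hz i j (Ne.symm hij) _ (f i).2.2 (hNz _ (f i).2.1)
      · intro h
        exact absurd (Finset.mem_univ j) h
    obtain ⟨F, hF⟩ : ∃ F : ((i : ZMod p) → ↥(B ⊓ fixSub (uu x z i))) → ↥B,
        ∀ f, (F f : V) = ∏ i, ((f i : ↥(B ⊓ fixSub (uu x z i))) : V) :=
      ⟨fun f => ⟨∏ i, ((f i : ↥(B ⊓ fixSub (uu x z i))) : V),
        Subgroup.prod_mem _ (fun i _ => (f i).2.1)⟩, fun _ => rfl⟩
    have hFinj : Function.Injective F := by
      intro f g hfg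
      have h1 : (∏ i, (((f * g⁻¹) i : ↥(B ⊓ fixSub (uu x z i))) : V)) = 1 := by
        have h2 : ∀ i, (((f * g⁻¹) i : ↥(B ⊓ fixSub (uu x z i))) : V)
            = ((f i : ↥(B ⊓ fixSub (uu x z i))) : V) * ((g i : ↥(B ⊓ fixSub (uu x z i))) : V)⁻¹ := by
          intro i
          rfl
        simp only [h2]
        rw [Finset.prod_mul_distrib, Finset.prod_inv_distrib, ← hF, ← hF, hfg, mul_inv_cancel]
      have h3 := hinj (f * g⁻¹) h1
      funext j
      have := h3 j
      rw [Pi.mul_apply, Pi.inv_apply, mul_inv_eq_one] at this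
      exact this
    have h1 := Nat.card_le_card_of_injective F hFinj
    rw [Nat.card_pi] at h1
    refine le_trans ?_ h1
    have h2 : ∀ i : ZMod p, Nat.card ↥(B ⊓ fixSub x) ≤ Nat.card ↥(B ⊓ fixSub (uu x z i)) := by
      intro i
      have hsub : ∀ b : ↥(B ⊓ fixSub x), t ^ i.val • (b : V) ∈ B ⊓ fixSub (uu x z i) := by
        intro b
        refine ⟨hB _ _ b.2.1, ?_⟩
        show uu x z i • t ^ i.val • (b : V) = t ^ i.val • (b : V)
        rw [← hT, ← mul_smul, inv_mul_cancel_right, mul_smul]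
        congr 1
        exact b.2.2
      have : Finite ↥(B ⊓ fixSub (uu x z i)) :=
        Finite.of_injective (fun b => (⟨b.1, b.2.1⟩ : ↥B)) (fun a b h => Subtype.ext (by
          have := congrArg Subtype.val h
          exact this))
      apply Nat.card_le_card_of_injective (fun b : ↥(B ⊓ fixSub x) => (⟨t ^ i.val • (b : V), hsub b⟩ :
        ↥(B ⊓ fixSub (uu x z i))))
      intro a b hab
      have h3 : t ^ i.val • (a : V) = t ^ i.val • (b : V) := congrArg Subtype.val hab
      have h4 := congrArg (fun w => (t ^ i.val)⁻¹ • w) h3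
      simp only [inv_smul_smul] at h4
      exact Subtype.ext h4
    calc Nat.card ↥(B ⊓ fixSub x) ^ p
        = ∏ _i : ZMod p, Nat.card ↥(B ⊓ fixSub x) := by
          rw [Finset.prod_const, Finset.card_univ, ZMod.card]
      _ ≤ ∏ i : ZMod p, Nat.card ↥(B ⊓ fixSub (uu x z i)) :=
          Finset.prod_le_prod (fun _ _ => Nat.zero_le _) (fun i _ => h2 i)

end card

end Cfsg.Agent.H2.ESM
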