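import Mathlib
import Cfsg.Agent.H2.ExtraspecialModule

/-!
# Faithful modules of extraspecial groups: the order bound
-/

set_option autoImplicit false
open scoped commutatorElement

namespace Cfsg.Agent.H2.ESM

universe u v

section base

variable {E : Type u} {V : Type v} [Group E] [CommGroup V] [MulDistribMulAction E V]
variable {p r : ℕ} [hp : Fact p.Prime] [hr : Fact r.Prime]

/-- the order of an exponent-`r` subgroup -/
theorem exists_card_eq (B : Subgroup V) [Finite B] (hB1 : B ≠ ⊥) (hBr : ∀ b ∈ B, b ^ r = 1) :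
    ∃ d : ℕ, 1 ≤ d ∧ Nat.card B = r ^ d := by
  have hpg : IsPGroup r ↥B := by
    intro b
    refine ⟨1, ?_⟩
    rw [pow_one]
    exact Subtype.ext (hBr b b.2)
  obtain ⟨d, hd⟩ := hpg.exists_card_eq
  refine ⟨d, ?_, hd⟩
  rcases Nat.eq_zero_or_pos d with h0 | h0
  · exfalso
    rw [h0, pow_zero] at hd
    exact hB1 ((Subgroup.card_eq_one).mp hd)
  · exact h0

/-- base case: a fixed-point-free element of order `p` -/
theorem base0 {n : ℕ} (hmin : ∀ k : ℕ, 1 ≤ k → p ∣ r ^ k - 1 → n ≤ k) (z : E) (hz : z ^ p = 1)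
    (B : Subgroup V) [Finite B] (hB1 : B ≠ ⊥) (hBr : ∀ b ∈ B, b ^ r = 1)
    (hBz : ∀ b ∈ B, z • b ∈ B) (hfix : ∀ b ∈ B, z • b = b → b = 1) : r ^ n ≤ Nat.card B := by
  have hdec : DecidableEq ↥B := Classical.decEq _
  obtain ⟨d, hd1, hd⟩ := exists_card_eq B hB1 hBr
  rw [hd]
  apply Nat.pow_le_pow_right hr.out.pos
  apply hmin d hd1
  have : Fintype ↥B := Fintype.ofFinite _
  obtain ⟨f, hf⟩ : ∃ f : Function.End ↥B, ∀ b : ↥B, ((f b : ↥B) : V) = z • (b : V) :=
    ⟨fun b => ⟨z • (b : V), hBz _ b.2⟩, fun _ => rfl⟩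
  have hfpow : ∀ k : ℕ, ∀ b : ↥B, (((f ^ k) b : ↥B) : V) = z ^ k • (b : V) := by
    intro k
    induction k with
    | zero => intro b; rw [pow_zero, pow_zero, one_smul]; rfl
    | succ k ih =>
      intro b
      have e : (f ^ (k + 1)) b = f ((f ^ k) b) := by rw [pow_succ']; rfl
      rw [e, hf, ih, ← mul_smul, ← pow_succ']
  have hfp : f ^ p ^ 1 = 1 := by
    rw [pow_one]
    funext b
    apply Subtype.ext
    rw [hfpow, hz, one_smul]
    rfl
  have h1 := Equiv.Perm.card_fixedPoints_modEq (p := p) (n := 1) hfp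
  rw [Fintype.card_eq_nat_card, Fintype.card_eq_nat_card] at h1
  have h2 : Nat.card (Function.fixedPoints f) = 1 := by
    rw [Nat.card_eq_one_iff_exists]
    refine ⟨⟨1, ?_⟩, ?_⟩
    · show f 1 = 1
      apply Subtype.ext
      rw [hf]
      simp
    · rintro ⟨b, hb⟩
      apply Subtype.ext
      have hb' : f b = b := hb
      have := congrArg Subtype.val hb'
      rw [hf] at this
      exact Subtype.ext (hfix _ b.2 this)
  rw [h2, hd] at h1
  exact (Nat.modEq_iff_dvd' (Nat.one_le_pow _ _ hr.out.pos)).mp h1.symm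

/-- a nonabelian group cannot act on a group of prime order without the commutators acting
trivially -/
theorem comm_fixed_of_cyclic (B : Subgroup V) (hB : ∀ g : E, ∀ b ∈ B, g • b ∈ B)
    (b₀ : V) (hb₀ : ∀ b ∈ B, ∃ j : ℕ, b = b₀ ^ j) (hb₀B : b₀ ∈ B)
    (x y : E) : ∀ b ∈ B, ⁅x, y⁆ • b = b := by
  have hact : ∀ g : E, ∃ m : ℕ, ∀ b ∈ B, g • b = b ^ m := by
    intro g
    obtain ⟨m, hm⟩ := hb₀ _ (hB g b₀ hb₀B)
    refine ⟨m, ?_⟩
    intro b hb
    obtain ⟨j, rfl⟩ := hb₀ b hb
    rw [smul_pow', hm, ← pow_mul, ← pow_mul, mul_comm]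
  have hcomm : ∀ g h : E, ∀ b ∈ B, g • h • b = h • g • b := by
    intro g h b hb
    obtain ⟨m, hm⟩ := hact g
    obtain ⟨k, hk⟩ := hact h
    rw [hk b hb, hm b hb, hm _ (B.pow_mem hb k), hk _ (B.pow_mem hb m), ← pow_mul, ← pow_mul,
      mul_comm]
  intro b hb
  rw [commutatorElement_def, mul_smul, mul_smul, mul_smul]
  rw [hcomm x y _ (hB _ _ (hB _ _ hb)), smul_inv_smul, smul_inv_smul]

end base

section main

variable {p r n : ℕ} [hp : Fact p.Prime] [hr : Fact r.Prime]

theorem finite_inf {V : Type v} [Group V] (B C' : Subgroup V) [Finite B] : Finite ↥(B ⊓ C') :=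
  Finite.of_injective (fun b : ↥(B ⊓ C') => (⟨b.1, b.2.1⟩ : ↥B)) (fun a b h => Subtype.ext (by
    have := congrArg Subtype.val h
    exact this))

theorem key (hpr : p ≠ r) (hmin : ∀ k : ℕ, 1 ≤ k → p ∣ r ^ k - 1 → n ≤ k) (hn : 1 ≤ n) :
    ∀ w : ℕ, ∀ (E : Type u) [Group E] [Finite E] (z : E), Ctx p z → Nat.card E = p ^ (2 * w + 1) →
    ∀ (V : Type v) [CommGroup V] [MulDistribMulAction E V] (B : Subgroup V), Finite B → B ≠ ⊥ →
      (∀ b ∈ B, b ^ r = 1) → (∀ g : E, ∀ b ∈ B, g • b ∈ B) → (∀ b ∈ B, z • b = b → b = 1) →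
      r ^ (n * p ^ w) ≤ Nat.card B := by
  have hcop : p.Coprime r := (Nat.coprime_primes hp.out hr.out).mpr hpr
  intro w
  induction w with
  | zero =>
    intro E _ _ z C hcard V _ _ B hBf hB1 hBr hB hfix
    rw [pow_zero, mul_one]
    exact base0 hmin z C.zp B hB1 hBr (hB z) hfix
  | succ w ih =>
    intro E _ _ z C hcard V _ _ B hBf hB1 hBr hB hfix
    have h2 : 2 ≤ p := hp.out.two_le
    have hpp : p * p < Nat.card E := by
      rw [hcard]
      calc p * p = p ^ 2 := (pow_two p).symm
        _ < p ^ (2 * (w + 1) + 1) := Nat.pow_lt_pow_right h2 (by omega)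
    -- the general step, given a noncentral element of order p
    have hstep : (∃ x : E, x ∉ Subgroup.zpowers z ∧ x ^ p = 1) →
        r ^ (n * p ^ (w + 1)) ≤ Nat.card B := by
      rintro ⟨x, hxz, hxp⟩
      obtain ⟨y, hxy⟩ := exists_partner_of_not_mem C x hxz
      have htx : y⁻¹ * x * (y⁻¹)⁻¹ = x * z := by
        rw [inv_inv]
        have e : y⁻¹ * x * y = (y⁻¹ * ⁅x, y⁆ * y) * x := by rw [commutatorElement_def]; group
        rw [e, hxy, C.cen y⁻¹, inv_mul_cancel_right]
        exact (C.cen x).symm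
      obtain ⟨hB0, hcardB⟩ := step hcop x z y⁻¹ hxp C.zp (C.cen x) (C.cen y⁻¹) htx B hBr hB hfix
      have hC1 := ctx_sub C hxy
      have hcard1 : Nat.card (Subgroup.centralizer ({x, y} : Set E)) = p ^ (2 * w + 1) := by
        have h3 := card_E C hxy
        rw [hcard] at h3
        have e : p ^ (2 * (w + 1) + 1) = p * p * p ^ (2 * w + 1) := by ring
        rw [e] at h3
        exact (Nat.eq_of_mul_eq_mul_left (Nat.mul_pos hp.out.pos hp.out.pos) h3).symm
      have hih := ih (Subgroup.centralizer ({x, y} : Set E)) ⟨z, z_memC C⟩ hC1 hcard1 V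
        (B ⊓ fixSub x) (finite_inf B _) (hB0 hB1) (fun b hb => hBr b hb.1)
        (by
          intro g b hb
          refine ⟨hB (g : E) b hb.1, ?_⟩
          show x • (g : E) • b = (g : E) • b
          have hgx : x * (g : E) = g * x := (memC_comm g.2).1
          rw [← mul_smul, hgx, mul_smul]
          congr 1
          exact hb.2)
        (by
          intro b hb hzb
          exact hfix b hb.1 hzb)
      calc r ^ (n * p ^ (w + 1)) = (r ^ (n * p ^ w)) ^ p := by rw [← pow_mul, pow_succ, mul_assoc]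
        _ ≤ Nat.card ↥(B ⊓ fixSub x) ^ p := Nat.pow_le_pow_left hih p
        _ ≤ Nat.card B := hcardB
    by_cases hp2 : p = 2
    · subst hp2
      by_cases hex : ∃ x : E, x ∉ Subgroup.zpowers z ∧ x ^ 2 = 1
      · exact hstep hex
      · -- then `w = 0`
        have hw : w = 0 := by
          by_contra hw
          apply hex
          apply exists_involution C
          rw [hcard]
          calc 8 = 2 ^ 3 := by norm_num
            _ < 2 ^ (2 * (w + 1) + 1) := Nat.pow_lt_pow_right (by norm_num) (by omega)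
        subst hw
        have hn1 : n = 1 := by
          have hodd : Odd r := by
            rcases hr.out.eq_two_or_odd' with h | h
            · exact absurd h.symm hpr
            · exact h
          have h3 : n ≤ 1 := by
            apply hmin 1 le_rfl
            rw [pow_one]
            obtain ⟨k, hk⟩ := hodd
            exact ⟨k, by omega⟩
          omega
        subst hn1
        obtain ⟨d, hd1, hd⟩ := exists_card_eq B hB1 hBr
        rw [hd]
        apply Nat.pow_le_pow_right hr.out.pos
        simp only [zero_add, pow_one, one_mul]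
        by_contra hd2
        have hd' : d = 1 := by omega
        rw [hd', pow_one] at hd
        have hcyc : IsCyclic ↥B := isCyclic_of_prime_card hd
        obtain ⟨b₀, hb₀⟩ := hcyc.exists_generator
        have hb₀' : ∀ b ∈ B, ∃ j : ℕ, b = (b₀ : V) ^ j := by
          intro b hb
          have h3 := hb₀ ⟨b, hb⟩
          rw [← mem_powers_iff_mem_zpowers, Submonoid.mem_powers_iff] at h3
          obtain ⟨j, hj⟩ := h3
          refine ⟨j, ?_⟩
          have := congrArg Subtype.val hj
          simpa using this.symm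
        -- a noncentral element
        have hne : ∃ x : E, x ∉ Subgroup.zpowers z := by
          by_contra hcon
          push Not at hcon
          have htop : Subgroup.zpowers z = ⊤ := by
            rw [Subgroup.eq_top_iff']; exact hcon
          have h4 : Nat.card (Subgroup.zpowers z) = Nat.card E := by
            rw [htop, Subgroup.card_top]
          rw [Nat.card_zpowers, orderOf_z C, hcard] at h4
          norm_num at h4
        obtain ⟨x, hx⟩ := hne
        obtain ⟨y, hxy⟩ := exists_partner_of_not_mem C x hx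
        have hall := comm_fixed_of_cyclic B hB (b₀ : V) hb₀' b₀.2 x y
        rw [hxy] at hall
        apply hB1
        rw [Subgroup.eq_bot_iff_forall]
        intro b hb
        exact hfix b hb (hall b hb)
    · exact hstep (exists_order_p_odd C hp2 hpp)

/-- **The bound**: a faithful module of exponent `r` for an extraspecial group of order
`p ^ (2 w + 1)` has order at least `r ^ (n p ^ w)`. -/
theorem bound_of_faithful (hpr : p ≠ r) (hmin : ∀ k : ℕ, 1 ≤ k → p ∣ r ^ k - 1 → n ≤ k)
    (hn : 1 ≤ n) {E : Type u} [Group E] [Finite E] (hE : Cfsg.IsExtraspecial p E) (w : ℕ)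
    (hcard : Nat.card E = p ^ (2 * w + 1)) (V : Type v) [CommGroup V] [Finite V]
    [MulDistribMulAction E V] (hVr : ∀ a : V, a ^ r = 1)
    (hfaith : ∀ g : E, (∀ a : V, g • a = a) → g = 1) : r ^ (n * p ^ w) ≤ Nat.card V := by
  have hcop : p.Coprime r := (Nat.coprime_primes hp.out hr.out).mpr hpr
  obtain ⟨z, C⟩ := ctx_of_extraspecial hE
  have hcomm : ∀ (g : E) (a : V), nrm p z (g • a) = g • nrm p z a := by
    intro g a
    rw [nrm_apply, nrm_apply, Finset.smul_prod']
    apply Finset.prod_congr rfl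
    intro k _
    rw [← mul_smul, ← mul_smul]
    congr 1
    exact ((Commute.pow_right (C.cen g) k.val).eq).symm
  obtain ⟨a, ha⟩ : ∃ a : V, z • a ≠ a := by
    by_contra hcon
    push Not at hcon
    exact C.ne (hfaith z hcon)
  have hB1 : (nrm p z : V →* V).ker ≠ ⊥ := by
    intro hbot
    have hmem : z • a * a⁻¹ ∈ (nrm p z : V →* V).ker := by
      rw [MonoidHom.mem_ker, map_mul, map_inv, hcomm, smul_nrm C.zp, mul_inv_cancel]
    rw [hbot, Subgroup.mem_bot, mul_inv_eq_one] at hmem
    exact ha hmem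
  have h1 := key hpr hmin hn w E z C hcard V (nrm p z : V →* V).ker inferInstance hB1
    (fun b _ => hVr b)
    (by
      intro g b hb
      rw [MonoidHom.mem_ker] at hb ⊢
      rw [hcomm, hb, smul_one])
    (by
      intro b hb hzb
      rw [MonoidHom.mem_ker, nrm_of_fixed hzb] at hb
      exact eq_one_of_pow_p hcop (hVr b) hb)
  exact le_trans h1 (Subgroup.card_le_card_group _)

end main

end Cfsg.Agent.H2.ESM
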