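import Mathlib
import Cfsg.Prelude.Def_LocalStructure
import Cfsg.Agent.H1.PResidual
import Cfsg.Agent.H1.Cores
import Cfsg.Agent.H2.Layer

/-!
# Groups `H` with `O_p(H) = 1` and `O^p(H)` quasisimple
-/

set_option autoImplicit false
open scoped commutatorElement

namespace Cfsg.Agent.H2.QsPRes

variable {H : Type*} [Group H]

/-- a nilpotent normal subgroup has order prime to `p` when `O_p(H) = 1` -/
lemma card_coprime_of_normal_nilpotent [Finite H] {p : ℕ} [Fact p.Prime]
    (hO : Cfsg.pCore p H = ⊥) (N : Subgroup H) [N.Normal] (hnil : Group.IsNilpotent N) :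
    (Nat.card N).Coprime p := by
  have hp : p.Prime := Fact.out
  obtain ⟨P⟩ : Nonempty (Sylow p N) := inferInstance
  have hPn : (P : Subgroup N).Normal := inferInstance
  have hPc : (P : Subgroup N).Characteristic := Sylow.characteristic_of_normal P hPn
  have hn : ((P : Subgroup N).map N.subtype).Normal := inferInstance
  have hpg : IsPGroup p ((P : Subgroup N).map N.subtype) := P.2.map _
  have hle := Cfsg.Agent.H1.le_pCore hn hpg
  rw [hO, le_bot_iff] at hle
  have hbot : (P : Subgroup N) = ⊥ :=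
    (Subgroup.map_eq_bot_iff_of_injective _ (Subgroup.subtype_injective _)).mp hle
  have h1 := P.not_dvd_index
  rw [hbot, Subgroup.index_bot] at h1
  rw [Nat.coprime_comm]
  exact (Nat.Prime.coprime_iff_not_dvd hp).mpr h1

/-- a subgroup of order prime to `p` lies in `O^p(H)` -/
lemma le_pResidual_of_card_coprime {p : ℕ} (N : Subgroup H) [Finite N]
    (h : (Nat.card N).Coprime p) : N ≤ Cfsg.pResidual p H := by
  intro x hx
  apply Cfsg.Agent.H1.mem_pResidual_of_coprime
  have h1 : orderOf (⟨x, hx⟩ : N) ∣ Nat.card N := orderOf_dvd_natCard _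
  rw [Subgroup.orderOf_mk] at h1
  exact Nat.Coprime.coprime_dvd_left h1 h

/-- a perfect subgroup lies in `O^p(H)` -/
lemma perfect_le_pResidual [Finite H] {p : ℕ} [Fact p.Prime] (L : Subgroup H) (hL : ⁅L, L⁆ = L) :
    L ≤ Cfsg.pResidual p H := by
  have hpg : IsPGroup p (H ⧸ Cfsg.pResidual p H) := Cfsg.Agent.H1.isPGroup_quotient_pResidual p
  have hnil : Group.IsNilpotent (H ⧸ Cfsg.pResidual p H) := hpg.isNilpotent
  have hsol : Group.IsSolvable (H ⧸ Cfsg.pResidual p H) := inferInstance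
  obtain ⟨n, hn⟩ := hsol.solvable
  have key : ∀ m : ℕ, L.map (QuotientGroup.mk' (Cfsg.pResidual p H)) ≤
      derivedSeries (H ⧸ Cfsg.pResidual p H) m := by
    intro m
    induction m with
    | zero => rw [derivedSeries_zero]; exact le_top
    | succ m ih =>
      rw [derivedSeries_succ]
      calc L.map (QuotientGroup.mk' (Cfsg.pResidual p H))
          = (⁅L, L⁆).map (QuotientGroup.mk' (Cfsg.pResidual p H)) := by rw [hL]
        _ = ⁅L.map (QuotientGroup.mk' (Cfsg.pResidual p H)),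
              L.map (QuotientGroup.mk' (Cfsg.pResidual p H))⁆ := Subgroup.map_commutator _ _ _
        _ ≤ _ := Subgroup.commutator_mono ih ih
  have h1 := key n
  rw [hn, le_bot_iff] at h1
  intro x hx
  have h2 : (QuotientGroup.mk' (Cfsg.pResidual p H)) x ∈
      L.map (QuotientGroup.mk' (Cfsg.pResidual p H)) := Subgroup.mem_map_of_mem _ hx
  rw [h1, Subgroup.mem_bot] at h2
  rw [← QuotientGroup.ker_mk' (Cfsg.pResidual p H)]
  exact MonoidHom.mem_ker.mpr h2

/-- `⁅A, B⁆` is normalized by `A` -/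
lemma conj_mem_commutator_left (A B : Subgroup H) {a : H} (ha : a ∈ A) {x : H}
    (hx : x ∈ ⁅A, B⁆) : a * x * a⁻¹ ∈ ⁅A, B⁆ := by
  rw [Subgroup.commutator_def] at hx
  induction hx using Subgroup.closure_induction with
  | mem x hx =>
    obtain ⟨a', ha', b, hb, rfl⟩ := hx
    have e : a * ⁅a', b⁆ * a⁻¹ = ⁅a * a', b⁆ * (⁅a, b⁆)⁻¹ := by
      simp only [commutatorElement_def]; group
    rw [e]
    exact Subgroup.mul_mem _ (Subgroup.commutator_mem_commutator (A.mul_mem ha ha') hb)
      (Subgroup.inv_mem _ (Subgroup.commutator_mem_commutator ha hb))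
  | one => simp
  | mul x y _ _ hx hy =>
    have : a * (x * y) * a⁻¹ = (a * x * a⁻¹) * (a * y * a⁻¹) := by group
    rw [this]; exact mul_mem hx hy
  | inv x _ hx =>
    have : a * x⁻¹ * a⁻¹ = (a * x * a⁻¹)⁻¹ := by group
    rw [this]; exact inv_mem hx

/-- a subgroup `N` normalized by the quasisimple normal subgroup `K`, with `⁅N, K⁆ ≤ N`: either
`K ≤ N` or `⁅K, N⁆ = 1` -/
lemma le_or_commutator_eq_bot (K : Subgroup H) [K.Normal] (hq : Cfsg.IsQuasisimple K)
    (N : Subgroup H) (hN : ∀ k ∈ K, ∀ x ∈ N, k * x * k⁻¹ ∈ N) :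
    K ≤ N ∨ ⁅K, N⁆ = ⊥ := by
  have hn : (N.subgroupOf K).Normal := by
    constructor
    intro x hx k
    rw [Subgroup.mem_subgroupOf] at hx ⊢
    exact hN k k.2 x hx
  rcases Cfsg.Agent.H2.IsQuasisimple.eq_top_or_le_center hq (N.subgroupOf K) hn.isSubnormal
    with h | h
  · left
    exact Subgroup.subgroupOf_eq_top.mp h
  · right
    -- `N ⊓ K` is central in `K`
    have hcent : ∀ x ∈ N, x ∈ K → ∀ k ∈ K, k * x = x * k := by
      intro x hxN hxK k hk
      have h1 : (⟨x, hxK⟩ : K) ∈ Subgroup.center K := h (Subgroup.mem_subgroupOf.mpr hxN)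
      have h2 := Subgroup.mem_center_iff.mp h1 ⟨k, hk⟩
      exact congrArg (fun z : K => (z : H)) h2
    have hKN : ⁅K, N⁆ ≤ N ⊓ K := by
      rw [Subgroup.commutator_le]
      intro k hk x hx
      constructor
      · have : ⁅k, x⁆ = (k * x * k⁻¹) * x⁻¹ := by simp only [commutatorElement_def]
        rw [this]
        exact N.mul_mem (hN k hk x hx) (N.inv_mem hx)
      · have : ⁅k, x⁆ = k * (x * k⁻¹ * x⁻¹) := by simp only [commutatorElement_def]; group
        rw [this]
        exact K.mul_mem hk ((inferInstance : K.Normal).conj_mem _ (K.inv_mem hk) x)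
    have h1 : ⁅⁅K, N⁆, K⁆ = ⊥ := by
      rw [Subgroup.commutator_eq_bot_iff_le_centralizer]
      intro z hz
      rw [Subgroup.mem_centralizer_iff]
      intro k hk
      exact hcent z (hKN hz).1 (hKN hz).2 k hk
    have h2 : ⁅⁅N, K⁆, K⁆ = ⊥ := by rw [Subgroup.commutator_comm N K]; exact h1
    have h3 : ⁅⁅K, K⁆, N⁆ = ⊥ := Subgroup.commutator_commutator_eq_bot_of_rotate h1 h2
    rw [Cfsg.Agent.H2.quasisimple_commutator_eq hq] at h3
    exact h3


section main

variable [Finite H] {p : ℕ} [Fact p.Prime]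

/-- `E(H) = O^p(H)` when `O^p(H)` is quasisimple -/
lemma layer_eq (hq : Cfsg.IsQuasisimple ↥(Cfsg.pResidual p H)) :
    Cfsg.layer H = Cfsg.pResidual p H := by
  have hKc : Cfsg.IsComponent (Cfsg.pResidual p H) :=
    ⟨(inferInstance : (Cfsg.pResidual p H).Normal).isSubnormal, hq⟩
  apply le_antisymm
  · apply Cfsg.Agent.H2.layer_le_iff.mpr
    intro L hL
    by_contra hcon
    have hne : L ≠ Cfsg.pResidual p H := by
      intro h; rw [h] at hcon; exact hcon le_rfl
    have h1 : ⁅L, Cfsg.pResidual p H⁆ = ⊥ := Cfsg.Agent.H2.components_commute hL hKc hne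
    have h2 : L ≤ Cfsg.pResidual p H :=
      perfect_le_pResidual L (Cfsg.Agent.H2.quasisimple_commutator_eq hL.2)
    exact hcon h2
  · exact Cfsg.Agent.H2.component_le_layer hKc

/-- `F*(H) = O^p(H)` when `O_p(H) = 1` and `O^p(H)` is quasisimple -/
lemma fstar_eq (hO : Cfsg.pCore p H = ⊥) (hq : Cfsg.IsQuasisimple ↥(Cfsg.pResidual p H)) :
    Cfsg.pResidual p H = Cfsg.generalizedFittingSubgroup H := by
  unfold Cfsg.generalizedFittingSubgroup
  rw [layer_eq hq]
  symm
  rw [sup_eq_left]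
  apply le_pResidual_of_card_coprime
  exact card_coprime_of_normal_nilpotent hO _ Cfsg.Agent.H1.fittingSubgroup_nilpotent

/-- `C_H(O^p(H)) ≤ O^p(H)` -/
lemma centralizer_le (hO : Cfsg.pCore p H = ⊥) (hq : Cfsg.IsQuasisimple ↥(Cfsg.pResidual p H)) :
    Subgroup.centralizer (Cfsg.pResidual p H : Set H) ≤ Cfsg.pResidual p H := by
  have h := Cfsg.Agent.H2.centralizer_generalizedFittingSubgroup_le (G := H)
  rw [← fstar_eq hO hq] at h
  exact h

/-- a subgroup centralizing `O^p(H)` has order prime to `p` -/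
lemma card_coprime_of_commutator_eq_bot (hO : Cfsg.pCore p H = ⊥)
    (hq : Cfsg.IsQuasisimple ↥(Cfsg.pResidual p H)) (C : Subgroup H)
    (hC : ⁅Cfsg.pResidual p H, C⁆ = ⊥) : (Nat.card C).Coprime p := by
  have hCc : C ≤ Subgroup.centralizer (Cfsg.pResidual p H : Set H) := by
    rw [Subgroup.commutator_comm] at hC
    exact Subgroup.commutator_eq_bot_iff_le_centralizer.mp hC
  obtain ⟨Z, hZ⟩ : ∃ Z : Subgroup H, Z = Cfsg.pResidual p H ⊓
      Subgroup.centralizer (Cfsg.pResidual p H : Set H) := ⟨_, rfl⟩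
  have hZn : Z.Normal := by rw [hZ]; infer_instance
  have hZc : ∀ x y : Z, x * y = y * x := by
    intro x y
    apply Subtype.ext
    have hZle : Z ≤ Cfsg.pResidual p H ⊓
        Subgroup.centralizer (Cfsg.pResidual p H : Set H) := hZ.le
    have hx : (x : H) ∈ Subgroup.centralizer (Cfsg.pResidual p H : Set H) := (hZle x.2).2
    have hy : (y : H) ∈ Cfsg.pResidual p H := (hZle y.2).1
    exact (Subgroup.mem_centralizer_iff.mp hx (y : H) hy).symm
  have hZnil : Group.IsNilpotent Z := by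
    let _ : CommGroup Z := { (inferInstance : Group Z) with mul_comm := hZc }
    infer_instance
  have hcop := card_coprime_of_normal_nilpotent hO Z hZnil
  have hCZ : C ≤ Z := by
    rw [hZ]
    exact le_inf (hCc.trans (centralizer_le hO hq)) hCc
  exact Nat.Coprime.coprime_dvd_left (Subgroup.card_dvd_of_le hCZ) hcop

theorem main (hp : p ∣ Nat.card H) (hO : Cfsg.pCore p H = ⊥)
    (hq : Cfsg.IsQuasisimple ↥(Cfsg.pResidual p H)) :
    Cfsg.pResidual p H = Cfsg.generalizedFittingSubgroup H ∧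
    (∀ Y : Subgroup H, IsPGroup p ↥Y → Y ≠ ⊥ →
      ⁅Cfsg.pResidual p H, Y⁆ = Cfsg.pResidual p H ∧
      Cfsg.pResidual p H ≤ ⨆ k : ↥(Cfsg.pResidual p H), Y.map (MulAut.conj (k : H)).toMonoidHom) ∧
    (∀ C : Subgroup H, C.Normal → ¬ Cfsg.pResidual p H ≤ C → (Nat.card ↥C).Coprime p) ∧
    Cfsg.IsPIrreducible p H := by
  have hpp : p.Prime := Fact.out
  -- a `p`-subgroup with coprime order is trivial
  have htriv : ∀ Y : Subgroup H, IsPGroup p ↥Y → (Nat.card Y).Coprime p → Y = ⊥ := by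
    intro Y hY hc
    obtain ⟨n, hn⟩ := IsPGroup.iff_card.mp hY
    rw [hn] at hc
    rcases Nat.eq_zero_or_pos n with h0 | hpos
    · rw [h0, pow_zero] at hn
      exact Subgroup.card_eq_one.mp hn
    · exfalso
      have : p ∣ Nat.gcd (p ^ n) p := Nat.dvd_gcd (dvd_pow_self p hpos.ne') dvd_rfl
      rw [hc] at this
      exact hpp.one_lt.ne' (Nat.dvd_one.mp this)
  have hC : ∀ C : Subgroup H, C.Normal → ¬ Cfsg.pResidual p H ≤ C → (Nat.card ↥C).Coprime p := by
    intro C hCn hKC
    rcases le_or_commutator_eq_bot (Cfsg.pResidual p H) hq C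
      (fun k _ x hx => hCn.conj_mem x hx k) with h | h
    · exact absurd h hKC
    · exact card_coprime_of_commutator_eq_bot hO hq C h
  refine ⟨fstar_eq hO hq, ?_, hC, ?_, ?_⟩
  · intro Y hY hYne
    have hnot : ⁅Cfsg.pResidual p H, Y⁆ ≠ ⊥ := by
      intro h
      exact hYne (htriv Y hY (card_coprime_of_commutator_eq_bot hO hq Y h))
    have hKY : ⁅Cfsg.pResidual p H, Y⁆ = Cfsg.pResidual p H := by
      apply le_antisymm (Subgroup.commutator_le_left _ _)
      rcases le_or_commutator_eq_bot (Cfsg.pResidual p H) hq ⁅Cfsg.pResidual p H, Y⁆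
        (fun k hk x hx => conj_mem_commutator_left _ _ hk hx) with h | h
      · exact h
      · exfalso
        -- `⁅K, ⁅K, Y⁆⁆ = 1` forces `⁅K, Y⁆ = 1`
        have h1 : ⁅⁅Cfsg.pResidual p H, Y⁆, Cfsg.pResidual p H⁆ = ⊥ := by
          rw [Subgroup.commutator_comm]; exact h
        have h2 : ⁅⁅Y, Cfsg.pResidual p H⁆, Cfsg.pResidual p H⁆ = ⊥ := by
          rw [Subgroup.commutator_comm Y]; exact h1
        have h3 := Subgroup.commutator_commutator_eq_bot_of_rotate h1 h2
        rw [Cfsg.Agent.H2.quasisimple_commutator_eq hq] at h3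
        exact hnot h3
    refine ⟨hKY, ?_⟩
    refine hKY.ge.trans ?_
    rw [Subgroup.commutator_le]
    intro k hk y hy
    have e : ⁅k, y⁆ = (k * y * k⁻¹) * y⁻¹ := by simp only [commutatorElement_def]
    rw [e]
    have hle1 : Y.map (MulAut.conj k).toMonoidHom ≤
        ⨆ k : ↥(Cfsg.pResidual p H), Y.map (MulAut.conj (k : H)).toMonoidHom :=
      le_iSup (fun k : ↥(Cfsg.pResidual p H) => Y.map (MulAut.conj (k : H)).toMonoidHom) ⟨k, hk⟩
    have hle2 : Y.map (MulAut.conj (1 : H)).toMonoidHom ≤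
        ⨆ k : ↥(Cfsg.pResidual p H), Y.map (MulAut.conj (k : H)).toMonoidHom :=
      le_iSup (fun k : ↥(Cfsg.pResidual p H) => Y.map (MulAut.conj (k : H)).toMonoidHom)
        ⟨1, Subgroup.one_mem _⟩
    apply Subgroup.mul_mem
    · exact hle1 (Subgroup.mem_map.mpr ⟨y, hy, rfl⟩)
    · refine hle2 (Subgroup.mem_map.mpr ⟨y⁻¹, Y.inv_mem hy, ?_⟩)
      simp
  · -- `H` is not `p`-closed
    intro hcl
    obtain ⟨P⟩ : Nonempty (Sylow p H) := inferInstance
    have hPn : (P : Subgroup H).Normal := hcl P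
    have hle := Cfsg.Agent.H1.le_pCore hPn P.2
    rw [hO, le_bot_iff] at hle
    have h1 := P.not_dvd_index
    rw [hle, Subgroup.index_bot] at h1
    exact h1 hp
  · intro N hN hncl
    by_contra hKN
    apply hncl
    intro P
    have hcop := hC N hN hKN
    have hPc : (Nat.card (P : Subgroup N)).Coprime p :=
      Nat.Coprime.coprime_dvd_left (Subgroup.card_subgroup_dvd_card _) hcop
    obtain ⟨n, hn⟩ := IsPGroup.iff_card.mp P.2
    have hP1 : (P : Subgroup N) = ⊥ := by
      rcases Nat.eq_zero_or_pos n with h0 | hpos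
      · rw [h0, pow_zero] at hn
        exact Subgroup.card_eq_one.mp hn
      · exfalso
        rw [hn] at hPc
        have : p ∣ Nat.gcd (p ^ n) p := Nat.dvd_gcd (dvd_pow_self p hpos.ne') dvd_rfl
        rw [hPc] at this
        exact hpp.one_lt.ne' (Nat.dvd_one.mp this)
    rw [hP1]
    infer_instance

end main

end Cfsg.Agent.H2.QsPRes
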