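import Mathlib
import Cfsg.Prelude.Def_Local
import Cfsg.Agent.H1.CoprimeAction
import Cfsg.Agent.H2.FStar
import Cfsg.Agent.H2.QuasisimplePRes
import Cfsg.Agent.S0026

/-!
# Action of a `p`-group on a group `L = F*(L)` with `O_p(L) = 1`
-/

set_option autoImplicit false
open scoped commutatorElement

namespace Cfsg.Agent.H2.FsAct

variable {G : Type*} [Group G]

/-- a quasisimple subgroup `K` and a subgroup `N ≤ K` normalized by `K`: `K ≤ N` or `⁅K, N⁆ = 1` -/
lemma le_or_commutator_eq_bot (K : Subgroup G) (hq : Cfsg.IsQuasisimple K)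
    (N : Subgroup G) (hNK : N ≤ K) (hN : K ≤ Subgroup.normalizer (N : Set G)) :
    K ≤ N ∨ ⁅K, N⁆ = ⊥ := by
  have hn : (N.subgroupOf K).Normal := by
    constructor
    intro x hx k
    rw [Subgroup.mem_subgroupOf] at hx ⊢
    exact (Subgroup.mem_normalizer_iff.mp (hN k.2) x).mp hx
  rcases Cfsg.Agent.H2.IsQuasisimple.eq_top_or_le_center hq (N.subgroupOf K) hn.isSubnormal
    with h | h
  · left
    exact Subgroup.subgroupOf_eq_top.mp h
  · right
    rw [Subgroup.commutator_comm, Subgroup.commutator_eq_bot_iff_le_centralizer]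
    intro x hxN
    rw [Subgroup.mem_centralizer_iff]
    intro k hk
    have h1 : (⟨x, hNK hxN⟩ : K) ∈ Subgroup.center K := h (Subgroup.mem_subgroupOf.mpr hxN)
    have h2 := Subgroup.mem_center_iff.mp h1 ⟨k, hk⟩
    exact congrArg (fun z : K => (z : G)) h2

/-- a quasisimple subgroup `K` normalized by `Y`: `K ≤ ⁅K, Y⁆` or `K` centralizes `Y` -/
lemma le_commutator_or_le_centralizer (K Y : Subgroup G) (hq : Cfsg.IsQuasisimple K)
    (hKY : ⁅K, Y⁆ ≤ K) : K ≤ ⁅K, Y⁆ ∨ K ≤ Subgroup.centralizer (Y : Set G) := by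
  rcases le_or_commutator_eq_bot K hq ⁅K, Y⁆ hKY (Subgroup.normalizer_commutator_ge_left K Y)
    with h | h
  · exact Or.inl h
  · right
    have h1 : ⁅⁅K, Y⁆, K⁆ = ⊥ := by rw [Subgroup.commutator_comm]; exact h
    have h2 : ⁅⁅Y, K⁆, K⁆ = ⊥ := by rw [Subgroup.commutator_comm Y]; exact h1
    have h3 := Subgroup.commutator_commutator_eq_bot_of_rotate h1 h2
    rw [Cfsg.Agent.H2.quasisimple_commutator_eq hq] at h3
    exact Subgroup.commutator_eq_bot_iff_le_centralizer.mp h3

variable [Finite G] {p : ℕ} [Fact p.Prime]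

/-- each component of `L` lies in `⁅L, Y⁆` or centralizes `Y` -/
lemma component_le (L Y : Subgroup G) (hYL : Y ≤ Subgroup.normalizer (L : Set G))
    (K' : Subgroup L) (hK' : Cfsg.IsComponent K') :
    K'.map L.subtype ≤ ⁅L, Y⁆ ∨ K'.map L.subtype ≤ Subgroup.centralizer (Y : Set G) := by
  have hKL : K'.map L.subtype ≤ L := Subgroup.map_subtype_le _
  have hq : Cfsg.IsQuasisimple (K'.map L.subtype) :=
    (Cfsg.Agent.H2.isQuasisimple_map_of_injective _ L.subtype_injective K').mpr hK'.2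
  have hperf : ⁅K'.map L.subtype, K'.map L.subtype⁆ = K'.map L.subtype :=
    Cfsg.Agent.H2.quasisimple_commutator_eq hq
  by_cases hinv : ∀ y (hy : y ∈ Y),
      K'.map (Cfsg.Agent.H2.conjNormalizerEquiv L y (hYL hy)).toMonoidHom = K'
  · -- `Y` normalizes `K`
    have hKY : ⁅K'.map L.subtype, Y⁆ ≤ K'.map L.subtype := by
      rw [Subgroup.commutator_le]
      intro k hk y hy
      obtain ⟨k', hk', rfl⟩ := Subgroup.mem_map.mp hk
      have h1 : Cfsg.Agent.H2.conjNormalizerEquiv L y (hYL hy) k'⁻¹ ∈ K' := by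
        have : Cfsg.Agent.H2.conjNormalizerEquiv L y (hYL hy) k'⁻¹ ∈
            K'.map (Cfsg.Agent.H2.conjNormalizerEquiv L y (hYL hy)).toMonoidHom :=
          Subgroup.mem_map_of_mem _ (K'.inv_mem hk')
        rwa [hinv y hy] at this
      have e : ⁅L.subtype k', y⁆ = L.subtype k' *
          L.subtype (Cfsg.Agent.H2.conjNormalizerEquiv L y (hYL hy) k'⁻¹) := by
        simp only [commutatorElement_def, Subgroup.subtype_apply,
          Cfsg.Agent.H2.conjNormalizerEquiv_apply, Subgroup.coe_inv]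
        group
      rw [e]
      exact Subgroup.mul_mem _ (Subgroup.mem_map_of_mem _ hk') (Subgroup.mem_map_of_mem _ h1)
    rcases le_commutator_or_le_centralizer _ Y hq hKY with h | h
    · left
      exact h.trans (Subgroup.commutator_mono hKL le_rfl)
    · exact Or.inr h
  · -- some `y` moves `K`
    left
    push Not at hinv
    obtain ⟨y, hy, hne⟩ := hinv
    have hK'' : Cfsg.IsComponent
        (K'.map (Cfsg.Agent.H2.conjNormalizerEquiv L y (hYL hy)).toMonoidHom) :=
      Cfsg.Agent.H2.component_map_equiv _ hK'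
    have hcomm := Cfsg.Agent.H2.components_commute hK' hK'' (Ne.symm hne)
    rw [Cfsg.Agent.H2.commutator_eq_bot_iff_forall_commute] at hcomm
    rw [← hperf, Subgroup.commutator_le]
    intro k hk k₁ hk₁
    obtain ⟨k', hk', rfl⟩ := Subgroup.mem_map.mp hk
    obtain ⟨k₁', hk₁', rfl⟩ := Subgroup.mem_map.mp hk₁
    -- `k₂ = y k⁻¹ y⁻¹` commutes with `k₁`
    have h2 := hcomm k₁' hk₁' (Cfsg.Agent.H2.conjNormalizerEquiv L y (hYL hy) k'⁻¹)
      (Subgroup.mem_map_of_mem _ (K'.inv_mem hk'))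
    have h2' : (k₁' : G) * (y * (k' : G)⁻¹ * y⁻¹) = (y * (k' : G)⁻¹ * y⁻¹) * (k₁' : G) := by
      have := congrArg (fun z : L => (z : G)) h2
      simp only [Subgroup.coe_mul, Cfsg.Agent.H2.conjNormalizerEquiv_apply, Subgroup.coe_inv]
        at this
      exact this
    have e : ⁅L.subtype k', L.subtype k₁'⁆ = ⁅⁅L.subtype k', y⁆, L.subtype k₁'⁆ := by
      simp only [commutatorElement_def, Subgroup.subtype_apply]
      have e1 : (k' : G) * y * (k' : G)⁻¹ * y⁻¹ * (k₁' : G) *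
          ((k' : G) * y * (k' : G)⁻¹ * y⁻¹)⁻¹ * (k₁' : G)⁻¹ =
          (k' : G) * ((y * (k' : G)⁻¹ * y⁻¹) * (k₁' : G)) *
          (y * (k' : G)⁻¹ * y⁻¹)⁻¹ * (k' : G)⁻¹ * (k₁' : G)⁻¹ := by group
      rw [e1, ← h2']
      group
    rw [e]
    have hd : ⁅L.subtype k', y⁆ ∈ ⁅L, Y⁆ := Subgroup.commutator_mem_commutator k'.2 hy
    have hk₁L : L.subtype k₁' ∈ Subgroup.normalizer ((⁅L, Y⁆ : Subgroup G) : Set G) :=
      Subgroup.normalizer_commutator_ge_left L Y k₁'.2
    have e2 : ⁅⁅L.subtype k', y⁆, L.subtype k₁'⁆ = ⁅L.subtype k', y⁆ *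
        (L.subtype k₁' * (⁅L.subtype k', y⁆)⁻¹ * (L.subtype k₁')⁻¹) := by
      simp only [commutatorElement_def]; group
    rw [e2]
    exact Subgroup.mul_mem _ hd
      ((Subgroup.mem_normalizer_iff.mp hk₁L _).mp (Subgroup.inv_mem _ hd))


/-- **Core theorem.** `L = F*(L)` with `O_p(L) = 1`, acted on by the `p`-group `Y`:
`L = ⁅L, Y⁆ C_L(Y)` and `⁅L, Y⁆ = ⁅L, Y, Y⁆`. -/
theorem core (L Y : Subgroup G) (hY : IsPGroup p Y)
    (hYL : Y ≤ Subgroup.normalizer (L : Set G))
    (hF : Cfsg.generalizedFittingSubgroup ↥L = ⊤) (hO : Cfsg.pCore p ↥L = ⊥) :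
    ⁅L, Y⁆ ⊔ (L ⊓ Subgroup.centralizer (Y : Set G)) = L ∧ ⁅L, Y⁆ = ⁅⁅L, Y⁆, Y⁆ := by
  have hpp : p.Prime := Fact.out
  have hDL : ⁅L, Y⁆ ≤ L := Subgroup.le_normalizer_iff_commutator_le_left.mp hYL
  have hLD : L ≤ Subgroup.normalizer ((⁅L, Y⁆ : Subgroup G) : Set G) :=
    Subgroup.normalizer_commutator_ge_left L Y
  have hYD : Y ≤ Subgroup.normalizer ((⁅L, Y⁆ : Subgroup G) : Set G) :=
    Subgroup.normalizer_commutator_ge_right L Y
  -- the Fitting part
  have hFit : (Cfsg.fittingSubgroup ↥L).map L.subtype ≤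
      ⁅L, Y⁆ ⊔ (L ⊓ Subgroup.centralizer (Y : Set G)) := by
    have hFL : (Cfsg.fittingSubgroup ↥L).map L.subtype ≤ L := Subgroup.map_subtype_le _
    have hYF : Y ≤ Subgroup.normalizer
        (((Cfsg.fittingSubgroup ↥L).map L.subtype : Subgroup G) : Set G) :=
      hYL.trans (Cfsg.Agent.H2.normalizer_le_normalizer_fittingSubgroup L)
    have hc1 : (Nat.card (Cfsg.fittingSubgroup ↥L)).Coprime p :=
      Cfsg.Agent.H2.QsPRes.card_coprime_of_normal_nilpotent hO _
        Cfsg.Agent.H1.fittingSubgroup_nilpotent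
    have hc2 : Nat.card ((Cfsg.fittingSubgroup ↥L).map L.subtype) =
        Nat.card (Cfsg.fittingSubgroup ↥L) :=
      Subgroup.card_map_of_injective L.subtype_injective
    obtain ⟨n, hn⟩ := IsPGroup.iff_card.mp hY
    have hcop : (Nat.card Y).Coprime (Nat.card ((Cfsg.fittingSubgroup ↥L).map L.subtype)) := by
      rw [hc2, hn]
      exact Nat.Coprime.pow_left n hc1.symm
    have hsolv : Group.IsSolvable Y := by
      have := hY.isNilpotent
      exact IsNilpotent.to_isSolvable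
    have h26 := Cfsg.Agent.S0026.result Y _ hYF hcop (Or.inl hsolv)
    rw [← h26]
    exact sup_le_sup (Subgroup.commutator_mono hFL le_rfl) (inf_le_inf_right _ hFL)
  -- the layer part
  have hLay : (Cfsg.layer ↥L).map L.subtype ≤
      ⁅L, Y⁆ ⊔ (L ⊓ Subgroup.centralizer (Y : Set G)) := by
    rw [Subgroup.map_le_iff_le_comap]
    apply Cfsg.Agent.H2.layer_le_iff.mpr
    intro K' hK'
    rw [← Subgroup.map_le_iff_le_comap]
    rcases component_le L Y hYL K' hK' with h | h
    · exact h.trans le_sup_left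
    · exact (le_inf (Subgroup.map_subtype_le _) h).trans le_sup_right
  have hsup : ⁅L, Y⁆ ⊔ (L ⊓ Subgroup.centralizer (Y : Set G)) = L := by
    apply le_antisymm (sup_le hDL inf_le_left)
    have h1 : L = (Cfsg.generalizedFittingSubgroup ↥L).map L.subtype := by
      rw [hF, ← MonoidHom.range_eq_map, Subgroup.range_subtype]
    calc L = (Cfsg.generalizedFittingSubgroup ↥L).map L.subtype := h1
      _ = (Cfsg.layer ↥L).map L.subtype ⊔ (Cfsg.fittingSubgroup ↥L).map L.subtype :=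
        Cfsg.Agent.H2.map_generalizedFittingSubgroup L
      _ ≤ _ := sup_le hLay hFit
  refine ⟨hsup, ?_⟩
  apply le_antisymm
  · rw [Subgroup.commutator_le]
    intro l hl y hy
    have hl' : l ∈ ⁅L, Y⁆ ⊔ (L ⊓ Subgroup.centralizer (Y : Set G)) := by rw [hsup]; exact hl
    have hCD : L ⊓ Subgroup.centralizer (Y : Set G) ≤
        Subgroup.normalizer ((⁅L, Y⁆ : Subgroup G) : Set G) := inf_le_left.trans hLD
    obtain ⟨d, hd, c, hc, rfl⟩ := (Cfsg.Agent.H1.mem_sup_of_le_normalizer _ _ hCD).mp hl'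
    have hcy : y * c = c * y := Subgroup.mem_centralizer_iff.mp hc.2 y hy
    have e : ⁅d * c, y⁆ = ⁅d, y⁆ := by
      simp only [commutatorElement_def]
      have e1 : d * c * y * (d * c)⁻¹ * y⁻¹ = d * (c * y) * c⁻¹ * d⁻¹ * y⁻¹ := by group
      rw [e1, ← hcy]
      group
    rw [e]
    exact Subgroup.commutator_mem_commutator hd hy
  · exact Subgroup.le_normalizer_iff_commutator_le_left.mp hYD


section applications

variable {H : Type*} [Group H] [Finite H]

/-- a `p`-group of order prime to `p` is trivial -/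
lemma eq_bot_of_isPGroup_of_coprime (Y : Subgroup H) (hY : IsPGroup p Y)
    (hc : (Nat.card Y).Coprime p) : Y = ⊥ := by
  have hpp : p.Prime := Fact.out
  obtain ⟨n, hn⟩ := IsPGroup.iff_card.mp hY
  rw [hn] at hc
  rcases Nat.eq_zero_or_pos n with h0 | hpos
  · rw [h0, pow_zero] at hn
    exact Subgroup.card_eq_one.mp hn
  · exfalso
    have : p ∣ Nat.gcd (p ^ n) p := Nat.dvd_gcd (dvd_pow_self p hpos.ne') dvd_rfl
    rw [hc] at this
    exact hpp.one_lt.ne' (Nat.dvd_one.mp this)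

/-- a subnormal subgroup `S ≤ F*(H)` of a group with `O_p(H) = 1` has `F*(S) = S`, `O_p(S) = 1` -/
lemma subnormal_props (hO : Cfsg.pCore p H = ⊥) (S : Subgroup H) (hS : S.IsSubnormal)
    (hSF : S ≤ Cfsg.generalizedFittingSubgroup H) :
    Cfsg.generalizedFittingSubgroup ↥S = ⊤ ∧ Cfsg.pCore p ↥S = ⊥ := by
  constructor
  · have h1 := Cfsg.Agent.H2.map_generalizedFittingSubgroup_eq_of_isSubnormal hS
    rw [inf_eq_right.mpr hSF] at h1
    apply Subgroup.map_injective S.subtype_injective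
    rw [h1, ← MonoidHom.range_eq_map, Subgroup.range_subtype]
  · have hsn : ((Cfsg.pCore p ↥S).map S.subtype).IsSubnormal :=
      (Cfsg.Agent.H1.pCore_normal p (G := ↥S)).isSubnormal.trans' hS
    have hpg : IsPGroup p ((Cfsg.pCore p ↥S).map S.subtype) :=
      (Cfsg.Agent.H1.pCore_isPGroup p (G := ↥S)).map _
    have hnil : Group.IsNilpotent ((Cfsg.pCore p ↥S).map S.subtype) := hpg.isNilpotent
    have hle := Cfsg.Agent.H2.le_fittingSubgroup_of_isSubnormal_of_isNilpotent hsn hnil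
    have hcop := Cfsg.Agent.H2.QsPRes.card_coprime_of_normal_nilpotent hO
      (Cfsg.fittingSubgroup H) Cfsg.Agent.H1.fittingSubgroup_nilpotent
    have hbot := eq_bot_of_isPGroup_of_coprime _ hpg
      (Nat.Coprime.coprime_dvd_left (Subgroup.card_dvd_of_le hle) hcop)
    exact (Subgroup.map_eq_bot_iff_of_injective _ S.subtype_injective).mp hbot

/-- `⁅S, Y⁆ = ⁅S, Y, Y⁆` for `S ≤ F*(H)` subnormal, `Y` a `p`-group normalizing `S` -/
lemma commutator_stable (hO : Cfsg.pCore p H = ⊥) (S : Subgroup H) (hS : S.IsSubnormal)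
    (hSF : S ≤ Cfsg.generalizedFittingSubgroup H) (Y : Subgroup H) (hY : IsPGroup p Y)
    (hYS : Y ≤ Subgroup.normalizer (S : Set H)) :
    ⁅S, Y⁆ ⊔ (S ⊓ Subgroup.centralizer (Y : Set H)) = S ∧ ⁅S, Y⁆ = ⁅⁅S, Y⁆, Y⁆ := by
  obtain ⟨h1, h2⟩ := subnormal_props hO S hS hSF
  exact core S Y hY hYS h1 h2

theorem main2816 (hO : Cfsg.pCore p H = ⊥) (Y : Subgroup H) (hY : IsPGroup p ↥Y) :
    (∀ K : Subgroup H, K.IsSubnormal → Y ≤ K →
      ⁅Cfsg.generalizedFittingSubgroup H, Y⁆ =
        ⁅(Cfsg.generalizedFittingSubgroup ↥K).map K.subtype, Y⁆ ∧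
      ⁅(Cfsg.generalizedFittingSubgroup ↥K).map K.subtype, Y⁆ =
        ⁅⁅(Cfsg.generalizedFittingSubgroup ↥K).map K.subtype, Y⁆, Y⁆) ∧
    (∀ Y₀ : Subgroup H, Y₀ ≤ Y → ⁅⁅Cfsg.generalizedFittingSubgroup H, Y⁆, Y₀⁆ = ⊥ → Y₀ = ⊥) := by
  have hXn : (Cfsg.generalizedFittingSubgroup H).Normal := inferInstance
  have hXtop : ∀ Y' : Subgroup H, Y' ≤ Subgroup.normalizer
      ((Cfsg.generalizedFittingSubgroup H : Subgroup H) : Set H) := by
    intro Y'
    rw [Subgroup.normalizer_eq_top_iff.mpr hXn]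
    exact le_top
  have hXst : ∀ Y' : Subgroup H, IsPGroup p Y' →
      ⁅Cfsg.generalizedFittingSubgroup H, Y'⁆ = ⁅⁅Cfsg.generalizedFittingSubgroup H, Y'⁆, Y'⁆ :=
    fun Y' hY' => (commutator_stable hO _ hXn.isSubnormal le_rfl Y' hY' (hXtop Y')).2
  constructor
  · intro K hK hYK
    have hXK := Cfsg.Agent.H2.map_generalizedFittingSubgroup_eq_of_isSubnormal hK
    have hXKsn : ((Cfsg.generalizedFittingSubgroup ↥K).map K.subtype).IsSubnormal :=
      (Cfsg.Agent.H2.generalizedFittingSubgroup_normal (G := ↥K)).isSubnormal.trans' hK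
    have hXKle : (Cfsg.generalizedFittingSubgroup ↥K).map K.subtype ≤
        Cfsg.generalizedFittingSubgroup H := by rw [hXK]; exact inf_le_left
    have hYn : Y ≤ Subgroup.normalizer
        (((Cfsg.generalizedFittingSubgroup ↥K).map K.subtype : Subgroup H) : Set H) :=
      (hYK.trans Subgroup.le_normalizer).trans
        (Cfsg.Agent.H2.normalizer_le_normalizer_generalizedFittingSubgroup K)
    have hst := (commutator_stable hO _ hXKsn hXKle Y hY hYn).2
    refine ⟨?_, hst⟩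
    apply le_antisymm
    · -- `⁅X, Y⁆ ≤ K` by induction along the subnormal chain
      have hle : ∀ K' : Subgroup H, K'.IsSubnormal → Y ≤ K' →
          ⁅Cfsg.generalizedFittingSubgroup H, Y⁆ ≤ K' := by
        intro K' hK'
        induction hK' with
        | top => intro _; exact le_top
        | step A B hAB hB hN ih =>
          intro hYA
          have h1 := ih (hYA.trans hAB)
          rw [hXst Y hY]
          have h2 : ⁅⁅Cfsg.generalizedFittingSubgroup H, Y⁆, Y⁆ ≤ ⁅B, A⁆ :=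
            Subgroup.commutator_mono h1 hYA
          refine h2.trans ?_
          rw [Subgroup.commutator_le]
          intro b hb a ha
          have h3 : (⟨b, hb⟩ : B) * ⟨a, hAB ha⟩ * (⟨b, hb⟩ : B)⁻¹ ∈ A.subgroupOf B :=
            hN.conj_mem _ (Subgroup.mem_subgroupOf.mpr ha) _
          have h4 : b * a * b⁻¹ ∈ A := Subgroup.mem_subgroupOf.mp h3
          have e : ⁅b, a⁆ = (b * a * b⁻¹) * a⁻¹ := by simp only [commutatorElement_def]
          rw [e]
          exact A.mul_mem h4 (A.inv_mem ha)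
      have h1 : ⁅Cfsg.generalizedFittingSubgroup H, Y⁆ ≤
          (Cfsg.generalizedFittingSubgroup ↥K).map K.subtype := by
        rw [hXK]
        exact le_inf (Subgroup.commutator_le_left _ _) (hle K hK hYK)
      rw [hXst Y hY]
      exact Subgroup.commutator_mono h1 le_rfl
    · exact Subgroup.commutator_mono hXKle le_rfl
  · intro Y₀ hY₀ hcomm
    have hY₀p : IsPGroup p Y₀ := hY.to_le hY₀
    have h1 : ⁅Cfsg.generalizedFittingSubgroup H, Y₀⁆ = ⊥ := by
      rw [hXst Y₀ hY₀p, eq_bot_iff, ← hcomm]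
      exact Subgroup.commutator_mono (Subgroup.commutator_mono le_rfl hY₀) le_rfl
    have h2 : Y₀ ≤ Subgroup.centralizer ((Cfsg.generalizedFittingSubgroup H : Subgroup H) : Set H) := by
      rw [Subgroup.commutator_comm] at h1
      exact Subgroup.commutator_eq_bot_iff_le_centralizer.mp h1
    -- `Z(F*(H))` is an abelian normal subgroup, hence a `p'`-group
    obtain ⟨Z, hZ⟩ : ∃ Z : Subgroup H, Z = Cfsg.generalizedFittingSubgroup H ⊓
        Subgroup.centralizer ((Cfsg.generalizedFittingSubgroup H : Subgroup H) : Set H) := ⟨_, rfl⟩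
    have hZn : Z.Normal := by rw [hZ]; infer_instance
    have hZle : Z ≤ Cfsg.generalizedFittingSubgroup H ⊓
        Subgroup.centralizer ((Cfsg.generalizedFittingSubgroup H : Subgroup H) : Set H) := hZ.le
    have hZc : ∀ x y : Z, x * y = y * x := by
      intro x y
      apply Subtype.ext
      exact (Subgroup.mem_centralizer_iff.mp (hZle x.2).2 (y : H) (hZle y.2).1).symm
    have hZnil : Group.IsNilpotent Z := by
      let _ : CommGroup Z := { (inferInstance : Group Z) with mul_comm := hZc }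
      infer_instance
    have hcop := Cfsg.Agent.H2.QsPRes.card_coprime_of_normal_nilpotent hO Z hZnil
    have hYZ : Y₀ ≤ Z := by
      rw [hZ]
      exact le_inf (h2.trans Cfsg.Agent.H2.centralizer_generalizedFittingSubgroup_le) h2
    exact eq_bot_of_isPGroup_of_coprime Y₀ hY₀p
      (Nat.Coprime.coprime_dvd_left (Subgroup.card_dvd_of_le hYZ) hcop)

end applications


theorem main2812 (H : Subgroup G) (hO : Cfsg.pCore p ↥H = ⊥) (Y : Subgroup G)
    (hY : IsPGroup p ↥Y) (L : Subgroup G)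
    (hLF : L ≤ (Cfsg.generalizedFittingSubgroup ↥H).map H.subtype)
    (hLsn : (L.subgroupOf H).IsSubnormal) (hYL : Y ≤ Subgroup.normalizer (L : Set G)) :
    ⁅L, Y⁆ ⊔ (L ⊓ Subgroup.centralizer (Y : Set G)) = L ∧ ⁅L, Y⁆ = ⁅⁅L, Y⁆, Y⁆ := by
  have hLH : L ≤ H := hLF.trans (Subgroup.map_subtype_le _)
  have hSF : L.subgroupOf H ≤ Cfsg.generalizedFittingSubgroup ↥H := by
    intro x hx
    obtain ⟨y, hy, hyx⟩ := Subgroup.mem_map.mp (hLF (Subgroup.mem_subgroupOf.mp hx))
    have : y = x := Subtype.ext hyx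
    rwa [← this]
  obtain ⟨h1, h2⟩ := subnormal_props hO (L.subgroupOf H) hLsn hSF
  have hF : Cfsg.generalizedFittingSubgroup ↥L = ⊤ := by
    rw [← Cfsg.Agent.H2.generalizedFittingSubgroup_map_equiv (Subgroup.subgroupOfEquivOfLe hLH),
      h1]
    exact Subgroup.map_top_of_surjective _ (Subgroup.subgroupOfEquivOfLe hLH).surjective
  have hOL : Cfsg.pCore p ↥L = ⊥ := by
    rw [← Cfsg.Agent.H2.pCore_map_equiv p (Subgroup.subgroupOfEquivOfLe hLH), h2,
      Subgroup.map_bot]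
  exact core L Y hY hYL hF hOL

end Cfsg.Agent.H2.FsAct
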