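import Mathlib
import Cfsg.Prelude.Def_Amalgam
import Cfsg.Agent.H1.FrattiniExtra
import Cfsg.Agent.H1.PResidual
import Cfsg.Agent.H1.Cores
import Cfsg.Agent.H2.Gaschutz

/-!
# `Φ(H) = Φ(O^p(H))` when `O_p(H) = 1`
-/

namespace Cfsg.Agent.H2.FratPRes

open scoped commutatorElement

variable {G : Type*} [Group G]

/-- image of a coatom containing the kernel under a surjection is a coatom -/
lemma isCoatom_map {Q : Type*} [Group Q] (ψ : G →* Q) (hψ : Function.Surjective ψ)
    {M : Subgroup G} (hM : IsCoatom M) (hk : ψ.ker ≤ M) : IsCoatom (M.map ψ) := by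
  have hcm : (M.map ψ).comap ψ = M := by
    rw [Subgroup.comap_map_eq, sup_eq_left.mpr hk]
  constructor
  · intro htop
    apply hM.1
    rw [← hcm, htop, Subgroup.comap_top]
  · intro L hL
    have h1 : M < L.comap ψ := by
      rw [← hcm]
      exact (Subgroup.comap_lt_comap_of_surjective hψ).mpr hL
    have h2 := hM.2 _ h1
    rw [← Subgroup.map_comap_eq_self_of_surjective hψ L, h2, ← MonoidHom.range_eq_map,
      MonoidHom.range_eq_top.mpr hψ]

/-- if the kernel lies in the Frattini subgroup, the preimage of the Frattini subgroup of the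
image is the Frattini subgroup -/
lemma comap_frattini_le {Q : Type*} [Group Q] (ψ : G →* Q) (hψ : Function.Surjective ψ)
    (hk : ψ.ker ≤ frattini G) : (frattini Q).comap ψ ≤ frattini G := by
  unfold frattini Order.radical
  rw [le_iInf₂_iff]
  intro M hM
  have hkM : ψ.ker ≤ M := hk.trans (frattini_le_coatom hM)
  have h1 : frattini Q ≤ M.map ψ := frattini_le_coatom (isCoatom_map ψ hψ hM hkM)
  have h2 : (frattini Q).comap ψ ≤ (M.map ψ).comap ψ := Subgroup.comap_mono h1
  rw [Subgroup.comap_map_eq, sup_eq_left.mpr hkM] at h2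
  exact h2

/-- a normal subgroup of `G` inside the Frattini subgroup of some subgroup `B` lies in `Φ(G)` -/
lemma le_frattini_of_le_frattini_subgroup [Finite G] (N B : Subgroup G) [N.Normal]
    (hN : N ≤ (frattini B).map B.subtype) : N ≤ frattini G := by
  by_contra hcon
  obtain ⟨M, hM, hNM⟩ := Cfsg.Agent.H1.exists_coatom_not_le_of_not_le_frattini N hcon
  have hsup : N ⊔ M = ⊤ := Cfsg.Agent.H1.sup_eq_top_of_coatom_not_le hM hNM
  have hNB : N ≤ B := hN.trans (Subgroup.map_subtype_le _)
  -- `(B ⊓ M).subgroupOf B ⊔ frattini B = ⊤`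
  have h1 : (M.subgroupOf B) ⊔ frattini B = ⊤ := by
    rw [eq_top_iff]
    intro b _
    have hb : (b : G) ∈ N ⊔ M := by rw [hsup]; trivial
    obtain ⟨n, hn, m, hm, hnm⟩ := Subgroup.mem_sup_of_normal_left.mp hb
    have hnB : n ∈ B := hNB hn
    have hmB : m ∈ B := by
      have : m = n⁻¹ * (b : G) := by rw [← hnm]; group
      rw [this]
      exact B.mul_mem (B.inv_mem hnB) b.2
    obtain ⟨n', hn', hn'n⟩ := Subgroup.mem_map.mp (hN hn)
    have e : b = n' * ⟨m, hmB⟩ := by
      apply Subtype.ext
      rw [Subgroup.coe_mul]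
      show (b : G) = B.subtype n' * m
      rw [hn'n, hnm]
    rw [e]
    apply Subgroup.mul_mem
    · exact (le_sup_right : frattini B ≤ _) hn'
    · apply (le_sup_left : M.subgroupOf B ≤ _)
      exact Subgroup.mem_subgroupOf.mpr hm
  have h2 : M.subgroupOf B = ⊤ := frattini_nongenerating h1
  have hBM : B ≤ M := Subgroup.subgroupOf_eq_top.mp h2
  exact hNM (hNB.trans hBM)

/-- `Φ(N) ≤ Φ(G)` for `N ⊴ G` -/
lemma map_frattini_le_of_normal [Finite G] (N : Subgroup G) [N.Normal] :
    (frattini N).map N.subtype ≤ frattini G := by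
  have : ((frattini N).map N.subtype).Normal := inferInstance
  exact le_frattini_of_le_frattini_subgroup _ N le_rfl


/-- hom form: a normal subgroup inside the image of the Frattini subgroup of `B` lies in `Φ(G)` -/
lemma le_frattini_of_le_map_frattini [Finite G] (N : Subgroup G) [N.Normal]
    {B : Type*} [Group B] [Finite B] (f : B →* G) (hN : N ≤ (frattini B).map f) :
    N ≤ frattini G := by
  by_contra hcon
  obtain ⟨M, hM, hNM⟩ := Cfsg.Agent.H1.exists_coatom_not_le_of_not_le_frattini N hcon
  have hsup : N ⊔ M = ⊤ := Cfsg.Agent.H1.sup_eq_top_of_coatom_not_le hM hNM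
  have h1 : (M.comap f) ⊔ frattini B = ⊤ := by
    rw [eq_top_iff]
    intro b _
    have hb : f b ∈ N ⊔ M := by rw [hsup]; trivial
    obtain ⟨n, hn, m, hm, hnm⟩ := Subgroup.mem_sup_of_normal_left.mp hb
    obtain ⟨n', hn', hn'n⟩ := Subgroup.mem_map.mp (hN hn)
    have e : b = n' * (n'⁻¹ * b) := by group
    rw [e]
    apply Subgroup.mul_mem
    · exact (le_sup_right : frattini B ≤ _) hn'
    · apply (le_sup_left : M.comap f ≤ _)
      rw [Subgroup.mem_comap, map_mul, map_inv, hn'n, ← hnm]
      simpa using hm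
  have h2 : M.comap f = ⊤ := frattini_nongenerating h1
  apply hNM
  intro n hn
  obtain ⟨n', -, hn'n⟩ := Subgroup.mem_map.mp (hN hn)
  have : n' ∈ M.comap f := by rw [h2]; trivial
  rw [← hn'n]
  exact this

/-- `Φ(A) ≤ Φ(K)` for `A ≤ K` with `A ⊴ G` -/
lemma map_frattini_le_map_frattini [Finite G] (A K : Subgroup G) [A.Normal] (hAK : A ≤ K) :
    (frattini A).map A.subtype ≤ (frattini K).map K.subtype := by
  have hn : ((frattini A).map A.subtype).Normal := inferInstance
  have hn' : (((frattini A).map A.subtype).subgroupOf K).Normal := inferInstance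
  have h1 : ((frattini A).map A.subtype).subgroupOf K ≤ frattini K := by
    apply le_frattini_of_le_map_frattini _ (Subgroup.inclusion hAK)
    intro x hx
    obtain ⟨y, hy, hyx⟩ := Subgroup.mem_map.mp (Subgroup.mem_subgroupOf.mp hx)
    refine Subgroup.mem_map.mpr ⟨y, hy, ?_⟩
    apply Subtype.ext
    rw [Subgroup.coe_inclusion]
    exact hyx
  intro z hz
  have hzK : z ∈ K := hAK (Subgroup.map_subtype_le _ hz)
  refine Subgroup.mem_map.mpr ⟨⟨z, hzK⟩, h1 ?_, rfl⟩
  exact Subgroup.mem_subgroupOf.mpr hz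

/-- an abelian normal subgroup meeting the Frattini subgroup trivially has a complement -/
lemma exists_complement_of_inf_frattini [Finite G] (A : Subgroup G) [A.Normal] [IsMulCommutative A]
    (h : A ⊓ frattini G = ⊥) : ∃ B : Subgroup G, A ⊓ B = ⊥ ∧ A ⊔ B = ⊤ := by
  obtain ⟨B, hB, hBmin⟩ := (wellFounded_lt (α := Subgroup G)).has_min
    {B : Subgroup G | A ⊔ B = ⊤} ⟨⊤, sup_top_eq A⟩
  have hB' : A ⊔ B = ⊤ := hB
  refine ⟨B, ?_, hB'⟩
  have hn : (A ⊓ B).Normal := Cfsg.Agent.H1.inf_normal_of_abelian_normal_sup_eq_top A B hB'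
  have hle : A ⊓ B ≤ (frattini B).map B.subtype := by
    by_contra hcon
    have hcon' : ¬ (A ⊓ B).subgroupOf B ≤ frattini B := by
      intro hle
      apply hcon
      intro x hx
      have hxB : x ∈ B := hx.2
      exact Subgroup.mem_map.mpr ⟨⟨x, hxB⟩, hle (Subgroup.mem_subgroupOf.mpr hx), rfl⟩
    obtain ⟨M', hM', hNM'⟩ := Cfsg.Agent.H1.exists_coatom_not_le_of_not_le_frattini _ hcon'
    have hsup : (A ⊓ B).subgroupOf B ⊔ M' = ⊤ :=
      Cfsg.Agent.H1.sup_eq_top_of_coatom_not_le hM' hNM'
    have hnB : ((A ⊓ B).subgroupOf B).Normal := inferInstance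
    have hMlt : M'.map B.subtype < B := by
      apply lt_of_le_of_ne (Subgroup.map_subtype_le _)
      intro heq
      apply hM'.1
      rw [eq_top_iff]
      intro b _
      have : (b : G) ∈ M'.map B.subtype := by rw [heq]; exact b.2
      obtain ⟨c, hc, hcb⟩ := Subgroup.mem_map.mp this
      have : c = b := Subtype.ext hcb
      rwa [← this]
    apply hBmin (M'.map B.subtype) _ hMlt
    show A ⊔ M'.map B.subtype = ⊤
    rw [eq_top_iff]
    intro g _
    have hg : g ∈ A ⊔ B := by rw [hB']; trivial
    obtain ⟨a, ha, b, hb, rfl⟩ := Subgroup.mem_sup_of_normal_left.mp hg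
    have hb' : (⟨b, hb⟩ : B) ∈ (A ⊓ B).subgroupOf B ⊔ M' := by rw [hsup]; trivial
    obtain ⟨c, hc, m, hm, hcm⟩ := Subgroup.mem_sup_of_normal_left.mp hb'
    have hcA : (c : G) ∈ A := (Subgroup.mem_subgroupOf.mp hc).1
    have e : a * b = (a * (c : G)) * (m : G) := by
      have : b = (c : G) * (m : G) := by
        have := congrArg (fun z : B => (z : G)) hcm
        simpa using this.symm
      rw [this, mul_assoc]
    rw [e]
    apply Subgroup.mul_mem
    · exact (le_sup_left : A ≤ _) (A.mul_mem ha hcA)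
    · exact (le_sup_right : M'.map B.subtype ≤ _) (Subgroup.mem_map.mpr ⟨m, hm, rfl⟩)
  have h2 : A ⊓ B ≤ frattini G := le_frattini_of_le_frattini_subgroup (A ⊓ B) B hle
  rw [eq_bot_iff, ← h]
  exact le_inf inf_le_left h2


/-- core step: a normal subgroup `A ≤ K` of order prime to `|G : K|`, inside `Φ(G)`, is trivial when
`Φ(K) = 1` -/
lemma eq_bot_of_le_frattini_of_coprime [Finite G] (K A : Subgroup G) [K.Normal] [A.Normal]
    (hAK : A ≤ K) (hcop : (Nat.card A).Coprime K.index) (hA : A ≤ frattini G)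
    (hK : frattini K = ⊥) : A = ⊥ := by
  -- `A` is nilpotent
  have hnil : Group.IsNilpotent A := by
    have h1 : Group.IsNilpotent (frattini G) := frattini_nilpotent
    apply Subgroup.isNilpotent_of_ker_le_center (Subgroup.inclusion hA)
    rw [(MonoidHom.ker_eq_bot_iff _).mpr (Subgroup.inclusion_injective hA)]
    exact bot_le
  -- `Φ(A) = 1`
  have hfA : frattini A = ⊥ := by
    have h1 := map_frattini_le_map_frattini A K hAK
    rw [hK, Subgroup.map_bot, le_bot_iff] at h1
    exact (Subgroup.map_eq_bot_iff_of_injective _ (Subgroup.subtype_injective A)).mp h1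
  -- `A` is abelian
  have hcomm : commutator A = ⊥ := by
    have h1 : commutator A ≤ frattini A := Cfsg.Agent.H1.commutator_le_frattini_of_nilpotent
    rw [hfA, le_bot_iff] at h1
    exact h1
  have hAc : IsMulCommutative A := by
    constructor; constructor
    intro x y
    have h1 : (⁅x, y⁆ : A) ∈ commutator A := by
      rw [commutator_def]
      exact Subgroup.commutator_mem_commutator (Subgroup.mem_top x) (Subgroup.mem_top y)
    rw [hcomm, Subgroup.mem_bot] at h1
    exact commutatorElement_eq_one_iff_mul_comm.mp h1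
  -- complement of `A` in `K`
  have hinf : A.subgroupOf K ⊓ frattini K = ⊥ := by rw [hK, inf_bot_eq]
  obtain ⟨B', hAB', hAB''⟩ := exists_complement_of_inf_frattini (A.subgroupOf K) hinf
  have h1 : A ⊓ B'.map K.subtype = ⊥ := by
    rw [eq_bot_iff]
    intro x hx
    obtain ⟨y, hy, hyx⟩ := Subgroup.mem_map.mp hx.2
    have hyA : y ∈ A.subgroupOf K := by
      rw [Subgroup.mem_subgroupOf]
      have : (y : G) = x := hyx
      rw [this]
      exact hx.1
    have : y ∈ A.subgroupOf K ⊓ B' := ⟨hyA, hy⟩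
    rw [hAB', Subgroup.mem_bot] at this
    rw [Subgroup.mem_bot, ← hyx, this, map_one]
  have h2 : A ⊔ B'.map K.subtype = K := by
    have e := congrArg (Subgroup.map K.subtype) hAB''
    rw [Subgroup.map_sup, Subgroup.subgroupOf_map_subtype, inf_eq_left.mpr hAK,
      ← MonoidHom.range_eq_map, Subgroup.range_subtype] at e
    exact e
  obtain ⟨C, hC⟩ := Cfsg.Agent.H2.Gasch.exists_complement A K hcop (B'.map K.subtype) h1 h2
  have h3 : C ⊔ frattini G = ⊤ := by
    rw [eq_top_iff, ← hC.sup_eq_top, sup_comm]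
    exact sup_le_sup_left hA C
  have h4 : C = ⊤ := frattini_nongenerating h3
  have h5 := hC.disjoint.eq_bot
  rw [h4, inf_top_eq] at h5
  exact h5

/-- `A ⊴ G`, `A ≤ K ⊴ G`, `(|A|, |G : K|) = 1`, `A ≤ Φ(G)` imply `A ≤ Φ(K)` -/
theorem le_map_frattini_of_coprime [Finite G] (K A : Subgroup G) [K.Normal] [A.Normal]
    (hAK : A ≤ K) (hcop : (Nat.card A).Coprime K.index) (hA : A ≤ frattini G) :
    A ≤ (frattini K).map K.subtype := by
  obtain ⟨F, hF⟩ : ∃ F : Subgroup G, F = (frattini K).map K.subtype := ⟨_, rfl⟩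
  have hFn : F.Normal := by rw [hF]; infer_instance
  have hπ : Function.Surjective (QuotientGroup.mk' F) := QuotientGroup.mk'_surjective F
  have hKn : (K.map (QuotientGroup.mk' F)).Normal := Subgroup.Normal.map inferInstance _ hπ
  have hAn : (A.map (QuotientGroup.mk' F)).Normal := Subgroup.Normal.map inferInstance _ hπ
  have hle : A.map (QuotientGroup.mk' F) ≤ K.map (QuotientGroup.mk' F) := Subgroup.map_mono hAK
  have hcop' : (Nat.card (A.map (QuotientGroup.mk' F))).Coprime
      (K.map (QuotientGroup.mk' F)).index :=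
    Nat.Coprime.coprime_dvd_left (Subgroup.card_map_dvd _ _)
      (Nat.Coprime.coprime_dvd_right (Subgroup.index_map_dvd K hπ) hcop)
  have hAf : A.map (QuotientGroup.mk' F) ≤ frattini (G ⧸ F) := by
    rw [Subgroup.map_le_iff_le_comap]
    exact hA.trans (frattini_le_comap_frattini_of_surjective hπ)
  have hKf : frattini (K.map (QuotientGroup.mk' F)) = ⊥ := by
    have hψ := MonoidHom.subgroupMap_surjective (QuotientGroup.mk' F) K
    have hker : ((QuotientGroup.mk' F).subgroupMap K).ker ≤ frattini K := by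
      intro x hx
      have h1 : (QuotientGroup.mk' F) (x : G) = 1 := by
        have := congrArg (fun z : K.map (QuotientGroup.mk' F) => (z : G ⧸ F))
          (MonoidHom.mem_ker.mp hx)
        simpa using this
      have h2 : (x : G) ∈ F := by
        rw [← QuotientGroup.ker_mk' F]
        exact MonoidHom.mem_ker.mpr h1
      rw [hF] at h2
      obtain ⟨y, hy, hyx⟩ := Subgroup.mem_map.mp h2
      have : y = x := Subtype.ext hyx
      rwa [← this]
    have h3 := comap_frattini_le _ hψ hker
    rw [eq_bot_iff]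
    intro z hz
    obtain ⟨x, rfl⟩ := hψ z
    have hx : x ∈ frattini K := h3 (Subgroup.mem_comap.mpr hz)
    have hxF : (x : G) ∈ F := by
      rw [hF]
      exact Subgroup.mem_map.mpr ⟨x, hx, rfl⟩
    rw [Subgroup.mem_bot]
    apply Subtype.ext
    show (QuotientGroup.mk' F) (x : G) = 1
    rw [← MonoidHom.mem_ker, QuotientGroup.ker_mk']
    exact hxF
  have h0 := eq_bot_of_le_frattini_of_coprime (K.map (QuotientGroup.mk' F))
    (A.map (QuotientGroup.mk' F)) hle hcop' hAf hKf
  rw [← hF]
  intro a ha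
  have h1 : (QuotientGroup.mk' F) a ∈ A.map (QuotientGroup.mk' F) := Subgroup.mem_map_of_mem _ ha
  rw [h0, Subgroup.mem_bot] at h1
  rw [← QuotientGroup.ker_mk' F]
  exact MonoidHom.mem_ker.mpr h1


/-- if `O_p(H) = 1` then `Φ(H)` is a `p'`-group -/
lemma card_frattini_coprime {H : Type*} [Group H] [Finite H] {p : ℕ} [Fact p.Prime]
    (hO : Cfsg.pCore p H = ⊥) : (Nat.card (frattini H)).Coprime p := by
  have hp : p.Prime := Fact.out
  have hnil : Group.IsNilpotent (frattini H) := frattini_nilpotent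
  obtain ⟨P⟩ : Nonempty (Sylow p (frattini H)) := inferInstance
  have hPn : (P : Subgroup (frattini H)).Normal := inferInstance
  have hPc : (P : Subgroup (frattini H)).Characteristic := Sylow.characteristic_of_normal P hPn
  have hn : ((P : Subgroup (frattini H)).map (frattini H).subtype).Normal := inferInstance
  have hpg : IsPGroup p ((P : Subgroup (frattini H)).map (frattini H).subtype) :=
    P.2.map _
  have hle := Cfsg.Agent.H1.le_pCore hn hpg
  rw [hO, le_bot_iff] at hle
  have hbot : (P : Subgroup (frattini H)) = ⊥ :=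
    (Subgroup.map_eq_bot_iff_of_injective _ (Subgroup.subtype_injective _)).mp hle
  have h1 := P.not_dvd_index
  rw [hbot, Subgroup.index_bot] at h1
  rw [Nat.coprime_comm]
  exact (Nat.Prime.coprime_iff_not_dvd hp).mpr h1

/-- central elements have order prime to `p` when `O_p(H) = 1` -/
lemma orderOf_coprime_of_mem_center {H : Type*} [Group H] [Finite H] {p : ℕ} [Fact p.Prime]
    (hO : Cfsg.pCore p H = ⊥) {z : H} (hz : z ∈ Subgroup.center H) : (orderOf z).Coprime p := by
  have hp : p.Prime := Fact.out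
  rw [Nat.coprime_comm, Nat.Prime.coprime_iff_not_dvd hp]
  intro hdvd
  have hpos : 0 < orderOf z := orderOf_pos z
  have hy : orderOf (z ^ (orderOf z / p)) = p := orderOf_pow_orderOf_div hpos.ne' hdvd
  have hyc : z ^ (orderOf z / p) ∈ Subgroup.center H := Subgroup.pow_mem _ hz _
  have hn : (Subgroup.zpowers (z ^ (orderOf z / p))).Normal := by
    constructor
    intro x hx g
    have hxc : x ∈ Subgroup.center H := by
      obtain ⟨k, rfl⟩ := Subgroup.mem_zpowers_iff.mp hx
      exact Subgroup.zpow_mem _ hyc k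
    have : g * x * g⁻¹ = x := by
      rw [Subgroup.mem_center_iff.mp hxc g, mul_inv_cancel_right]
    rw [this]
    exact hx
  have hpg : IsPGroup p (Subgroup.zpowers (z ^ (orderOf z / p))) := by
    apply IsPGroup.of_card (n := 1)
    rw [Nat.card_zpowers, hy, pow_one]
  have hle := Cfsg.Agent.H1.le_pCore hn hpg
  rw [hO, le_bot_iff, Subgroup.zpowers_eq_bot] at hle
  rw [hle, orderOf_one] at hy
  exact hp.one_lt.ne hy

theorem main {H : Type*} [Group H] [Finite H] {p : ℕ} [Fact p.Prime]
    (hO : Cfsg.pCore p H = ⊥) :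
    frattini H = (frattini ↥(Cfsg.pResidual p H)).map (Cfsg.pResidual p H).subtype ∧
      (Cfsg.pElementClosure p (⊤ : Subgroup H) = ⊤ → Subgroup.center H ≤ frattini H) := by
  have hp : p.Prime := Fact.out
  have hcopA := card_frattini_coprime hO
  constructor
  · apply le_antisymm
    · have hAn : (frattini H).Normal := inferInstance
      apply le_map_frattini_of_coprime (Cfsg.pResidual p H) (frattini H)
      · intro x hx
        apply Cfsg.Agent.H1.mem_pResidual_of_coprime
        have h1 : orderOf (⟨x, hx⟩ : frattini H) ∣ Nat.card (frattini H) := orderOf_dvd_natCard _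
        rw [Subgroup.orderOf_mk] at h1
        exact Nat.Coprime.coprime_dvd_left h1 hcopA
      · obtain ⟨k, hk⟩ := IsPGroup.iff_card.mp
          (Cfsg.Agent.H1.isPGroup_quotient_pResidual (G := H) p)
        have h3 : (Cfsg.pResidual p H).index = p ^ k := hk
        rw [h3]
        exact Nat.Coprime.pow_right k hcopA
      · exact le_rfl
    · exact map_frattini_le_of_normal _
  · intro hgen
    by_contra hcon
    obtain ⟨M, hM, hZM⟩ := Cfsg.Agent.H1.exists_coatom_not_le_of_not_le_frattini _ hcon
    have hsup : Subgroup.center H ⊔ M = ⊤ := Cfsg.Agent.H1.sup_eq_top_of_coatom_not_le hM hZM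
    have hdecomp : ∀ g : H, ∃ z ∈ Subgroup.center H, ∃ m ∈ M, z * m = g := by
      intro g
      have : g ∈ Subgroup.center H ⊔ M := by rw [hsup]; trivial
      exact Subgroup.mem_sup_of_normal_left.mp this
    have hMn : M.Normal := by
      constructor
      intro x hx g
      obtain ⟨z, hz, m, hm, rfl⟩ := hdecomp g
      have e : z * m * x * (z * m)⁻¹ = m * x * m⁻¹ := by
        have h1 := Subgroup.mem_center_iff.mp hz (m * x * m⁻¹)
        calc z * m * x * (z * m)⁻¹ = z * (m * x * m⁻¹) * z⁻¹ := by group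
          _ = (m * x * m⁻¹) * z * z⁻¹ := by rw [h1]
          _ = m * x * m⁻¹ := by group
      rw [e]
      exact M.mul_mem (M.mul_mem hm hx) (M.inv_mem hm)
    apply hM.1
    rw [eq_top_iff, ← hgen]
    unfold Cfsg.pElementClosure
    rw [Subgroup.closure_le]
    rintro x ⟨-, k, hk⟩
    obtain ⟨z, hz, m, hm, rfl⟩ := hdecomp x
    have hzc := orderOf_coprime_of_mem_center hO hz
    -- in `H ⧸ M` the images of `z * m` and `z` agree
    have e1 : (QuotientGroup.mk' M) (z * m) = (QuotientGroup.mk' M) z := by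
      have hm1 : (QuotientGroup.mk' M) m = 1 := (QuotientGroup.eq_one_iff m).mpr hm
      rw [map_mul, hm1, mul_one]
    have h1 : orderOf ((QuotientGroup.mk' M) z) ∣ orderOf z := orderOf_map_dvd _ z
    have h2 : orderOf ((QuotientGroup.mk' M) z) ∣ p ^ k := by
      rw [← e1, ← hk]
      exact orderOf_map_dvd _ _
    have h3 : orderOf ((QuotientGroup.mk' M) z) ∣ Nat.gcd (orderOf z) (p ^ k) :=
      Nat.dvd_gcd h1 h2
    rw [Nat.Coprime.pow_right k hzc, Nat.dvd_one, orderOf_eq_one_iff] at h3
    have hzM : z ∈ M := (QuotientGroup.eq_one_iff z).mp h3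
    exact M.mul_mem hzM hm

end Cfsg.Agent.H2.FratPRes
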