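import Mathlib
import Cfsg.Agent.H2.MaxClassTwo
import Cfsg.Agent.H2.ConjMap

/-!
# Group theory for the field-of-values criterion `[P : P'] = 4`  (author: helper2)

Normalizer of a cyclic subgroup of index two in a Sylow 2-subgroup.
-/

set_option autoImplicit false

namespace Cfsg.Agent.H2.FV

universe u

section general

variable {G : Type u} [Group G] [Finite G]

/-- for finite groups, `x H x⁻¹ ⊆ H` suffices for `x ∈ N(H)` -/
theorem mem_normalizer_of_conj_mem (H : Subgroup G) (x : G) (h : ∀ k ∈ H, x * k * x⁻¹ ∈ H) :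
    x ∈ Subgroup.normalizer (H : Set G) := by
  rw [Subgroup.mem_normalizer_iff_map_conj_eq]
  apply Subgroup.eq_of_le_of_card_ge
  · rintro _ ⟨k, hk, rfl⟩
    exact h k hk
  · rw [Subgroup.card_map_of_injective (MulAut.conj x).injective]

omit [Finite G] in
theorem conj_zpowers_mem (g x : G) (h : x * g * x⁻¹ ∈ Subgroup.zpowers g) :
    ∀ k ∈ Subgroup.zpowers g, x * k * x⁻¹ ∈ Subgroup.zpowers g := by
  intro k hk
  obtain ⟨i, rfl⟩ := Subgroup.mem_zpowers_iff.mp hk
  have : x * g ^ i * x⁻¹ = (x * g * x⁻¹) ^ i := by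
    rw [conj_zpow]
  rw [this]
  exact Subgroup.zpow_mem _ h i

omit [Finite G] in
theorem mem_centralizer_zpowers_iff (g y : G) :
    y ∈ Subgroup.centralizer (Subgroup.zpowers g : Set G) ↔ y * g * y⁻¹ = g := by
  rw [Subgroup.mem_centralizer_iff]
  constructor
  · intro h
    have := h g (Subgroup.mem_zpowers g)
    rw [mul_inv_eq_iff_eq_mul]; exact this.symm
  · intro h k hk
    obtain ⟨i, rfl⟩ := Subgroup.mem_zpowers_iff.mp hk
    have hc : Commute y g := by
      rw [mul_inv_eq_iff_eq_mul] at h; exact h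
    exact (hc.zpow_right i).eq.symm

theorem not_two_pow_succ_dvd (P : Sylow 2 G) (n : ℕ) (hP : Nat.card P = 2 ^ n) :
    ¬ 2 ^ (n + 1) ∣ Nat.card G := by
  intro hd
  have h6 := (P : Subgroup G).card_mul_index
  rw [hP] at h6
  rw [← h6, pow_succ] at hd
  exact P.not_dvd_index ((Nat.mul_dvd_mul_iff_left (by positivity)).mp hd)

theorem relIndex_dvd_two (P : Sylow 2 G) (n : ℕ) (hn : 2 ≤ n) (hP : Nat.card P = 2 ^ n) (g : G)
    (hg : orderOf g = 2 ^ (n - 1)) :
    (Subgroup.centralizer (Subgroup.zpowers g : Set G)).relIndex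
      (Subgroup.normalizer (Subgroup.zpowers g : Set G)) ∣ 2 := by
  classical
  set Z := Subgroup.zpowers g with hZ
  set N := Subgroup.normalizer (Z : Set G) with hN
  set C := Subgroup.centralizer (Z : Set G) with hC
  have hCN : C ≤ N := Subgroup.centralizer_le_normalizer _
  have key : C.relIndex N ∣ Nat.card (MulAut Z) := by
    have := Subgroup.card_dvd_of_injective _
      (QuotientGroup.kerLift_injective Z.normalizerMonoidHom)
    rwa [Subgroup.normalizerMonoidHom_ker, ← Subgroup.index, ← Subgroup.relIndex] at this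
  have hcardZ : Nat.card Z = 2 ^ (n - 1) := by rw [hZ, Nat.card_zpowers, hg]
  have hcardAut : Nat.card (MulAut Z) = 2 ^ (n - 2) := by
    rw [IsCyclic.card_mulAut, hcardZ, Nat.totient_prime_pow Nat.prime_two (by omega)]
    have : n - 1 - 1 = n - 2 := by omega
    rw [this]; simp
  rw [hcardAut] at key
  obtain ⟨i, hi, hi2⟩ := (Nat.dvd_prime_pow Nat.prime_two).mp key
  have h1 : Nat.card (C.subgroupOf N) * C.relIndex N = Nat.card N :=
    (C.subgroupOf N).card_mul_index
  have h2 : Nat.card (C.subgroupOf N) = Nat.card C :=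
    Nat.card_congr (Subgroup.subgroupOfEquivOfLe hCN).toEquiv
  have h3 : 2 ^ (n - 1) ∣ Nat.card C := by
    rw [← hcardZ]
    apply Subgroup.card_dvd_of_le
    intro y hy
    obtain ⟨j, rfl⟩ := Subgroup.mem_zpowers_iff.mp hy
    rw [hC, hZ, mem_centralizer_zpowers_iff]
    have hc : Commute (g ^ j) g := (Commute.refl g).zpow_left j
    rw [hc.eq, mul_inv_cancel_right]
  have h4 : Nat.card N ∣ Nat.card G := Subgroup.card_subgroup_dvd_card N
  have h5 := not_two_pow_succ_dvd P n hP
  have hi1 : i ≤ 1 := by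
    by_contra hcon
    push Not at hcon
    apply h5
    refine Dvd.dvd.trans ?_ h4
    rw [← h1, h2, hi2]
    have : 2 ^ (n + 1) = 2 ^ (n - 1) * 2 ^ 2 := by rw [← pow_add]; congr 1; omega
    rw [this]
    exact Nat.mul_dvd_mul h3 (pow_dvd_pow 2 hcon)
  rw [hi2]
  interval_cases i <;> simp

/-- the normalizer of `⟨g⟩` induces only the two automorphisms coming from `P`. -/
theorem conj_eq_or (P : Sylow 2 G) (n : ℕ) (hn : 2 ≤ n) (hP : Nat.card P = 2 ^ n) (g : G)
    (hg : orderOf g = 2 ^ (n - 1)) (b : G) (hbZ : b * g * b⁻¹ ∈ Subgroup.zpowers g)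
    (hb : b * g * b⁻¹ ≠ g) (x : G) (hxZ : x * g * x⁻¹ ∈ Subgroup.zpowers g) :
    x * g * x⁻¹ = g ∨ x * g * x⁻¹ = b * g * b⁻¹ := by
  set Z := Subgroup.zpowers g with hZ
  set N := Subgroup.normalizer (Z : Set G) with hN
  set C := Subgroup.centralizer (Z : Set G) with hC
  have hbN : b ∈ N := mem_normalizer_of_conj_mem Z b (conj_zpowers_mem g b hbZ)
  have hxN : x ∈ N := mem_normalizer_of_conj_mem Z x (conj_zpowers_mem g x hxZ)
  have hmemC : ∀ y : G, y ∈ C ↔ y * g * y⁻¹ = g := fun y => mem_centralizer_zpowers_iff g y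
  have hbC : b ∉ C := fun h => hb ((hmemC b).1 h)
  have h2 := relIndex_dvd_two P n hn hP g hg
  have hrel : C.relIndex N = 2 := by
    rcases (Nat.dvd_prime Nat.prime_two).mp h2 with h | h
    · exfalso
      rw [Subgroup.relIndex_eq_one] at h
      exact hbC (h hbN)
    · exact h
  by_cases hxC : x ∈ C
  · left; exact (hmemC x).1 hxC
  · right
    have hidx : (C.subgroupOf N).index = 2 := hrel
    have h3 := Subgroup.mul_mem_iff_of_index_two hidx (a := (⟨b, hbN⟩ : N)⁻¹) (b := ⟨x, hxN⟩)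
    have h4 : (⟨b, hbN⟩ : N)⁻¹ * ⟨x, hxN⟩ ∈ C.subgroupOf N := by
      rw [h3, inv_mem_iff]
      simp only [Subgroup.mem_subgroupOf]
      exact ⟨fun h => absurd h hbC, fun h => absurd h hxC⟩
    rw [Subgroup.mem_subgroupOf] at h4
    have h5 := (hmemC _).1 h4
    simp only [Subgroup.coe_mul, Subgroup.coe_inv] at h5
    calc x * g * x⁻¹ = b * ((b⁻¹ * x) * g * (b⁻¹ * x)⁻¹) * b⁻¹ := by group
      _ = b * g * b⁻¹ := by rw [h5]

end general

end Cfsg.Agent.H2.FV
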