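import Mathlib
import Cfsg.Agent.H2.FV1

/-!
# Group theory for the field-of-values criterion `[P : P'] = 4`, part 2  (author: helper2)

The two implications, stated with the "Galois set" `{k : g ^ k ~ g}`.
-/

set_option autoImplicit false

namespace Cfsg.Agent.H2.FV

open scoped commutatorElement

universe u

section zeta

theorem zeta_pow_half (n : ℕ) (hn : 2 ≤ n) (ζ : ℂ) (hζ : IsPrimitiveRoot ζ (2 ^ (n - 1))) :
    ζ ^ (2 ^ (n - 2)) = -1 := by
  have h1 : IsPrimitiveRoot (ζ ^ (2 ^ (n - 2))) (2 ^ (n - 1) / 2 ^ (n - 2)) :=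
    hζ.pow_of_dvd (by positivity) (pow_dvd_pow 2 (by omega))
  have h2 : 2 ^ (n - 1) / 2 ^ (n - 2) = 2 := by
    rw [Nat.pow_div (by omega) (by norm_num)]
    have : n - 1 - (n - 2) = 1 := by omega
    rw [this, pow_one]
  rw [h2] at h1
  exact h1.eq_neg_one_of_two_right

theorem zeta_pow_eq_iff (ζ : ℂ) (m : ℕ) (hm : m ≠ 0) (hζ : IsPrimitiveRoot ζ m) (i j : ℕ) :
    ζ ^ i = ζ ^ j ↔ i ≡ j [MOD m] := by
  obtain ⟨u, rfl⟩ := hζ.isUnit hm
  have hu : IsPrimitiveRoot u m := IsPrimitiveRoot.coe_units_iff.mp hζ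
  rw [hu.eq_orderOf, ← pow_eq_pow_iff_modEq (x := u), ← Units.val_pow_eq_pow_val,
    ← Units.val_pow_eq_pow_val, Units.val_inj]

end zeta

section eight

/-- a non-abelian group of order eight has commutator subgroup of index four -/
theorem index_commutator_of_card_eight {S : Type*} [Group S] [Finite S] (hcard : Nat.card S = 8)
    (hnc : ∃ x y : S, x * y ≠ y * x) : (commutator S).index = 4 := by
  have : Fact (Nat.Prime 2) := ⟨Nat.prime_two⟩
  have hS : IsPGroup 2 S := IsPGroup.of_card (n := 3) (by rw [hcard]; norm_num)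
  have : Nontrivial S := by
    obtain ⟨x, y, hxy⟩ := hnc
    exact ⟨⟨x * y, y * x, hxy⟩⟩
  have hZnt : Nontrivial (Subgroup.center S) := hS.center_nontrivial
  have hZ1 : 1 < Nat.card (Subgroup.center S) := Finite.one_lt_card
  have hZidx := (Subgroup.center S).card_mul_index
  rw [hcard] at hZidx
  have hnc' : ¬ ∀ a b : S, a * b = b * a := by
    intro h
    obtain ⟨x, y, hxy⟩ := hnc
    exact hxy (h x y)
  have hile : (Subgroup.center S).index ≤ 4 := by
    by_contra hcon
    push Not at hcon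
    nlinarith
  have hipos : 0 < (Subgroup.center S).index := by
    rcases Nat.eq_zero_or_pos (Subgroup.center S).index with h | h
    · rw [h] at hZidx; omega
    · exact h
  have hi4 : (Subgroup.center S).index = 4 := by
    set i := (Subgroup.center S).index with hi
    interval_cases i
    · exfalso
      apply hnc'
      have htop : Subgroup.center S = ⊤ := Subgroup.index_eq_one.mp hi.symm
      intro a b
      have hb : b ∈ Subgroup.center S := by rw [htop]; trivial
      exact Subgroup.mem_center_iff.mp hb a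
    · exfalso
      apply hnc'
      have hq : Nat.card (S ⧸ Subgroup.center S) = 2 := by
        rw [← Subgroup.index_eq_card]; exact hi.symm
      have : IsCyclic (S ⧸ Subgroup.center S) := isCyclic_of_prime_card hq
      exact commutative_of_cyclic_center_quotient (QuotientGroup.mk' (Subgroup.center S))
        (by rw [QuotientGroup.ker_mk'])
    · exfalso; omega
    · rfl
  have hZ2 : Nat.card (Subgroup.center S) = 2 := by rw [hi4] at hZidx; omega
  have hcomm : commutator S ≤ Subgroup.center S := by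
    rw [commutator_def, Subgroup.commutator_le]
    intro x _ y _
    have hq : Nat.card (S ⧸ Subgroup.center S) = 2 ^ 2 := by
      rw [← Subgroup.index_eq_card, hi4]; norm_num
    have hc := IsPGroup.commutative_of_card_eq_prime_sq hq
      (QuotientGroup.mk' (Subgroup.center S) x) (QuotientGroup.mk' (Subgroup.center S) y)
    have h1 : QuotientGroup.mk' (Subgroup.center S) ⁅x, y⁆ = 1 := by
      rw [map_commutatorElement]
      exact commutatorElement_eq_one_iff_commute.2 hc
    exact (QuotientGroup.eq_one_iff _).1 h1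
  have hcd : Nat.card (commutator S) ∣ 2 := hZ2 ▸ Subgroup.card_dvd_of_le hcomm
  have hc2 : Nat.card (commutator S) = 2 := by
    rcases (Nat.dvd_prime Nat.prime_two).mp hcd with h | h
    · exfalso
      apply hnc'
      have hbot : commutator S = ⊥ := Subgroup.card_eq_one.mp h
      intro a b
      have : ⁅a, b⁆ ∈ commutator S := by
        rw [commutator_def]
        exact Subgroup.commutator_mem_commutator (Subgroup.mem_top a) (Subgroup.mem_top b)
      rw [hbot, Subgroup.mem_bot] at this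
      exact commutatorElement_eq_one_iff_commute.1 this
    · exact h
  have := (commutator S).card_mul_index
  rw [hc2, hcard] at this
  omega

end eight

section main

variable {G : Type u} [Group G] [Finite G]

theorem even_class (P : Sylow 2 G) (n : ℕ) (hn : 3 ≤ n) (hP : Nat.card P = 2 ^ n)
    (hidx : (commutator ↥P).index = 4) (g : G) (hg : orderOf g = 2 ^ (n - 1)) :
    2 ∣ (Subgroup.centralizer ({g} : Set G)).index := by
  by_contra hnd
  have : Fact (Nat.Prime 2) := ⟨Nat.prime_two⟩
  set L := Subgroup.centralizer ({g} : Set G) with hL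
  obtain ⟨S₁⟩ : Nonempty (Sylow 2 ↥L) := inferInstance
  have hpg : IsPGroup 2 ↥((S₁ : Subgroup ↥L).map L.subtype) := S₁.isPGroup'.map L.subtype
  have hidx' : ¬ 2 ∣ ((S₁ : Subgroup ↥L).map L.subtype).index := by
    rw [Subgroup.index_map_subtype]
    intro hd
    rcases Nat.prime_two.dvd_mul.1 hd with h1 | h1
    · exact S₁.not_dvd_index h1
    · exact hnd h1
  set S : Sylow 2 G := hpg.toSylow hidx' with hS
  have hSL : (S : Subgroup G) ≤ L := Subgroup.map_subtype_le _
  obtain ⟨x, hx⟩ := MulAction.exists_smul_eq G S P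
  set g' := x * g * x⁻¹ with hg'
  have hcomm : ∀ y ∈ (P : Subgroup G), y * g' = g' * y := by
    intro y hy
    rw [← hx, Cfsg.Agent.H2.mem_sylow_smul_iff] at hy
    have h1 := hSL hy
    rw [hL, Subgroup.mem_centralizer_iff] at h1
    have h2 := h1 g (Set.mem_singleton g)
    rw [hg']
    calc y * (x * g * x⁻¹) = x * ((x⁻¹ * y * x) * g) * x⁻¹ := by group
      _ = x * (g * (x⁻¹ * y * x)) * x⁻¹ := by rw [h2]
      _ = x * g * x⁻¹ * y := by group
  have hg'ord : orderOf g' = 2 ^ (n - 1) := by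
    rw [← hg]
    exact (MulAut.conj x).orderOf_eq g
  have hg'P : g' ∈ (P : Subgroup G) := by
    have hpz : IsPGroup 2 (Subgroup.zpowers g') :=
      IsPGroup.of_card (n := n - 1) (by rw [Nat.card_zpowers, hg'ord])
    have h1 := hpz.inf_normalizer_sylow P
    have h2 : g' ∈ Subgroup.zpowers g' ⊓ Subgroup.normalizer (P : Set G) := by
      refine ⟨Subgroup.mem_zpowers g', ?_⟩
      have h3 : g' ∈ Subgroup.normalizer ((P : Subgroup G) : Set G) := by
        apply mem_normalizer_of_conj_mem
        intro k hk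
        rw [← hcomm k hk, mul_inv_cancel_right]
        exact hk
      exact h3
    rw [h1] at h2
    exact h2.2
  set g'' : ↥P := ⟨g', hg'P⟩ with hg''
  have hg''ord : orderOf g'' = 2 ^ (n - 1) := by
    rw [← hg'ord]
    exact Subgroup.orderOf_mk g' hg'P
  have hA2 := MaxClassTwo.index_zpowers n hn hP g'' hg''ord
  obtain ⟨b, hb⟩ : ∃ b : ↥P, b ∉ Subgroup.zpowers g'' := by
    by_contra hcon
    push Not at hcon
    have : Subgroup.zpowers g'' = ⊤ := (Subgroup.eq_top_iff' _).2 hcon
    rw [this, Subgroup.index_top] at hA2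
    omega
  apply MaxClassTwo.not_comm n hn hP hidx g'' hg''ord b hb
  have h3 : b * g'' = g'' * b := Subtype.ext (hcomm (b : G) b.2)
  rw [h3, mul_inv_cancel_right]

theorem forward_core (P : Sylow 2 G) (n : ℕ) (hn : 3 ≤ n) (hP : Nat.card P = 2 ^ n) (ζ : ℂ)
    (hζ : IsPrimitiveRoot ζ (2 ^ (n - 1))) (g b : G) (hg : orderOf g = 2 ^ (n - 1))
    (j : ℕ) (hbj : g * (b * g * b⁻¹) = g ^ j) (hb : b * g * b⁻¹ ≠ g) (k : ℕ) :
    IsConj (g ^ k) g ↔ (ζ ^ k = ζ ∨ ζ ^ (k + 1) = ζ ^ j) := by
  have hbZ : b * g * b⁻¹ ∈ Subgroup.zpowers g := by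
    have : b * g * b⁻¹ = g⁻¹ * g ^ j := eq_inv_mul_of_mul_eq hbj
    rw [this]
    exact Subgroup.mul_mem _ (Subgroup.inv_mem _ (Subgroup.mem_zpowers g))
      (Subgroup.pow_mem _ (Subgroup.mem_zpowers g) j)
  have hgpow : ∀ i l : ℕ, g ^ i = g ^ l ↔ i ≡ l [MOD 2 ^ (n - 1)] := by
    intro i l
    rw [← hg]; exact pow_eq_pow_iff_modEq
  have hzpow := zeta_pow_eq_iff ζ _ (by positivity) hζ
  constructor
  · intro h
    obtain ⟨c, hc⟩ := isConj_iff.mp h
    have hx : c⁻¹ * g * c⁻¹⁻¹ = g ^ k := by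
      calc c⁻¹ * g * c⁻¹⁻¹ = c⁻¹ * (c * g ^ k * c⁻¹) * c⁻¹⁻¹ := by rw [hc]
        _ = g ^ k := by group
    have hxZ : c⁻¹ * g * c⁻¹⁻¹ ∈ Subgroup.zpowers g := by
      rw [hx]; exact Subgroup.pow_mem _ (Subgroup.mem_zpowers g) k
    rcases conj_eq_or P n (by omega) hP g hg b hbZ hb c⁻¹ hxZ with h1 | h1
    · left
      rw [hx] at h1
      have h2 : g ^ k = g ^ 1 := by rw [h1, pow_one]
      have h3 := (hgpow k 1).1 h2
      have h4 := (hzpow k 1).2 h3
      rwa [pow_one] at h4
    · right
      rw [hx] at h1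
      have h2 : g ^ (k + 1) = g ^ j := by
        rw [pow_succ', h1, hbj]
      exact (hzpow _ _).2 ((hgpow _ _).1 h2)
  · rintro (h | h)
    · have h1 : ζ ^ k = ζ ^ 1 := by rw [h, pow_one]
      have h2 := (hgpow k 1).2 ((hzpow k 1).1 h1)
      rw [h2, pow_one]
    · have h2 := (hgpow _ _).2 ((hzpow _ _).1 h)
      rw [pow_succ', ← hbj] at h2
      have h3 : g ^ k = b * g * b⁻¹ := mul_left_cancel h2
      rw [h3]
      exact (isConj_iff.2 ⟨b, rfl⟩).symm

/-- (⇒): if `[P : P'] = 4` there is `g ∈ P` of even class size whose Galois set is `T₊` or `T₋`. -/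
theorem forward (P : Sylow 2 G) (n : ℕ) (hn : 3 ≤ n) (hP : Nat.card P = 2 ^ n) (ζ : ℂ)
    (hζ : IsPrimitiveRoot ζ (2 ^ (n - 1))) (hidx : (commutator ↥P).index = 4) :
    ∃ g : G, g ∈ (P : Subgroup G) ∧ 2 ∣ (Subgroup.centralizer ({g} : Set G)).index ∧
      ((∀ k : ℕ, Odd k → (IsConj (g ^ k) g ↔ (ζ ^ k = ζ ∨ ζ ^ k = ζ⁻¹))) ∨
       (∀ k : ℕ, Odd k → (IsConj (g ^ k) g ↔ (ζ ^ k = ζ ∨ ζ ^ k = -ζ⁻¹)))) := by
  obtain ⟨a, ha⟩ := Taussky.exists_orderOf n hn ↥P hP hidx
  have hA2 := MaxClassTwo.index_zpowers n hn hP a ha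
  obtain ⟨b, hb⟩ : ∃ b : ↥P, b ∉ Subgroup.zpowers a := by
    by_contra hcon
    push Not at hcon
    have : Subgroup.zpowers a = ⊤ := (Subgroup.eq_top_iff' _).2 hcon
    rw [this, Subgroup.index_top] at hA2
    omega
  have hinv := MaxClassTwo.inv_or n hn hP hidx a ha b hb hA2
  have hnc := MaxClassTwo.not_comm n hn hP hidx a ha b hb
  have hgord : orderOf (a : G) = 2 ^ (n - 1) := by rw [Subgroup.orderOf_coe, ha]
  have hncG : (b : G) * (a : G) * (b : G)⁻¹ ≠ (a : G) := by
    intro h
    apply hnc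
    exact Subtype.ext (by simpa using h)
  have hζ0 : ζ ≠ 0 := hζ.ne_zero (by positivity)
  refine ⟨(a : G), a.2, even_class P n hn hP hidx (a : G) hgord, ?_⟩
  rcases hinv with h | h
  · left
    have hbj : (a : G) * ((b : G) * (a : G) * (b : G)⁻¹) = (a : G) ^ 0 := by
      rw [pow_zero]
      have := congrArg Subtype.val h
      simpa using this
    intro k _
    rw [forward_core P n hn hP ζ hζ (a : G) (b : G) hgord 0 hbj hncG k, pow_zero, pow_succ]
    constructor
    · rintro (h1 | h1)
      · left; exact h1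
      · right; exact eq_inv_of_mul_eq_one_left h1
    · rintro (h1 | h1)
      · left; exact h1
      · right; rw [h1, inv_mul_cancel₀ hζ0]
  · right
    have hbj : (a : G) * ((b : G) * (a : G) * (b : G)⁻¹) = (a : G) ^ (2 ^ (n - 2)) := by
      have := congrArg Subtype.val h
      simpa using this
    intro k _
    rw [forward_core P n hn hP ζ hζ (a : G) (b : G) hgord _ hbj hncG k,
      zeta_pow_half n (by omega) ζ hζ, pow_succ]
    constructor
    · rintro (h1 | h1)
      · left; exact h1
      · right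
        rw [eq_neg_iff_add_eq_zero]
        field_simp
        linear_combination h1
    · rintro (h1 | h1)
      · left; exact h1
      · right; rw [h1, neg_mul, inv_mul_cancel₀ hζ0]

end main

end Cfsg.Agent.H2.FV
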