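import Mathlib
import Cfsg.Agent.H2.FV2

/-!
# Group theory for the field-of-values criterion `[P : P'] = 4`, part 3  (author: helper2)

The converse implication.
-/

set_option autoImplicit false

namespace Cfsg.Agent.H2.FV

universe u

variable {G : Type u} [Group G] [Finite G]

/-- (⇐): an element `g ∈ P` of even class size whose Galois set lies in `T₊ ∪ T₋` forces
`[P : P'] = 4`. -/
theorem backward (P : Sylow 2 G) (n : ℕ) (hn : 3 ≤ n) (hP : Nat.card P = 2 ^ n) (ζ : ℂ)
    (hζ : IsPrimitiveRoot ζ (2 ^ (n - 1))) (g : G) (hgP : g ∈ (P : Subgroup G))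
    (heven : 2 ∣ (Subgroup.centralizer ({g} : Set G)).index)
    (hS : ∀ k : ℕ, Odd k → IsConj (g ^ k) g → (ζ ^ k = ζ ∨ ζ ^ k = ζ⁻¹ ∨ ζ ^ k = -ζ⁻¹)) :
    (commutator ↥P).index = 4 := by
  have : Fact (Nat.Prime 2) := ⟨Nat.prime_two⟩
  obtain ⟨y, hyP, hy⟩ : ∃ y ∈ (P : Subgroup G), y * g ≠ g * y := by
    by_contra hcon
    push Not at hcon
    have hle : (P : Subgroup G) ≤ Subgroup.centralizer ({g} : Set G) := by
      intro y hy
      rw [Subgroup.mem_centralizer_iff]
      intro h hh
      rw [Set.mem_singleton_iff] at hh; subst hh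
      exact (hcon y hy).symm
    exact P.not_dvd_index (heven.trans (Subgroup.index_dvd_of_le hle))
  set g' : ↥P := ⟨g, hgP⟩ with hg'
  set y' : ↥P := ⟨y, hyP⟩ with hy'
  have hy'g' : y' * g' ≠ g' * y' := by
    intro h; apply hy; exact congrArg Subtype.val h
  rcases Nat.lt_or_ge n 4 with h4 | h4
  · have hn3 : n = 3 := by omega
    subst hn3
    exact index_commutator_of_card_eight (hP.trans (by norm_num)) ⟨y', g', hy'g'⟩
  · have hord_dvd : orderOf g' ∣ 2 ^ n := hP ▸ orderOf_dvd_natCard g'
    obtain ⟨e, he, hord⟩ := (Nat.dvd_prime_pow Nat.prime_two).mp hord_dvd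
    have hzeta_half := zeta_pow_half n (by omega) ζ hζ
    have hζ0 : ζ ≠ 0 := hζ.ne_zero (by positivity)
    have hgg' : orderOf g = orderOf g' := (Subgroup.orderOf_mk g hgP).symm
    have h8 : 2 ^ 3 ≤ 2 ^ (n - 1) := Nat.pow_le_pow_right (by norm_num) (by omega)
    have he1 : e = n - 1 := by
      rcases Nat.lt_trichotomy e (n - 1) with hlt | heq | hgt
      · exfalso
        have h1 : g ^ (2 ^ (n - 2)) = 1 := by
          have : orderOf g ∣ 2 ^ (n - 2) := by
            rw [hgg', hord]; exact pow_dvd_pow 2 (by omega)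
          exact orderOf_dvd_iff_pow_eq_one.mp this
        have h2 : g ^ (1 + 2 ^ (n - 2)) = g := by rw [pow_add, pow_one, h1, mul_one]
        have hodd : Odd (1 + 2 ^ (n - 2)) := by
          have : Even (2 ^ (n - 2)) := (Nat.even_pow.2 ⟨even_two, by omega⟩)
          exact Even.one_add this
        have h3 := hS _ hodd (by rw [h2])
        have h4' : ζ ^ (1 + 2 ^ (n - 2)) = -ζ := by rw [pow_add, pow_one, hzeta_half]; ring
        rw [h4'] at h3
        rcases h3 with h3 | h3 | h3
        · have : ζ = 0 := by linear_combination (-1/2 : ℂ) * h3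
          exact hζ0 this
        · have h5 : ζ ^ 4 = 1 := by
            have h6 : ζ * ζ = -1 := by
              have := congrArg (fun t => t * ζ) h3
              simp only [inv_mul_cancel₀ hζ0] at this
              linear_combination -this
            calc ζ ^ 4 = (ζ * ζ) ^ 2 := by ring
              _ = 1 := by rw [h6]; norm_num
          have h6 := hζ.dvd_of_pow_eq_one 4 h5
          have := Nat.le_of_dvd (by norm_num) h6
          omega
        · have h5 : ζ ^ 2 = 1 := by
            have h6 : ζ = ζ⁻¹ := neg_injective h3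
            have := congrArg (fun t => t * ζ) h6
            simp only [inv_mul_cancel₀ hζ0] at this
            rw [pow_two]; exact this
          have h6 := hζ.dvd_of_pow_eq_one 2 h5
          have := Nat.le_of_dvd (by norm_num) h6
          omega
      · exact heq
      · exfalso
        have hen : e = n := by omega
        have hcyc : IsCyclic ↥P := isCyclic_of_orderOf_eq_card g' (by rw [hord, hen]; exact hP.symm)
        exact hy'g' (Taussky.comm_of_isCyclic y' g')
    have hg'ord : orderOf g' = 2 ^ (n - 1) := by rw [hord, he1]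
    have hgord : orderOf g = 2 ^ (n - 1) := by rw [hgg', hg'ord]
    have hA2 := MaxClassTwo.index_zpowers n hn hP g' hg'ord
    have hy'Z : y' ∉ Subgroup.zpowers g' := by
      intro h
      obtain ⟨i, hi⟩ := Subgroup.mem_zpowers_iff.mp h
      apply hy'g'
      rw [← hi]
      exact ((Commute.refl g').zpow_left i).eq
    have hcomm : commutator ↥P = Subgroup.zpowers (y' * g' * y'⁻¹ * g'⁻¹) :=
      MaxClassTwo.commutator_eq n hn hP g' hg'ord y' hy'Z
    have hP' : Nat.card ↥P = 2 ^ n := hP
    have hN := Subgroup.normal_of_index_eq_two hA2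
    have hc : y' * g' * y'⁻¹ ∈ Subgroup.zpowers g' :=
      hN.conj_mem g' (Subgroup.mem_zpowers g') y'
    obtain ⟨k, hk⟩ := Submonoid.mem_powers_iff _ _ |>.mp
      ((isOfFinOrder_of_finite g').mem_powers_iff_mem_zpowers.mpr hc)
    have hkG : g ^ k = y * g * y⁻¹ := by
      have := congrArg Subtype.val hk
      simpa using this
    have hkodd : Odd k := by
      by_contra hev
      rw [Nat.not_odd_iff_even] at hev
      obtain ⟨j, rfl⟩ := hev
      have h1 : (g ^ (j + j)) ^ (2 ^ (n - 2)) = 1 := by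
        have h2 : (j + j) * 2 ^ (n - 2) = 2 ^ (n - 1) * j := by
          have : 2 ^ (n - 1) = 2 ^ (n - 2) * 2 := by rw [← pow_succ]; congr 1; omega
          rw [this]; ring
        rw [← pow_mul, h2, pow_mul, ← hgord, pow_orderOf_eq_one, one_pow]
      rw [hkG, conj_pow] at h1
      have h2 : g ^ (2 ^ (n - 2)) = 1 := by
        have := congrArg (fun t => y⁻¹ * t * y) h1
        simpa [mul_assoc] using this
      have h3 := orderOf_dvd_of_pow_eq_one h2
      rw [hgord, Nat.pow_dvd_pow_iff_le_right (by norm_num)] at h3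
      omega
    have hconj : IsConj (g ^ k) g := by
      rw [isConj_iff]
      refine ⟨y⁻¹, ?_⟩
      rw [hkG]; group
    have hzpow := zeta_pow_eq_iff ζ _ (by positivity) hζ
    have h3 := hS k hkodd hconj
    have hk1 : ζ ^ k ≠ ζ := by
      intro h
      have h1 : ζ ^ k = ζ ^ 1 := by rw [h, pow_one]
      have h2 := (hzpow k 1).1 h1
      have h5 : g ^ k = g ^ 1 := by
        rw [pow_eq_pow_iff_modEq, hgord]; exact h2
      rw [pow_one, hkG] at h5
      apply hy
      have := congrArg (fun t => t * y) h5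
      simpa using this
    have hsq : (ζ ^ (k + 1)) ^ 2 = 1 := by
      have hks : ζ ^ (k + 1) = ζ ^ k * ζ := pow_succ ζ k
      rcases h3 with h3 | h3 | h3
      · exact absurd h3 hk1
      · rw [hks, h3, inv_mul_cancel₀ hζ0, one_pow]
      · rw [hks, h3, neg_mul, inv_mul_cancel₀ hζ0]; norm_num
    have hdvd : 2 ^ (n - 1) ∣ (k + 1) * 2 := by
      rw [← pow_mul] at hsq
      exact hζ.dvd_of_pow_eq_one _ hsq
    have h4k : 4 ∣ k + 1 := by
      have h5 : 2 ^ (n - 1) = 2 ^ (n - 2) * 2 := by rw [← pow_succ]; congr 1; omega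
      rw [h5] at hdvd
      have h6 : 2 ^ (n - 2) ∣ k + 1 := (Nat.mul_dvd_mul_iff_right (by norm_num)).mp hdvd
      exact (pow_dvd_pow 2 (show 2 ≤ n - 2 by omega)).trans h6
    obtain ⟨t, ht⟩ := h4k
    have hkt : k - 1 = 2 * (2 * t - 1) := by omega
    have ht1 : 1 ≤ t := by omega
    have hcomm_eq : y' * g' * y'⁻¹ * g'⁻¹ = g' ^ (k - 1) := by
      rw [← hk]
      have hk1' : k = (k - 1) + 1 := by omega
      conv_lhs => rw [hk1', pow_succ]
      rw [mul_inv_cancel_right]
    have hcord : orderOf (y' * g' * y'⁻¹ * g'⁻¹) = 2 ^ (n - 2) := by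
      rw [hcomm_eq, orderOf_pow, hg'ord, hkt]
      have h5 : 2 ^ (n - 1) = 2 * 2 ^ (n - 2) := by rw [← pow_succ']; congr 1; omega
      have h6 : Nat.gcd (2 ^ (n - 1)) (2 * (2 * t - 1)) = 2 := by
        rw [h5, Nat.gcd_mul_left]
        have : Nat.Coprime (2 ^ (n - 2)) (2 * t - 1) := by
          apply Nat.Coprime.pow_left
          rw [Nat.coprime_two_left]
          exact ⟨t - 1, by omega⟩
        rw [this, mul_one]
      rw [h6, h5]
      simp
    have h7 := (commutator ↥P).card_mul_index
    rw [hcomm, Nat.card_zpowers, hcord, hP'] at h7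
    have h8' : 2 ^ n = 2 ^ (n - 2) * 4 := by
      have : (4 : ℕ) = 2 ^ 2 := by norm_num
      rw [this, ← pow_add]; congr 1; omega
    rw [h8'] at h7
    rw [hcomm]
    exact Nat.eq_of_mul_eq_mul_left (show 0 < 2 ^ (n - 2) by positivity) h7

end Cfsg.Agent.H2.FV
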