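import Mathlib
import Cfsg.Prelude.Def_Solvable
import Cfsg.Agent.H1.Basic
import Cfsg.Agent.H1.Cores
import Cfsg.Agent.H1.Frattini
import Cfsg.Agent.S0060

/-!
# Groups with fewer than `p²` Sylow `p`-subgroups (helper2)
-/

set_option autoImplicit false
set_option linter.unusedSectionVars false
set_option linter.unusedVariables false
set_option linter.style.haveILetI false

namespace Cfsg.Agent.H2.FewSyl

open scoped Pointwise commutatorElement

variable {G : Type*} [Group G] [Finite G] {p : ℕ} [hp : Fact p.Prime]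

/-- orbit bound: for `Q ≠ P`, `[P : P ∩ Q] + 1 ≤ n_p` -/
theorem relIndex_add_one_le (P Q : Sylow p G) (hne : Q ≠ P) :
    (Q : Subgroup G).relIndex (P : Subgroup G) + 1 ≤ Nat.card (Sylow p G) := by
  have h1 : (MulAction.stabilizer ↥(P : Subgroup G) Q).index =
      (MulAction.orbit ↥(P : Subgroup G) Q).ncard := MulAction.index_stabilizer _ _
  have h2 : MulAction.stabilizer ↥(P : Subgroup G) Q = (Q : Subgroup G).subgroupOf P := by
    ext x
    rw [MulAction.mem_stabilizer_iff, Subgroup.mem_subgroupOf]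
    have : x • Q = (x : G) • Q := rfl
    rw [this, Sylow.smul_eq_iff_mem_normalizer]
    constructor
    · intro hx
      have h3' := P.isPGroup'.inf_normalizer_sylow Q
      have h3 : (x : G) ∈ (P : Subgroup G) ⊓ (Q : Subgroup G) := by
        rw [← h3']; exact ⟨x.2, hx⟩
      exact h3.2
    · intro hx; exact Subgroup.le_normalizer hx
  have h3 : MulAction.orbit ↥(P : Subgroup G) Q ⊆ (Set.univ : Set (Sylow p G)) \ {P} := by
    rintro R ⟨x, rfl⟩
    refine ⟨Set.mem_univ _, ?_⟩
    intro hxP
    apply hne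
    have h4 : (x : G) • Q = P := hxP
    have h5 : Q = (x : G)⁻¹ • P := by
      have := congrArg (fun R => (x : G)⁻¹ • R) h4
      simp only [inv_smul_smul] at this
      exact this
    rw [h5, Sylow.smul_eq_iff_mem_normalizer]
    exact Subgroup.le_normalizer (Subgroup.inv_mem _ x.2)
  have h4 := Set.ncard_le_ncard h3
  have h5 := Set.ncard_sdiff_singleton_add_one (Set.mem_univ P)
  rw [Set.ncard_univ] at h5
  rw [← h1, h2] at h4
  have h6 : ((Q : Subgroup G).subgroupOf P).index = (Q : Subgroup G).relIndex (P : Subgroup G) := rfl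
  omega

theorem relIndex_eq_p (P Q : Sylow p G) (hne : Q ≠ P) (hn : Nat.card (Sylow p G) < p ^ 2) :
    (Q : Subgroup G).relIndex (P : Subgroup G) = p := by
  have h1 := relIndex_add_one_le P Q hne
  have h2 : (Q : Subgroup G).relIndex P ∣ Nat.card (P : Subgroup G) := Subgroup.relIndex_dvd_card _ _
  obtain ⟨a, ha⟩ := IsPGroup.iff_card.1 P.isPGroup'
  rw [ha] at h2
  obtain ⟨j, hj, hj2⟩ := (Nat.dvd_prime_pow hp.out).1 h2
  have hj1 : j ≠ 0 := by
    rintro rfl
    rw [pow_zero, Subgroup.relIndex_eq_one] at hj2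
    exact hne (Sylow.ext (P.is_maximal' Q.isPGroup' hj2))
  have hj3 : j < 2 := by
    by_contra hcon
    push Not at hcon
    have : p ^ 2 ≤ p ^ j := Nat.pow_le_pow_right hp.out.pos hcon
    omega
  have : j = 1 := by omega
  rw [hj2, this, pow_one]

theorem isCoatom_of_index_prime {X : Type*} [Group X] [Finite X] (D : Subgroup X) (hD : D.index.Prime) :
    IsCoatom D := by
  constructor
  · intro h; rw [h, Subgroup.index_top] at hD; exact Nat.not_prime_one hD
  · intro K hDK
    have h1 := Subgroup.relIndex_mul_index hDK.le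
    have h2 : K.index ∣ D.index := Dvd.intro_left _ h1
    rcases (Nat.dvd_prime hD).1 h2 with h | h
    · exact Subgroup.index_eq_one.1 h
    · exfalso
      rw [h] at h1
      have h3 : D.relIndex K = 1 := by
        have : D.relIndex K * D.index = 1 * D.index := by rw [h1, one_mul]
        exact Nat.eq_of_mul_eq_mul_right hD.pos this
      rw [Subgroup.relIndex_eq_one] at h3
      exact (lt_irrefl _ (lt_of_lt_of_le hDK h3))

/-- with fewer than `p²` Sylow subgroups, commutators of elements of `P` lie in every Sylow subgroup -/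
theorem commutator_mem_sylow (P : Sylow p G) (hn : Nat.card (Sylow p G) < p ^ 2) (a b : G)
    (ha : a ∈ P) (hb : b ∈ P) (R : Sylow p G) : a * b * a⁻¹ * b⁻¹ ∈ R := by
  by_cases hne : R = P
  · rw [hne]
    exact Subgroup.mul_mem _ (Subgroup.mul_mem _ (Subgroup.mul_mem _ ha hb) (Subgroup.inv_mem _ ha))
      (Subgroup.inv_mem _ hb)
  · have h1 := relIndex_eq_p P R hne hn
    have h2 : ((R : Subgroup G).subgroupOf (P : Subgroup G)).index.Prime := by
      have : ((R : Subgroup G).subgroupOf (P : Subgroup G)).index = p := h1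
      rw [this]; exact hp.out
    have h3 := isCoatom_of_index_prime _ h2
    have h4 : commutator ↥(P : Subgroup G) ≤ (R : Subgroup G).subgroupOf (P : Subgroup G) :=
      le_trans (Cfsg.Agent.H1.commutator_le_frattini P.isPGroup') (frattini_le_coatom h3)
    have h5 : ⁅(⟨a, ha⟩ : ↥(P : Subgroup G)), ⟨b, hb⟩⁆ ∈ commutator ↥(P : Subgroup G) :=
      Subgroup.commutator_mem_commutator (Subgroup.mem_top _) (Subgroup.mem_top _)
    have h6 := h4 h5
    rw [Subgroup.mem_subgroupOf] at h6
    exact h6

/-- a simple nonabelian group has trivial `p`-core -/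
theorem pCore_eq_bot_of_simple [IsSimpleGroup G] (hG : ¬ IsMulCommutative G) :
    Cfsg.pCore p G = ⊥ := by
  haveI : (Cfsg.pCore p G).Normal := inferInstance
  rcases Subgroup.Normal.eq_bot_or_eq_top (inferInstance : (Cfsg.pCore p G).Normal) with h | h
  · exact h
  · exfalso
    apply hG
    have h1 : IsPGroup p ↥(Cfsg.pCore p G) := Cfsg.Agent.H1.pCore_isPGroup p
    have h2 : IsPGroup p G := by
      intro x
      obtain ⟨k, hk⟩ := h1 ⟨x, h ▸ Subgroup.mem_top x⟩
      exact ⟨k, congrArg Subtype.val hk⟩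
    haveI : Group.IsNilpotent G := h2.isNilpotent
    have h3 : Group.IsSolvable G := inferInstance
    have h4 := (IsSimpleGroup.comm_iff_isSolvable (G := G)).2 h3
    exact ⟨⟨h4⟩⟩

theorem card_sylow_eq_p [IsSimpleGroup G] (hG : ¬ IsMulCommutative G) (hp' : p ∣ Nat.card G)
    (hn : Nat.card (Sylow p G) < p ^ 2) (P : Sylow p G) : Nat.card P = p := by
  have hcore : Cfsg.pCore p G = ⊥ := pCore_eq_bot_of_simple hG
  -- the intersection of all Sylow subgroups is trivial
  have hK : ∀ x : G, (∀ R : Sylow p G, x ∈ R) → x = 1 := by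
    intro x hx
    have hKn : (⨅ R : Sylow p G, (R : Subgroup G)).Normal := by
      constructor
      intro n hn g
      rw [Subgroup.mem_iInf] at hn ⊢
      intro R
      have h1 := hn (g⁻¹ • R)
      have h2 : n ∈ g⁻¹ • R := h1
      rw [Cfsg.Agent.H1.mem_sylow_smul, inv_inv] at h2
      exact h2
    have hKp : IsPGroup p ↥(⨅ R : Sylow p G, (R : Subgroup G)) :=
      P.isPGroup'.to_le (iInf_le _ P)
    have h1 := Cfsg.Agent.H1.le_pCore hKn hKp
    rw [hcore] at h1
    have h2 : x ∈ ⨅ R : Sylow p G, (R : Subgroup G) := by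
      rw [Subgroup.mem_iInf]; exact hx
    exact Subgroup.mem_bot.1 (h1 h2)
  have hPab : IsMulCommutative ↥(P : Subgroup G) := by
    refine ⟨⟨?_⟩⟩
    rintro ⟨a, ha⟩ ⟨b, hb⟩
    apply Subtype.ext
    have h1 := hK _ (commutator_mem_sylow P hn a b ha hb)
    show a * b = b * a
    calc a * b = (a * b * a⁻¹ * b⁻¹) * (b * a) := by group
      _ = b * a := by rw [h1, one_mul]
  obtain ⟨g, hg⟩ := Cfsg.Agent.S0060.result p P hPab hcore
  have hQ : ((g • P : Sylow p G) : Subgroup G) = MulAut.conj g • (P : Subgroup G) :=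
    Sylow.coe_subgroup_smul
  have hne : g • P ≠ P := by
    intro h0
    rw [← hQ, h0, inf_idem] at hg
    exact P.ne_bot_of_dvd_card hp' hg
  have h1 := relIndex_eq_p P (g • P) hne hn
  rw [hQ, ← Subgroup.inf_relIndex_right, inf_comm, hg, Subgroup.relIndex_bot_left] at h1
  exact h1

end Cfsg.Agent.H2.FewSyl
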