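import Mathlib
import Cfsg.Prelude.Def_Solvable
import Cfsg.Agent.H1.Cores
import Cfsg.Agent.H1.Card

/-!
# A characterization of the Fitting subgroup by index powers (helper2)

`x ∈ F(G)` iff `x ^ |G : H| ∈ H` for every subgroup `H`.
-/

set_option autoImplicit false

namespace Cfsg.Agent.H2.FitPow

open Cfsg.Agent.H1
open scoped Pointwise

/-- if `D ⊴ D₁` and `y ∈ D₁` then `y ^ |D₁ : D| ∈ D` -/
theorem pow_relIndex_mem {G : Type*} [Group G] (D D₁ : Subgroup G)
    (hn : D₁ ≤ Subgroup.normalizer (D : Set G)) (y : G) (hy : y ∈ D₁) :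
    y ^ D.relIndex D₁ ∈ D := by
  have hnorm : (D.subgroupOf D₁).Normal := Subgroup.normal_subgroupOf_of_le_normalizer hn
  have h1 : ((⟨y, hy⟩ : D₁) : D₁ ⧸ D.subgroupOf D₁) ^ Nat.card (D₁ ⧸ D.subgroupOf D₁) = 1 :=
    pow_card_eq_one'
  rw [← QuotientGroup.mk_pow, QuotientGroup.eq_one_iff, Subgroup.mem_subgroupOf] at h1
  exact h1

/-- in a finite nilpotent group, `x ^ |F : D| ∈ D` for every subgroup `D` -/
theorem pow_index_mem_of_nilpotent {F : Type*} [Group F] [Finite F] [Group.IsNilpotent F] :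
    ∀ (n : ℕ) (D : Subgroup F), D.index = n → ∀ x : F, x ^ D.index ∈ D := by
  intro n
  induction n using Nat.strong_induction_on with
  | _ n ih =>
  intro D hD x
  by_cases htop : D = ⊤
  · rw [htop]; exact Subgroup.mem_top _
  have hlt : D < Subgroup.normalizer (D : Set F) :=
    Group.normalizerCondition_of_isNilpotent D (lt_top_iff_ne_top.mpr htop)
  have hle : D ≤ Subgroup.normalizer (D : Set F) := hlt.le
  have hidx := Subgroup.relIndex_mul_index hle
  have hrel : D.relIndex (Subgroup.normalizer (D : Set F)) ≠ 1 := by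
    intro h
    rw [Subgroup.relIndex_eq_one] at h
    exact (not_le_of_gt hlt) h
  have hpos : 0 < (Subgroup.normalizer (D : Set F)).index :=
    Nat.pos_of_ne_zero Subgroup.index_ne_zero_of_finite
  have hrelpos : 0 < D.relIndex (Subgroup.normalizer (D : Set F)) := by
    by_contra h0
    have h00 : D.relIndex (Subgroup.normalizer (D : Set F)) = 0 := by omega
    rw [h00, zero_mul] at hidx
    exact Subgroup.index_ne_zero_of_finite hidx.symm
  have hsmall : (Subgroup.normalizer (D : Set F)).index < n := by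
    rw [← hD, ← hidx]
    have : 2 ≤ D.relIndex (Subgroup.normalizer (D : Set F)) := by omega
    nlinarith
  have h1 := ih _ hsmall (Subgroup.normalizer (D : Set F)) rfl x
  have h2 := pow_relIndex_mem D _ le_rfl _ h1
  rw [← pow_mul, mul_comm, hidx] at h2
  exact h2

variable {G : Type*} [Group G] [Finite G]

theorem pow_index_mem_of_mem_fitting (x : G) (hx : x ∈ Cfsg.fittingSubgroup G)
    (H : Subgroup G) : x ^ H.index ∈ H := by
  have hnil : Group.IsNilpotent (Cfsg.fittingSubgroup G) := fittingSubgroup_nilpotent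
  have h1 := pow_index_mem_of_nilpotent (F := Cfsg.fittingSubgroup G) _
    (H.subgroupOf (Cfsg.fittingSubgroup G)) rfl ⟨x, hx⟩
  rw [Subgroup.mem_subgroupOf] at h1
  have h2 : x ^ H.relIndex (Cfsg.fittingSubgroup G) ∈ H := h1
  have hHF : H ≤ Subgroup.normalizer ((Cfsg.fittingSubgroup G : Subgroup G) : Set G) := by
    rw [Subgroup.normalizer_eq_top]; exact le_top
  have h3 := relIndex_inf_eq_relIndex_sup H (Cfsg.fittingSubgroup G) hHF
  rw [Subgroup.inf_relIndex_right] at h3
  have h4 := Subgroup.relIndex_mul_index (le_sup_left : H ≤ H ⊔ Cfsg.fittingSubgroup G)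
  rw [← h3] at h4
  rw [← h4, pow_mul]
  exact H.pow_mem h2 _

theorem iInf_sylow_le_fitting (p : ℕ) [Fact p.Prime] :
    (⨅ Q : Sylow p G, (Q : Subgroup G)) ≤ Cfsg.fittingSubgroup G := by
  have hn : (⨅ Q : Sylow p G, (Q : Subgroup G)).Normal := by
    constructor
    intro y hy g
    rw [Subgroup.mem_iInf] at hy ⊢
    intro Q
    have : y ∈ MulAut.conj g⁻¹ • (Q : Subgroup G) := hy (MulAut.conj g⁻¹ • Q)
    rw [Subgroup.mem_pointwise_smul_iff_inv_smul_mem] at this
    simpa [MulAut.conj_apply] using this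
  have hp : IsPGroup p (⨅ Q : Sylow p G, (Q : Subgroup G) : Subgroup G) := by
    let P : Sylow p G := default
    exact P.2.to_le (iInf_le _ P)
  exact le_fittingSubgroup hn hp.isNilpotent

theorem mem_fitting_of_pow_index_mem (x : G) (h : ∀ H : Subgroup G, x ^ H.index ∈ H) :
    x ∈ Cfsg.fittingSubgroup G := by
  have hidx : ∀ (p : ℕ) [Fact p.Prime] (P Q : Sylow p G),
      (P : Subgroup G).index = (Q : Subgroup G).index := by
    intro p _ P Q
    have h1 := Subgroup.card_mul_index (P : Subgroup G)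
    have h2 := Subgroup.card_mul_index (Q : Subgroup G)
    rw [P.card_eq_multiplicity] at h1
    rw [Q.card_eq_multiplicity] at h2
    exact Nat.eq_of_mul_eq_mul_left (pow_pos (Fact.out : p.Prime).pos _) (h1.trans h2.symm)
  have hpow : ∀ (p : ℕ) [Fact p.Prime] (P : Sylow p G),
      x ^ (P : Subgroup G).index ∈ Cfsg.fittingSubgroup G := by
    intro p _ P
    apply iInf_sylow_le_fitting p
    rw [Subgroup.mem_iInf]
    intro Q
    rw [hidx p P Q]
    exact h Q
  rw [← QuotientGroup.eq_one_iff (N := Cfsg.fittingSubgroup G), ← orderOf_eq_one_iff]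
  by_contra hne
  obtain ⟨r, hr, hrd⟩ := Nat.exists_prime_and_dvd hne
  have : Fact r.Prime := ⟨hr⟩
  let P : Sylow r G := default
  have h1 : ((x : G ⧸ Cfsg.fittingSubgroup G)) ^ (P : Subgroup G).index = 1 := by
    rw [← QuotientGroup.mk_pow, QuotientGroup.eq_one_iff]
    exact hpow r P
  have h2 := orderOf_dvd_of_pow_eq_one h1
  exact P.not_dvd_index (dvd_trans hrd h2)

end Cfsg.Agent.H2.FitPow
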