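import Mathlib

/-!
# Fixed points of an element of order 3 on a normal elementary abelian 3-subgroup (helper2)

If `N` is a normal abelian subgroup of exponent 3 and `x ^ 3 = 1`, then `|N| ≤ |C_N(x)|^3`.
-/

set_option autoImplicit false
set_option linter.unusedVariables false
set_option linter.style.haveILetI false
set_option linter.unusedSectionVars false

namespace Cfsg.Agent.H2.FixCount

theorem card_le_ker_mul_map {A B : Type*} [Group A] [Group B] [Finite A] (f : A →* B)
    (R : Subgroup A) : Nat.card R ≤ Nat.card f.ker * Nat.card (R.map f) := by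
  classical
  set g : ↥R →* B := f.comp R.subtype with hg
  have h1 : Nat.card R = Nat.card g.ker * g.ker.index := (Subgroup.card_mul_index g.ker).symm
  have h2 : g.ker.index = Nat.card g.range := Subgroup.index_ker g
  have h3 : g.range = R.map f := by
    rw [hg, MonoidHom.range_comp, Subgroup.range_subtype]
  have h4 : Nat.card g.ker ≤ Nat.card f.ker := by
    refine Nat.card_le_card_of_injective
      (fun y : g.ker => (⟨(y.1 : A), by
        have := y.2
        rw [MonoidHom.mem_ker] at this ⊢
        exact this⟩ : f.ker)) ?_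
    intro y z hyz
    have h5 : ((y.1 : ↥R) : A) = ((z.1 : ↥R) : A) := by
      have := congrArg (fun w : f.ker => (w : A)) hyz
      exact this
    exact Subtype.ext (Subtype.ext h5)
  rw [h1, h2, h3]
  exact Nat.mul_le_mul_right _ h4

theorem card_le_pow_three {P : Type*} [Group P] [Finite P] (N : Subgroup P) [hN : N.Normal]
    (hNc : ∀ a ∈ N, ∀ b ∈ N, a * b = b * a) (hNe : ∀ a ∈ N, a ^ 3 = 1)
    (x : P) (hx : x ^ 3 = 1) :
    Nat.card N ≤ (Nat.card (N ⊓ Subgroup.centralizer ({x} : Set P) : Subgroup P)) ^ 3 := by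
  classical
  letI : CommGroup ↥N :=
    { (inferInstance : Group ↥N) with mul_comm := fun a b => Subtype.ext (hNc a a.2 b b.2) }
  -- conjugation by x on N
  let c : ↥N →* ↥N :=
    { toFun := fun n => ⟨x * n * x⁻¹, hN.conj_mem n n.2 x⟩
      map_one' := by
        apply Subtype.ext
        show x * ((1 : ↥N) : P) * x⁻¹ = ((1 : ↥N) : P)
        simp
      map_mul' := by
        intro a b
        apply Subtype.ext
        show x * ((a * b : ↥N) : P) * x⁻¹ = (x * (a : P) * x⁻¹) * (x * (b : P) * x⁻¹)
        rw [Subgroup.coe_mul]; group }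
  have hc3 : ∀ n : ↥N, c (c (c n)) = n := by
    intro n
    apply Subtype.ext
    show x * (x * (x * (n : P) * x⁻¹) * x⁻¹) * x⁻¹ = (n : P)
    have h1 : x * x * x = 1 := by rw [← hx, pow_succ, pow_two]
    have e : x * (x * (x * (n : P) * x⁻¹) * x⁻¹) * x⁻¹ = (x * x * x) * (n : P) * (x * x * x)⁻¹ := by
      group
    rw [e, h1]; simp
  have hcube : ∀ n : ↥N, n ^ 3 = 1 := by
    intro n
    apply Subtype.ext
    rw [Subgroup.coe_pow]
    exact hNe n n.2
  let f : ↥N →* ↥N := c / MonoidHom.id ↥N
  have hf : ∀ n : ↥N, f n = c n / n := fun n => rfl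
  have hf3 : ∀ n : ↥N, f (f (f n)) = 1 := by
    intro n
    rw [hf (f (f n)), hf (f n), hf n]
    simp only [map_div, hc3]
    have h : (Additive.ofMul n - Additive.ofMul (c (c n)) -
          (Additive.ofMul (c (c n)) - Additive.ofMul (c n))) -
        (Additive.ofMul (c (c n)) - Additive.ofMul (c n) -
          (Additive.ofMul (c n) - Additive.ofMul n)) =
        3 • Additive.ofMul (c n) - 3 • Additive.ofMul (c (c n)) := by abel
    have h' : (n / c (c n) / (c (c n) / c n)) / (c (c n) / c n / (c n / n)) =
        (c n) ^ 3 / (c (c n)) ^ 3 := h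
    rw [h', hcube, hcube, div_one]
  -- kernel of f
  have hker : Nat.card f.ker = Nat.card (N ⊓ Subgroup.centralizer ({x} : Set P) : Subgroup P) := by
    refine Nat.card_congr
      { toFun := fun y => ⟨(y.1 : P), Subgroup.mem_inf.2 ⟨y.1.2, ?_⟩⟩
        invFun := fun z => ⟨⟨z.1, (Subgroup.mem_inf.1 z.2).1⟩, ?_⟩
        left_inv := fun y => rfl
        right_inv := fun z => rfl }
    · have h1 := y.2
      rw [MonoidHom.mem_ker, hf, div_eq_one] at h1
      have h2 : x * (y.1 : P) * x⁻¹ = (y.1 : P) := congrArg Subtype.val h1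
      rw [Subgroup.mem_centralizer_singleton_iff]
      have h3 : x * (y.1 : P) = (y.1 : P) * x := by
        calc x * (y.1 : P) = (x * (y.1 : P) * x⁻¹) * x := by group
          _ = (y.1 : P) * x := by rw [h2]
      first | exact h3 | exact h3.symm
    · have h1 := (Subgroup.mem_inf.1 z.2).2
      rw [Subgroup.mem_centralizer_singleton_iff] at h1
      rw [MonoidHom.mem_ker, hf, div_eq_one]
      apply Subtype.ext
      show x * (z.1 : P) * x⁻¹ = (z.1 : P)
      have h3 : x * (z.1 : P) = (z.1 : P) * x := by first | exact h1 | exact h1.symm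
      rw [h3]; group
  -- chain
  have e1 : Nat.card (↥N) ≤ Nat.card f.ker * Nat.card f.range := by
    have := card_le_ker_mul_map f ⊤
    rw [← MonoidHom.range_eq_map] at this
    have h0 : Nat.card (⊤ : Subgroup ↥N) = Nat.card ↥N := Subgroup.card_top
    rw [h0] at this
    exact this
  have e2 : Nat.card f.range ≤ Nat.card f.ker * Nat.card (f.range.map f) :=
    card_le_ker_mul_map f f.range
  have e3 : Nat.card (f.range.map f) ≤ Nat.card f.ker := by
    apply Subgroup.card_le_of_le
    intro y hy
    obtain ⟨w, hw, rfl⟩ := Subgroup.mem_map.1 hy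
    obtain ⟨n, rfl⟩ := MonoidHom.mem_range.1 hw
    rw [MonoidHom.mem_ker]
    exact hf3 n
  rw [← hker]
  calc Nat.card ↥N ≤ Nat.card f.ker * Nat.card f.range := e1
    _ ≤ Nat.card f.ker * (Nat.card f.ker * Nat.card (f.range.map f)) :=
        Nat.mul_le_mul_left _ e2
    _ ≤ Nat.card f.ker * (Nat.card f.ker * Nat.card f.ker) :=
        Nat.mul_le_mul_left _ (Nat.mul_le_mul_left _ e3)
    _ = Nat.card f.ker ^ 3 := by ring

end Cfsg.Agent.H2.FixCount
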