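import Mathlib
import Cfsg.Agent.Lib.Lead.PSolvable
import Cfsg.Agent.H2.PPrimeCore

/-! S4439 (Fong's height bound), degree bound part (A2): group theory in `G ⧸ O_{p'}(G)`. -/

namespace Cfsg.Agent.H2.FongDeg

open Cfsg Cfsg.Agent.Lib.Lead.PSolvable

universe u
variable {G : Type u} [Group G] [Finite G] (p : ℕ) [hp : Fact p.Prime]

/-- the image of a Sylow `p`-subgroup in `G ⧸ O_{p'}(G)` contains `O_p(G ⧸ O_{p'}(G))` -/
theorem pCore_quot_le_map (S : Sylow p G) :
    pCore p (G ⧸ pPrimeCore p G) ≤ (S : Subgroup G).map (QuotientGroup.mk' (pPrimeCore p G)) := by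
  have := Cfsg.Agent.H1.pCore_le_sylow
    (S.mapSurjective (QuotientGroup.mk'_surjective (pPrimeCore p G)))
  rwa [Sylow.coe_mapSurjective] at this

theorem sylow_inf_pPrimeCore (S : Sylow p G) : (S : Subgroup G) ⊓ pPrimeCore p G = ⊥ := by
  apply Disjoint.eq_bot
  apply Subgroup.disjoint_of_coprime_natCard
  obtain ⟨k, hk⟩ := IsPGroup.iff_card.1 S.isPGroup'
  rw [hk]
  exact Nat.Coprime.pow_left k (Cfsg.Agent.H1.pPrimeCore_coprime p).symm

/-- **(d)** `|Z(S)| ≤ |Z(O_p(G/O_{p'}(G)))|` for a Sylow `p`-subgroup `S` of a `p`-solvable group. -/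
theorem card_center_le (hsolv : IsPSolvable p G) (S : Sylow p G) :
    Nat.card (Subgroup.center ↥(S : Subgroup G)) ≤
      Nat.card (Subgroup.center ↥(pCore p (G ⧸ pPrimeCore p G))) := by
  classical
  have hHH : Subgroup.centralizer ((pCore p (G ⧸ pPrimeCore p G) : Subgroup (G ⧸ pPrimeCore p G)) :
      Set (G ⧸ pPrimeCore p G)) ≤ pCore p (G ⧸ pPrimeCore p G) :=
    centralizer_pCore_le (IsPSolvable.quotient (pPrimeCore p G) hsolv)
      (Cfsg.Agent.H2.pPrimeCore_quotient_eq_bot p)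
  have hOS := pCore_quot_le_map p S
  have hcomm : ∀ (z : ↥(Subgroup.center ↥(S : Subgroup G))) (y : G ⧸ pPrimeCore p G),
      y ∈ pCore p (G ⧸ pPrimeCore p G) →
      y * QuotientGroup.mk' (pPrimeCore p G) ((z : ↥(S : Subgroup G)) : G) =
        QuotientGroup.mk' (pPrimeCore p G) ((z : ↥(S : Subgroup G)) : G) * y := by
    intro z y hy
    obtain ⟨s, hs, rfl⟩ := hOS hy
    have h1 := Subgroup.mem_center_iff.1 z.2 ⟨s, hs⟩
    have h2 : s * ((z : ↥(S : Subgroup G)) : G) = ((z : ↥(S : Subgroup G)) : G) * s :=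
      congrArg Subtype.val h1
    rw [← map_mul, ← map_mul, h2]
  have hmem : ∀ z : ↥(Subgroup.center ↥(S : Subgroup G)),
      QuotientGroup.mk' (pPrimeCore p G) ((z : ↥(S : Subgroup G)) : G) ∈
        pCore p (G ⧸ pPrimeCore p G) := by
    intro z
    apply hHH
    rw [Subgroup.mem_centralizer_iff]
    intro y hy
    exact hcomm z y hy
  let f : ↥(Subgroup.center ↥(S : Subgroup G)) →
      ↥(Subgroup.center ↥(pCore p (G ⧸ pPrimeCore p G))) := fun z =>
    ⟨⟨QuotientGroup.mk' (pPrimeCore p G) ((z : ↥(S : Subgroup G)) : G), hmem z⟩, by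
      rw [Subgroup.mem_center_iff]
      intro y
      apply Subtype.ext
      rw [Subgroup.coe_mul, Subgroup.coe_mul]
      exact hcomm z y.1 y.2⟩
  have hf : Function.Injective f := by
    intro z w hzw
    have h1 : QuotientGroup.mk' (pPrimeCore p G) ((z : ↥(S : Subgroup G)) : G) =
        QuotientGroup.mk' (pPrimeCore p G) ((w : ↥(S : Subgroup G)) : G) :=
      congrArg (fun t : ↥(Subgroup.center ↥(pCore p (G ⧸ pPrimeCore p G))) =>
        ((t : ↥(pCore p (G ⧸ pPrimeCore p G))) : G ⧸ pPrimeCore p G)) hzw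
    have h2 : ((z : ↥(S : Subgroup G)) : G)⁻¹ * ((w : ↥(S : Subgroup G)) : G) ∈ pPrimeCore p G := by
      rw [← QuotientGroup.eq_one_iff, ← QuotientGroup.mk'_apply, map_mul, map_inv, h1,
        inv_mul_cancel]
    have h3 : ((z : ↥(S : Subgroup G)) : G)⁻¹ * ((w : ↥(S : Subgroup G)) : G) ∈
        (S : Subgroup G) ⊓ pPrimeCore p G :=
      ⟨(S : Subgroup G).mul_mem ((S : Subgroup G).inv_mem (z : ↥(S : Subgroup G)).2)
        (w : ↥(S : Subgroup G)).2, h2⟩
    rw [sylow_inf_pPrimeCore, Subgroup.mem_bot, inv_mul_eq_one] at h3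
    exact Subtype.ext (Subtype.ext h3)
  exact Nat.card_le_card_of_injective f hf

/-- **(e)** `ν_p |S| = ν_p |G : O_{p',p}(G)| + ν_p |O_p(G/O_{p'}(G))|`. -/
theorem factorization_card_sylow (S : Sylow p G) :
    (Nat.card ↥(S : Subgroup G)).factorization p =
      ((pPrimePCore p G).index).factorization p +
        (Nat.card ↥(pCore p (G ⧸ pPrimeCore p G))).factorization p := by
  have hp' := hp.out
  have h1 : Nat.card ↥(S : Subgroup G) = p ^ (Nat.card G).factorization p := S.card_eq_multiplicity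
  rw [h1, hp'.factorization_pow, Finsupp.single_eq_same]
  have h2 : Nat.card ↥(pPrimePCore p G) =
      Nat.card ↥(pCore p (G ⧸ pPrimeCore p G)) * Nat.card ↥(pPrimeCore p G) :=
    Cfsg.Agent.H2.card_comap_mk' (pPrimeCore p G) (pCore p (G ⧸ pPrimeCore p G))
  have h3 : Nat.card G = Nat.card ↥(pPrimePCore p G) * (pPrimePCore p G).index :=
    (Subgroup.card_mul_index _).symm
  have hnd : ¬ p ∣ Nat.card ↥(pPrimeCore p G) :=
    (Nat.Prime.coprime_iff_not_dvd hp').1 (Cfsg.Agent.H1.pPrimeCore_coprime p).symm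
  rw [h3, h2, Nat.factorization_mul (Nat.mul_ne_zero Nat.card_pos.ne' Nat.card_pos.ne')
    Subgroup.index_ne_zero_of_finite, Nat.factorization_mul Nat.card_pos.ne' Nat.card_pos.ne',
    Finsupp.add_apply, Finsupp.add_apply, Nat.factorization_eq_zero_of_not_dvd hnd]
  omega

end Cfsg.Agent.H2.FongDeg
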