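import Mathlib
import Cfsg.Agent.H2.FongDeg1

/-! S4439 (Fong's height bound), degree bound part (A2): adapter to `↥L ⧸ N.subgroupOf L`. -/

namespace Cfsg.Agent.H2.FongDeg

open Cfsg Cfsg.Agent.Lib.Lead.PSolvable

universe u
variable {G : Type u} [Group G] [Finite G] (p : ℕ)

/-- the restriction of the quotient map `O_{p',p}(G) → O_p(G/O_{p'}(G))` -/
noncomputable def phi : ↥(pPrimePCore p G) →* ↥(pCore p (G ⧸ pPrimeCore p G)) :=
  (QuotientGroup.mk' (pPrimeCore p G)).subgroupComap (pCore p (G ⧸ pPrimeCore p G))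

theorem phi_apply (x : ↥(pPrimePCore p G)) :
    ((phi p x : ↥(pCore p (G ⧸ pPrimeCore p G))) : G ⧸ pPrimeCore p G) =
      QuotientGroup.mk' (pPrimeCore p G) (x : G) := rfl

theorem phi_surjective : Function.Surjective (phi (G := G) p) :=
  MonoidHom.subgroupComap_surjective_of_surjective _ _ (QuotientGroup.mk'_surjective _)

theorem ker_phi : (phi (G := G) p).ker = (pPrimeCore p G).subgroupOf (pPrimePCore p G) := by
  ext x
  rw [MonoidHom.mem_ker, Subgroup.mem_subgroupOf, ← QuotientGroup.eq_one_iff (x : G),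
    ← QuotientGroup.mk'_apply, ← phi_apply, Subtype.ext_iff, Subgroup.coe_one]

/-- `O_{p',p}(G)/O_{p'}(G) ≃* O_p(G/O_{p'}(G))` -/
noncomputable def quotEquiv :
    ↥(pPrimePCore p G) ⧸ (pPrimeCore p G).subgroupOf (pPrimePCore p G) ≃*
      ↥(pCore p (G ⧸ pPrimeCore p G)) :=
  (QuotientGroup.quotientMulEquivOfEq (ker_phi p).symm).trans
    (QuotientGroup.quotientKerEquivOfSurjective (phi p) (phi_surjective p))

theorem card_center_quot :
    Nat.card ↥(Subgroup.center
      (↥(pPrimePCore p G) ⧸ (pPrimeCore p G).subgroupOf (pPrimePCore p G))) =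
      Nat.card ↥(Subgroup.center ↥(pCore p (G ⧸ pPrimeCore p G))) :=
  Nat.card_congr (Subgroup.centerCongr (quotEquiv p)).toEquiv

theorem relIndex_eq :
    (pPrimeCore p G).relIndex (pPrimePCore p G) = Nat.card ↥(pCore p (G ⧸ pPrimeCore p G)) := by
  rw [Subgroup.relIndex, Subgroup.index, ← Nat.card_congr (quotEquiv p).toEquiv]

variable [hp : Fact p.Prime]

/-- **(d)** in the `L/N` shape -/
theorem card_center_le' (hsolv : IsPSolvable p G) (S : Sylow p G) :
    Nat.card (Subgroup.center ↥(S : Subgroup G)) ≤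
      Nat.card ↥(Subgroup.center
        (↥(pPrimePCore p G) ⧸ (pPrimeCore p G).subgroupOf (pPrimePCore p G))) := by
  rw [card_center_quot]
  exact card_center_le p hsolv S

/-- `|L : N|` is a power of `p`, and **(e)** -/
theorem exists_relIndex_eq (S : Sylow p G) :
    ∃ k : ℕ, (pPrimeCore p G).relIndex (pPrimePCore p G) = p ^ k ∧
      (Nat.card ↥(S : Subgroup G)).factorization p =
        ((pPrimePCore p G).index).factorization p + k := by
  obtain ⟨k, hk⟩ := IsPGroup.iff_card.1
    (Cfsg.Agent.H1.pCore_isPGroup (G := G ⧸ pPrimeCore p G) p)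
  refine ⟨k, by rw [relIndex_eq, hk], ?_⟩
  rw [factorization_card_sylow, hk, hp.out.factorization_pow, Finsupp.single_eq_same]

end Cfsg.Agent.H2.FongDeg
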