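import Mathlib
import Cfsg.Agent.H2.FongDeg2
import Cfsg.Agent.H2.FongHt
import Cfsg.Agent.Lib.helper3.FongDeg

/-! S4439: the degree bound `FongHt.DegreeBound`, from helper3's `degree_le` and (A2). -/

set_option linter.style.haveILetI false

namespace Cfsg.Agent.H2.FongDeg

open Cfsg Cfsg.Agent.Lib.Lead.PSolvable

universe u

/-- the degree bound needed by `FongHt.main` -/
theorem degreeBound (p : ℕ) [hp : Fact p.Prime] : Cfsg.Agent.H2.FongHt.DegreeBound.{u} p := by
  intro G _ _ hsolv N hN hNdef θ hinv χ hχθ S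
  classical
  subst hNdef
  letI : Fintype ↥(pPrimeCore p G) := Fintype.ofFinite _
  have hp' := hp.out
  have hnd : ¬ p ∣ Nat.card ↥(pPrimeCore p G) :=
    (Nat.Prime.coprime_iff_not_dvd hp').1 (Cfsg.Agent.H1.pPrimeCore_coprime p).symm
  obtain ⟨k, hk, hS⟩ := exists_relIndex_eq p S
  have hov : Cfsg.Agent.Lib.helper3.GNS.ip (fun n : ↥(pPrimeCore p G) => (χ : G → ℂ) n)
      (θ : ↥(pPrimeCore p G) → ℂ) ≠ 0 := by
    rw [Cfsg.Agent.Lib.helper3.GNS.ip_eq_classInner]
    exact hχθ
  have h1 := Cfsg.Agent.Lib.helper3.FongDeg.degree_le p (pPrimeCore p G) (pPrimePCore p G) pPrimeCore_le_pPrimePCore hnd k hk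
    θ hinv χ hov
  have h2 := card_center_le' p hsolv S
  -- `|Z(S)|` and `|Z(L/N)|` are powers of `p`
  have hZS : IsPGroup p ↥(Subgroup.center ↥(S : Subgroup G)) :=
    IsPGroup.to_subgroup S.isPGroup' _
  obtain ⟨a, ha⟩ := IsPGroup.iff_card.1 hZS
  have hLN : IsPGroup p (↥(pPrimePCore p G) ⧸ (pPrimeCore p G).subgroupOf (pPrimePCore p G)) :=
    IsPGroup.of_card (n := k) (by
      have : Nat.card (↥(pPrimePCore p G) ⧸ (pPrimeCore p G).subgroupOf (pPrimePCore p G)) =
          (pPrimeCore p G).relIndex (pPrimePCore p G) := rfl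
      rw [this, hk])
  obtain ⟨b, hb⟩ := IsPGroup.iff_card.1 (IsPGroup.to_subgroup hLN (Subgroup.center _))
  rw [hb, hp'.factorization_pow, Finsupp.single_eq_same] at h1
  rw [ha, hb] at h2
  have hab : a ≤ b := (Nat.pow_le_pow_iff_right hp'.one_lt).1 h2
  -- index of the centre
  have hidx : Nat.card ↥(S : Subgroup G) =
      Nat.card ↥(Subgroup.center ↥(S : Subgroup G)) * (Subgroup.center ↥(S : Subgroup G)).index :=
    (Subgroup.card_mul_index _).symm
  have hfac : (Nat.card ↥(S : Subgroup G)).factorization p =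
      a + ((Subgroup.center ↥(S : Subgroup G)).index).factorization p := by
    rw [hidx, Nat.factorization_mul Nat.card_pos.ne' Subgroup.index_ne_zero_of_finite,
      Finsupp.add_apply, ha, hp'.factorization_pow, Finsupp.single_eq_same]
  omega

end Cfsg.Agent.H2.FongDeg
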