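import Mathlib
import Cfsg.Agent.H1.Frattini
import Cfsg.Agent.H1.PGroup
import Cfsg.Agent.H2.MaxInvariant
import Cfsg.Agent.H2.QuadZero

/-!
# A fixed-point-free action with an element of order nine on a `2`-group (helper2)

Abstract core for the Hall–Higman style reduction: a minimal configuration forces an elementary
abelian subgroup of order at least `8`.
-/

namespace Cfsg.Agent.H2.FpfThree

open scoped commutatorElement

variable {G : Type*} [Group G]

theorem le_center_of_fixed (ε : MulAut G)
    (hgen : Subgroup.closure {x : G | ∃ g : G, x = g * (ε g)⁻¹} = ⊤)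
    (N : Subgroup G) [hN : N.Normal] (hfix : ∀ c ∈ N, ε c = c) : N ≤ Subgroup.center G := by
  intro c hc
  rw [Subgroup.mem_center_iff]
  have hle : Subgroup.closure {x : G | ∃ g : G, x = g * (ε g)⁻¹} ≤ Subgroup.centralizer {c} := by
    rw [Subgroup.closure_le]
    rintro x ⟨g, rfl⟩
    rw [SetLike.mem_coe, Subgroup.mem_centralizer_iff]
    intro y hy
    rw [Set.mem_singleton_iff] at hy
    subst hy
    have h1 : ε (g⁻¹ * y * g) = g⁻¹ * y * g := hfix _ (hN.conj_mem' y hc g)
    rw [map_mul, map_mul, map_inv, hfix y hc] at h1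
    have h2 : (ε g)⁻¹ * y = g⁻¹ * y * g * (ε g)⁻¹ := by rw [← h1]; group
    calc y * (g * (ε g)⁻¹) = g * (g⁻¹ * y * g * (ε g)⁻¹) := by group
      _ = g * ((ε g)⁻¹ * y) := by rw [h2]
      _ = g * (ε g)⁻¹ * y := by rw [mul_assoc]
  intro g
  have hg : g ∈ Subgroup.centralizer {c} := hle (hgen ▸ Subgroup.mem_top g)
  rw [Subgroup.mem_centralizer_iff] at hg
  exact (hg c rfl).symm

theorem ab_fixed_mem_commutator [Finite G] (hG : IsPGroup 2 G) (ε : MulAut G) (hε3 : ε ^ 3 = 1)
    (hgen : Subgroup.closure {x : G | ∃ g : G, x = g * (ε g)⁻¹} = ⊤)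
    (g : G) (hg : Abelianization.of (ε g) = Abelianization.of g) : g ∈ commutator G := by
  have h3 : ∀ x : G, ε (ε (ε x)) = x := by
    intro x
    have := congrArg (fun a : MulAut G => a x) hε3
    simpa [pow_succ, MulAut.mul_apply] using this
  let ν : G →* Abelianization G :=
    Abelianization.of * (Abelianization.of.comp ε.toMonoidHom) *
      (Abelianization.of.comp (ε.toMonoidHom.comp ε.toMonoidHom))
  have hν : ∀ x, ν x = Abelianization.of x * Abelianization.of (ε x) *
      Abelianization.of (ε (ε x)) := fun x => rfl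
  have hν1 : ν = 1 := by
    apply MonoidHom.eq_of_eqOn_dense hgen
    rintro x ⟨y, rfl⟩
    rw [hν, MonoidHom.one_apply]
    simp only [map_mul, map_inv, h3]
    group
  have h1 : ν g = 1 := by rw [hν1, MonoidHom.one_apply]
  have hg2 : Abelianization.of (ε (ε g)) = Abelianization.of g := by
    have e1 : ∀ x : G, Abelianization.of (ε x) = ε.abelianizationCongr (Abelianization.of x) :=
      fun x => rfl
    rw [e1 (ε g), hg, ← e1 g, hg]
  rw [hν, hg, hg2, ← pow_two, ← pow_succ] at h1
  have hV : IsPGroup 2 (Abelianization G) := hG.to_quotient (commutator G)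
  obtain ⟨k, hk⟩ := hV (Abelianization.of g)
  have hdvd : orderOf (Abelianization.of g) ∣ Nat.gcd 3 (2 ^ k) :=
    Nat.dvd_gcd (orderOf_dvd_of_pow_eq_one h1) (orderOf_dvd_of_pow_eq_one hk)
  have hc : Nat.gcd 3 (2 ^ k) = 1 := Nat.Coprime.pow_right k (by norm_num)
  rw [hc, Nat.dvd_one, orderOf_eq_one_iff] at hdvd
  have : g ∈ (Abelianization.of (G := G)).ker := MonoidHom.mem_ker.mpr hdvd
  rwa [Abelianization.ker_of] at this

theorem sq_mem_commutator [Finite G] (hG : IsPGroup 2 G) (ε : MulAut G) (hε3 : ε ^ 3 = 1)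
    (hgen : Subgroup.closure {x : G | ∃ g : G, x = g * (ε g)⁻¹} = ⊤)
    (hfrat : ∀ c ∈ frattini G, ε c = c) (g : G) : g ^ 2 ∈ commutator G :=
  ab_fixed_mem_commutator hG ε hε3 hgen (g ^ 2)
    (by rw [hfrat _ (Cfsg.Agent.H1.pow_p_mem_frattini hG g)])

theorem commutator_sq_eq_one (hcen : commutator G ≤ Subgroup.center G)
    (hsq : ∀ g : G, g ^ 2 ∈ commutator G) : ∀ c ∈ commutator G, c ^ 2 = 1 := by
  have hcomm : ∀ z ∈ commutator G, ∀ x : G, z * x = x * z := fun z hz x =>
    ((Subgroup.mem_center_iff.mp (hcen hz)) x).symm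
  intro c hc
  rw [commutator_eq_closure] at hc
  induction hc using Subgroup.closure_induction with
  | mem c hc =>
    obtain ⟨x, y, rfl⟩ := hc
    have hcm : ⁅x, y⁆ ∈ commutator G := by
      rw [commutator_eq_closure]; exact Subgroup.subset_closure ⟨x, y, rfl⟩
    have hcc := hcomm _ hcm
    obtain ⟨c, hcd⟩ : ∃ c, c = ⁅x, y⁆ := ⟨_, rfl⟩
    rw [← hcd] at hcc ⊢
    have e1 : x * y = c * (y * x) := by rw [hcd, commutatorElement_def]; group
    have hx2 : x ^ 2 * y = y * x ^ 2 := hcomm _ (hsq x) y
    have e2 : c ^ 2 * (y * x ^ 2) = x ^ 2 * y := by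
      calc c ^ 2 * (y * x ^ 2) = c * (c * (y * x)) * x := by simp only [pow_two, mul_assoc]
        _ = c * x * y * x := by rw [← e1, mul_assoc c x y]
        _ = x * (c * (y * x)) := by rw [hcc x]; simp only [mul_assoc]
        _ = x ^ 2 * y := by rw [← e1, pow_two, mul_assoc]
    rw [hx2] at e2
    exact mul_eq_right.mp e2
  | one => exact one_pow 2
  | mul a b ha hb iha ihb =>
    have hac : Commute a b := hcomm a (by rw [commutator_eq_closure]; exact ha) b
    rw [hac.mul_pow, iha, ihb, one_mul]
  | inv a ha iha => rw [inv_pow, iha, inv_one]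

theorem card_commutator_ne_two [Finite G] (δ : MulAut G) (hδ : ∀ g : G, δ g = g → g = 1) :
    Nat.card (commutator G) ≠ 2 := by
  intro h
  obtain ⟨y, hy1, hyu⟩ := (Nat.card_eq_two_iff' (1 : commutator G)).mp h
  have hmem : δ y.1 ∈ commutator G :=
    (Subgroup.characteristic_iff_le_comap.mp inferInstance δ) y.2
  have hne : (⟨δ y.1, hmem⟩ : commutator G) ≠ 1 := by
    intro h1
    have h2 : δ y.1 = 1 := congrArg Subtype.val h1
    rw [← map_one δ] at h2
    exact hy1 (Subtype.ext (δ.injective h2))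
  have := hyu _ hne
  have h3 : δ y.1 = y.1 := congrArg Subtype.val this
  exact hy1 (Subtype.ext (hδ _ h3))


theorem pow_three_mem_zpowers {H : Type*} [Group H] (φ h : H) (h9 : φ ^ 9 = 1)
    (hh : h ∈ Subgroup.zpowers φ) (h1 : h ≠ 1) : φ ^ 3 ∈ Subgroup.zpowers h := by
  obtain ⟨k, hkk⟩ := hh
  have hkk' : φ ^ k = h := hkk
  subst hkk'
  have hk : φ ^ k = φ ^ (k % 9).toNat := by
    have h2 : φ ^ k = φ ^ (k % 9) := by
      conv_lhs => rw [← Int.emod_add_mul_ediv k 9]
      rw [zpow_add, zpow_mul]
      have : φ ^ (9 : ℤ) = 1 := by exact_mod_cast h9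
      rw [this, one_zpow, mul_one]
    rw [h2]
    have hnn : 0 ≤ k % 9 := Int.emod_nonneg k (by norm_num)
    conv_lhs => rw [← Int.toNat_of_nonneg hnn]
    exact zpow_natCast φ _
  have hlt : (k % 9).toNat < 9 := by
    have := Int.emod_lt_of_pos k (show (0 : ℤ) < 9 by norm_num)
    omega
  rw [hk] at h1 ⊢
  generalize (k % 9).toNat = r at hlt h1
  have key : ∀ m : ℕ, r * m % 9 = 3 → φ ^ 3 ∈ Subgroup.zpowers (φ ^ r) := by
    intro m hm
    refine ⟨(m : ℤ), ?_⟩
    show (φ ^ r) ^ (m : ℤ) = φ ^ 3
    rw [zpow_natCast, ← pow_mul, ← Nat.mod_add_div (r * m) 9, hm, pow_add, pow_mul, h9, one_pow,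
      mul_one]
  interval_cases r
  · exact absurd (pow_zero φ) h1
  · exact key 3 rfl
  · exact key 6 rfl
  · exact key 1 rfl
  · exact key 3 rfl
  · exact key 6 rfl
  · exact key 2 rfl
  · exact key 3 rfl
  · exact key 6 rfl

theorem card_mod_nine {V : Type*} [Group V] [Finite V] [Nontrivial V] (φ : MulAut V)
    (h9 : φ ^ 9 = 1) (hfix : ∀ v : V, (φ ^ 3) v = v → v = 1) : Nat.card V % 9 = 1 := by
  classical
  have h3ne : φ ^ 3 ≠ 1 := by
    intro h
    obtain ⟨v, hv⟩ := exists_ne (1 : V)
    exact hv (hfix v (by rw [h]; rfl))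
  have hord : orderOf φ = 9 := by
    have hd : orderOf φ ∣ 3 ^ 2 := orderOf_dvd_of_pow_eq_one h9
    obtain ⟨k, hk, hk2⟩ := (Nat.dvd_prime_pow Nat.prime_three).mp hd
    interval_cases k
    · exfalso; apply h3ne
      rw [pow_zero, orderOf_eq_one_iff] at hk2
      rw [hk2, one_pow]
    · exfalso; apply h3ne
      rw [pow_one] at hk2
      rw [← hk2]; exact pow_orderOf_eq_one φ
    · exact hk2
  have hH : Nat.card (Subgroup.zpowers φ) = 9 := by rw [Nat.card_zpowers, hord]
  have _ : Fintype V := Fintype.ofFinite V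
  have _ : Fintype (Subgroup.zpowers φ) := Fintype.ofFinite _
  have hfixed : ∀ h : Subgroup.zpowers φ, h ≠ 1 → ∀ v : V, h • v = v → v = 1 := by
    intro h hne v hv
    have h1 : (h : MulAut V) ≠ 1 := fun e => hne (Subtype.ext e)
    have hmem := pow_three_mem_zpowers φ h.1 h9 h.2 h1
    apply hfix
    have hst : Subgroup.zpowers (h : MulAut V) ≤ MulAction.stabilizer (MulAut V) v := by
      rw [Subgroup.zpowers_le]
      exact hv
    exact hst hmem
  have hB := MulAction.sum_card_fixedBy_eq_card_orbits_mul_card_group (Subgroup.zpowers φ) V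
  have hsum : (∑ g : Subgroup.zpowers φ, Fintype.card (MulAction.fixedBy V g)) =
      ∑ g : Subgroup.zpowers φ, (1 + if g = 1 then (Fintype.card V - 1) else 0) := by
    refine Finset.sum_congr rfl fun g _ => ?_
    by_cases hg : g = 1
    · rw [if_pos hg, hg]
      have : Fintype.card (MulAction.fixedBy V (1 : Subgroup.zpowers φ)) = Fintype.card V := by
        apply Fintype.card_of_subtype (Finset.univ : Finset V)
        intro v
        simp
      rw [this]
      have : 0 < Fintype.card V := Fintype.card_pos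
      omega
    · rw [if_neg hg, add_zero]
      rw [Fintype.card_eq_one_iff]
      refine ⟨⟨1, by rw [MulAction.mem_fixedBy]; exact smul_one g⟩, ?_⟩
      rintro ⟨v, hv⟩
      exact Subtype.ext (hfixed g hg v hv)
  rw [hsum, Finset.sum_add_distrib, Finset.sum_ite_eq' Finset.univ (1 : Subgroup.zpowers φ),
    if_pos (Finset.mem_univ _), Finset.sum_const, Finset.card_univ, ← Nat.card_eq_fintype_card,
    ← Nat.card_eq_fintype_card, hH, smul_eq_mul, mul_one] at hB
  have : 0 < Nat.card V := Nat.card_pos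
  omega


/-- The induced automorphism on the abelianization, as a homomorphism. -/
noncomputable def abAut : MulAut G →* MulAut (Abelianization G) where
  toFun α := α.abelianizationCongr
  map_one' := abelianizationCongr_refl
  map_mul' α β := (abelianizationCongr_trans β α).symm

theorem abAut_of (α : MulAut G) (g : G) :
    abAut α (Abelianization.of g) = Abelianization.of (α g) := rfl

theorem eq_one_of_pow_three [Finite G] (hG : IsPGroup 2 G) (c : G) (h : c ^ 3 = 1) : c = 1 := by
  obtain ⟨k, hk⟩ := hG c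
  have hdvd : orderOf c ∣ Nat.gcd 3 (2 ^ k) :=
    Nat.dvd_gcd (orderOf_dvd_of_pow_eq_one h) (orderOf_dvd_of_pow_eq_one hk)
  have hc : Nat.gcd 3 (2 ^ k) = 1 := Nat.Coprime.pow_right k (by norm_num)
  rwa [hc, Nat.dvd_one, orderOf_eq_one_iff] at hdvd

theorem exists_elemAb [Finite G] [Nontrivial G] (hG : IsPGroup 2 G)
    (δ : MulAut G) (n : ℕ) (hn : 2 ≤ n) (hδn : δ ^ (3 ^ n) = 1)
    (hδ : ∀ g : G, δ g = g → g = 1)
    (hε : ∃ g : G, (δ ^ (3 ^ (n - 1))) g ≠ g)
    (hmin : ∀ K : Subgroup G, K ≠ ⊤ → (∀ k ∈ K, δ k ∈ K) →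
      ∀ k ∈ K, (δ ^ (3 ^ (n - 1))) k = k) :
    ∃ E : Subgroup G, IsMulCommutative E ∧ (∀ x ∈ E, x ^ 2 = 1) ∧ 8 ≤ Nat.card E := by
  obtain ⟨ε, hεd⟩ : ∃ ε : MulAut G, ε = δ ^ (3 ^ (n - 1)) := ⟨_, rfl⟩
  obtain ⟨f, hfd⟩ : ∃ f : MulAut G, f = δ ^ (3 ^ (n - 2)) := ⟨_, rfl⟩
  rw [← hεd] at hε hmin
  have hε3 : ε ^ 3 = 1 := by
    rw [hεd, ← pow_mul, ← pow_succ, show n - 1 + 1 = n by omega, hδn]
  have hf3 : f ^ 3 = ε := by
    rw [hfd, hεd, ← pow_mul, ← pow_succ, show n - 2 + 1 = n - 1 by omega]
  have hf9 : f ^ 9 = 1 := by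
    rw [show 9 = 3 * 3 from rfl, pow_mul, hf3, hε3]
  have h3 : ∀ x : G, ε (ε (ε x)) = x := by
    intro x
    have := congrArg (fun a : MulAut G => a x) hε3
    simpa [pow_succ, MulAut.mul_apply] using this
  have hcommδε : ∀ x : G, δ (ε x) = ε (δ x) := by
    intro x
    have h1 : δ * ε = ε * δ := by rw [hεd]; exact (Commute.self_pow δ _).eq
    have := congrArg (fun a : MulAut G => a x) h1
    simpa [MulAut.mul_apply] using this
  -- generation
  have hgen : Subgroup.closure {x : G | ∃ g : G, x = g * (ε g)⁻¹} = ⊤ := by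
    by_contra hK
    have hinv : ∀ k ∈ Subgroup.closure {x : G | ∃ g : G, x = g * (ε g)⁻¹},
        δ k ∈ Subgroup.closure {x : G | ∃ g : G, x = g * (ε g)⁻¹} := by
      intro k hk
      induction hk using Subgroup.closure_induction with
      | mem x hx =>
        obtain ⟨g, rfl⟩ := hx
        apply Subgroup.subset_closure
        refine ⟨δ g, ?_⟩
        rw [map_mul, map_inv, hcommδε]
      | one => rw [map_one]; exact Subgroup.one_mem _
      | mul a b _ _ iha ihb => rw [map_mul]; exact Subgroup.mul_mem _ iha ihb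
      | inv a _ iha => rw [map_inv]; exact Subgroup.inv_mem _ iha
    have hfixK := hmin _ hK hinv
    obtain ⟨g, hg⟩ := hε
    apply hg
    have hcm : g * (ε g)⁻¹ ∈ Subgroup.closure {x : G | ∃ g : G, x = g * (ε g)⁻¹} :=
      Subgroup.subset_closure ⟨g, rfl⟩
    have e1 := hfixK _ hcm
    have e2 : ε (ε (g * (ε g)⁻¹)) = g * (ε g)⁻¹ := by rw [e1, e1]
    have e3 : g * (ε g)⁻¹ * ε (g * (ε g)⁻¹) * ε (ε (g * (ε g)⁻¹)) = 1 := by
      simp only [map_mul, map_inv, h3]
      group
    rw [e2, e1, ← pow_two, ← pow_succ] at e3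
    have := eq_one_of_pow_three hG _ e3
    rw [mul_inv_eq_one] at this
    exact this.symm
  have hchar : ∀ K : Subgroup G, K.Characteristic → K ≠ ⊤ → ∀ k ∈ K, ε k = k := by
    intro K hKc hK
    exact hmin K hK (fun k hk => (Subgroup.characteristic_iff_le_comap.mp hKc δ) hk)
  have hfratne : frattini G ≠ ⊤ := Cfsg.Agent.H2.MaxInv.frattini_ne_top
  have hcommne : commutator G ≠ ⊤ := by
    intro h
    apply hfratne
    rw [eq_top_iff, ← h]
    exact Cfsg.Agent.H1.commutator_le_frattini hG
  have hfrat : ∀ c ∈ frattini G, ε c = c := hchar _ inferInstance hfratne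
  have hcommfix : ∀ c ∈ commutator G, ε c = c := hchar _ inferInstance hcommne
  have hcen : commutator G ≤ Subgroup.center G := le_center_of_fixed ε hgen _ hcommfix
  have hsq : ∀ g : G, g ^ 2 ∈ commutator G := sq_mem_commutator hG ε hε3 hgen hfrat
  have hexp : ∀ c ∈ commutator G, c ^ 2 = 1 := commutator_sq_eq_one hcen hsq
  have hcomm : ∀ z ∈ commutator G, ∀ x : G, z * x = x * z := fun z hz x =>
    ((Subgroup.mem_center_iff.mp (hcen hz)) x).symm
  have hcmem : ∀ a b : G, ⁅a, b⁆ ∈ commutator G := fun a b =>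
    Subgroup.commutator_mem_commutator (Subgroup.mem_top a) (Subgroup.mem_top b)
  -- the quotient
  have hidx1 : (commutator G).index ≠ 1 := fun h => hcommne (Subgroup.index_eq_one.mp h)
  have hVcard : Nat.card (Abelianization G) = (commutator G).index :=
    (Subgroup.index_eq_card _).symm
  have hVnt : Nontrivial (Abelianization G) := by
    rw [← Finite.one_lt_card_iff_nontrivial, hVcard]
    have : (commutator G).index ≠ 0 := Subgroup.index_ne_zero_of_finite
    omega
  have hmod : Nat.card (Abelianization G) % 9 = 1 := by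
    apply card_mod_nine (abAut f)
    · rw [← map_pow, hf9, map_one]
    · intro v hv
      rw [← map_pow, hf3] at hv
      induction v using QuotientGroup.induction_on with | _ g => ?_
      have hg := ab_fixed_mem_commutator hG ε hε3 hgen g hv
      exact (QuotientGroup.eq_one_iff g).mpr hg
  have hV : IsPGroup 2 (Abelianization G) := hG.to_quotient (commutator G)
  obtain ⟨k, hk⟩ := IsPGroup.iff_card.mp hV
  have hk6 : 6 ≤ k := by
    by_contra hlt
    have hlt' : k < 6 := by omega
    rw [hk] at hmod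
    rw [hVcard] at hk
    interval_cases k <;> omega
  have hidx : 64 ≤ (commutator G).index := by
    rw [← hVcard, hk]
    calc 64 = 2 ^ 6 := by norm_num
      _ ≤ 2 ^ k := Nat.pow_le_pow_right (by norm_num) hk6
  have hG' : IsPGroup 2 (commutator G) := hG.to_subgroup _
  obtain ⟨j, hj⟩ := IsPGroup.iff_card.mp hG'
  have hj1 : j ≠ 1 := by
    intro h
    rw [h, pow_one] at hj
    exact card_commutator_ne_two δ hδ hj
  rcases Nat.lt_or_ge j 3 with hj3 | hj3
  · interval_cases j
    · -- commutator trivial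
      rw [pow_zero] at hj
      have hbot : commutator G = ⊥ := Subgroup.eq_bot_of_card_eq _ hj
      refine ⟨⊤, ⟨⟨fun a b => Subtype.ext ?_⟩⟩, ?_, ?_⟩
      · have := hcmem a.1 b.1
        rw [hbot, Subgroup.mem_bot, commutatorElement_eq_one_iff_mul_comm] at this
        exact this
      · intro x _
        have := hsq x
        rwa [hbot, Subgroup.mem_bot] at this
      · rw [Subgroup.card_top, ← Subgroup.card_mul_index (commutator G), hj, one_mul]
        omega
    · exact absurd rfl hj1
    · -- order 4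
      obtain ⟨g, hgZ, hg2⟩ := QuadZero.exists_involution_of_central (commutator G) hcen hexp hsq
        hcmem (by rw [hj]; norm_num) (by omega)
      have hE : IsMulCommutative (Subgroup.closure ((commutator G : Set G) ∪ {g})) := by
        apply Subgroup.isMulCommutative_closure
        intro x hx y hy
        rcases hx with hx | hx
        · exact hcomm x hx y
        · rcases hy with hy | hy
          · exact (hcomm y hy x).symm
          · rw [Set.mem_singleton_iff] at hx hy
            rw [hx, hy]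
      refine ⟨Subgroup.closure ((commutator G : Set G) ∪ {g}), hE, ?_, ?_⟩
      · intro x hx
        induction hx using Subgroup.closure_induction with
        | mem x hx =>
          rcases hx with hx | hx
          · exact hexp x hx
          · rw [Set.mem_singleton_iff] at hx
            rw [hx, hg2]
        | one => exact one_pow 2
        | mul a b ha hb iha ihb =>
          have hab : Commute a b := by
            have := hE.is_comm.comm ⟨a, ha⟩ ⟨b, hb⟩
            exact congrArg Subtype.val this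
          rw [hab.mul_pow, iha, ihb, one_mul]
        | inv a _ iha => rw [inv_pow, iha, inv_one]
      · have hle : commutator G ≤ Subgroup.closure ((commutator G : Set G) ∪ {g}) := by
          intro x hx
          exact Subgroup.subset_closure (Or.inl hx)
        have hgE : g ∈ Subgroup.closure ((commutator G : Set G) ∪ {g}) :=
          Subgroup.subset_closure (Or.inr rfl)
        have hdvd := Subgroup.card_dvd_of_le hle
        rw [hj] at hdvd
        have hne : Nat.card (Subgroup.closure ((commutator G : Set G) ∪ {g})) ≠ 4 := by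
          intro h4
          have := Subgroup.eq_of_le_of_card_ge hle (by rw [h4, hj]; norm_num)
          apply hgZ
          rw [this]
          exact hgE
        have hpos : 0 < Nat.card (Subgroup.closure ((commutator G : Set G) ∪ {g})) :=
          Nat.card_pos
        obtain ⟨t, ht⟩ := hdvd
        have h22 : (2 : ℕ) ^ 2 = 4 := by norm_num
        rw [h22] at ht
        omega
  · refine ⟨commutator G, ⟨⟨fun a b => Subtype.ext (hcomm a.1 a.2 b.1)⟩⟩, hexp, ?_⟩
    rw [hj]
    calc 8 = 2 ^ 3 := by norm_num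
      _ ≤ 2 ^ j := Nat.pow_le_pow_right (by norm_num) hj3

end Cfsg.Agent.H2.FpfThree
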