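import Mathlib
import Cfsg.Agent.H2.FrobComplPQ
import Cfsg.Agent.H1.FrobeniusDominance
import Cfsg.Agent.Lib.Helper4.FrobThm
import Cfsg.Agent.S0037
import Cfsg.Agent.S0039

/-!
# All Frobenius complements of a finite group are conjugate
-/

namespace Cfsg.Agent.H2.FCConj

open scoped Pointwise

/-- data of a Frobenius group: kernel `N` with fixed-point-free action of `H` -/
theorem exists_kernel {G : Type*} [Group G] [Finite G] (H : Subgroup G)
    (hH : Cfsg.IsFrobeniusComplement H) :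
    ∃ N : Subgroup G, N.Normal ∧ Subgroup.IsComplement' N H ∧ N ≠ ⊥ ∧
      ∀ h ∈ H, h ≠ 1 → N ⊓ Subgroup.centralizer {h} = ⊥ := by
  obtain ⟨N, -, hNn, hNc⟩ := Cfsg.Agent.Lib.Helper4.FrobThm.frobenius_theorem H hH
  have hNbot : N ≠ ⊥ := by
    rintro rfl
    have h1 := hNc.card_mul_card
    rw [Subgroup.card_bot, one_mul] at h1
    exact hH.2.1 (Subgroup.card_eq_iff_eq_top H |>.mp h1)
  haveI := hNn
  exact ⟨N, hNn, hNc, hNbot, (Cfsg.Agent.S0039.result N H hNc hNbot hH.1).mp hH⟩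

/-- a Frobenius complement cannot be a Frobenius group -/
theorem not_frobenius_of_complement {G : Type*} [Group G] [Finite G] (H : Subgroup G)
    (hH : Cfsg.IsFrobeniusComplement H) (C : Subgroup H) (hC : Cfsg.IsFrobeniusComplement C) :
    False := by
  obtain ⟨N, hNn, hNc, hNbot, hfpf⟩ := exists_kernel H hH
  obtain ⟨M, hMn, hMc, hMbot, hfpfM⟩ := exists_kernel C hC
  haveI := hNn
  haveI := hMn
  -- an element c of prime order q in C
  have hCcard : Nat.card C ≠ 1 := by rw [Ne, Subgroup.card_eq_one]; exact hC.1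
  obtain ⟨q, hq, hqC⟩ := Nat.exists_prime_and_dvd hCcard
  haveI : Fact q.Prime := ⟨hq⟩
  obtain ⟨c, hc⟩ := exists_prime_orderOf_dvd_card' q hqC
  have hc' : orderOf (c : H) = q := by rw [Subgroup.orderOf_coe]; exact hc
  have hc1 : (c : H) ≠ 1 := by
    intro h; rw [h, orderOf_one] at hc'; exact hq.one_lt.ne hc'
  have hMcard : Nat.card M ≠ 1 := by rw [Ne, Subgroup.card_eq_one]; exact hMbot
  obtain ⟨p, hp, hpM⟩ := Nat.exists_prime_and_dvd hMcard
  haveI : Fact p.Prime := ⟨hp⟩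
  -- q does not divide |M|
  have hqM : ¬ q ∣ Nat.card M :=
    Cfsg.Agent.H2.FCS.not_dvd_card_of_fpf M q (c : H) (by rw [← hc', pow_orderOf_eq_one])
      (hfpfM c c.2 hc1)
  have hpq : p ≠ q := by rintro rfl; exact hqM hpM
  -- a c-invariant Sylow p-subgroup of M
  have hcop : (Nat.card (Subgroup.zpowers (c : H))).Coprime (Nat.card M) := by
    rw [Nat.card_zpowers, hc']
    exact (Nat.Prime.coprime_iff_not_dvd hq).mpr hqM
  have hsolv : Group.IsSolvable (Subgroup.zpowers (c : H)) :=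
    Group.isSolvable_of_comm (fun a b => mul_comm' a b)
  have hAM : Subgroup.zpowers (c : H) ≤ Subgroup.normalizer (M : Set H) := by
    rw [Subgroup.normalizer_eq_top]; exact le_top
  obtain ⟨P, hP⟩ := Cfsg.Agent.S0023.result (Subgroup.zpowers (c : H)) M hAM hcop (Or.inl hsolv) p
  obtain ⟨P', hP'⟩ : ∃ P' : Subgroup H, P' = (P : Subgroup M).map M.subtype := ⟨_, rfl⟩
  rw [← hP'] at hP
  have hP'M : P' ≤ M := hP' ▸ Subgroup.map_subtype_le _
  have hP'p : IsPGroup p P' := hP' ▸ P.isPGroup'.map _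
  -- an element z of order p in P'
  have hpP' : p ∣ Nat.card P' := by
    rw [hP', Subgroup.card_map_of_injective M.subtype_injective, P.card_eq_multiplicity]
    exact dvd_pow_self p (hp.factorization_pos_of_dvd Nat.card_pos.ne' hpM).ne'
  obtain ⟨z, hz⟩ := exists_prime_orderOf_dvd_card' p hpP'
  have hz' : orderOf (z : H) = p := by rw [Subgroup.orderOf_coe]; exact hz
  have hz1 : (z : H) ≠ 1 := by
    intro h; rw [h, orderOf_one] at hz'; exact hp.one_lt.ne hz'
  -- c z c⁻¹ ∈ P'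
  have hczP' : (c : H) * (z : H) * (c : H)⁻¹ ∈ P' := by
    have h1 := hP (Subgroup.mem_zpowers (c : H))
    exact (Subgroup.mem_normalizer_iff.mp h1 (z : H)).mp z.2
  -- a Sylow p-subgroup S of H containing P'
  obtain ⟨S, hS⟩ := hP'p.exists_le_sylow
  have huniq := Cfsg.Agent.H2.FCS.huniq_of_fpf N H hNbot hfpf p S
  -- the two subgroups of order p
  have hzS : (z : H) ∈ (S : Subgroup H) := hS z.2
  have hczS : (c : H) * (z : H) * (c : H)⁻¹ ∈ (S : Subgroup H) := hS hczP'
  have hcz_ord : orderOf ((c : H) * (z : H) * (c : H)⁻¹) = p := by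
    have : (c : H) * (z : H) * (c : H)⁻¹ = MulAut.conj (c : H) (z : H) := by simp
    rw [this, MulEquiv.orderOf_eq, hz']
  have hU : Nat.card (Subgroup.zpowers (⟨(z : H), hzS⟩ : (S : Subgroup H))) = p := by
    rw [Nat.card_zpowers, Subgroup.orderOf_mk, hz']
  have hV : Nat.card (Subgroup.zpowers
      (⟨(c : H) * (z : H) * (c : H)⁻¹, hczS⟩ : (S : Subgroup H))) = p := by
    rw [Nat.card_zpowers, Subgroup.orderOf_mk, hcz_ord]
  have hUV := huniq _ _ hU hV
  have hczz : (c : H) * (z : H) * (c : H)⁻¹ ∈ Subgroup.zpowers (z : H) := by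
    have h1 : (⟨(c : H) * (z : H) * (c : H)⁻¹, hczS⟩ : (S : Subgroup H)) ∈
        Subgroup.zpowers (⟨(z : H), hzS⟩ : (S : Subgroup H)) := by
      rw [hUV]; exact Subgroup.mem_zpowers _
    obtain ⟨k, hk⟩ := Subgroup.mem_zpowers_iff.mp h1
    exact Subgroup.mem_zpowers_iff.mpr ⟨k, by
      have := congrArg Subtype.val hk
      simpa using this⟩
  -- ⟨c⟩ normalizes ⟨z⟩
  have hnorm : Subgroup.zpowers (c : H) ≤
      Subgroup.normalizer (Subgroup.zpowers (z : H) : Set H) := by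
    rw [Subgroup.zpowers_le]
    apply Subgroup.mem_normalizer_fintype
    intro n hn
    obtain ⟨k, rfl⟩ := Subgroup.mem_zpowers_iff.mp hn
    have e : (c : H) * (z : H) ^ k * (c : H)⁻¹ = ((c : H) * (z : H) * (c : H)⁻¹) ^ k := by
      have := map_zpow (MulAut.conj (c : H)) (z : H) k
      simpa using this
    change (c : H) * (z : H) ^ k * (c : H)⁻¹ ∈ Subgroup.zpowers (z : H)
    rw [e]
    exact Subgroup.zpow_mem _ hczz k
  have hAcard : Nat.card (Subgroup.zpowers (c : H) ⊔ Subgroup.zpowers (z : H) : Subgroup H)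
      = q * p := by
    have h1 := Cfsg.Agent.H1.card_sup_mul_card_inf _ _ hnorm
    have h2 : Subgroup.zpowers (c : H) ⊓ Subgroup.zpowers (z : H) = ⊥ := by
      apply (Subgroup.disjoint_of_coprime_natCard _).eq_bot
      rw [Nat.card_zpowers, Nat.card_zpowers, hc', hz']
      exact (Nat.coprime_primes hq hp).mpr (Ne.symm hpq)
    rw [h2, Subgroup.card_bot, mul_one, Nat.card_zpowers, Nat.card_zpowers, hc', hz'] at h1
    exact h1
  -- the subgroup A of G of order q p is cyclic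
  obtain ⟨A, hA⟩ : ∃ A : Subgroup H, A = Subgroup.zpowers (c : H) ⊔ Subgroup.zpowers (z : H) :=
    ⟨_, rfl⟩
  rw [← hA] at hAcard
  have hfpf' : ∀ a ∈ A.map H.subtype, a ≠ 1 → N ⊓ Subgroup.centralizer {a} = ⊥ := by
    intro a ha ha1
    obtain ⟨b, _, rfl⟩ := Subgroup.mem_map.mp ha
    exact hfpf _ b.2 ha1
  have hcard : Nat.card (A.map H.subtype) = q * p := by
    rw [Subgroup.card_map_of_injective H.subtype_injective, hAcard]
  have hcyc' := Cfsg.Agent.H2.FCPQ.isCyclic_of_card_pq N (A.map H.subtype) hNbot hfpf' q p hq hp hcard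
  haveI hcyc : IsCyclic A := (A.equivMapOfInjective _ H.subtype_injective).isCyclic.mpr hcyc'
  have hcomm : (c : H) * (z : H) = (z : H) * (c : H) := by
    have hc_mem : (c : H) ∈ A := hA ▸ Subgroup.mem_sup_left (Subgroup.mem_zpowers _)
    have hz_mem : (z : H) ∈ A := hA ▸ Subgroup.mem_sup_right (Subgroup.mem_zpowers _)
    letI : CommGroup A := IsCyclic.commGroup
    have := mul_comm (⟨(c : H), hc_mem⟩ : A) ⟨(z : H), hz_mem⟩
    exact congrArg Subtype.val this
  -- contradiction with the fixed-point-free action of C on M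
  have hzM : (z : H) ∈ M ⊓ Subgroup.centralizer {(c : H)} :=
    Subgroup.mem_inf.mpr ⟨hP'M z.2, Subgroup.mem_centralizer_singleton_iff.mpr hcomm.symm⟩
  rw [hfpfM c c.2 hc1, Subgroup.mem_bot] at hzM
  exact hz1 hzM

/-- nested Frobenius complements coincide -/
theorem eq_of_le {G : Type*} [Group G] [Finite G] (H₁ H : Subgroup G)
    (h₁ : Cfsg.IsFrobeniusComplement H₁) (h : Cfsg.IsFrobeniusComplement H) (hle : H₁ ≤ H) :
    H₁ = H := by
  by_contra hne
  have hnle : ¬ H ≤ H₁ := fun h' => hne (le_antisymm hle h')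
  have h1 : ∃ a ∈ H, a ∈ H₁ ∧ a ≠ 1 := by
    obtain ⟨a, ha⟩ := (Subgroup.ne_bot_iff_exists_ne_one).mp h₁.1
    exact ⟨(a : G), hle a.2, a.2, fun h0 => ha (Subtype.ext h0)⟩
  have hC := Cfsg.Agent.H1.isFrobeniusComplement_subgroupOf H₁ h₁ H h1 hnle
  exact not_frobenius_of_complement H h (H₁.subgroupOf H) hC

/-- **All Frobenius complements are conjugate.** -/
theorem conj_complements {G : Type*} [Group G] [Finite G] (H H₀ : Subgroup G)
    (hH : Cfsg.IsFrobeniusComplement H) (hH₀ : Cfsg.IsFrobeniusComplement H₀) :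
    ∃ g : G, MulAut.conj g • H₀ = H := by
  rcases le_total (Nat.card H₀) (Nat.card H) with hle | hle
  · obtain ⟨g, hg⟩ := Cfsg.Agent.S0037.result H H₀ hH hH₀ hle
    exact ⟨g, eq_of_le _ _ (Cfsg.Agent.H1.isFrobeniusComplement_conj H₀ hH₀ g) hH hg⟩
  · obtain ⟨g, hg⟩ := Cfsg.Agent.S0037.result H₀ H hH₀ hH hle
    have := eq_of_le _ _ (Cfsg.Agent.H1.isFrobeniusComplement_conj H hH g) hH₀ hg
    refine ⟨g⁻¹, ?_⟩
    rw [← this, ← mul_smul, ← map_mul, inv_mul_cancel, map_one, one_smul]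

end Cfsg.Agent.H2.FCConj
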