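import Mathlib

/-!
# Abelian groups of odd order with a quaternion action have square order

(author: helper2)

If `A` is a finite abelian group of odd order with endomorphisms `i`, `j` such that
`i² = j² = -1` and `i j = - j i`, then `|A|` is a perfect square.
-/

set_option autoImplicit false

namespace Cfsg.Agent.H2.QuatAct

universe u

section elem

variable {A : Type*} [Group A] (hcomm : ∀ a b : A, a * b = b * a) (fi fj : A →* A)
  (hi : ∀ a, fi (fi a) = a⁻¹) (hj : ∀ a, fj (fj a) = a⁻¹)
  (hij : ∀ a, fi (fj a) = (fj (fi a))⁻¹)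

include hcomm in
theorem mul_pow' (a b : A) (n : ℕ) : (a * b) ^ n = a ^ n * b ^ n :=
  (show Commute a b from hcomm a b).mul_pow n

/-- the operator `x i + y i j` -/
def uMap (x y : ℕ) : A →* A :=
  MonoidHom.mk' (fun a => (fi a) ^ x * (fi (fj a)) ^ y) (by
    intro a b
    simp only [map_mul, mul_pow' hcomm]
    rw [mul_assoc, mul_assoc]
    congr 1
    rw [← mul_assoc, ← mul_assoc, hcomm ((fi b) ^ x)])

theorem uMap_apply (x y : ℕ) (a : A) :
    uMap hcomm fi fj x y a = (fi a) ^ x * (fi (fj a)) ^ y := rfl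

include hj hij in
theorem fj_fi_fj (a : A) : fj (fi (fj a)) = fi a := by
  have h := hij (fj a)
  rw [hj, map_inv] at h
  exact (inv_injective h).symm

include hi hij in
theorem fi_fj_fi (a : A) : fi (fj (fi a)) = fj a := by
  have h := hij (fi a)
  rw [hi, map_inv, inv_inv] at h
  exact h

include hi hj hij in
theorem uMap_uMap (x y : ℕ) (a : A) :
    uMap hcomm fi fj x y (uMap hcomm fi fj x y a) = (a ^ (x * x + y * y))⁻¹ := by
  have h1 : fi (uMap hcomm fi fj x y a) = (a⁻¹) ^ x * ((fj a)⁻¹) ^ y := by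
    rw [uMap_apply, map_mul, map_pow, map_pow, hi, hi]
  have h2 : fj (uMap hcomm fi fj x y a) = (fj (fi a)) ^ x * (fi a) ^ y := by
    rw [uMap_apply, map_mul, map_pow, map_pow, fj_fi_fj fi fj hj hij]
  have h3 : fi (fj (uMap hcomm fi fj x y a)) = (fj a) ^ x * (a⁻¹) ^ y := by
    rw [h2, map_mul, map_pow, map_pow, fi_fj_fi fi fj hi hij, hi]
  rw [uMap_apply (a := uMap hcomm fi fj x y a), h1, h3, mul_pow' hcomm, mul_pow' hcomm,
    ← pow_mul, ← pow_mul, ← pow_mul, ← pow_mul, inv_pow, inv_pow, inv_pow, pow_add]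
  have e1 : y * x = x * y := Nat.mul_comm y x
  rw [e1]
  have e2 : ∀ s t v w : A, s⁻¹ * t⁻¹ * (t * w⁻¹) = (s * w)⁻¹ := by
    intro s t v w
    rw [mul_inv_rev, hcomm w⁻¹ s⁻¹]; group
  exact e2 _ _ 1 _

include hj hij in
theorem uMap_fj (x y : ℕ) (a : A) :
    uMap hcomm fi fj x y (fj a) = (fj (uMap hcomm fi fj x y a))⁻¹ := by
  have h2 : fj (uMap hcomm fi fj x y a) = (fj (fi a)) ^ x * (fi a) ^ y := by
    rw [uMap_apply, map_mul, map_pow, map_pow, fj_fi_fj fi fj hj hij]
  rw [h2, uMap_apply, hj, map_inv, mul_inv_rev, hcomm, ← inv_pow, ← inv_pow, ← hij]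

end elem

section count

variable {A : Type*} [Group A] [Finite A] (hcomm : ∀ a b : A, a * b = b * a) (fi fj : A →* A)
  (hi : ∀ a, fi (fi a) = a⁻¹) (hj : ∀ a, fj (fj a) = a⁻¹)
  (hij : ∀ a, fi (fj a) = (fj (fi a))⁻¹)

include hcomm hi hj hij in
/-- the elementary abelian case -/
theorem card_sq_of_exponent (r : ℕ) [Fact r.Prime] (hodd : Odd (Nat.card A))
    (hexp : ∀ a : A, a ^ r = 1) : IsSquare (Nat.card A) := by
  obtain ⟨x, y, k, -, -, hk⟩ := Int.exists_sq_add_sq_add_one_eq_mul r
  obtain ⟨u, hu⟩ : ∃ u : A →* A, u = uMap hcomm fi fj x y := ⟨_, rfl⟩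
  have huu : ∀ a, u (u a) = a := by
    intro a
    rw [hu, uMap_uMap hcomm fi fj hi hj hij]
    apply inv_eq_of_mul_eq_one_left
    rw [← pow_succ']
    have : x * x + y * y + 1 = r * k := by rw [← pow_two, ← pow_two, hk, mul_comm]
    rw [this, pow_mul, hexp, one_pow]
  have hfu : ∀ a, u (fj a) = (fj (u a))⁻¹ := by
    intro a; rw [hu]; exact uMap_fj hcomm fi fj hj hij x y a
  -- the two eigenspaces
  obtain ⟨fm, hfm⟩ : ∃ f : A →* A, ∀ a, f a = u a * a⁻¹ :=
    ⟨MonoidHom.mk' (fun a => u a * a⁻¹) (by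
      intro a b
      rw [map_mul, mul_inv_rev, hcomm b⁻¹ a⁻¹, mul_assoc, mul_assoc]
      congr 1
      rw [← mul_assoc, ← mul_assoc, hcomm (u b)]), fun a => rfl⟩
  obtain ⟨fp, hfp⟩ : ∃ f : A →* A, ∀ a, f a = u a * a :=
    ⟨MonoidHom.mk' (fun a => u a * a) (by
      intro a b
      rw [map_mul, mul_assoc, mul_assoc]
      congr 1
      rw [← mul_assoc, ← mul_assoc, hcomm (u b)]), fun a => rfl⟩
  have hP : ∀ a, a ∈ fm.ker ↔ u a = a := by
    intro a
    rw [MonoidHom.mem_ker, hfm, mul_inv_eq_one]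
  have hM : ∀ a, a ∈ fp.ker ↔ u a = a⁻¹ := by
    intro a
    rw [MonoidHom.mem_ker, hfp, mul_eq_one_iff_eq_inv]
  have hrange : fm.range = fp.ker := by
    ext b
    rw [hM]
    constructor
    · rintro ⟨a, rfl⟩
      rw [hfm, map_mul, map_inv, huu, mul_inv_rev, inv_inv, hcomm]
    · intro hb
      obtain ⟨m, hm⟩ := hodd
      refine ⟨b ^ m, ?_⟩
      rw [hfm, map_pow, hb, inv_pow, ← mul_inv_rev, ← pow_add, ← two_mul]
      apply inv_eq_of_mul_eq_one_left
      rw [← pow_succ', ← hm]
      exact pow_card_eq_one'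
  have hcard : Nat.card A = Nat.card fm.ker * Nat.card fp.ker := by
    rw [← hrange, ← Subgroup.index_ker, Subgroup.card_mul_index]
  have hfj_inj : Function.Injective fj := by
    intro a b hab
    have := congrArg fj hab
    rw [hj, hj] at this
    exact inv_injective this
  have h1 : Nat.card fm.ker ≤ Nat.card fp.ker := by
    apply Nat.card_le_card_of_injective
      (fun a : fm.ker => (⟨fj a, by
        rw [hM, hfu, (hP a).mp a.2]⟩ : fp.ker))
    intro a b hab
    exact Subtype.ext (hfj_inj (congrArg Subtype.val hab))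
  have h2 : Nat.card fp.ker ≤ Nat.card fm.ker := by
    apply Nat.card_le_card_of_injective
      (fun a : fp.ker => (⟨fj a, by
        rw [hP, hfu, (hM a).mp a.2, map_inv, inv_inv]⟩ : fm.ker))
    intro a b hab
    exact Subtype.ext (hfj_inj (congrArg Subtype.val hab))
  exact ⟨Nat.card fm.ker, by rw [hcard, le_antisymm h2 h1]⟩

end count

/-- **Main theorem.** -/
theorem card_isSquare : ∀ n : ℕ, ∀ (A : Type u) [Group A] [Finite A],
    (∀ a b : A, a * b = b * a) → Nat.card A ≤ n → Odd (Nat.card A) →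
    ∀ fi fj : A →* A, (∀ a, fi (fi a) = a⁻¹) → (∀ a, fj (fj a) = a⁻¹) →
      (∀ a, fi (fj a) = (fj (fi a))⁻¹) → IsSquare (Nat.card A) := by
  intro n
  induction n with
  | zero =>
    intro A _ _ _ hc
    exfalso
    have := Nat.card_pos (α := A)
    omega
  | succ n ih =>
    intro A _ _ hcomm hcard hodd fi fj hi hj hij
    by_cases h1 : Nat.card A = 1
    · exact ⟨1, by rw [h1]⟩
    obtain ⟨r, hr, hrA⟩ := Nat.exists_prime_and_dvd h1
    have : Fact r.Prime := ⟨hr⟩
    obtain ⟨π, hπ⟩ : ∃ f : A →* A, ∀ a, f a = a ^ r :=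
      ⟨MonoidHom.mk' (fun a => a ^ r) (fun a b => mul_pow' hcomm a b r), fun a => rfl⟩
    have hKR : Nat.card π.ker * Nat.card π.range = Nat.card A := by
      rw [← Subgroup.index_ker, Subgroup.card_mul_index]
    by_cases hK : π.ker = ⊤
    · apply card_sq_of_exponent hcomm fi fj hi hj hij r hodd
      intro a
      have : a ∈ π.ker := hK ▸ Subgroup.mem_top a
      rwa [MonoidHom.mem_ker, hπ] at this
    · -- both kernel and range are proper
      have hK1 : 1 < Nat.card π.ker := by
        obtain ⟨g, hg⟩ := exists_prime_orderOf_dvd_card' r hrA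
        have hgK : g ∈ π.ker := by
          rw [MonoidHom.mem_ker, hπ, ← hg]; exact pow_orderOf_eq_one g
        have hg1 : g ≠ 1 := by
          intro h; rw [h, orderOf_one] at hg; exact hr.one_lt.ne hg
        rw [Subgroup.one_lt_card_iff_ne_bot]
        intro hbot
        rw [hbot] at hgK
        exact hg1 (Subgroup.mem_bot.mp hgK)
      have hKlt : Nat.card π.ker < Nat.card A := by
        by_contra h
        exact hK (Subgroup.eq_top_of_le_card _ (not_lt.mp h))
      have hRlt : Nat.card π.range < Nat.card A := by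
        have hRpos : 0 < Nat.card π.range := Nat.card_pos
        nlinarith
      have hKodd : Odd (Nat.card π.ker) :=
        Odd.of_dvd_nat hodd (Subgroup.card_subgroup_dvd_card _)
      have hRodd : Odd (Nat.card π.range) :=
        Odd.of_dvd_nat hodd (Subgroup.card_subgroup_dvd_card _)
      have hiK : ∀ a : π.ker, fi a ∈ π.ker := by
        intro a
        have ha := a.2
        rw [MonoidHom.mem_ker, hπ] at ha ⊢
        rw [← map_pow, ha, map_one]
      have hjK : ∀ a : π.ker, fj a ∈ π.ker := by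
        intro a
        have ha := a.2
        rw [MonoidHom.mem_ker, hπ] at ha ⊢
        rw [← map_pow, ha, map_one]
      have hiR : ∀ a : π.range, fi a ∈ π.range := by
        rintro ⟨_, b, rfl⟩
        refine ⟨fi b, ?_⟩
        show π (fi b) = fi (π b)
        rw [hπ, hπ, map_pow]
      have hjR : ∀ a : π.range, fj a ∈ π.range := by
        rintro ⟨_, b, rfl⟩
        refine ⟨fj b, ?_⟩
        show π (fj b) = fj (π b)
        rw [hπ, hπ, map_pow]
      have hsqK : IsSquare (Nat.card π.ker) := by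
        apply ih π.ker (fun a b => Subtype.ext (hcomm a b)) (by omega) hKodd
          ((fi.domRestrict π.ker).codRestrict π.ker hiK) ((fj.domRestrict π.ker).codRestrict π.ker hjK)
        · intro a; apply Subtype.ext; exact hi (a : A)
        · intro a; apply Subtype.ext; exact hj (a : A)
        · intro a; apply Subtype.ext; exact hij (a : A)
      have hsqR : IsSquare (Nat.card π.range) := by
        apply ih π.range (fun a b => Subtype.ext (hcomm a b)) (by omega) hRodd
          ((fi.domRestrict π.range).codRestrict π.range hiR)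
          ((fj.domRestrict π.range).codRestrict π.range hjR)
        · intro a; apply Subtype.ext; exact hi (a : A)
        · intro a; apply Subtype.ext; exact hj (a : A)
        · intro a; apply Subtype.ext; exact hij (a : A)
      rw [← hKR]
      exact hsqK.mul hsqR

end Cfsg.Agent.H2.QuatAct
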