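import Mathlib
import Cfsg.Prelude.Def_CaseTheorems
import Cfsg.Agent.H2.IndexTwoAbelian
import Cfsg.Agent.H1.Card
import Cfsg.Agent.Lib.Helper5.DihedralRecog

/-!
# Wreathed 2-groups `Z_{2^n} ≀ Z_2`

(author: helper2)
-/

set_option autoImplicit false

namespace Cfsg.Agent.H2.Wreathed

open Cfsg.Agent.H2
open scoped commutatorElement

universe u

/-- in a group with an abelian subgroup of index two, the centre of a non-commutative subgroup is
central in the whole group -/
theorem center_le_of_not_comm {S : Type*} [Group S] (M : Subgroup S) (hidx : M.index = 2)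
    (hM : ∀ a ∈ M, ∀ b ∈ M, a * b = b * a) (X : Subgroup S) (hX : ¬ IsMulCommutative X) :
    (Subgroup.center X).map X.subtype ≤ Subgroup.center S := by
  rintro _ ⟨w, hw, rfl⟩
  have hwc : ∀ a ∈ X, (w : S) * a = a * (w : S) := by
    intro a ha
    have := Subgroup.mem_center_iff.mp hw ⟨a, ha⟩
    have h2 := congrArg Subtype.val this
    simpa using h2.symm
  obtain ⟨t, htX, htM⟩ : ∃ t ∈ X, t ∉ M := by
    by_contra hcon
    push_neg at hcon
    apply hX
    rw [isMulCommutative_iff]
    intro a b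
    apply Subtype.ext
    exact hM a (hcon a a.2) b (hcon b b.2)
  by_cases hwM : (w : S) ∈ M
  · rw [Subgroup.mem_center_iff]
    intro g
    by_cases hg : g ∈ M
    · exact hM g hg w hwM
    · have h1 : t⁻¹ * g ∈ M := IdxTwo.mem_of_not_mem M hidx htM hg
      have h2 := hM _ h1 _ hwM
      have h3 := hwc t htX
      calc g * (w : S) = t * ((t⁻¹ * g) * (w : S)) := by group
        _ = t * ((w : S) * (t⁻¹ * g)) := by rw [h2]
        _ = ((w : S) * t) * (t⁻¹ * g) := by rw [h3]; group
        _ = (w : S) * g := by group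
  · exfalso
    apply hX
    rw [isMulCommutative_iff]
    have hdec : ∀ a : X, ∃ a₀ : S, a₀ ∈ M ∧ a₀ ∈ X ∧ ((a : S) = a₀ ∨ (a : S) = (w : S) * a₀) := by
      intro a
      by_cases ha : (a : S) ∈ M
      · exact ⟨a, ha, a.2, Or.inl rfl⟩
      · refine ⟨(w : S)⁻¹ * a, IdxTwo.mem_of_not_mem M hidx hwM ha,
          X.mul_mem (X.inv_mem w.2) a.2, Or.inr (by group)⟩
    intro a b
    apply Subtype.ext
    rw [Subgroup.coe_mul, Subgroup.coe_mul]
    obtain ⟨a₀, ha₀M, ha₀X, ha⟩ := hdec a
    obtain ⟨b₀, hb₀M, hb₀X, hb⟩ := hdec b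
    have h1 : Commute a₀ b₀ := hM a₀ ha₀M b₀ hb₀M
    have h2 : Commute (w : S) a₀ := hwc a₀ ha₀X
    have h3 : Commute (w : S) b₀ := hwc b₀ hb₀X
    rcases ha with ha | ha <;> rcases hb with hb | hb <;> rw [ha, hb]
    · exact h1.eq
    · exact (h2.symm.mul_right h1).eq
    · exact (h3.mul_left h1).eq
    · exact (((Commute.refl (w : S)).mul_right h3).mul_left (h2.symm.mul_right h1)).eq

section data

variable {S : Type u} [Group S] [Finite S] (n : ℕ) (hn : 2 ≤ n)
  (hcard : Nat.card S = 2 ^ (2 * n + 1))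
  (x y z : S) (hx : orderOf x = 2 ^ n) (hxy : x * y = y * x)
  (hint : Subgroup.zpowers x ⊓ Subgroup.zpowers y = ⊥)
  (hz : orderOf z = 2) (hzx : z * x * z⁻¹ = y)

include hz in
omit [Finite S] in
theorem zz : z * z = 1 := by
  have := pow_orderOf_eq_one z
  rw [hz, pow_two] at this
  exact this

include hz hzx in
omit [Finite S] in
theorem conj_y : z * y * z⁻¹ = x := by
  rw [← hzx]
  calc z * (z * x * z⁻¹) * z⁻¹ = (z * z) * x * (z * z)⁻¹ := by group
    _ = x := by rw [zz z hz]; group

include hx hzx in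
omit [Finite S] in
theorem orderOf_y : orderOf y = 2 ^ n := by
  rw [← hzx, ← hx]
  have := (MulAut.conj z).orderOf_eq x
  simpa using this

include hint in
omit [Finite S] in
/-- `⟨x⟩ ∩ ⟨y⟩ = 1` on elements -/
theorem eq_one_of_mem (g : S) (h1 : g ∈ Subgroup.zpowers x) (h2 : g ∈ Subgroup.zpowers y) :
    g = 1 := by
  have : g ∈ Subgroup.zpowers x ⊓ Subgroup.zpowers y := Subgroup.mem_inf.mpr ⟨h1, h2⟩
  rw [hint, Subgroup.mem_bot] at this
  exact this

include hn hx in
omit [Finite S] in
theorem x_ne_one : x ≠ 1 := by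
  intro h
  rw [h, orderOf_one] at hx
  have : 2 ^ 1 ≤ 2 ^ n := Nat.pow_le_pow_right (by norm_num) (by omega)
  omega

include hn hx hint hzx in
omit [Finite S] in
theorem x_ne_y : y ≠ x := by
  intro h
  apply x_ne_one n hn x hx
  apply eq_one_of_mem x y hint x (Subgroup.mem_zpowers x)
  rw [← h]; exact Subgroup.mem_zpowers y

/-- the abelian maximal subgroup -/
def Mab (x y : S) : Subgroup S := Subgroup.zpowers x ⊔ Subgroup.zpowers y

omit [Finite S] in
theorem x_mem : x ∈ Mab x y := (le_sup_left : Subgroup.zpowers x ≤ Mab x y) (Subgroup.mem_zpowers x)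

omit [Finite S] in
theorem y_mem : y ∈ Mab x y :=
  (le_sup_right : Subgroup.zpowers y ≤ Mab x y) (Subgroup.mem_zpowers y)

include hxy in
omit [Finite S] in
theorem Mab_comm : ∀ a ∈ Mab x y, ∀ b ∈ Mab x y, a * b = b * a := by
  have h1 : ∀ a ∈ Mab x y, a * x = x * a ∧ a * y = y * a := by
    intro a ha
    have hle : Mab x y ≤ Subgroup.centralizer ({x, y} : Set S) := by
      apply sup_le
      · rw [Subgroup.zpowers_le, Subgroup.mem_centralizer_iff]
        rintro g (rfl | hg)
        · rfl
        · rw [Set.mem_singleton_iff] at hg; rw [hg]; exact hxy.symm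
      · rw [Subgroup.zpowers_le, Subgroup.mem_centralizer_iff]
        rintro g (rfl | hg)
        · exact hxy
        · rw [Set.mem_singleton_iff] at hg; rw [hg]
    have h2 := Subgroup.mem_centralizer_iff.mp (hle ha)
    exact ⟨(h2 x (by simp)).symm, (h2 y (by simp)).symm⟩
  intro a ha b hb
  have hle : Mab x y ≤ Subgroup.centralizer ({a} : Set S) := by
    apply sup_le
    · rw [Subgroup.zpowers_le, Subgroup.mem_centralizer_singleton_iff]
      exact ((h1 a ha).1).symm
    · rw [Subgroup.zpowers_le, Subgroup.mem_centralizer_singleton_iff]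
      exact ((h1 a ha).2).symm
  have := Subgroup.mem_centralizer_singleton_iff.mp (hle hb)
  exact this.symm

include hx hxy hint hzx in
theorem card_Mab : Nat.card (Mab x y) = 2 ^ (2 * n) := by
  have hle : Subgroup.zpowers x ≤ Subgroup.normalizer (Subgroup.zpowers y : Set S) := by
    refine le_trans ?_ (Subgroup.centralizer_le_normalizer _)
    rw [Subgroup.zpowers_le, Subgroup.mem_centralizer_iff]
    intro h hh
    obtain ⟨k, rfl⟩ := Subgroup.mem_zpowers_iff.mp hh
    have hc : Commute x y := hxy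
    exact (hc.zpow_right k).symm.eq
  have h1 := Cfsg.Agent.H1.card_sup_mul_card_inf _ _ hle
  rw [hint, Subgroup.card_bot, mul_one, Nat.card_zpowers, Nat.card_zpowers, hx,
    orderOf_y n x y z hx hzx, ← pow_add, ← two_mul] at h1
  exact h1

include hx hxy hint hzx hcard in
theorem index_Mab : (Mab x y).index = 2 := by
  have h1 := (Mab x y).card_mul_index
  rw [card_Mab n x y z hx hxy hint hzx, hcard, pow_succ] at h1
  exact Nat.eq_of_mul_eq_mul_left (by positivity) h1

include hn hx hxy hint hzx in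
omit [Finite S] in
theorem z_not_mem : z ∉ Mab x y := by
  intro h
  apply x_ne_y n hn x y z hx hint hzx
  have h1 := Mab_comm x y hxy z h x (x_mem x y)
  rw [← hzx, h1, mul_inv_cancel_right]

include hn hcard hx hxy hint hz hzx in
/-- the commutator subgroup is cyclic, generated by `y x⁻¹` -/
theorem commutator_eq : commutator S = Subgroup.zpowers (y * x⁻¹) := by
  have hidx := index_Mab n hcard x y z hx hxy hint hzx
  have hMab := Mab_comm x y hxy
  have hzM := z_not_mem n hn x y z hx hxy hint hzx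
  have hN : (Mab x y).Normal := Subgroup.normal_of_index_eq_two hidx
  apply le_antisymm
  · intro g hg
    obtain ⟨u, hu, rfl⟩ := (IdxTwo.mem_commutator_iff _ hidx hMab z hzM g).mp hg
    have hle : Mab x y ≤ ((Subgroup.zpowers (y * x⁻¹)).comap
        (IdxTwo.phi (Mab x y) hN hMab z)).map (Mab x y).subtype := by
      apply sup_le
      · rw [Subgroup.zpowers_le]
        refine ⟨⟨x, x_mem x y⟩, ?_, rfl⟩
        rw [SetLike.mem_coe, Subgroup.mem_comap, IdxTwo.phi_apply]
        change z * x * z⁻¹ * x⁻¹ ∈ _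
        rw [hzx]
        exact Subgroup.mem_zpowers _
      · rw [Subgroup.zpowers_le]
        refine ⟨⟨y, y_mem x y⟩, ?_, rfl⟩
        rw [SetLike.mem_coe, Subgroup.mem_comap, IdxTwo.phi_apply]
        change z * y * z⁻¹ * y⁻¹ ∈ _
        rw [conj_y x y z hz hzx]
        have : x * y⁻¹ = (y * x⁻¹)⁻¹ := by group
        rw [this]
        exact Subgroup.inv_mem _ (Subgroup.mem_zpowers _)
    obtain ⟨u', hu', hu'u⟩ := hle hu
    rw [SetLike.mem_coe, Subgroup.mem_comap, IdxTwo.phi_apply] at hu'
    have : (u' : S) = u := hu'u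
    rw [this] at hu'
    exact hu'
  · rw [Subgroup.zpowers_le]
    exact (IdxTwo.mem_commutator_iff _ hidx hMab z hzM _).mpr ⟨x, x_mem x y, by rw [hzx]⟩

include hint in
omit [Finite S] in
theorem pow_eq_one_of_pow_eq (i j : ℕ) (h : x ^ i = y ^ j) : x ^ i = 1 ∧ y ^ j = 1 := by
  have h1 : x ^ i = 1 := eq_one_of_mem x y hint _ (Subgroup.pow_mem _ (Subgroup.mem_zpowers x) i)
    (h ▸ Subgroup.pow_mem _ (Subgroup.mem_zpowers y) j)
  exact ⟨h1, h ▸ h1⟩

include hx hxy hint hzx in
theorem orderOf_c : orderOf (y * x⁻¹) = 2 ^ n := by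
  have hc : Commute y x⁻¹ := (Commute.inv_right (show Commute y x from hxy.symm))
  have hy := orderOf_y n x y z hx hzx
  apply Nat.dvd_antisymm
  · apply orderOf_dvd_of_pow_eq_one
    rw [hc.mul_pow, inv_pow, ← hx, pow_orderOf_eq_one, hx, ← hy, pow_orderOf_eq_one]
    group
  · have h1 := pow_orderOf_eq_one (y * x⁻¹)
    rw [hc.mul_pow, inv_pow, mul_inv_eq_one] at h1
    have h2 := (pow_eq_one_of_pow_eq x y hint _ _ h1.symm).1
    rw [← hx]
    exact orderOf_dvd_of_pow_eq_one h2

include hx hxy hint hzx in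
theorem orderOf_xy : orderOf (x * y) = 2 ^ n := by
  have hc : Commute x y := hxy
  have hy := orderOf_y n x y z hx hzx
  apply Nat.dvd_antisymm
  · apply orderOf_dvd_of_pow_eq_one
    rw [hc.mul_pow, ← hx, pow_orderOf_eq_one, hx, ← hy, pow_orderOf_eq_one, one_mul]
  · have h1 := pow_orderOf_eq_one (x * y)
    rw [hc.mul_pow, mul_eq_one_iff_eq_inv] at h1
    have h3 : x ^ orderOf (x * y) ∈ Subgroup.zpowers y := by
      rw [h1]; exact Subgroup.inv_mem _ (Subgroup.pow_mem _ (Subgroup.mem_zpowers y) _)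
    have h2 := eq_one_of_mem x y hint _ (Subgroup.pow_mem _ (Subgroup.mem_zpowers x) _) h3
    rw [← hx]
    exact orderOf_dvd_of_pow_eq_one h2

include hn hcard hx hxy hint hz hzx in
theorem xy_mem_center : x * y ∈ Subgroup.center S := by
  have hidx := index_Mab n hcard x y z hx hxy hint hzx
  have hMab := Mab_comm x y hxy
  have hzM := z_not_mem n hn x y z hx hxy hint hzx
  have hxyM : x * y ∈ Mab x y := Subgroup.mul_mem _ (x_mem x y) (y_mem x y)
  have hzxy : z * (x * y) = (x * y) * z := by
    calc z * (x * y) = (z * x * z⁻¹) * (z * y * z⁻¹) * z := by group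
      _ = (x * y) * z := by rw [hzx, conj_y x y z hz hzx, hxy]
  rw [Subgroup.mem_center_iff]
  intro g
  by_cases hg : g ∈ Mab x y
  · exact hMab g hg _ hxyM
  · have h1 : z⁻¹ * g ∈ Mab x y := IdxTwo.mem_of_not_mem _ hidx hzM hg
    have h2 := hMab _ h1 _ hxyM
    calc g * (x * y) = z * ((z⁻¹ * g) * (x * y)) := by group
      _ = z * ((x * y) * (z⁻¹ * g)) := by rw [h2]
      _ = (z * (x * y)) * (z⁻¹ * g) := by group
      _ = ((x * y) * z) * (z⁻¹ * g) := by rw [hzxy]
      _ = (x * y) * g := by group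

include hn hcard hx hxy hint hz hzx in
/-- the centre is cyclic of order `2 ^ n`, generated by `x y` -/
theorem center_eq : Subgroup.center S = Subgroup.zpowers (x * y) := by
  have hidx := index_Mab n hcard x y z hx hxy hint hzx
  have hMab := Mab_comm x y hxy
  have hzM := z_not_mem n hn x y z hx hxy hint hzx
  have hN : (Mab x y).Normal := Subgroup.normal_of_index_eq_two hidx
  symm
  apply Subgroup.eq_of_le_of_card_ge
  · rw [Subgroup.zpowers_le]
    exact xy_mem_center n hn hcard x y z hx hxy hint hz hzx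
  · rw [Nat.card_zpowers, orderOf_xy n x y z hx hxy hint hzx]
    obtain ⟨φ, hφ⟩ : ∃ φ : Mab x y →* S, φ = IdxTwo.phi (Mab x y) hN hMab z := ⟨_, rfl⟩
    have hker : Nat.card φ.ker = 2 ^ n := by
      have h1 := Subgroup.card_eq_card_quotient_mul_card_subgroup φ.ker
      have h2 : Nat.card (Mab x y ⧸ φ.ker) = Nat.card φ.range :=
        Nat.card_congr (QuotientGroup.quotientKerEquivRange φ).toEquiv
      have h3 : Nat.card φ.range = 2 ^ n := by
        rw [hφ, ← IdxTwo.commutator_eq_range _ hidx hMab z hzM,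
          commutator_eq n hn hcard x y z hx hxy hint hz hzx, Nat.card_zpowers,
          orderOf_c n x y z hx hxy hint hzx]
      rw [h2, h3, card_Mab n x y z hx hxy hint hzx, two_mul, pow_add] at h1
      exact (Nat.eq_of_mul_eq_mul_left (by positivity) h1).symm
    have hle : Subgroup.center S ≤ φ.ker.map (Mab x y).subtype := by
      intro w hw
      have hwM : w ∈ Mab x y := by
        by_contra hwM
        have h1 : ⁅w, x⁆ = z * x * z⁻¹ * x⁻¹ :=
          IdxTwo.comm_eq_of_not_mem _ hidx hMab z hzM hwM (x_mem x y)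
        have h2 : ⁅w, x⁆ = 1 := by
          rw [commutatorElement_eq_one_iff_mul_comm]
          exact (Subgroup.mem_center_iff.mp hw x).symm
        rw [h2, hzx] at h1
        apply x_ne_y n hn x y z hx hint hzx
        calc y = (y * x⁻¹) * x := by group
          _ = x := by rw [← h1, one_mul]
      refine ⟨⟨w, hwM⟩, ?_, rfl⟩
      rw [SetLike.mem_coe, MonoidHom.mem_ker, hφ, IdxTwo.phi_apply]
      change z * w * z⁻¹ * w⁻¹ = 1
      rw [Subgroup.mem_center_iff.mp hw z, mul_inv_cancel_right, mul_inv_cancel]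
    have h4 := Subgroup.card_le_of_le hle
    rw [Subgroup.card_map_of_injective (Subgroup.subtype_injective _), hker] at h4
    exact h4

include hn hcard hx hxy hint hz hzx in
/-- the central quotient is dihedral of order `2 ^ (n + 1)` -/
theorem center_quotient_dihedral :
    Nonempty (S ⧸ Subgroup.center S ≃* DihedralGroup (2 ^ n)) := by
  have hidx := index_Mab n hcard x y z hx hxy hint hzx
  have hMab := Mab_comm x y hxy
  have hzM := z_not_mem n hn x y z hx hxy hint hzx
  have hcen := center_eq n hn hcard x y z hx hxy hint hz hzx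
  have hcenM : Subgroup.center S ≤ Mab x y := by
    rw [hcen, Subgroup.zpowers_le]
    exact Subgroup.mul_mem _ (x_mem x y) (y_mem x y)
  have hQcard : Nat.card (S ⧸ Subgroup.center S) = 2 * 2 ^ n := by
    have h1 := Subgroup.card_eq_card_quotient_mul_card_subgroup (Subgroup.center S)
    have hcc : Nat.card (Subgroup.center S) = 2 ^ n := by
      rw [hcen, Nat.card_zpowers, orderOf_xy n x y z hx hxy hint hzx]
    rw [hcard, hcc] at h1
    have h2 : 2 ^ (2 * n + 1) = (2 * 2 ^ n) * 2 ^ n := by
      rw [pow_succ, two_mul, pow_add]; ring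
    rw [h2] at h1
    exact (Nat.eq_of_mul_eq_mul_right (by positivity) h1).symm
  have hzxM : z * x ∉ Mab x y := by
    intro h
    apply hzM
    have : z = (z * x) * x⁻¹ := by group
    rw [this]
    exact Subgroup.mul_mem _ h (Subgroup.inv_mem _ (x_mem x y))
  have hzz := zz z hz
  apply Cfsg.Agent.Lib.Helper5.DihedralRecog.dihedral_of_involutions (2 ^ n) hQcard
    (QuotientGroup.mk z) (QuotientGroup.mk (z * x))
  · apply orderOf_eq_prime
    · rw [← QuotientGroup.mk_pow, QuotientGroup.eq_one_iff, pow_two, hzz]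
      exact Subgroup.one_mem _
    · rw [Ne, QuotientGroup.eq_one_iff]
      exact fun h => hzM (hcenM h)
  · apply orderOf_eq_prime
    · rw [← QuotientGroup.mk_pow, QuotientGroup.eq_one_iff, pow_two]
      have : (z * x) * (z * x) = x * y := by
        calc (z * x) * (z * x) = (z * x * z⁻¹) * (z * z) * x := by group
          _ = x * y := by rw [hzx, hzz, mul_one, hxy]
      rw [this]
      exact xy_mem_center n hn hcard x y z hx hxy hint hz hzx
    · rw [Ne, QuotientGroup.eq_one_iff]
      exact fun h => hzxM (hcenM h)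
  · intro h
    rw [QuotientGroup.eq] at h
    have h1 : x ∈ Subgroup.center S := by
      have : z⁻¹ * (z * x) = x := by group
      rw [this] at h; exact h
    apply x_ne_y n hn x y z hx hint hzx
    rw [← hzx, Subgroup.mem_center_iff.mp h1 z, mul_inv_cancel_right]
  · have h1 : (QuotientGroup.mk z : S ⧸ Subgroup.center S) * QuotientGroup.mk (z * x) =
        QuotientGroup.mk x := by
      rw [← QuotientGroup.mk_mul, ← mul_assoc, hzz, one_mul]
    rw [h1]
    obtain ⟨o, ho⟩ : ∃ o, o = orderOf (QuotientGroup.mk x : S ⧸ Subgroup.center S) := ⟨_, rfl⟩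
    rw [← ho]
    have h2 : (QuotientGroup.mk x : S ⧸ Subgroup.center S) ^ o = 1 := by
      rw [ho]; exact pow_orderOf_eq_one _
    rw [← QuotientGroup.mk_pow, QuotientGroup.eq_one_iff, hcen] at h2
    obtain ⟨j, hj⟩ := Submonoid.mem_powers_iff _ _ |>.mp
      ((isOfFinOrder_of_finite (x * y)).mem_powers_iff_mem_zpowers.mpr h2)
    have hc : Commute x y := hxy
    rw [hc.mul_pow] at hj
    -- `y ^ j = x ^ o * (x ^ j)⁻¹ ∈ ⟨x⟩`
    have h3 : y ^ j ∈ Subgroup.zpowers x := by
      have : y ^ j = (x ^ j)⁻¹ * x ^ o := by rw [← hj]; group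
      rw [this]
      exact Subgroup.mul_mem _ (Subgroup.inv_mem _ (Subgroup.pow_mem _ (Subgroup.mem_zpowers x) _))
        (Subgroup.pow_mem _ (Subgroup.mem_zpowers x) _)
    have h4 : y ^ j = 1 :=
      eq_one_of_mem x y hint _ h3 (Subgroup.pow_mem _ (Subgroup.mem_zpowers y) _)
    have h5 : 2 ^ n ∣ j := by
      rw [← orderOf_y n x y z hx hzx]; exact orderOf_dvd_of_pow_eq_one h4
    have h6 : x ^ j = 1 := by
      rw [← hx] at h5; exact orderOf_dvd_iff_pow_eq_one.mp h5
    rw [h4, h6, one_mul] at hj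
    rw [← hx]
    exact orderOf_dvd_of_pow_eq_one hj.symm

end data

end Cfsg.Agent.H2.Wreathed
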