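import Mathlib
import Cfsg.Agent.H2.Wreathed

/-!
# Involutions of wreathed 2-groups

(author: helper2)
-/

set_option autoImplicit false

namespace Cfsg.Agent.H2.Wreathed

open Cfsg.Agent.H2
open scoped commutatorElement Pointwise

universe u

/-- a subgroup containing the commutator subgroup is normal -/
theorem normal_of_commutator_le {S : Type*} [Group S] (H : Subgroup S)
    (h : commutator S ≤ H) : H.Normal := by
  constructor
  intro t ht g
  have h1 : g * t * g⁻¹ = ⁅g, t⁆ * t := by rw [commutatorElement_def]; group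
  rw [h1]
  apply H.mul_mem _ ht
  apply h
  rw [commutator_def]
  exact Subgroup.commutator_mem_commutator (Subgroup.mem_top g) (Subgroup.mem_top t)

theorem mem_zpowers_involution {S : Type*} [Group S] (z : S) (hz : orderOf z = 2) (g : S)
    (hg : g ∈ Subgroup.zpowers z) : g = 1 ∨ g = z := by
  have hzz : z ^ 2 = 1 := by rw [← hz]; exact pow_orderOf_eq_one z
  obtain ⟨k, rfl⟩ := Subgroup.mem_zpowers_iff.mp hg
  rcases Int.even_or_odd' k with ⟨j, rfl | rfl⟩
  · left
    rw [zpow_mul, zpow_ofNat, hzz, one_zpow]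
  · right
    rw [zpow_add, zpow_mul, zpow_ofNat, hzz, one_zpow, one_mul, zpow_one]

section data

variable {S : Type u} [Group S] [Finite S] (n : ℕ) (hn : 2 ≤ n)
  (hcard : Nat.card S = 2 ^ (2 * n + 1))
  (x y z : S) (hx : orderOf x = 2 ^ n) (hxy : x * y = y * x)
  (hint : Subgroup.zpowers x ⊓ Subgroup.zpowers y = ⊥)
  (hz : orderOf z = 2) (hzx : z * x * z⁻¹ = y)

include hxy in
omit [Finite S] in
/-- elements of `Mab` are `x ^ i * y ^ j` -/
theorem mem_Mab (u : S) (hu : u ∈ Mab x y) : ∃ i j : ℤ, u = x ^ i * y ^ j := by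
  have hc : Commute x y := hxy
  let K : Subgroup S :=
    { carrier := {u | ∃ i j : ℤ, u = x ^ i * y ^ j}
      mul_mem' := by
        rintro _ _ ⟨i, j, rfl⟩ ⟨k, l, rfl⟩
        refine ⟨i + k, j + l, ?_⟩
        have h1 : Commute (y ^ j) (x ^ k) := (hc.zpow_zpow k j).symm
        calc x ^ i * y ^ j * (x ^ k * y ^ l) = x ^ i * (y ^ j * x ^ k) * y ^ l := by group
          _ = x ^ i * (x ^ k * y ^ j) * y ^ l := by rw [h1.eq]
          _ = x ^ (i + k) * y ^ (j + l) := by rw [zpow_add, zpow_add]; group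
      one_mem' := ⟨0, 0, by simp⟩
      inv_mem' := by
        rintro _ ⟨i, j, rfl⟩
        refine ⟨-i, -j, ?_⟩
        have h1 : Commute (y ^ (-j)) (x ^ (-i)) := (hc.zpow_zpow (-i) (-j)).symm
        rw [mul_inv_rev, ← zpow_neg, ← zpow_neg, h1.eq] }
  have hle : Mab x y ≤ K := by
    apply sup_le
    · rw [Subgroup.zpowers_le]; exact ⟨1, 0, by simp⟩
    · rw [Subgroup.zpowers_le]; exact ⟨0, 1, by simp⟩
  exact hle hu

include hz hzx in
omit [Finite S] in
theorem conj_xy (i j : ℤ) : z * (x ^ i * y ^ j) * z⁻¹ = y ^ i * x ^ j := by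
  have h1 : z * x ^ i * z⁻¹ = y ^ i := by rw [← conj_zpow, hzx]
  have h2 : z * y ^ j * z⁻¹ = x ^ j := by rw [← conj_zpow, conj_y x y z hz hzx]
  calc z * (x ^ i * y ^ j) * z⁻¹ = (z * x ^ i * z⁻¹) * (z * y ^ j * z⁻¹) := by group
    _ = _ := by rw [h1, h2]

include hint in
omit [Finite S] in
theorem zpow_eq_one_of_eq (i j : ℤ) (h : x ^ i = y ^ j) : x ^ i = 1 ∧ y ^ j = 1 := by
  have h1 : x ^ i = 1 := eq_one_of_mem x y hint _
    (Subgroup.zpow_mem _ (Subgroup.mem_zpowers x) i)
    (h ▸ Subgroup.zpow_mem _ (Subgroup.mem_zpowers y) j)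
  exact ⟨h1, h ▸ h1⟩

include hn hx in
omit [Finite S] in
theorem orderOf_x0 : orderOf (x ^ (2 ^ (n - 1))) = 2 := by
  apply orderOf_eq_prime
  · rw [← pow_mul, ← pow_succ]
    have : n - 1 + 1 = n := by omega
    rw [this, ← hx]; exact pow_orderOf_eq_one x
  · intro h
    have h3 := orderOf_dvd_of_pow_eq_one h
    rw [hx] at h3
    have := (Nat.pow_dvd_pow_iff_le_right (by norm_num)).mp h3
    omega

include hn hx in
/-- involutions of `⟨x⟩` -/
theorem sq_eq_one_zpowers (u : S) (hu : u ∈ Subgroup.zpowers x) (huu : u * u = 1) :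
    u = 1 ∨ u = x ^ (2 ^ (n - 1)) := by
  obtain ⟨i, hi⟩ := Submonoid.mem_powers_iff _ _ |>.mp
    ((isOfFinOrder_of_finite x).mem_powers_iff_mem_zpowers.mpr hu)
  have h1 : x ^ (2 * i) = 1 := by rw [two_mul, pow_add, hi]; exact huu
  have h2 := orderOf_dvd_of_pow_eq_one h1
  have hn1 : n = (n - 1) + 1 := by omega
  rw [hx, hn1, pow_succ'] at h2
  obtain ⟨j, rfl⟩ := Nat.dvd_of_mul_dvd_mul_left (by norm_num) h2
  rw [pow_mul] at hi
  have hz2 : x ^ (2 ^ (n - 1)) * x ^ (2 ^ (n - 1)) = 1 := by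
    have := pow_orderOf_eq_one (x ^ (2 ^ (n - 1)))
    rw [orderOf_x0 n hn x hx, pow_two] at this
    exact this
  rcases Nat.even_or_odd' j with ⟨k, rfl | rfl⟩
  · left
    rw [← hi, pow_mul, pow_two, hz2, one_pow]
  · right
    rw [← hi, pow_succ, pow_mul, pow_two, hz2, one_pow, one_mul]

/-- the subgroup generated by the involutions, described explicitly -/
def Om (n : ℕ) (x z : S) : Subgroup S :=
  Subgroup.zpowers (x ^ (2 ^ (n - 1))) ⊔ (Subgroup.zpowers z ⊔ commutator S)

include hn hcard hx hxy hint hz hzx in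
theorem commutator_le_Mab : commutator S ≤ Mab x y :=
  IdxTwo.commutator_le _ (index_Mab n hcard x y z hx hxy hint hzx) (Mab_comm x y hxy) z
    (z_not_mem n hn x y z hx hxy hint hzx)

include hn hcard hx hxy hint hz hzx in
theorem card_T : Nat.card (Subgroup.zpowers z ⊔ commutator S : Subgroup S) = 2 ^ (n + 1) := by
  have hzM := z_not_mem n hn x y z hx hxy hint hzx
  have hle : Subgroup.zpowers z ≤ Subgroup.normalizer (commutator S : Set S) := by
    rw [Subgroup.normalizer_eq_top]; exact le_top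
  have h1 := Cfsg.Agent.H1.card_sup_mul_card_inf _ _ hle
  have h2 : Subgroup.zpowers z ⊓ commutator S = ⊥ := by
    rw [eq_bot_iff]
    intro g hg
    obtain ⟨hg1, hg2⟩ := Subgroup.mem_inf.mp hg
    rcases mem_zpowers_involution z hz g hg1 with h | h
    · rw [h]; exact Subgroup.one_mem _
    · exfalso
      apply hzM
      rw [← h]
      exact commutator_le_Mab n hn hcard x y z hx hxy hint hz hzx hg2
  rw [h2, Subgroup.card_bot, mul_one, Nat.card_zpowers, hz,
    commutator_eq n hn hcard x y z hx hxy hint hz hzx, Nat.card_zpowers,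
    orderOf_c n x y z hx hxy hint hzx, ← commutator_eq n hn hcard x y z hx hxy hint hz hzx,
    ← pow_succ'] at h1
  exact h1

include hn hcard hx hxy hint hz hzx in
theorem x0_not_mem_T : x ^ (2 ^ (n - 1)) ∉ (Subgroup.zpowers z ⊔ commutator S : Subgroup S) := by
  have hzM := z_not_mem n hn x y z hx hxy hint hzx
  have hcM := commutator_le_Mab n hn hcard x y z hx hxy hint hz hzx
  intro h
  have h1 : x ^ (2 ^ (n - 1)) ∈ ((Subgroup.zpowers z ⊔ commutator S : Subgroup S) : Set S) := h
  rw [Subgroup.mul_normal] at h1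
  obtain ⟨a, ha, s, hs, has⟩ := Set.mem_mul.mp h1
  have hx0M : x ^ (2 ^ (n - 1)) ∈ Mab x y := Subgroup.pow_mem _ (x_mem x y) _
  have hs' : s ∈ commutator S := hs
  have ha1 : a = 1 := by
    rcases mem_zpowers_involution z hz a ha with h2 | h2
    · exact h2
    · exfalso
      apply hzM
      have : z = x ^ (2 ^ (n - 1)) * s⁻¹ := by rw [← has, h2]; group
      rw [this]
      exact Subgroup.mul_mem _ hx0M (Subgroup.inv_mem _ (hcM hs'))
  rw [ha1, one_mul] at has
  rw [commutator_eq n hn hcard x y z hx hxy hint hz hzx] at hs'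
  obtain ⟨k, hk⟩ := Subgroup.mem_zpowers_iff.mp hs'
  have hc : Commute y x⁻¹ := (Commute.inv_right (show Commute y x from hxy.symm))
  rw [hc.mul_zpow, inv_zpow, has] at hk
  -- `y ^ k = x₀ * x ^ k`
  have h3 : y ^ k ∈ Subgroup.zpowers x := by
    have : y ^ k = x ^ (2 ^ (n - 1)) * x ^ k := by rw [← hk]; group
    rw [this]
    exact Subgroup.mul_mem _ (Subgroup.pow_mem _ (Subgroup.mem_zpowers x) _)
      (Subgroup.zpow_mem _ (Subgroup.mem_zpowers x) _)
  have h4 : y ^ k = 1 :=
    eq_one_of_mem x y hint _ h3 (Subgroup.zpow_mem _ (Subgroup.mem_zpowers y) _)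
  have h5 : x ^ k = 1 := by
    have h6 : (orderOf y : ℤ) ∣ k := orderOf_dvd_iff_zpow_eq_one.mpr h4
    rw [orderOf_y n x y z hx hzx, ← hx] at h6
    exact orderOf_dvd_iff_zpow_eq_one.mp h6
  rw [h4, h5, inv_one, mul_one] at hk
  have := orderOf_x0 n hn x hx
  rw [← hk, orderOf_one] at this
  omega

include hn hcard hx hxy hint hz hzx in
theorem card_Om : Nat.card (Om n x z) = 2 ^ (n + 2) := by
  unfold Om
  haveI hTn : (Subgroup.zpowers z ⊔ commutator S : Subgroup S).Normal :=
    normal_of_commutator_le _ le_sup_right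
  have hle : Subgroup.zpowers (x ^ (2 ^ (n - 1))) ≤
      Subgroup.normalizer ((Subgroup.zpowers z ⊔ commutator S : Subgroup S) : Set S) := by
    rw [Subgroup.normalizer_eq_top]; exact le_top
  have h1 := Cfsg.Agent.H1.card_sup_mul_card_inf _ _ hle
  have h2 : Subgroup.zpowers (x ^ (2 ^ (n - 1))) ⊓
      (Subgroup.zpowers z ⊔ commutator S : Subgroup S) = ⊥ := by
    rw [eq_bot_iff]
    intro g hg
    obtain ⟨hg1, hg2⟩ := Subgroup.mem_inf.mp hg
    rcases mem_zpowers_involution _ (orderOf_x0 n hn x hx) g hg1 with h | h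
    · rw [h]; exact Subgroup.one_mem _
    · exfalso
      exact x0_not_mem_T n hn hcard x y z hx hxy hint hz hzx (h ▸ hg2)
  rw [h2, Subgroup.card_bot, mul_one, Nat.card_zpowers, orderOf_x0 n hn x hx,
    card_T n hn hcard x y z hx hxy hint hz hzx, ← pow_succ'] at h1
  exact h1

include hn hcard hx hxy hint hz hzx in
/-- every involution lies in `Om` -/
theorem involution_mem_Om (t : S) (ht : orderOf t = 2) : t ∈ Om n x z := by
  have hidx := index_Mab n hcard x y z hx hxy hint hzx
  have hzM := z_not_mem n hn x y z hx hxy hint hzx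
  have htt : t * t = 1 := zz t ht
  have hzz := zz z hz
  have hc : Commute x y := hxy
  have hzOm : z ∈ Om n x z :=
    (le_sup_right : _ ≤ Om n x z) ((le_sup_left : Subgroup.zpowers z ≤ _) (Subgroup.mem_zpowers z))
  have hx0Om : x ^ (2 ^ (n - 1)) ∈ Om n x z :=
    (le_sup_left : _ ≤ Om n x z) (Subgroup.mem_zpowers _)
  have hcOm : commutator S ≤ Om n x z := le_trans le_sup_right (le_sup_right : _ ≤ Om n x z)
  by_cases htM : t ∈ Mab x y
  · obtain ⟨i, j, rfl⟩ := mem_Mab x y hxy t htM
    have h1 : x ^ (i + i) = y ^ (-(j + j)) := by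
      have h2 : Commute (y ^ j) (x ^ i) := (hc.zpow_zpow i j).symm
      have h3 : x ^ (i + i) * y ^ (j + j) = 1 := by
        calc x ^ (i + i) * y ^ (j + j) = x ^ i * (x ^ i * y ^ j) * y ^ j := by
              rw [zpow_add, zpow_add]; group
          _ = x ^ i * (y ^ j * x ^ i) * y ^ j := by rw [h2.eq]
          _ = (x ^ i * y ^ j) * (x ^ i * y ^ j) := by group
          _ = 1 := htt
      rw [zpow_neg]
      exact eq_inv_of_mul_eq_one_left h3
    obtain ⟨h4, h5⟩ := zpow_eq_one_of_eq x y hint _ _ h1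
    rw [zpow_neg, inv_eq_one] at h5
    rw [zpow_add] at h4 h5
    have hxi : x ^ i ∈ Om n x z := by
      rcases sq_eq_one_zpowers n hn x hx _ (Subgroup.zpow_mem _ (Subgroup.mem_zpowers x) i) h4
        with h | h
      · rw [h]; exact Subgroup.one_mem _
      · rw [h]; exact hx0Om
    have hyj : y ^ j ∈ Om n x z := by
      have h6 : (z * y ^ j * z⁻¹) * (z * y ^ j * z⁻¹) = 1 := by
        calc (z * y ^ j * z⁻¹) * (z * y ^ j * z⁻¹) = z * (y ^ j * y ^ j) * z⁻¹ := by group
          _ = 1 := by rw [h5]; group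
      have h7 : z * y ^ j * z⁻¹ = x ^ j := by rw [← conj_zpow, conj_y x y z hz hzx]
      rw [h7] at h6
      have h8 : x ^ j ∈ Om n x z := by
        rcases sq_eq_one_zpowers n hn x hx _ (Subgroup.zpow_mem _ (Subgroup.mem_zpowers x) j) h6
          with h | h
        · rw [h]; exact Subgroup.one_mem _
        · rw [h]; exact hx0Om
      have h9 : y ^ j = z⁻¹ * x ^ j * z := by rw [← h7]; group
      rw [h9]
      exact Subgroup.mul_mem _ (Subgroup.mul_mem _ (Subgroup.inv_mem _ hzOm) h8) hzOm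
    exact Subgroup.mul_mem _ hxi hyj
  · have h1 : z⁻¹ * t ∈ Mab x y := IdxTwo.mem_of_not_mem _ hidx hzM htM
    obtain ⟨i, j, hij⟩ := mem_Mab x y hxy _ h1
    have ht' : t = z * (x ^ i * y ^ j) := by rw [← hij]; group
    have h2 : (y ^ i * x ^ j) * (x ^ i * y ^ j) = 1 := by
      rw [← conj_xy x y z hz hzx]
      calc z * (x ^ i * y ^ j) * z⁻¹ * (x ^ i * y ^ j)
          = (z * (x ^ i * y ^ j)) * (z * (x ^ i * y ^ j)) * ((x ^ i * y ^ j)⁻¹ * (z * z)⁻¹ *
              (x ^ i * y ^ j)) := by group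
        _ = 1 := by rw [← ht', htt, hzz]; group
    have h3 : x ^ (i + j) = y ^ (-(i + j)) := by
      have h4 : Commute (y ^ i) (x ^ (j + i)) := (hc.zpow_zpow (j + i) i).symm
      have h5 : x ^ (i + j) * y ^ (i + j) = 1 := by
        calc x ^ (i + j) * y ^ (i + j) = x ^ (j + i) * y ^ i * y ^ j := by
              rw [add_comm i j, zpow_add y]; group
          _ = y ^ i * x ^ (j + i) * y ^ j := by rw [h4.eq]
          _ = (y ^ i * x ^ j) * (x ^ i * y ^ j) := by rw [zpow_add]; group
          _ = 1 := h2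
      rw [zpow_neg]
      exact eq_inv_of_mul_eq_one_left h5
    obtain ⟨-, h6⟩ := zpow_eq_one_of_eq x y hint _ _ h3
    rw [zpow_neg, inv_eq_one, zpow_add] at h6
    -- `y ^ j = (y ^ i)⁻¹`
    have h7 : y ^ j = (y ^ i)⁻¹ := eq_inv_of_mul_eq_one_right h6
    have h8 : x ^ i * y ^ j = ((y * x⁻¹) ^ i)⁻¹ := by
      have hc' : Commute y x⁻¹ := (Commute.inv_right (show Commute y x from hxy.symm))
      rw [hc'.mul_zpow, h7, inv_zpow, mul_inv_rev, inv_inv]
    rw [ht', h8]
    apply Subgroup.mul_mem _ hzOm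
    apply hcOm
    rw [commutator_eq n hn hcard x y z hx hxy hint hz hzx]
    exact Subgroup.inv_mem _ (Subgroup.zpow_mem _ (Subgroup.mem_zpowers _) _)

include hn hcard hx hxy hint hz hzx in
/-- the involutions generate `Om` -/
theorem closure_involutions : Subgroup.closure {t : S | orderOf t = 2} = Om n x z := by
  have hidx := index_Mab n hcard x y z hx hxy hint hzx
  have hMab := Mab_comm x y hxy
  have hzM := z_not_mem n hn x y z hx hxy hint hzx
  have hzz := zz z hz
  apply le_antisymm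
  · rw [Subgroup.closure_le]
    intro t ht
    exact involution_mem_Om n hn hcard x y z hx hxy hint hz hzx t ht
  · unfold Om
    have hzcl : z ∈ Subgroup.closure {t : S | orderOf t = 2} := Subgroup.subset_closure hz
    apply sup_le
    · rw [Subgroup.zpowers_le]
      exact Subgroup.subset_closure (orderOf_x0 n hn x hx)
    · apply sup_le
      · rw [Subgroup.zpowers_le]; exact hzcl
      · rw [commutator_eq n hn hcard x y z hx hxy hint hz hzx, Subgroup.zpowers_le]
        -- `y x⁻¹ = z⁻¹ * (z * (y x⁻¹))`, the second factor an involution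
        have hcS : y * x⁻¹ ∈ commutator S := by
          rw [commutator_eq n hn hcard x y z hx hxy hint hz hzx]
          exact Subgroup.mem_zpowers _
        have hinv := IdxTwo.conj_eq_inv_of_mem_commutator _ hidx hMab z hzM _ hcS
        have h1 : (z * (y * x⁻¹)) * (z * (y * x⁻¹)) = 1 := by
          calc (z * (y * x⁻¹)) * (z * (y * x⁻¹))
              = (z * (y * x⁻¹) * z⁻¹) * (z * z) * (y * x⁻¹) := by group
            _ = 1 := by rw [hinv, hzz]; group
        have h2 : z * (y * x⁻¹) ≠ 1 := by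
          intro h
          apply hzM
          have : z = (y * x⁻¹)⁻¹ := eq_inv_of_mul_eq_one_left h
          rw [this]
          exact Subgroup.inv_mem _ (commutator_le_Mab n hn hcard x y z hx hxy hint hz hzx hcS)
        have h3 : orderOf (z * (y * x⁻¹)) = 2 :=
          orderOf_eq_prime (by rw [pow_two]; exact h1) h2
        have h4 : y * x⁻¹ = z⁻¹ * (z * (y * x⁻¹)) := by group
        rw [h4]
        exact Subgroup.mul_mem _ (Subgroup.inv_mem _ hzcl) (Subgroup.subset_closure h3)

include hn hcard hx hxy hint hz hzx in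
theorem Om_sup_zpowers : Om n x z ⊔ Subgroup.zpowers x = ⊤ := by
  have hidx := index_Mab n hcard x y z hx hxy hint hzx
  have hzM := z_not_mem n hn x y z hx hxy hint hzx
  have hzOm : z ∈ Om n x z ⊔ Subgroup.zpowers x :=
    (le_sup_left : Om n x z ≤ _) ((le_sup_right : _ ≤ Om n x z)
      ((le_sup_left : Subgroup.zpowers z ≤ _) (Subgroup.mem_zpowers z)))
  have hxOm : x ∈ Om n x z ⊔ Subgroup.zpowers x :=
    (le_sup_right : Subgroup.zpowers x ≤ _) (Subgroup.mem_zpowers x)
  have hcOm : y * x⁻¹ ∈ Om n x z ⊔ Subgroup.zpowers x := by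
    apply (le_sup_left : Om n x z ≤ _)
    apply (le_trans le_sup_right (le_sup_right : _ ≤ Om n x z) : commutator S ≤ Om n x z)
    rw [commutator_eq n hn hcard x y z hx hxy hint hz hzx]
    exact Subgroup.mem_zpowers _
  have hyOm : y ∈ Om n x z ⊔ Subgroup.zpowers x := by
    have : y = (y * x⁻¹) * x := by group
    rw [this]
    exact Subgroup.mul_mem _ hcOm hxOm
  have hMle : Mab x y ≤ Om n x z ⊔ Subgroup.zpowers x := by
    apply sup_le
    · rw [Subgroup.zpowers_le]; exact hxOm
    · rw [Subgroup.zpowers_le]; exact hyOm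
  rw [eq_top_iff]
  intro g _
  by_cases hg : g ∈ Mab x y
  · exact hMle hg
  · have h1 : z⁻¹ * g ∈ Mab x y := IdxTwo.mem_of_not_mem _ hidx hzM hg
    have : g = z * (z⁻¹ * g) := by group
    rw [this]
    exact Subgroup.mul_mem _ hzOm (hMle h1)

end data

end Cfsg.Agent.H2.Wreathed
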