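import Mathlib
import Cfsg.Agent.H2.WreathedOmega
import Cfsg.Agent.H2.UniqueOrderP

/-!
# The generalized quaternion subgroup of a wreathed 2-group

(author: helper2)
-/

set_option autoImplicit false

namespace Cfsg.Agent.H2.Wreathed

open Cfsg.Agent.H2
open scoped commutatorElement

universe u

/-- generators and relations extracted from an isomorphism with a generalized quaternion group -/
theorem quat_pair {S : Type*} [Group S] (m : ℕ) [NeZero m] (Y' : Subgroup S)
    (e : Y' ≃* QuaternionGroup m) :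
    ∃ a' b' : S, a' ∈ Y' ∧ b' ∈ Y' ∧ orderOf a' = 2 * m ∧ b' * b' = a' ^ m ∧
      b' * a' = a'⁻¹ * b' ∧ ∀ g ∈ Y', ∃ k : ℕ, g = a' ^ k ∨ g = b' * a' ^ k := by
  haveI : NeZero (2 * m) := ⟨by have := NeZero.ne m; omega⟩
  refine ⟨(e.symm (QuaternionGroup.a 1) : S), (e.symm (QuaternionGroup.xa 0) : S),
    (e.symm (QuaternionGroup.a 1)).2, (e.symm (QuaternionGroup.xa 0)).2, ?_, ?_, ?_, ?_⟩
  · rw [Subgroup.orderOf_coe, MulEquiv.orderOf_eq, QuaternionGroup.orderOf_a_one]
  · have h1 : (QuaternionGroup.xa 0 : QuaternionGroup m) * QuaternionGroup.xa 0 =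
        QuaternionGroup.a 1 ^ m := by
      rw [QuaternionGroup.xa_mul_xa, QuaternionGroup.a_one_pow]
      congr 1; ring
    have h2 := congrArg e.symm h1
    rw [map_mul, map_pow] at h2
    have h3 := congrArg Subtype.val h2
    rw [Subgroup.coe_mul, Subgroup.coe_pow] at h3
    exact h3
  · have hinv : (QuaternionGroup.a 1 : QuaternionGroup m)⁻¹ = QuaternionGroup.a (-1) := by
      apply inv_eq_of_mul_eq_one_right
      rw [QuaternionGroup.a_mul_a, add_neg_cancel, QuaternionGroup.a_zero]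
    have h1 : (QuaternionGroup.xa 0 : QuaternionGroup m) * QuaternionGroup.a 1 =
        (QuaternionGroup.a 1)⁻¹ * QuaternionGroup.xa 0 := by
      rw [hinv, QuaternionGroup.xa_mul_a, QuaternionGroup.a_mul_xa]
      congr 1; ring
    have h2 := congrArg e.symm h1
    rw [map_mul, map_mul, map_inv] at h2
    have h3 := congrArg Subtype.val h2
    rw [Subgroup.coe_mul, Subgroup.coe_mul, Subgroup.coe_inv] at h3
    exact h3
  · intro g hg
    have hai : ∀ i : ZMod (2 * m), (QuaternionGroup.a i : QuaternionGroup m) =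
        QuaternionGroup.a 1 ^ i.val := by
      intro i
      rw [QuaternionGroup.a_one_pow, ZMod.natCast_zmod_val]
    have hg' : (⟨g, hg⟩ : Y') = e.symm (e ⟨g, hg⟩) := (e.symm_apply_apply _).symm
    rcases h : e ⟨g, hg⟩ with i | i
    · refine ⟨i.val, Or.inl ?_⟩
      rw [h, hai i, map_pow] at hg'
      have h3 := congrArg Subtype.val hg'
      rw [Subgroup.coe_pow] at h3
      exact h3
    · refine ⟨i.val, Or.inr ?_⟩
      have h4 : (QuaternionGroup.xa i : QuaternionGroup m) =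
          QuaternionGroup.xa 0 * QuaternionGroup.a 1 ^ i.val := by
        rw [← hai i, QuaternionGroup.xa_mul_a, zero_add]
      rw [h, h4, map_mul, map_pow] at hg'
      have h3 := congrArg Subtype.val hg'
      rw [Subgroup.coe_mul, Subgroup.coe_pow] at h3
      exact h3

section data

variable {S : Type u} [Group S] [Finite S] (n : ℕ) (hn : 2 ≤ n)
  (hcard : Nat.card S = 2 ^ (2 * n + 1))
  (x y z : S) (hx : orderOf x = 2 ^ n) (hxy : x * y = y * x)
  (hint : Subgroup.zpowers x ⊓ Subgroup.zpowers y = ⊥)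
  (hz : orderOf z = 2) (hzx : z * x * z⁻¹ = y)

/-- the candidate quaternion subgroup -/
def Yq (n : ℕ) (x z : S) : Subgroup S :=
  Subgroup.zpowers (z * x ^ (2 ^ (n - 1))) ⊔ commutator S

include hn hx hxy in
omit [Finite S] in
/-- `c ^ (2 ^ (n - 1)) = y₀ x₀` -/
theorem c_pow_half : (y * x⁻¹) ^ (2 ^ (n - 1)) = y ^ (2 ^ (n - 1)) * x ^ (2 ^ (n - 1)) := by
  have hc' : Commute y x⁻¹ := (Commute.inv_right (show Commute y x from hxy.symm))
  rw [hc'.mul_pow, inv_pow]
  congr 1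
  apply inv_eq_of_mul_eq_one_right
  rw [← pow_add, ← two_mul, ← pow_succ']
  have : n - 1 + 1 = n := by omega
  rw [this, ← hx]
  exact pow_orderOf_eq_one x

include hn hcard hx hxy hint hz hzx in
/-- an element of `M` inverted by `z` lies in the commutator subgroup -/
theorem mem_commutator_of_inverted (w : S) (hw : w ∈ Mab x y) (h : (z * w * z⁻¹) * w = 1) :
    w ∈ commutator S := by
  have hc : Commute x y := hxy
  obtain ⟨i, j, rfl⟩ := mem_Mab x y hxy w hw
  rw [conj_xy x y z hz hzx] at h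
  have h3 : x ^ (i + j) = y ^ (-(i + j)) := by
    have h4 : Commute (y ^ i) (x ^ (j + i)) := (hc.zpow_zpow (j + i) i).symm
    have h5 : x ^ (i + j) * y ^ (i + j) = 1 := by
      calc x ^ (i + j) * y ^ (i + j) = x ^ (j + i) * y ^ i * y ^ j := by
            rw [add_comm i j, zpow_add y]; group
        _ = y ^ i * x ^ (j + i) * y ^ j := by rw [h4.eq]
        _ = (y ^ i * x ^ j) * (x ^ i * y ^ j) := by rw [zpow_add]; group
        _ = 1 := h
    rw [zpow_neg]
    exact eq_inv_of_mul_eq_one_left h5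
  obtain ⟨-, h6⟩ := zpow_eq_one_of_eq x y hint _ _ h3
  rw [zpow_neg, inv_eq_one, zpow_add] at h6
  have h7 : y ^ j = (y ^ i)⁻¹ := eq_inv_of_mul_eq_one_right h6
  have hc' : Commute y x⁻¹ := (Commute.inv_right (show Commute y x from hxy.symm))
  have h8 : x ^ i * y ^ j = ((y * x⁻¹) ^ i)⁻¹ := by
    rw [hc'.mul_zpow, h7, inv_zpow, mul_inv_rev, inv_inv]
  rw [h8, commutator_eq n hn hcard x y z hx hxy hint hz hzx]
  exact Subgroup.inv_mem _ (Subgroup.zpow_mem _ (Subgroup.mem_zpowers _) _)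

include hn hcard hx hxy hint hz hzx in
/-- basic relations of the generators of `Yq` -/
theorem Yq_relations :
    (z * x ^ (2 ^ (n - 1))) * (z * x ^ (2 ^ (n - 1))) = (y * x⁻¹) ^ (2 ^ (n - 1)) ∧
    (∀ v ∈ Mab x y, (z * x ^ (2 ^ (n - 1))) * v * (z * x ^ (2 ^ (n - 1)))⁻¹ = z * v * z⁻¹) ∧
    z * x ^ (2 ^ (n - 1)) ∉ Mab x y := by
  have hMab := Mab_comm x y hxy
  have hzM := z_not_mem n hn x y z hx hxy hint hzx
  have hx0M : x ^ (2 ^ (n - 1)) ∈ Mab x y := Subgroup.pow_mem _ (x_mem x y) _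
  have hzz := zz z hz
  refine ⟨?_, ?_, ?_⟩
  · rw [c_pow_half n hn x y hx hxy]
    have h1 : z * x ^ (2 ^ (n - 1)) * z⁻¹ = y ^ (2 ^ (n - 1)) := by rw [← conj_pow, hzx]
    calc (z * x ^ (2 ^ (n - 1))) * (z * x ^ (2 ^ (n - 1)))
        = (z * x ^ (2 ^ (n - 1)) * z⁻¹) * (z * z) * x ^ (2 ^ (n - 1)) := by group
      _ = _ := by rw [h1, hzz, mul_one]
  · intro v hv
    have h1 := hMab _ hx0M v hv
    calc (z * x ^ (2 ^ (n - 1))) * v * (z * x ^ (2 ^ (n - 1)))⁻¹
        = z * (x ^ (2 ^ (n - 1)) * v) * (x ^ (2 ^ (n - 1)))⁻¹ * z⁻¹ := by group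
      _ = z * (v * x ^ (2 ^ (n - 1))) * (x ^ (2 ^ (n - 1)))⁻¹ * z⁻¹ := by rw [h1]
      _ = z * v * z⁻¹ := by group
  · intro h
    apply hzM
    have : z = (z * x ^ (2 ^ (n - 1))) * (x ^ (2 ^ (n - 1)))⁻¹ := by group
    rw [this]
    exact Subgroup.mul_mem _ h (Subgroup.inv_mem _ hx0M)

include hn hcard hx hxy hint hz hzx in
/-- existence of the quaternion subgroup -/
theorem exists_quat : ∃ Y : Subgroup S, Nat.card Y = 2 ^ (n + 1) ∧
    Nonempty (Y ≃* QuaternionGroup (2 ^ (n - 1))) ∧ Yq n x z ≤ Y := by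
  have hidx := index_Mab n hcard x y z hx hxy hint hzx
  have hMab := Mab_comm x y hxy
  have hzM := z_not_mem n hn x y z hx hxy hint hzx
  obtain ⟨hb0sq, hb0conj, hb0M⟩ := Yq_relations n hn hcard x y z hx hxy hint hz hzx
  have hco := orderOf_c n x y z hx hxy hint hzx
  have hcS : y * x⁻¹ ∈ commutator S := by
    rw [commutator_eq n hn hcard x y z hx hxy hint hz hzx]
    exact Subgroup.mem_zpowers _
  have hcM : y * x⁻¹ ∈ Mab x y := commutator_le_Mab n hn hcard x y z hx hxy hint hz hzx hcS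
  have hn1 : n - 1 + 1 = n := by omega
  haveI : NeZero (2 ^ (n - 1)) := ⟨by positivity⟩
  have h1 : (y * x⁻¹) ^ (2 * 2 ^ (n - 1)) = 1 := by
    rw [← pow_succ', hn1, ← hco]; exact pow_orderOf_eq_one _
  have h3 : (y * x⁻¹) * (z * x ^ (2 ^ (n - 1))) = (z * x ^ (2 ^ (n - 1))) * (y * x⁻¹)⁻¹ := by
    have h4 := hb0conj _ (Subgroup.inv_mem _ hcM)
    have h5 := IdxTwo.conj_eq_inv_of_mem_commutator _ hidx hMab z hzM _
      (Subgroup.inv_mem _ hcS)
    rw [h5, inv_inv] at h4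
    calc (y * x⁻¹) * (z * x ^ (2 ^ (n - 1)))
        = ((z * x ^ (2 ^ (n - 1))) * (y * x⁻¹)⁻¹ * (z * x ^ (2 ^ (n - 1)))⁻¹) *
            (z * x ^ (2 ^ (n - 1))) := by rw [h4]
      _ = _ := by group
  obtain ⟨f, hfa, hfxa⟩ := UOP.quatHom (2 ^ (n - 1)) (y * x⁻¹) (z * x ^ (2 ^ (n - 1))) h1 hb0sq h3
  have hinj := UOP.quatHom_injective (2 ^ (n - 1)) _ _ f hfa hfxa
    (by rw [hco, ← pow_succ', hn1])
    (fun h => hb0M (commutator_le_Mab n hn hcard x y z hx hxy hint hz hzx (by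
      rw [commutator_eq n hn hcard x y z hx hxy hint hz hzx]; exact h)))
  refine ⟨f.range, ?_, ⟨(MonoidHom.ofInjective hinj).symm⟩, ?_⟩
  · rw [← Nat.card_congr (MonoidHom.ofInjective hinj).toEquiv,
      Nat.card_eq_fintype_card (α := QuaternionGroup (2 ^ (n - 1))), QuaternionGroup.card]
    have : n + 1 = (n - 1) + 1 + 1 := by omega
    rw [this, pow_succ, pow_succ]; ring
  · unfold Yq
    apply sup_le
    · rw [Subgroup.zpowers_le]
      refine ⟨QuaternionGroup.xa 0, ?_⟩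
      rw [hfxa, ZMod.val_zero, pow_zero, mul_one]
    · rw [commutator_eq n hn hcard x y z hx hxy hint hz hzx, Subgroup.zpowers_le]
      refine ⟨QuaternionGroup.a 1, ?_⟩
      rw [hfa]
      have : (1 : ZMod (2 * 2 ^ (n - 1))).val = 1 := by
        haveI : Fact (1 < 2 * 2 ^ (n - 1)) := ⟨by
          have : 1 ≤ 2 ^ (n - 1) := Nat.one_le_two_pow
          omega⟩
        exact ZMod.val_one _
      rw [this, pow_one]

include hn hcard hx hxy hint hz hzx in
/-- case A: a quaternion pair whose first member lies in `M` -/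
theorem pair_mem_Yq (a' b' : S) (haM : a' ∈ Mab x y) (hord : orderOf a' = 2 ^ n)
    (hinv : b' * a' = a'⁻¹ * b') (hsq : b' * b' = a' ^ (2 ^ (n - 1))) :
    a' ∈ Yq n x z ∧ b' ∈ Yq n x z := by
  have hidx := index_Mab n hcard x y z hx hxy hint hzx
  have hMab := Mab_comm x y hxy
  have hzM := z_not_mem n hn x y z hx hxy hint hzx
  have hN : (Mab x y).Normal := Subgroup.normal_of_index_eq_two hidx
  obtain ⟨hb0sq, hb0conj, hb0M⟩ := Yq_relations n hn hcard x y z hx hxy hint hz hzx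
  have hco := orderOf_c n x y z hx hxy hint hzx
  have hcomm := commutator_eq n hn hcard x y z hx hxy hint hz hzx
  have hn1 : n - 1 + 1 = n := by omega
  have h4le : 2 ^ 2 ≤ 2 ^ n := Nat.pow_le_pow_right (by norm_num) hn
  -- `b' ∉ M`
  have hbM : b' ∉ Mab x y := by
    intro hb
    have h1 := hMab b' hb a' haM
    rw [hinv] at h1
    have h2 : a' * a' = 1 := by
      have h3 : a'⁻¹ = a' := mul_right_cancel h1
      calc a' * a' = a'⁻¹ * a' := by rw [h3]
        _ = 1 := inv_mul_cancel a'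
    have h3 := orderOf_dvd_of_pow_eq_one (show a' ^ 2 = 1 by rw [pow_two]; exact h2)
    rw [hord] at h3
    have := Nat.le_of_dvd (by norm_num) h3
    omega
  -- `z` inverts `a'`
  have hza : (z * a' * z⁻¹) * a' = 1 := by
    have h1 : z⁻¹ * b' ∈ Mab x y := IdxTwo.mem_of_not_mem _ hidx hzM hbM
    have h2 := hMab _ h1 a' haM
    have h3 : b' * a' * b'⁻¹ = z * a' * z⁻¹ := by
      calc b' * a' * b'⁻¹ = z * ((z⁻¹ * b') * a') * (z⁻¹ * b')⁻¹ * z⁻¹ := by group
        _ = z * (a' * (z⁻¹ * b')) * (z⁻¹ * b')⁻¹ * z⁻¹ := by rw [h2]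
        _ = z * a' * z⁻¹ := by group
    rw [← h3, hinv]; group
  have haS : a' ∈ commutator S :=
    mem_commutator_of_inverted n hn hcard x y z hx hxy hint hz hzx a' haM hza
  have hcYq : commutator S ≤ Yq n x z := le_sup_right
  refine ⟨hcYq haS, ?_⟩
  -- `a' ^ (2 ^ (n - 1)) = c ^ (2 ^ (n - 1))`
  have hapow : a' ^ (2 ^ (n - 1)) = (y * x⁻¹) ^ (2 ^ (n - 1)) := by
    have h1 : a' ^ (2 ^ (n - 1)) * a' ^ (2 ^ (n - 1)) = 1 := by
      rw [← pow_add, ← two_mul, ← pow_succ', hn1, ← hord]; exact pow_orderOf_eq_one a'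
    have h2 : a' ^ (2 ^ (n - 1)) ∈ Subgroup.zpowers (y * x⁻¹) := by
      rw [← hcomm]; exact Subgroup.pow_mem _ haS _
    rcases sq_eq_one_zpowers n hn (y * x⁻¹) hco _ h2 h1 with h | h
    · exfalso
      have h3 := orderOf_dvd_of_pow_eq_one h
      rw [hord] at h3
      have := (Nat.pow_dvd_pow_iff_le_right (by norm_num)).mp h3
      omega
    · exact h
  -- `v = b₀⁻¹ b'` is inverted by `z`
  obtain ⟨v, hvdef⟩ : ∃ v : S, v = (z * x ^ (2 ^ (n - 1)))⁻¹ * b' := ⟨_, rfl⟩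
  have hvM : v ∈ Mab x y := by rw [hvdef]; exact IdxTwo.mem_of_not_mem _ hidx hb0M hbM
  have hb' : b' = (z * x ^ (2 ^ (n - 1))) * v := by rw [hvdef]; group
  have hcpM : (y * x⁻¹) ^ (2 ^ (n - 1)) ∈ Mab x y := by
    apply commutator_le_Mab n hn hcard x y z hx hxy hint hz hzx
    rw [hcomm]; exact Subgroup.pow_mem _ (Subgroup.mem_zpowers _) _
  have hzv : (z * v * z⁻¹) * v = 1 := by
    have h1 : b' * b' = (z * v * z⁻¹) * (y * x⁻¹) ^ (2 ^ (n - 1)) * v := by
      rw [hb', ← hb0conj v hvM, ← hb0sq]; group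
    have h2 := hMab _ (hN.conj_mem v hvM z) _ hcpM
    rw [hsq, hapow, h2, mul_assoc] at h1
    have h3 : (y * x⁻¹) ^ (2 ^ (n - 1)) * 1 =
        (y * x⁻¹) ^ (2 ^ (n - 1)) * (z * v * z⁻¹ * v) := by rw [mul_one]; exact h1
    exact (mul_left_cancel h3).symm
  have hvS : v ∈ commutator S :=
    mem_commutator_of_inverted n hn hcard x y z hx hxy hint hz hzx v hvM hzv
  rw [hb']
  exact Subgroup.mul_mem _ ((le_sup_left : _ ≤ Yq n x z) (Subgroup.mem_zpowers _)) (hcYq hvS)

include hn hcard hx hxy hint hz hzx in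
/-- the square of an element outside `M` is central -/
theorem sq_mem_center_of_not_mem (a' : S) (haM : a' ∉ Mab x y) :
    a' * a' ∈ Subgroup.center S := by
  have hidx := index_Mab n hcard x y z hx hxy hint hzx
  have hzM := z_not_mem n hn x y z hx hxy hint hzx
  have hu : z⁻¹ * a' ∈ Mab x y := IdxTwo.mem_of_not_mem _ hidx hzM haM
  obtain ⟨i, j, hij⟩ := mem_Mab x y hxy _ hu
  have hzz := zz z hz
  have hc : Commute x y := hxy
  have h1 : a' * a' = (z * (z⁻¹ * a') * z⁻¹) * (z⁻¹ * a') := by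
    calc a' * a' = a' * (z * z)⁻¹ * a' := by rw [hzz]; group
      _ = (z * (z⁻¹ * a') * z⁻¹) * (z⁻¹ * a') := by group
  rw [hij, conj_xy x y z hz hzx] at h1
  have h2 : y ^ i * x ^ j * (x ^ i * y ^ j) = (x * y) ^ (i + j) := by
    rw [hc.mul_zpow, zpow_add, zpow_add]
    have h3 : Commute (y ^ i) (x ^ j * x ^ i) := by
      rw [← zpow_add]; exact (hc.zpow_zpow (j + i) i).symm
    have h4 : Commute (x ^ i) (x ^ j) := (Commute.refl x).zpow_zpow i j
    calc y ^ i * x ^ j * (x ^ i * y ^ j) = (y ^ i * (x ^ j * x ^ i)) * y ^ j := by group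
      _ = ((x ^ j * x ^ i) * y ^ i) * y ^ j := by rw [h3.eq]
      _ = ((x ^ i * x ^ j) * y ^ i) * y ^ j := by rw [h4.eq]
      _ = x ^ i * x ^ j * (y ^ i * y ^ j) := by group
  rw [h1, h2]
  exact Subgroup.zpow_mem _ (xy_mem_center n hn hcard x y z hx hxy hint hz hzx) _

include hn hcard hx hxy hint hz hzx in
/-- case B: a quaternion pair whose first member lies outside `M` -/
theorem pair_mem_Yq_B (a' b' : S) (haM : a' ∉ Mab x y) (hord : orderOf a' = 2 ^ n)
    (hinv : b' * a' = a'⁻¹ * b') (hsq : b' * b' = a' ^ (2 ^ (n - 1))) :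
    a' ∈ Yq n x z ∧ b' ∈ Yq n x z := by
  have hidx := index_Mab n hcard x y z hx hxy hint hzx
  have hcen := sq_mem_center_of_not_mem n hn hcard x y z hx hxy hint hz hzx a' haM
  have h4 : a' ^ 4 = 1 := by
    have h1 : b' * (a' * a') = (a' * a') * b' := (Subgroup.mem_center_iff.mp hcen b')
    have h2 : b' * (a' * a') = a'⁻¹ * a'⁻¹ * b' := by
      calc b' * (a' * a') = (b' * a') * a' := by rw [mul_assoc]
        _ = (a'⁻¹ * b') * a' := by rw [hinv]
        _ = a'⁻¹ * (b' * a') := by rw [mul_assoc]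
        _ = a'⁻¹ * (a'⁻¹ * b') := by rw [hinv]
        _ = a'⁻¹ * a'⁻¹ * b' := by rw [mul_assoc]
    rw [h2] at h1
    have h3 : a'⁻¹ * a'⁻¹ = a' * a' := mul_right_cancel h1
    calc a' ^ 4 = (a' * a') * (a' * a') := by
          rw [show (4 : ℕ) = 2 + 2 by norm_num, pow_add, pow_two]
      _ = (a'⁻¹ * a'⁻¹) * (a' * a') := by rw [h3]
      _ = 1 := by group
  have hn2 : n = 2 := by
    have h5 := orderOf_dvd_of_pow_eq_one h4
    rw [hord] at h5
    have h6 : 2 ^ n ∣ 2 ^ 2 := h5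
    have := (Nat.pow_dvd_pow_iff_le_right (by norm_num)).mp h6
    omega
  have hp : 2 ^ (n - 1) = 2 := by rw [hn2]; norm_num
  rw [hp] at hsq
  have hpn : 2 ^ n = 4 := by rw [hn2]; norm_num
  have haa : a' ^ 2 ≠ 1 := by
    intro h
    have h5 := orderOf_dvd_of_pow_eq_one h
    rw [hord, hpn] at h5
    have := Nat.le_of_dvd (by norm_num) h5
    omega
  have hab : a' * b' = b'⁻¹ * a' := by
    have h1 : b'⁻¹ = b' * a' ^ 2 := by
      apply inv_eq_of_mul_eq_one_right
      rw [← mul_assoc, hsq, ← pow_add]; exact h4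
    have h2 : a' * b' = b' * a'⁻¹ := by
      calc a' * b' = a' * (b' * a') * a'⁻¹ := by group
        _ = b' * a'⁻¹ := by rw [hinv]; group
    have h3 : a'⁻¹ = a' ^ 3 := by
      apply inv_eq_of_mul_eq_one_right
      rw [← pow_succ']; exact h4
    rw [h1, h2, h3]; group
  have : Fact (Nat.Prime 2) := ⟨Nat.prime_two⟩
  by_cases hbM : b' ∈ Mab x y
  · have hbo : orderOf b' = 2 ^ n := by
      rw [hn2]
      apply orderOf_eq_prime_pow
      · rw [pow_one, pow_two, hsq]; exact haa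
      · rw [show (2 : ℕ) ^ (1 + 1) = 2 * 2 by norm_num, pow_mul, pow_two b', hsq, ← pow_mul]
        exact h4
    have := pair_mem_Yq n hn hcard x y z hx hxy hint hz hzx b' a' hbM hbo hab
      (by rw [hp, pow_two b', hsq, pow_two])
    exact ⟨this.2, this.1⟩
  · have hwM : b' * a' ∈ Mab x y := by
      have h1 : b'⁻¹ ∉ Mab x y := fun h => hbM ((Mab x y).inv_mem_iff.mp h)
      have := IdxTwo.mem_of_not_mem _ hidx h1 haM
      rwa [inv_inv] at this
    have hww : (b' * a') * (b' * a') = a' ^ 2 := by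
      calc (b' * a') * (b' * a') = b' * (a' * b') * a' := by group
        _ = b' * (b'⁻¹ * a') * a' := by rw [hab]
        _ = a' ^ 2 := by rw [pow_two]; group
    have hwo : orderOf (b' * a') = 2 ^ n := by
      rw [hn2]
      apply orderOf_eq_prime_pow
      · rw [pow_one, pow_two, hww]; exact haa
      · rw [show (2 : ℕ) ^ (1 + 1) = 2 * 2 by norm_num, pow_mul, pow_two (b' * a'), hww, ← pow_mul]
        exact h4
    have haw : a' * (b' * a') = (b' * a')⁻¹ * a' := by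
      calc a' * (b' * a') = (a' * b') * a' := by group
        _ = (b'⁻¹ * a') * a' := by rw [hab]
        _ = a'⁻¹ * (a' * b'⁻¹ * a') * a' := by group
        _ = (b' * a')⁻¹ * a' := by
          have h5 : a' * b'⁻¹ * a' = b'⁻¹ := by
            calc a' * b'⁻¹ * a' = b'⁻¹ * (b' * a') * b'⁻¹ * a' := by group
              _ = b'⁻¹ * (a'⁻¹ * b') * b'⁻¹ * a' := by rw [hinv]
              _ = b'⁻¹ := by group
          rw [h5]; group
    have := pair_mem_Yq n hn hcard x y z hx hxy hint hz hzx (b' * a') a' hwM hwo haw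
      (by rw [hp, pow_two (b' * a'), hww, pow_two])
    refine ⟨this.2, ?_⟩
    have h6 : b' = (b' * a') * a'⁻¹ := by group
    rw [h6]
    exact Subgroup.mul_mem _ this.1 (Subgroup.inv_mem _ this.2)

include hn hcard hx hxy hint hz hzx in
/-- every generalized quaternion subgroup of order `2 ^ (n + 1)` lies in `Yq` -/
theorem le_Yq_of_quat (Y' : Subgroup S) (e : Y' ≃* QuaternionGroup (2 ^ (n - 1))) :
    Y' ≤ Yq n x z := by
  haveI : NeZero (2 ^ (n - 1)) := ⟨by positivity⟩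
  obtain ⟨a', b', -, -, hord, hsq, hinv, hgen⟩ := quat_pair (2 ^ (n - 1)) Y' e
  have hn1 : n - 1 + 1 = n := by omega
  rw [← pow_succ', hn1] at hord
  have hmem : a' ∈ Yq n x z ∧ b' ∈ Yq n x z := by
    by_cases haM : a' ∈ Mab x y
    · exact pair_mem_Yq n hn hcard x y z hx hxy hint hz hzx a' b' haM hord hinv hsq
    · exact pair_mem_Yq_B n hn hcard x y z hx hxy hint hz hzx a' b' haM hord hinv hsq
  intro g hg
  obtain ⟨k, h | h⟩ := hgen g hg
  · rw [h]; exact Subgroup.pow_mem _ hmem.1 _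
  · rw [h]; exact Subgroup.mul_mem _ hmem.2 (Subgroup.pow_mem _ hmem.1 _)

include hn hcard hx hxy hint hz hzx in
/-- the unique generalized quaternion subgroup of order `2 ^ (n + 1)` and its normality -/
theorem unique_quat :
    (∃! Y : Subgroup S, Nat.card Y = 2 ^ (n + 1) ∧
      Nonempty (Y ≃* QuaternionGroup (2 ^ (n - 1)))) ∧
    ∀ Y : Subgroup S, Nat.card Y = 2 ^ (n + 1) →
      Nonempty (Y ≃* QuaternionGroup (2 ^ (n - 1))) → Y.Normal := by
  obtain ⟨Y, hYc, ⟨eY⟩, hYq⟩ := exists_quat n hn hcard x y z hx hxy hint hz hzx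
  have huniq : ∀ Y' : Subgroup S, Nat.card Y' = 2 ^ (n + 1) →
      Nonempty (Y' ≃* QuaternionGroup (2 ^ (n - 1))) → Y' = Y := by
    intro Y' hc ⟨e⟩
    have h1 : Y' ≤ Y := (le_Yq_of_quat n hn hcard x y z hx hxy hint hz hzx Y' e).trans hYq
    exact Subgroup.eq_of_le_of_card_ge h1 (by rw [hc, hYc])
  have hYn : Y.Normal :=
    normal_of_commutator_le Y ((le_sup_right : commutator S ≤ Yq n x z).trans hYq)
  refine ⟨⟨Y, ⟨hYc, ⟨eY⟩⟩, fun Y' h => huniq Y' h.1 h.2⟩, ?_⟩
  intro Y' hc he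
  rw [huniq Y' hc he]
  exact hYn

end data

end Cfsg.Agent.H2.Wreathed
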