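import Mathlib
import Cfsg.Agent.H2.QuatAction
import Cfsg.Agent.H2.FrobComplConj
import Cfsg.Agent.H2.FrobComplSylow
import Cfsg.Agent.H2.WreathedQuat
import Cfsg.Agent.Lib.Helper4.InvAction
import Cfsg.Agent.Lib.Helper4.FrobThm

/-!
# Frobenius kernels for complements with a noncyclic Sylow subgroup have odd square order

(author: helper2)
-/

set_option autoImplicit false

namespace Cfsg.Agent.H2.FrobKerSq

open Cfsg.Agent.H2

/-- a subgroup with a noncyclic generalized quaternion Sylow subgroup contains a copy of `Q₈` -/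
theorem exists_quaternion_pair {H : Type*} [Group H] (P : Subgroup H) (n : ℕ)
    (e : P ≃* QuaternionGroup (2 ^ n)) (hcyc : ¬ IsCyclic P) :
    ∃ i j : H, i * i ≠ 1 ∧ (i * i) * (i * i) = 1 ∧ j * j = i * i ∧ j * i * j⁻¹ = i⁻¹ := by
  have hn : n ≠ 0 := by
    rintro rfl
    apply hcyc
    have e' : P ≃* QuaternionGroup 1 := e
    haveI := QuaternionGroup.quaternionGroup_one_isCyclic
    exact isCyclic_of_surjective e'.symm e'.symm.surjective
  haveI : NeZero (2 ^ n) := ⟨by positivity⟩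
  obtain ⟨a', b', -, -, hord, hsq, hinv, -⟩ := Wreathed.quat_pair (2 ^ n) P e
  have hn1 : n - 1 + 1 = n := by omega
  have h2 : 2 ^ (n - 1) + 2 ^ (n - 1) = 2 ^ n := by
    rw [← two_mul, ← pow_succ', hn1]
  have hii : a' ^ 2 ^ (n - 1) * a' ^ 2 ^ (n - 1) = a' ^ 2 ^ n := by rw [← pow_add, h2]
  have hpos : 0 < 2 ^ n := by positivity
  have hz1 : a' ^ 2 ^ n ≠ 1 :=
    pow_ne_one_of_lt_orderOf (by omega) (by rw [hord]; omega)
  have hzz : a' ^ 2 ^ n * a' ^ 2 ^ n = 1 := by
    rw [← pow_add, ← two_mul, ← hord]; exact pow_orderOf_eq_one a'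
  have hconj : b' * a' * b'⁻¹ = a'⁻¹ := by rw [hinv]; group
  refine ⟨a' ^ 2 ^ (n - 1), b', ?_, ?_, ?_, ?_⟩
  · rw [hii]; exact hz1
  · rw [hii]; exact hzz
  · rw [hii]; exact hsq
  · rw [← conj_pow, hconj, inv_pow]

theorem kernel_square {L : Type*} [Group L] [Finite L] (H : Subgroup L)
    (hF : Cfsg.IsFrobeniusComplement H)
    (hZ : ∃ (p : ℕ) (_ : Fact p.Prime) (P : Sylow p H), ¬ IsCyclic P) :
    Odd (Nat.card (Cfsg.frobeniusKernel H)) ∧ IsSquare (Nat.card (Cfsg.frobeniusKernel H)) := by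
  obtain ⟨N, hNset, hNn, hNc⟩ := Cfsg.Agent.Lib.Helper4.FrobThm.frobenius_theorem H hF
  haveI := hNn
  have hNbot : N ≠ ⊥ := by
    rintro rfl
    have h1 := hNc.card_mul_card
    rw [Subgroup.card_bot, one_mul] at h1
    exact hF.2.1 (Subgroup.card_eq_iff_eq_top H |>.mp h1)
  have hfpf := (Cfsg.Agent.S0039.result N H hNc hNbot hF.1).mp hF
  have hcardK : Nat.card (Cfsg.frobeniusKernel H) = Nat.card N := by
    rw [← hNset]; rfl
  rw [hcardK]
  obtain ⟨p, hp, P, hP⟩ := hZ
  rcases FCS.sylow_cyclic_or_quaternion N H hNbot hfpf p P with h | ⟨n, ⟨e⟩⟩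
  · exact absurd h hP
  obtain ⟨i, j, hz1, hzz, hjj, hji⟩ := exists_quaternion_pair (P : Subgroup H) n e hP
  -- move to `L`
  obtain ⟨z, hz⟩ : ∃ z : L, z = (i : L) * (i : L) := ⟨_, rfl⟩
  have hzH : z ∈ H := by rw [hz]; exact H.mul_mem i.2 i.2
  have hz1' : z ≠ 1 := by
    intro h
    apply hz1
    apply Subtype.ext
    rw [Subgroup.coe_mul, ← hz, h]; rfl
  have hzz' : z * z = 1 := by
    have := congrArg Subtype.val hzz
    simpa [hz] using this
  have hjj' : (j : L) * (j : L) = z := by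
    have := congrArg Subtype.val hjj
    simpa [hz] using this
  have hji' : (j : L) * (i : L) * (j : L)⁻¹ = (i : L)⁻¹ := by
    have := congrArg Subtype.val hji
    simpa using this
  have hfz : N ⊓ Subgroup.centralizer {z} = ⊥ := hfpf z hzH hz1'
  have hinvN : ∀ s ∈ N, z * s * z⁻¹ = s⁻¹ := by
    apply Cfsg.Agent.Lib.Helper4.InvAction.inverts_of_fixedPointFree N z hzz'
      (fun s hs => hNn.conj_mem s hs z)
    intro s hs hc
    have : s ∈ N ⊓ Subgroup.centralizer {z} := by
      refine ⟨hs, ?_⟩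
      show s ∈ Subgroup.centralizer {z}
      rw [Subgroup.mem_centralizer_iff]
      intro h hh
      rw [Set.mem_singleton_iff] at hh
      rw [hh]; exact hc
    rw [hfz] at this
    exact Subgroup.mem_bot.mp this
  have hcommN := Cfsg.Agent.Lib.Helper4.InvAction.commute_of_inverted N z hinvN
  have hodd : Odd (Nat.card N) := by
    rw [← Nat.not_even_iff_odd]
    intro heven
    haveI : Fact (Nat.Prime 2) := ⟨Nat.prime_two⟩
    obtain ⟨t, ht⟩ := exists_prime_orderOf_dvd_card' (G := N) 2 heven.two_dvd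
    have ht1 : t ≠ 1 := by
      intro h; rw [h, orderOf_one] at ht; omega
    have htt : (t : L) * (t : L) = 1 := by
      have h1 : t ^ 2 = 1 := by rw [← ht]; exact pow_orderOf_eq_one t
      have h2 := congrArg Subtype.val h1
      rw [pow_two] at h2
      simpa using h2
    have h3 := hinvN t t.2
    have h4 : (t : L)⁻¹ = t := inv_eq_of_mul_eq_one_left htt
    rw [h4] at h3
    have h5 : (t : L) ∈ N ⊓ Subgroup.centralizer {z} := by
      refine ⟨t.2, ?_⟩
      show (t : L) ∈ Subgroup.centralizer {z}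
      rw [Subgroup.mem_centralizer_iff]
      intro h hh
      rw [Set.mem_singleton_iff] at hh
      rw [hh]
      calc z * (t : L) = (z * t * z⁻¹) * z := by group
        _ = t * z := by rw [h3]
    rw [hfz] at h5
    exact ht1 (Subtype.ext (Subgroup.mem_bot.mp h5))
  refine ⟨hodd, ?_⟩
  -- the quaternion action on `N`
  have hiz : (i : L)⁻¹ = (i : L) * z := by
    apply inv_eq_of_mul_eq_one_right
    rw [← mul_assoc, ← hz, hzz']
  have hij' : (i : L) * (j : L) = (j : L) * (i : L) * z := by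
    have h1 : (j : L) * (i : L) = (i : L)⁻¹ * (j : L) := by rw [← hji']; group
    calc (i : L) * (j : L) = (i : L) * ((i : L)⁻¹ * (j : L)) * (i : L)⁻¹ := by
          rw [← h1]; group
      _ = (j : L) * (i : L)⁻¹ := by group
      _ = (j : L) * (i : L) * z := by rw [hiz, mul_assoc]
  apply QuatAct.card_isSquare (Nat.card N) N (fun a b => Subtype.ext (hcommN a a.2 b b.2)) le_rfl hodd
    (MulAut.conjNormal (i : L) : MulAut N).toMonoidHom
    (MulAut.conjNormal (j : L) : MulAut N).toMonoidHom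
  · intro a
    apply Subtype.ext
    simp only [MulEquiv.coe_toMonoidHom, MulAut.conjNormal_apply, Subgroup.coe_inv]
    rw [← hinvN a a.2, hz]; group
  · intro a
    apply Subtype.ext
    simp only [MulEquiv.coe_toMonoidHom, MulAut.conjNormal_apply, Subgroup.coe_inv]
    rw [← hinvN a a.2, ← hjj']; group
  · intro a
    apply Subtype.ext
    simp only [MulEquiv.coe_toMonoidHom, MulAut.conjNormal_apply, Subgroup.coe_inv]
    have h1 : (i : L) * ((j : L) * (a : L) * (j : L)⁻¹) * (i : L)⁻¹ =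
        ((j : L) * (i : L)) * (z * a * z⁻¹) * ((j : L) * (i : L))⁻¹ := by
      calc (i : L) * ((j : L) * (a : L) * (j : L)⁻¹) * (i : L)⁻¹
          = ((i : L) * (j : L)) * a * ((i : L) * (j : L))⁻¹ := by group
        _ = ((j : L) * (i : L) * z) * a * ((j : L) * (i : L) * z)⁻¹ := by rw [hij']
        _ = _ := by group
    rw [h1, hinvN a a.2]; group

end Cfsg.Agent.H2.FrobKerSq
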