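import Mathlib
import Cfsg.Prelude.Def_Solvable
import Cfsg.Agent.H2.ConjMap

/-!
# Transporting Frobenius complements along isomorphisms and into `Type 0` (helper2)
-/

set_option autoImplicit false

namespace Cfsg.Agent.H2.FrobLower

open scoped Pointwise

universe u v

theorem isFrobeniusComplement_map {L' : Type u} {L : Type v} [Group L'] [Group L] (e : L' ≃* L)
    {C' : Subgroup L'} (hC : Cfsg.IsFrobeniusComplement C') :
    Cfsg.IsFrobeniusComplement (C'.map e.toMonoidHom) := by
  obtain ⟨h1, h2, h3⟩ := hC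
  refine ⟨?_, ?_, ?_⟩
  · intro h
    exact h1 ((Subgroup.map_eq_bot_iff_of_injective C' e.injective).mp h)
  · intro h
    apply h2
    have := congrArg (Subgroup.comap e.toMonoidHom) h
    rw [Subgroup.comap_map_eq_self_of_injective e.injective, Subgroup.comap_top] at this
    exact this
  · intro g hg
    have hg' : e.symm g ∉ C' := by
      intro h
      apply hg
      exact ⟨e.symm g, h, by simp⟩
    rw [eq_bot_iff]
    rintro x ⟨⟨c, hc, rfl⟩, hx2⟩
    have hx2' : e.toMonoidHom c ∈ MulAut.conj g • Subgroup.map e.toMonoidHom C' := hx2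
    rw [Cfsg.Agent.H2.mem_conj_smul_iff] at hx2'
    obtain ⟨c₂, hc₂, hc₂e⟩ := hx2'
    have h4 : (e.symm g)⁻¹ * c * e.symm g = c₂ := by
      apply e.injective
      have : e.toMonoidHom c₂ = e c₂ := rfl
      rw [← this, hc₂e]
      simp
    have h5 : c ∈ C' ⊓ MulAut.conj (e.symm g) • C' := by
      refine ⟨hc, ?_⟩
      have : c ∈ MulAut.conj (e.symm g) • C' := by
        rw [Cfsg.Agent.H2.mem_conj_smul_iff, h4]
        exact hc₂
      exact this
    rw [h3 _ hg', Subgroup.mem_bot] at h5
    rw [Subgroup.mem_bot, h5]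
    simp

/-- Any Frobenius complement in a finite group has an isomorphic copy in a finite group living in
`Type 0`. -/
theorem exists_type_zero {L' : Type u} [Group L'] [Finite L'] (C' : Subgroup L')
    (hC : Cfsg.IsFrobeniusComplement C') :
    ∃ (L : Type) (_ : Group L) (_ : Finite L) (C : Subgroup L),
      Cfsg.IsFrobeniusComplement C ∧ Nonempty (C' ≃* C) := by
  let f : L' ≃* Shrink.{0} L' := Shrink.mulEquiv.symm
  have hfin : Finite (Shrink.{0} L') := Finite.of_equiv _ (equivShrink.{0} L')
  exact ⟨Shrink.{0} L', inferInstance, hfin, C'.map f.toMonoidHom, isFrobeniusComplement_map f hC,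
    ⟨f.subgroupMap C'⟩⟩

end Cfsg.Agent.H2.FrobLower
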