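import Mathlib
import Cfsg.Prelude.Def_Solvable
import Cfsg.Agent.H2.ConjMap

set_option autoImplicit false

namespace Cfsg.Agent.H2

open scoped Pointwise

section general

variable {N G : Type*} [Group N] [Group G] (φ : G →* MulAut N)

theorem mem_range_inr_iff (x : N ⋊[φ] G) :
    x ∈ (SemidirectProduct.inr : G →* N ⋊[φ] G).range ↔ x.left = 1 := by
  constructor
  · rintro ⟨g, rfl⟩
    simp
  · intro h
    refine ⟨x.right, ?_⟩
    ext
    · simp [h]
    · simp

/-- If `G` acts fixed-point-freely on `N`, both nontrivial, then the complement `G` is a Frobenius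
complement in `N ⋊ G`. -/
theorem isFrobeniusComplement_inr_range [Nontrivial N] [Nontrivial G]
    (hfpf : ∀ u : G, u ≠ 1 → ∀ v : N, φ u v = v → v = 1) :
    Cfsg.IsFrobeniusComplement (SemidirectProduct.inr : G →* N ⋊[φ] G).range := by
  refine ⟨?_, ?_, ?_⟩
  · intro hbot
    obtain ⟨u, hu⟩ := exists_ne (1 : G)
    have : (SemidirectProduct.inr u : N ⋊[φ] G) ∈ (SemidirectProduct.inr : G →* N ⋊[φ] G).range := ⟨u, rfl⟩
    rw [hbot, Subgroup.mem_bot] at this
    apply hu
    have := congrArg SemidirectProduct.right this
    simpa using this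
  · intro htop
    obtain ⟨v, hv⟩ := exists_ne (1 : N)
    have : (SemidirectProduct.inl v : N ⋊[φ] G) ∈ (SemidirectProduct.inr : G →* N ⋊[φ] G).range :=
      htop ▸ Subgroup.mem_top _
    rw [mem_range_inr_iff] at this
    exact hv (by simpa using this)
  · intro g hg
    rw [mem_range_inr_iff] at hg
    rw [eq_bot_iff]
    intro x hx
    obtain ⟨hx1, hx2⟩ := Subgroup.mem_inf.1 hx
    rw [mem_conj_smul_iff, mem_range_inr_iff] at hx2
    rw [mem_range_inr_iff] at hx1
    rw [Subgroup.mem_bot]
    -- x = ⟨1, u⟩ ; (g⁻¹ x g).left = φ g.right⁻¹ (g.left⁻¹ * φ u g.left) = 1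
    have h1 : (g⁻¹ * x * g).left = φ g.right⁻¹ (g.left⁻¹ * (φ x.right g.left)) := by
      simp only [SemidirectProduct.mul_left, SemidirectProduct.inv_left, SemidirectProduct.mul_right,
        SemidirectProduct.inv_right, hx1, map_mul, map_one, mul_one]
      rfl
    rw [h1] at hx2
    have h2 : g.left⁻¹ * (φ x.right g.left) = 1 := by
      have := congrArg (φ g.right) hx2
      rw [← MulAut.mul_apply, ← map_mul, mul_inv_cancel, map_one] at this
      simpa using this
    have h3 : φ x.right g.left = g.left := by
      calc φ x.right g.left = g.left * (g.left⁻¹ * (φ x.right g.left)) := by group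
        _ = g.left := by rw [h2, mul_one]
    by_contra hne
    have hxr : x.right ≠ 1 := by
      intro h
      apply hne
      ext
      · simpa using hx1
      · simpa using h
    exact hg (hfpf _ hxr _ h3)

end general

section additive

variable (G A : Type*) [Group G] [AddGroup A] [DistribMulAction G A]

/-- The action of `G` on `Multiplicative A` by automorphisms coming from a distributive action. -/
noncomputable def frobAction : G →* MulAut (Multiplicative A) :=
  (MulAutMultiplicative (G := A)).symm.toMonoidHom.comp (DistribMulAction.toAddAut G A)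

theorem frobAction_apply (u : G) (a : A) :
    frobAction G A u (Multiplicative.ofAdd a) = Multiplicative.ofAdd (u • a) := rfl

theorem isFrobeniusComplement_of_distribMulAction [Nontrivial A] [Nontrivial G]
    (hfpf : ∀ u : G, u ≠ 1 → ∀ a : A, u • a = a → a = 0) :
    Cfsg.IsFrobeniusComplement
      (SemidirectProduct.inr : G →* Multiplicative A ⋊[frobAction G A] G).range := by
  apply isFrobeniusComplement_inr_range
  intro u hu v hv
  have := hfpf u hu (Multiplicative.toAdd v) (by
    have h := congrArg Multiplicative.toAdd hv
    exact h)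
  exact Multiplicative.toAdd.injective this

end additive

end Cfsg.Agent.H2
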