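import Mathlib
import Cfsg.Prelude.Def_Characters
import Cfsg.Agent.Lib.helper3.GNS0
import Cfsg.Agent.Lib.helper3.Inflate2
import Cfsg.Agent.Lib.helper3.Irr12
import Cfsg.Agent.Lib.helper3.Weight1

/-!
# The section `N_G(Q)/Q`: transport of characters  (author: helper2)

For `Q ≤ A ≤ N_G(Q)` we write `bar Q A` for the image of `A` in `Sec Q = N_G(Q)/Q` and
`barHom Q A hA : ↥A →* ↥(bar Q A)` for the natural surjection.
-/

set_option autoImplicit false

namespace Cfsg.Agent.H2.GSec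

open Cfsg Cfsg.Agent.Lib.helper3.Irr Cfsg.Agent.Lib.helper3.Block

universe u

section descend

/-- an irreducible character with the kernel of a surjection in its kernel descends -/
theorem exists_descend {A : Type u} {B : Type u} [Group A] [Finite A] [Group B] (φ : A →* B)
    (hφ : Function.Surjective φ) {χ : A → ℂ} (hχ : IsIrrCharacter A χ)
    (hconst : ∀ k : A, k ∈ φ.ker → χ k = χ 1) :
    ∃ ψ : B → ℂ, IsIrrCharacter B ψ ∧ ∀ a, χ a = ψ (φ a) := by
  have hc : ∀ g n : A, n ∈ φ.ker → χ (g * n) = χ g := fun g n hn =>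
    apply_mul_of_apply_eq_one (isCharacter_of_isIrrCharacter hχ) (hconst n hn) g
  obtain ⟨ψ', hψ', hχeq⟩ := exists_eq_inflate hχ φ.ker hc
  let e := QuotientGroup.quotientKerEquivOfSurjective φ hφ
  refine ⟨fun b => ψ' (e.symm b), isIrrCharacter_comp_mulEquiv e.symm hψ', ?_⟩
  intro a
  rw [hχeq, inflate_apply]
  congr 1
  rw [MulEquiv.eq_symm_apply]
  rfl

end descend

section bar

variable {G : Type u} [Group G] (Q : Subgroup G)

/-- the section `N_G(Q)/Q` -/
abbrev Sec : Type u := ↥(Subgroup.normalizer (Q : Set G)) ⧸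
  Q.subgroupOf (Subgroup.normalizer (Q : Set G))

/-- the image of `A` in the section -/
def bar (A : Subgroup G) : Subgroup (Sec Q) :=
  (A.subgroupOf (Subgroup.normalizer (Q : Set G))).map (QuotientGroup.mk' _)

variable {Q}

/-- the natural map `A → Ā` -/
def barHom (A : Subgroup G) (hA : A ≤ Subgroup.normalizer (Q : Set G)) : ↥A →* ↥(bar Q A) where
  toFun a := ⟨QuotientGroup.mk' _ ⟨(a : G), hA a.2⟩,
    Subgroup.mem_map.2 ⟨⟨(a : G), hA a.2⟩, Subgroup.mem_subgroupOf.2 a.2, rfl⟩⟩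
  map_one' := by
    apply Subtype.ext
    exact map_one (QuotientGroup.mk' _)
  map_mul' a b := by
    apply Subtype.ext
    exact map_mul (QuotientGroup.mk' (Q.subgroupOf (Subgroup.normalizer (Q : Set G))))
      (⟨(a : G), hA a.2⟩ : ↥(Subgroup.normalizer (Q : Set G))) ⟨(b : G), hA b.2⟩

theorem barHom_coe (A : Subgroup G) (hA : A ≤ Subgroup.normalizer (Q : Set G)) (a : ↥A) :
    ((barHom A hA a : ↥(bar Q A)) : Sec Q) = QuotientGroup.mk' _ ⟨(a : G), hA a.2⟩ := rfl

theorem barHom_surjective (A : Subgroup G) (hA : A ≤ Subgroup.normalizer (Q : Set G)) :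
    Function.Surjective (barHom A hA) := by
  rintro ⟨x, hx⟩
  obtain ⟨y, hy, rfl⟩ := Subgroup.mem_map.1 hx
  exact ⟨⟨(y : G), Subgroup.mem_subgroupOf.1 hy⟩, Subtype.ext rfl⟩

theorem mk_eq_one_iff (g : ↥(Subgroup.normalizer (Q : Set G))) :
    (QuotientGroup.mk' (Q.subgroupOf (Subgroup.normalizer (Q : Set G))) g = 1) ↔ (g : G) ∈ Q := by
  rw [QuotientGroup.mk'_apply, QuotientGroup.eq_one_iff, Subgroup.mem_subgroupOf]

theorem mem_ker_barHom (A : Subgroup G) (hA : A ≤ Subgroup.normalizer (Q : Set G)) (a : ↥A) :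
    a ∈ (barHom A hA).ker ↔ (a : G) ∈ Q := by
  rw [MonoidHom.mem_ker, ← mk_eq_one_iff ⟨(a : G), hA a.2⟩, ← barHom_coe A hA a]
  constructor
  · intro h; rw [h]; rfl
  · intro h; exact Subtype.ext h

theorem mem_bar_iff (A : Subgroup G) (hA : A ≤ Subgroup.normalizer (Q : Set G)) (x : Sec Q) :
    x ∈ bar Q A ↔ ∃ a : ↥A, QuotientGroup.mk' _ ⟨(a : G), hA a.2⟩ = x := by
  constructor
  · intro hx
    obtain ⟨a, ha⟩ := barHom_surjective A hA ⟨x, hx⟩
    exact ⟨a, congrArg Subtype.val ha⟩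
  · rintro ⟨a, rfl⟩
    exact (barHom A hA a).2

theorem bar_mono {A B : Subgroup G} (h : A ≤ B) : bar Q A ≤ bar Q B := by
  apply Subgroup.map_mono
  intro x hx
  rw [Subgroup.mem_subgroupOf] at hx ⊢
  exact h hx

end bar

end Cfsg.Agent.H2.GSec
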