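import Mathlib
import Cfsg.Agent.H2.GSec1

/-!
# The section `N_G(Q)/Q`: transport of characters, part 2  (author: helper2)
-/

set_option autoImplicit false
set_option linter.style.haveILetI false

namespace Cfsg.Agent.H2.GSec

open Cfsg Cfsg.Agent.Lib.helper3.Irr Cfsg.Agent.Lib.helper3.Block Cfsg.Agent.Lib.helper3.GlP
open Cfsg.Agent.Lib.helper3.GNS

universe u

variable {G : Type u} [Group G] [Finite G] {Q : Subgroup G}

theorem isIrr_lift (A : Subgroup G) (hA : A ≤ Subgroup.normalizer (Q : Set G))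
    (β' : IrrCharacter ↥(bar Q A)) :
    IsIrrCharacter ↥A (fun a => (β' : ↥(bar Q A) → ℂ) (barHom A hA a)) := by
  classical
  letI : Fintype ↥A := Fintype.ofFinite _
  letI : Fintype ↥(bar Q A) := Fintype.ofFinite _
  exact isIrrCharacter_comp_surjective (barHom A hA) (barHom_surjective A hA) β'.2

omit [Finite G] in
theorem kerGE_lift (A : Subgroup G) (hA : A ≤ Subgroup.normalizer (Q : Set G))
    (f : ↥(bar Q A) → ℂ) : KerGE Q A (fun a => f (barHom A hA a)) := by
  intro a ha
  have h1 : barHom A hA a = 1 := (mem_ker_barHom A hA a).2 ha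
  change f (barHom A hA a) = f (barHom A hA 1)
  rw [h1, map_one]

theorem exists_descend_irr (A : Subgroup G) (hA : A ≤ Subgroup.normalizer (Q : Set G))
    (β : IrrCharacter ↥A) (hβ : KerGE Q A β) :
    ∃ β' : IrrCharacter ↥(bar Q A),
      ∀ a, (β : ↥A → ℂ) a = (β' : ↥(bar Q A) → ℂ) (barHom A hA a) := by
  obtain ⟨ψ, hψ, h⟩ := exists_descend (barHom A hA) (barHom_surjective A hA) β.2
    (fun k hk => hβ k ((mem_ker_barHom A hA k).1 hk))
  exact ⟨⟨ψ, hψ⟩, h⟩

theorem ip_lift (A : Subgroup G) (hA : A ≤ Subgroup.normalizer (Q : Set G))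
    [Fintype ↥(bar Q A)] (f g : ↥(bar Q A) → ℂ) :
    ip (fun a : ↥A => f (barHom A hA a)) (fun a => g (barHom A hA a)) = classInner f g := by
  classical
  letI : Fintype ↥A := Fintype.ofFinite _
  rw [ip_eq_classInner, classInner_comp_surjective (barHom A hA) (barHom_surjective A hA)]

omit [Finite G] in
theorem invUnder_lift (A : Subgroup G) (hA : A ≤ Subgroup.normalizer (Q : Set G)) (x : G)
    (hx : x ∈ Subgroup.normalizer (Q : Set G)) (f : ↥(bar Q A) → ℂ)
    (h : InvUnder (bar Q A) f (QuotientGroup.mk' _ ⟨x, hx⟩)) :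
    InvUnder A (fun a => f (barHom A hA a)) x := by
  intro g g' hgg'
  apply h (barHom A hA g) (barHom A hA g')
  rw [barHom_coe, barHom_coe, ← map_inv, ← map_mul, ← map_mul]
  congr 1
  apply Subtype.ext
  simp [hgg']

omit [Finite G] in
theorem invUnder_descend (A : Subgroup G) (hA : A ≤ Subgroup.normalizer (Q : Set G)) (x : G)
    (hx : x ∈ Subgroup.normalizer (Q : Set G)) (hxA : x ∈ Subgroup.normalizer (A : Set G))
    (f : ↥(bar Q A) → ℂ) (h : InvUnder A (fun a => f (barHom A hA a)) x) :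
    InvUnder (bar Q A) f (QuotientGroup.mk' _ ⟨x, hx⟩) := by
  intro g₁ g₂ hgg'
  obtain ⟨g, rfl⟩ := barHom_surjective A hA g₁
  have hmem : x * (g : G) * x⁻¹ ∈ A := (Subgroup.mem_set_normalizer_iff.mp hxA (g : G)).mp g.2
  have h1 := h g ⟨x * g * x⁻¹, hmem⟩ rfl
  have h2 : g₂ = barHom A hA ⟨x * g * x⁻¹, hmem⟩ := by
    apply Subtype.ext
    rw [hgg', barHom_coe, barHom_coe, ← map_inv, ← map_mul, ← map_mul]
    rfl
  rw [h2]; exact h1

/-- a constituent of a character inflated from the section has `Q` in its kernel -/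
theorem ip_lift_eq_zero (D : Subgroup G) (hD : D ≤ Subgroup.normalizer (Q : Set G))
    (f : ↥(bar Q D) → ℂ) (hf : IsCharacter ↥(bar Q D) f) (γ : IrrCharacter ↥D)
    (hγ : ¬ KerGE Q D γ) : ip (fun d => f (barHom D hD d)) (γ : ↥D → ℂ) = 0 := by
  classical
  letI : Fintype ↥D := Fintype.ofFinite _
  letI : Fintype ↥(bar Q D) := Fintype.ofFinite _
  rw [ip_eq_classInner]
  have h1 := isCharacter_eq_sum_classInner hf
  have h2 : (fun d => f (barHom D hD d)) = ∑ ψ : IrrCharacter ↥(bar Q D),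
      classInner f (ψ : ↥(bar Q D) → ℂ) • (fun d => (ψ : ↥(bar Q D) → ℂ) (barHom D hD d)) := by
    funext d
    conv_lhs => rw [h1]
    simp only [Finset.sum_apply, Pi.smul_apply]
  rw [h2, classInner_sum_left]
  apply Finset.sum_eq_zero
  intro ψ _
  rw [classInner_smul_left]
  have h3 : classInner (fun d => (ψ : ↥(bar Q D) → ℂ) (barHom D hD d)) (γ : ↥D → ℂ) = 0 := by
    apply irr_classInner_eq_zero (isIrr_lift D hD ψ) γ.2
    intro heq
    apply hγ
    rw [← heq]
    exact kerGE_lift D hD _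
  rw [h3, mul_zero]

end Cfsg.Agent.H2.GSec
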