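import Mathlib
import Cfsg.Agent.H2.GSec2

/-!
# The `p`-group correspondence on the section `T/Q`  (author: helper2)
-/

set_option autoImplicit false
set_option linter.style.haveILetI false

namespace Cfsg.Agent.H2.GSec

open Cfsg Cfsg.Agent.Lib.helper3.Irr Cfsg.Agent.Lib.helper3.Block Cfsg.Agent.Lib.helper3.GlP
open Cfsg.Agent.Lib.helper3.GNS

universe u

variable {G : Type u} [Group G] [Finite G] {Q : Subgroup G}

omit [Finite G] in
theorem card_bar (A : Subgroup G) (hA : A ≤ Subgroup.normalizer (Q : Set G)) :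
    Nat.card ↥(bar Q A) = (Q ⊓ A).relIndex A := by
  have e := QuotientGroup.quotientKerEquivOfSurjective (barHom A hA) (barHom_surjective A hA)
  rw [← Nat.card_congr e.toEquiv]
  have hker : (barHom A hA).ker = (Q ⊓ A).subgroupOf A := by
    ext a
    rw [mem_ker_barHom, Subgroup.mem_subgroupOf, Subgroup.mem_inf]
    exact ⟨fun h => ⟨h, a.2⟩, fun h => h.1⟩
  rw [Subgroup.relIndex, ← hker]
  exact (Subgroup.index_eq_card _).symm

omit [Finite G] in
theorem mk_comm_iff (x t : ↥(Subgroup.normalizer (Q : Set G))) :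
    QuotientGroup.mk' (Q.subgroupOf (Subgroup.normalizer (Q : Set G))) x *
      QuotientGroup.mk' _ t = QuotientGroup.mk' _ t * QuotientGroup.mk' _ x ↔
      (x : G) * t * (x : G)⁻¹ * (t : G)⁻¹ ∈ Q := by
  have h0 : (x : G) * t * (x : G)⁻¹ * (t : G)⁻¹ = ((x * t * x⁻¹ * t⁻¹ : ↥(Subgroup.normalizer (Q : Set G))) : G) := by
    simp
  rw [h0, ← mk_eq_one_iff (x * t * x⁻¹ * t⁻¹)]
  simp only [map_mul, map_inv]
  constructor
  · intro h
    rw [h]; group
  · intro h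
    have := congrArg (fun z => z * (QuotientGroup.mk' _ t) * (QuotientGroup.mk' _ x)) h
    simpa [mul_assoc] using this

omit [Finite G] in
theorem res_lift {T D : Subgroup G} (hDT : D ≤ T) (hT : T ≤ Subgroup.normalizer (Q : Set G))
    (f : ↥(bar Q T) → ℂ) :
    res hDT (fun a => f (barHom T hT a)) =
      fun d : ↥D => (fun c : ↥(bar Q D) => f ⟨c, bar_mono hDT c.2⟩) (barHom D (hDT.trans hT) d) := by
  funext d
  rfl

/-- **Piece G of S4914**: the Glauberman correspondence for the `p`-group `P` acting on the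
`p'`-section `T/Q`, with fixed points `D/Q`. -/
theorem glauberman_section (p : ℕ) [Fact p.Prime] (P T Q D : Subgroup G) (hP : IsPGroup p ↥P)
    (hPT : P ≤ Subgroup.normalizer (T : Set G)) (hPQ : P ≤ Subgroup.normalizer (Q : Set G))
    (hTQ : T ≤ Subgroup.normalizer (Q : Set G)) (hQD : Q ≤ D) (hDT : D ≤ T)
    (hD : ∀ t : G, t ∈ D ↔ (t ∈ T ∧ ∀ x ∈ P, x * t * x⁻¹ * t⁻¹ ∈ Q))
    (hidx : ¬ p ∣ Q.relIndex T) :
    (∀ β : IrrCharacter ↥T, KerGE Q T β → PInv P T β →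
      ∃ (γ₀ : IrrCharacter ↥D) (ε : ℤ), KerGE Q D γ₀ ∧ (ε = 1 ∨ ε = -1) ∧
        (∀ γ : IrrCharacter ↥D, ∃ a : ℕ, ip (res hDT (β : ↥T → ℂ)) (γ : ↥D → ℂ) = a ∧
          (γ = γ₀ → (a : ℤ) ≡ ε [ZMOD p]) ∧ (γ ≠ γ₀ → p ∣ a) ∧ (a ≠ 0 → KerGE Q D γ)) ∧
        ∃ d d₀ : ℕ, (β : ↥T → ℂ) 1 = d ∧ (γ₀ : ↥D → ℂ) 1 = d₀ ∧ (d : ℤ) ≡ ε * d₀ [ZMOD p]) ∧
    (∀ β β' : IrrCharacter ↥T, KerGE Q T β → PInv P T β → KerGE Q T β' → PInv P T β' →
      ∀ γ : IrrCharacter ↥D, ∀ m m' : ℕ, ip (res hDT (β : ↥T → ℂ)) (γ : ↥D → ℂ) = m → ¬ p ∣ m →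
        ip (res hDT (β' : ↥T → ℂ)) (γ : ↥D → ℂ) = m' → ¬ p ∣ m' → β = β') ∧
    (∀ γ : IrrCharacter ↥D, KerGE Q D γ → ∃ β : IrrCharacter ↥T, KerGE Q T β ∧ PInv P T β ∧
      ∃ m : ℕ, ip (res hDT (β : ↥T → ℂ)) (γ : ↥D → ℂ) = m ∧ ¬ p ∣ m) := by
  classical
  have hp : p.Prime := Fact.out
  have hDQ : D ≤ Subgroup.normalizer (Q : Set G) := hDT.trans hTQ
  letI : Fintype (Sec Q) := Fintype.ofFinite _
  letI : Fintype ↥(bar Q T) := Fintype.ofFinite _
  letI : Fintype ↥(bar Q D) := Fintype.ofFinite _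
  have hle : bar Q D ≤ bar Q T := bar_mono hDT
  -- the hypotheses of `corr_all`
  have hPbar : IsPGroup p ↥(bar Q P) := (hP.comap_subtype).map _
  have hnorm : bar Q P ≤ Subgroup.normalizer ((bar Q T : Subgroup (Sec Q)) : Set (Sec Q)) := by
    rw [Subgroup.le_normalizer_iff]
    intro s hs t ht
    obtain ⟨x, rfl⟩ := (mem_bar_iff P hPQ s).1 hs
    obtain ⟨t', rfl⟩ := (mem_bar_iff T hTQ t).1 ht
    have hmem : (x : G) * (t' : G) * (x : G)⁻¹ ∈ T :=
      (Subgroup.mem_set_normalizer_iff.mp (hPT x.2) (t' : G)).mp t'.2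
    rw [mem_bar_iff T hTQ]
    refine ⟨⟨_, hmem⟩, ?_⟩
    rw [← map_inv, ← map_mul, ← map_mul]
    rfl
  have hcop : (Nat.card ↥(bar Q T)).Coprime (Nat.card ↥(bar Q P)) := by
    obtain ⟨k, hk⟩ := hPbar.exists_card_eq
    rw [hk, card_bar T hTQ, inf_eq_left.2 (hQD.trans hDT)]
    exact ((Nat.Prime.coprime_iff_not_dvd hp).2 hidx).symm.pow_right k
  have hDbar : bar Q D = bar Q T ⊓ Subgroup.centralizer ((bar Q P : Subgroup (Sec Q)) : Set (Sec Q)) := by
    ext z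
    rw [Subgroup.mem_inf, Subgroup.mem_centralizer_iff]
    constructor
    · intro hz
      refine ⟨hle hz, ?_⟩
      obtain ⟨d, rfl⟩ := (mem_bar_iff D hDQ z).1 hz
      intro s hs
      obtain ⟨x, rfl⟩ := (mem_bar_iff P hPQ s).1 hs
      rw [mk_comm_iff]
      exact ((hD d).1 d.2).2 x x.2
    · rintro ⟨hzT, hzc⟩
      obtain ⟨t, rfl⟩ := (mem_bar_iff T hTQ z).1 hzT
      have htD : (t : G) ∈ D := by
        rw [hD]
        refine ⟨t.2, ?_⟩
        intro x hx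
        have h1 := hzc _ ((mem_bar_iff P hPQ _).2 ⟨⟨x, hx⟩, rfl⟩)
        rw [mk_comm_iff] at h1
        exact h1
      exact (mem_bar_iff D hDQ _).2 ⟨⟨t, htD⟩, rfl⟩
  have hcorr := corr_all p _ (bar Q P) rfl hPbar (bar Q T) hnorm hcop (bar Q D) hDbar hle
  obtain ⟨hc1, hc2, hc3⟩ := hcorr
  -- invariance transport
  have hinv_desc : ∀ (β' : IrrCharacter ↥(bar Q T)),
      PInv P T (fun a => (β' : ↥(bar Q T) → ℂ) (barHom T hTQ a)) →
      ∀ s ∈ bar Q P, InvUnder (bar Q T) (β' : ↥(bar Q T) → ℂ) s := by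
    intro β' hβ' s hs
    obtain ⟨x, rfl⟩ := (mem_bar_iff P hPQ s).1 hs
    exact invUnder_descend T hTQ (x : G) (hPQ x.2) (hPT x.2) _ (hβ' x x.2)
  have hinv_lift : ∀ (β' : IrrCharacter ↥(bar Q T)),
      (∀ s ∈ bar Q P, InvUnder (bar Q T) (β' : ↥(bar Q T) → ℂ) s) →
      PInv P T (fun a => (β' : ↥(bar Q T) → ℂ) (barHom T hTQ a)) := by
    intro β' hβ' x hx
    exact invUnder_lift T hTQ x (hPQ hx) _ (hβ' _ ((mem_bar_iff P hPQ _).2 ⟨⟨x, hx⟩, rfl⟩))
  -- inner products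
  have hip : ∀ (β' : IrrCharacter ↥(bar Q T)) (γ' : IrrCharacter ↥(bar Q D)),
      ip (res hDT (fun a => (β' : ↥(bar Q T) → ℂ) (barHom T hTQ a)))
        (fun d => (γ' : ↥(bar Q D) → ℂ) (barHom D hDQ d)) =
      classInner (fun c : ↥(bar Q D) => (β' : ↥(bar Q T) → ℂ) ⟨c, hle c.2⟩)
        (γ' : ↥(bar Q D) → ℂ) := by
    intro β' γ'
    rw [res_lift hDT hTQ]
    exact ip_lift D hDQ (fun c : ↥(bar Q D) => (β' : ↥(bar Q T) → ℂ) ⟨c, hle c.2⟩)
      (γ' : ↥(bar Q D) → ℂ)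
  have hip0 : ∀ (β' : IrrCharacter ↥(bar Q T)) (γ : IrrCharacter ↥D), ¬ KerGE Q D γ →
      ip (res hDT (fun a => (β' : ↥(bar Q T) → ℂ) (barHom T hTQ a))) (γ : ↥D → ℂ) = 0 := by
    intro β' γ hγ
    rw [res_lift hDT hTQ]
    exact ip_lift_eq_zero D hDQ (fun c : ↥(bar Q D) => (β' : ↥(bar Q T) → ℂ) ⟨c, hle c.2⟩)
      (isCharacter_comp (isCharacter_of_isIrrCharacter β'.2) (Subgroup.inclusion hle)) γ hγ
  refine ⟨?_, ?_, ?_⟩
  · -- existence
    intro β hβk hβi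
    obtain ⟨β', hβ'⟩ := exists_descend_irr T hTQ β hβk
    have hβfun : (β : ↥T → ℂ) = fun a => (β' : ↥(bar Q T) → ℂ) (barHom T hTQ a) := funext hβ'
    rw [hβfun] at hβi ⊢
    obtain ⟨γ₀', ε, hε, hall⟩ := hc1 β' (hinv_desc β' hβi)
    refine ⟨⟨fun d => (γ₀' : ↥(bar Q D) → ℂ) (barHom D hDQ d), isIrr_lift D hDQ γ₀'⟩, ε,
      kerGE_lift D hDQ _, hε, ?_, ?_⟩
    · intro γ
      by_cases hγ : KerGE Q D γ
      · obtain ⟨γ', hγ'⟩ := exists_descend_irr D hDQ γ hγ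
        have hγfun : (γ : ↥D → ℂ) = fun d => (γ' : ↥(bar Q D) → ℂ) (barHom D hDQ d) := funext hγ'
        obtain ⟨a, ha1, ha2⟩ := hall γ'
        refine ⟨a, ?_, ?_, ?_, fun _ => hγ⟩
        · rw [hγfun, hip, ha1]
        · intro heq
          have h1 : γ' = γ₀' := by
            apply Subtype.ext
            funext z
            obtain ⟨d, rfl⟩ := barHom_surjective D hDQ z
            rw [← hγ' d, heq]
          rw [if_pos h1] at ha2
          exact ha2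
        · intro hne
          have h1 : γ' ≠ γ₀' := by
            intro h
            apply hne
            apply Subtype.ext
            rw [hγfun, h]
          rw [if_neg h1] at ha2
          exact dvd_of_modEq_zero p a ha2
      · refine ⟨0, ?_, ?_, ?_, ?_⟩
        · rw [hip0 β' γ hγ]; simp
        · intro heq
          exfalso
          apply hγ
          rw [heq]
          exact kerGE_lift D hDQ _
        · intro _; exact dvd_zero p
        · intro h; exact absurd rfl h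
    · -- degrees
      choose a ha1 ha2 using hall
      choose dd hdd using fun γ' : IrrCharacter ↥(bar Q D) =>
        exists_nat_apply_one (isCharacter_of_isIrrCharacter γ'.2)
      have hchar : IsCharacter ↥(bar Q D)
          (fun c : ↥(bar Q D) => (β' : ↥(bar Q T) → ℂ) ⟨c, hle c.2⟩) :=
        isCharacter_comp (isCharacter_of_isIrrCharacter β'.2) (Subgroup.inclusion hle)
      have hsum := isCharacter_eq_sum_classInner hchar
      have h1 : (β' : ↥(bar Q T) → ℂ) 1 = ((∑ γ' : IrrCharacter ↥(bar Q D), a γ' * dd γ' : ℕ) : ℂ) := by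
        have h2 := congrFun hsum 1
        simp only [Finset.sum_apply, Pi.smul_apply, smul_eq_mul] at h2
        have h3 : (⟨(1 : ↥(bar Q D)), hle (1 : ↥(bar Q D)).2⟩ : ↥(bar Q T)) = 1 := rfl
        rw [h3] at h2
        rw [h2]
        push_cast
        apply Finset.sum_congr rfl
        intro γ' _
        rw [ha1 γ', hdd γ']
      refine ⟨∑ γ' : IrrCharacter ↥(bar Q D), a γ' * dd γ', dd γ₀', ?_, ?_, ?_⟩
      · change (β' : ↥(bar Q T) → ℂ) (barHom T hTQ 1) = _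
        rw [map_one, h1]
      · change (γ₀' : ↥(bar Q D) → ℂ) (barHom D hDQ 1) = _
        rw [map_one, hdd γ₀']
      · rw [← ZMod.intCast_eq_intCast_iff]
        push_cast
        have h4 : ∀ γ' : IrrCharacter ↥(bar Q D), ((a γ' : ℕ) : ZMod p) * ((dd γ' : ℕ) : ZMod p) =
            if γ' = γ₀' then ((ε : ℤ) : ZMod p) * ((dd γ' : ℕ) : ZMod p) else 0 := by
          intro γ'
          have h5 := (ZMod.intCast_eq_intCast_iff _ _ p).2 (ha2 γ')
          push_cast at h5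
          rw [h5]
          split_ifs <;> simp
        rw [Finset.sum_congr rfl (fun γ' _ => h4 γ'), Finset.sum_ite_eq' Finset.univ γ₀',
          if_pos (Finset.mem_univ _)]
  · -- injectivity
    intro β β₂ hβk hβi hβ₂k hβ₂i γ m m' hm hpm hm' hpm'
    obtain ⟨β', hβ'⟩ := exists_descend_irr T hTQ β hβk
    obtain ⟨β₂', hβ₂'⟩ := exists_descend_irr T hTQ β₂ hβ₂k
    have hβfun : (β : ↥T → ℂ) = fun a => (β' : ↥(bar Q T) → ℂ) (barHom T hTQ a) := funext hβ'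
    have hβ₂fun : (β₂ : ↥T → ℂ) = fun a => (β₂' : ↥(bar Q T) → ℂ) (barHom T hTQ a) := funext hβ₂'
    rw [hβfun] at hβi hm
    rw [hβ₂fun] at hβ₂i hm'
    have hγ : KerGE Q D γ := by
      by_contra hγ
      rw [hip0 β' γ hγ] at hm
      have : m = 0 := by exact_mod_cast hm.symm
      rw [this] at hpm
      exact hpm (dvd_zero p)
    obtain ⟨γ', hγ'⟩ := exists_descend_irr D hDQ γ hγ
    have hγfun : (γ : ↥D → ℂ) = fun d => (γ' : ↥(bar Q D) → ℂ) (barHom D hDQ d) := funext hγ'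
    rw [hγfun, hip] at hm hm'
    have h1 := hc2 β' β₂' (hinv_desc β' hβi) (hinv_desc β₂' hβ₂i) γ' m m' hm hpm hm' hpm'
    apply Subtype.ext
    rw [hβfun, hβ₂fun, h1]
  · -- surjectivity
    intro γ hγ
    obtain ⟨γ', hγ'⟩ := exists_descend_irr D hDQ γ hγ
    have hγfun : (γ : ↥D → ℂ) = fun d => (γ' : ↥(bar Q D) → ℂ) (barHom D hDQ d) := funext hγ'
    obtain ⟨β', hβ'i, m, hm, hpm⟩ := hc3 γ'
    refine ⟨⟨fun a => (β' : ↥(bar Q T) → ℂ) (barHom T hTQ a), isIrr_lift T hTQ β'⟩,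
      kerGE_lift T hTQ _, hinv_lift β' hβ'i, m, ?_, hpm⟩
    rw [hγfun]
    change ip (res hDT (fun a => (β' : ↥(bar Q T) → ℂ) (barHom T hTQ a))) _ = _
    rw [hip, hm]

end Cfsg.Agent.H2.GSec
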