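import Mathlib
import Cfsg.Agent.Lib.helper3.GNS2
import Cfsg.Agent.H2.BGChar

/-!
# Cancelling the extension in Gallagher products  (author: helper2)

`ip (θh * ψ) (θh * γ) = ip ψ γ` for a character `ψ` and an irreducible `γ` of `T/Q`.
-/

set_option autoImplicit false
set_option linter.style.haveILetI false
set_option linter.unusedSectionVars false

namespace Cfsg.Agent.H2.GSec

open Cfsg Cfsg.Agent.Lib.helper3.Irr Cfsg.Agent.Lib.helper3.GNS Cfsg.Agent.Lib.helper3.Central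
open Cfsg.Agent.H2.BG

universe u

variable {G : Type u} [Group G] [Finite G]

/-- a constituent of a character having `Q` in its kernel has `Q` in its kernel -/
theorem kerGE_of_constituent (Q D : Subgroup G) (ψ : ↥D → ℂ) (hψ : IsCharacter ↥D ψ)
    (hk : KerGE Q D ψ) (γ : IrrCharacter ↥D) (hγ : ip ψ (γ : ↥D → ℂ) ≠ 0) :
    KerGE Q D (γ : ↥D → ℂ) := by
  classical
  letI : Fintype ↥D := Fintype.ofFinite _
  rw [ip_eq_classInner] at hγ
  have hsub := isCharacter_sub_of_classInner_ne_zero hψ γ hγ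
  have hγc := isCharacter_of_isIrrCharacter γ.2
  intro a ha
  have h1 := norm_le_apply_one hγc a
  have h2 := norm_le_apply_one hsub a
  have h3 := eq_of_add_eq_add_of_norm_le h1 h2 (by
    rw [← apply_one_eq_re hγc, ← apply_one_eq_re hsub]
    simp only [Pi.sub_apply, add_sub_cancel]
    exact hk a ha)
  rw [← apply_one_eq_re hγc] at h3
  exact h3

section CG

variable (A T Q : Subgroup G) (hQT : Q ≤ T) (hTA : T ≤ A)
  (hAQ : A ≤ Subgroup.normalizer (Q : Set G)) (θ : ↥Q → ℂ) (hθ : IsIrrCharacter ↥Q θ)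
  (hT : ∀ g : G, g ∈ T ↔ g ∈ A ∧ ∀ q q' : ↥Q, (q' : G) = g * q * g⁻¹ → θ q' = θ q)
  (θh : ↥T → ℂ) (hθh : IsIrrCharacter ↥T θh) (hext : res hQT θh = θ)

include hθ hθh hext hT hAQ hQT hTA in
/-- Gallagher products with distinct factors are orthogonal; so `θh` cancels. -/
theorem ip_mul_cancel (ψ : ↥T → ℂ) (hψ : IsCharacter ↥T ψ) (hk : KerGE Q T ψ)
    (γ : ↥T → ℂ) (hγ : IsIrrCharacter ↥T γ) (hγk : KerGE Q T γ) :
    ip (θh * ψ) (θh * γ) = ip ψ γ := by
  classical
  letI : Fintype ↥T := Fintype.ofFinite _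
  rw [ip_eq_classInner, ip_eq_classInner]
  have h1 := isCharacter_eq_sum_classInner hψ
  have h2 : θh * ψ = ∑ γ' : IrrCharacter ↥T,
      classInner ψ (γ' : ↥T → ℂ) • (θh * (γ' : ↥T → ℂ)) := by
    conv_lhs => rw [h1]
    rw [Finset.mul_sum]
    apply Finset.sum_congr rfl
    intro γ' _
    rw [mul_smul_comm]
  rw [h2, classInner_sum_left]
  have h3 : ∀ γ' : IrrCharacter ↥T,
      classInner (classInner ψ (γ' : ↥T → ℂ) • (θh * (γ' : ↥T → ℂ))) (θh * γ) =
      if γ' = ⟨γ, hγ⟩ then classInner ψ (γ' : ↥T → ℂ) else 0 := by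
    intro γ'
    rw [classInner_smul_left]
    by_cases h0 : classInner ψ (γ' : ↥T → ℂ) = 0
    · rw [h0, zero_mul]
      split_ifs <;> rfl
    · have hγ'k : KerGE Q T (γ' : ↥T → ℂ) :=
        kerGE_of_constituent Q T ψ hψ hk γ' (by rw [ip_eq_classInner]; exact h0)
      have hi1 := cgA_irr_mul A T Q hQT hTA hAQ θ hθ hT θh hθh hext (γ' : ↥T → ℂ) γ'.2 hγ'k
      have hi2 := cgA_irr_mul A T Q hQT hTA hAQ θ hθ hT θh hθh hext γ hγ hγk
      rw [irr_classInner_eq hi1 hi2]
      by_cases heq : γ' = ⟨γ, hγ⟩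
      · rw [if_pos heq]
        have : θh * (γ' : ↥T → ℂ) = θh * γ := by rw [heq]
        rw [if_pos this, mul_one]
      · rw [if_neg heq]
        have : θh * (γ' : ↥T → ℂ) ≠ θh * γ := by
          intro h
          apply heq
          apply Subtype.ext
          exact cgA_mul_inj A T Q hQT hTA hAQ θ hθ hT θh hθh hext (γ' : ↥T → ℂ) γ γ'.2 hγ
            hγ'k hγk h
        rw [if_neg this, mul_zero]
  rw [Finset.sum_congr rfl (fun γ' _ => h3 γ'), Finset.sum_ite_eq' Finset.univ (⟨γ, hγ⟩ : IrrCharacter ↥T),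
    if_pos (Finset.mem_univ _)]

end CG

end Cfsg.Agent.H2.GSec
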