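import Mathlib

/-!
# Normal chains with nilpotent factors (helper2)
-/

set_option autoImplicit false
set_option linter.unusedSectionVars false
set_option linter.style.haveILetI false
set_option linter.deprecated false

namespace Cfsg.Agent.H2.NilpChain

universe u

/-- `G` has a normal series of length `k` with nilpotent factors -/
def HasChain (G : Type u) [Group G] (k : ℕ) : Prop :=
  ∃ N : Fin (k + 1) → Subgroup G, N 0 = ⊥ ∧ N (Fin.last k) = ⊤ ∧ Monotone N ∧
    (∀ i, (N i).Normal) ∧
    ∀ i : Fin k, ∀ h : ((N i.castSucc).subgroupOf (N i.succ)).Normal,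
      Group.IsNilpotent (↥(N i.succ) ⧸ (N i.castSucc).subgroupOf (N i.succ))

variable {G : Type u} [Group G]

/-- the factor `B/A` is nilpotent (for any normality instance) -/
def NilFactor (A B : Subgroup G) : Prop :=
  ∀ h : (A.subgroupOf B).Normal, Group.IsNilpotent (↥B ⧸ A.subgroupOf B)

theorem nilFactor_of_nilpotent (A B : Subgroup G) (hB : Group.IsNilpotent B) : NilFactor A B := by
  intro h
  infer_instance

theorem nilFactor_comap {H : Type*} [Group H] (f : G →* H) (A B : Subgroup H)
    [hA : (A.subgroupOf B).Normal] (hnil : NilFactor A B) :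
    NilFactor (A.comap f) (B.comap f) := by
  intro h
  have hn := hnil hA
  have hle : (A.comap f).subgroupOf (B.comap f) ≤
      (A.subgroupOf B).comap (f.subgroupComap B) := by
    intro x hx
    rw [Subgroup.mem_subgroupOf, Subgroup.mem_comap] at hx
    rw [Subgroup.mem_comap, Subgroup.mem_subgroupOf]
    exact hx
  have hker : (QuotientGroup.map ((A.comap f).subgroupOf (B.comap f)) (A.subgroupOf B)
      (f.subgroupComap B) hle).ker = ⊥ := by
    rw [QuotientGroup.ker_map]
    have e : (A.subgroupOf B).comap (f.subgroupComap B) =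
        (A.comap f).subgroupOf (B.comap f) := by
      ext x
      rw [Subgroup.mem_subgroupOf, Subgroup.mem_comap, Subgroup.mem_comap, Subgroup.mem_subgroupOf]
      rfl
    rw [e, QuotientGroup.map_mk'_self]
  exact Subgroup.isNilpotent_of_ker_le_center
    (QuotientGroup.map ((A.comap f).subgroupOf (B.comap f)) (A.subgroupOf B)
      (f.subgroupComap B) hle) (by rw [hker]; exact bot_le)

theorem hasChain_iff (k : ℕ) : HasChain G k ↔
    ∃ N : Fin (k + 1) → Subgroup G, N 0 = ⊥ ∧ N (Fin.last k) = ⊤ ∧ Monotone N ∧
      (∀ i, (N i).Normal) ∧ ∀ i : Fin k, NilFactor (N i.castSucc) (N i.succ) := Iff.rfl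

/-- prepend a subgroup `⊥` to a chain given by `N`, where `N 0` is nilpotent -/
theorem hasChain_cons (k : ℕ) (N : Fin (k + 1) → Subgroup G) (h0 : Group.IsNilpotent (N 0))
    (hlast : N (Fin.last k) = ⊤) (hmono : Monotone N) (hnorm : ∀ i, (N i).Normal)
    (hfac : ∀ i : Fin k, NilFactor (N i.castSucc) (N i.succ)) : HasChain G (k + 1) := by
  rw [hasChain_iff]
  refine ⟨Fin.cons ⊥ N, Fin.cons_zero _ _, ?_, ?_, ?_, ?_⟩
  · rw [← Fin.succ_last, Fin.cons_succ]
    exact hlast
  · intro i j hij
    induction i using Fin.cases with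
    | zero => rw [Fin.cons_zero]; exact bot_le
    | succ i =>
      induction j using Fin.cases with
      | zero => exact absurd hij (by simp)
      | succ j =>
        rw [Fin.cons_succ, Fin.cons_succ]
        exact hmono (Fin.succ_le_succ_iff.mp hij)
  · intro i
    induction i using Fin.cases with
    | zero => rw [Fin.cons_zero]; infer_instance
    | succ i => rw [Fin.cons_succ]; exact hnorm i
  · intro i
    induction i using Fin.cases with
    | zero =>
      rw [Fin.castSucc_zero, Fin.cons_zero, Fin.cons_succ]
      exact nilFactor_of_nilpotent _ _ h0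
    | succ i =>
      rw [← Fin.succ_castSucc, Fin.cons_succ, Fin.cons_succ]
      exact hfac i

theorem hasChain_succ {k : ℕ} (h : HasChain G k) : HasChain G (k + 1) := by
  obtain ⟨N, h0, hlast, hmono, hnorm, hfac⟩ := h
  apply hasChain_cons k N _ hlast hmono hnorm hfac
  rw [h0]
  infer_instance

theorem hasChain_mono {k l : ℕ} (hkl : k ≤ l) (h : HasChain G k) : HasChain G l := by
  induction l, hkl using Nat.le_induction with
  | base => exact h
  | succ l _ ih => exact hasChain_succ ih

theorem hasChain_one_of_nilpotent (h : Group.IsNilpotent G) : HasChain G 1 := by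
  rw [hasChain_iff]
  refine ⟨![⊥, ⊤], rfl, rfl, ?_, ?_, ?_⟩
  · intro i j hij
    fin_cases i <;> fin_cases j <;> simp_all
  · intro i
    fin_cases i
    · show (⊥ : Subgroup G).Normal
      infer_instance
    · show (⊤ : Subgroup G).Normal
      infer_instance
  · intro i
    fin_cases i
    show NilFactor (⊥ : Subgroup G) ⊤
    apply nilFactor_of_nilpotent
    exact Group.nilpotent_of_mulEquiv Subgroup.topEquiv.symm

/-- pull back a chain along the quotient by a nilpotent normal subgroup -/
theorem hasChain_of_quotient (F : Subgroup G) [hF : F.Normal] (hnil : Group.IsNilpotent F)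
    {k : ℕ} (h : HasChain (G ⧸ F) k) : HasChain G (k + 1) := by
  obtain ⟨N, h0, hlast, hmono, hnorm, hfac⟩ := h
  apply hasChain_cons k (fun i => (N i).comap (QuotientGroup.mk' F))
  · show Group.IsNilpotent ((N 0).comap (QuotientGroup.mk' F))
    rw [h0, MonoidHom.comap_bot, QuotientGroup.ker_mk']
    exact hnil
  · show (N (Fin.last k)).comap (QuotientGroup.mk' F) = ⊤
    rw [hlast, Subgroup.comap_top]
  · intro i j hij
    exact Subgroup.comap_mono (hmono hij)
  · intro i
    exact (hnorm i).comap _
  · intro i
    have hn : ((N i.castSucc).subgroupOf (N i.succ)).Normal := by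
      have := hnorm i.castSucc
      infer_instance
    exact nilFactor_comap (QuotientGroup.mk' F) _ _ (hfac i)

end Cfsg.Agent.H2.NilpChain
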