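import Mathlib
import Cfsg.Agent.H2.BGThmB
import Cfsg.Agent.H2.NilpChain
import Cfsg.Agent.Lib.helper3.Inflate

/-!
# Garrison's theorem: the nilpotent length of a solvable group is at most the number of its
irreducible character degrees (helper2)
-/

set_option autoImplicit false
set_option linter.unusedSectionVars false
set_option linter.style.haveILetI false
set_option linter.deprecated false

namespace Cfsg.Agent.H2.Garrison

open Cfsg Cfsg.Agent.Lib.helper3.Irr Cfsg.Agent.Lib.Helper4.Codegree Cfsg.Agent.H1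
open Cfsg.Agent.H2.BG Cfsg.Agent.H2.NilpChain

universe u

variable {G : Type u} [Group G]

/-- the set of irreducible character degrees -/
def cd (G : Type u) [Group G] : Set ℕ := {d | ∃ χ : IrrCharacter G, charDegree (χ : G → ℂ) = d}

theorem cd_finite [Finite G] : (cd G).Finite := by
  have : cd G = Set.range (fun χ : IrrCharacter G => charDegree (χ : G → ℂ)) := rfl
  rw [this]
  exact Set.finite_range _

theorem fitting_ne_bot [Finite G] [Nontrivial G] (hsolv : Group.IsSolvable G) :
    Cfsg.fittingSubgroup G ≠ ⊥ := by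
  obtain ⟨M, hMn, hMb, hMmin⟩ := exists_minimal_normal (G := G)
  obtain ⟨-, q, a, hq, hcard⟩ :=
    Cfsg.Agent.Lib.helper3.Berger.minimal_normal_solvable M hMb hMmin
  haveI := Fact.mk hq
  have hpg : IsPGroup q M := IsPGroup.of_card hcard
  have hle : M ≤ Cfsg.fittingSubgroup G := le_fittingSubgroup hMn hpg.isNilpotent
  intro h
  rw [h, le_bot_iff] at hle
  exact hMb hle

theorem charDegree_inflate (F : Subgroup G) [F.Normal] (ψ : G ⧸ F → ℂ) :
    charDegree (inflate F ψ) = charDegree ψ := by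
  unfold charDegree
  rw [inflate_apply, QuotientGroup.mk_one]

theorem cd_quotient_ssubset [Finite G] (hsolv : Group.IsSolvable G)
    (hne : Cfsg.fittingSubgroup G ≠ ⊤) :
    cd (G ⧸ Cfsg.fittingSubgroup G) ⊂ cd G := by
  classical
  have hsub : cd (G ⧸ Cfsg.fittingSubgroup G) ⊆ cd G := by
    rintro d ⟨ψ, rfl⟩
    exact ⟨⟨inflate _ (ψ : G ⧸ Cfsg.fittingSubgroup G → ℂ), isIrrCharacter_inflate _ ψ.2⟩,
      charDegree_inflate _ _⟩
  refine ⟨hsub, ?_⟩
  intro hrev
  -- a character of the quotient of maximal degree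
  have hne' : (Finset.univ : Finset (IrrCharacter (G ⧸ Cfsg.fittingSubgroup G))).Nonempty :=
    ⟨⟨fun _ => 1, isIrrCharacter_one⟩, Finset.mem_univ _⟩
  obtain ⟨ψ, -, hmax⟩ := Finset.exists_max_image _
    (fun ψ : IrrCharacter (G ⧸ Cfsg.fittingSubgroup G) =>
      charDegree (ψ : G ⧸ Cfsg.fittingSubgroup G → ℂ)) hne'
  have hχirr : IsIrrCharacter G (inflate _ (ψ : G ⧸ Cfsg.fittingSubgroup G → ℂ)) :=
    isIrrCharacter_inflate _ ψ.2
  have hχc := isCharacter_of_isIrrCharacter hχirr
  have hFK : Cfsg.fittingSubgroup G ≤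
      charKer (inflate _ (ψ : G ⧸ Cfsg.fittingSubgroup G → ℂ)) hχc := by
    intro f hf
    rw [mem_charKer]
    exact inflate_apply_of_mem _ _ hf
  have hcond : ¬ charKer (inflate _ (ψ : G ⧸ Cfsg.fittingSubgroup G → ℂ)) hχc ≤
        Cfsg.fittingSubgroup G ∨
      (charKer (inflate _ (ψ : G ⧸ Cfsg.fittingSubgroup G → ℂ)) hχc = Cfsg.fittingSubgroup G ∧
        Group.IsSolvable (G ⧸ charKer (inflate _ (ψ : G ⧸ Cfsg.fittingSubgroup G → ℂ)) hχc) ∧
        charKer (inflate _ (ψ : G ⧸ Cfsg.fittingSubgroup G → ℂ)) hχc ≠ ⊤) := by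
    by_cases hle : charKer (inflate _ (ψ : G ⧸ Cfsg.fittingSubgroup G → ℂ)) hχc ≤
        Cfsg.fittingSubgroup G
    · right
      have heq := le_antisymm hle hFK
      refine ⟨heq, inferInstance, ?_⟩
      rw [heq]
      exact hne
    · left; exact hle
  obtain ⟨ψ', hlt, -⟩ := broline_garrison
    ⟨inflate _ (ψ : G ⧸ Cfsg.fittingSubgroup G → ℂ), hχirr⟩ _ (fun g => Iff.rfl) hcond
  have hmem : charDegree (ψ' : G → ℂ) ∈ cd G := ⟨ψ', rfl⟩
  obtain ⟨φ, hφ⟩ := hrev hmem
  have h1 := hmax φ (Finset.mem_univ _)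
  rw [hφ] at h1
  rw [charDegree_inflate] at hlt
  exact absurd hlt (not_lt.mpr h1)

theorem card_cd_quotient_lt [Finite G] (hsolv : Group.IsSolvable G)
    (hne : Cfsg.fittingSubgroup G ≠ ⊤) :
    Nat.card (cd (G ⧸ Cfsg.fittingSubgroup G)) < Nat.card (cd G) := by
  rw [Nat.card_coe_set_eq, Nat.card_coe_set_eq]
  exact Set.ncard_lt_ncard (cd_quotient_ssubset hsolv hne) cd_finite

theorem one_le_card_cd [Finite G] : 1 ≤ Nat.card (cd G) := by
  rw [Nat.card_coe_set_eq]
  have : (cd G).Nonempty := ⟨_, ⟨⟨fun _ => 1, isIrrCharacter_one⟩, rfl⟩⟩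
  exact (Set.ncard_pos cd_finite).mpr this

theorem garrison_aux (m : ℕ) : ∀ (G : Type u) [Group G] [Finite G], Group.IsSolvable G →
    Nat.card G = m → HasChain G (Nat.card (cd G)) := by
  induction m using Nat.strong_induction_on with
  | _ m ih =>
    intro G _ _ hsolv hcard
    by_cases hnil : Group.IsNilpotent G
    · exact hasChain_mono one_le_card_cd (hasChain_one_of_nilpotent hnil)
    · have hFne : Cfsg.fittingSubgroup G ≠ ⊤ := by
        intro h
        apply hnil
        have h1 : Group.IsNilpotent (Cfsg.fittingSubgroup G) := fittingSubgroup_nilpotent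
        rw [h] at h1
        exact Group.nilpotent_of_mulEquiv Subgroup.topEquiv
      have hnt : Nontrivial G := by
        by_contra hs
        rw [not_nontrivial_iff_subsingleton] at hs
        exact hnil inferInstance
      have hFb : Cfsg.fittingSubgroup G ≠ ⊥ := fitting_ne_bot hsolv
      have hlt : Nat.card (G ⧸ Cfsg.fittingSubgroup G) < m := by
        rw [← hcard, ← Subgroup.index_eq_card, ← Subgroup.card_mul_index (Cfsg.fittingSubgroup G)]
        have h1 : 1 < Nat.card (Cfsg.fittingSubgroup G) :=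
          (Cfsg.fittingSubgroup G).one_lt_card_iff_ne_bot.mpr hFb
        have h2 : 0 < (Cfsg.fittingSubgroup G).index := Nat.pos_of_ne_zero Subgroup.index_ne_zero_of_finite
        nlinarith
      have hq := ih _ hlt (G ⧸ Cfsg.fittingSubgroup G) inferInstance rfl
      have h3 := hasChain_of_quotient (Cfsg.fittingSubgroup G) fittingSubgroup_nilpotent hq
      exact hasChain_mono (card_cd_quotient_lt hsolv hFne) h3

theorem garrison [Finite G] (hsolv : Group.IsSolvable G) : HasChain G (Nat.card (cd G)) :=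
  garrison_aux _ G hsolv rfl

end Cfsg.Agent.H2.Garrison
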