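import Mathlib
import Cfsg.Agent.H2.Gaschutz

/-!
# Gaschütz: an abelian normal subgroup is complemented iff it is so Sylow-locally
-/

namespace Cfsg.Agent.H2.GaschLocal

open scoped IsMulCommutative
open Cfsg.Agent.H2.Gasch

variable {G : Type*} [Group G]

section J

variable (A : Subgroup G) [A.Normal] [IsMulCommutative A]

/-- `n` is the exponent of a crossed homomorphism `G → A` -/
def J (n : ℕ) : Prop :=
  ∃ ψ : G → A, (∀ g g', ψ (g * g') = ψ g * MulAut.conjNormal g (ψ g')) ∧ ∀ a : A, ψ (a : G) = a ^ n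

lemma J_zero : J A 0 := by
  refine ⟨fun _ => 1, ?_, ?_⟩
  · intro g g'; rw [map_one, mul_one]
  · intro a; rw [pow_zero]

lemma J_comb {n m : ℕ} (hn : J A n) (hm : J A m) (x y : ℕ) : J A (x * n + y * m) := by
  obtain ⟨ψ₁, h1, h1'⟩ := hn
  obtain ⟨ψ₂, h2, h2'⟩ := hm
  refine ⟨fun g => ψ₁ g ^ x * ψ₂ g ^ y, ?_, ?_⟩
  · intro g g'
    simp only
    rw [h1, h2, mul_pow, mul_pow, map_mul, map_pow, map_pow]
    exact mul_mul_mul_comm _ _ _ _
  · intro a
    simp only
    rw [h1', h2', ← pow_mul, ← pow_mul, ← pow_add, mul_comm n x, mul_comm m y]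

/-- from exponents avoiding each prime of a finite set, get one avoiding them all -/
lemma J_avoid (T : Finset ℕ) (hT : ∀ p ∈ T, p.Prime)
    (h : ∀ p ∈ T, ∃ n, J A n ∧ ¬ p ∣ n) : ∃ n, J A n ∧ ∀ p ∈ T, ¬ p ∣ n := by
  classical
  induction T using Finset.induction_on with
  | empty => exact ⟨0, J_zero A, fun p hp => absurd hp (Finset.notMem_empty p)⟩
  | insert p T hpT ih =>
    obtain ⟨nT, hnT, hnT'⟩ := ih (fun q hq => hT q (Finset.mem_insert_of_mem hq))
      (fun q hq => h q (Finset.mem_insert_of_mem hq))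
    obtain ⟨np, hnp, hnp'⟩ := h p (Finset.mem_insert_self p T)
    have hp : p.Prime := hT p (Finset.mem_insert_self p T)
    refine ⟨p * nT + (∏ q ∈ T, q) * np, J_comb A hnT hnp _ _, ?_⟩
    intro q hq
    rcases Finset.mem_insert.mp hq with rfl | hqT
    · intro hdiv
      have h1 : q ∣ (∏ q ∈ T, q) * np := (Nat.dvd_add_right (dvd_mul_right q nT)).mp hdiv
      rcases (Nat.Prime.dvd_mul hp).mp h1 with h2 | h2
      · rw [Prime.dvd_finset_prod_iff hp.prime] at h2
        obtain ⟨r, hr, hqr⟩ := h2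
        have hrp : r.Prime := hT r (Finset.mem_insert_of_mem hr)
        have : q = r := (Nat.prime_dvd_prime_iff_eq hp hrp).mp hqr
        exact hpT (this ▸ hr)
      · exact hnp' h2
    · intro hdiv
      have hqp : q.Prime := hT q hq
      have h1 : q ∣ p * nT := by
        have h2 : q ∣ (∏ q ∈ T, q) * np := dvd_mul_of_dvd_left (Finset.dvd_prod_of_mem _ hqT) _
        exact (Nat.dvd_add_left h2).mp hdiv
      rcases (Nat.Prime.dvd_mul hqp).mp h1 with h2 | h2
      · have : q = p := (Nat.prime_dvd_prime_iff_eq hqp hp).mp h2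
        exact hpT (this ▸ hqT)
      · exact hnT' q hqT h2

end J

section main

variable [Finite G] (A : Subgroup G) [A.Normal]

theorem complement_of_local [IsMulCommutative A]
    (h : ∀ p : ℕ, p.Prime → p ∣ A.index → ∃ (S : Sylow p (G ⧸ A)) (K : Subgroup G),
      K ⊓ A = ⊥ ∧ K ⊔ A = (S : Subgroup (G ⧸ A)).comap (QuotientGroup.mk' A)) :
    ∃ K : Subgroup G, K.IsComplement' A := by
  classical
  have key : ∀ p ∈ (Nat.card A).primeFactors, ∃ n, J A n ∧ ¬ p ∣ n := by
    intro p hp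
    have hpp : p.Prime := Nat.prime_of_mem_primeFactors hp
    have : Fact p.Prime := ⟨hpp⟩
    by_cases hpi : p ∣ A.index
    · obtain ⟨S, K, hK1, hK2⟩ := h p hpp hpi
      obtain ⟨U, hU⟩ : ∃ U : Subgroup G, U = (S : Subgroup (G ⧸ A)).comap (QuotientGroup.mk' A) :=
        ⟨_, rfl⟩
      rw [← hU] at hK2
      have := Fintype.ofFinite (G ⧸ U)
      refine ⟨Fintype.card (G ⧸ U), ⟨psi A U K, psi_mul A U K (by rw [inf_comm]; exact hK1)
        (by rw [sup_comm]; exact hK2), psi_coe A U K (by rw [inf_comm]; exact hK1)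
        (by rw [sup_comm]; exact hK2)⟩, ?_⟩
      rw [← Nat.card_eq_fintype_card, ← Subgroup.index_eq_card, hU,
        Subgroup.index_comap_of_surjective _ (QuotientGroup.mk'_surjective A)]
      exact S.not_dvd_index
    · have := Fintype.ofFinite (G ⧸ A)
      refine ⟨Fintype.card (G ⧸ A), ⟨psi A A ⊥, psi_mul A A ⊥ (inf_bot_eq A) (sup_bot_eq A),
        psi_coe A A ⊥ (inf_bot_eq A) (sup_bot_eq A)⟩, ?_⟩
      rw [← Nat.card_eq_fintype_card, ← Subgroup.index_eq_card]
      exact hpi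
  obtain ⟨n, hJ, hn⟩ := J_avoid A _ (fun p hp => Nat.prime_of_mem_primeFactors hp) key
  have hcop : (Nat.card A).Coprime n := by
    apply Nat.coprime_of_dvd
    intro k hk hkA hkn
    exact hn k (Nat.mem_primeFactors.mpr ⟨hk, hkA, Nat.card_pos.ne'⟩) hkn
  obtain ⟨ψ, h1, h2⟩ := hJ
  obtain ⟨H, hH, -⟩ := exists_complement_of_crossed A ψ n hcop h1 h2
  exact ⟨H, hH.symm⟩

theorem local_of_complement (K : Subgroup G) (hK : K.IsComplement' A) (p : ℕ) [Fact p.Prime] :
    ∃ (S : Sylow p (G ⧸ A)) (K' : Subgroup G),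
      K' ⊓ A = ⊥ ∧ K' ⊔ A = (S : Subgroup (G ⧸ A)).comap (QuotientGroup.mk' A) := by
  obtain ⟨f, hf⟩ : ∃ f : K →* G ⧸ A, f = (QuotientGroup.mk' A).comp K.subtype := ⟨_, rfl⟩
  have hsurj : Function.Surjective f := by
    intro q
    obtain ⟨g, rfl⟩ := QuotientGroup.mk'_surjective A q
    obtain ⟨⟨k, a⟩, hka⟩ := hK.2 g
    simp only at hka
    refine ⟨k, ?_⟩
    rw [hf, MonoidHom.comp_apply, Subgroup.subtype_apply, ← hka, map_mul]
    have : QuotientGroup.mk' A (a : G) = 1 := (QuotientGroup.eq_one_iff (a : G)).mpr a.2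
    rw [this, mul_one]
  obtain ⟨SK⟩ : Nonempty (Sylow p K) := inferInstance
  refine ⟨SK.mapSurjective hsurj, (SK : Subgroup K).map K.subtype, ?_, ?_⟩
  · rw [eq_bot_iff]
    intro x hx
    have h1 : x ∈ K := by
      obtain ⟨y, _, rfl⟩ := Subgroup.mem_map.mp hx.1
      exact y.2
    have h2 : x ∈ K ⊓ A := ⟨h1, hx.2⟩
    rwa [hK.disjoint.eq_bot] at h2
  · rw [Sylow.coe_mapSurjective, hf, ← Subgroup.map_map, Subgroup.comap_map_eq,
      QuotientGroup.ker_mk']

end main

end Cfsg.Agent.H2.GaschLocal
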