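import Mathlib

/-!
# Half-transitive automorphism groups (Isaacs–Passman), preliminaries

`H ≤ G` acts by conjugation; fixed points of `p`-subgroups on invariant subsets and the
"gcd trick".
-/

namespace Cfsg.Agent.H2.HalfTrans

variable {G : Type*} [Group G]

/-- conjugation action of a subgroup on an invariant subset -/
@[reducible] def conjActOn (Q : Subgroup G) (Y : Set G) (hY : ∀ q ∈ Q, ∀ y ∈ Y, q * y * q⁻¹ ∈ Y) :
    MulAction ↥Q ↥Y where
  smul q y := ⟨(q : G) * y * (q : G)⁻¹, hY q q.2 y y.2⟩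
  one_smul y := by
    apply Subtype.ext
    show ((1 : Q) : G) * y * ((1 : Q) : G)⁻¹ = y
    simp
  mul_smul q q' y := by
    apply Subtype.ext
    show ((q * q' : Q) : G) * y * ((q * q' : Q) : G)⁻¹ = q * (q' * y * (q' : G)⁻¹) * (q : G)⁻¹
    push_cast
    group

theorem exists_fixed (q : ℕ) [Fact q.Prime] (Q : Subgroup G) (hQ : IsPGroup q Q) (Y : Set G)
    [Finite Y] (hY : ∀ g ∈ Q, ∀ y ∈ Y, g * y * g⁻¹ ∈ Y) (hq : ¬ q ∣ Nat.card Y) :
    ∃ y ∈ Y, ∀ g ∈ Q, g * y * g⁻¹ = y := by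
  let _ := conjActOn Q Y hY
  obtain ⟨y, hy⟩ := hQ.nonempty_fixed_point_of_prime_not_dvd_card Y hq
  refine ⟨y, y.2, fun g hg => ?_⟩
  have := hy ⟨g, hg⟩
  exact congrArg Subtype.val this

theorem exists_fixed_ne (q : ℕ) [Fact q.Prime] (Q : Subgroup G) (hQ : IsPGroup q Q) (Y : Set G)
    [Finite Y] (hY : ∀ g ∈ Q, ∀ y ∈ Y, g * y * g⁻¹ ∈ Y) (hq : q ∣ Nat.card Y)
    (y₀ : G) (hy₀ : y₀ ∈ Y) (hfix : ∀ g ∈ Q, g * y₀ * g⁻¹ = y₀) :
    ∃ y ∈ Y, y ≠ y₀ ∧ ∀ g ∈ Q, g * y * g⁻¹ = y := by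
  let _ := conjActOn Q Y hY
  have h0 : (⟨y₀, hy₀⟩ : Y) ∈ MulAction.fixedPoints Q Y := by
    intro g
    apply Subtype.ext
    exact hfix g g.2
  obtain ⟨y, hy, hne⟩ := hQ.exists_fixed_point_of_prime_dvd_card_of_fixed_point Y hq h0
  refine ⟨y, y.2, fun h => hne (Subtype.ext h.symm), fun g hg => ?_⟩
  have := hy ⟨g, hg⟩
  exact congrArg Subtype.val this

/-- a subgroup containing a Sylow `q`-subgroup has index prime to `q` -/
theorem sylow_bound (T H₁ : Subgroup G) [Finite H₁] (hT : T ≤ H₁) (q : ℕ) [Fact q.Prime]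
    (Q : Sylow q ↥H₁) (hQ : (Q : Subgroup H₁).map H₁.subtype ≤ T) :
    ¬ q ∣ Nat.card H₁ / Nat.card T := by
  have hle : (Q : Subgroup H₁) ≤ T.subgroupOf H₁ := by
    intro x hx
    rw [Subgroup.mem_subgroupOf]
    exact hQ (Subgroup.mem_map_of_mem _ hx)
  have h1 : (T.subgroupOf H₁).index ∣ (Q : Subgroup H₁).index := Subgroup.index_dvd_of_le hle
  have h2 : ¬ q ∣ (Q : Subgroup H₁).index := Q.not_dvd_index
  have h3 : Nat.card (T.subgroupOf H₁) = Nat.card T :=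
    Nat.card_congr (Subgroup.subgroupOfEquivOfLe hT).toEquiv
  have h4 := Subgroup.card_mul_index (T.subgroupOf H₁)
  rw [h3] at h4
  have : Finite T := Finite.of_injective _ (Subgroup.inclusion_injective hT)
  have hTpos : 0 < Nat.card T := Nat.card_pos
  have h5 : Nat.card H₁ / Nat.card T = (T.subgroupOf H₁).index := by
    rw [← h4, Nat.mul_div_cancel_left _ hTpos]
  rw [h5]
  exact fun h => h2 (dvd_trans h h1)

/-- stabilizer of `x` in `H` under conjugation -/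
abbrev St (H : Subgroup G) (x : G) : Subgroup G := Subgroup.centralizer ({x} : Set G) ⊓ H

theorem mem_St {H : Subgroup G} {x h : G} : h ∈ St H x ↔ h * x = x * h ∧ h ∈ H := by
  rw [Subgroup.mem_inf, Subgroup.mem_centralizer_singleton_iff]

theorem le_St_of_fixed {H Q : Subgroup G} (hQH : Q ≤ H) {u : G}
    (hfix : ∀ g ∈ Q, g * u * g⁻¹ = u) : Q ≤ St H u := by
  intro g hg
  rw [mem_St]
  refine ⟨?_, hQH hg⟩
  have h1 := hfix g hg
  calc g * u = g * u * g⁻¹ * g := by group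
    _ = u * g := by rw [h1]

/-- if all nontrivial elements of an `H`-invariant subgroup `K` have stabilizers of order `s`,
then `|K|` is prime to `|H| / s`. -/
theorem coprime_card (H K : Subgroup G) [Finite H] [Finite K]
    (hK : ∀ h ∈ H, ∀ u ∈ K, h * u * h⁻¹ ∈ K) (s : ℕ)
    (hs : ∀ u ∈ K, u ≠ 1 → Nat.card ↥(St H u) = s) :
    (Nat.card K).Coprime (Nat.card H / s) := by
  by_contra hnc
  obtain ⟨q, hq, hqK, hqk⟩ := Nat.Prime.not_coprime_iff_dvd.mp hnc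
  have := Fact.mk hq
  obtain ⟨Q⟩ : Nonempty (Sylow q ↥H) := inferInstance
  obtain ⟨QG, hQGdef⟩ : ∃ QG : Subgroup G, QG = (Q : Subgroup H).map H.subtype := ⟨_, rfl⟩
  have hQG : IsPGroup q QG := by rw [hQGdef]; exact Q.isPGroup'.map _
  have hQH : QG ≤ H := by rw [hQGdef]; exact Subgroup.map_subtype_le _
  have hfin : Finite ↥(K : Set G) := inferInstanceAs (Finite ↥K)
  have hqK' : q ∣ Nat.card ↥(K : Set G) := hqK
  obtain ⟨u, huK, hu1, hfix⟩ := exists_fixed_ne q QG hQG (K : Set G)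
    (fun g hg y hy => hK g (hQH hg) y hy) hqK' 1 K.one_mem (fun g _ => by group)
  have hle : QG ≤ St H u := le_St_of_fixed hQH hfix
  have h1 := sylow_bound (St H u) H inf_le_right q Q (hQGdef ▸ hle)
  rw [hs u huK hu1] at h1
  exact h1 hqk

/-- the gcd trick -/
theorem trick (H H₁ : Subgroup G) [Finite H] (hH₁ : H₁ ≤ H) (s : ℕ) (Y : Set G) [Finite Y]
    (hs : ∀ y ∈ Y, Nat.card ↥(St H y) = s)
    (hinv : ∀ h ∈ H₁, ∀ y ∈ Y, h * y * h⁻¹ ∈ Y)
    (hstab : ∀ y ∈ Y, St H y ≤ H₁)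
    (hcop : (Nat.card Y).Coprime (Nat.card H / s)) :
    ∀ y ∈ Y, H₁ ≤ Subgroup.centralizer ({y} : Set G) := by
  intro y₀ hy₀
  by_contra hnot
  have hfinH₁ : Finite H₁ := Finite.of_injective _ (Subgroup.inclusion_injective hH₁)
  have hne : St H y₀ ≠ H₁ := by
    intro h
    apply hnot
    rw [← h]
    exact inf_le_left
  have hlt : Nat.card (St H y₀) < Nat.card H₁ := by
    by_contra hge
    push Not at hge
    exact hne (Subgroup.eq_of_le_of_card_ge (hstab y₀ hy₀) hge)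
  have hdvd : Nat.card (St H y₀) ∣ Nat.card H₁ := Subgroup.card_dvd_of_le (hstab y₀ hy₀)
  have hfinSt : Finite (St H y₀) :=
    Finite.of_injective _ (Subgroup.inclusion_injective (hstab y₀ hy₀))
  have hs0 : 0 < s := by rw [← hs y₀ hy₀]; exact Nat.card_pos
  rw [hs y₀ hy₀] at hlt hdvd
  obtain ⟨e, he⟩ := hdvd
  have he1 : e ≠ 1 := by
    intro h; rw [h, mul_one] at he; omega
  obtain ⟨q, hq, hqe⟩ := Nat.exists_prime_and_dvd he1
  have hH₁H : Nat.card H₁ ∣ Nat.card H := Subgroup.card_dvd_of_le hH₁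
  have hek : e ∣ Nat.card H / s := by
    obtain ⟨c, hc⟩ := hH₁H
    rw [hc, he, mul_assoc, Nat.mul_div_cancel_left _ hs0]
    exact dvd_mul_right _ _
  have hqY : ¬ q ∣ Nat.card Y := by
    intro h
    exact hq.one_lt.ne' (Nat.eq_one_of_dvd_coprimes hcop h (dvd_trans hqe hek))
  have := Fact.mk hq
  obtain ⟨Q⟩ : Nonempty (Sylow q ↥H₁) := inferInstance
  obtain ⟨QG, hQGdef⟩ : ∃ QG : Subgroup G, QG = (Q : Subgroup H₁).map H₁.subtype := ⟨_, rfl⟩
  have hQG : IsPGroup q QG := by rw [hQGdef]; exact Q.isPGroup'.map _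
  have hQH₁ : QG ≤ H₁ := by rw [hQGdef]; exact Subgroup.map_subtype_le _
  obtain ⟨y₁, hy₁, hfix⟩ := exists_fixed q QG hQG Y
    (fun g hg y hy => hinv g (hQH₁ hg) y hy) hqY
  have hle : QG ≤ St H y₁ := le_St_of_fixed (hQH₁.trans hH₁) hfix
  have h1 := sylow_bound (St H y₁) H₁ (hstab y₁ hy₁) q Q (hQGdef ▸ hle)
  rw [hs y₁ hy₁, he, Nat.mul_div_cancel_left _ hs0] at h1
  exact h1 hqe

end Cfsg.Agent.H2.HalfTrans
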