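import Mathlib
import Cfsg.Agent.H2.HalfTrans

/-!
# Half-transitive automorphism groups (Isaacs–Passman)

`N ⊴ G`, `H ≤ G` acting faithfully on `N` by conjugation so that all `C_H(x)`, `x ∈ N^#`, have the
same order `s > 1`.  Then `N` is elementary abelian, and no proper nontrivial subgroup of `N`
normal in `G` exists.
-/

set_option linter.unusedSectionVars false

namespace Cfsg.Agent.H2.HalfTrans

variable {G : Type*} [Group G]

/-- the `N`-conjugacy class of `x` -/
def classN (N : Subgroup G) (x : G) : Set G := {y | ∃ n ∈ N, y = n * x * n⁻¹}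

theorem card_classN_dvd (N : Subgroup G) [Finite N] (x : G) :
    Nat.card (classN N x) ∣ Nat.card N := by
  let _ : MulAction ↥N G := MulAction.compHom G ((MulAut.conj : G →* MulAut G).comp N.subtype)
  have h1 : classN N x = MulAction.orbit ↥N x := by
    ext y
    constructor
    · rintro ⟨n, hn, rfl⟩
      exact ⟨⟨n, hn⟩, rfl⟩
    · rintro ⟨n, rfl⟩
      exact ⟨n, n.2, rfl⟩
  rw [h1, Nat.card_congr (MulAction.orbitEquivQuotientStabilizer ↥N x)]
  exact Subgroup.index_dvd_card _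

structure Hyp (N H : Subgroup G) (s : ℕ) : Prop where
  normal : N.Normal
  faith : ∀ h ∈ H, (∀ x ∈ N, h * x = x * h) → h = 1
  one_lt : 1 < s
  card : ∀ x ∈ N, x ≠ 1 → Nat.card ↥(St H x) = s

variable [Finite G] {N H : Subgroup G} {s : ℕ}

theorem Hyp.St_eq_of_le (hyp : Hyp N H s) {x y : G} (hx : x ∈ N) (hx1 : x ≠ 1) (hy : y ∈ N)
    (hy1 : y ≠ 1) (hle : St H x ≤ St H y) : St H x = St H y :=
  Subgroup.eq_of_le_of_card_ge hle (by rw [hyp.card x hx hx1, hyp.card y hy hy1])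

theorem Hyp.St_eq_of_centralizes (hyp : Hyp N H s) {x y : G} (hx : x ∈ N) (hx1 : x ≠ 1)
    (hy : y ∈ N) (hy1 : y ≠ 1) (hc : St H x ≤ Subgroup.centralizer ({y} : Set G)) :
    St H y = St H x :=
  (hyp.St_eq_of_le hx hx1 hy hy1 (le_inf hc inf_le_right)).symm

/-- `k = |H|/s` is prime to `|N|` -/
theorem Hyp.coprime (hyp : Hyp N H s) (K : Subgroup G) (hKN : K ≤ N)
    (hK : ∀ h ∈ H, ∀ u ∈ K, h * u * h⁻¹ ∈ K) : (Nat.card K).Coprime (Nat.card H / s) :=
  coprime_card H K hK s (fun u hu hu1 => hyp.card u (hKN hu) hu1)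

/-- the stabilizer of `x` centralizes the whole `N`-class of `x` -/
theorem Hyp.St_centralizes_class (hyp : Hyp N H s) {x : G} (hx : x ∈ N) (hx1 : x ≠ 1)
    {n : G} (hn : n ∈ N) : St H x ≤ Subgroup.centralizer ({n * x * n⁻¹} : Set G) := by
  have hNn := hyp.normal
  obtain ⟨Y, hYdef⟩ : ∃ Y : Set G, Y = classN N x := ⟨_, rfl⟩
  have hYN : ∀ y ∈ Y, y ∈ N ∧ y ≠ 1 := by
    intro y hy
    rw [hYdef] at hy
    obtain ⟨m, hm, rfl⟩ := hy
    refine ⟨N.mul_mem (N.mul_mem hm hx) (N.inv_mem hm), ?_⟩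
    intro h
    apply hx1
    have : x = m⁻¹ * (m * x * m⁻¹) * m := by group
    rw [this, h]; group
  -- conjugating the class by an element moving x into it
  have hconj : ∀ h : G, h * x * h⁻¹ ∈ Y → ∀ y ∈ Y, h * y * h⁻¹ ∈ Y := by
    intro h hh y hy
    rw [hYdef] at hh hy ⊢
    obtain ⟨m, hm, rfl⟩ := hy
    obtain ⟨m₀, hm₀, hm₀x⟩ := hh
    refine ⟨h * m * h⁻¹ * m₀, N.mul_mem (hNn.conj_mem m hm h) hm₀, ?_⟩
    calc h * (m * x * m⁻¹) * h⁻¹ = (h * m * h⁻¹) * (h * x * h⁻¹) * (h * m * h⁻¹)⁻¹ := by group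
      _ = (h * m * h⁻¹) * (m₀ * x * m₀⁻¹) * (h * m * h⁻¹)⁻¹ := by rw [hm₀x]
      _ = _ := by group
  have hconj' : ∀ h : G, h * x * h⁻¹ ∈ Y → h⁻¹ * x * h⁻¹⁻¹ ∈ Y := by
    intro h hh
    rw [hYdef] at hh ⊢
    obtain ⟨m₀, hm₀, hm₀x⟩ := hh
    refine ⟨h⁻¹ * m₀⁻¹ * h, ?_, ?_⟩
    · have := hNn.conj_mem m₀⁻¹ (N.inv_mem hm₀) h⁻¹
      rwa [inv_inv] at this
    · have : x = m₀⁻¹ * (h * x * h⁻¹) * m₀ := by rw [hm₀x]; group
      nth_rewrite 1 [this]
      group
  have hnorm : ∀ h : G, h * x * h⁻¹ ∈ Y → h ∈ Subgroup.normalizer Y := by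
    intro h hh
    rw [Subgroup.mem_set_normalizer_iff]
    intro y
    constructor
    · exact hconj h hh y
    · intro hy
      have := hconj h⁻¹ (hconj' h hh) _ hy
      have h2 : h⁻¹ * (h * y * h⁻¹) * h⁻¹⁻¹ = y := by group
      rwa [h2] at this
  have hxY : x ∈ Y := by rw [hYdef]; exact ⟨1, N.one_mem, by group⟩
  have hfinY : Finite Y := Subtype.finite
  have hcopN : (Nat.card N).Coprime (Nat.card H / s) :=
    hyp.coprime N le_rfl (fun h _ u hu => hNn.conj_mem u hu h)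
  have hcop : (Nat.card Y).Coprime (Nat.card H / s) := by
    apply Nat.Coprime.coprime_dvd_left _ hcopN
    rw [hYdef]
    exact card_classN_dvd N x
  have key := trick H (Subgroup.normalizer Y ⊓ H) inf_le_right s Y
    (fun y hy => hyp.card y (hYN y hy).1 (hYN y hy).2)
    (fun h hh y hy => (Subgroup.mem_set_normalizer_iff.mp hh.1 y).mp hy)
    (by
      intro y hy h hh
      rw [mem_St] at hh
      refine ⟨?_, hh.2⟩
      apply hnorm
      -- h * x * h⁻¹ ∈ Y, knowing h commutes with y = m x m⁻¹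
      have hy' := hy
      rw [hYdef] at hy'
      obtain ⟨m, hm, rfl⟩ := hy'
      rw [hYdef]
      refine ⟨h * m⁻¹ * h⁻¹ * m, N.mul_mem (hNn.conj_mem _ (N.inv_mem hm) h) hm, ?_⟩
      have h3 : h * (m * x * m⁻¹) * h⁻¹ = m * x * m⁻¹ := by
        rw [hh.1]; group
      calc h * x * h⁻¹ = (h * m⁻¹ * h⁻¹) * (h * (m * x * m⁻¹) * h⁻¹) * (h * m⁻¹ * h⁻¹)⁻¹ := by
            group
        _ = (h * m⁻¹ * h⁻¹) * (m * x * m⁻¹) * (h * m⁻¹ * h⁻¹)⁻¹ := by rw [h3]
        _ = _ := by group)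
    hcop
  have hnY : n * x * n⁻¹ ∈ Y := by rw [hYdef]; exact ⟨n, hn, rfl⟩
  intro h hh
  apply key _ hnY
  refine ⟨?_, (mem_St.mp hh).2⟩
  apply hnorm
  have : h * x * h⁻¹ = x := by rw [(mem_St.mp hh).1]; group
  rw [this]
  exact hxY

theorem commute_of_mem_St {h x : G} (hh : h ∈ St H x) : Commute h x := (mem_St.mp hh).1

theorem le_centralizer_of_commute {T : Subgroup G} {y : G} (h : ∀ t ∈ T, Commute t y) :
    T ≤ Subgroup.centralizer ({y} : Set G) := by
  intro t ht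
  rw [Subgroup.mem_centralizer_singleton_iff]
  exact h t ht

theorem Hyp.exists_other (hyp : Hyp N H s) {x : G} (hx : x ∈ N) (hx1 : x ≠ 1) :
    ∃ y ∈ N, y ≠ 1 ∧ St H y ≠ St H x := by
  by_contra hall
  push Not at hall
  have h1 : ∀ h ∈ St H x, h = 1 := by
    intro h hh
    apply hyp.faith h (mem_St.mp hh).2
    intro y hy
    by_cases hy1 : y = 1
    · rw [hy1]; simp
    · have := hall y hy hy1
      rw [← this] at hh
      exact (mem_St.mp hh).1
  have h2 : St H x = ⊥ := (Subgroup.eq_bot_iff_forall _).mpr h1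
  have h3 := hyp.card x hx hx1
  rw [h2, Subgroup.card_bot] at h3
  have := hyp.one_lt
  omega

theorem Hyp.commute_of_ne (hyp : Hyp N H s) {x y : G} (hx : x ∈ N) (hx1 : x ≠ 1) (hy : y ∈ N)
    (hy1 : y ≠ 1) (hne : St H x ≠ St H y) : Commute x y := by
  have hNn := hyp.normal
  by_contra hnc
  obtain ⟨c, hcdef⟩ : ∃ c : G, c = x * y * x⁻¹ * y⁻¹ := ⟨_, rfl⟩
  have hc1 : c ≠ 1 := by
    intro h
    apply hnc
    rw [hcdef] at h
    have : x * y = y * x := by
      calc x * y = (x * y * x⁻¹ * y⁻¹) * (y * x) := by group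
        _ = y * x := by rw [h, one_mul]
    exact this
  have hcN : c ∈ N := by
    rw [hcdef]
    exact N.mul_mem (N.mul_mem (N.mul_mem hx hy) (N.inv_mem hx)) (N.inv_mem hy)
  -- St H x centralizes c
  have h1 : St H x ≤ Subgroup.centralizer ({c} : Set G) := by
    apply le_centralizer_of_commute
    intro t ht
    have ht1 : Commute t x := commute_of_mem_St ht
    have ht2 : Commute t (y * x * y⁻¹) := by
      have := hyp.St_centralizes_class hx hx1 hy ht
      rwa [Subgroup.mem_centralizer_singleton_iff] at this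
    have : c = x * (y * x * y⁻¹)⁻¹ := by rw [hcdef]; group
    rw [this]
    exact ht1.mul_right ht2.inv_right
  have h2 : St H y ≤ Subgroup.centralizer ({c} : Set G) := by
    apply le_centralizer_of_commute
    intro t ht
    have ht1 : Commute t y := commute_of_mem_St ht
    have ht2 : Commute t (x * y * x⁻¹) := by
      have := hyp.St_centralizes_class hy hy1 hx ht
      rwa [Subgroup.mem_centralizer_singleton_iff] at this
    have : c = (x * y * x⁻¹) * y⁻¹ := by rw [hcdef]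
    rw [this]
    exact ht2.mul_right ht1.inv_right
  have h3 := hyp.St_eq_of_centralizes hx hx1 hcN hc1 h1
  have h4 := hyp.St_eq_of_centralizes hy hy1 hcN hc1 h2
  exact hne (h3.symm.trans h4)

theorem Hyp.mul_other (hyp : Hyp N H s) {x y : G} (hx : x ∈ N) (hx1 : x ≠ 1) (hy : y ∈ N)
    (hy1 : y ≠ 1) (hne : St H x ≠ St H y) :
    x * y ≠ 1 ∧ St H (x * y) ≠ St H x ∧ St H (x * y) ≠ St H y := by
  have hxy1 : x * y ≠ 1 := by
    intro h
    have hyx : y = x⁻¹ := (eq_inv_of_mul_eq_one_right h)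
    apply hne
    have h1 : St H x ≤ Subgroup.centralizer ({y} : Set G) := by
      apply le_centralizer_of_commute
      intro t ht
      rw [hyx]
      exact (commute_of_mem_St ht).inv_right
    exact (hyp.St_eq_of_centralizes hx hx1 hy hy1 h1).symm
  refine ⟨hxy1, ?_, ?_⟩
  · intro h
    apply hne
    have h1 : St H x ≤ Subgroup.centralizer ({y} : Set G) := by
      apply le_centralizer_of_commute
      intro t ht
      have ht1 : Commute t x := commute_of_mem_St ht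
      have ht2 : Commute t (x * y) := commute_of_mem_St (h ▸ ht)
      have : y = x⁻¹ * (x * y) := by group
      rw [this]
      exact ht1.inv_right.mul_right ht2
    exact (hyp.St_eq_of_centralizes hx hx1 hy hy1 h1).symm
  · intro h
    apply hne
    have h1 : St H y ≤ Subgroup.centralizer ({x} : Set G) := by
      apply le_centralizer_of_commute
      intro t ht
      have ht1 : Commute t y := commute_of_mem_St ht
      have ht2 : Commute t (x * y) := commute_of_mem_St (h ▸ ht)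
      have : x = (x * y) * y⁻¹ := by group
      rw [this]
      exact ht2.mul_right ht1.inv_right
    exact hyp.St_eq_of_centralizes hy hy1 hx hx1 h1

theorem Hyp.pow_orderOf_other (hyp : Hyp N H s) {x y : G} (hx : x ∈ N) (hx1 : x ≠ 1) (hy : y ∈ N)
    (hy1 : y ≠ 1) (hne : St H x ≠ St H y) : y ^ orderOf x = 1 := by
  by_contra hym
  have hc := hyp.commute_of_ne hx hx1 hy hy1 hne
  obtain ⟨hxy1, hxy2, hxy3⟩ := hyp.mul_other hx hx1 hy hy1 hne
  have hpow : (x * y) ^ orderOf x = y ^ orderOf x := by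
    rw [hc.mul_pow, pow_orderOf_eq_one, one_mul]
  have hymN : y ^ orderOf x ∈ N := N.pow_mem hy _
  have h1 : St H y ≤ Subgroup.centralizer ({y ^ orderOf x} : Set G) := by
    apply le_centralizer_of_commute
    intro t ht
    exact (commute_of_mem_St ht).pow_right _
  have h2 : St H (x * y) ≤ Subgroup.centralizer ({y ^ orderOf x} : Set G) := by
    apply le_centralizer_of_commute
    intro t ht
    rw [← hpow]
    exact (commute_of_mem_St ht).pow_right _
  have h3 := hyp.St_eq_of_centralizes hy hy1 hymN hym h1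
  have h4 := hyp.St_eq_of_centralizes (N.mul_mem hx hy) hxy1 hymN hym h2
  exact hxy3 (h4.symm.trans h3)

theorem Hyp.orderOf_eq_of_ne (hyp : Hyp N H s) {x y : G} (hx : x ∈ N) (hx1 : x ≠ 1) (hy : y ∈ N)
    (hy1 : y ≠ 1) (hne : St H x ≠ St H y) : orderOf x = orderOf y :=
  Nat.dvd_antisymm
    (orderOf_dvd_of_pow_eq_one (hyp.pow_orderOf_other hy hy1 hx hx1 hne.symm))
    (orderOf_dvd_of_pow_eq_one (hyp.pow_orderOf_other hx hx1 hy hy1 hne))

theorem Hyp.prime_orderOf (hyp : Hyp N H s) {x : G} (hx : x ∈ N) (hx1 : x ≠ 1) :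
    (orderOf x).Prime := by
  obtain ⟨y, hy, hy1, hne⟩ := hyp.exists_other hx hx1
  have hm1 : orderOf x ≠ 1 := by rwa [Ne, orderOf_eq_one_iff]
  obtain ⟨p, hp, hpd⟩ := Nat.exists_prime_and_dvd hm1
  obtain ⟨m', hm'⟩ := hpd
  have hm'0 : m' ≠ 0 := by
    intro h
    rw [h, mul_zero] at hm'
    exact (orderOf_pos x).ne' hm'
  have hord : orderOf (x ^ m') = p := by
    rw [orderOf_pow_of_dvd hm'0 ⟨p, by rw [hm', mul_comm]⟩, hm', Nat.mul_div_cancel _ (Nat.pos_of_ne_zero hm'0)]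
  have hx'1 : x ^ m' ≠ 1 := by
    intro h
    rw [h, orderOf_one] at hord
    exact hp.one_lt.ne hord
  have hx'N : x ^ m' ∈ N := N.pow_mem hx _
  have h1 : St H x ≤ Subgroup.centralizer ({x ^ m'} : Set G) := by
    apply le_centralizer_of_commute
    intro t ht
    exact (commute_of_mem_St ht).pow_right _
  have h2 := hyp.St_eq_of_centralizes hx hx1 hx'N hx'1 h1
  have hne' : St H (x ^ m') ≠ St H y := by rw [h2]; exact hne.symm
  have h3 := hyp.orderOf_eq_of_ne hx'N hx'1 hy hy1 hne'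
  have h4 := hyp.orderOf_eq_of_ne hx hx1 hy hy1 hne.symm
  rw [h4, ← h3, hord]
  exact hp

theorem Hyp.orderOf_eq (hyp : Hyp N H s) {x x' : G} (hx : x ∈ N) (hx1 : x ≠ 1) (hx' : x' ∈ N)
    (hx'1 : x' ≠ 1) : orderOf x = orderOf x' := by
  by_cases hne : St H x = St H x'
  · obtain ⟨y, hy, hy1, hney⟩ := hyp.exists_other hx hx1
    have h1 := hyp.orderOf_eq_of_ne hx hx1 hy hy1 hney.symm
    have h2 := hyp.orderOf_eq_of_ne hx' hx'1 hy hy1 (hne ▸ hney.symm)
    rw [h1, h2]
  · exact hyp.orderOf_eq_of_ne hx hx1 hx' hx'1 hne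

theorem Hyp.commute (hyp : Hyp N H s) {x x' : G} (hx : x ∈ N) (hx' : x' ∈ N) : Commute x x' := by
  by_cases hx1 : x = 1
  · rw [hx1]; exact Commute.one_left _
  by_cases hx'1 : x' = 1
  · rw [hx'1]; exact Commute.one_right _
  by_cases hne : St H x = St H x'
  · obtain ⟨y, hy, hy1, hney⟩ := hyp.exists_other hx hx1
    have hney' : St H x' ≠ St H y := by rw [← hne]; exact hney.symm
    obtain ⟨h1, h2, h3⟩ := hyp.mul_other hx' hx'1 hy hy1 hney'
    have hc1 : Commute x (x' * y) :=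
      hyp.commute_of_ne hx hx1 (N.mul_mem hx' hy) h1 (by rw [hne]; exact h2.symm)
    have hc2 : Commute x y := hyp.commute_of_ne hx hx1 hy hy1 hney.symm
    have : x' = (x' * y) * y⁻¹ := by group
    rw [this]
    exact hc1.mul_right hc2.inv_right
  · exact hyp.commute_of_ne hx hx1 hx' hx'1 hne

/-- **Isaacs–Passman**: `N` is elementary abelian. -/
theorem Hyp.elementary (hyp : Hyp N H s) :
    ∃ p : ℕ, p.Prime ∧ (∀ x ∈ N, ∀ x' ∈ N, x * x' = x' * x) ∧ ∀ x ∈ N, x ^ p = 1 := by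
  by_cases hN : N = ⊥
  · refine ⟨2, Nat.prime_two, ?_, ?_⟩
    · intro x hx x' hx'
      rw [hN, Subgroup.mem_bot] at hx hx'
      rw [hx, hx']
    · intro x hx
      rw [hN, Subgroup.mem_bot] at hx
      rw [hx, one_pow]
  · obtain ⟨x₀, hx₀1⟩ := (Subgroup.ne_bot_iff_exists_ne_one).mp hN
    have hx₀N : (x₀ : G) ∈ N := x₀.2
    have hx₀1' : (x₀ : G) ≠ 1 := fun h => hx₀1 (Subtype.ext h)
    refine ⟨orderOf (x₀ : G), hyp.prime_orderOf hx₀N hx₀1', ?_, ?_⟩
    · intro x hx x' hx'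
      exact hyp.commute hx hx'
    · intro x hx
      by_cases hx1 : x = 1
      · rw [hx1, one_pow]
      · rw [hyp.orderOf_eq hx₀N hx₀1' hx hx1]
        exact pow_orderOf_eq_one x

/-- for `K ⊴ G` inside `N` and `x ∈ N ∖ K`, stabilizers of `x` and of `u ∈ K^#` coincide -/
theorem Hyp.St_eq_of_coset (hyp : Hyp N H s) (K : Subgroup G) (hKn : K.Normal) (hKN : K ≤ N)
    {x : G} (hx : x ∈ N) (hxK : x ∉ K) {u : G} (hu : u ∈ K) (hu1 : u ≠ 1) :
    St H u = St H x := by
  have hx1 : x ≠ 1 := fun h => hxK (h ▸ K.one_mem)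
  obtain ⟨Y, hYdef⟩ : ∃ Y : Set G, Y = {m | x⁻¹ * m ∈ K} := ⟨_, rfl⟩
  have hmemY : ∀ m, m ∈ Y ↔ x⁻¹ * m ∈ K := by intro m; rw [hYdef]; rfl
  have hYN : ∀ m ∈ Y, m ∈ N ∧ m ≠ 1 := by
    intro m hm
    rw [hmemY] at hm
    constructor
    · have : m = x * (x⁻¹ * m) := by group
      rw [this]
      exact N.mul_mem hx (hKN hm)
    · intro h
      rw [h, mul_one] at hm
      exact hxK (by simpa using K.inv_mem hm)
  have hnorm : ∀ h : G, ∀ y ∈ Y, h * y * h⁻¹ = y → h ∈ Subgroup.normalizer Y := by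
    intro h y hy hhy
    rw [hmemY] at hy
    have hcomm : h * y⁻¹ = y⁻¹ * h := by
      have : h * y = y * h := by
        calc h * y = h * y * h⁻¹ * h := by group
          _ = y * h := by rw [hhy]
      calc h * y⁻¹ = y⁻¹ * (y * h) * y⁻¹ := by group
        _ = y⁻¹ * (h * y) * y⁻¹ := by rw [this]
        _ = y⁻¹ * h := by group
    have key : ∀ m, x⁻¹ * (h * m * h⁻¹)
        = (x⁻¹ * y) * (h * ((x⁻¹ * y)⁻¹ * (x⁻¹ * m)) * h⁻¹) := by
      intro m
      calc x⁻¹ * (h * m * h⁻¹) = x⁻¹ * y * (y⁻¹ * h) * m * h⁻¹ := by group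
        _ = x⁻¹ * y * (h * y⁻¹) * m * h⁻¹ := by rw [hcomm]
        _ = _ := by group
    rw [Subgroup.mem_set_normalizer_iff]
    intro m
    rw [hmemY, hmemY, key m]
    constructor
    · intro hm
      exact K.mul_mem hy (hKn.conj_mem _ (K.mul_mem (K.inv_mem hy) hm) h)
    · intro hm
      have h1 : h * ((x⁻¹ * y)⁻¹ * (x⁻¹ * m)) * h⁻¹ ∈ K := by
        have := K.mul_mem (K.inv_mem hy) hm
        rwa [inv_mul_cancel_left] at this
      have h2 := hKn.conj_mem _ h1 h⁻¹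
      have h3 : h⁻¹ * (h * ((x⁻¹ * y)⁻¹ * (x⁻¹ * m)) * h⁻¹) * h⁻¹⁻¹
          = (x⁻¹ * y)⁻¹ * (x⁻¹ * m) := by group
      rw [h3] at h2
      have := K.mul_mem hy h2
      rwa [mul_inv_cancel_left] at this
  have hfinY : Finite Y := Subtype.finite
  have hcardY : Nat.card Y = Nat.card K := by
    apply Nat.card_congr
    refine ⟨fun m => ⟨x⁻¹ * m, (hmemY m).mp m.2⟩, fun v => ⟨x * v, ?_⟩, ?_, ?_⟩
    · rw [hmemY, inv_mul_cancel_left]; exact v.2
    · intro m; apply Subtype.ext; simp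
    · intro v; apply Subtype.ext; simp
  have hcop : (Nat.card Y).Coprime (Nat.card H / s) := by
    rw [hcardY]
    exact hyp.coprime K hKN (fun h _ v hv => hKn.conj_mem v hv h)
  have hstab : ∀ y ∈ Y, St H y ≤ Subgroup.normalizer Y ⊓ H := by
    intro y hy h hh
    refine ⟨hnorm h y hy ?_, (mem_St.mp hh).2⟩
    rw [(mem_St.mp hh).1]; group
  have key := trick H (Subgroup.normalizer Y ⊓ H) inf_le_right s Y
    (fun y hy => hyp.card y (hYN y hy).1 (hYN y hy).2)
    (fun h hh y hy => (Subgroup.mem_set_normalizer_iff.mp hh.1 y).mp hy)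
    hstab hcop
  have hxY : x ∈ Y := by rw [hmemY, inv_mul_cancel]; exact K.one_mem
  have hxuY : x * u ∈ Y := by rw [hmemY, inv_mul_cancel_left]; exact hu
  apply hyp.St_eq_of_centralizes hx hx1 (hKN hu) hu1
  apply le_centralizer_of_commute
  intro t ht
  have ht1 : Commute t x := commute_of_mem_St ht
  have ht2 : Commute t (x * u) := by
    have := key (x * u) hxuY (hstab x hxY ht)
    rwa [Subgroup.mem_centralizer_singleton_iff] at this
  have : u = x⁻¹ * (x * u) := by group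
  rw [this]
  exact ht1.inv_right.mul_right ht2

/-- every nontrivial normal subgroup of `G = NH` contains `N`. -/
theorem Hyp.le_of_normal (hyp : Hyp N H s) (hG : ∀ g : G, ∃ n ∈ N, ∃ h ∈ H, g = n * h)
    (M : Subgroup G) (hM : M.Normal) (hM1 : M ≠ ⊥) : N ≤ M := by
  have hNn := hyp.normal
  by_contra hNM
  obtain ⟨K, hKdef⟩ : ∃ K : Subgroup G, K = M ⊓ N := ⟨_, rfl⟩
  have hKn : K.Normal := by rw [hKdef]; infer_instance
  have hKN : K ≤ N := by rw [hKdef]; exact inf_le_right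
  by_cases hK : K = ⊥
  · apply hM1
    rw [Subgroup.eq_bot_iff_forall]
    intro m hm
    have hcomm : ∀ x ∈ N, Commute m x := by
      intro x hx
      have h1 : m * x * m⁻¹ * x⁻¹ ∈ K := by
        rw [hKdef, Subgroup.mem_inf]
        refine ⟨?_, ?_⟩
        · have := M.mul_mem hm (hM.conj_mem m⁻¹ (M.inv_mem hm) x)
          have h2 : m * (x * m⁻¹ * x⁻¹) = m * x * m⁻¹ * x⁻¹ := by group
          rwa [h2] at this
        · exact N.mul_mem (hNn.conj_mem x hx m) (N.inv_mem hx)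
      rw [hK, Subgroup.mem_bot] at h1
      show m * x = x * m
      calc m * x = (m * x * m⁻¹ * x⁻¹) * (x * m) := by group
        _ = x * m := by rw [h1, one_mul]
    obtain ⟨n, hn, h, hh, hmnh⟩ := hG m
    have hh1 : h = 1 := by
      apply hyp.faith h hh
      intro x hx
      have hc1 : Commute m x := hcomm x hx
      have hc2 : Commute n x := hyp.commute hn hx
      have : h = n⁻¹ * m := by rw [hmnh]; group
      rw [this]
      exact (hc2.inv_left.mul_left hc1)
    rw [hh1, mul_one] at hmnh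
    have : m ∈ K := by rw [hKdef, Subgroup.mem_inf]; exact ⟨hm, hmnh ▸ hn⟩
    rw [hK, Subgroup.mem_bot] at this
    exact this
  · obtain ⟨u₀, hu₀1⟩ := (Subgroup.ne_bot_iff_exists_ne_one).mp hK
    have hu₀1' : (u₀ : G) ≠ 1 := fun h => hu₀1 (Subtype.ext h)
    obtain ⟨x₀, hx₀N, hx₀M⟩ := SetLike.not_le_iff_exists.mp hNM
    have hx₀K : x₀ ∉ K := fun h => hx₀M (by rw [hKdef, Subgroup.mem_inf] at h; exact h.1)
    have hx₀1 : x₀ ≠ 1 := fun h => hx₀K (h ▸ K.one_mem)
    obtain ⟨y, hy, hy1, hne⟩ := hyp.exists_other hx₀N hx₀1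
    apply hne
    by_cases hyK : y ∈ K
    · exact hyp.St_eq_of_coset K hKn hKN hx₀N hx₀K hyK hy1
    · have h1 := hyp.St_eq_of_coset K hKn hKN hy hyK u₀.2 hu₀1'
      have h2 := hyp.St_eq_of_coset K hKn hKN hx₀N hx₀K u₀.2 hu₀1'
      exact h1.symm.trans h2

end Cfsg.Agent.H2.HalfTrans
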