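import Mathlib
import Cfsg.Agent.H2.Maschke
import Cfsg.Agent.H1.FrattiniExtra
import Cfsg.Agent.S0043

/-!
# Index of the fixed points of a coprime solvable action on an elementary abelian group

`A` finite solvable acting on an elementary abelian `p`-group `V` with `p ∤ |A|`.  Then
`[V : C_V(A)]` is a product of numbers, each a power of `p` dividing `|V|` and congruent to `1`
modulo some prime divisor of `|A|`  (the orders of the nontrivial irreducible constituents).
-/

set_option autoImplicit false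
set_option linter.unusedSectionVars false
set_option linter.unusedVariables false

namespace Cfsg.Agent.H2.HallCountM

universe u v

variable {A : Type v} [Group A] [Finite A]

section basic

variable {V : Type u} [CommGroup V]

/-- `act` is an action by automorphisms -/
structure IsAct (act : A → V →* V) : Prop where
  one : ∀ v, act 1 v = v
  mul : ∀ a b v, act (a * b) v = act a (act b v)

/-- invariant subgroups -/
def Inv (act : A → V →* V) (U : Subgroup V) : Prop := ∀ a, ∀ u ∈ U, act a u ∈ U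

/-- the fixed points -/
def fixedSub (act : A → V →* V) : Subgroup V where
  carrier := {v | ∀ a, act a v = v}
  one_mem' := fun a => map_one _
  mul_mem' := by
    intro x y hx hy a
    rw [map_mul, hx a, hy a]
  inv_mem' := by
    intro x hx a
    rw [map_inv, hx a]

theorem mem_fixedSub {act : A → V →* V} {v : V} : v ∈ fixedSub act ↔ ∀ a, act a v = v := Iff.rfl

theorem Inv.inf {act : A → V →* V} {U W : Subgroup V} (hU : Inv act U) (hW : Inv act W) :
    Inv act (U ⊓ W) := fun a u hu => ⟨hU a u hu.1, hW a u hu.2⟩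

theorem inv_fixedSub (act : A → V →* V) : Inv act (fixedSub act) := by
  intro a u hu
  rw [hu a]; exact hu

variable [Finite V]

/-- an irreducible invariant subgroup on which the action is nontrivial -/
theorem exists_irred {act : A → V →* V} (hact : IsAct act) (p : ℕ) [Fact p.Prime]
    (hexp : ∀ v : V, v ^ p = 1) (hcop : (Nat.card A).Coprime p) (hne : fixedSub act ≠ ⊤) :
    ∃ W : Subgroup V, Inv act W ∧ ¬ W ≤ fixedSub act ∧
      ∀ U : Subgroup V, Inv act U → U ≤ W → U = ⊥ ∨ U = W := by
  obtain ⟨W, -, hW⟩ := Finite.exists_le_minimal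
    (p := fun W : Subgroup V => Inv act W ∧ ¬ W ≤ fixedSub act) (a := ⊤)
    ⟨fun a u _ => Subgroup.mem_top _, fun h => hne (top_le_iff.mp h)⟩
  refine ⟨W, hW.1.1, hW.1.2, ?_⟩
  intro U hU hUW
  by_cases hUeq : U = W
  · exact Or.inr hUeq
  left
  have hnot : ∀ U' : Subgroup V, Inv act U' → U' ≤ W → U' ≠ W → U' ≤ fixedSub act := by
    intro U' hU' hle hne'
    by_contra hcon
    exact hne' (le_antisymm hle (hW.2 ⟨hU', hcon⟩ hle))
  have hUfix := hnot U hU hUW hUeq
  obtain ⟨U'', hU''inv, hdisj, hsup⟩ :=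
    Cfsg.Agent.H2.Maschke.maschke p hexp hcop act hact.one hact.mul U hU
  have hmod : U ⊔ U'' ⊓ W = W := by
    rw [← sup_inf_assoc_of_le U'' hUW, hsup, top_inf_eq]
  have hU'W : U'' ⊓ W = W := by
    by_contra hne'
    have h1 := hnot (U'' ⊓ W) (Inv.inf (act := act) hU''inv hW.1.1) inf_le_right hne'
    apply hW.1.2
    rw [← hmod]
    exact sup_le hUfix h1
  have hWU'' : W ≤ U'' := by rw [← hU'W]; exact inf_le_left
  rw [eq_bot_iff, ← hdisj]
  exact le_inf le_rfl (hUW.trans hWU'')

end basic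

section modr

variable {V : Type u} [CommGroup V] [Finite V]

/-- the automorphism of an invariant subgroup induced by `a` -/
def resAut {act : A → V →* V} (hact : IsAct act) {W : Subgroup V} (hW : Inv act W) :
    A →* MulAut ↥W where
  toFun a :=
    { toFun := fun w => ⟨act a w, hW a w w.2⟩
      invFun := fun w => ⟨act a⁻¹ w, hW a⁻¹ w w.2⟩
      left_inv := fun w => Subtype.ext (by
        show act a⁻¹ (act a w) = w
        rw [← hact.mul, inv_mul_cancel, hact.one])
      right_inv := fun w => Subtype.ext (by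
        show act a (act a⁻¹ w) = w
        rw [← hact.mul, mul_inv_cancel, hact.one])
      map_mul' := fun x y => Subtype.ext (by
        show act a ((x * y : ↥W) : V) = act a x * act a y
        rw [Subgroup.coe_mul, map_mul]) }
  map_one' := by
    apply MulEquiv.ext
    intro w
    apply Subtype.ext
    show act 1 w = w
    exact hact.one _
  map_mul' := fun a b => by
    apply MulEquiv.ext
    intro w
    apply Subtype.ext
    show act (a * b) w = act a (act b w)
    exact hact.mul a b _

theorem resAut_apply {act : A → V →* V} (hact : IsAct act) {W : Subgroup V} (hW : Inv act W)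
    (a : A) (w : ↥W) : ((resAut hact hW a w : ↥W) : V) = act a w := rfl

variable [Group.IsSolvable A]

theorem card_modEq_one {act : A → V →* V} (hact : IsAct act) (W : Subgroup V) (hW : Inv act W)
    (hnf : ¬ W ≤ fixedSub act)
    (hirr : ∀ U : Subgroup V, Inv act U → U ≤ W → U = ⊥ ∨ U = W) :
    ∃ r : ℕ, r.Prime ∧ r ∣ Nat.card A ∧ Nat.card ↥W ≡ 1 [MOD r] := by
  classical
  set φ := resAut hact hW with hφ
  set B := φ.range with hB
  have hBsolv : Group.IsSolvable ↥B := Group.isSolvable_of_surjective φ.rangeRestrict_surjective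
  have hBne : (⊤ : Subgroup ↥B) ≠ ⊥ := by
    obtain ⟨w, hwW, hwf⟩ := SetLike.not_le_iff_exists.mp hnf
    have hwf' : ∃ a, act a w ≠ w := by
      by_contra hcon
      apply hwf
      intro a
      by_contra h
      exact hcon ⟨a, h⟩
    obtain ⟨a, ha⟩ := hwf'
    intro h
    have h0 : (⟨φ a, a, rfl⟩ : ↥B) ∈ (⊥ : Subgroup ↥B) := h ▸ Subgroup.mem_top _
    rw [Subgroup.mem_bot] at h0
    have h1 : φ a = 1 := congrArg Subtype.val h0
    apply ha
    have h2 : ((φ a ⟨w, hwW⟩ : ↥W) : V) = w := by rw [h1]; rfl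
    exact h2
  obtain ⟨R, hRn, hRne, -, hRmin⟩ := Cfsg.Agent.H1.exists_minimal_normal_le (⊤ : Subgroup ↥B) hBne
  have _ := hRn
  obtain ⟨-, r, hr, hRexp⟩ := Cfsg.Agent.S0043.result R hRne hRmin
  have _ : Fact r.Prime := ⟨hr⟩
  set R' : Subgroup (MulAut ↥W) := R.map B.subtype with hR'
  have hR'p : IsPGroup r ↥R' := by
    intro g
    obtain ⟨x, hx, hxg⟩ := g.2
    refine ⟨1, ?_⟩
    apply Subtype.ext
    rw [pow_one, Subgroup.coe_pow, ← hxg, ← map_pow, hRexp x hx, map_one]
    rfl
  have hrA : r ∣ Nat.card A := by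
    obtain ⟨x, hx1⟩ := (Subgroup.ne_bot_iff_exists_ne_one).mp hRne
    have hx1' : (x : ↥B) ≠ 1 := fun h => hx1 (Subtype.ext h)
    have hox : orderOf (x : ↥B) = r := orderOf_eq_prime (hRexp x x.2) hx1'
    have h1 : r ∣ Nat.card ↥B := hox ▸ orderOf_dvd_natCard (x : ↥B)
    exact h1.trans (Subgroup.card_range_dvd φ)
  refine ⟨r, hr, hrA, ?_⟩
  -- the fixed points of `R'`
  let U : Subgroup V :=
    { carrier := {v | ∃ hv : v ∈ W, ∀ f ∈ R', f ⟨v, hv⟩ = ⟨v, hv⟩}
      one_mem' := ⟨W.one_mem, fun f _ => map_one f⟩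
      mul_mem' := by
        rintro x y ⟨hx, hxf⟩ ⟨hy, hyf⟩
        refine ⟨W.mul_mem hx hy, fun f hf => ?_⟩
        have e : (⟨x * y, W.mul_mem hx hy⟩ : ↥W) = ⟨x, hx⟩ * ⟨y, hy⟩ := rfl
        rw [e, map_mul, hxf f hf, hyf f hf]
      inv_mem' := by
        rintro x ⟨hx, hxf⟩
        refine ⟨W.inv_mem hx, fun f hf => ?_⟩
        have e : (⟨x⁻¹, W.inv_mem hx⟩ : ↥W) = ⟨x, hx⟩⁻¹ := rfl
        rw [e, map_inv, hxf f hf] }
  have hUW : U ≤ W := fun v hv => hv.1
  have hUinv : Inv act U := by
    rintro a v ⟨hv, hvf⟩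
    refine ⟨hW a v hv, fun f hf => ?_⟩
    obtain ⟨x, hxR, hxf⟩ := hf
    have hb : (⟨φ a, a, rfl⟩ : ↥B)⁻¹ * x * (⟨φ a, a, rfl⟩ : ↥B)⁻¹⁻¹ ∈ R := hRn.conj_mem x hxR _
    have hmem : (φ a)⁻¹ * f * φ a ∈ R' := by
      refine ⟨_, hb, ?_⟩
      rw [inv_inv, map_mul, map_mul, map_inv, hxf]
      rfl
    have h1 := hvf _ hmem
    have e1 : (⟨act a v, hW a v hv⟩ : ↥W) = φ a ⟨v, hv⟩ := rfl
    rw [e1]
    have e2 : f (φ a ⟨v, hv⟩) = φ a (((φ a)⁻¹ * f * φ a) ⟨v, hv⟩) := by
      simp only [MulAut.mul_apply, MulAut.apply_inv_self]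
    rw [e2, h1]
  have hfix : MulAction.fixedPoints ↥R' ↥W = {1} := by
    rcases hirr U hUinv hUW with hU | hU
    · ext w
      rw [MulAction.mem_fixedPoints, Set.mem_singleton_iff]
      constructor
      · intro h
        have hwU : (w : V) ∈ U := by
          refine ⟨w.2, fun f hf => ?_⟩
          exact h ⟨f, hf⟩
        rw [hU, Subgroup.mem_bot] at hwU
        exact Subtype.ext hwU
      · rintro rfl g
        exact map_one (g : MulAut ↥W)
    · exfalso
      apply hRne
      rw [eq_bot_iff]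
      intro x hxR
      rw [Subgroup.mem_bot]
      apply Subtype.ext
      apply MulEquiv.ext
      intro w
      have hwU : (w : V) ∈ U := by rw [hU]; exact w.2
      obtain ⟨hv, hvf⟩ := hwU
      exact hvf _ ⟨x, hxR, rfl⟩
  have h1 := hR'p.card_modEq_card_fixedPoints ↥W
  rw [hfix] at h1
  simpa using h1

end modr

section main

variable [Group.IsSolvable A]

/-- the restricted action on an invariant subgroup -/
def resAct {V : Type u} [CommGroup V] (act : A → V →* V) {W : Subgroup V} (hW : Inv act W) :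
    A → ↥W →* ↥W := fun a => ((act a).comp W.subtype).codRestrict W (fun w => hW a w w.2)

theorem resAct_apply {V : Type u} [CommGroup V] (act : A → V →* V) {W : Subgroup V}
    (hW : Inv act W) (a : A) (w : ↥W) : ((resAct act hW a w : ↥W) : V) = act a w := rfl

theorem index_fixedSub (p : ℕ) [Fact p.Prime] (hcop : (Nat.card A).Coprime p) :
    ∀ (c : ℕ) (V : Type u) [CommGroup V] [Finite V] (act : A → V →* V), Nat.card V = c →
      IsAct act → (∀ v : V, v ^ p = 1) →
      ∃ l : List ℕ, (fixedSub act).index = l.prod ∧ ∀ x ∈ l, (∃ e, x = p ^ e) ∧ x ∣ Nat.card V ∧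
        ∃ r : ℕ, r.Prime ∧ r ∣ Nat.card A ∧ x ≡ 1 [MOD r] := by
  intro c
  induction c using Nat.strong_induction_on with
  | _ c ih =>
  intro V _ _ act hc hact hexp
  by_cases htop : fixedSub act = ⊤
  · exact ⟨[], by rw [htop, Subgroup.index_top, List.prod_nil], fun x hx => by simp at hx⟩
  obtain ⟨W, hWinv, hWnf, hWirr⟩ := exists_irred hact p hexp hcop htop
  obtain ⟨r, hr, hrA, hWr⟩ := card_modEq_one hact W hWinv hWnf hWirr
  obtain ⟨V', hV'inv, hdisj, hsup⟩ :=
    Cfsg.Agent.H2.Maschke.maschke p hexp hcop act hact.one hact.mul W hWinv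
  have hcompl : Subgroup.IsComplement' W V' := Subgroup.isComplement'_of_disjoint_and_mul_eq_univ
    (disjoint_iff.mpr hdisj) (by
      rw [← Subgroup.coe_mul_of_left_le_normalizer_right]
      · rw [hsup]; rfl
      · rw [Subgroup.normalizer_eq_top]; exact le_top)
  have hWne : W ≠ ⊥ := by
    intro h
    apply hWnf
    rw [h]; exact bot_le
  have hWcard : 1 < Nat.card ↥W := by
    rw [Subgroup.one_lt_card_iff_ne_bot]; exact hWne
  have hcards : Nat.card ↥W * Nat.card ↥V' = Nat.card V := hcompl.card_mul_card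
  have hlt : Nat.card ↥V' < c := by
    rw [← hc, ← hcards]
    have hpos : 0 < Nat.card ↥V' := Nat.card_pos
    nlinarith
  have hact' : IsAct (resAct act hV'inv) :=
    ⟨fun v => Subtype.ext (hact.one _), fun a b v => Subtype.ext (hact.mul a b _)⟩
  have hexp' : ∀ v : ↥V', v ^ p = 1 := fun v => Subtype.ext (by
    rw [Subgroup.coe_pow, hexp]; rfl)
  obtain ⟨l', hl', hl'x⟩ := ih _ hlt ↥V' (resAct act hV'inv) rfl hact' hexp'
  -- fixed points lie in `V'`
  have hFx : fixedSub act ≤ V' := by
    intro v hv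
    have hvtop : v ∈ W ⊔ V' := by rw [hsup]; exact Subgroup.mem_top _
    obtain ⟨w, hw, v', hv', hwv⟩ := Subgroup.mem_sup.mp hvtop
    have hwfix : w ∈ fixedSub act := by
      intro a
      have h1 : act a w * act a v' = w * v' := by
        rw [← map_mul, hwv]; exact hv a
      have h2 : w⁻¹ * act a w = v' * (act a v')⁻¹ := by
        have : act a w = w * v' * (act a v')⁻¹ := by rw [← h1]; group
        rw [this]; group
      have h3 : w⁻¹ * act a w ∈ W ⊓ V' :=
        ⟨W.mul_mem (W.inv_mem hw) (hWinv a w hw),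
          h2 ▸ V'.mul_mem hv' (V'.inv_mem (hV'inv a v' hv'))⟩
      rw [hdisj, Subgroup.mem_bot] at h3
      exact (inv_mul_eq_one.mp h3).symm
    have hwbot : w ∈ W ⊓ fixedSub act := ⟨hw, hwfix⟩
    rcases hWirr (W ⊓ fixedSub act) (Inv.inf (act := act) hWinv (inv_fixedSub act)) inf_le_left
      with h | h
    · rw [h, Subgroup.mem_bot] at hwbot
      rw [← hwv, hwbot, one_mul]; exact hv'
    · exfalso
      apply hWnf
      rw [← h]; exact inf_le_right
  have hsub : (fixedSub act).subgroupOf V' = fixedSub (resAct act hV'inv) := by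
    ext v
    rw [Subgroup.mem_subgroupOf, mem_fixedSub, mem_fixedSub]
    constructor
    · intro h a
      exact Subtype.ext (h a)
    · intro h a
      exact congrArg Subtype.val (h a)
  have hidx : (fixedSub act).index = Nat.card ↥W * (fixedSub (resAct act hV'inv)).index := by
    rw [← Subgroup.relIndex_mul_index hFx, hcompl.index_eq_card, mul_comm, Subgroup.relIndex, hsub]
  refine ⟨Nat.card ↥W :: l', by rw [List.prod_cons, hidx, hl'], ?_⟩
  intro x hx
  rcases List.mem_cons.mp hx with rfl | hx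
  · refine ⟨?_, Subgroup.card_subgroup_dvd_card W, r, hr, hrA, hWr⟩
    have hpW : IsPGroup p ↥W := fun g => ⟨1, Subtype.ext (by
      rw [pow_one, Subgroup.coe_pow, hexp]; rfl)⟩
    obtain ⟨e, he⟩ := hpW.exists_card_eq
    exact ⟨e, he⟩
  · obtain ⟨h1, h2, h3⟩ := hl'x x hx
    exact ⟨h1, h2.trans (Subgroup.card_subgroup_dvd_card V'), h3⟩

end main

end Cfsg.Agent.H2.HallCountM
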