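import Mathlib
import Cfsg.Agent.H2.HallCountM
import Cfsg.Agent.H2.ConjMap
import Cfsg.Agent.H1.Hall
import Cfsg.Agent.Lib.Lead.ProdCard

/-!
# P. Hall: the number of Hall subgroups of a solvable group

The number of subgroups of order `m` in a solvable group of order `m n`, `(m, n) = 1`, is a product
of prime powers, each dividing the order of a chief factor and each `≡ 1` modulo a prime divisor
of `m`.
-/

set_option autoImplicit false
set_option linter.unusedSectionVars false
set_option linter.unusedVariables false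

namespace Cfsg.Agent.H2.HallCount

open Cfsg.Agent.H2
open scoped Pointwise

universe u

section conj

variable {G : Type u} [Group G]

/-- the number of conjugates of `H` is the index of its normalizer -/
theorem card_conj_class (H : Subgroup G) :
    Nat.card {K : Subgroup G // ∃ g : G, H.map (MulAut.conj g).toMonoidHom = K} =
      (Subgroup.normalizer (H : Set G)).index := by
  set N := Subgroup.normalizer (H : Set G) with hN
  have key : ∀ a b : G, a⁻¹ * b ∈ N ↔
      H.map (MulAut.conj a).toMonoidHom = H.map (MulAut.conj b).toMonoidHom := by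
    intro a b
    rw [hN, ← map_conj_eq_self_iff_mem_normalizer]
    constructor
    · intro h
      have e : b = a * (a⁻¹ * b) := by group
      conv_rhs => rw [e, map_conj_mul, h]
    · intro h
      rw [map_conj_mul, ← h, ← map_conj_mul, inv_mul_cancel, map_conj_one]
  let f : G ⧸ N → {K : Subgroup G // ∃ g : G, H.map (MulAut.conj g).toMonoidHom = K} :=
    Quotient.lift (fun g => ⟨H.map (MulAut.conj g).toMonoidHom, g, rfl⟩) (by
      intro a b hab
      have hab' : a⁻¹ * b ∈ N := QuotientGroup.leftRel_apply.mp hab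
      exact Subtype.ext ((key a b).mp hab'))
  have hf : Function.Bijective f := by
    constructor
    · intro x y
      induction x using QuotientGroup.induction_on with
      | H a =>
      induction y using QuotientGroup.induction_on with
      | H b =>
      intro h
      have h' : H.map (MulAut.conj a).toMonoidHom = H.map (MulAut.conj b).toMonoidHom :=
        congrArg Subtype.val h
      exact QuotientGroup.eq.mpr ((key a b).mpr h')
    · rintro ⟨K, g, hg⟩
      exact ⟨(g : G ⧸ N), Subtype.ext hg⟩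
  rw [Subgroup.index, Nat.card_congr (Equiv.ofBijective f hf)]

end conj

section good

/-- the admissible factors -/
def Good (G : Type u) [Group G] (m x : ℕ) : Prop :=
  (∃ q e : ℕ, q.Prime ∧ x = q ^ e) ∧
  (∃ K L : Subgroup G, K.Normal ∧ L.Normal ∧ K < L ∧
    (∀ M : Subgroup G, M.Normal → K ≤ M → M ≤ L → M = K ∨ M = L) ∧ x ∣ K.relIndex L) ∧
  (∃ q : ℕ, q.Prime ∧ q ∣ m ∧ x ≡ 1 [MOD q])

/-- the number of subgroups of order `m` -/
noncomputable def hallNum (G : Type u) [Group G] (m : ℕ) : ℕ :=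
  Nat.card {H : Subgroup G // Nat.card H = m}

variable {G : Type u} [Group G]

theorem Good.of_quotient (N : Subgroup G) [N.Normal] {m m' x : ℕ} (hm : m' ∣ m)
    (h : Good (G ⧸ N) m' x) : Good G m x := by
  obtain ⟨h1, ⟨K, L, hKn, hLn, hKL, hchief, hx⟩, ⟨q, hq, hqm, hxq⟩⟩ := h
  refine ⟨h1, ?_, ⟨q, hq, hqm.trans hm, hxq⟩⟩
  have hsurj : Function.Surjective (QuotientGroup.mk' N) := QuotientGroup.mk'_surjective N
  refine ⟨K.comap (QuotientGroup.mk' N), L.comap (QuotientGroup.mk' N), hKn.comap _, hLn.comap _,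
    (Subgroup.comap_lt_comap_of_surjective hsurj).mpr hKL, ?_, ?_⟩
  · intro M hMn hKM hML
    have hNM : N ≤ M := by
      refine le_trans ?_ hKM
      intro y hy
      rw [Subgroup.mem_comap]
      have : (QuotientGroup.mk' N) y = 1 := by
        rw [QuotientGroup.mk'_apply, QuotientGroup.eq_one_iff]; exact hy
      rw [this]; exact K.one_mem
    have hMM : (M.map (QuotientGroup.mk' N)).comap (QuotientGroup.mk' N) = M := by
      rw [Subgroup.comap_map_eq, QuotientGroup.ker_mk', sup_of_le_left hNM]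
    have h1' : K ≤ M.map (QuotientGroup.mk' N) := by
      rw [← Subgroup.map_comap_eq_self_of_surjective hsurj K]
      exact Subgroup.map_mono hKM
    have h2' : M.map (QuotientGroup.mk' N) ≤ L := by
      rw [← Subgroup.map_comap_eq_self_of_surjective hsurj L]
      exact Subgroup.map_mono hML
    rcases hchief _ (hMn.map _ hsurj) h1' h2' with h | h
    · left; rw [← hMM, h]
    · right; rw [← hMM, h]
  · rw [Subgroup.relIndex_comap, Subgroup.map_comap_eq_self_of_surjective hsurj]
    exact hx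

variable [Finite G]

theorem hallNum_eq_index [Group.IsSolvable G] (m n : ℕ) (hG : Nat.card G = m * n)
    (hmn : m.Coprime n) (H : Subgroup G) (hH : Nat.card ↥H = m) :
    hallNum G m = (Subgroup.normalizer (H : Set G)).index := by
  rw [← card_conj_class H]
  unfold hallNum
  apply Nat.card_congr (Equiv.subtypeEquivRight _)
  intro K
  constructor
  · intro hK
    obtain ⟨g, hg⟩ := Cfsg.Agent.H1.hall_conj m n hG hmn H K hH hK
    exact ⟨g, by rw [← conj_smul_eq_map]; exact hg⟩
  · rintro ⟨g, rfl⟩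
    rw [card_map_conj]; exact hH

/-- `|A ⊔ N| |A ⊓ N| = |A| |N|` for `N` normal -/
theorem card_sup_mul_card_inf (A N : Subgroup G) [N.Normal] :
    Nat.card ↥(A ⊔ N) * Nat.card ↥(A ⊓ N) = Nat.card ↥A * Nat.card ↥N := by
  rw [Cfsg.Agent.Lib.Lead.ProdCard.card_mul_card_eq A N, ← Subgroup.mul_normal]
  rfl

end good

section case1

variable {G : Type u} [Group G] [Finite G]

/-- The preimage of a subgroup under a quotient map has order `|H̄| * |N|`. -/
theorem card_comap_mk (N : Subgroup G) [N.Normal] (Hbar : Subgroup (G ⧸ N)) :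
    Nat.card (Hbar.comap (QuotientGroup.mk' N)) = Nat.card Hbar * Nat.card N := by
  have h1 : (Hbar.comap (QuotientGroup.mk' N)).index = Hbar.index :=
    Subgroup.index_comap_of_surjective _ (QuotientGroup.mk'_surjective N)
  have h2 := Subgroup.card_mul_index (Hbar.comap (QuotientGroup.mk' N))
  have h3 := Subgroup.card_mul_index Hbar
  have h4 := Subgroup.card_eq_card_quotient_mul_card_subgroup N
  have hpos : 0 < Hbar.index := Nat.pos_of_ne_zero Subgroup.index_ne_zero_of_finite
  apply Nat.eq_of_mul_eq_mul_right hpos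
  rw [← h1] at h3 hpos ⊢
  rw [h2, h4, ← h3]
  ring

/-- the order of the image in the quotient -/
theorem card_map_mk (N : Subgroup G) [N.Normal] (K : Subgroup G) :
    Nat.card ↥(K.map (QuotientGroup.mk' N)) * Nat.card ↥N = Nat.card ↥(K ⊔ N) := by
  rw [← card_comap_mk, Subgroup.comap_map_eq, QuotientGroup.ker_mk']

/-- if the normal subgroup `N` lies in every subgroup of order `m`, the subgroups of order `m`
correspond to the subgroups of order `m / |N|` of `G ⧸ N` -/
theorem hallNum_quotient_of_le (N : Subgroup G) [N.Normal] (m : ℕ)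
    (hN : ∀ K : Subgroup G, Nat.card ↥K = m → N ≤ K) (hdvd : Nat.card ↥N ∣ m) :
    hallNum G m = hallNum (G ⧸ N) (m / Nat.card ↥N) := by
  unfold hallNum
  have hNpos : 0 < Nat.card ↥N := Nat.card_pos
  have hsurj : Function.Surjective (QuotientGroup.mk' N) := QuotientGroup.mk'_surjective N
  refine Nat.card_congr
    { toFun := fun K => ⟨K.1.map (QuotientGroup.mk' N), ?_⟩
      invFun := fun K => ⟨K.1.comap (QuotientGroup.mk' N), ?_⟩
      left_inv := ?_
      right_inv := ?_ }
  · have h1 := card_map_mk N K.1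
    rw [sup_of_le_left (hN K.1 K.2), K.2] at h1
    exact (Nat.div_eq_of_eq_mul_left hNpos h1.symm).symm
  · rw [card_comap_mk, K.2, Nat.div_mul_cancel hdvd]
  · intro K
    apply Subtype.ext
    show (K.1.map (QuotientGroup.mk' N)).comap (QuotientGroup.mk' N) = K.1
    rw [Subgroup.comap_map_eq, QuotientGroup.ker_mk', sup_of_le_left (hN K.1 K.2)]
  · intro K
    apply Subtype.ext
    exact Subgroup.map_comap_eq_self_of_surjective hsurj K.1

end case1

section case2

variable {G : Type u} [Group G] [Finite G]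

theorem card_subgroupOf_of_le {K L : Subgroup G} (h : K ≤ L) :
    Nat.card ↥(K.subgroupOf L) = Nat.card ↥K :=
  Nat.card_congr (Subgroup.subgroupOfEquivOfLe h).toEquiv

theorem card_mul_relIndex {K L : Subgroup G} (h : K ≤ L) :
    Nat.card ↥K * K.relIndex L = Nat.card ↥L := by
  rw [← card_subgroupOf_of_le h]
  exact Subgroup.card_mul_index (K.subgroupOf L)

/-- `N ∩ N_G(H) = N ∩ C_G(H)` when `H ∩ N = 1` -/
theorem inf_normalizer_eq (N : Subgroup G) [hN : N.Normal] (H : Subgroup G) (hdisj : H ⊓ N = ⊥) :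
    N ⊓ Subgroup.normalizer (H : Set G) = N ⊓ Subgroup.centralizer (H : Set G) := by
  apply le_antisymm
  · intro x hx
    obtain ⟨hxN, hxH⟩ := Subgroup.mem_inf.mp hx
    refine Subgroup.mem_inf.mpr ⟨hxN, ?_⟩
    rw [Subgroup.mem_centralizer_iff]
    intro h hh
    have h1 : x * h * x⁻¹ ∈ H := (Subgroup.mem_normalizer_iff.mp hxH h).mp hh
    have h2 : x * h * x⁻¹ * h⁻¹ ∈ H ⊓ N := by
      refine ⟨H.mul_mem h1 (H.inv_mem hh), ?_⟩
      have e : x * h * x⁻¹ * h⁻¹ = x * (h * x⁻¹ * h⁻¹) := by group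
      rw [e]
      exact N.mul_mem hxN (hN.conj_mem _ (N.inv_mem hxN) h)
    rw [hdisj, Subgroup.mem_bot] at h2
    have h3 : x * h * x⁻¹ = h := mul_inv_eq_one.mp h2
    calc h * x = x * h * x⁻¹ * x := by rw [h3]
      _ = x * h := by group
  · exact inf_le_inf_left _ (Subgroup.centralizer_le_normalizer _)

variable [Group.IsSolvable G]

/-- Frattini argument for Hall subgroups -/
theorem normalizer_sup_eq (N : Subgroup G) [hN : N.Normal] (H : Subgroup G)
    (hcop : (Nat.card ↥H).Coprime (Nat.card ↥N)) :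
    Subgroup.normalizer ((H ⊔ N : Subgroup G) : Set G) = Subgroup.normalizer (H : Set G) ⊔ N := by
  have hdisj : H ⊓ N = ⊥ := (Subgroup.disjoint_of_coprime_natCard hcop).eq_bot
  apply le_antisymm
  · intro g hg
    set L := H ⊔ N with hL
    have hgL : L.map (MulAut.conj g).toMonoidHom = L :=
      (map_conj_eq_self_iff_mem_normalizer L g).mpr hg
    set K := H.map (MulAut.conj g).toMonoidHom with hK
    have hKL : K ≤ L := by rw [← hgL]; exact Subgroup.map_mono le_sup_left
    have hHL : H ≤ L := le_sup_left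
    have hcardL : Nat.card ↥L = Nat.card ↥H * Nat.card ↥N := by
      have := card_sup_mul_card_inf H N
      rw [hdisj, Subgroup.card_bot, mul_one] at this
      exact this
    obtain ⟨x, hx⟩ := Cfsg.Agent.H1.hall_conj (G := ↥L) (Nat.card ↥H) (Nat.card ↥N) hcardL hcop
      (H.subgroupOf L) (K.subgroupOf L) (card_subgroupOf_of_le hHL)
      (by rw [card_subgroupOf_of_le hKL, hK, card_map_conj])
    have hxK : H.map (MulAut.conj (x : G)).toMonoidHom = K := by
      ext y
      rw [mem_map_conj_iff]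
      constructor
      · intro hy
        have hyL : y ∈ L := by
          have e : y = (x : G) * ((x : G)⁻¹ * y * x) * (x : G)⁻¹ := by group
          rw [e]
          exact L.mul_mem (L.mul_mem x.2 (hHL hy)) (L.inv_mem x.2)
        have h1 : (⟨y, hyL⟩ : ↥L) ∈ MulAut.conj x • H.subgroupOf L := by
          rw [mem_conj_smul_iff, Subgroup.mem_subgroupOf]
          exact hy
        rw [hx, Subgroup.mem_subgroupOf] at h1
        exact h1
      · intro hy
        have hyL : y ∈ L := hKL hy
        have h1 : (⟨y, hyL⟩ : ↥L) ∈ K.subgroupOf L := by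
          rw [Subgroup.mem_subgroupOf]; exact hy
        rw [← hx, mem_conj_smul_iff, Subgroup.mem_subgroupOf] at h1
        exact h1
    have hxg : (x : G)⁻¹ * g ∈ Subgroup.normalizer (H : Set G) := by
      rw [← map_conj_eq_self_iff_mem_normalizer, map_conj_mul, ← hK, ← hxK, ← map_conj_mul,
        inv_mul_cancel, map_conj_one]
    have e : g = (x : G) * ((x : G)⁻¹ * g) := by group
    rw [e]
    refine Subgroup.mul_mem _ ?_ (Subgroup.mem_sup_left hxg)
    have : L ≤ Subgroup.normalizer (H : Set G) ⊔ N :=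
      sup_le (le_trans Subgroup.le_normalizer le_sup_left) le_sup_right
    exact this x.2
  · apply sup_le
    · intro g hg
      rw [← map_conj_eq_self_iff_mem_normalizer, Subgroup.map_sup,
        (map_conj_eq_self_iff_mem_normalizer H g).mpr hg,
        (map_conj_eq_self_iff_mem_normalizer N g).mpr (by
          rw [Subgroup.normalizer_eq_top]; exact Subgroup.mem_top _)]
    · exact le_trans le_sup_right Subgroup.le_normalizer

end case2

section case2b

variable {G : Type u} [Group G] [Finite G] [Group.IsSolvable G]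

/-- the second-isomorphism index formula -/
theorem relIndex_sup_eq (A N : Subgroup G) [N.Normal] :
    A.relIndex (A ⊔ N) = (N ⊓ A).relIndex N := by
  have h1 := card_mul_relIndex (le_sup_left : A ≤ A ⊔ N)
  have h2 := card_mul_relIndex (inf_le_left : N ⊓ A ≤ N)
  have h3 := card_sup_mul_card_inf A N
  rw [inf_comm] at h3
  have hA : 0 < Nat.card ↥A := Nat.card_pos
  have hI : 0 < Nat.card ↥(N ⊓ A) := Nat.card_pos
  have h4 : Nat.card ↥A * Nat.card ↥(N ⊓ A) * A.relIndex (A ⊔ N) =
      Nat.card ↥A * Nat.card ↥(N ⊓ A) * (N ⊓ A).relIndex N := by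
    calc Nat.card ↥A * Nat.card ↥(N ⊓ A) * A.relIndex (A ⊔ N)
        = (Nat.card ↥A * A.relIndex (A ⊔ N)) * Nat.card ↥(N ⊓ A) := by ring
      _ = Nat.card ↥A * Nat.card ↥N := by rw [h1, h3]
      _ = Nat.card ↥A * (Nat.card ↥(N ⊓ A) * (N ⊓ A).relIndex N) := by rw [h2]
      _ = _ := by ring
  exact Nat.eq_of_mul_eq_mul_left (Nat.mul_pos hA hI) h4

theorem hallNum_quotient_mul (N : Subgroup G) [N.Normal] (m n : ℕ) (hG : Nat.card G = m * n)
    (hmn : m.Coprime n) (hNm : (Nat.card ↥N).Coprime m) (H : Subgroup G) (hH : Nat.card ↥H = m) :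
    Nat.card ↥N ∣ n ∧ Nat.card (G ⧸ N) = m * (n / Nat.card ↥N) ∧
    hallNum G m = hallNum (G ⧸ N) m * (N ⊓ Subgroup.centralizer (H : Set G)).relIndex N := by
  have hNpos : 0 < Nat.card ↥N := Nat.card_pos
  have hNn : Nat.card ↥N ∣ n := by
    have h1 : Nat.card ↥N ∣ m * n := hG ▸ Subgroup.card_subgroup_dvd_card N
    exact hNm.dvd_of_dvd_mul_left h1
  have hGN : Nat.card (G ⧸ N) = m * (n / Nat.card ↥N) := by
    have h4 := Subgroup.card_eq_card_quotient_mul_card_subgroup N
    rw [hG] at h4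
    apply Nat.eq_of_mul_eq_mul_right hNpos
    rw [← h4, mul_assoc, Nat.div_mul_cancel hNn]
  refine ⟨hNn, hGN, ?_⟩
  have hcop' : m.Coprime (n / Nat.card ↥N) :=
    Nat.Coprime.coprime_dvd_right (Nat.div_dvd_of_dvd hNn) hmn
  have hHN : (Nat.card ↥H).Coprime (Nat.card ↥N) := by rw [hH]; exact hNm.symm
  have hdisj : H ⊓ N = ⊥ := (Subgroup.disjoint_of_coprime_natCard hHN).eq_bot
  have hHbar : Nat.card ↥(H.map (QuotientGroup.mk' N)) = m := by
    have h1 := card_map_mk N H
    have h2 := card_sup_mul_card_inf H N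
    rw [hdisj, Subgroup.card_bot, mul_one] at h2
    rw [h2, hH] at h1
    exact Nat.eq_of_mul_eq_mul_right hNpos h1
  rw [hallNum_eq_index m n hG hmn H hH,
    hallNum_eq_index m (n / Nat.card ↥N) hGN hcop' (H.map (QuotientGroup.mk' N)) hHbar,
    ← Subgroup.index_comap_of_surjective _ (QuotientGroup.mk'_surjective N),
    Subgroup.comap_normalizer_eq_of_surjective _ (QuotientGroup.mk'_surjective N),
    Subgroup.comap_map_eq, QuotientGroup.ker_mk', normalizer_sup_eq N H hHN,
    ← inf_normalizer_eq N H hdisj, ← relIndex_sup_eq, mul_comm]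
  exact (Subgroup.relIndex_mul_index le_sup_left).symm

end case2b

section lemmaM

variable {G : Type u} [Group G] [Finite G] [Group.IsSolvable G]

open Cfsg.Agent.H2.HallCountM in
theorem relIndex_centralizer_factor (N : Subgroup G) [hN : N.Normal]
    (hNcomm : ∀ a ∈ N, ∀ b ∈ N, a * b = b * a) (q : ℕ) [Fact q.Prime]
    (hNexp : ∀ x ∈ N, x ^ q = 1) (H : Subgroup G) (hcop : (Nat.card ↥H).Coprime q) :
    ∃ l : List ℕ, (N ⊓ Subgroup.centralizer (H : Set G)).relIndex N = l.prod ∧
      ∀ x ∈ l, (∃ e, x = q ^ e) ∧ x ∣ Nat.card ↥N ∧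
        ∃ r : ℕ, r.Prime ∧ r ∣ Nat.card ↥H ∧ x ≡ 1 [MOD r] := by
  let _ : CommGroup ↥N :=
    { (inferInstance : Group ↥N) with mul_comm := fun a b => Subtype.ext (hNcomm a a.2 b b.2) }
  let act : ↥H → ↥N →* ↥N := fun h =>
    { toFun := fun x => ⟨(h : G) * x * (h : G)⁻¹, hN.conj_mem x x.2 h⟩
      map_one' := Subtype.ext (by
        show (h : G) * ((1 : ↥N) : G) * (h : G)⁻¹ = 1
        rw [Subgroup.coe_one]; group)
      map_mul' := fun x y => Subtype.ext (by
        show (h : G) * ((x * y : ↥N) : G) * (h : G)⁻¹ =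
          ((h : G) * x * (h : G)⁻¹) * ((h : G) * y * (h : G)⁻¹)
        rw [Subgroup.coe_mul]; group) }
  have hact : IsAct act := by
    refine ⟨fun v => Subtype.ext ?_, fun a b v => Subtype.ext ?_⟩
    · show ((1 : ↥H) : G) * v * ((1 : ↥H) : G)⁻¹ = v
      rw [Subgroup.coe_one]; group
    · show ((a * b : ↥H) : G) * v * ((a * b : ↥H) : G)⁻¹ =
        (a : G) * ((b : G) * v * (b : G)⁻¹) * (a : G)⁻¹
      rw [Subgroup.coe_mul]; group
  have hexp : ∀ v : ↥N, v ^ q = 1 := fun v => Subtype.ext (by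
    rw [Subgroup.coe_pow, hNexp v v.2]; rfl)
  obtain ⟨l, hl, hlx⟩ := index_fixedSub (A := ↥H) q hcop _ ↥N act rfl hact hexp
  refine ⟨l, ?_, hlx⟩
  rw [← hl, Subgroup.relIndex]
  congr 1
  ext x
  rw [Subgroup.mem_subgroupOf, mem_fixedSub, Subgroup.mem_inf, Subgroup.mem_centralizer_iff]
  constructor
  · rintro ⟨-, hx⟩ a
    apply Subtype.ext
    show (a : G) * x * (a : G)⁻¹ = x
    rw [hx a a.2]; group
  · intro h
    refine ⟨x.2, fun a ha => ?_⟩
    have h1 : (a : G) * x * a⁻¹ = x := congrArg Subtype.val (h ⟨a, ha⟩)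
    calc a * (x : G) = a * x * a⁻¹ * a := by group
      _ = x * a := by rw [h1]

end lemmaM

section mainthm

theorem hallNum_one (G : Type u) [Group G] : hallNum G 1 = 1 := by
  unfold hallNum
  have h1 : ∀ H : Subgroup G, Nat.card ↥H = 1 ↔ H = ⊥ := fun H => Subgroup.card_eq_one
  have _ : Unique {H : Subgroup G // Nat.card ↥H = 1} :=
    { default := ⟨⊥, (h1 ⊥).mpr rfl⟩
      uniq := fun K => Subtype.ext ((h1 K.1).mp K.2) }
  exact Nat.card_unique

theorem hall_count : ∀ (c : ℕ) (G : Type u) [Group G] [Finite G] [Group.IsSolvable G],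
    Nat.card G = c → ∀ m n : ℕ, Nat.card G = m * n → m.Coprime n →
      ∃ l : List ℕ, hallNum G m = l.prod ∧ ∀ x ∈ l, Good G m x := by
  intro c
  induction c using Nat.strong_induction_on with
  | _ c ih =>
  intro G _ _ _ hc m n hG hmn
  by_cases hm1 : m = 1
  · subst hm1
    exact ⟨[], by rw [hallNum_one, List.prod_nil], fun x hx => by simp at hx⟩
  have hGpos : 0 < Nat.card G := Nat.card_pos
  have hmpos : 0 < m := Nat.pos_of_ne_zero (by rintro rfl; rw [zero_mul] at hG; omega)
  have hnpos : 0 < n := Nat.pos_of_ne_zero (by rintro rfl; rw [mul_zero] at hG; omega)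
  have htop : (⊤ : Subgroup G) ≠ ⊥ := by
    intro h
    have h1 : Nat.card G = 1 := by
      rw [← Subgroup.card_top (G := G), h, Subgroup.card_bot]
    rw [hG] at h1
    have : m = 1 := Nat.eq_one_of_mul_eq_one_right h1
    exact hm1 this
  obtain ⟨N, hNn, hNne, -, hNmin⟩ := Cfsg.Agent.H1.exists_minimal_normal_le (⊤ : Subgroup G) htop
  have _ := hNn
  obtain ⟨hNcomm, q, hq, hNexp⟩ := Cfsg.Agent.S0043.result N hNne hNmin
  have _ : Fact q.Prime := ⟨hq⟩
  have hNcomm' : ∀ a ∈ N, ∀ b ∈ N, a * b = b * a := by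
    intro a ha b hb
    have := hNcomm.is_comm.comm (⟨a, ha⟩ : ↥N) ⟨b, hb⟩
    exact congrArg Subtype.val this
  have hpN : IsPGroup q ↥N := fun g => ⟨1, Subtype.ext (by
    rw [pow_one, Subgroup.coe_pow, hNexp g g.2]; rfl)⟩
  obtain ⟨a, ha⟩ := hpN.exists_card_eq
  have hNcard1 : 1 < Nat.card ↥N := by
    rw [Subgroup.one_lt_card_iff_ne_bot]; exact hNne
  have hNpos : 0 < Nat.card ↥N := Nat.card_pos
  have hquot := Subgroup.card_eq_card_quotient_mul_card_subgroup N
  have hlt : Nat.card (G ⧸ N) < c := by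
    rw [← hc, hquot]
    have : 0 < Nat.card (G ⧸ N) := Nat.card_pos
    nlinarith
  have hNdvd : Nat.card ↥N ∣ m * n := hG ▸ Subgroup.card_subgroup_dvd_card N
  by_cases hqm : q ∣ m
  · -- `N` lies in every Hall subgroup
    have hqn : ¬ q ∣ n := fun h => by
      have := Nat.eq_one_of_dvd_coprimes hmn hqm h
      exact hq.one_lt.ne' this
    have hNn' : (Nat.card ↥N).Coprime n := by
      rw [ha]; exact Nat.Coprime.pow_left _ ((Nat.Prime.coprime_iff_not_dvd hq).mpr hqn)
    have hNm : Nat.card ↥N ∣ m := hNn'.dvd_of_dvd_mul_right hNdvd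
    have hle : ∀ K : Subgroup G, Nat.card ↥K = m → N ≤ K := by
      intro K hK
      obtain ⟨g, hg⟩ := Cfsg.Agent.H1.hall_dominance m n hG hmn K N hK hNn'
      intro x hx
      have h1 : g * x * g⁻¹ ∈ MulAut.conj g • K := hg (hNn.conj_mem x hx g)
      rw [mem_conj_smul_iff] at h1
      have e : g⁻¹ * (g * x * g⁻¹) * g = x := by group
      rwa [e] at h1
    have hGN : Nat.card (G ⧸ N) = (m / Nat.card ↥N) * n := by
      apply Nat.eq_of_mul_eq_mul_right hNpos
      rw [← hquot, hG]
      obtain ⟨k, hk⟩ := hNm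
      rw [hk, Nat.mul_div_cancel_left _ hNpos]
      ring
    have hcop' : (m / Nat.card ↥N).Coprime n :=
      Nat.Coprime.coprime_dvd_left (Nat.div_dvd_of_dvd hNm) hmn
    obtain ⟨l, hl, hlx⟩ := ih _ hlt (G ⧸ N) rfl (m / Nat.card ↥N) n hGN hcop'
    refine ⟨l, by rw [hallNum_quotient_of_le N m hle hNm, hl], fun x hx => ?_⟩
    exact Good.of_quotient N (Nat.div_dvd_of_dvd hNm) (hlx x hx)
  · have hNm : (Nat.card ↥N).Coprime m := by
      rw [ha]; exact Nat.Coprime.pow_left _ ((Nat.Prime.coprime_iff_not_dvd hq).mpr hqm)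
    obtain ⟨H, hH⟩ := Cfsg.Agent.H1.hall_exists m n hG hmn
    obtain ⟨hNn', hGN, hnum⟩ := hallNum_quotient_mul N m n hG hmn hNm H hH
    have hcop' : m.Coprime (n / Nat.card ↥N) :=
      Nat.Coprime.coprime_dvd_right (Nat.div_dvd_of_dvd hNn') hmn
    obtain ⟨l₁, hl₁, hl₁x⟩ := ih _ hlt (G ⧸ N) rfl m (n / Nat.card ↥N) hGN hcop'
    have hHq : (Nat.card ↥H).Coprime q := by
      rw [hH]; exact ((Nat.Prime.coprime_iff_not_dvd hq).mpr hqm).symm
    obtain ⟨l₂, hl₂, hl₂x⟩ := relIndex_centralizer_factor N hNcomm' q hNexp H hHq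
    refine ⟨l₁ ++ l₂, by rw [List.prod_append, hnum, hl₁, hl₂], fun x hx => ?_⟩
    rcases List.mem_append.mp hx with hx | hx
    · exact Good.of_quotient N dvd_rfl (hl₁x x hx)
    · obtain ⟨⟨e, he⟩, hxN, r, hr, hrH, hxr⟩ := hl₂x x hx
      refine ⟨⟨q, e, hq, he⟩, ⟨⊥, N, inferInstance, hNn, bot_lt_iff_ne_bot.mpr hNne, ?_, ?_⟩,
        ⟨r, hr, hH ▸ hrH, hxr⟩⟩
      · intro M hM _ hMN
        exact hNmin M hM hMN
      · rw [Subgroup.relIndex_bot_left]; exact hxN

end mainthm

end Cfsg.Agent.H2.HallCount
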