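import Mathlib
import Cfsg.Agent.Lib.Helper4.FrobDiv

/-!
# P. Hall's generalisation of Frobenius' theorem

If `C` is a conjugacy class of `G` with `h` elements, the number of `x` with `x ^ n ∈ C` is a
multiple of `gcd (h * n) |G|`.
-/

namespace Cfsg.Agent.H2.HallFrob

open Finset
open Cfsg.Agent.Lib.Helper4.FrobDiv

universe u

section basic

variable {G : Type u} [Group G]

theorem orderOf_of_pow_eq {p e : ℕ} (hp : p.Prime) (x c : G) (hx : x ^ (p ^ e) = c)
    (hpc : p ∣ orderOf c) : orderOf x = p ^ e * orderOf c := by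
  have hn0 : p ^ e ≠ 0 := pow_ne_zero _ hp.ne_zero
  have h1 : orderOf c = orderOf x / Nat.gcd (orderOf x) (p ^ e) := by
    rw [← hx, orderOf_pow' x hn0]
  obtain ⟨j, hj, hgj⟩ := (Nat.dvd_prime_pow hp).mp (Nat.gcd_dvd_right (orderOf x) (p ^ e))
  have h2 : orderOf x = orderOf c * p ^ j := by
    rw [h1, hgj, Nat.div_mul_cancel]
    rw [← hgj]; exact Nat.gcd_dvd_left _ _
  by_cases hje : j = e
  · rw [h2, hje, mul_comm]
  · exfalso
    have hlt : j < e := lt_of_le_of_ne hj hje
    have h3 : p ^ (j + 1) ∣ orderOf x := by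
      rw [h2, pow_succ, mul_comm]
      exact Nat.mul_dvd_mul hpc (dvd_refl _)
    have h4 : p ^ (j + 1) ∣ p ^ e := pow_dvd_pow p hlt
    have h5 : p ^ (j + 1) ∣ p ^ j := hgj ▸ Nat.dvd_gcd h3 h4
    have := (Nat.pow_dvd_pow_iff_le_right hp.one_lt).mp h5
    omega

/-- number of solutions of `x ^ n = y` -/
noncomputable def sol (n : ℕ) (y : G) : ℕ := Nat.card {x : G // x ^ n = y}

variable [Fintype G]

open scoped Classical in
theorem sol_eq_card (n : ℕ) (y : G) : sol n y = (univ.filter (fun x : G => x ^ n = y)).card := by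
  unfold sol
  rw [Nat.card_eq_fintype_card, Fintype.card_subtype]

open scoped Classical in
theorem sol_conj (n : ℕ) (g y : G) : sol n (g * y * g⁻¹) = sol n y := by
  rw [sol_eq_card, sol_eq_card]
  apply Finset.card_nbij' (fun x => g⁻¹ * x * g) (fun x => g * x * g⁻¹)
  · intro x hx
    simp only [Finset.coe_filter, Finset.mem_univ, true_and,
      Set.mem_ofPred_eq] at hx ⊢
    have := conj_pow (a := g⁻¹) (b := x) (i := n)
    rw [inv_inv] at this
    rw [this, hx]; group
  · intro x hx
    simp only [Finset.coe_filter, Finset.mem_univ, true_and,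
      Set.mem_ofPred_eq] at hx ⊢
    rw [conj_pow, hx]
  · intro x _; group
  · intro x _; group

open scoped Classical in
/-- if `p ∣ orderOf c` then the solutions of `x ^ (p ^ e) = c` come in packets of `p ^ e`. -/
theorem pow_dvd_sol {p e : ℕ} (hp : p.Prime) (c : G) (hpc : p ∣ orderOf c) :
    p ^ e ∣ sol (p ^ e) c := by
  rw [sol_eq_card]
  obtain ⟨n, hn⟩ : ∃ n, n = p ^ e := ⟨_, rfl⟩
  obtain ⟨m, hm⟩ : ∃ m, m = orderOf c := ⟨_, rfl⟩
  rw [← hn]
  have hnpos : 0 < n := hn ▸ pow_pos hp.pos e
  have hm2 : 2 ≤ m := by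
    have hmpos : 0 < m := hm ▸ orderOf_pos c
    have := Nat.le_of_dvd hmpos (hm ▸ hpc)
    have := hp.two_le
    omega
  have hcm : c ^ m = 1 := hm ▸ pow_orderOf_eq_one c
  have hord : ∀ x : G, x ^ n = c → orderOf x = n * m := by
    intro x hx
    rw [hn, hm]
    exact orderOf_of_pow_eq hp x c (hn ▸ hx) hpc
  rw [Finset.card_eq_sum_card_fiberwise (f := fun x : G => Subgroup.zpowers x)
    (t := (univ.filter (fun x : G => x ^ n = c)).image (fun x => Subgroup.zpowers x))
    (fun x hx => Finset.mem_image_of_mem _ hx)]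
  apply Finset.dvd_sum
  intro H hH
  obtain ⟨x0, hx0, rfl⟩ := Finset.mem_image.mp hH
  simp only [Finset.mem_filter, Finset.mem_univ, true_and] at hx0
  have hfib : (univ.filter (fun x : G => x ^ n = c)).filter
      (fun x => Subgroup.zpowers x = Subgroup.zpowers x0) =
      (Finset.range n).image (fun k => x0 ^ (1 + k * m)) := by
    ext y
    simp only [Finset.mem_filter, Finset.mem_univ, true_and, Finset.mem_image, Finset.mem_range]
    constructor
    · rintro ⟨hy, hyz⟩
      have hy0 : y ∈ Subgroup.zpowers x0 := hyz ▸ Subgroup.mem_zpowers y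
      rw [← mem_powers_iff_mem_zpowers, mem_powers_iff_mem_range_orderOf] at hy0
      simp only [Finset.mem_image, Finset.mem_range] at hy0
      obtain ⟨j, hj, rfl⟩ := hy0
      rw [hord x0 hx0] at hj
      have h1 : x0 ^ (j * n) = x0 ^ (1 * n) := by rw [pow_mul, hy, one_mul, hx0]
      rw [pow_eq_pow_iff_modEq, hord x0 hx0, mul_comm n m] at h1
      have h2 : j ≡ 1 [MOD m] := Nat.ModEq.mul_right_cancel' hnpos.ne' h1
      have h3 : j % m = 1 := by
        rw [h2]; exact Nat.mod_eq_of_lt hm2
      refine ⟨j / m, ?_, ?_⟩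
      · rw [Nat.div_lt_iff_lt_mul (by omega)]; exact hj
      · congr 1
        have := Nat.div_add_mod j m
        rw [h3] at this
        rw [mul_comm]; omega
    · rintro ⟨k, hk, rfl⟩
      have h1 : (x0 ^ (1 + k * m)) ^ n = c := by
        rw [← pow_mul, mul_comm, pow_mul, hx0, pow_add, pow_one, mul_comm k m, pow_mul, hcm,
          one_pow, mul_one]
      refine ⟨h1, ?_⟩
      apply Subgroup.eq_of_le_of_card_ge
      · rw [Subgroup.zpowers_le]
        exact Subgroup.pow_mem _ (Subgroup.mem_zpowers x0) _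
      · rw [Nat.card_zpowers, Nat.card_zpowers, hord _ h1, hord x0 hx0]
  rw [hfib, Finset.card_image_of_injOn, Finset.card_range]
  intro k1 hk1 k2 hk2 h
  simp only [Finset.coe_range, Set.mem_Iio] at hk1 hk2
  have hlt : ∀ k, k < n → 1 + k * m < orderOf x0 := by
    intro k hk
    rw [hord x0 hx0]
    have : (k + 1) * m ≤ n * m := Nat.mul_le_mul_right m hk
    nlinarith
  have := pow_injOn_Iio_orderOf (x := x0) (hlt k1 hk1) (hlt k2 hk2) h
  have h2 : k1 * m = k2 * m := by omega
  exact Nat.eq_of_mul_eq_mul_right (by omega) h2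

open scoped Classical in
/-- translation by a central root: if `c` is central of order prime to `n`, the equation `x ^ n = c`
has as many solutions as `x ^ n = 1`. -/
theorem sol_central_coprime (n : ℕ) (c : G) (hc : ∀ g : G, g * c = c * g)
    (hcop : Nat.Coprime n (orderOf c)) : sol n c = sol n (1 : G) := by
  obtain ⟨m, hm⟩ : ∃ m, m = orderOf c := ⟨_, rfl⟩
  have hmpos : 0 < m := hm ▸ orderOf_pos c
  have htot : 0 < Nat.totient m := Nat.totient_pos.mpr hmpos
  obtain ⟨t, ht⟩ := Nat.exists_eq_add_one_of_ne_zero htot.ne'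
  obtain ⟨c', hc'⟩ : ∃ c', c' = c ^ (n ^ t) := ⟨_, rfl⟩
  have hc'n : c' ^ n = c := by
    rw [hc', ← pow_mul, ← pow_succ, ← ht]
    have h1 : n ^ Nat.totient m ≡ 1 [MOD m] := Nat.ModEq.pow_totient (hm ▸ hcop)
    have := pow_eq_of_modEq (x := c) (k := m) (hm ▸ pow_orderOf_eq_one c) h1
    rw [this, pow_one]
  have hcomm : ∀ x : G, Commute x c' := by
    intro x
    rw [hc']
    exact Commute.pow_right (hc x) _
  rw [sol_eq_card, sol_eq_card]
  apply Finset.card_nbij' (fun x => x * c'⁻¹) (fun z => z * c')
  · intro x hx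
    simp only [Finset.coe_filter, Finset.mem_univ, true_and, Set.mem_ofPred_eq] at hx ⊢
    rw [(hcomm x).inv_right.mul_pow, hx, inv_pow, hc'n, mul_inv_cancel]
  · intro z hz
    simp only [Finset.coe_filter, Finset.mem_univ, true_and, Set.mem_ofPred_eq] at hz ⊢
    rw [(hcomm z).mul_pow, hz, hc'n, one_mul]
  · intro x _; simp
  · intro z _; simp

open scoped Classical in
/-- splitting `x ^ (n1 * n2) = c` according to the value of `x ^ n1`. -/
theorem sol_mul (n1 n2 : ℕ) (c : G) :
    sol (n1 * n2) c = ∑ y ∈ univ.filter (fun y : G => y ^ n2 = c), sol n1 y := by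
  rw [sol_eq_card]
  rw [Finset.card_eq_sum_card_fiberwise (f := fun x : G => x ^ n1)
    (t := univ.filter (fun y : G => y ^ n2 = c))]
  · apply Finset.sum_congr rfl
    intro y hy
    simp only [Finset.mem_filter, Finset.mem_univ, true_and] at hy
    rw [sol_eq_card]
    congr 1
    ext x
    simp only [Finset.mem_filter, Finset.mem_univ, true_and]
    constructor
    · exact fun h => h.2
    · intro h
      exact ⟨by rw [pow_mul, h, hy], h⟩
  · intro x hx
    simp only [Finset.coe_filter, Finset.mem_univ, true_and, Set.mem_ofPred_eq] at hx ⊢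
    rw [← pow_mul]; exact hx

open scoped Classical in
/-- for central `c` and a factor `n1` of `n`, `gcd n1 |G|` divides the number of solutions, given the
general statement for exponent `n1`. -/
theorem gcd_dvd_sol_of_factor (n1 n2 : ℕ) (c : G) (hc : ∀ g : G, g * c = c * g)
    (IH : ∀ y : G, Nat.gcd ((Subgroup.centralizer ({y} : Set G)).index * n1) (Nat.card G) ∣
      (Subgroup.centralizer ({y} : Set G)).index * sol n1 y) :
    Nat.gcd n1 (Nat.card G) ∣ sol (n1 * n2) c := by
  rw [sol_mul]
  apply classSum _ _ _ _ (fun g y => sol_conj n1 g y)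
  · intro y _
    refine dvd_trans ?_ (IH y)
    exact Nat.dvd_gcd (dvd_trans (Nat.gcd_dvd_left _ _) (dvd_mul_left _ _)) (Nat.gcd_dvd_right _ _)
  · intro g y hy
    simp only [Finset.mem_filter, Finset.mem_univ, true_and] at hy ⊢
    rw [conj_pow, hy, hc g, mul_inv_cancel_right]

open scoped Classical in
/-- the central case, given the general statement for all smaller exponents -/
theorem central_case (n : ℕ) (c : G) (hc : ∀ g : G, g * c = c * g)
    (IH : ∀ n' < n, ∀ y : G,
      Nat.gcd ((Subgroup.centralizer ({y} : Set G)).index * n') (Nat.card G) ∣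
      (Subgroup.centralizer ({y} : Set G)).index * sol n' y) :
    Nat.gcd n (Nat.card G) ∣ sol n c := by
  rcases Nat.eq_zero_or_pos n with rfl | hnpos
  · rw [Nat.gcd_zero_left, sol_eq_card]
    by_cases hc1 : c = 1
    · have : (univ.filter (fun x : G => x ^ 0 = c)) = univ := by
        ext x; simp [hc1]
      rw [this, Finset.card_univ, Nat.card_eq_fintype_card]
    · have : (univ.filter (fun x : G => x ^ 0 = c)) = ∅ := by
        ext x; simp [Ne.symm hc1]
      rw [this, Finset.card_empty]; exact dvd_zero _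
  by_cases hn1 : n = 1
  · rw [hn1, Nat.gcd_one_left]; exact one_dvd _
  have hp : (Nat.minFac n).Prime := Nat.minFac_prime hn1
  obtain ⟨p, hpdef⟩ : ∃ p, p = Nat.minFac n := ⟨_, rfl⟩
  rw [← hpdef] at hp
  have hpn : p ∣ n := hpdef ▸ Nat.minFac_dvd n
  obtain ⟨e, m', hpm', hn⟩ := Nat.exists_eq_pow_mul_and_not_dvd hnpos.ne' p hp.ne_one
  have he : e ≠ 0 := by
    rintro rfl
    rw [pow_zero, one_mul] at hn
    exact hpm' (hn ▸ hpn)
  have hm'pos : 0 < m' := by
    rcases Nat.eq_zero_or_pos m' with h | h
    · rw [h, mul_zero] at hn; omega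
    · exact h
  by_cases hm1 : m' = 1
  · rw [hm1, mul_one] at hn
    by_cases hpc : p ∣ orderOf c
    · rw [hn]
      exact dvd_trans (Nat.gcd_dvd_left _ _) (pow_dvd_sol hp c hpc)
    · have hcop : Nat.Coprime n (orderOf c) := by
        rw [hn]
        exact ((Nat.Prime.coprime_iff_not_dvd hp).mpr hpc).pow_left e
      rw [sol_central_coprime n c hc hcop]
      exact frobenius_gcd_dvd n
  · have hm2 : 2 ≤ m' := by omega
    have hpe2 : 2 ≤ p ^ e := by
      calc 2 ≤ p := hp.two_le
        _ = p ^ 1 := (pow_one p).symm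
        _ ≤ p ^ e := Nat.pow_le_pow_right hp.pos (Nat.pos_of_ne_zero he)
    have hlt1 : p ^ e < n := by rw [hn]; nlinarith
    have hlt2 : m' < n := by rw [hn]; nlinarith
    have hcop : Nat.Coprime (p ^ e) m' := ((Nat.Prime.coprime_iff_not_dvd hp).mpr hpm').pow_left e
    have h1 : Nat.gcd (p ^ e) (Nat.card G) ∣ sol n c := by
      rw [hn]
      exact gcd_dvd_sol_of_factor (p ^ e) m' c hc (IH _ hlt1)
    have h2 : Nat.gcd m' (Nat.card G) ∣ sol n c := by
      rw [hn, mul_comm]
      exact gcd_dvd_sol_of_factor m' (p ^ e) c hc (IH _ hlt2)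
    have h3 : Nat.gcd n (Nat.card G) = Nat.gcd (p ^ e) (Nat.card G) * Nat.gcd m' (Nat.card G) := by
      rw [hn, Nat.gcd_comm, hcop.gcd_mul, Nat.gcd_comm, Nat.gcd_comm (Nat.card G) m']
    rw [h3]
    apply Nat.Coprime.mul_dvd_of_dvd_of_dvd _ h1 h2
    exact Nat.Coprime.coprime_dvd_left (Nat.gcd_dvd_left _ _)
      (Nat.Coprime.coprime_dvd_right (Nat.gcd_dvd_left _ _) hcop)

end basic

section reduction

variable {G : Type u} [Group G]

/-- solutions of `x ^ n = c` lie in the centralizer of `c` -/
theorem sol_centralizer (n : ℕ) (c : G) :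
    sol (G := Subgroup.centralizer ({c} : Set G)) n
      ⟨c, Subgroup.mem_centralizer_singleton_iff.mpr rfl⟩ = sol n c := by
  unfold sol
  apply Nat.card_congr
  exact {
    toFun := fun x => ⟨x.1.1, by
      have := congrArg Subtype.val x.2
      simpa using this⟩
    invFun := fun x => ⟨⟨x.1, by
      rw [Subgroup.mem_centralizer_singleton_iff]
      obtain ⟨x, hx⟩ := x
      subst hx
      change x * x ^ n = x ^ n * x
      rw [← pow_succ, ← pow_succ']⟩, by
      apply Subtype.ext
      simpa using x.2⟩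
    left_inv := fun x => rfl
    right_inv := fun x => rfl }

end reduction

section main

theorem main_aux : ∀ (N : ℕ) (G : Type u) [Group G] [Finite G], Nat.card G = N →
    ∀ (n : ℕ) (c : G), Nat.gcd ((Subgroup.centralizer ({c} : Set G)).index * n) (Nat.card G) ∣
      (Subgroup.centralizer ({c} : Set G)).index * sol n c := by
  intro N
  induction N using Nat.strong_induction_on with
  | _ N ihN =>
  intro G _ _ hN n
  induction n using Nat.strong_induction_on with
  | _ n ihn =>
  intro c
  have := Fintype.ofFinite G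
  by_cases hcen : ∀ g : G, g * c = c * g
  · have hidx : (Subgroup.centralizer ({c} : Set G)).index = 1 := by
      rw [Subgroup.index_eq_one, eq_top_iff]
      intro g _
      rw [Subgroup.mem_centralizer_singleton_iff]
      exact hcen g
    rw [hidx, one_mul, one_mul]
    exact central_case n c hcen (fun n' hn' y => ihn n' hn' y)
  · obtain ⟨C, hC⟩ : ∃ C : Subgroup G, C = Subgroup.centralizer ({c} : Set G) := ⟨_, rfl⟩
    have hcC : c ∈ C := hC ▸ Subgroup.mem_centralizer_singleton_iff.mpr rfl
    have hCtop : C ≠ ⊤ := by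
      intro h
      apply hcen
      intro g
      have : g ∈ C := h ▸ Subgroup.mem_top g
      rw [hC, Subgroup.mem_centralizer_singleton_iff] at this
      exact this
    have hcard : Nat.card G = C.index * Nat.card C := by
      rw [mul_comm]; exact C.card_mul_index.symm
    have hlt : Nat.card C < N := by
      have h1 : C.index ≠ 1 := by rw [Ne, Subgroup.index_eq_one]; exact hCtop
      have h2 : C.index ≠ 0 := Subgroup.index_ne_zero_of_finite
      have h3 : 0 < Nat.card C := Nat.card_pos
      rw [← hN, hcard]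
      have : 2 ≤ C.index := by omega
      nlinarith
    have h1 := ihN (Nat.card C) hlt C rfl n ⟨c, hcC⟩
    have hidx' : (Subgroup.centralizer ({(⟨c, hcC⟩ : C)} : Set C)).index = 1 := by
      rw [Subgroup.index_eq_one, eq_top_iff]
      intro g _
      rw [Subgroup.mem_centralizer_singleton_iff]
      apply Subtype.ext
      have h3 : (g : G) ∈ Subgroup.centralizer ({c} : Set G) := hC ▸ g.2
      rw [Subgroup.mem_centralizer_singleton_iff] at h3
      exact h3
    rw [hidx', one_mul, one_mul] at h1
    have h2 : sol (G := C) n ⟨c, hcC⟩ = sol n c := by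
      subst hC
      exact sol_centralizer n c
    rw [h2] at h1
    rw [← hC, hcard, Nat.gcd_mul_left]
    exact Nat.mul_dvd_mul_left _ h1

open scoped Classical in
/-- **P. Hall's generalisation of Frobenius' theorem.** -/
theorem hall_frobenius {G : Type u} [Group G] [Finite G] (c : G) (n : ℕ) :
    Nat.gcd (Nat.card {y : G // IsConj c y} * n) (Nat.card G) ∣
      Nat.card {x : G // IsConj c (x ^ n)} := by
  have := Fintype.ofFinite G
  have h1 : Nat.card {x : G // IsConj c (x ^ n)} =
      ∑ y ∈ univ.filter (fun y : G => IsConj c y), sol n y := by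
    rw [Nat.card_eq_fintype_card, Fintype.card_subtype]
    rw [Finset.card_eq_sum_card_fiberwise (f := fun x : G => x ^ n)
      (t := univ.filter (fun y : G => IsConj c y))]
    · apply Finset.sum_congr rfl
      intro y hy
      simp only [Finset.mem_filter, Finset.mem_univ, true_and] at hy
      rw [sol_eq_card]
      congr 1
      ext x
      simp only [Finset.mem_filter, Finset.mem_univ, true_and]
      constructor
      · exact fun h => h.2
      · intro h
        exact ⟨by rw [h]; exact hy, h⟩
    · intro x hx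
      simp only [Finset.coe_filter, Finset.mem_univ, true_and, Set.mem_ofPred_eq] at hx ⊢
      exact hx
  rw [h1]
  apply classSum _ _ _ _ (fun g y => sol_conj n g y)
  · intro y hy
    simp only [Finset.mem_filter, Finset.mem_univ, true_and] at hy
    have h2 : (Subgroup.centralizer ({y} : Set G)).index = Nat.card {z : G // IsConj c z} := by
      rw [index_centralizer_eq_ncard_carrier, ← Nat.card_coe_set_eq]
      apply Nat.card_congr
      apply Equiv.subtypeEquivRight
      intro z
      rw [ConjClasses.mem_carrier_iff_mk_eq, ConjClasses.mk_eq_mk_iff_isConj]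
      exact ⟨fun h => hy.trans h.symm, fun h => h.symm.trans hy⟩
    rw [← h2]
    exact main_aux (Nat.card G) G rfl n y
  · intro g y hy
    simp only [Finset.mem_filter, Finset.mem_univ, true_and] at hy ⊢
    exact hy.trans (isConj_iff.mpr ⟨g, rfl⟩)

end main

end Cfsg.Agent.H2.HallFrob
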