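import Mathlib

/-!
# Sylow 2-subgroups of type `(2^m, 2^m)`

(author: helper2)
-/

set_option autoImplicit false

namespace Cfsg.Agent.H2.Homocyc

variable {G : Type*} [Group G]

/-- if `g^2` commutes with `y` and `g` has odd order then `g` commutes with `y` -/
theorem commute_of_sq_commute {g y : G} {k : ℕ} (hk : Odd k) (hgk : g ^ k = 1)
    (h : g ^ 2 * y = y * g ^ 2) : g * y = y * g := by
  obtain ⟨m, hm⟩ := hk
  have h1 : g = (g ^ 2) ^ (m + 1) := by
    rw [← pow_mul]
    have : 2 * (m + 1) = k + 1 := by omega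
    rw [this, pow_succ, hgk, one_mul]
  have h2 : Commute (g ^ 2) y := h
  have h3 := h2.pow_left (m + 1)
  rw [← h1] at h3
  exact h3

/-- an involution `t` with `t ^ k = 1`, `k` odd, is trivial -/
theorem eq_one_of_sq_of_odd_pow {t : G} {k : ℕ} (hk : Odd k) (ht : t * t = 1) (htk : t ^ k = 1) :
    t = 1 := by
  obtain ⟨m, hm⟩ := hk
  rw [hm, pow_succ, pow_mul, pow_two, ht, one_pow, one_mul] at htk
  exact htk

/-- an odd-order element normalising an abelian 2-group and centralising its involutions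
centralises it -/
theorem centralizes_of_centralizes_involutions (P : Subgroup G)
    (hPc : ∀ x ∈ P, ∀ y ∈ P, x * y = y * x) (hP2 : IsPGroup 2 P)
    {g : G} (hgN : ∀ x ∈ P, g * x * g⁻¹ ∈ P) {k : ℕ} (hk : Odd k) (hgk : g ^ k = 1)
    (hinv : ∀ t ∈ P, t * t = 1 → g * t * g⁻¹ = t) : ∀ x ∈ P, g * x * g⁻¹ = x := by
  have key : ∀ j : ℕ, ∀ x ∈ P, x ^ (2 ^ j) = 1 → g * x * g⁻¹ = x := by
    intro j
    induction j with
    | zero =>
      intro x _ hx
      rw [pow_zero, pow_one] at hx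
      rw [hx, mul_one, mul_inv_cancel]
    | succ j ih =>
      intro x hx hxj
      have hx2 : (x ^ 2) ^ (2 ^ j) = 1 := by rw [← pow_mul, ← pow_succ']; exact hxj
      have h1 := ih (x ^ 2) (P.pow_mem hx 2) hx2
      obtain ⟨y, hy⟩ : ∃ y, y = g * x * g⁻¹ := ⟨_, rfl⟩
      have hyP : y ∈ P := by rw [hy]; exact hgN x hx
      have hy2 : y ^ 2 = x ^ 2 := by rw [hy, conj_pow]; exact h1
      obtain ⟨t, ht⟩ : ∃ t, t = y * x⁻¹ := ⟨_, rfl⟩
      have htP : t ∈ P := by rw [ht]; exact P.mul_mem hyP (P.inv_mem hx)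
      have hxy : x⁻¹ * y = y * x⁻¹ := hPc _ (P.inv_mem hx) _ hyP
      have htt : t * t = 1 := by
        rw [ht]
        calc y * x⁻¹ * (y * x⁻¹) = y * (x⁻¹ * y) * x⁻¹ := by group
          _ = y * (y * x⁻¹) * x⁻¹ := by rw [hxy]
          _ = y ^ 2 * (x ^ 2)⁻¹ := by rw [pow_two, pow_two, mul_inv_rev]; simp only [mul_assoc]
          _ = 1 := by rw [hy2, mul_inv_cancel]
      have hgt := hinv t htP htt
      have hyt : y = t * x := by rw [ht]; group
      have hpow : ∀ i : ℕ, g ^ i * x * (g ^ i)⁻¹ = t ^ i * x := by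
        intro i
        induction i with
        | zero => simp
        | succ i ihi =>
          calc g ^ (i + 1) * x * (g ^ (i + 1))⁻¹
              = g * (g ^ i * x * (g ^ i)⁻¹) * g⁻¹ := by rw [pow_succ']; group
            _ = g * (t ^ i * x) * g⁻¹ := by rw [ihi]
            _ = (g * t * g⁻¹) ^ i * (g * x * g⁻¹) := by rw [conj_pow]; group
            _ = t ^ i * (t * x) := by rw [hgt, ← hy, hyt]
            _ = t ^ (i + 1) * x := by rw [pow_succ]; group
      have h2 := hpow k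
      rw [hgk, one_mul, inv_one, mul_one] at h2
      have h3 : t ^ k = 1 := by
        have := congrArg (fun u => u * x⁻¹) h2
        simp only [mul_inv_cancel, mul_inv_cancel_right] at this
        exact this.symm
      have h4 := eq_one_of_sq_of_odd_pow hk htt h3
      rw [← hy, hyt, h4, one_mul]
  intro x hx
  obtain ⟨j, hj⟩ := hP2 ⟨x, hx⟩
  apply key j x hx
  have := congrArg Subtype.val hj
  simpa using this


/-- the involutions of `P` together with `1` form a four-group `{1, a, b, ab}` -/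
structure KleinOmega (P : Subgroup G) (a b : G) : Prop where
  ha : a ∈ P
  hb : b ∈ P
  ha1 : a ≠ 1
  hb1 : b ≠ 1
  hab : a ≠ b
  haa : a * a = 1
  hbb : b * b = 1
  hcomm : a * b = b * a
  hall : ∀ x ∈ P, x * x = 1 → x = 1 ∨ x = a ∨ x = b ∨ x = a * b

theorem KleinOmega.symm {P : Subgroup G} {a b : G} (h : KleinOmega P a b) : KleinOmega P b a where
  ha := h.hb
  hb := h.ha
  ha1 := h.hb1
  hb1 := h.ha1
  hab := h.hab.symm
  haa := h.hbb
  hbb := h.haa
  hcomm := h.hcomm.symm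
  hall := by
    intro x hx hxx
    rcases h.hall x hx hxx with h1 | h1 | h1 | h1
    · exact Or.inl h1
    · exact Or.inr (Or.inr (Or.inl h1))
    · exact Or.inr (Or.inl h1)
    · exact Or.inr (Or.inr (Or.inr (by rw [h1, h.hcomm])))

theorem KleinOmega.aba {P : Subgroup G} {a b : G} (h : KleinOmega P a b) : a * b * a = b := by
  rw [h.hcomm, mul_assoc, h.haa, mul_one]

theorem KleinOmega.rot {P : Subgroup G} {a b : G} (h : KleinOmega P a b) :
    KleinOmega P (a * b) a where
  ha := P.mul_mem h.ha h.hb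
  hb := h.ha
  ha1 := by
    intro h1
    apply h.hab
    have h2 : a = b⁻¹ := eq_inv_of_mul_eq_one_left h1
    have h3 : b⁻¹ = b := inv_eq_of_mul_eq_one_left h.hbb
    rw [h2, h3]
  hb1 := h.ha1
  hab := by
    intro h1
    apply h.hb1
    have : a * b = a * 1 := by rw [mul_one]; exact h1
    exact mul_left_cancel this
  haa := by
    calc a * b * (a * b) = (a * b * a) * b := by group
      _ = 1 := by rw [h.aba, h.hbb]
  hbb := h.haa
  hcomm := by
    rw [h.aba, ← mul_assoc, h.haa, one_mul]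
  hall := by
    intro x hx hxx
    rcases h.hall x hx hxx with h1 | h1 | h1 | h1
    · exact Or.inl h1
    · exact Or.inr (Or.inr (Or.inl h1))
    · exact Or.inr (Or.inr (Or.inr (by rw [h1, h.aba])))
    · exact Or.inr (Or.inl h1)

/-- an odd-order element normalising `P` and fixing one basis involution fixes the other -/
theorem fix_other {P : Subgroup G} {x y : G} (h : KleinOmega P x y) {g : G}
    (hgN : ∀ u ∈ P, g * u * g⁻¹ ∈ P) {k : ℕ} (hk : Odd k) (hgk : g ^ k = 1)
    (hx : g * x * g⁻¹ = x) : g * y * g⁻¹ = y := by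
  have h1 : g * y * g⁻¹ ∈ P := hgN y h.hb
  have h2 : g * y * g⁻¹ * (g * y * g⁻¹) = 1 := by
    calc g * y * g⁻¹ * (g * y * g⁻¹) = g * (y * y) * g⁻¹ := by group
      _ = 1 := by rw [h.hbb]; group
  rcases h.hall _ h1 h2 with h3 | h3 | h3 | h3
  · exfalso
    apply h.hb1
    have := congrArg (fun u => g⁻¹ * u * g) h3
    simpa [mul_assoc] using this
  · exfalso
    apply h.hab
    have h4 : g * y * g⁻¹ = g * x * g⁻¹ := by rw [h3, hx]
    have := congrArg (fun u => g⁻¹ * u * g) h4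
    simp only [mul_assoc, inv_mul_cancel_left, inv_mul_cancel, mul_one] at this
    exact this.symm
  · exact h3
  · have h4 : g ^ 2 * y = y * g ^ 2 := by
      have h5 : g ^ 2 * y * (g ^ 2)⁻¹ = y := by
        calc g ^ 2 * y * (g ^ 2)⁻¹ = g * (g * y * g⁻¹) * g⁻¹ := by rw [pow_two]; group
          _ = g * (x * y) * g⁻¹ := by rw [h3]
          _ = (g * x * g⁻¹) * (g * y * g⁻¹) := by group
          _ = x * (x * y) := by rw [hx, h3]
          _ = y := by rw [← mul_assoc, h.haa, one_mul]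
      calc g ^ 2 * y = g ^ 2 * y * (g ^ 2)⁻¹ * g ^ 2 := by group
        _ = y * g ^ 2 := by rw [h5]
    have h6 := commute_of_sq_commute hk hgk h4
    rw [h6, mul_inv_cancel_right]

theorem fix_all_of_basis {P : Subgroup G} {x y : G} (h : KleinOmega P x y) {g : G}
    (hx : g * x * g⁻¹ = x) (hy : g * y * g⁻¹ = y) :
    ∀ s ∈ P, s * s = 1 → g * s * g⁻¹ = s := by
  intro s hs hss
  rcases h.hall s hs hss with h1 | h1 | h1 | h1
  · rw [h1]; group
  · rw [h1, hx]
  · rw [h1, hy]
  · rw [h1]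
    calc g * (x * y) * g⁻¹ = (g * x * g⁻¹) * (g * y * g⁻¹) := by group
      _ = x * y := by rw [hx, hy]

/-- an odd-order element normalising `P` and fixing one involution of `P` fixes them all -/
theorem fix_all {P : Subgroup G} {a b : G} (h : KleinOmega P a b) {g : G}
    (hgN : ∀ u ∈ P, g * u * g⁻¹ ∈ P) {k : ℕ} (hk : Odd k) (hgk : g ^ k = 1)
    {t : G} (ht : t ∈ P) (ht1 : t ≠ 1) (htt : t * t = 1) (hgt : g * t * g⁻¹ = t) :
    ∀ s ∈ P, s * s = 1 → g * s * g⁻¹ = s := by
  rcases h.hall t ht htt with h1 | h1 | h1 | h1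
  · exact absurd h1 ht1
  · rw [h1] at hgt
    exact fix_all_of_basis h hgt (fix_other h hgN hk hgk hgt)
  · rw [h1] at hgt
    exact fix_all_of_basis h.symm hgt (fix_other h.symm hgN hk hgk hgt)
  · rw [h1] at hgt
    exact fix_all_of_basis h.rot hgt (fix_other h.rot hgN hk hgk hgt)


theorem zmod_add_self_eq_zero {m : ℕ} (hm : 1 ≤ m) (u : ZMod (2 ^ m)) (h : u + u = 0) :
    u = 0 ∨ u = ((2 ^ (m - 1) : ℕ) : ZMod (2 ^ m)) := by
  have hne : NeZero (2 ^ m) := ⟨by positivity⟩
  have h1 : ((u.val + u.val : ℕ) : ZMod (2 ^ m)) = 0 := by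
    rw [Nat.cast_add, ZMod.natCast_zmod_val, h]
  rw [ZMod.natCast_eq_zero_iff] at h1
  have h2 : 2 ^ m = 2 * 2 ^ (m - 1) := by
    rw [← pow_succ']; congr 1; omega
  have h3 : 2 ^ (m - 1) ∣ u.val := by
    have h1' : 2 * 2 ^ (m - 1) ∣ 2 * u.val := by
      have := h1
      rw [← two_mul] at this
      exact (dvd_of_eq h2.symm).trans this
    exact (Nat.mul_dvd_mul_iff_left (by norm_num)).mp h1'
  obtain ⟨c, hc⟩ := h3
  have h4 : u.val < 2 ^ m := ZMod.val_lt u
  have h5 : c < 2 := by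
    by_contra hcon
    push_neg at hcon
    have h6 : 2 ^ (m - 1) * 2 ≤ 2 ^ (m - 1) * c := Nat.mul_le_mul_left _ hcon
    rw [← hc] at h6
    omega
  interval_cases c
  · left; rw [← ZMod.natCast_zmod_val u, hc, mul_zero, Nat.cast_zero]
  · right; rw [← ZMod.natCast_zmod_val u, hc, mul_one]

theorem half_ne_zero {m : ℕ} (hm : 1 ≤ m) : ((2 ^ (m - 1) : ℕ) : ZMod (2 ^ m)) ≠ 0 := by
  rw [Ne, ZMod.natCast_eq_zero_iff]
  apply Nat.not_dvd_of_pos_of_lt (by positivity)
  exact Nat.pow_lt_pow_right (by norm_num) (by omega)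

theorem half_add_half {m : ℕ} (hm : 1 ≤ m) :
    ((2 ^ (m - 1) : ℕ) : ZMod (2 ^ m)) + ((2 ^ (m - 1) : ℕ) : ZMod (2 ^ m)) = 0 := by
  rw [← Nat.cast_add, ZMod.natCast_eq_zero_iff, ← two_mul, ← pow_succ']
  have : m - 1 + 1 = m := by omega
  rw [this]

theorem comm_of_equiv {Q : Subgroup G} {m : ℕ}
    (e : Q ≃* Multiplicative (ZMod (2 ^ m) × ZMod (2 ^ m))) :
    ∀ x ∈ Q, ∀ y ∈ Q, x * y = y * x := by
  intro x hx y hy
  have h1 : (⟨x, hx⟩ : Q) * ⟨y, hy⟩ = ⟨y, hy⟩ * ⟨x, hx⟩ := by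
    apply e.injective
    rw [map_mul, map_mul, mul_comm]
  exact congrArg Subtype.val h1

theorem exists_kleinOmega {Q : Subgroup G} {m : ℕ} (hm : 1 ≤ m)
    (e : Q ≃* Multiplicative (ZMod (2 ^ m) × ZMod (2 ^ m))) : ∃ a b : G, KleinOmega Q a b := by
  obtain ⟨h, hh⟩ : ∃ h : ZMod (2 ^ m), h = ((2 ^ (m - 1) : ℕ) : ZMod (2 ^ m)) := ⟨_, rfl⟩
  have hh0 : h ≠ 0 := by rw [hh]; exact half_ne_zero hm
  have hhh : h + h = 0 := by rw [hh]; exact half_add_half hm
  obtain ⟨X, hX⟩ : ∃ X : Multiplicative (ZMod (2 ^ m) × ZMod (2 ^ m)),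
      X = Multiplicative.ofAdd (h, 0) := ⟨_, rfl⟩
  obtain ⟨Y, hY⟩ : ∃ Y : Multiplicative (ZMod (2 ^ m) × ZMod (2 ^ m)),
      Y = Multiplicative.ofAdd (0, h) := ⟨_, rfl⟩
  have hX1 : X ≠ 1 := by
    rw [hX]; intro h1
    have h2 : ((h, 0) : ZMod (2 ^ m) × ZMod (2 ^ m)) = 0 := Multiplicative.ofAdd.injective h1
    exact hh0 (congrArg Prod.fst h2)
  have hY1 : Y ≠ 1 := by
    rw [hY]; intro h1
    have h2 : ((0, h) : ZMod (2 ^ m) × ZMod (2 ^ m)) = 0 := Multiplicative.ofAdd.injective h1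
    exact hh0 (congrArg Prod.snd h2)
  have hXY : X ≠ Y := by
    rw [hX, hY]; intro h1
    have h2 : ((h, 0) : ZMod (2 ^ m) × ZMod (2 ^ m)) = (0, h) := Multiplicative.ofAdd.injective h1
    exact hh0 (congrArg Prod.fst h2)
  have hXX : X * X = 1 := by
    rw [hX, ← ofAdd_add, Prod.mk_add_mk, hhh, add_zero]; rfl
  have hYY : Y * Y = 1 := by
    rw [hY, ← ofAdd_add, Prod.mk_add_mk, hhh, add_zero]; rfl
  have hcoe1 : ∀ Z : Multiplicative (ZMod (2 ^ m) × ZMod (2 ^ m)),
      ((e.symm Z : Q) : G) = 1 → Z = 1 := by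
    intro Z hZ
    have : e.symm Z = 1 := Subtype.ext hZ
    rw [← map_one e.symm] at this
    exact e.symm.injective this
  refine ⟨(e.symm X : Q), (e.symm Y : Q), ⟨(e.symm X).2, (e.symm Y).2, fun h1 => hX1 (hcoe1 X h1),
    fun h1 => hY1 (hcoe1 Y h1), ?_, ?_, ?_, ?_, ?_⟩⟩
  · intro h1
    exact hXY (e.symm.injective (Subtype.ext h1))
  · rw [← Subgroup.coe_mul, ← map_mul, hXX, map_one, Subgroup.coe_one]
  · rw [← Subgroup.coe_mul, ← map_mul, hYY, map_one, Subgroup.coe_one]
  · rw [← Subgroup.coe_mul, ← Subgroup.coe_mul, ← map_mul, ← map_mul, mul_comm]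
  · intro x hx hxx
    obtain ⟨Z, hZ⟩ : ∃ Z, Z = e ⟨x, hx⟩ := ⟨_, rfl⟩
    have hZZ : Z * Z = 1 := by
      rw [hZ, ← map_mul]
      have : (⟨x, hx⟩ : Q) * ⟨x, hx⟩ = 1 := Subtype.ext hxx
      rw [this, map_one]
    have hxZ : x = ((e.symm Z : Q) : G) := by rw [hZ, e.symm_apply_apply]
    obtain ⟨u, v, huv⟩ : ∃ u v, Z = Multiplicative.ofAdd ((u, v) : ZMod (2 ^ m) × ZMod (2 ^ m)) :=
      ⟨(Multiplicative.toAdd Z).1, (Multiplicative.toAdd Z).2, rfl⟩
    have h3 : ((u + u, v + v) : ZMod (2 ^ m) × ZMod (2 ^ m)) = 0 := by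
      rw [huv, ← ofAdd_add, Prod.mk_add_mk] at hZZ
      exact Multiplicative.ofAdd.injective hZZ
    have hu := zmod_add_self_eq_zero hm u (congrArg Prod.fst h3)
    have hv := zmod_add_self_eq_zero hm v (congrArg Prod.snd h3)
    rw [← hh] at hu hv
    have h00 : (Multiplicative.ofAdd ((0, 0) : ZMod (2 ^ m) × ZMod (2 ^ m))) = 1 := rfl
    rcases hu with hu | hu <;> rcases hv with hv | hv
    · left; rw [hxZ, huv, hu, hv, h00, map_one, Subgroup.coe_one]
    · right; right; left; rw [hxZ, huv, hu, hv, hY]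
    · right; left; rw [hxZ, huv, hu, hv, hX]
    · right; right; right
      rw [hxZ, huv, hu, hv, ← Subgroup.coe_mul, ← map_mul, hX, hY, ← ofAdd_add, Prod.mk_add_mk,
        add_zero, zero_add]


section sylow

variable [Finite G]

/-- an element of `N_G(P)` commuting with an involution of the homocyclic Sylow 2-subgroup `P`
centralises `P` -/
theorem mem_centralizer_of_commute_involution (P : Sylow 2 G)
    (hPc : ∀ x ∈ (P : Subgroup G), ∀ y ∈ (P : Subgroup G), x * y = y * x) {a b : G}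
    (h : KleinOmega (P : Subgroup G) a b) {g : G}
    (hg : g ∈ Subgroup.normalizer ((P : Subgroup G) : Set G))
    {t : G} (ht : t ∈ (P : Subgroup G)) (ht1 : t ≠ 1) (htt : t * t = 1) (hgt : g * t = t * g) :
    g ∈ Subgroup.centralizer ((P : Subgroup G) : Set G) := by
  obtain ⟨s, k, hk, hn⟩ := Nat.exists_eq_two_pow_mul_odd (Nat.card_pos (α := G)).ne'
  have hnorm : ∀ v ∈ Subgroup.normalizer ((P : Subgroup G) : Set G), ∀ x ∈ (P : Subgroup G),
      v * x * v⁻¹ ∈ (P : Subgroup G) :=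
    fun v hv x hx => (Subgroup.mem_normalizer_iff.mp hv x).mp hx
  have hu : g ^ (2 ^ s) ∈ Subgroup.centralizer ((P : Subgroup G) : Set G) := by
    have huN : g ^ (2 ^ s) ∈ Subgroup.normalizer ((P : Subgroup G) : Set G) :=
      Subgroup.pow_mem _ hg _
    have huk : (g ^ (2 ^ s)) ^ k = 1 := by rw [← pow_mul, ← hn]; exact pow_card_eq_one'
    have hut : g ^ (2 ^ s) * t * (g ^ (2 ^ s))⁻¹ = t := by
      have : Commute (g ^ (2 ^ s)) t := (show Commute g t from hgt).pow_left _
      rw [this.eq, mul_inv_cancel_right]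
    have h1 := fix_all h (hnorm _ huN) hk huk ht ht1 htt hut
    have h2 := centralizes_of_centralizes_involutions (P : Subgroup G) hPc P.2 (hnorm _ huN) hk
      huk h1
    rw [Subgroup.mem_centralizer_iff]
    intro x hx
    have := h2 x hx
    calc x * g ^ (2 ^ s) = (g ^ (2 ^ s) * x * (g ^ (2 ^ s))⁻¹) * g ^ (2 ^ s) := by rw [this]
      _ = g ^ (2 ^ s) * x := by group
  have hw : g ^ k ∈ Subgroup.centralizer ((P : Subgroup G) : Set G) := by
    have hwN : g ^ k ∈ Subgroup.normalizer ((P : Subgroup G) : Set G) := Subgroup.pow_mem _ hg _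
    have hw2 : (g ^ k) ^ (2 ^ s) = 1 := by
      rw [← pow_mul, mul_comm, ← hn]; exact pow_card_eq_one'
    have hpg : IsPGroup 2 (Subgroup.zpowers (g ^ k)) := by
      rintro ⟨x, hx⟩
      obtain ⟨i, rfl⟩ := Subgroup.mem_zpowers_iff.mp hx
      refine ⟨s, ?_⟩
      apply Subtype.ext
      simp only [Subgroup.coe_pow, Subgroup.coe_one]
      rw [← zpow_natCast, ← zpow_mul, mul_comm, zpow_mul, zpow_natCast, hw2, one_zpow]
    have h3 := hpg.inf_normalizer_sylow P
    have h4 : g ^ k ∈ Subgroup.zpowers (g ^ k) ⊓ Subgroup.normalizer ((P : Subgroup G) : Set G) :=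
      ⟨Subgroup.mem_zpowers _, hwN⟩
    have h5 : g ^ k ∈ Subgroup.zpowers (g ^ k) ⊓ (P : Subgroup G) := by
      rw [← h3]; exact h4
    have hwP : g ^ k ∈ (P : Subgroup G) := h5.2
    rw [Subgroup.mem_centralizer_iff]
    intro x hx
    exact hPc x hx _ hwP
  have hcop : Nat.Coprime (2 ^ s) k := Nat.Coprime.pow_left s (Nat.coprime_two_left.mpr hk)
  have hb : (1 : ℤ) = ((2 ^ s : ℕ) : ℤ) * Nat.gcdA (2 ^ s) k + (k : ℤ) * Nat.gcdB (2 ^ s) k := by
    rw [← Nat.gcd_eq_gcd_ab, hcop.gcd_eq_one]; simp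
  have hg' : g = (g ^ (2 ^ s)) ^ (Nat.gcdA (2 ^ s) k) * (g ^ k) ^ (Nat.gcdB (2 ^ s) k) := by
    rw [← zpow_natCast, ← zpow_natCast, ← zpow_mul, ← zpow_mul, ← zpow_add, ← hb, zpow_one]
  rw [hg']
  exact Subgroup.mul_mem _ (Subgroup.zpow_mem _ hu _) (Subgroup.zpow_mem _ hw _)


/-- conjugation by `g ∈ N(P) ∖ C(P)` cycles the three involutions of `P` -/
theorem cycle_of_not_mem_centralizer (P : Sylow 2 G)
    (hPc : ∀ x ∈ (P : Subgroup G), ∀ y ∈ (P : Subgroup G), x * y = y * x) {a b : G}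
    (hK : KleinOmega (P : Subgroup G) a b) {g : G}
    (hgN : g ∈ Subgroup.normalizer ((P : Subgroup G) : Set G))
    (hgC : g ∉ Subgroup.centralizer ((P : Subgroup G) : Set G)) :
    (g * a * g⁻¹ = b ∧ g * b * g⁻¹ = a * b) ∨ (g * a * g⁻¹ = a * b ∧ g * (a * b) * g⁻¹ = b) := by
  have hno : ∀ t ∈ (P : Subgroup G), t ≠ 1 → t * t = 1 → g * t * g⁻¹ ≠ t := by
    intro t ht ht1 htt hgt
    apply hgC
    apply mem_centralizer_of_commute_involution P hPc hK hgN ht ht1 htt
    calc g * t = g * t * g⁻¹ * g := by group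
      _ = t * g := by rw [hgt]
  have hnorm : ∀ x ∈ (P : Subgroup G), g * x * g⁻¹ ∈ (P : Subgroup G) :=
    fun x hx => (Subgroup.mem_normalizer_iff.mp hgN x).mp hx
  have hinv : ∀ t ∈ (P : Subgroup G), t ≠ 1 → t * t = 1 →
      (g * t * g⁻¹ = a ∨ g * t * g⁻¹ = b ∨ g * t * g⁻¹ = a * b) := by
    intro t ht ht1 htt
    have h2 : g * t * g⁻¹ * (g * t * g⁻¹) = 1 := by
      calc g * t * g⁻¹ * (g * t * g⁻¹) = g * (t * t) * g⁻¹ := by group
        _ = 1 := by rw [htt]; group
    rcases hK.hall _ (hnorm t ht) h2 with h3 | h3 | h3 | h3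
    · exfalso; apply ht1
      have := congrArg (fun u => g⁻¹ * u * g) h3
      simpa [mul_assoc] using this
    · exact Or.inl h3
    · exact Or.inr (Or.inl h3)
    · exact Or.inr (Or.inr h3)
  have hab1 : a * b ≠ 1 := hK.rot.ha1
  have habab : a * b * (a * b) = 1 := hK.rot.haa
  have habP := hK.rot.ha
  rcases hinv a hK.ha hK.ha1 hK.haa with h1 | h1 | h1
  · exact absurd h1 (hno a hK.ha hK.ha1 hK.haa)
  · rcases hinv b hK.hb hK.hb1 hK.hbb with h2 | h2 | h2
    · exfalso
      apply hno (a * b) habP hab1 habab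
      calc g * (a * b) * g⁻¹ = (g * a * g⁻¹) * (g * b * g⁻¹) := by group
        _ = b * a := by rw [h1, h2]
        _ = a * b := hK.hcomm.symm
    · exact absurd h2 (hno b hK.hb hK.hb1 hK.hbb)
    · exact Or.inl ⟨h1, h2⟩
  · rcases hinv (a * b) habP hab1 habab with h2 | h2 | h2
    · exfalso
      apply hno b hK.hb hK.hb1 hK.hbb
      have hb' : b = a * (a * b) := by rw [← mul_assoc, hK.haa, one_mul]
      calc g * b * g⁻¹ = g * (a * (a * b)) * g⁻¹ := by rw [← hb']
        _ = (g * a * g⁻¹) * (g * (a * b) * g⁻¹) := by group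
        _ = a * b * a := by rw [h1, h2]
        _ = b := hK.aba
    · exact Or.inr ⟨h1, h2⟩
    · exact absurd h2 (hno (a * b) habP hab1 habab)

/-- **S0946** -/
theorem complement_or_conj (P : Sylow 2 G) (m : ℕ) (hm : 1 ≤ m)
    (e : (P : Subgroup G) ≃* Multiplicative (ZMod (2 ^ m) × ZMod (2 ^ m))) :
    (∃ N : Subgroup G, N.Normal ∧ Subgroup.IsComplement' N (P : Subgroup G)) ∨
      ∀ s t : G, orderOf s = 2 → orderOf t = 2 → IsConj s t := by
  by_cases hNC : Subgroup.normalizer ((P : Subgroup G) : Set G) ≤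
      Subgroup.centralizer ((P : Subgroup G) : Set G)
  · left
    exact ⟨(MonoidHom.transferSylow P hNC).ker, inferInstance,
      MonoidHom.ker_transferSylow_isComplement' P hNC⟩
  · right
    obtain ⟨g, hgN, hgC⟩ := SetLike.not_le_iff_exists.mp hNC
    have hPc := comm_of_equiv e
    obtain ⟨a, b, hK⟩ := exists_kleinOmega hm e
    have hconj : IsConj a b ∧ IsConj a (a * b) := by
      rcases cycle_of_not_mem_centralizer P hPc hK hgN hgC with ⟨h1, h2⟩ | ⟨h1, h2⟩
      · exact ⟨isConj_iff.mpr ⟨g, h1⟩, (isConj_iff.mpr ⟨g, h1⟩).trans (isConj_iff.mpr ⟨g, h2⟩)⟩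
      · exact ⟨(isConj_iff.mpr ⟨g, h1⟩).trans (isConj_iff.mpr ⟨g, h2⟩), isConj_iff.mpr ⟨g, h1⟩⟩
    have hall : ∀ s : G, orderOf s = 2 → IsConj s a := by
      intro s hs
      have hs' := (orderOf_eq_prime_iff (p := 2)).mp hs
      have hpg : IsPGroup 2 (Subgroup.zpowers s) := by
        apply IsPGroup.of_card (n := 1)
        rw [Nat.card_zpowers, hs, pow_one]
      obtain ⟨Q, hQ⟩ := hpg.exists_le_sylow
      obtain ⟨c, hc⟩ := MulAction.exists_smul_eq G Q P
      have hsQ : s ∈ (Q : Subgroup G) := hQ (Subgroup.mem_zpowers s)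
      have hsP : c * s * c⁻¹ ∈ (P : Subgroup G) := by
        rw [← hc, Sylow.coe_subgroup_smul]
        exact Subgroup.smul_mem_pointwise_smul s (MulAut.conj c) _ hsQ
      have hs1 : c * s * c⁻¹ ≠ 1 := by
        intro h3
        apply hs'.2
        have := congrArg (fun u => c⁻¹ * u * c) h3
        simpa [mul_assoc] using this
      have hss : (c * s * c⁻¹) * (c * s * c⁻¹) = 1 := by
        calc (c * s * c⁻¹) * (c * s * c⁻¹) = c * (s ^ 2) * c⁻¹ := by rw [pow_two]; group
          _ = 1 := by rw [hs'.1]; group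
      rcases hK.hall _ hsP hss with h3 | h3 | h3 | h3
      · exact absurd h3 hs1
      · exact isConj_iff.mpr ⟨c, h3⟩
      · exact (isConj_iff.mpr ⟨c, h3⟩).trans hconj.1.symm
      · exact (isConj_iff.mpr ⟨c, h3⟩).trans hconj.2.symm
    intro s t hs ht
    exact (hall s hs).trans (hall t ht).symm


/-- a nontrivial element of a 2-group has a power which is an involution -/
theorem exists_pow_involution {Q : Subgroup G} (hQ : IsPGroup 2 Q) {z : G} (hz : z ∈ Q)
    (hz1 : z ≠ 1) : ∃ n : ℕ, z ^ n ≠ 1 ∧ z ^ n * z ^ n = 1 := by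
  obtain ⟨j, hj⟩ := (IsPGroup.iff_orderOf.mp hQ) ⟨z, hz⟩
  rw [Subgroup.orderOf_mk] at hj
  have hj0 : j ≠ 0 := by
    rintro rfl
    rw [pow_zero, orderOf_eq_one_iff] at hj
    exact hz1 hj
  refine ⟨2 ^ (j - 1), ?_, ?_⟩
  · apply pow_ne_one_of_lt_orderOf (by positivity)
    rw [hj]
    exact Nat.pow_lt_pow_right (by norm_num) (by omega)
  · rw [← pow_add, ← two_mul, ← pow_succ']
    have : j - 1 + 1 = j := by omega
    rw [this, ← hj, pow_orderOf_eq_one]

/-- **S0945** -/
theorem index_one_or_three (P : Sylow 2 G) (m : ℕ) (hm : 1 ≤ m)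
    (e : (P : Subgroup G) ≃* Multiplicative (ZMod (2 ^ m) × ZMod (2 ^ m))) :
    ((Subgroup.centralizer ((P : Subgroup G) : Set G)).relIndex
        (Subgroup.normalizer ((P : Subgroup G) : Set G)) = 1 ∨
      (Subgroup.centralizer ((P : Subgroup G) : Set G)).relIndex
        (Subgroup.normalizer ((P : Subgroup G) : Set G)) = 3) ∧
    (∀ z ∈ (P : Subgroup G), z ≠ 1 →
      Subgroup.centralizer ({z} : Set G) ⊓ Subgroup.normalizer ((P : Subgroup G) : Set G) =
        Subgroup.centralizer ((P : Subgroup G) : Set G)) := by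
  have hPc := comm_of_equiv e
  obtain ⟨a, b, hK⟩ := exists_kleinOmega hm e
  obtain ⟨N, hN⟩ : ∃ N, N = Subgroup.normalizer ((P : Subgroup G) : Set G) := ⟨_, rfl⟩
  obtain ⟨C, hC⟩ : ∃ C, C = Subgroup.centralizer ((P : Subgroup G) : Set G) := ⟨_, rfl⟩
  rw [← hN, ← hC]
  have hCN : C ≤ N := by rw [hC, hN]; exact Subgroup.centralizer_le_normalizer _
  have hPC : (P : Subgroup G) ≤ C := by
    rw [hC]
    intro x hx
    rw [Subgroup.mem_centralizer_iff]
    intro y hy
    exact hPc y hy x hx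
  constructor
  · by_cases hNC : N ≤ C
    · left; exact Subgroup.relIndex_eq_one.mpr hNC
    · right
      obtain ⟨g, hgN, hgC⟩ := SetLike.not_le_iff_exists.mp hNC
      -- oddness
      have hodd : ¬ 2 ∣ C.relIndex N := by
        intro h2
        have h3 : C.relIndex N ∣ (P : Subgroup G).relIndex N :=
          Dvd.intro_left _ (Subgroup.relIndex_mul_relIndex _ _ _ hPC hCN)
        have h4 : (P : Subgroup G).relIndex N ∣ (P : Subgroup G).index :=
          Subgroup.relIndex_dvd_index_of_le (hPC.trans hCN)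
        exact P.not_dvd_index (h2.trans (h3.trans h4))
      have hne1 : C.relIndex N ≠ 1 := fun h => hNC (Subgroup.relIndex_eq_one.mp h)
      -- covering
      have hcover : ∀ h ∈ N, h ∈ C ∨ g⁻¹ * h ∈ C ∨ (g ^ 2)⁻¹ * h ∈ C := by
        intro h hhN
        have hnorm : ∀ x ∈ (P : Subgroup G), h * x * h⁻¹ ∈ (P : Subgroup G) :=
          fun x hx => (Subgroup.mem_normalizer_iff.mp (hN ▸ hhN) x).mp hx
        have h2 : h * a * h⁻¹ * (h * a * h⁻¹) = 1 := by
          calc h * a * h⁻¹ * (h * a * h⁻¹) = h * (a * a) * h⁻¹ := by group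
            _ = 1 := by rw [hK.haa]; group
        have hfix : ∀ v ∈ N, v * a * v⁻¹ = a → v ∈ C := by
          intro v hv hva
          rw [hC]
          apply mem_centralizer_of_commute_involution P hPc hK (hN ▸ hv) hK.ha hK.ha1 hK.haa
          calc v * a = v * a * v⁻¹ * v := by group
            _ = a * v := by rw [hva]
        have hg2 : ∀ y : G, g ^ 2 * y * (g ^ 2)⁻¹ = g * (g * y * g⁻¹) * g⁻¹ := by
          intro y; rw [pow_two]; group
        have hfix1 : h * a * h⁻¹ = g * a * g⁻¹ → g⁻¹ * h ∈ C := by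
          intro h5
          apply hfix _ (N.mul_mem (N.inv_mem hgN) hhN)
          calc g⁻¹ * h * a * (g⁻¹ * h)⁻¹ = g⁻¹ * (h * a * h⁻¹) * g := by group
            _ = a := by rw [h5]; group
        have hfix2 : h * a * h⁻¹ = g ^ 2 * a * (g ^ 2)⁻¹ → (g ^ 2)⁻¹ * h ∈ C := by
          intro h5
          apply hfix _ (N.mul_mem (N.inv_mem (N.pow_mem hgN 2)) hhN)
          calc (g ^ 2)⁻¹ * h * a * ((g ^ 2)⁻¹ * h)⁻¹ = (g ^ 2)⁻¹ * (h * a * h⁻¹) * g ^ 2 := by
                group
            _ = a := by rw [h5]; group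
        rcases hK.hall _ (hnorm a hK.ha) h2 with h3 | h3 | h3 | h3
        · exfalso; apply hK.ha1
          have := congrArg (fun u => h⁻¹ * u * h) h3
          simpa [mul_assoc] using this
        · exact Or.inl (hfix h hhN h3)
        · rcases cycle_of_not_mem_centralizer P hPc hK (hN ▸ hgN) (hC ▸ hgC) with
            ⟨h5, h6⟩ | ⟨h5, h6⟩
          · exact Or.inr (Or.inl (hfix1 (by rw [h3, h5])))
          · exact Or.inr (Or.inr (hfix2 (by rw [h3, hg2, h5, h6])))
        · rcases cycle_of_not_mem_centralizer P hPc hK (hN ▸ hgN) (hC ▸ hgC) with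
            ⟨h5, h6⟩ | ⟨h5, h6⟩
          · exact Or.inr (Or.inr (hfix2 (by rw [h3, hg2, h5, h6])))
          · exact Or.inr (Or.inl (hfix1 (by rw [h3, h5])))
      -- counting
      have hsub : (N : Set G) ⊆ (C : Set G) ∪ ((fun x => g * x) '' (C : Set G)) ∪
          ((fun x => g ^ 2 * x) '' (C : Set G)) := by
        intro h hh
        rcases hcover h hh with h1 | h1 | h1
        · exact Or.inl (Or.inl h1)
        · exact Or.inl (Or.inr ⟨g⁻¹ * h, h1, by simp⟩)
        · exact Or.inr ⟨(g ^ 2)⁻¹ * h, h1, by simp⟩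
      have hcard : Nat.card N ≤ 3 * Nat.card C := by
        have e1 : Nat.card N = (N : Set G).ncard := Nat.card_coe_set_eq (N : Set G)
        have e2 : Nat.card C = (C : Set G).ncard := Nat.card_coe_set_eq (C : Set G)
        rw [e1, e2]
        calc (N : Set G).ncard ≤ ((C : Set G) ∪ ((fun x => g * x) '' (C : Set G)) ∪
              ((fun x => g ^ 2 * x) '' (C : Set G))).ncard :=
              Set.ncard_le_ncard hsub (Set.toFinite _)
          _ ≤ ((C : Set G) ∪ ((fun x => g * x) '' (C : Set G))).ncard +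
              ((fun x => g ^ 2 * x) '' (C : Set G)).ncard := Set.ncard_union_le _ _
          _ ≤ (C : Set G).ncard + ((fun x => g * x) '' (C : Set G)).ncard +
              ((fun x => g ^ 2 * x) '' (C : Set G)).ncard :=
              Nat.add_le_add_right (Set.ncard_union_le _ _) _
          _ = 3 * (C : Set G).ncard := by
              rw [Set.ncard_image_of_injective _ (mul_right_injective g),
                Set.ncard_image_of_injective _ (mul_right_injective (g ^ 2))]
              ring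
      have hmul : Nat.card C * C.relIndex N = Nat.card N := by
        have := Subgroup.relIndex_mul_relIndex _ _ _ (bot_le : (⊥ : Subgroup G) ≤ C) hCN
        rwa [Subgroup.relIndex_bot_left, Subgroup.relIndex_bot_left] at this
      have hCpos : 0 < Nat.card C := Nat.card_pos
      have hle : C.relIndex N ≤ 3 := by
        by_contra hcon
        push_neg at hcon
        have : Nat.card C * 4 ≤ Nat.card C * C.relIndex N := Nat.mul_le_mul_left _ hcon
        rw [hmul] at this
        omega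
      have hpos : C.relIndex N ≠ 0 := by
        intro h0
        rw [h0, mul_zero] at hmul
        exact (Nat.card_pos (α := N)).ne' hmul.symm
      omega
  · intro z hz hz1
    apply le_antisymm
    · rintro g ⟨hgz, hgN⟩
      obtain ⟨n, hn1, hn2⟩ := exists_pow_involution P.2 hz hz1
      rw [hC]
      apply mem_centralizer_of_commute_involution P hPc hK (hN ▸ hgN)
        ((P : Subgroup G).pow_mem hz n) hn1 hn2
      have h1 : z * g = g * z := Subgroup.mem_centralizer_iff.mp hgz z rfl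
      have h2 : Commute g z := h1.symm
      exact (h2.pow_right n).eq
    · intro g hg
      refine ⟨?_, hCN hg⟩
      show g ∈ Subgroup.centralizer ({z} : Set G)
      rw [Subgroup.mem_centralizer_iff]
      intro y hy
      rw [Set.mem_singleton_iff] at hy
      rw [hy]
      rw [hC] at hg
      exact Subgroup.mem_centralizer_iff.mp hg z hz

end sylow

end Cfsg.Agent.H2.Homocyc
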