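import Mathlib
import Cfsg.Prelude.Def_Blocks
import Cfsg.Agent.Lib.helper3.ExtFirstMain1

/-!
# Block induction through an intermediate subgroup: the converse of transitivity (helper2)

If `b` (a block of `K ≤ H`) induces the block `B₁` of `H`, then the induced central characters of
`b` and `B₁` to `G` are congruent; so `b` induces `B₂` in `G` iff `B₁` does.
-/

set_option autoImplicit false
set_option linter.style.haveILetI false
set_option linter.unusedSectionVars false

namespace Cfsg.Agent.H2.InducedTrans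

open Cfsg Cfsg.Agent.Lib.helper3.Block Cfsg.Agent.Lib.helper3.CharBasic Cfsg.Agent.Lib.helper3.Irr
open Cfsg.Agent.Lib.helper3.Central Cfsg.Agent.Lib.helper3.LocalM

variable {G : Type*} [Group G] [Fintype G] {M : Ideal AlgInt}

open Classical in
/-- The induced central characters of a block of `K` and of the block of `H` it induces are
congruent. -/
theorem memLocalIdeal_inducedCentralChar_sub [hMp : M.IsPrime] (K H : Subgroup G)
    (K' : Subgroup H) (ι : K' ≃* K)
    (hι : ∀ m : K', ((ι m : K) : G) = ((m : H) : G))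
    (b : Set (IrrCharacter K))
    (B₁ : Set (IrrCharacter H))
    (h1 : IsInducedBlock M K' (irrCongr ι '' b) B₁)
    (ξ : IrrCharacter K) (hξ : ξ ∈ b) (ζ : IrrCharacter H) (hζ : ζ ∈ B₁) (g : G) :
    MemLocalIdeal M (inducedCentralChar K (ξ : K → ℂ) g
      - inducedCentralChar H (ζ : H → ℂ) g) := by
  have hMtop : M ≠ ⊤ := hMp.ne_top
  obtain ⟨ξ', hξ'⟩ : ∃ ξ' : IrrCharacter K', ξ' = irrCongr ι ξ := ⟨_, rfl⟩
  have hξ'mem : ξ' ∈ irrCongr ι '' b := ⟨ξ, hξ, hξ'.symm⟩
  have hξ'app : ∀ m : K', (ξ' : K' → ℂ) m = (ξ : K → ℂ) (ι m) := by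
    intro m
    rw [hξ']
    rfl
  have hC : ∀ C : ConjClasses H, MemLocalIdeal M
      (inducedCentralChar K' (ξ' : K' → ℂ) (Quotient.out C)
        - centralChar (ζ : H → ℂ) (Quotient.out C)) :=
    fun C => h1.2.2 ξ' hξ'mem ζ hζ _
  obtain ⟨F₁, hF₁⟩ : ∃ F₁ : H → ℂ, F₁ = fun h : H =>
      if IsConj g (h : G) then (ζ : H → ℂ) h / (ζ : H → ℂ) 1 else 0 := ⟨_, rfl⟩
  have hF₁app : ∀ h : H, F₁ h
      = if IsConj g (h : G) then (ζ : H → ℂ) h / (ζ : H → ℂ) 1 else 0 := by
    intro h; rw [hF₁]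
  obtain ⟨F₂, hF₂⟩ : ∃ F₂ : K' → ℂ, F₂ = fun m : K' =>
      if IsConj g ((m : H) : G) then (ξ' : K' → ℂ) m / (ξ' : K' → ℂ) 1 else 0 := ⟨_, rfl⟩
  have hF₂app : ∀ m : K', F₂ m
      = if IsConj g ((m : H) : G) then (ξ' : K' → ℂ) m / (ξ' : K' → ℂ) 1 else 0 := by
    intro m; rw [hF₂]
  have hconjH : ∀ h x : H, IsConj g (((x * h * x⁻¹ : H)) : G) ↔ IsConj g ((h : H) : G) := by
    intro h x
    have hc : IsConj ((h : H) : G) (((x * h * x⁻¹ : H)) : G) := by
      rw [isConj_iff]
      exact ⟨(x : G), by simp⟩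
    exact ⟨fun h' => h'.trans hc.symm, fun h' => h'.trans hc⟩
  have hF₁cl : ∀ h x : H, F₁ (x * h * x⁻¹) = F₁ h := by
    intro h x
    rw [hF₁app, hF₁app,
      isClassFunction_of_isCharacter (isCharacter_of_isIrrCharacter ζ.2) h x]
    by_cases hg : IsConj g ((h : H) : G)
    · rw [if_pos hg, if_pos ((hconjH h x).mpr hg)]
    · rw [if_neg hg, if_neg (fun h' => hg ((hconjH h x).mp h'))]
  have e1 : inducedCentralChar H (ζ : H → ℂ) g = ∑ h : H, F₁ h := by
    rw [inducedCentralChar_eq_sum]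
    apply Finset.sum_congr rfl
    intro h _
    rw [hF₁app]
  have e2 : inducedCentralChar K (ξ : K → ℂ) g = ∑ m : K', F₂ m := by
    rw [inducedCentralChar_eq_sum]
    symm
    apply Fintype.sum_equiv ι.toEquiv
    intro m
    have h1 : ((ι.toEquiv m : K) : G) = ((m : H) : G) := hι m
    rw [hF₂app, hξ'app, hξ'app, map_one, h1]
    rfl
  have s1 := sum_class_fun F₁ hF₁cl
  have s2 := sum_fiberwise_conjClasses (X := H) (fun m : K' => (m : H)) F₂
  rw [e1, e2, s1, s2, ← Finset.sum_sub_distrib]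
  apply memLocalIdeal_sum
  intro C _
  have hmk : ∀ m : K', ConjClasses.mk (m : H) = C ↔ IsConj (Quotient.out C) (m : H) := by
    intro m
    have hC' : ConjClasses.mk (Quotient.out C) = C := Quotient.out_eq C
    rw [← ConjClasses.mk_eq_mk_iff_isConj, hC']
    exact eq_comm
  have hGconj : ∀ m : K', IsConj (Quotient.out C) (m : H) →
      IsConj ((Quotient.out C : H) : G) ((m : H) : G) := by
    intro m hm
    obtain ⟨c, hc⟩ := isConj_iff.mp hm
    rw [isConj_iff]
    refine ⟨(c : G), ?_⟩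
    have := congrArg (fun x : H => (x : G)) hc
    simpa using this
  by_cases hg : IsConj g ((Quotient.out C : H) : G)
  · convert hC C using 2
    · rw [inducedCentralChar_eq_sum]
      apply Finset.sum_congr rfl
      intro m _
      by_cases hm : ConjClasses.mk (m : H) = C
      · have hm' := (hmk m).mp hm
        rw [if_pos hm, if_pos hm', hF₂app, if_pos (hg.trans (hGconj m hm'))]
      · rw [if_neg hm, if_neg (fun h' => hm ((hmk m).mpr h'))]
    · rw [hF₁app, if_pos hg]
      unfold centralChar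
      ring
  · convert memLocalIdeal_zero hMtop using 1
    rw [hF₁app, if_neg hg, mul_zero, sub_zero]
    apply Finset.sum_eq_zero
    intro m _
    by_cases hm : ConjClasses.mk (m : H) = C
    · have hm' := (hmk m).mp hm
      rw [if_pos hm, hF₂app, if_neg]
      intro hgm
      exact hg (hgm.trans (hGconj m hm').symm)
    · rw [if_neg hm]

open Classical in
/-- Converse of the transitivity of block induction: if `b` induces `B₁` in `H` and `B₂` in `G`
then `B₁` induces `B₂`. -/
theorem isInducedBlock_of_trans [hMp : M.IsPrime] (K H : Subgroup G)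
    (K' : Subgroup H) (ι : K' ≃* K)
    (hι : ∀ m : K', ((ι m : K) : G) = ((m : H) : G))
    (b : Set (IrrCharacter K))
    (B₁ : Set (IrrCharacter H)) (B₂ : Set (IrrCharacter G))
    (h1 : IsInducedBlock M K' (irrCongr ι '' b) B₁) (h3 : IsInducedBlock M K b B₂) :
    IsInducedBlock M H B₁ B₂ := by
  have hMtop : M ≠ ⊤ := hMp.ne_top
  refine ⟨h1.2.1, h3.2.1, ?_⟩
  intro ζ hζ χ hχ g
  obtain ⟨ξ, hξ⟩ : ∃ ξ, ξ ∈ b := by
    obtain ⟨χ, hχ⟩ := h3.1
    exact ⟨χ, by rw [hχ]; exact sameBlock_refl hMtop _⟩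
  have hA := h3.2.2 ξ hξ χ hχ g
  have hB := memLocalIdeal_inducedCentralChar_sub K H K' ι hι b B₁ h1 ξ hξ ζ hζ g
  have := memLocalIdeal_sub hA hB
  convert this using 1
  ring

end Cfsg.Agent.H2.InducedTrans
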