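import Cfsg.Agent.H2.Layer
import Cfsg.Agent.H2.PPrimeCore
import Cfsg.Agent.Lib.Helper4.LBalB
import Cfsg.Agent.H1.Cores
import Cfsg.Agent.S0542

/-!
# S3049 pieces (Q2), (Q7)
-/

set_option autoImplicit false
set_option linter.style.haveILetI false
set_option linter.unusedVariables false

namespace Cfsg.Agent.H2.Iso2

universe u
variable {G : Type u} [Group G] [Finite G] {p : ℕ} [Fact p.Prime]

/-- (Q2) every component has order divisible by `p`. -/
theorem dvd_card_component (hcore : Cfsg.pPrimeCore p G = ⊥) (K : Subgroup G)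
    (hK : Cfsg.IsComponent K) : p ∣ Nat.card K := by
  by_contra h
  have hpp : p.Prime := Fact.out
  have hc : (Nat.card K).Coprime p := ((Nat.Prime.coprime_iff_not_dvd hpp).2 h).symm
  have := Cfsg.Agent.H2.le_pPrimeCore_of_isSubnormal p hK.1 hc
  rw [hcore] at this
  exact Cfsg.Agent.H2.quasisimple_ne_bot hK.2 (le_bot_iff.1 this)

/-- a nontrivial finite `p`-group has an element of order `p` -/
theorem exists_orderOf_eq_of_isPGroup {X : Type*} [Group X] [Finite X] (hX : IsPGroup p X)
    (hne : Nontrivial X) : ∃ u : X, orderOf u = p := by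
  apply exists_prime_orderOf_dvd_card' p
  obtain ⟨n, hn⟩ := IsPGroup.iff_card.1 hX
  rcases Nat.eq_zero_or_pos n with h0 | h0
  · exfalso
    rw [h0, pow_zero] at hn
    have : Subsingleton X := (Nat.card_eq_one_iff_unique.1 hn).1
    exact not_subsingleton X this
  · rw [hn]
    exact dvd_pow_self p h0.ne'

/-- (Q7) an element of order `p` of `P` centralizing the component `K`, unless `F*(G) = K` is simple. -/
theorem exists_centralizing_or_simple (hcore : Cfsg.pPrimeCore p G = ⊥) (P : Sylow p G)
    (K : Subgroup G) (hK : Cfsg.IsComponent K) :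
    (∃ u ∈ (P : Subgroup G), orderOf u = p ∧ ∀ k ∈ K, u * k = k * u) ∨
      (Cfsg.generalizedFittingSubgroup G = K ∧ IsSimpleGroup ↥K ∧ ¬ IsMulCommutative ↥K) := by
  classical
  have hpp : p.Prime := Fact.out
  have hF : Cfsg.fittingSubgroup G = Cfsg.pCore p G :=
    Cfsg.Agent.Lib.Helper4.LBal.fittingSubgroup_eq_pCore hcore
  by_cases hF1 : Cfsg.fittingSubgroup G = ⊥
  swap
  · left
    have hFp : IsPGroup p ↥(Cfsg.fittingSubgroup G) := by
      rw [hF]; exact Cfsg.Agent.H1.pCore_isPGroup p
    have hnt : Nontrivial ↥(Cfsg.fittingSubgroup G) :=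
      (Subgroup.nontrivial_iff_ne_bot _).2 hF1
    obtain ⟨u, hu⟩ := exists_orderOf_eq_of_isPGroup hFp hnt
    refine ⟨u.1, ?_, ?_, ?_⟩
    · apply Cfsg.Agent.H1.pCore_le_sylow P
      rw [← hF]; exact u.2
    · rw [← hu]; exact Subgroup.orderOf_coe u
    · intro k hk
      have h1 := (Cfsg.Agent.H2.commutator_eq_bot_iff_forall_commute _ _).1
        (Cfsg.Agent.H2.layer_commutator_fittingSubgroup (G := G))
      exact (h1 k (Cfsg.Agent.H2.component_le_layer hK hk) u.1 u.2).symm
  · by_cases hK' : ∃ K' : Subgroup G, Cfsg.IsComponent K' ∧ K' ≠ K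
    · left
      obtain ⟨K', hK'c, hne⟩ := hK'
      obtain ⟨Q, hQ⟩ := Cfsg.Agent.S0542.result p K' hK'c.1 P
      have hdiv : p ∣ Nat.card K' := dvd_card_component hcore K' hK'c
      have hQne : (Q : Subgroup ↥K') ≠ ⊥ := Q.ne_bot_of_dvd_card hdiv
      have hnt : Nontrivial ↥(Q : Subgroup ↥K') := (Subgroup.nontrivial_iff_ne_bot _).2 hQne
      obtain ⟨u, hu⟩ := exists_orderOf_eq_of_isPGroup Q.isPGroup' hnt
      have huP : (u.1 : G) ∈ (P : Subgroup G) := by
        have h2 : u.1 ∈ (Q : Subgroup ↥K') := u.2
        have h3 : u.1 ∈ (P : Subgroup G).subgroupOf K' := hQ ▸ h2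
        exact Subgroup.mem_subgroupOf.1 h3
      refine ⟨(u.1 : G), huP, ?_, ?_⟩
      · have e1 : orderOf ((u.1 : ↥K') : G) = orderOf (u.1 : ↥K') := Subgroup.orderOf_coe _
        have e2 : orderOf (u.1 : ↥K') = orderOf u := Subgroup.orderOf_coe _
        rw [e1, e2, hu]
      · intro k hk
        have h1 := (Cfsg.Agent.H2.commutator_eq_bot_iff_forall_commute _ _).1
          (Cfsg.Agent.H2.components_commute hK'c hK hne)
        exact h1 (u.1 : G) u.1.2 k hk
    · right
      push Not at hK'
      have hlayer : Cfsg.layer G = K :=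
        le_antisymm (Cfsg.Agent.H2.layer_le_iff.2 (fun L hL => (hK' L hL).le))
          (Cfsg.Agent.H2.component_le_layer hK)
      have hFs : Cfsg.generalizedFittingSubgroup G = K := by
        unfold Cfsg.generalizedFittingSubgroup
        rw [hlayer, hF1, sup_bot_eq]
      -- the centre of `K` is trivial
      have hZ : Subgroup.center ↥K = ⊥ := by
        have hsub : ((Subgroup.center ↥K).map K.subtype).IsSubnormal := by
          refine Subgroup.IsSubnormal.step _ K (Cfsg.Agent.H2.map_subtype_le K _) hK.1 ?_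
          have : ((Subgroup.center ↥K).map K.subtype).subgroupOf K = Subgroup.center ↥K := by
            ext y
            rw [Subgroup.mem_subgroupOf]
            constructor
            · rintro ⟨z, hz, hzy⟩
              have : z = y := Subtype.ext hzy
              rwa [← this]
            · intro hy
              exact ⟨y, hy, rfl⟩
          rw [this]
          infer_instance
        have hcomm : ⁅(Subgroup.center ↥K).map K.subtype, (Subgroup.center ↥K).map K.subtype⁆ = ⊥ := by
          rw [Cfsg.Agent.H2.commutator_eq_bot_iff_forall_commute]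
          rintro _ ⟨a, ha, rfl⟩ _ ⟨b, hb, rfl⟩
          have := (Subgroup.mem_center_iff.1 ha b)
          have h2 := congrArg Subtype.val this
          simpa using h2.symm
        have hnil := Cfsg.Agent.H2.isNilpotent_of_commutator_eq_bot _ hcomm
        have hle := Cfsg.Agent.H2.le_fittingSubgroup_of_isSubnormal_of_isNilpotent hsub hnil
        rw [hF1, le_bot_iff] at hle
        exact (Subgroup.map_eq_bot_iff_of_injective _ K.subtype_injective).1 hle
      refine ⟨hFs, ?_, ?_⟩
      · haveI : Nontrivial ↥K := (Subgroup.nontrivial_iff_ne_bot K).2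
          (Cfsg.Agent.H2.quasisimple_ne_bot hK.2)
        haveI := hK.2.2
        let f : (↥K ⧸ Subgroup.center ↥K) →* ↥K :=
          QuotientGroup.lift (Subgroup.center ↥K) (MonoidHom.id ↥K) (by
            intro y hy
            rw [hZ, Subgroup.mem_bot] at hy
            rw [hy]; exact Subgroup.one_mem _)
        have hf : Function.Surjective f := fun y => ⟨QuotientGroup.mk y, rfl⟩
        exact IsSimpleGroup.isSimpleGroup_of_surjective f hf
      · intro hc
        apply Cfsg.Agent.H2.quasisimple_not_isSolvable hK.2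
        exact Group.isSolvable_of_comm (fun a b => hc.is_comm.comm a b)

end Cfsg.Agent.H2.Iso2
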