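import Mathlib
import Cfsg.Prelude.Def_IsolatedElements
import Cfsg.Prelude.Def_CaseTheorems
import Cfsg.Prelude.Def_Transfer
import Cfsg.Agent.Lib.Lead.NormalPComplement

/-!
# S3049 pieces (Q4), (Q6)
-/

set_option autoImplicit false
set_option linter.style.haveILetI false
set_option linter.unusedVariables false

namespace Cfsg.Agent.H2.Iso2

universe u
variable {G : Type u} [Group G] {p : ℕ} [Fact p.Prime]

/-- (Q4) elements `x^i u^j` are isolated in `K` when `u` centralizes `K`. -/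
theorem isolated_in (K : Subgroup G) (x u : G) (hx : orderOf x = p) (hiso : Cfsg.IsIsolated x)
    (hxu : x * u = u * x) (huK : ∀ k ∈ K, u * k = k * u) (i j : ℕ) :
    ∀ k ∈ K, Commute (x ^ i * u ^ j) (k * (x ^ i * u ^ j) * k⁻¹) →
      k * (x ^ i * u ^ j) * k⁻¹ = x ^ i * u ^ j := by
  intro k hk hc
  have hpp : p.Prime := Fact.out
  have huk : Commute u k := huK k hk
  have hxuc : Commute x u := hxu
  -- `k (x^i u^j) k⁻¹ = (k x k⁻¹)^i u^j`
  have hconj : k * (x ^ i * u ^ j) * k⁻¹ = (k * x * k⁻¹) ^ i * u ^ j := by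
    have h1 : k * u ^ j * k⁻¹ = u ^ j := by
      have : Commute (u ^ j) k := huk.pow_left j
      calc k * u ^ j * k⁻¹ = (u ^ j * k) * k⁻¹ := by rw [this.eq]
        _ = u ^ j := by group
    calc k * (x ^ i * u ^ j) * k⁻¹ = (k * x ^ i * k⁻¹) * (k * u ^ j * k⁻¹) := by group
      _ = (k * x * k⁻¹) ^ i * u ^ j := by rw [h1, conj_pow]
  rw [hconj] at hc ⊢
  by_cases hi : p ∣ i
  · have hxi : x ^ i = 1 := by
      obtain ⟨m, rfl⟩ := hi
      rw [pow_mul, ← hx, pow_orderOf_eq_one, one_pow]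
    have hxi' : (k * x * k⁻¹) ^ i = 1 := by rw [conj_pow, hxi]; group
    rw [hxi, hxi']
  · -- `x = (x^i)^i'`
    have hcop : Nat.Coprime i p := (Nat.Coprime.symm ((Nat.Prime.coprime_iff_not_dvd hpp).2 hi))
    obtain ⟨i', -, hi'⟩ := Nat.exists_mul_mod_eq_one_of_coprime hcop hpp.one_lt
    have hpow : ∀ z : G, z ^ p = 1 → (z ^ i) ^ i' = z := by
      intro z hz
      rw [← pow_mul, ← Nat.div_add_mod (i * i') p, pow_add, pow_mul, hz, one_pow, one_mul, hi',
        pow_one]
    have hxp : x ^ p = 1 := by rw [← hx]; exact pow_orderOf_eq_one x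
    have hx'p : (k * x * k⁻¹) ^ p = 1 := by rw [conj_pow, hxp]; group
    -- `u` commutes with `x` and with `k x k⁻¹`
    have hux' : Commute u (k * x * k⁻¹) := by
      have h1 : Commute u k⁻¹ := huk.inv_right
      exact (huk.mul_right hxuc.symm).mul_right h1
    -- from `hc` deduce that `x^i` and `(k x k⁻¹)^i` commute
    have hc2 : Commute (x ^ i) ((k * x * k⁻¹) ^ i) := by
      have huj1 : Commute (u ^ j) (x ^ i) := (hxuc.symm.pow_pow j i)
      have huj2 : Commute (u ^ j) ((k * x * k⁻¹) ^ i) := hux'.pow_pow j i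
      have e : x ^ i * u ^ j * ((k * x * k⁻¹) ^ i * u ^ j) =
          (k * x * k⁻¹) ^ i * u ^ j * (x ^ i * u ^ j) := hc.eq
      have e1 : x ^ i * u ^ j * ((k * x * k⁻¹) ^ i * u ^ j) =
          (x ^ i * (k * x * k⁻¹) ^ i) * (u ^ j * u ^ j) := by
        calc x ^ i * u ^ j * ((k * x * k⁻¹) ^ i * u ^ j)
            = x ^ i * (u ^ j * (k * x * k⁻¹) ^ i) * u ^ j := by group
          _ = x ^ i * ((k * x * k⁻¹) ^ i * u ^ j) * u ^ j := by rw [huj2.eq]
          _ = (x ^ i * (k * x * k⁻¹) ^ i) * (u ^ j * u ^ j) := by group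
      have e2 : (k * x * k⁻¹) ^ i * u ^ j * (x ^ i * u ^ j) =
          ((k * x * k⁻¹) ^ i * x ^ i) * (u ^ j * u ^ j) := by
        calc (k * x * k⁻¹) ^ i * u ^ j * (x ^ i * u ^ j)
            = (k * x * k⁻¹) ^ i * (u ^ j * x ^ i) * u ^ j := by group
          _ = (k * x * k⁻¹) ^ i * (x ^ i * u ^ j) * u ^ j := by rw [huj1.eq]
          _ = ((k * x * k⁻¹) ^ i * x ^ i) * (u ^ j * u ^ j) := by group
      rw [e1, e2] at e
      exact mul_right_cancel e
    have hc3 : Commute x (k * x * k⁻¹) := by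
      have := hc2.pow_pow i' i'
      rwa [hpow x hxp, hpow _ hx'p] at this
    rw [hiso k hc3]

/-- (Q6) a quasisimple group of order divisible by `p` has no normal `p`-complement. -/
theorem not_hasNormalPComplement_of_quasisimple {X : Type u} [Group X] [Finite X]
    (hX : Cfsg.IsQuasisimple X) (hdiv : p ∣ Nat.card X) : ¬ Cfsg.HasNormalPComplement p X := by
  intro hN
  obtain ⟨hperf, -⟩ := hX
  obtain ⟨N, hNn, hNc, k, hk⟩ :=
    Cfsg.Agent.Lib.Lead.NormalPComplement.exists_normal_of_hasNormalPComplement hN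
  haveI := hNn
  haveI := hperf
  have hq : IsPGroup p (X ⧸ N) := by
    apply IsPGroup.of_card (n := k)
    rw [← Subgroup.index_eq_card, hk]
  haveI : Group.IsNilpotent (X ⧸ N) := hq.isNilpotent
  have hsub : Subsingleton (X ⧸ N) := by
    by_contra hns
    rw [not_subsingleton_iff_nontrivial] at hns
    haveI := hns
    exact Group.IsPerfect.not_isNilpotent (G := X ⧸ N) inferInstance
  have hidx : N.index = 1 := by
    rw [Subgroup.index_eq_card]
    exact Nat.card_eq_one_iff_unique.2 ⟨hsub, ⟨1⟩⟩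
  have hNtop : N = ⊤ := Subgroup.index_eq_one.1 hidx
  have hcard : Nat.card ↥N = Nat.card X := by rw [hNtop]; exact Subgroup.card_top
  rw [hcard] at hNc
  have h4 : p ∣ Nat.gcd (Nat.card X) p := Nat.dvd_gcd hdiv dvd_rfl
  rw [hNc] at h4
  exact (Fact.out : p.Prime).one_lt.ne' (Nat.dvd_one.1 h4)

end Cfsg.Agent.H2.Iso2
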