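import Mathlib
import Cfsg.Prelude.Def_IsolatedElements
import Cfsg.Prelude.Def_Transfer
import Cfsg.Agent.S0542
import Cfsg.Agent.S1946
import Cfsg.Agent.Lib.Helper7.Isolated

/-!
# S3049 piece (Q5)
-/

set_option autoImplicit false
set_option linter.style.haveILetI false
set_option linter.unusedVariables false

namespace Cfsg.Agent.H2.Iso2

universe u
variable {G : Type u} [Group G] [Finite G] {p : ℕ} [Fact p.Prime]

/-- (Q5) if all elements of order `p` of `P ∩ K` are isolated in `K` (subnormal), `K` has a normal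
`p`-complement (via S0542 + S1946 + helper7's `isIsolated_conj_eq_of_mem_pGroup` in `↥K`). -/
theorem hasNormalPComplement_of_isolated (hp2 : p ≠ 2) (K : Subgroup G) (hK : K.IsSubnormal)
    (P : Sylow p G)
    (h : ∀ y ∈ (P : Subgroup G), y ∈ K → y ^ p = 1 →
      ∀ k ∈ K, Commute y (k * y * k⁻¹) → k * y * k⁻¹ = y) :
    Cfsg.HasNormalPComplement p ↥K := by
  classical
  obtain ⟨Q, hQ⟩ := Cfsg.Agent.S0542.result p K hK P
  refine (Cfsg.Agent.S1946.result Q).2 ?_
  intro a ha hap g hg
  have hap' : a ^ p = 1 := by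
    rcases hap with h1 | ⟨h2, -⟩
    · exact h1
    · exact absurd h2 hp2
  have haP : (a : G) ∈ (P : Subgroup G) := by
    have : a ∈ (P : Subgroup G).subgroupOf K := hQ ▸ ha
    exact Subgroup.mem_subgroupOf.1 this
  have hapG : (a : G) ^ p = 1 := by
    have := congrArg Subtype.val hap'
    simpa using this
  have hisoK : Cfsg.IsIsolated a := by
    intro k hc
    have hc' : Commute (a : G) ((k : G) * (a : G) * (k : G)⁻¹) := by
      have := congrArg Subtype.val hc.eq
      show (a : G) * _ = _ * (a : G)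
      simpa using this
    have := h (a : G) haP a.2 hapG (k : G) k.2 hc'
    apply Subtype.ext
    simpa using this
  have hconj : g * a * g⁻¹ = a :=
    Cfsg.Agent.Lib.Helper7.isIsolated_conj_eq_of_mem_pGroup hisoK (Q : Subgroup ↥K) Q.isPGroup' ha g hg
  refine ⟨1, Subgroup.one_mem _, ?_⟩
  rw [hconj]
  group

end Cfsg.Agent.H2.Iso2
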