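import Mathlib
import Cfsg.Agent.H2.WreathedOmega

/-!
# Conjugacy classes of involutions of wreathed 2-groups

(author: helper2)
-/

set_option autoImplicit false

namespace Cfsg.Agent.H2.Wreathed

open Cfsg.Agent.H2
open scoped commutatorElement

universe u

section data

variable {S : Type u} [Group S] [Finite S] (n : ℕ) (hn : 2 ≤ n)
  (hcard : Nat.card S = 2 ^ (2 * n + 1))
  (x y z : S) (hx : orderOf x = 2 ^ n) (hxy : x * y = y * x)
  (hint : Subgroup.zpowers x ⊓ Subgroup.zpowers y = ⊥)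
  (hz : orderOf z = 2) (hzx : z * x * z⁻¹ = y)

include hz hzx in
omit [Finite S] in
theorem conj_x0 : z * x ^ (2 ^ (n - 1)) * z⁻¹ = y ^ (2 ^ (n - 1)) := by
  rw [← conj_pow, hzx]

include hn hcard hx hxy hint hz hzx in
/-- classification of the involutions -/
theorem involution_cases (t : S) (ht : orderOf t = 2) :
    t = x ^ (2 ^ (n - 1)) ∨ t = y ^ (2 ^ (n - 1)) ∨ t = x ^ (2 ^ (n - 1)) * y ^ (2 ^ (n - 1)) ∨
      ∃ k : ℤ, t = z * (y * x⁻¹) ^ k := by
  have hidx := index_Mab n hcard x y z hx hxy hint hzx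
  have hzM := z_not_mem n hn x y z hx hxy hint hzx
  have htt : t * t = 1 := zz t ht
  have hzz := zz z hz
  have hc : Commute x y := hxy
  by_cases htM : t ∈ Mab x y
  · obtain ⟨i, j, rfl⟩ := mem_Mab x y hxy t htM
    have h1 : x ^ (i + i) = y ^ (-(j + j)) := by
      have h2 : Commute (y ^ j) (x ^ i) := (hc.zpow_zpow i j).symm
      have h3 : x ^ (i + i) * y ^ (j + j) = 1 := by
        calc x ^ (i + i) * y ^ (j + j) = x ^ i * (x ^ i * y ^ j) * y ^ j := by
              rw [zpow_add, zpow_add]; group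
          _ = x ^ i * (y ^ j * x ^ i) * y ^ j := by rw [h2.eq]
          _ = (x ^ i * y ^ j) * (x ^ i * y ^ j) := by group
          _ = 1 := htt
      rw [zpow_neg]
      exact eq_inv_of_mul_eq_one_left h3
    obtain ⟨h4, h5⟩ := zpow_eq_one_of_eq x y hint _ _ h1
    rw [zpow_neg, inv_eq_one] at h5
    rw [zpow_add] at h4 h5
    have hxi := sq_eq_one_zpowers n hn x hx _ (Subgroup.zpow_mem _ (Subgroup.mem_zpowers x) i) h4
    have hyj : y ^ j = 1 ∨ y ^ j = y ^ (2 ^ (n - 1)) := by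
      have h6 : (z * y ^ j * z⁻¹) * (z * y ^ j * z⁻¹) = 1 := by
        calc (z * y ^ j * z⁻¹) * (z * y ^ j * z⁻¹) = z * (y ^ j * y ^ j) * z⁻¹ := by group
          _ = 1 := by rw [h5]; group
      have h7 : z * y ^ j * z⁻¹ = x ^ j := by rw [← conj_zpow, conj_y x y z hz hzx]
      rw [h7] at h6
      have h9 : y ^ j = z⁻¹ * x ^ j * z := by rw [← h7]; group
      rcases sq_eq_one_zpowers n hn x hx _ (Subgroup.zpow_mem _ (Subgroup.mem_zpowers x) j) h6
        with h | h
      · left; rw [h9, h]; group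
      · right
        rw [h9, h, ← conj_x0 n x y z hz hzx]
        calc z⁻¹ * x ^ (2 ^ (n - 1)) * z
            = (z * z)⁻¹ * (z * x ^ (2 ^ (n - 1)) * z⁻¹) * (z * z) := by group
          _ = _ := by rw [hzz]; group
    rcases hxi with h | h <;> rcases hyj with h' | h'
    · exfalso
      rw [h, h', one_mul, orderOf_one] at ht
      omega
    · right; left; rw [h, h', one_mul]
    · left; rw [h, h', mul_one]
    · right; right; left; rw [h, h']
  · right; right; right
    have h1 : z⁻¹ * t ∈ Mab x y := IdxTwo.mem_of_not_mem _ hidx hzM htM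
    obtain ⟨i, j, hij⟩ := mem_Mab x y hxy _ h1
    have ht' : t = z * (x ^ i * y ^ j) := by rw [← hij]; group
    have h2 : (y ^ i * x ^ j) * (x ^ i * y ^ j) = 1 := by
      rw [← conj_xy x y z hz hzx]
      calc z * (x ^ i * y ^ j) * z⁻¹ * (x ^ i * y ^ j)
          = (z * (x ^ i * y ^ j)) * (z * (x ^ i * y ^ j)) * ((x ^ i * y ^ j)⁻¹ * (z * z)⁻¹ *
              (x ^ i * y ^ j)) := by group
        _ = 1 := by rw [← ht', htt, hzz]; group
    have h3 : x ^ (i + j) = y ^ (-(i + j)) := by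
      have h4 : Commute (y ^ i) (x ^ (j + i)) := (hc.zpow_zpow (j + i) i).symm
      have h5 : x ^ (i + j) * y ^ (i + j) = 1 := by
        calc x ^ (i + j) * y ^ (i + j) = x ^ (j + i) * y ^ i * y ^ j := by
              rw [add_comm i j, zpow_add y]; group
          _ = y ^ i * x ^ (j + i) * y ^ j := by rw [h4.eq]
          _ = (y ^ i * x ^ j) * (x ^ i * y ^ j) := by rw [zpow_add]; group
          _ = 1 := h2
      rw [zpow_neg]
      exact eq_inv_of_mul_eq_one_left h5
    obtain ⟨-, h6⟩ := zpow_eq_one_of_eq x y hint _ _ h3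
    rw [zpow_neg, inv_eq_one, zpow_add] at h6
    have h7 : y ^ j = (y ^ i)⁻¹ := eq_inv_of_mul_eq_one_right h6
    refine ⟨-i, ?_⟩
    have hc' : Commute y x⁻¹ := (Commute.inv_right (show Commute y x from hxy.symm))
    rw [ht', hc'.mul_zpow, h7, zpow_neg, inv_zpow, zpow_neg, inv_inv]
    have h8 : Commute (x ^ i) ((y ^ i)⁻¹) := (hc.zpow_zpow i i).inv_right
    rw [h8.eq]

include hz hzx hxy in
omit [Finite S] in
/-- the elements `z * c ^ k` are all conjugate to `z` -/
theorem conj_z (k : ℤ) : x ^ k * z * (x ^ k)⁻¹ = z * (y * x⁻¹) ^ k := by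
  have hc' : Commute y x⁻¹ := (Commute.inv_right (show Commute y x from hxy.symm))
  have h1 : z⁻¹ * x ^ k * z = y ^ k := by
    have h2 : z * y ^ k * z⁻¹ = x ^ k := by rw [← conj_zpow, conj_y x y z hz hzx]
    rw [← h2]; group
  have hzz := zz z hz
  have h3 : z * x ^ k * z⁻¹ = y ^ k := by rw [← conj_zpow, hzx]
  rw [hc'.mul_zpow, inv_zpow, ← h3]
  have h4 : z⁻¹ = z := by
    exact inv_eq_of_mul_eq_one_right hzz
  rw [h4]
  calc x ^ k * z * (x ^ k)⁻¹ = (z * z) * x ^ k * z * (x ^ k)⁻¹ := by rw [hzz, one_mul]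
    _ = z * (z * x ^ k * z * (x ^ k)⁻¹) := by group

include hn hcard hx hxy hint hz hzx in
/-- exactly three classes of involutions -/
theorem card_involution_classes :
    Nat.card {C : ConjClasses S // ∃ t : S, orderOf t = 2 ∧ ConjClasses.mk t = C} = 3 := by
  have hzM := z_not_mem n hn x y z hx hxy hint hzx
  have hidx := index_Mab n hcard x y z hx hxy hint hzx
  have hN : (Mab x y).Normal := Subgroup.normal_of_index_eq_two hidx
  have hx0 := orderOf_x0 n hn x hx
  have hy0 : orderOf (y ^ (2 ^ (n - 1))) = 2 := by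
    rw [← conj_x0 n x y z hz hzx]
    have := (MulAut.conj z).orderOf_eq (x ^ (2 ^ (n - 1)))
    simpa [hx0] using this
  have hc : Commute x y := hxy
  have hx0y0 : x ^ (2 ^ (n - 1)) * y ^ (2 ^ (n - 1)) = (x * y) ^ (2 ^ (n - 1)) := by
    rw [hc.mul_pow]
  have hcen : x ^ (2 ^ (n - 1)) * y ^ (2 ^ (n - 1)) ∈ Subgroup.center S := by
    rw [hx0y0]
    exact Subgroup.pow_mem _ (xy_mem_center n hn hcard x y z hx hxy hint hz hzx) _
  have hy0ne : y ^ (2 ^ (n - 1)) ≠ 1 := by
    intro h; rw [h, orderOf_one] at hy0; omega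
  have hx0ne : x ^ (2 ^ (n - 1)) ≠ 1 := by
    intro h; rw [h, orderOf_one] at hx0; omega
  have hx0M : x ^ (2 ^ (n - 1)) ∈ Mab x y := Subgroup.pow_mem _ (x_mem x y) _
  have hxy0 : orderOf (x ^ (2 ^ (n - 1)) * y ^ (2 ^ (n - 1))) = 2 := by
    apply orderOf_eq_prime
    · have h1 : Commute (x ^ (2 ^ (n - 1))) (y ^ (2 ^ (n - 1))) := hc.pow_pow _ _
      have ha : (x ^ (2 ^ (n - 1))) ^ 2 = 1 := by
        have := pow_orderOf_eq_one (x ^ (2 ^ (n - 1)))
        rwa [hx0] at this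
      have hb : (y ^ (2 ^ (n - 1))) ^ 2 = 1 := by
        have := pow_orderOf_eq_one (y ^ (2 ^ (n - 1)))
        rwa [hy0] at this
      rw [h1.mul_pow, ha, hb, one_mul]
    · intro h
      have h1 : x ^ (2 ^ (n - 1)) = (y ^ (2 ^ (n - 1)))⁻¹ := eq_inv_of_mul_eq_one_left h
      apply hx0ne
      apply eq_one_of_mem x y hint _ (Subgroup.pow_mem _ (Subgroup.mem_zpowers x) _)
      rw [h1]
      exact Subgroup.inv_mem _ (Subgroup.pow_mem _ (Subgroup.mem_zpowers y) _)
  rw [show {C : ConjClasses S // ∃ t : S, orderOf t = 2 ∧ ConjClasses.mk t = C} =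
    ↥{C : ConjClasses S | ∃ t : S, orderOf t = 2 ∧ ConjClasses.mk t = C} from rfl,
    Nat.card_coe_set_eq, Set.ncard_eq_three]
  refine ⟨ConjClasses.mk (x ^ (2 ^ (n - 1))),
    ConjClasses.mk (x ^ (2 ^ (n - 1)) * y ^ (2 ^ (n - 1))), ConjClasses.mk z, ?_, ?_, ?_, ?_⟩
  · intro h
    rw [ConjClasses.mk_eq_mk_iff_isConj, isConj_comm, isConj_iff] at h
    obtain ⟨g, hg⟩ := h
    rw [Subgroup.mem_center_iff.mp hcen g, mul_inv_cancel_right] at hg
    apply hy0ne
    calc y ^ (2 ^ (n - 1)) = (x ^ (2 ^ (n - 1)))⁻¹ * (x ^ (2 ^ (n - 1)) * y ^ (2 ^ (n - 1))) := by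
          group
      _ = 1 := by rw [hg]; group
  · intro h
    rw [ConjClasses.mk_eq_mk_iff_isConj, isConj_iff] at h
    obtain ⟨g, hg⟩ := h
    apply hzM
    rw [← hg]
    exact hN.conj_mem _ hx0M g
  · intro h
    rw [ConjClasses.mk_eq_mk_iff_isConj, isConj_iff] at h
    obtain ⟨g, hg⟩ := h
    apply hzM
    rw [← hg]
    exact hN.conj_mem _ (Subgroup.mul_mem _ hx0M (Subgroup.pow_mem _ (y_mem x y) _)) g
  · ext C
    simp only [Set.mem_setOf_eq, Set.mem_insert_iff, Set.mem_singleton_iff]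
    constructor
    · rintro ⟨t, ht, rfl⟩
      rcases involution_cases n hn hcard x y z hx hxy hint hz hzx t ht with h | h | h | ⟨k, h⟩
      · left; rw [h]
      · left
        rw [h, ← conj_x0 n x y z hz hzx, ConjClasses.mk_eq_mk_iff_isConj, isConj_comm, isConj_iff]
        exact ⟨z, rfl⟩
      · right; left; rw [h]
      · right; right
        rw [h, ← conj_z x y z hxy hz hzx, ConjClasses.mk_eq_mk_iff_isConj, isConj_comm,
          isConj_iff]
        exact ⟨x ^ k, rfl⟩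
    · rintro (h | h | h)
      · exact ⟨_, hx0, h.symm⟩
      · exact ⟨_, hxy0, h.symm⟩
      · exact ⟨_, hz, h.symm⟩

end data

end Cfsg.Agent.H2.Wreathed
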