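import Mathlib
import Cfsg.Agent.H2.WreathedInv
import Cfsg.Agent.H2.WreathedQuat

/-!
# Wreathed 2-groups: every non-central involution `e` is conjugate to `e ζ` (helper2)
-/

set_option autoImplicit false

namespace Cfsg.Agent.H2.Wreathed

open Cfsg.Agent.H2

universe u

section data

variable {S : Type u} [Group S] [Finite S] (n : ℕ) (hn : 2 ≤ n)
  (hcard : Nat.card S = 2 ^ (2 * n + 1))
  (x y z : S) (hx : orderOf x = 2 ^ n) (hxy : x * y = y * x)
  (hint : Subgroup.zpowers x ⊓ Subgroup.zpowers y = ⊥)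
  (hz : orderOf z = 2) (hzx : z * x * z⁻¹ = y)

include hn hcard hx hxy hint hz hzx in
/-- every non-central involution `e` is conjugate to `e ζ`, `ζ = (x y) ^ (2 ^ (n - 1))` -/
theorem inv_conj_zeta (e : S) (he : orderOf e = 2) (hec : e ∉ Subgroup.center S) :
    ∃ s₁ : S, s₁ * e * s₁⁻¹ = e * (x * y) ^ (2 ^ (n - 1)) := by
  have hc : Commute x y := hxy
  have hζ : (x * y) ^ (2 ^ (n - 1)) = x ^ (2 ^ (n - 1)) * y ^ (2 ^ (n - 1)) := hc.mul_pow _
  set x₀ := x ^ (2 ^ (n - 1)) with hx₀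
  set y₀ := y ^ (2 ^ (n - 1)) with hy₀
  have hxx : x₀ * x₀ = 1 := by
    have h1 := orderOf_x0 n hn x hx
    have := pow_orderOf_eq_one x₀
    rwa [h1, pow_two] at this
  have hcx : z * x₀ * z⁻¹ = y₀ := conj_x0 n x y z hz hzx
  have hyy : y₀ * y₀ = 1 := by
    rw [← hcx]
    calc z * x₀ * z⁻¹ * (z * x₀ * z⁻¹) = z * (x₀ * x₀) * z⁻¹ := by group
      _ = 1 := by rw [hxx]; group
  have hc0 : Commute x₀ y₀ := hc.pow_pow _ _
  have hcy : z * y₀ * z⁻¹ = x₀ := by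
    rw [← hcx]
    have hzz := zz z hz
    calc z * (z * x₀ * z⁻¹) * z⁻¹ = (z * z) * x₀ * (z * z)⁻¹ := by group
      _ = x₀ := by rw [hzz]; group
  rw [hζ]
  rcases involution_cases n hn hcard x y z hx hxy hint hz hzx e he with h1 | h1 | h1 | ⟨k, h1⟩
  · refine ⟨z, ?_⟩
    rw [h1, hcx, ← mul_assoc, hxx, one_mul]
  · refine ⟨z, ?_⟩
    rw [h1, hcy, hc0.eq, ← mul_assoc, hyy, one_mul]
  · exfalso
    apply hec
    rw [center_eq n hn hcard x y z hx hxy hint hz hzx, h1, ← hζ]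
    exact Subgroup.pow_mem _ (Subgroup.mem_zpowers _) _
  · refine ⟨x₀, ?_⟩
    have h2 := conj_z x y z hxy hz hzx ((2 ^ (n - 1) : ℕ) : ℤ)
    rw [zpow_natCast, zpow_natCast, c_pow_half n hn x y hx hxy] at h2
    have hcx' : Commute x (y * x⁻¹) := by
      have h3 : Commute x y := hc
      exact h3.mul_right (Commute.refl x).inv_right
    have hc3 : Commute x₀ ((y * x⁻¹) ^ k) := (hcx'.pow_left _).zpow_right k
    have hcy' : Commute y (y * x⁻¹) := by
      have h3 : Commute y x := hc.symm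
      exact (Commute.refl y).mul_right h3.inv_right
    have hc4 : Commute y₀ ((y * x⁻¹) ^ k) := (hcy'.pow_left _).zpow_right k
    have h5 : x₀ * (y * x⁻¹) ^ k * x₀⁻¹ = (y * x⁻¹) ^ k := by
      rw [hc3.eq, mul_inv_cancel_right]
    calc x₀ * e * x₀⁻¹ = (x₀ * z * x₀⁻¹) * (x₀ * (y * x⁻¹) ^ k * x₀⁻¹) := by rw [h1]; group
      _ = z * (y₀ * x₀) * (y * x⁻¹) ^ k := by rw [h2, h5]
      _ = z * (y * x⁻¹) ^ k * (x₀ * y₀) := by
          rw [mul_assoc z, mul_assoc z, (hc4.mul_left hc3).eq, hc0.eq]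
      _ = e * (x₀ * y₀) := by rw [h1]

end data

end Cfsg.Agent.H2.Wreathed
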