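import Mathlib
import Cfsg.Agent.H2.ZStarD
import Cfsg.Agent.H2.CenterZStarC
import Cfsg.Agent.H2.WreathedZeta
import Cfsg.Agent.H2.PPrimeCore
import Cfsg.Agent.Lib.Lead.QDGlobal

/-!
# Isolated involutions and the centre of a quasi-dihedral / wreathed Sylow 2-subgroup (helper2)
-/

set_option autoImplicit false
set_option linter.unusedSectionVars false
set_option linter.unusedVariables false

namespace Cfsg.Agent.H2.IsolatedCenter

open Cfsg

universe u

variable {X : Type u} [Group X] [Finite X]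

/-- a Sylow 2-subgroup meets `O(X)` trivially -/
theorem sylow_inf_core (S : Sylow 2 X) (a : X) (haS : a ∈ S) (haO : a ∈ Cfsg.pPrimeCore 2 X) :
    a = 1 := by
  have h1 : orderOf a ∣ Nat.card (Cfsg.pPrimeCore 2 X) := by
    have := orderOf_dvd_natCard (⟨a, haO⟩ : ↥(Cfsg.pPrimeCore 2 X))
    rwa [Subgroup.orderOf_mk] at this
  obtain ⟨k, hk⟩ := (IsPGroup.iff_orderOf.1 S.2) ⟨a, haS⟩
  rw [Subgroup.orderOf_mk] at hk
  have hcop := Cfsg.Agent.H1.pPrimeCore_coprime (G := X) 2
  have h2 : (orderOf a).Coprime 2 := Nat.Coprime.coprime_dvd_left h1 hcop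
  rw [hk] at h2
  rcases Nat.eq_zero_or_pos k with rfl | hk0
  · rw [pow_zero, orderOf_eq_one_iff] at hk; exact hk
  · exfalso
    have : (2 : ℕ) ∣ Nat.gcd (2 ^ k) 2 := Nat.dvd_gcd (dvd_pow_self 2 hk0.ne') dvd_rfl
    rw [Nat.Coprime] at h2
    rw [h2] at this
    omega

/-- an isolated involution of a Sylow 2-subgroup is central in it -/
theorem isolated_central (S : Sylow 2 X) (z : X) (hzS : z ∈ S) (hz : Cfsg.IsIsolatedInvolution z)
    (s : X) (hs : s ∈ S) : s * z = z * s := by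
  have h1 := Cfsg.Agent.H2.ZStar.zstar hz s
  have h2 : z * s * z⁻¹ * s⁻¹ ∈ S :=
    Subgroup.mul_mem _ (Subgroup.mul_mem _ (Subgroup.mul_mem _ hzS hs) (Subgroup.inv_mem _ hzS))
      (Subgroup.inv_mem _ hs)
  have h3 := sylow_inf_core S _ h2 h1
  calc s * z = (z * s * z⁻¹ * s⁻¹)⁻¹ * (z * s) := by group
    _ = z * s := by rw [h3, inv_one, one_mul]

/-- if `Z₁` is central modulo `O(X)` then `O(X) Z₁` is normal -/
theorem normal_of_comm (Z₁ : Subgroup X)
    (h : ∀ w ∈ Z₁, ∀ g : X, g * w * g⁻¹ * w⁻¹ ∈ Cfsg.pPrimeCore 2 X) :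
    (Cfsg.pPrimeCore 2 X ⊔ Z₁).Normal := by
  have hN : (Cfsg.pPrimeCore 2 X).Normal := Cfsg.Agent.H1.pPrimeCore_normal 2
  constructor
  intro a ha g
  rw [Subgroup.mem_sup_of_normal_left] at ha ⊢
  obtain ⟨b, hb, w, hw, rfl⟩ := ha
  refine ⟨g * b * g⁻¹ * (g * w * g⁻¹ * w⁻¹), ?_, w, hw, by group⟩
  exact Subgroup.mul_mem _ (hN.conj_mem b hb g) (h w hw g)

/-- the quasi-dihedral case -/
theorem qd_case (S : Sylow 2 X) (hS : Cfsg.IsQuasiDihedral (S : Subgroup X)) (z : X) (hzS : z ∈ S)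
    (hz : Cfsg.IsIsolatedInvolution z) :
    (Cfsg.oddCore X ⊔
      (Subgroup.center (S : Subgroup X)).map (S : Subgroup X).subtype).Normal := by
  obtain ⟨n, x, y, hd⟩ := Cfsg.Agent.Lead.QD.exists_dat_sub (S : Subgroup X) hS
  have hzc : z ∈ (Subgroup.center ↥(S : Subgroup X)).map (S : Subgroup X).subtype := by
    refine ⟨⟨z, hzS⟩, ?_, rfl⟩
    rw [SetLike.mem_coe, Subgroup.mem_center_iff]
    rintro ⟨s, hs⟩
    apply Subtype.ext
    exact isolated_central S z hzS hz s hs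
  have hz1 : z ≠ 1 := by
    intro h; have := hz.1; rw [h, orderOf_one] at this; omega
  have hzeq : z = Cfsg.Agent.Lead.QD.P n x (Cfsg.Agent.Lead.QD.c n) := by
    rcases Cfsg.Agent.Lead.QD.center_cases S hd z hzc with h | h
    · exact absurd h hz1
    · exact h
  apply normal_of_comm
  intro w hw g
  rcases Cfsg.Agent.Lead.QD.center_cases S hd w hw with h | h
  · rw [h]; simp
  · rw [h, ← hzeq]
    have h1 := Cfsg.Agent.H2.ZStar.zstar hz g
    have : g * z * g⁻¹ * z⁻¹ = (z * g * z⁻¹ * g⁻¹)⁻¹ := by group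
    rw [this]; exact Subgroup.inv_mem _ h1

/-- the wreathed case -/
theorem wreathed_case (S : Sylow 2 X) (hS : Cfsg.IsWreathed (S : Subgroup X)) (z : X) (hzS : z ∈ S)
    (hz : Cfsg.IsIsolatedInvolution z) :
    (Cfsg.oddCore X ⊔
      (Subgroup.center (S : Subgroup X)).map (S : Subgroup X).subtype).Normal := by
  obtain ⟨n, hn, hcard, x, y, t, hx, hxy, hint, ht, htx⟩ := hS
  have hcen := Cfsg.Agent.H2.Wreathed.center_eq n hn hcard x y t hx hxy hint ht htx
  have hNn : (Cfsg.pPrimeCore 2 X).Normal := Cfsg.Agent.H1.pPrimeCore_normal 2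
  set π := QuotientGroup.mk' (Cfsg.pPrimeCore 2 X) with hπ
  have hπs : Function.Surjective π := QuotientGroup.mk'_surjective _
  set P' : Sylow 2 (X ⧸ Cfsg.pPrimeCore 2 X) := S.mapSurjective hπs with hP'
  have hO := Cfsg.Agent.H2.pPrimeCore_quotient_eq_bot (G := X) 2
  have hker : ∀ a : X, π a = 1 ↔ a ∈ Cfsg.pPrimeCore 2 X := fun a => QuotientGroup.eq_one_iff a
  have hinj : ∀ a ∈ S, π a = 1 → a = 1 := fun a ha h => sylow_inf_core S a ha ((hker a).1 h)
  have hmemP : ∀ e, e ∈ P' ↔ ∃ s ∈ S, π s = e := by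
    intro e
    have h1 : e ∈ P' ↔ e ∈ (P' : Subgroup (X ⧸ Cfsg.pPrimeCore 2 X)) := Iff.rfl
    rw [h1, hP', Sylow.coe_mapSurjective]; exact Subgroup.mem_map
  -- the isolated involution is central in `S`
  have hzcen : (⟨z, hzS⟩ : ↥(S : Subgroup X)) ∈ Subgroup.center ↥(S : Subgroup X) := by
    rw [Subgroup.mem_center_iff]
    rintro ⟨s, hs⟩
    apply Subtype.ext
    exact isolated_central S z hzS hz s hs
  have hz1 : z ≠ 1 := by
    intro h; have := hz.1; rw [h, orderOf_one] at this; omega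
  have hzz : z * z = 1 := by
    have := pow_orderOf_eq_one z
    rwa [hz.1, pow_two] at this
  -- `ζ_S = z`
  have hζS : (x * y) ^ (2 ^ (n - 1)) = (⟨z, hzS⟩ : ↥(S : Subgroup X)) := by
    have hoxy := Cfsg.Agent.H2.Wreathed.orderOf_xy n x y t hx hxy hint htx
    have h2 : orderOf ((x * y) ^ (2 ^ (n - 1))) = 2 := by
      rw [orderOf_pow' _ (by positivity), hoxy, Nat.gcd_eq_right (pow_dvd_pow 2 (by omega))]
      obtain ⟨m, rfl⟩ : ∃ m, n = m + 1 := ⟨n - 1, by omega⟩
      rw [Nat.add_sub_cancel, pow_succ, Nat.mul_div_cancel_left _ (by positivity)]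
    apply CenterZStar.invol_unique (x * y) _ _ (Subgroup.pow_mem _ (Subgroup.mem_zpowers _) _)
      (hcen ▸ hzcen)
    · have := pow_orderOf_eq_one ((x * y) ^ (2 ^ (n - 1)))
      rwa [h2, pow_two] at this
    · intro h; rw [h, orderOf_one] at h2; omega
    · apply Subtype.ext; exact hzz
    · intro h; exact hz1 (congrArg Subtype.val h)
  have hxyc : ∀ s ∈ S, s * ((x * y : ↥(S : Subgroup X)) : X) = ((x * y : ↥(S : Subgroup X)) : X) * s := by
    intro s hs
    have h1 : x * y ∈ Subgroup.center ↥(S : Subgroup X) := by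
      rw [hcen]; exact Subgroup.mem_zpowers _
    have := Subgroup.mem_center_iff.1 h1 ⟨s, hs⟩
    exact congrArg Subtype.val this
  have hH : CenterZStar.Hyp P' (π ((x * y : ↥(S : Subgroup X)) : X)) (π z) := by
    refine ⟨?_, ?_, ?_, ?_, ?_, ?_⟩
    · rw [hmemP]; exact ⟨_, (x * y).2, rfl⟩
    · intro s' hs'
      obtain ⟨s, hs, rfl⟩ := (hmemP s').1 hs'
      rw [← map_mul, ← map_mul, hxyc s hs]
    · apply orderOf_eq_prime
      · rw [← map_pow, pow_two, hzz, map_one]
      · intro h; exact hz1 (hinj z hzS h)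
    · rw [hcen] at hzcen
      obtain ⟨k, hk⟩ := Subgroup.mem_zpowers_iff.1 hzcen
      rw [Subgroup.mem_zpowers_iff]
      refine ⟨k, ?_⟩
      rw [← map_zpow]
      congr 1
      have := congrArg Subtype.val hk
      rw [Subgroup.coe_zpow] at this
      exact this
    · intro g'
      obtain ⟨g, rfl⟩ := hπs g'
      have h1 := (hker _).2 (Cfsg.Agent.H2.ZStar.zstar hz g)
      rw [map_mul, map_mul, map_mul, map_inv, map_inv] at h1
      calc π g * π z = (π z * π g * (π z)⁻¹ * (π g)⁻¹)⁻¹ * (π z * π g) := by group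
        _ = π z * π g := by rw [h1, inv_one, one_mul]
    · intro e' he' hee he'w
      obtain ⟨e, he, rfl⟩ := (hmemP e').1 he'
      have hee' : e * e = 1 := by
        apply hinj _ (Subgroup.mul_mem _ he he)
        rw [map_mul, hee]
      have henc : (⟨e, he⟩ : ↥(S : Subgroup X)) ∉ Subgroup.center ↥(S : Subgroup X) := by
        rw [hcen]
        intro h
        apply he'w
        obtain ⟨k, hk⟩ := Subgroup.mem_zpowers_iff.1 h
        rw [Subgroup.mem_zpowers_iff]
        refine ⟨k, ?_⟩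
        rw [← map_zpow]
        congr 1
        have := congrArg Subtype.val hk
        rw [Subgroup.coe_zpow] at this
        exact this
      have he2 : orderOf (⟨e, he⟩ : ↥(S : Subgroup X)) = 2 := by
        apply orderOf_eq_prime
        · apply Subtype.ext; rw [pow_two]; exact hee'
        · intro h; apply henc; rw [h]; exact Subgroup.one_mem _
      obtain ⟨s₁, hs₁⟩ := Cfsg.Agent.H2.Wreathed.inv_conj_zeta n hn hcard x y t hx hxy hint ht htx
        ⟨e, he⟩ he2 henc
      rw [hζS] at hs₁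
      refine ⟨π s₁, (hmemP _).2 ⟨s₁, s₁.2, rfl⟩, ?_⟩
      have := congrArg Subtype.val hs₁
      simp only [Subgroup.coe_mul, Subgroup.coe_inv] at this
      rw [← map_inv, ← map_mul, ← map_mul, ← map_mul, this]
  have hcentral := hH.central hO
  apply normal_of_comm
  rintro w ⟨c, hc, rfl⟩ g
  rw [SetLike.mem_coe, hcen] at hc
  obtain ⟨k, rfl⟩ := Subgroup.mem_zpowers_iff.1 hc
  rw [← hker]
  have h1 : π (((x * y) ^ k : ↥(S : Subgroup X)) : X) ∈
      Subgroup.zpowers (π ((x * y : ↥(S : Subgroup X)) : X)) := by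
    rw [Subgroup.mem_zpowers_iff]
    refine ⟨k, ?_⟩
    rw [← map_zpow, Subgroup.coe_zpow]
  have h2 := hcentral _ h1 (π g)
  rw [Subgroup.coe_subtype, map_mul, map_mul, map_mul, map_inv, map_inv, h2]
  group

end Cfsg.Agent.H2.IsolatedCenter
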