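import Mathlib
import Cfsg.Prelude.Def_TwoFusion
import Cfsg.Agent.H2.Isolated
import Cfsg.Agent.S1184
import Cfsg.Agent.S1185

/-!
# Counting with an isolated involution (helper2)

`|G| = |C| |C_K(sz)| |C_K(s)|` for an isolated involution `z`, `C = C_G(z)`, `K` the set of
odd-order elements inverted by `z` and `s` an involution of `C`.
-/

set_option autoImplicit false

namespace Cfsg.Agent.H2.IsoCount

open Cfsg.Agent.H2

variable {G : Type*} [Group G] [Finite G]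

omit [Finite G] in
theorem invol_inv {x : G} (hx : x * x = 1) : x⁻¹ = x := inv_eq_of_mul_eq_one_left hx

/-- two elements of `K` inducing the same conjugate of `z` are equal -/
theorem K_inj {z : G} (hz : Cfsg.IsIsolatedInvolution z) {k k' : G}
    (hk : Odd (orderOf k) ∧ z * k * z⁻¹ = k⁻¹) (hk' : Odd (orderOf k') ∧ z * k' * z⁻¹ = k'⁻¹)
    (h : k * z * k⁻¹ = k' * z * k'⁻¹) : k = k' := by
  obtain ⟨u, -, hu⟩ := Cfsg.Agent.S1185.result z hz k
  have h1 : k = u := hu k ⟨hk, by rw [inv_mul_cancel]; exact Subgroup.one_mem _⟩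
  have h2 : k' = u := by
    refine hu k' ⟨hk', ?_⟩
    rw [Subgroup.mem_centralizer_singleton_iff]
    have : k⁻¹ * k' * z * (k⁻¹ * k')⁻¹ = z := by
      calc k⁻¹ * k' * z * (k⁻¹ * k')⁻¹ = k⁻¹ * (k' * z * k'⁻¹) * k := by group
        _ = z := by rw [← h]; group
    calc k⁻¹ * k' * z = (k⁻¹ * k' * z * (k⁻¹ * k')⁻¹) * (k⁻¹ * k') := by group
      _ = z * (k⁻¹ * k') := by rw [this]
  rw [h1, h2]

/-- `C_K(c) ≃ Fix_Ω(c)` for `c ∈ C_G(z)` -/
theorem card_K_eq_card_Om {z : G} (hz : Cfsg.IsIsolatedInvolution z) (c : G) (hc : Commute c z) :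
    Nat.card {k : G // Odd (orderOf k) ∧ z * k * z⁻¹ = k⁻¹ ∧ Commute k c} =
      Nat.card {ω : G // (∃ g : G, ω = g * z * g⁻¹) ∧ Commute ω c} := by
  have hwd : ∀ k : G, Commute k c → Commute (k * z * k⁻¹) c := by
    intro k hk
    exact (hk.mul_left hc.symm).mul_left hk.inv_left
  refine Nat.card_congr (Equiv.ofBijective
    (fun k => ⟨k.1 * z * k.1⁻¹, ⟨k.1, rfl⟩, hwd k.1 k.2.2.2⟩) ⟨?_, ?_⟩)
  · rintro ⟨k, hk1, hk2, hk3⟩ ⟨k', hk1', hk2', hk3'⟩ h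
    have h' : k * z * k⁻¹ = k' * z * k'⁻¹ := congrArg Subtype.val h
    exact Subtype.ext (K_inj hz ⟨hk1, hk2⟩ ⟨hk1', hk2'⟩ h')
  · rintro ⟨ω, ⟨g, rfl⟩, hω⟩
    obtain ⟨k, ⟨⟨hk1, hk2⟩, hk3⟩, -⟩ := Cfsg.Agent.S1185.result z hz g
    rw [Subgroup.mem_centralizer_singleton_iff] at hk3
    have hkz : k * z * k⁻¹ = g * z * g⁻¹ := by
      have : g⁻¹ * k * z * (g⁻¹ * k)⁻¹ = z := by
        rw [hk3]; group
      calc k * z * k⁻¹ = g * (g⁻¹ * k * z * (g⁻¹ * k)⁻¹) * g⁻¹ := by group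
        _ = g * z * g⁻¹ := by rw [this]
    have hkc : Commute k c := by
      -- `c k c⁻¹ ∈ K` induces the same conjugate
      have hck1 : Odd (orderOf (c * k * c⁻¹)) := by
        have : orderOf (c * k * c⁻¹) = orderOf k := by
          have := orderOf_injective (MulAut.conj c).toMonoidHom (MulAut.conj c).injective k
          simpa [MulAut.conj_apply] using this
        rw [this]; exact hk1
      have hck2 : z * (c * k * c⁻¹) * z⁻¹ = (c * k * c⁻¹)⁻¹ := by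
        have e1 : z * c = c * z := hc.eq.symm
        have e2 : c⁻¹ * z⁻¹ = z⁻¹ * c⁻¹ := by
          rw [← mul_inv_rev, ← mul_inv_rev, e1]
        calc z * (c * k * c⁻¹) * z⁻¹ = (z * c) * k * (c⁻¹ * z⁻¹) := by group
          _ = c * (z * k * z⁻¹) * c⁻¹ := by rw [e1, e2]; group
          _ = (c * k * c⁻¹)⁻¹ := by rw [hk2]; group
      have hck3 : c * k * c⁻¹ * z * (c * k * c⁻¹)⁻¹ = k * z * k⁻¹ := by
        have e1 : c⁻¹ * z * c = z := by
          rw [mul_assoc, ← hc.eq, ← mul_assoc, inv_mul_cancel, one_mul]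
        calc c * k * c⁻¹ * z * (c * k * c⁻¹)⁻¹ = c * (k * (c⁻¹ * z * c) * k⁻¹) * c⁻¹ := by group
          _ = c * (g * z * g⁻¹) * c⁻¹ := by rw [e1, hkz]
          _ = g * z * g⁻¹ := by
              have := hω.eq
              calc c * (g * z * g⁻¹) * c⁻¹ = (g * z * g⁻¹ * c) * c⁻¹ := by rw [this]
                _ = g * z * g⁻¹ := by group
          _ = k * z * k⁻¹ := hkz.symm
      have := K_inj hz ⟨hck1, hck2⟩ ⟨hk1, hk2⟩ hck3
      have h5 : c * k = k * c := by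
        calc c * k = (c * k * c⁻¹) * c := by group
          _ = k * c := by rw [this]
      exact h5.symm
    exact ⟨⟨k, hk1, hk2, hkc⟩, Subtype.ext hkz⟩

omit [Finite G] in
/-- `|G| = |C| |Ω|` -/
theorem card_eq_card_centralizer_mul_card_Om (z : G) :
    Nat.card G = Nat.card (Subgroup.centralizer ({z} : Set G)) *
      Nat.card {ω : G // ∃ g : G, ω = g * z * g⁻¹} := by
  rw [← Subgroup.card_mul_index (Subgroup.centralizer ({z} : Set G)), Subgroup.index]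
  congr 1
  have hwd : ∀ a b : G, QuotientGroup.leftRel (Subgroup.centralizer ({z} : Set G)) a b →
      (⟨a * z * a⁻¹, a, rfl⟩ : {ω : G // ∃ g : G, ω = g * z * g⁻¹}) = ⟨b * z * b⁻¹, b, rfl⟩ := by
    intro a b hab
    rw [QuotientGroup.leftRel_apply, Subgroup.mem_centralizer_singleton_iff] at hab
    apply Subtype.ext
    show a * z * a⁻¹ = b * z * b⁻¹
    calc a * z * a⁻¹ = a * (a⁻¹ * b * z) * b⁻¹ * (b * a⁻¹) * (a * b⁻¹) := by
          rw [hab]; group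
      _ = b * z * b⁻¹ := by group
  refine Nat.card_congr (Equiv.ofBijective
    (fun q => Quotient.liftOn' q (fun a => (⟨a * z * a⁻¹, a, rfl⟩ :
      {ω : G // ∃ g : G, ω = g * z * g⁻¹})) hwd) ⟨?_, ?_⟩)
  · intro q q' h
    induction q using Quotient.inductionOn' with | _ a =>
    induction q' using Quotient.inductionOn' with | _ b =>
    apply Quotient.sound'
    rw [QuotientGroup.leftRel_apply, Subgroup.mem_centralizer_singleton_iff]
    have h' : a * z * a⁻¹ = b * z * b⁻¹ := congrArg Subtype.val h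
    calc a⁻¹ * b * z = a⁻¹ * (b * z * b⁻¹) * b := by group
      _ = a⁻¹ * (a * z * a⁻¹) * b := by rw [h']
      _ = z * (a⁻¹ * b) := by group
  · rintro ⟨ω, g, rfl⟩
    exact ⟨Quotient.mk'' g, rfl⟩

omit [Finite G] in
theorem Om_isolated {z ω : G} (hz : Cfsg.IsIsolatedInvolution z) (hω : ∃ g : G, ω = g * z * g⁻¹) :
    Cfsg.IsIsolatedInvolution ω := by
  obtain ⟨g, rfl⟩ := hω
  exact IsIsolatedInvolution.conj hz g

omit [Finite G] in
theorem Om_conj_of {z ω μ : G} (hω : ∃ g : G, ω = g * z * g⁻¹) (hμ : ∃ g : G, μ = g * z * g⁻¹) :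
    ∃ a : G, μ = a * ω * a⁻¹ := by
  obtain ⟨g, rfl⟩ := hω
  obtain ⟨h, rfl⟩ := hμ
  exact ⟨h * g⁻¹, by group⟩

omit [Finite G] in
theorem Om_conj_mem {z ω : G} (hω : ∃ g : G, ω = g * z * g⁻¹) (a : G) :
    ∃ g : G, a * ω * a⁻¹ = g * z * g⁻¹ := by
  obtain ⟨g, rfl⟩ := hω
  exact ⟨a * g, by group⟩

/-- uniqueness of the midpoint -/
theorem mid_unique {z ω μ μ' : G} (hz : Cfsg.IsIsolatedInvolution z)
    (hω : ∃ g : G, ω = g * z * g⁻¹) (hμ : ∃ g : G, μ = g * z * g⁻¹)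
    (hμ' : ∃ g : G, μ' = g * z * g⁻¹) (h : μ * ω * μ⁻¹ = μ' * ω * μ'⁻¹) : μ = μ' := by
  by_contra hne
  have hωI := Om_isolated hz hω
  have hμμ := IsIsolatedInvolution.mul_self (Om_isolated hz hμ)
  have hμμ' := IsIsolatedInvolution.mul_self (Om_isolated hz hμ')
  obtain ⟨a, ha⟩ := Om_conj_of hω hμ
  obtain ⟨b, hb⟩ := Om_conj_of hω hμ'
  have hne' : b * ω * b⁻¹ ≠ a * ω * a⁻¹ := by
    rw [← ha, ← hb]; exact fun h => hne h.symm
  have := Cfsg.Agent.S1184.result ω hωI b a hne'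
  apply this
  rw [← ha, ← hb]
  rw [invol_inv hμμ, invol_inv hμμ'] at h
  unfold Commute SemiconjBy
  calc μ' * μ * ω = μ' * μ * ω * (μ * μ) := by rw [hμμ, mul_one]
    _ = μ' * (μ * ω * μ) * μ := by group
    _ = μ' * (μ' * ω * μ') * μ := by rw [h]
    _ = (μ' * μ') * ω * (μ' * μ) := by group
    _ = ω * (μ' * μ) := by rw [hμμ', one_mul]

/-- existence of the midpoint, which commutes with `s` -/
theorem exists_mid {z ω s : G} (hz : Cfsg.IsIsolatedInvolution z)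
    (hω : ∃ g : G, ω = g * z * g⁻¹) (hs : s * s = 1) :
    ∃ μ : G, (∃ g : G, μ = g * z * g⁻¹) ∧ Commute μ s ∧ μ * ω * μ⁻¹ = s * ω * s⁻¹ := by
  have hωI := Om_isolated hz hω
  have hωω := IsIsolatedInvolution.mul_self hωI
  obtain ⟨j, hj⟩ := IsIsolatedInvolution.exists_pow_conj hωI s
  obtain ⟨h, hh⟩ := pow_mul_isConj_of_invol (z := ω) (g := s) hωω j
  obtain ⟨R, hR⟩ : ∃ R, R = (s * ω * s⁻¹ * ω) ^ j := ⟨_, rfl⟩
  rw [← hR] at hj hh
  have hμΩ : ∃ g : G, R * ω = g * z * g⁻¹ := by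
    rw [hh]; exact Om_conj_mem hω h
  have hμω : (R * ω) * ω * (R * ω)⁻¹ = s * ω * s⁻¹ := by
    rw [← hj]; group
  have hμμ := IsIsolatedInvolution.mul_self (Om_isolated hz hμΩ)
  refine ⟨R * ω, hμΩ, ?_, hμω⟩
  have hμ'Ω : ∃ g : G, s * (R * ω) * s⁻¹ = g * z * g⁻¹ := Om_conj_mem hμΩ s
  have hs' := invol_inv hs
  have key : (s * (R * ω) * s⁻¹) * ω * (s * (R * ω) * s⁻¹)⁻¹ = (R * ω) * ω * (R * ω)⁻¹ := by
    have e1 : s⁻¹ * ω * s = (R * ω) * ω * (R * ω)⁻¹ := by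
      rw [hμω, hs']
    calc (s * (R * ω) * s⁻¹) * ω * (s * (R * ω) * s⁻¹)⁻¹
        = s * ((R * ω) * (s⁻¹ * ω * s) * (R * ω)⁻¹) * s⁻¹ := by group
      _ = s * (((R * ω) * (R * ω)) * ω * ((R * ω) * (R * ω))⁻¹) * s⁻¹ := by rw [e1]; group
      _ = s * ω * s⁻¹ := by rw [hμμ]; group
      _ = (R * ω) * ω * (R * ω)⁻¹ := hμω.symm
  have := mid_unique hz hω hμ'Ω hμΩ key
  unfold Commute SemiconjBy
  calc R * ω * s = (s * (R * ω) * s⁻¹) * s := by rw [this]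
    _ = s * (R * ω) := by group

/-- a conjugate of `z` commuting with `s` is conjugate to `z` under `C_G(s)` -/
theorem exists_conj_commute {z μ s : G} (hz : Cfsg.IsIsolatedInvolution z)
    (hμ : ∃ g : G, μ = g * z * g⁻¹) (hμs : Commute μ s) (hzs : Commute z s) :
    ∃ c : G, Commute c s ∧ μ = c * z * c⁻¹ := by
  obtain ⟨g, rfl⟩ := hμ
  obtain ⟨j, hj⟩ := IsIsolatedInvolution.exists_pow_conj hz g
  exact ⟨(g * z * g⁻¹ * z) ^ j, (hμs.mul_left hzs).pow_left j, hj.symm⟩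

omit [Finite G] in
theorem mid_iff {μ ω s : G} (hs : s * s = 1) :
    μ * ω * μ⁻¹ = s * ω * s⁻¹ ↔ Commute ω (s * μ) := by
  have hs' := invol_inv hs
  constructor
  · intro h
    have h1 : (s * μ) * ω * (s * μ)⁻¹ = ω := by
      calc (s * μ) * ω * (s * μ)⁻¹ = s * (μ * ω * μ⁻¹) * s⁻¹ := by group
        _ = (s * s) * ω * (s * s)⁻¹ := by rw [h]; group
        _ = ω := by rw [hs]; group
    unfold Commute SemiconjBy
    calc ω * (s * μ) = ((s * μ) * ω * (s * μ)⁻¹) * (s * μ) := by rw [h1]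
      _ = s * μ * ω := by group
  · intro h
    have h1 : ω * (s * μ) = s * μ * ω := h
    calc μ * ω * μ⁻¹ = s⁻¹ * (s * μ * ω) * μ⁻¹ := by group
      _ = s⁻¹ * (ω * (s * μ)) * μ⁻¹ := by rw [h1]
      _ = s⁻¹ * ω * s := by group
      _ = s * ω * s⁻¹ := by rw [hs']

theorem card_Om_eq_mul {z s : G} (hz : Cfsg.IsIsolatedInvolution z) (hs : s * s = 1)
    (hsz : Commute s z) :
    Nat.card {ω : G // ∃ g : G, ω = g * z * g⁻¹} =
      Nat.card {μ : G // (∃ g : G, μ = g * z * g⁻¹) ∧ Commute μ s} *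
      Nat.card {τ : G // (∃ g : G, τ = g * z * g⁻¹) ∧ Commute τ (s * z)} := by
  rw [← Nat.card_prod]
  symm
  have cfun : ∀ μ : {μ : G // (∃ g : G, μ = g * z * g⁻¹) ∧ Commute μ s},
      ∃ c : G, Commute c s ∧ μ.1 = c * z * c⁻¹ :=
    fun μ => exists_conj_commute hz μ.2.1 μ.2.2 hsz.symm
  choose c hc1 hc2 using cfun
  -- `s μ = c (s z) c⁻¹`
  have hsμ : ∀ μ : {μ : G // (∃ g : G, μ = g * z * g⁻¹) ∧ Commute μ s},
      s * μ.1 = c μ * (s * z) * (c μ)⁻¹ := by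
    intro μ
    rw [hc2 μ]
    have : c μ * s = s * c μ := (hc1 μ).eq
    calc s * (c μ * z * (c μ)⁻¹) = (s * c μ) * z * (c μ)⁻¹ := by group
      _ = c μ * (s * z) * (c μ)⁻¹ := by rw [← this]; group
  have hΦmem : ∀ (μ : {μ : G // (∃ g : G, μ = g * z * g⁻¹) ∧ Commute μ s})
      (τ : {τ : G // (∃ g : G, τ = g * z * g⁻¹) ∧ Commute τ (s * z)}),
      ∃ g : G, c μ * τ.1 * (c μ)⁻¹ = g * z * g⁻¹ := fun μ τ => Om_conj_mem τ.2.1 (c μ)
  have hΦmid : ∀ (μ : {μ : G // (∃ g : G, μ = g * z * g⁻¹) ∧ Commute μ s})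
      (τ : {τ : G // (∃ g : G, τ = g * z * g⁻¹) ∧ Commute τ (s * z)}),
      μ.1 * (c μ * τ.1 * (c μ)⁻¹) * μ.1⁻¹ = s * (c μ * τ.1 * (c μ)⁻¹) * s⁻¹ := by
    intro μ τ
    rw [mid_iff hs, hsμ μ]
    have h1 : τ.1 * (s * z) = s * z * τ.1 := τ.2.2.eq
    unfold Commute SemiconjBy
    calc c μ * τ.1 * (c μ)⁻¹ * (c μ * (s * z) * (c μ)⁻¹)
        = c μ * (τ.1 * (s * z)) * (c μ)⁻¹ := by group
      _ = c μ * (s * z * τ.1) * (c μ)⁻¹ := by rw [h1]
      _ = c μ * (s * z) * (c μ)⁻¹ * (c μ * τ.1 * (c μ)⁻¹) := by group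
  refine Nat.card_congr (Equiv.ofBijective
    (fun x => (⟨c x.1 * x.2.1 * (c x.1)⁻¹, hΦmem x.1 x.2⟩ :
      {ω : G // ∃ g : G, ω = g * z * g⁻¹})) ⟨?_, ?_⟩)
  · rintro ⟨μ, τ⟩ ⟨μ', τ'⟩ h
    have hω : c μ * τ.1 * (c μ)⁻¹ = c μ' * τ'.1 * (c μ')⁻¹ := congrArg Subtype.val h
    have h1 := hΦmid μ τ
    have h2 := hΦmid μ' τ'
    rw [← hω] at h2
    have hμ : μ = μ' := by
      apply Subtype.ext
      exact mid_unique hz (hΦmem μ τ) μ.2.1 μ'.2.1 (h1.trans h2.symm)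
    subst hμ
    have hτ : τ = τ' := by
      apply Subtype.ext
      have := mul_right_cancel hω
      exact mul_left_cancel this
    rw [hτ]
  · rintro ⟨ω, hω⟩
    obtain ⟨μ, hμΩ, hμs, hμω⟩ := exists_mid hz hω hs
    let μF : {μ : G // (∃ g : G, μ = g * z * g⁻¹) ∧ Commute μ s} := ⟨μ, hμΩ, hμs⟩
    have hτΩ : ∃ g : G, (c μF)⁻¹ * ω * c μF = g * z * g⁻¹ := by
      have := Om_conj_mem hω (c μF)⁻¹
      rwa [inv_inv] at this
    have hτc : Commute ((c μF)⁻¹ * ω * c μF) (s * z) := by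
      have h1 : Commute ω (s * μ) := (mid_iff hs).mp hμω
      have h2 : s * μ = c μF * (s * z) * (c μF)⁻¹ := hsμ μF
      rw [h2] at h1
      have h3 : ω * (c μF * (s * z) * (c μF)⁻¹) = c μF * (s * z) * (c μF)⁻¹ * ω := h1
      unfold Commute SemiconjBy
      calc (c μF)⁻¹ * ω * c μF * (s * z)
          = (c μF)⁻¹ * (ω * (c μF * (s * z) * (c μF)⁻¹)) * c μF := by group
        _ = (c μF)⁻¹ * (c μF * (s * z) * (c μF)⁻¹ * ω) * c μF := by rw [h3]
        _ = s * z * ((c μF)⁻¹ * ω * c μF) := by group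
    refine ⟨(μF, ⟨(c μF)⁻¹ * ω * c μF, hτΩ, hτc⟩), ?_⟩
    apply Subtype.ext
    show c μF * ((c μF)⁻¹ * ω * c μF) * (c μF)⁻¹ = ω
    group

/-- the order formula -/
theorem card_eq {z s : G} (hz : Cfsg.IsIsolatedInvolution z) (hs : s * s = 1)
    (hsz : Commute s z) :
    Nat.card G = Nat.card (Subgroup.centralizer ({z} : Set G)) *
      Nat.card {k : G // Odd (orderOf k) ∧ z * k * z⁻¹ = k⁻¹ ∧ Commute k (s * z)} *
      Nat.card {k : G // Odd (orderOf k) ∧ z * k * z⁻¹ = k⁻¹ ∧ Commute k s} := by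
  have hzz := IsIsolatedInvolution.mul_self hz
  have h1 := card_K_eq_card_Om hz s hsz
  have h2 := card_K_eq_card_Om hz (s * z) (hsz.mul_left (Commute.refl z))
  rw [card_eq_card_centralizer_mul_card_Om z, card_Om_eq_mul hz hs hsz, h1, h2]
  ring

end Cfsg.Agent.H2.IsoCount
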