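import Mathlib
import Cfsg.Prelude.Def_Blocks
import Cfsg.Prelude.Def_BlockRank
import Cfsg.Agent.Lib.helper3.BlockSection2

/-!
# Brauer's count of the characters of a block by subsections, trivial section split off
-/

set_option autoImplicit false
set_option linter.style.haveILetI false
set_option linter.unusedSectionVars false

namespace Cfsg.Agent.H2.KB

open Cfsg Module Cfsg.Agent.Lib.helper3.CharBasic Cfsg.Agent.Lib.helper3.Irr
open Cfsg.Agent.Lib.helper3.Central Cfsg.Agent.Lib.helper3.LocalM Cfsg.Agent.Lib.helper3.IndFun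
open Cfsg.Agent.Lib.helper3.Lin Cfsg.Agent.Lib.helper3.HallNilp Cfsg.Agent.Lib.helper3.Block
open scoped ComplexConjugate

universe u

variable {G : Type u} [Group G] [Fintype G] {M : Ideal AlgInt}

open Classical in
/-- The sum over the `p`-regular elements of `∑_{ζ ∈ B} |ζ g|²` is `|G| l(B)`. -/
theorem sum_regular_sq {p : ℕ} [hpf : Fact p.Prime] (hM : IsPModular p M)
    (B : Set (IrrCharacter G)) (hB : IsPBlock M B) :
    ∑ g : G, (if p ∣ orderOf g then (0 : ℂ) else ∑ ζ : IrrCharacter G,
        (if ζ ∈ B then (1 : ℂ) else 0) * ((ζ : G → ℂ) g * conj ((ζ : G → ℂ) g)))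
      = (Nat.card G : ℂ) * (blockRank p B : ℂ) := by
  rw [Cfsg.Agent.S4667.result p M hM B hB]
  apply Finset.sum_congr rfl
  intro y _
  rw [finsum_mem_set_eq_sum_ite]
  by_cases hy : p ∣ orderOf y
  · rw [if_pos hy]
    symm
    apply Finset.sum_eq_zero
    intro ψ _
    rw [pRegularPart_eq_truncReg, truncReg_apply, if_pos hy, zero_mul, zero_mul, mul_zero]
  · rw [if_neg hy]
    apply Finset.sum_congr rfl
    intro ψ _
    rw [pRegularPart_eq_truncReg, truncReg_apply, if_neg hy, one_mul,
      isCharacter_apply_inv (isCharacter_of_isIrrCharacter ψ.2)]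

open Classical in
/-- **Brauer's formula with the trivial section split off.** -/
theorem card_block_eq_blockRank_add_sum {p : ℕ} [hpf : Fact p.Prime] (hM : IsPModular p M)
    (B : Set (IrrCharacter G)) (hB : IsPBlock M B) (X : Finset G)
    (hX : ∀ x ∈ X, ∃ k : ℕ, orderOf x = p ^ k)
    (hXrep : ∀ g : G, (∃ k : ℕ, orderOf g = p ^ k) → ∃! x, x ∈ X ∧ IsConj g x) :
    (Nat.card B : ℂ) = (blockRank p B : ℂ) + ∑ x ∈ X.filter (fun x => x ≠ 1),
      ∑ᶠ b ∈ {b : Set (IrrCharacter (Subgroup.centralizer ({x} : Set G))) |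
        IsInducedBlock M (Subgroup.centralizer ({x} : Set G)) b B}, (blockRank p b : ℂ) := by
  haveI hMp := isPrime_of_isPModular hM
  have hMtop : M ≠ ⊤ := hM.2.1.ne_top
  have hG0 : (Nat.card G : ℂ) ≠ 0 := card_ne_zero_complex G
  obtain ⟨F, hF⟩ : ∃ F : G → ℂ, F = fun g => ∑ ζ : IrrCharacter G,
      (if ζ ∈ B then (1 : ℂ) else 0) * ((ζ : G → ℂ) g * conj ((ζ : G → ℂ) g)) := ⟨_, rfl⟩
  have hFapp : ∀ g, F g = ∑ ζ : IrrCharacter G,
      (if ζ ∈ B then (1 : ℂ) else 0) * ((ζ : G → ℂ) g * conj ((ζ : G → ℂ) g)) :=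
    fun g => by rw [hF]
  have hFcl : ∀ g t : G, F (t * g * t⁻¹) = F g := by
    intro g t
    rw [hFapp, hFapp]
    apply Finset.sum_congr rfl
    intro ζ _
    rw [isClassFunction_of_isCharacter (isCharacter_of_isIrrCharacter ζ.2) g t]
  have hsumF : ∑ g : G, F g = (Nat.card G : ℂ) * (Nat.card B : ℂ) := by
    simp_rw [hFapp]
    rw [Finset.sum_comm]
    have h1 : ∀ ζ : IrrCharacter G, ∑ g : G, (if ζ ∈ B then (1 : ℂ) else 0)
        * ((ζ : G → ℂ) g * conj ((ζ : G → ℂ) g))
        = (if ζ ∈ B then (1 : ℂ) else 0) * (Nat.card G : ℂ) := by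
      intro ζ
      rw [← Finset.mul_sum, sum_irr_mul_conj_eq, if_pos rfl]
    rw [Finset.sum_congr rfl (fun ζ _ => h1 ζ), ← Finset.sum_mul, mul_comm]
    congr 1
    rw [Finset.sum_ite, Finset.sum_const_zero, add_zero, Finset.sum_const, nsmul_eq_mul, mul_one,
      Nat.card_eq_fintype_card, Fintype.card_subtype]
  have hsec := sum_eq_sum_sections hpf.out X hX hXrep F hFcl
  rw [hsumF] at hsec
  have hx : ∀ x ∈ X, ((Subgroup.centralizer ({x} : Set G)).index : ℂ)
      * ∑ y : Subgroup.centralizer ({x} : Set G), (if p ∣ orderOf y then 0 else F (x * (y : G)))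
      = (Nat.card G : ℂ) * ∑ᶠ b ∈ {b : Set (IrrCharacter (Subgroup.centralizer ({x} : Set G))) |
        IsInducedBlock M (Subgroup.centralizer ({x} : Set G)) b B}, (blockRank p b : ℂ) := by
    intro x hxX
    obtain ⟨k, hk⟩ := hX x hxX
    have h1 : ∑ y : Subgroup.centralizer ({x} : Set G),
        (if p ∣ orderOf y then 0 else F (x * (y : G)))
        = ∑ y : Subgroup.centralizer ({x} : Set G), (if p ∣ orderOf y then (0 : ℂ) else
          ∑ ψ : IrrCharacter (Subgroup.centralizer ({x} : Set G)),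
            (if ψ ∈ secSet M x B then (1 : ℂ) else 0)
              * ((ψ : Subgroup.centralizer ({x} : Set G) → ℂ) y
                * conj ((ψ : Subgroup.centralizer ({x} : Set G) → ℂ) y))) := by
      apply Finset.sum_congr rfl
      intro y _
      by_cases hy : p ∣ orderOf y
      · rw [if_pos hy, if_pos hy]
      · rw [if_neg hy, if_neg hy, hFapp]
        exact sum_block_section_sq hM x k hk B hB y hy
    rw [h1, sum_secSet_sq hM x B, ← mul_assoc]
    congr 1
    have := Subgroup.card_mul_index (Subgroup.centralizer ({x} : Set G))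
    rw [mul_comm]
    exact_mod_cast this
  -- the trivial section
  have h1X : (1 : G) ∈ X := by
    obtain ⟨x, ⟨hxX, hconj⟩, -⟩ := hXrep 1 ⟨0, by rw [orderOf_one, pow_zero]⟩
    have : x = 1 := by
      rw [isConj_iff] at hconj
      obtain ⟨c, hc⟩ := hconj
      rw [← hc]
      group
    rwa [this] at hxX
  have hone : ((Subgroup.centralizer ({(1 : G)} : Set G)).index : ℂ)
      * ∑ y : Subgroup.centralizer ({(1 : G)} : Set G),
        (if p ∣ orderOf y then 0 else F (1 * (y : G)))
      = (Nat.card G : ℂ) * (blockRank p B : ℂ) := by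
    have htop : Subgroup.centralizer ({(1 : G)} : Set G) = ⊤ := by
      rw [eq_top_iff]
      intro g _
      rw [Subgroup.mem_centralizer_singleton_iff, one_mul, mul_one]
    have hidx : (Subgroup.centralizer ({(1 : G)} : Set G)).index = 1 := by
      rw [htop, Subgroup.index_top]
    rw [hidx, Nat.cast_one, one_mul, ← sum_regular_sq hM B hB]
    have hmem : ∀ g : G, g ∈ (Finset.univ : Finset G)
        ↔ g ∈ Subgroup.centralizer ({(1 : G)} : Set G) := by
      intro g
      rw [htop]
      simp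
    rw [Finset.sum_subtype Finset.univ hmem]
    apply Finset.sum_congr rfl
    intro y _
    rw [one_mul, Subgroup.orderOf_coe, hFapp]
  have hsplit : X = insert 1 (X.filter (fun x => x ≠ 1)) := by
    ext x
    rw [Finset.mem_insert, Finset.mem_filter]
    constructor
    · intro hx'
      by_cases h : x = 1
      · exact Or.inl h
      · exact Or.inr ⟨hx', h⟩
    · rintro (h | h)
      · rw [h]; exact h1X
      · exact h.1
  have hnot : (1 : G) ∉ X.filter (fun x => x ≠ 1) := by
    rw [Finset.mem_filter]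
    exact fun h => h.2 rfl
  rw [hsplit, Finset.sum_insert hnot, hone] at hsec
  have hx' : ∀ x ∈ X.filter (fun x => x ≠ 1), ((Subgroup.centralizer ({x} : Set G)).index : ℂ)
      * ∑ y : Subgroup.centralizer ({x} : Set G), (if p ∣ orderOf y then 0 else F (x * (y : G)))
      = (Nat.card G : ℂ) * ∑ᶠ b ∈ {b : Set (IrrCharacter (Subgroup.centralizer ({x} : Set G))) |
        IsInducedBlock M (Subgroup.centralizer ({x} : Set G)) b B}, (blockRank p b : ℂ) := by
    intro x hx'
    exact hx x (Finset.mem_filter.mp hx').1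
  rw [Finset.sum_congr rfl hx', ← Finset.mul_sum, ← mul_add] at hsec
  exact mul_left_cancel₀ hG0 hsec

end Cfsg.Agent.H2.KB
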