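import Mathlib
import Cfsg.Agent.H1.CentralizerIndexBound
import Cfsg.Agent.H1.NormalRankThree
import Cfsg.Agent.H1.Card
import Cfsg.Agent.H2.CyclicDerivedRegular

/-!
# A `p`-group (`p` odd) with an elementary abelian subgroup of order `p^4` has a normal one
(helper2; uses helper1's Alperin theorem)
-/

set_option autoImplicit false
set_option linter.unusedVariables false
set_option linter.style.haveILetI false
set_option linter.unusedSimpArgs false
set_option linter.unusedSectionVars false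

namespace Cfsg.Agent.H2.KJ4

open Cfsg.Agent.H1
open scoped commutatorElement Pointwise

variable {G : Type*} [Group G] [Finite G] {p : ℕ} [Fact p.Prime]

/-- elementary abelian, elementwise form -/
def EA (p : ℕ) (A : Subgroup G) : Prop :=
  (∀ a ∈ A, ∀ b ∈ A, a * b = b * a) ∧ ∀ a ∈ A, a ^ p = 1

theorem EA.mono {A B : Subgroup G} (h : EA p A) (hBA : B ≤ A) : EA p B :=
  ⟨fun a ha b hb => h.1 a (hBA ha) b (hBA hb), fun a ha => h.2 a (hBA ha)⟩

theorem exists_normal_card (hG : IsPGroup p G) :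
    ∀ (n : ℕ) (A : Subgroup G), A.Normal → Nat.card A = p ^ n → ∀ k ≤ n,
      ∃ B : Subgroup G, B ≤ A ∧ B.Normal ∧ Nat.card B = p ^ k := by
  have hp : p.Prime := Fact.out
  intro n
  induction n with
  | zero =>
    intro A hA hc k hk
    have : k = 0 := by omega
    subst this
    exact ⟨A, le_rfl, hA, hc⟩
  | succ n ih =>
    intro A hA hc k hk
    rcases Nat.eq_or_lt_of_le hk with rfl | hlt
    · exact ⟨A, le_rfl, hA, hc⟩
    · haveI := hA
      have hAne : A ≠ ⊥ := by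
        intro h
        rw [h, Subgroup.card_bot] at hc
        have : 1 < p ^ (n + 1) := Nat.one_lt_pow (by omega) hp.one_lt
        omega
      obtain ⟨B, x, hBn, hBA, -, -, -, -, hcard⟩ := exists_normal_index_p_le hG A hAne
      have hB : Nat.card B = p ^ n := by
        rw [hc, pow_succ'] at hcard
        exact (Nat.eq_of_mul_eq_mul_left hp.pos hcard).symm
      obtain ⟨B', hB'B, hB'n, hB'c⟩ := ih B hBn hB k (by omega)
      exact ⟨B', hB'B.trans hBA, hB'n, hB'c⟩

/-- conjugate subgroup -/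
def cj (g : G) (E : Subgroup G) : Subgroup G := E.map (MulAut.conj g).toMonoidHom

theorem mem_cj {g x : G} {E : Subgroup G} : x ∈ cj g E ↔ ∃ y ∈ E, g * y * g⁻¹ = x := by
  unfold cj
  rw [Subgroup.mem_map]
  rfl

theorem card_cj (g : G) (E : Subgroup G) : Nat.card (cj g E) = Nat.card E :=
  Subgroup.card_map_of_injective (MulAut.conj g).injective

theorem EA.cj {E : Subgroup G} (h : EA p E) (g : G) : EA p (cj g E) := by
  constructor
  · intro a ha b hb
    obtain ⟨a', ha', rfl⟩ := mem_cj.1 ha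
    obtain ⟨b', hb', rfl⟩ := mem_cj.1 hb
    have := h.1 a' ha' b' hb'
    calc g * a' * g⁻¹ * (g * b' * g⁻¹) = g * (a' * b') * g⁻¹ := by group
      _ = g * (b' * a') * g⁻¹ := by rw [this]
      _ = g * b' * g⁻¹ * (g * a' * g⁻¹) := by group
  · intro a ha
    obtain ⟨a', ha', rfl⟩ := mem_cj.1 ha
    rw [conj_pow, h.2 a' ha']; group

theorem le_cj_of_normal {g : G} {N E : Subgroup G} [hN : N.Normal] (h : N ≤ E) : N ≤ cj g E := by
  intro a ha
  refine mem_cj.2 ⟨g⁻¹ * a * g, h ?_, by group⟩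
  have := hN.conj_mem a ha g⁻¹
  simpa using this

theorem cj_le_of_normal {g : G} {N E : Subgroup G} [hN : N.Normal] (h : E ≤ N) : cj g E ≤ N := by
  intro a ha
  obtain ⟨a', ha', rfl⟩ := mem_cj.1 ha
  exact hN.conj_mem a' (h ha') g

/-- the product of two elementary abelian subgroups normalizing each other has exponent `p`
(`p` odd) -/
theorem pow_eq_one_of_mem_sup (hp2 : p ≠ 2) {E E₁ : Subgroup G} (hE : EA p E) (hE₁ : EA p E₁)
    (h1 : E ≤ Subgroup.normalizer (E₁ : Set G)) (h2 : E₁ ≤ Subgroup.normalizer (E : Set G))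
    {m : G} (hm : m ∈ E ⊔ E₁) : m ^ p = 1 := by
  have hp : p.Prime := Fact.out
  have hm' : m ∈ ((E ⊔ E₁ : Subgroup G) : Set G) := hm
  rw [Subgroup.coe_mul_of_left_le_normalizer_right E E₁ h1] at hm'
  obtain ⟨u, hu, v, hv, rfl⟩ := Set.mem_mul.1 hm'
  have hcE : ⁅v, u⁆ ∈ E := by
    rw [commutatorElement_def]
    have := (Subgroup.mem_normalizer_iff.1 (h2 hv) u).1 hu
    exact E.mul_mem this (E.inv_mem hu)
  have hcE₁ : ⁅v, u⁆ ∈ E₁ := by
    rw [commutatorElement_def]
    have := (Subgroup.mem_normalizer_iff.1 (h1 hu) v⁻¹).1 (E₁.inv_mem hv)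
    have e : v * u * v⁻¹ * u⁻¹ = v * (u * v⁻¹ * u⁻¹) := by group
    rw [e]
    exact E₁.mul_mem hv this
  have c1 : Commute ⁅v, u⁆ u := hE.1 _ hcE _ hu
  have c2 : Commute ⁅v, u⁆ v := hE₁.1 _ hcE₁ _ hv
  rw [Cfsg.Agent.H2.CycDer.mul_pow_of_commute_commutator u v c1 c2 p, hE.2 u hu, hE₁.2 v hv,
    one_mul, one_mul]
  have hp3 : 2 < p := by
    have := hp.two_le
    omega
  obtain ⟨j, hj⟩ := hp.dvd_choose_self (k := 2) (by norm_num) hp3
  rw [hj, pow_mul, hE.2 _ hcE, one_pow]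

theorem key (hp2 : p ≠ 2) (hG : IsPGroup p G)
    (A A₂ : Subgroup G) [hAn : A.Normal] [hA₂n : A₂.Normal]
    (hAea : EA p A) (hAc : Nat.card A = p ^ 3) (hA₂c : Nat.card A₂ = p ^ 2)
    (halp : ∀ x ∈ Subgroup.centralizer (A : Set G), x ^ p = 1 → x ∈ A)
    (a : G) (haA : a ∈ A) (hAsup : A = A₂ ⊔ Subgroup.zpowers a)
    (hacomm : ∀ g : G, a * g * a⁻¹ * g⁻¹ ∈ A₂)
    (E : Subgroup G) (hA₂E : A₂ ≤ E) (hEC₂ : E ≤ Subgroup.centralizer (A₂ : Set G))
    (hEea : EA p E) (hEc : Nat.card E = p ^ 4) : E.Normal := by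
  classical
  have hp : p.Prime := Fact.out
  by_contra hEn
  haveI : Group.IsNilpotent G := hG.isNilpotent
  have hN : Subgroup.normalizer (E : Set G) < ⊤ := by
    rw [lt_top_iff_ne_top]
    intro h
    exact hEn (Subgroup.normalizer_eq_top_iff.1 h)
  have hNN := Group.normalizerCondition_of_isNilpotent _ hN
  obtain ⟨g, hgNN, hgN⟩ := SetLike.exists_of_lt hNN
  obtain ⟨N, hNdef⟩ : ∃ N : Subgroup G, N = Subgroup.normalizer (E : Set G) := ⟨_, rfl⟩
  rw [← hNdef] at hgNN hgN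
  obtain ⟨E₁, hE₁def⟩ : ∃ E₁ : Subgroup G, E₁ = cj g E := ⟨_, rfl⟩
  have hEN : E ≤ N := hNdef ▸ Subgroup.le_normalizer
  have hE₁N : E₁ ≤ N := by
    intro x hx
    rw [hE₁def] at hx
    obtain ⟨y, hy, rfl⟩ := mem_cj.1 hx
    exact (Subgroup.mem_normalizer_iff.1 hgNN y).1 (hEN hy)
  have hNE₁ : N ≤ Subgroup.normalizer (E₁ : Set G) := by
    have hsub : ∀ n ∈ N, ∀ h ∈ E₁, n * h * n⁻¹ ∈ E₁ := by
      intro n hn h hh
      rw [hE₁def] at hh ⊢
      obtain ⟨y, hy, rfl⟩ := mem_cj.1 hh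
      have hgi : g⁻¹ ∈ Subgroup.normalizer (N : Set G) := Subgroup.inv_mem _ hgNN
      have hm : g⁻¹ * n * g ∈ N := by
        have := (Subgroup.mem_normalizer_iff.1 hgi n).1 hn
        simpa using this
      have hm' : g⁻¹ * n * g ∈ Subgroup.normalizer (E : Set G) := hNdef ▸ hm
      have hy' : (g⁻¹ * n * g) * y * (g⁻¹ * n * g)⁻¹ ∈ E :=
        (Subgroup.mem_normalizer_iff.1 hm' y).1 hy
      exact mem_cj.2 ⟨_, hy', by group⟩
    intro n hn
    rw [Subgroup.mem_normalizer_iff]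
    intro h
    constructor
    · exact hsub n hn h
    · intro hh
      have := hsub n⁻¹ (N.inv_mem hn) _ hh
      have e : n⁻¹ * (n * h * n⁻¹) * n⁻¹⁻¹ = h := by group
      rw [e] at this
      exact this
  have h1 : E ≤ Subgroup.normalizer (E₁ : Set G) := hEN.trans hNE₁
  have h2 : E₁ ≤ Subgroup.normalizer (E : Set G) := hNdef ▸ hE₁N
  have hE₁ea : EA p E₁ := hE₁def ▸ hEea.cj g
  have hE₁c : Nat.card E₁ = p ^ 4 := by rw [hE₁def, card_cj, hEc]
  have hA₂E₁ : A₂ ≤ E₁ := hE₁def ▸ le_cj_of_normal hA₂E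
  have hE₁C₂ : E₁ ≤ Subgroup.centralizer (A₂ : Set G) := hE₁def ▸ cj_le_of_normal hEC₂
  have hne : E₁ ≠ E := by
    intro heq
    apply hgN
    rw [hNdef, Subgroup.mem_normalizer_iff]
    intro h
    constructor
    · intro hh
      rw [← heq, hE₁def]
      exact mem_cj.2 ⟨h, hh, rfl⟩
    · intro hh
      rw [← heq, hE₁def] at hh
      obtain ⟨y, hy, hyh⟩ := mem_cj.1 hh
      have : y = h := by
        have := mul_right_cancel hyh
        exact mul_left_cancel this
      rw [← this]; exact hy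
  obtain ⟨D, hDdef⟩ : ∃ D : Subgroup G, D = E ⊓ E₁ := ⟨_, rfl⟩
  obtain ⟨M, hMdef⟩ : ∃ M : Subgroup G, M = E ⊔ E₁ := ⟨_, rfl⟩
  have hcardMD : Nat.card M * Nat.card D = p ^ 4 * p ^ 4 := by
    have := card_sup_mul_card_inf E E₁ h1
    rw [hEc, hE₁c, ← hMdef, ← hDdef] at this
    exact this
  have hMexp : ∀ m ∈ M, m ^ p = 1 := fun m hm =>
    pow_eq_one_of_mem_sup hp2 hEea hE₁ea h1 h2 (hMdef ▸ hm)
  have hMC₂ : M ≤ Subgroup.centralizer (A₂ : Set G) := hMdef ▸ sup_le hEC₂ hE₁C₂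
  have hDE : D ≤ E := hDdef ▸ inf_le_left
  have hDE₁ : D ≤ E₁ := hDdef ▸ inf_le_right
  obtain ⟨j, hj⟩ := IsPGroup.iff_card.1 (hG.to_subgroup D)
  have hj3 : j ≤ 3 := by
    by_contra hcon
    push Not at hcon
    have hDeqE : D = E := by
      apply Subgroup.eq_of_le_of_card_ge hDE
      rw [hEc, hj]
      exact Nat.pow_le_pow_right hp.pos hcon
    have hEE₁ : E ≤ E₁ := by rw [← hDeqE]; exact hDE₁
    apply hne
    exact (Subgroup.eq_of_le_of_card_ge hEE₁ (by rw [hE₁c, hEc])).symm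
  obtain ⟨K, hKdef⟩ : ∃ K : Subgroup G, K = M ⊓ Subgroup.centralizer ({a} : Set G) := ⟨_, rfl⟩
  have hKM : K ≤ M := hKdef ▸ inf_le_left
  have hKA : K ≤ A := by
    intro x hx
    rw [hKdef] at hx
    obtain ⟨hxM, hxa⟩ := Subgroup.mem_inf.1 hx
    apply halp x _ (hMexp x hxM)
    have hle : A ≤ Subgroup.centralizer ({x} : Set G) := by
      rw [hAsup]
      apply sup_le
      · intro y hy
        rw [Subgroup.mem_centralizer_singleton_iff]
        have := Subgroup.mem_centralizer_iff.1 (hMC₂ hxM) y hy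
        exact this
      · rw [Subgroup.zpowers_le, Subgroup.mem_centralizer_singleton_iff]
        have := Subgroup.mem_centralizer_singleton_iff.1 hxa
        exact this.symm
    rw [Subgroup.mem_centralizer_iff]
    intro y hy
    have := Subgroup.mem_centralizer_singleton_iff.1 (hle hy)
    exact this
  have hrel : K.relIndex M ≤ p ^ 2 := by
    have := relIndex_centralizer_le_card M A₂ a (fun b _ => by
      have h := hacomm b
      have e : b * a * b⁻¹ * a⁻¹ = (a * b * a⁻¹ * b⁻¹)⁻¹ := by group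
      rw [e]; exact A₂.inv_mem h)
    rw [hA₂c, ← hKdef] at this
    exact this
  have hcardM : Nat.card M = K.relIndex M * Nat.card K := card_eq_relIndex_mul_card hKM
  obtain ⟨mm, hmm⟩ := IsPGroup.iff_card.1 (hG.to_subgroup M)
  obtain ⟨kq, hkq⟩ := IsPGroup.iff_card.1 (hG.to_subgroup K)
  have hkq3 : kq ≤ 3 := by
    have := Subgroup.card_le_of_le hKA
    rw [hkq, hAc] at this
    exact (Nat.pow_le_pow_iff_right hp.one_lt).1 this
  have hsum : mm + j = 8 := by
    rw [hmm, hj, ← pow_add, ← pow_add] at hcardMD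
    exact Nat.pow_right_injective hp.two_le hcardMD
  have hmm5 : mm ≤ 2 + kq := by
    have : p ^ mm ≤ p ^ 2 * p ^ kq := by
      rw [← hmm, ← hkq, hcardM]
      exact Nat.mul_le_mul_right _ hrel
    rw [← pow_add] at this
    exact (Nat.pow_le_pow_iff_right hp.one_lt).1 this
  have hkq' : kq = 3 := by omega
  have hj' : j = 3 := by omega
  have hKeqA : K = A := Subgroup.eq_of_le_of_card_ge hKA (by rw [hAc, hkq, hkq'])
  have hAM : A ≤ M := by rw [← hKeqA]; exact hKM
  have hDA : D ≤ A := by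
    intro d hd
    have hdE := hDE hd
    have hdE₁ := hDE₁ hd
    apply halp d _ (hEea.2 d hdE)
    rw [Subgroup.mem_centralizer_iff]
    intro y hy
    have hyM : y ∈ ((E ⊔ E₁ : Subgroup G) : Set G) := hMdef ▸ hAM hy
    rw [Subgroup.coe_mul_of_left_le_normalizer_right E E₁ h1] at hyM
    obtain ⟨u, hu, v, hv, rfl⟩ := Set.mem_mul.1 hyM
    have c1 := hEea.1 u hu d hdE
    have c2 := hE₁ea.1 v hv d hdE₁
    calc u * v * d = u * (v * d) := by group
      _ = u * (d * v) := by rw [c2]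
      _ = (u * d) * v := by group
      _ = (d * u) * v := by rw [c1]
      _ = d * (u * v) := by group
  have hDeqA : D = A := Subgroup.eq_of_le_of_card_ge hDA (by rw [hAc, hj, hj'])
  have hAE : A ≤ E := by rw [← hDeqA]; exact hDE
  have hEA : E ≤ A := by
    intro x hx
    apply halp x _ (hEea.2 x hx)
    rw [Subgroup.mem_centralizer_iff]
    intro y hy
    exact hEea.1 y (hAE hy) x hx
  have h3 := Subgroup.card_le_of_le hEA
  rw [hEc, hAc] at h3
  have h4 : p ^ 3 < p ^ 4 := Nat.pow_lt_pow_right hp.one_lt (by norm_num)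
  omega

theorem main (hp2 : p ≠ 2) (hG : IsPGroup p G) (E₀ : Subgroup G) (hE₀ : EA p E₀)
    (hE₀4 : Nat.card E₀ = p ^ 4) :
    ∃ A : Subgroup G, A.Normal ∧ EA p A ∧ Nat.card A = p ^ 4 := by
  classical
  have hp : p.Prime := Fact.out
  by_contra hno
  push Not at hno
  obtain ⟨A₃, hA₃n, hA₃ea, hA₃c⟩ :
      ∃ A₃ : Subgroup G, A₃.Normal ∧ EA p A₃ ∧ Nat.card A₃ = p ^ 3 := by
    by_contra hcon
    push Not at hcon
    have h1 := p_rank_le_two_of_no_normal_rank_three' hp2 hG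
      (fun A hAn hAc hAe hcard => hcon A hAn
        ⟨fun a ha b hb => congrArg Subtype.val (hAc.is_comm.comm (⟨a, ha⟩ : A) ⟨b, hb⟩), hAe⟩
        hcard)
      E₀ ⟨⟨fun a b => Subtype.ext (hE₀.1 a a.2 b b.2)⟩⟩ hE₀.2
    rw [hE₀4] at h1
    have : p ^ 2 < p ^ 4 := Nat.pow_lt_pow_right hp.one_lt (by norm_num)
    omega
  obtain ⟨A, hA₃A, hAmax⟩ := Finite.exists_le_maximal
    (p := fun B : Subgroup G => B.Normal ∧ EA p B) (a := A₃) ⟨hA₃n, hA₃ea⟩
  obtain ⟨⟨hAn, hAea⟩, hAmax'⟩ := hAmax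
  haveI := hAn
  obtain ⟨k, hk⟩ := IsPGroup.iff_card.1 (hG.to_subgroup A)
  have hk3 : k = 3 := by
    have h1 : 3 ≤ k := by
      have := Subgroup.card_le_of_le hA₃A
      rw [hA₃c, hk] at this
      exact (Nat.pow_le_pow_iff_right hp.one_lt).1 this
    by_contra hne
    have h4 : 4 ≤ k := by omega
    obtain ⟨B, hBA, hBn, hBc⟩ := exists_normal_card hG k A hAn hk 4 h4
    exact hno B hBn (hAea.mono hBA) hBc
  subst hk3
  have halp : ∀ x ∈ Subgroup.centralizer (A : Set G), x ^ p = 1 → x ∈ A := by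
    intro x hx hxp
    refine alperin_omega_centralizer hG 1 (by rw [pow_one]; exact hp2) A hAea.1
      (fun a ha => by rw [pow_one]; exact hAea.2 a ha) ?_ x hx (by rw [pow_one]; exact hxp)
    intro B hBn hBc hBe hAB
    have : B ≤ A := hAmax' ⟨hBn, hBc, fun b hb => by
      have := hBe b hb
      rwa [pow_one] at this⟩ hAB
    exact le_antisymm this hAB
  have hAne : A ≠ ⊥ := by
    intro h
    rw [h, Subgroup.card_bot] at hk
    have : 1 < p ^ 3 := Nat.one_lt_pow (by norm_num) hp.one_lt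
    omega
  obtain ⟨A₂, a, hA₂n, hA₂A, haA, haA₂, hAsup, hacomm, hcardA⟩ :=
    exists_normal_index_p_le hG A hAne
  haveI := hA₂n
  have hA₂c : Nat.card A₂ = p ^ 2 := by
    rw [hk, pow_succ'] at hcardA
    exact (Nat.eq_of_mul_eq_mul_left hp.pos hcardA).symm
  obtain ⟨C₂, hC₂def⟩ : ∃ C₂ : Subgroup G, C₂ = Subgroup.centralizer (A₂ : Set G) := ⟨_, rfl⟩
  haveI hC₂n : C₂.Normal := hC₂def ▸ inferInstance
  have hidx : C₂.index ≤ p := by
    have := index_centralizer_le_of_normal hG 2 A₂ hA₂n hA₂c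
    rw [← hC₂def] at this
    simpa [Finset.sum_range_succ] using this
  have hA₂C₂ : A₂ ≤ C₂ := by
    rw [hC₂def]
    intro x hx
    rw [Subgroup.mem_centralizer_iff]
    intro y hy
    exact hAea.1 y (hA₂A hy) x (hA₂A hx)
  obtain ⟨E, hA₂E, hEC₂, hEea, hEc⟩ :
      ∃ E : Subgroup G, A₂ ≤ E ∧ E ≤ C₂ ∧ EA p E ∧ Nat.card E = p ^ 4 := by
    obtain ⟨F₀, hF₀def⟩ : ∃ F₀ : Subgroup G, F₀ = E₀ ⊓ C₂ := ⟨_, rfl⟩
    obtain ⟨E', hE'def⟩ : ∃ E' : Subgroup G, E' = F₀ ⊔ A₂ := ⟨_, rfl⟩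
    have hF₀E₀ : F₀ ≤ E₀ := hF₀def ▸ inf_le_left
    have hF₀C₂ : F₀ ≤ C₂ := hF₀def ▸ inf_le_right
    have hE'C₂ : E' ≤ C₂ := hE'def ▸ sup_le hF₀C₂ hA₂C₂
    have hE'ea : EA p E' := by
      have hmem : ∀ x ∈ E', ∃ f ∈ F₀, ∃ b ∈ A₂, f * b = x := by
        intro x hx
        have hx' : x ∈ ((F₀ ⊔ A₂ : Subgroup G) : Set G) := hE'def ▸ hx
        rw [Subgroup.mul_normal F₀ A₂] at hx'
        exact Set.mem_mul.1 hx'
      have hfb : ∀ f ∈ F₀, ∀ b ∈ A₂, f * b = b * f := by
        intro f hf b hb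
        have := hF₀C₂ hf
        rw [hC₂def, Subgroup.mem_centralizer_iff] at this
        exact (this b hb).symm
      constructor
      · intro x hx y hy
        obtain ⟨f, hf, b, hb, rfl⟩ := hmem x hx
        obtain ⟨f', hf', b', hb', rfl⟩ := hmem y hy
        have e1 := hE₀.1 f (hF₀E₀ hf) f' (hF₀E₀ hf')
        have e2 := hAea.1 b (hA₂A hb) b' (hA₂A hb')
        have e3 := hfb f' hf' b hb
        have e4 := hfb f hf b' hb'
        calc f * b * (f' * b') = f * (b * f') * b' := by group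
          _ = f * (f' * b) * b' := by rw [e3]
          _ = (f * f') * (b * b') := by group
          _ = (f' * f) * (b' * b) := by rw [e1, e2]
          _ = f' * (f * b') * b := by group
          _ = f' * (b' * f) * b := by rw [e4]
          _ = f' * b' * (f * b) := by group
      · intro x hx
        obtain ⟨f, hf, b, hb, rfl⟩ := hmem x hx
        have c : Commute f b := hfb f hf b hb
        rw [c.mul_pow, hE₀.2 f (hF₀E₀ hf), hAea.2 b (hA₂A hb), one_mul]
    have hcF₀ : p ^ 3 ≤ Nat.card F₀ := by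
      have h1 : Nat.card E₀ = F₀.relIndex E₀ * Nat.card F₀ := card_eq_relIndex_mul_card hF₀E₀
      have h2 : F₀.relIndex E₀ ≤ p := by
        rw [hF₀def, Subgroup.inf_relIndex_left]
        exact (Nat.le_of_dvd (Nat.pos_of_ne_zero Subgroup.index_ne_zero_of_finite)
          (Subgroup.relIndex_dvd_index_of_normal C₂ E₀)).trans hidx
      rw [hE₀4] at h1
      have h3 : p ^ 4 ≤ p * Nat.card F₀ := by rw [h1]; exact Nat.mul_le_mul_right _ h2
      have h4 : p ^ 4 = p * p ^ 3 := by ring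
      rw [h4] at h3
      exact Nat.le_of_mul_le_mul_left h3 hp.pos
    have hcE' : p ^ 4 ≤ Nat.card E' := by
      have h1 := card_sup_mul_card_inf F₀ A₂ Subgroup.le_normalizer_of_normal
      rw [← hE'def, hA₂c] at h1
      obtain ⟨i, hi⟩ := IsPGroup.iff_card.1 (hG.to_subgroup (F₀ ⊓ A₂))
      by_cases hi2 : i ≤ 1
      · rw [hi] at h1
        have h2 : p ^ 3 * p ^ 2 ≤ Nat.card E' * p ^ i := by
          rw [h1]; exact Nat.mul_le_mul_right _ hcF₀
        have h3 : Nat.card E' * p ^ i ≤ Nat.card E' * p := by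
          apply Nat.mul_le_mul_left
          calc p ^ i ≤ p ^ 1 := Nat.pow_le_pow_right hp.pos hi2
            _ = p := pow_one p
        have h4 : p ^ 3 * p ^ 2 = p ^ 4 * p := by ring
        rw [h4] at h2
        exact Nat.le_of_mul_le_mul_right (h2.trans h3) hp.pos
      · push Not at hi2
        have hle : Nat.card A₂ ≤ Nat.card (F₀ ⊓ A₂ : Subgroup G) := by
          rw [hA₂c, hi]; exact Nat.pow_le_pow_right hp.pos hi2
        have heq : F₀ ⊓ A₂ = A₂ := Subgroup.eq_of_le_of_card_ge inf_le_right hle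
        have hA₂F₀ : A₂ ≤ F₀ := by rw [← heq]; exact inf_le_left
        have hE₀C₂ : E₀ ≤ C₂ := by
          rw [hC₂def]
          intro x hx
          rw [Subgroup.mem_centralizer_iff]
          intro y hy
          exact hE₀.1 y (hF₀E₀ (hA₂F₀ hy)) x hx
        have hE₀E' : E₀ ≤ E' := by
          rw [hE'def, hF₀def]
          exact le_sup_of_le_left (le_inf le_rfl hE₀C₂)
        have := Subgroup.card_le_of_le hE₀E'
        rw [hE₀4] at this
        exact this
    obtain ⟨m, hm⟩ := IsPGroup.iff_card.1 (hG.to_subgroup E')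
    have hm4 : 4 ≤ m := by
      rw [hm] at hcE'
      exact (Nat.pow_le_pow_iff_right hp.one_lt).1 hcE'
    have hdvd : p ^ 4 ∣ Nat.card ↥E' := by rw [hm]; exact pow_dvd_pow p hm4
    have hA₂E' : A₂ ≤ E' := hE'def ▸ le_sup_right
    have hHc : Nat.card (A₂.subgroupOf E') = p ^ 2 := by
      rw [← hA₂c]
      exact Nat.card_congr (Subgroup.subgroupOfEquivOfLe hA₂E').toEquiv
    obtain ⟨K, hKc, hHK⟩ := Sylow.exists_subgroup_card_pow_prime_le p hdvd (A₂.subgroupOf E') hHc
      (by norm_num : 2 ≤ 4)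
    refine ⟨K.map E'.subtype, ?_, ?_, ?_, ?_⟩
    · intro x hx
      exact Subgroup.mem_map.2 ⟨⟨x, hA₂E' hx⟩, hHK (Subgroup.mem_subgroupOf.2 hx), rfl⟩
    · exact (Subgroup.map_subtype_le K).trans hE'C₂
    · exact hE'ea.mono (Subgroup.map_subtype_le K)
    · rw [Subgroup.card_map_of_injective E'.subtype_injective, hKc]
  have hEn := key hp2 hG A A₂ hAea hk hA₂c halp a haA hAsup hacomm E hA₂E (hC₂def ▸ hEC₂)
    hEea hEc
  exact hno E hEn hEea hEc

omit [Finite G] [Fact p.Prime] in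
/-- two elementwise commuting elementary abelian subgroups generate an elementary abelian one -/
theorem EA.sup {X Y : Subgroup G} (hX : EA p X) (hY : EA p Y)
    (hXY : ∀ x ∈ X, ∀ y ∈ Y, x * y = y * x) : EA p (X ⊔ Y) := by
  have hnorm : X ≤ Subgroup.normalizer (Y : Set G) := by
    intro x hx
    rw [Subgroup.mem_normalizer_iff]
    intro y
    constructor
    · intro hy
      have := hXY x hx y hy
      rw [this, mul_assoc, mul_inv_cancel, mul_one]
      exact hy
    · intro hy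
      have h1 := hXY x hx _ hy
      have e : y = x⁻¹ * ((x * y * x⁻¹) * x) := by group
      rw [e, ← h1]
      have e2 : x⁻¹ * (x * (x * y * x⁻¹)) = x * y * x⁻¹ := by group
      rw [e2]
      exact hy
  have hmem : ∀ w ∈ X ⊔ Y, ∃ f ∈ X, ∃ b ∈ Y, f * b = w := by
    intro w hw
    have hw' : w ∈ ((X ⊔ Y : Subgroup G) : Set G) := hw
    rw [Subgroup.coe_mul_of_left_le_normalizer_right X Y hnorm] at hw'
    exact Set.mem_mul.1 hw'
  constructor
  · intro x hx y hy
    obtain ⟨f, hf, b, hb, rfl⟩ := hmem x hx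
    obtain ⟨f', hf', b', hb', rfl⟩ := hmem y hy
    have e1 := hX.1 f hf f' hf'
    have e2 := hY.1 b hb b' hb'
    have e3 := hXY f' hf' b hb
    have e4 := hXY f hf b' hb'
    calc f * b * (f' * b') = f * (b * f') * b' := by group
      _ = f * (f' * b) * b' := by rw [e3]
      _ = (f * f') * (b * b') := by group
      _ = (f' * f) * (b' * b) := by rw [e1, e2]
      _ = f' * (f * b') * b := by group
      _ = f' * (b' * f) * b := by rw [e4]
      _ = f' * b' * (f * b) := by group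
  · intro x hx
    obtain ⟨f, hf, b, hb, rfl⟩ := hmem x hx
    have c : Commute f b := hXY f hf b hb
    rw [c.mul_pow, hX.2 f hf, hY.2 b hb, one_mul]

omit [Finite G] [Fact p.Prime] in
theorem EA.zpowers {n : G} (hn : n ^ p = 1) : EA p (Subgroup.zpowers n) := by
  constructor
  · intro a ha b hb
    obtain ⟨i, rfl⟩ := Subgroup.mem_zpowers_iff.1 ha
    obtain ⟨j, rfl⟩ := Subgroup.mem_zpowers_iff.1 hb
    rw [← zpow_add, ← zpow_add, add_comm]
  · intro a ha
    obtain ⟨i, rfl⟩ := Subgroup.mem_zpowers_iff.1 ha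
    rw [← zpow_natCast, ← zpow_mul, mul_comm, zpow_mul, zpow_natCast, hn, one_zpow]

end Cfsg.Agent.H2.KJ4
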