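import Mathlib
import Cfsg.Prelude.Def_Blocks
import Cfsg.Agent.Lib.helper3.Contrib3

set_option autoImplicit false
set_option linter.style.haveILetI false
set_option linter.unusedSectionVars false

/-!
# Orthogonality of the block parts on a `p`-section to the values at `p`-regular elements
-/

namespace Cfsg.Agent.H2.KP

open Cfsg Module Cfsg.Agent.Lib.helper3.CharBasic Cfsg.Agent.Lib.helper3.Irr
open Cfsg.Agent.Lib.helper3.Central Cfsg.Agent.Lib.helper3.LocalM Cfsg.Agent.Lib.helper3.IndFun
open Cfsg.Agent.Lib.helper3.Lin Cfsg.Agent.Lib.helper3.Block Cfsg.Agent.Lib.helper3.Contrib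
open scoped ComplexConjugate

universe u

variable {G : Type u} [Group G] [Fintype G] {M : Ideal AlgInt}

/-- `z c` is `p`-singular for a `p`-element `z ≠ 1` and an element `c` commuting with `z` of
order prime to `p`. -/
theorem dvd_orderOf_mul_of_commute {p : ℕ} (hp : p.Prime) (z c : G) (hzc : Commute z c)
    (hz1 : z ≠ 1) (k : ℕ) (hz : orderOf z = p ^ k) (hc : ¬ p ∣ orderOf c) :
    p ∣ orderOf (z * c) := by
  have hk : k ≠ 0 := by
    rintro rfl
    rw [pow_zero, orderOf_eq_one_iff] at hz
    exact hz1 hz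
  have hcop : Nat.Coprime (orderOf z) (orderOf c) := by
    rw [hz]
    exact Nat.Coprime.pow_left k ((Nat.Prime.coprime_iff_not_dvd hp).mpr hc)
  rw [hzc.orderOf_mul_eq_mul_orderOf_of_coprime hcop, hz]
  exact Dvd.dvd.mul_right (dvd_pow_self p hk) _

open Classical in
/-- For a `p`-element `z ≠ 1`, a block `e` of `H = C_G(z)`, `s ∈ H` and `t ∈ G` both `p`-regular:
`∑_ζ (e-part of ζ(z ·))(s) * conj ζ(t) = 0`. -/
theorem sum_secPart_mul_conj_eq_zero {p : ℕ} [hpf : Fact p.Prime] (hM : IsPModular p M) (z : G)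
    (hz1 : z ≠ 1) (k : ℕ) (hz : orderOf z = p ^ k) (H : Subgroup G) [Fintype H]
    (hH : H = Subgroup.centralizer ({z} : Set G)) (e : Set (IrrCharacter H)) (he : IsPBlock M e)
    (s : H) (hs : ¬ p ∣ orderOf s) (t : G) (ht : ¬ p ∣ orderOf t) :
    ∑ ζ : IrrCharacter G, secPart H e z ζ s * conj ((ζ : G → ℂ) t) = 0 := by
  subst hH
  haveI hMp := isPrime_of_isPModular hM
  have hcomm : ∀ c : Subgroup.centralizer ({z} : Set G), Commute z (c : G) :=
    fun c => (Subgroup.mem_centralizer_singleton_iff.mp c.2).symm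
  have h1 : ∀ ζ : IrrCharacter G, secPart (Subgroup.centralizer ({z} : Set G)) e z ζ s
      * conj ((ζ : G → ℂ) t)
      = (Nat.card (Subgroup.centralizer ({z} : Set G)) : ℂ)⁻¹
        * ∑ c : Subgroup.centralizer ({z} : Set G),
          (∑ ψ : IrrCharacter (Subgroup.centralizer ({z} : Set G)),
            (if ψ ∈ e then (1 : ℂ) else 0)
              * ((ψ : Subgroup.centralizer ({z} : Set G) → ℂ) s
                * conj ((ψ : Subgroup.centralizer ({z} : Set G) → ℂ) c)))
          * ((ζ : G → ℂ) (z * (c : G)) * conj ((ζ : G → ℂ) t)) := by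
    intro ζ
    rw [secPart_def, blockPart_apply, Finset.sum_mul]
    have e1 : ∀ ψ : IrrCharacter (Subgroup.centralizer ({z} : Set G)),
        (if ψ ∈ e then (1 : ℂ) else 0)
          * (classInner (fun c : Subgroup.centralizer ({z} : Set G) => (ζ : G → ℂ) (z * (c : G)))
              (ψ : Subgroup.centralizer ({z} : Set G) → ℂ)
            * (ψ : Subgroup.centralizer ({z} : Set G) → ℂ) s) * conj ((ζ : G → ℂ) t)
        = (Nat.card (Subgroup.centralizer ({z} : Set G)) : ℂ)⁻¹
          * ∑ c : Subgroup.centralizer ({z} : Set G), (if ψ ∈ e then (1 : ℂ) else 0)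
            * ((ψ : Subgroup.centralizer ({z} : Set G) → ℂ) s
              * conj ((ψ : Subgroup.centralizer ({z} : Set G) → ℂ) c))
            * ((ζ : G → ℂ) (z * (c : G)) * conj ((ζ : G → ℂ) t)) := by
      intro ψ
      rw [classInner_apply, Finset.mul_sum, Finset.mul_sum, Finset.sum_mul, Finset.mul_sum,
        Finset.sum_mul]
      apply Finset.sum_congr rfl
      intro c _
      ring
    rw [Finset.sum_congr rfl (fun ψ _ => e1 ψ), ← Finset.mul_sum]
    congr 1
    rw [Finset.sum_comm]
    apply Finset.sum_congr rfl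
    intro c _
    rw [Finset.sum_mul]
  rw [Finset.sum_congr rfl (fun ζ _ => h1 ζ), ← Finset.mul_sum, Finset.sum_comm]
  rw [Finset.sum_eq_zero, mul_zero]
  intro c _
  rw [← Finset.mul_sum]
  by_cases hc : p ∣ orderOf c
  · rw [weak_block_orthogonality hM e (isPBlock_closed e he) s c hs hc, zero_mul]
  · rw [sum_irr_mul_conj]
    have hcG : ¬ p ∣ orderOf (c : G) := by rwa [Subgroup.orderOf_coe]
    have hsing := dvd_orderOf_mul_of_commute hpf.out z (c : G) (hcomm c) hz1 k hz hcG
    have hempty : IsEmpty {y : G // y * t * y⁻¹ = z * (c : G)} := by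
      constructor
      rintro ⟨y, hy⟩
      apply ht
      have : orderOf (y * t * y⁻¹) = orderOf t := (MulAut.conj y).orderOf_eq t
      rw [← this, hy]
      exact hsing
    rw [Nat.card_of_isEmpty, Nat.cast_zero, mul_zero]

end Cfsg.Agent.H2.KP
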