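import Mathlib
import Cfsg.Prelude.Def_Blocks
import Cfsg.Agent.H2.KP1
import Cfsg.Agent.Lib.helper3.BlockSection

set_option autoImplicit false
set_option linter.style.haveILetI false
set_option linter.unusedSectionVars false

/-!
# The expansion of the values of a character of a block on a `p`-section in block parts
-/

namespace Cfsg.Agent.H2.KP

open Cfsg Module Cfsg.Agent.Lib.helper3.CharBasic Cfsg.Agent.Lib.helper3.Irr
open Cfsg.Agent.Lib.helper3.Central Cfsg.Agent.Lib.helper3.LocalM Cfsg.Agent.Lib.helper3.IndFun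
open Cfsg.Agent.Lib.helper3.Lin Cfsg.Agent.Lib.helper3.Block Cfsg.Agent.Lib.helper3.Contrib
open scoped ComplexConjugate

universe u

variable {G : Type u} [Group G] [Fintype G] {M : Ideal AlgInt}

open Classical in
/-- The blocks of `C_G(x)` inducing `B`, as a finite set. -/
noncomputable def secBlocks (M : Ideal AlgInt) (x : G) (B : Set (IrrCharacter G))
    [Fintype (Subgroup.centralizer ({x} : Set G))] :
    Finset (Set (IrrCharacter (Subgroup.centralizer ({x} : Set G)))) :=
  (blocksFinset M (Subgroup.centralizer ({x} : Set G))).filter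
    (fun b => IsInducedBlock M (Subgroup.centralizer ({x} : Set G)) b B)

theorem mem_secBlocks (x : G) (B : Set (IrrCharacter G))
    [Fintype (Subgroup.centralizer ({x} : Set G))]
    (b : Set (IrrCharacter (Subgroup.centralizer ({x} : Set G)))) :
    b ∈ secBlocks M x B ↔ IsInducedBlock M (Subgroup.centralizer ({x} : Set G)) b B := by
  classical
  unfold secBlocks
  rw [Finset.mem_filter, mem_blocksFinset]
  exact ⟨fun h => h.2, fun h => ⟨h.1, h⟩⟩

open Classical in
/-- `χ (x y) = ∑_{b : b^G = B} (b-part of χ(x ·))(y)` for `χ ∈ B`, `x` a `p`-element, `y ∈ C_G(x)`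
`p`-regular. -/
theorem apply_mul_eq_sum_secPart {p : ℕ} [hpf : Fact p.Prime] (hM : IsPModular p M) (x : G)
    (k : ℕ) (hx : orderOf x = p ^ k) (B : Set (IrrCharacter G)) (hB : IsPBlock M B)
    (χ : IrrCharacter G) (hχ : χ ∈ B) [Fintype (Subgroup.centralizer ({x} : Set G))]
    (y : Subgroup.centralizer ({x} : Set G)) (hy : ¬ p ∣ orderOf y) :
    (χ : G → ℂ) (x * (y : G))
      = ∑ b ∈ secBlocks M x B, secPart (Subgroup.centralizer ({x} : Set G)) b x χ y := by
  haveI hMp := isPrime_of_isPModular hM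
  have hMtop : M ≠ ⊤ := hM.2.1.ne_top
  have h1 := block_section hM x k hx B hB χ y hy
  rw [if_pos hχ] at h1
  rw [← h1, sum_eq_sum_blocks (M := M)]
  unfold secBlocks
  rw [Finset.sum_filter]
  apply Finset.sum_congr rfl
  intro b hb
  have hb' := (mem_blocksFinset b).mp hb
  have hsec : ∀ ψ : IrrCharacter (Subgroup.centralizer ({x} : Set G)), ψ ∈ b →
      (ψ ∈ secSet M x B ↔ IsInducedBlock M (Subgroup.centralizer ({x} : Set G)) b B) := by
    intro ψ hψ
    have : blockOf M (ψ : Subgroup.centralizer ({x} : Set G) → ℂ) = b :=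
      isPBlock_eq_of_mem ⟨ψ, rfl⟩ hb' ψ (sameBlock_refl hMtop _) hψ
    show IsInducedBlock M _ (blockOf M (ψ : Subgroup.centralizer ({x} : Set G) → ℂ)) B ↔ _
    rw [this]
  by_cases hind : IsInducedBlock M (Subgroup.centralizer ({x} : Set G)) b B
  · rw [if_pos hind, secPart_def, blockPart_apply]
    apply Finset.sum_congr rfl
    intro ψ _
    by_cases hψ : ψ ∈ b
    · rw [if_pos hψ, if_pos ((hsec ψ hψ).mpr hind), one_mul, one_mul]
    · rw [if_neg hψ, zero_mul, zero_mul]
  · rw [if_neg hind]
    apply Finset.sum_eq_zero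
    intro ψ _
    by_cases hψ : ψ ∈ b
    · rw [if_neg (fun h => hind ((hsec ψ hψ).mp h)), zero_mul, mul_zero]
    · rw [if_neg hψ, zero_mul]

end Cfsg.Agent.H2.KP
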