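import Mathlib
import Cfsg.Prelude.Def_Blocks
import Cfsg.Agent.Lib.helper3.QuotDefect3
import Cfsg.Agent.Lib.helper3.FR6
import Cfsg.Agent.S0912
import Cfsg.Agent.S0917

set_option autoImplicit false
set_option linter.style.haveILetI false
set_option linter.unusedSectionVars false

/-!
# The `p`-element of a subsection of `B` is conjugate into a defect group of `B`
-/

namespace Cfsg.Agent.H2.KP

open Cfsg Cfsg.Agent.Lib.helper3.Block

universe u

variable {G : Type u} [Group G] [Fintype G] {M : Ideal AlgInt}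

/-- If some block of `C_G(u)` induces `B`, `u` a `p`-element, then `u` is conjugate to an element
of any defect group of `B`. -/
theorem exists_conj_mem_defectGroup {p : ℕ} [hpf : Fact p.Prime] (hM : IsPModular p M)
    (B : Set (IrrCharacter G)) (hB : IsPBlock M B) (P : Subgroup G)
    (hPD : IsDefectGroup p M B P) (u : G) (k : ℕ) (hu : orderOf u = p ^ k)
    (b : Set (IrrCharacter (Subgroup.centralizer ({u} : Set G))))
    (hind : IsInducedBlock M (Subgroup.centralizer ({u} : Set G)) b B) :
    ∃ g : G, g * u * g⁻¹ ∈ P := by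
  classical
  haveI : Fintype (Subgroup.centralizer ({u} : Set G)) := Fintype.ofFinite _
  have huH : u ∈ Subgroup.centralizer ({u} : Set G) := by
    rw [Subgroup.mem_centralizer_singleton_iff]
  obtain ⟨u', hu'⟩ : ∃ u' : Subgroup.centralizer ({u} : Set G), u' = ⟨u, huH⟩ := ⟨_, rfl⟩
  have hu'c : ∀ h : Subgroup.centralizer ({u} : Set G), h * u' = u' * h := by
    intro h
    apply Subtype.ext
    rw [hu']
    exact Subgroup.mem_centralizer_singleton_iff.mp h.2
  -- `⟨u⟩` is a normal `p`-subgroup of `C_G(u)`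
  have hN : (Subgroup.zpowers u').Normal := by
    constructor
    intro n hn g
    obtain ⟨i, rfl⟩ := Subgroup.mem_zpowers_iff.mp hn
    have hc : g * u' ^ i * g⁻¹ = u' ^ i := by
      have : Commute g u' := hu'c g
      rw [(this.zpow_right i).eq, mul_inv_cancel_right]
    rw [hc]
    exact Subgroup.zpow_mem_zpowers u' i
  have hord : orderOf u' = p ^ k := by
    rw [← hu, hu']
    exact (Subgroup.orderOf_mk u huH)
  have hQ : IsPGroup p (Subgroup.zpowers u') := by
    apply IsPGroup.of_card (n := k)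
    rw [Nat.card_zpowers, hord]
  have hle : Subgroup.zpowers u' ≤ pCore p (Subgroup.centralizer ({u} : Set G)) := by
    unfold pCore
    exact le_sSup ⟨hN, hQ⟩
  obtain ⟨D, hD⟩ := exists_isDefectGroup hM b hind.1
  have hcore := Cfsg.Agent.S0912.result p M hM b hind.1 D hD
  have huD : u' ∈ D := hcore (hle (Subgroup.mem_zpowers u'))
  obtain ⟨E, hE, hDE⟩ := Cfsg.Agent.S0917.result p M hM _ b hind.1 B hB hind D hD
  have huE : u ∈ E := by
    apply hDE
    refine ⟨u', huD, ?_⟩
    rw [hu']
    rfl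
  obtain ⟨x, hx⟩ := defectGroup_conj_eq hM hB hPD hE
  refine ⟨x, ?_⟩
  rw [← hx]
  exact ⟨u, huE, rfl⟩

/-- In particular, for a defect group of exponent 2 the element `u ≠ 1` is an involution. -/
theorem orderOf_eq_two_of_induced (hM : IsPModular 2 M)
    (B : Set (IrrCharacter G)) (hB : IsPBlock M B) (P : Subgroup G)
    (hPD : IsDefectGroup 2 M B P) (hexp : ∀ g ∈ P, g ^ 2 = 1) (u : G) (hu1 : u ≠ 1) (k : ℕ)
    (hu : orderOf u = 2 ^ k)
    (b : Set (IrrCharacter (Subgroup.centralizer ({u} : Set G))))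
    (hind : IsInducedBlock M (Subgroup.centralizer ({u} : Set G)) b B) :
    orderOf u = 2 := by
  haveI : Fact (Nat.Prime 2) := ⟨Nat.prime_two⟩
  obtain ⟨g, hg⟩ := exists_conj_mem_defectGroup hM B hB P hPD u k hu b hind
  have h1 := hexp _ hg
  have h2 : u ^ 2 = 1 := by
    have : (g * u * g⁻¹) ^ 2 = g * u ^ 2 * g⁻¹ := by
      rw [conj_pow]
    rw [this] at h1
    have : u ^ 2 = g⁻¹ * (g * u ^ 2 * g⁻¹) * g := by group
    rw [this, h1]
    group
  exact orderOf_eq_prime h2 hu1

end Cfsg.Agent.H2.KP
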