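import Mathlib
import Cfsg.Prelude.Def_BlockRank
import Cfsg.Agent.H2.KQ1
import Cfsg.Agent.S0941

set_option autoImplicit false
set_option linter.style.haveILetI false
set_option linter.unusedSectionVars false

/-!
# The quotient block is a block; its defect
-/

namespace Cfsg.Agent.H2.KQ

open Cfsg Cfsg.Agent.Lib.helper3.LocalM Cfsg.Agent.Lib.helper3.CharBasic
open Cfsg.Agent.Lib.helper3.Irr Cfsg.Agent.Lib.helper3.IndFun Cfsg.Agent.Lib.helper3.Block
open scoped ComplexConjugate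

variable {G : Type*} [Group G] [Finite G] {M : Ideal AlgInt}

theorem index_centralizer_of_sup {p : ℕ} [hp : Fact p.Prime] (Q : Subgroup G) [Q.Normal]
    (hQ : IsPGroup p Q) (hsup : Q ⊔ Subgroup.centralizer (Q : Set G) = ⊤) :
    ∃ k : ℕ, (Subgroup.centralizer (Q : Set G)).index = p ^ k := by
  have h1 : (Subgroup.centralizer (Q : Set G)).index
      = (Subgroup.centralizer (Q : Set G)).relIndex Q := by
    rw [← Subgroup.relIndex_top_right, ← hsup, Subgroup.relIndex_sup_right]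
  have h2 : (Subgroup.centralizer (Q : Set G)).relIndex Q ∣ Nat.card Q :=
    Subgroup.relIndex_dvd_card _ _
  obtain ⟨n, hn⟩ := IsPGroup.iff_card.mp hQ
  rw [hn] at h2
  obtain ⟨k, -, hk⟩ := (Nat.dvd_prime_pow hp.out).mp h2
  exact ⟨k, by rw [h1, hk]⟩

/-- The quotient block is a block of `G ⧸ Q`. -/
theorem isPBlock_qBlock {p : ℕ} [hp : Fact p.Prime] (hM : IsPModular p M)
    (Q : Subgroup G) [Q.Normal] (hQ : IsPGroup p Q)
    (hsup : Q ⊔ Subgroup.centralizer (Q : Set G) = ⊤)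
    (b : Set (IrrCharacter G)) (hb : IsPBlock M b) :
    IsPBlock M (qBlock Q b) := by
  classical
  haveI hMp := isPrime_of_isPModular hM
  obtain ⟨h1, h2⟩ := Cfsg.Agent.S0941.result p M hM Q hQ (index_centralizer_of_sup Q hQ hsup)
  obtain ⟨χ₀, θ, hθb, hθ⟩ := h2 b hb
  have hinf : inflIrr Q χ₀ = θ := Subtype.ext hθ.symm
  refine ⟨χ₀, ?_⟩
  obtain ⟨χ₁, rfl⟩ := hb
  ext ψ
  rw [mem_qBlock]
  show SameBlock M (χ₁ : G → ℂ) (inflIrr Q ψ : G → ℂ) ↔ SameBlock M (χ₀ : G ⧸ Q → ℂ) (ψ : G ⧸ Q → ℂ)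
  rw [h1 χ₀ ψ]
  have hθ' : SameBlock M (χ₁ : G → ℂ) ((χ₀ : G ⧸ Q → ℂ) ∘ QuotientGroup.mk) := by
    rw [← hθ]; exact hθb
  constructor
  · intro h
    exact sameBlock_trans (sameBlock_symm hθ') h
  · intro h
    exact sameBlock_trans hθ' h

theorem qBlock_nonempty {p : ℕ} [hp : Fact p.Prime] (hM : IsPModular p M)
    (Q : Subgroup G) [Q.Normal] (hQ : IsPGroup p Q)
    (hsup : Q ⊔ Subgroup.centralizer (Q : Set G) = ⊤)
    (b : Set (IrrCharacter G)) (hb : IsPBlock M b) :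
    (qBlock Q b).Nonempty := by
  obtain ⟨h1, h2⟩ := Cfsg.Agent.S0941.result p M hM Q hQ (index_centralizer_of_sup Q hQ hsup)
  obtain ⟨χ₀, θ, hθb, hθ⟩ := h2 b hb
  have hinf : inflIrr Q χ₀ = θ := Subtype.ext hθ.symm
  exact ⟨χ₀, by rw [mem_qBlock, hinf]; exact hθb⟩

theorem charDegree_inflIrr (Q : Subgroup G) [Q.Normal] (ψ : IrrCharacter (G ⧸ Q)) :
    charDegree (inflIrr Q ψ : G → ℂ) = charDegree (ψ : G ⧸ Q → ℂ) := rfl

/-- `d(b̄) ≤ d(b) - ν_p|Q|`. -/
theorem blockDefect_qBlock_le (p : ℕ) [hp : Fact p.Prime]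
    (Q : Subgroup G) [Q.Normal] (b : Set (IrrCharacter G)) (hne : (qBlock Q b).Nonempty) :
    blockDefect p (qBlock Q b) ≤ blockDefect p b - (Nat.card Q).factorization p := by
  unfold blockDefect
  have hcard : Nat.card G = Nat.card Q * Nat.card (G ⧸ Q) := by
    rw [← Subgroup.index_eq_card, Subgroup.card_mul_index]
  have hfac : (Nat.card G).factorization p
      = (Nat.card Q).factorization p + (Nat.card (G ⧸ Q)).factorization p := by
    rw [hcard, Nat.factorization_mul Nat.card_pos.ne' Nat.card_pos.ne']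
    rfl
  set S' := (fun χ : IrrCharacter (G ⧸ Q) => (charDegree (χ : G ⧸ Q → ℂ)).factorization p) ''
    qBlock Q b with hS'
  set S := (fun χ : IrrCharacter G => (charDegree (χ : G → ℂ)).factorization p) '' b with hS
  have hS'ne : S'.Nonempty := hne.image _
  have hmem : sInf S' ∈ S' := Nat.sInf_mem hS'ne
  have hsub : S' ⊆ S := by
    rintro _ ⟨ψ, hψ, rfl⟩
    exact ⟨inflIrr Q ψ, hψ, rfl⟩
  have hle : sInf S ≤ sInf S' := Nat.sInf_le (hsub hmem)
  omega

end Cfsg.Agent.H2.KQ
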