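import Mathlib
import Cfsg.Prelude.Def_BlockRank
import Cfsg.Agent.H2.KQ2
import Cfsg.Agent.S4676
import Cfsg.Agent.S4733
import Cfsg.Agent.S0908
import Cfsg.Agent.Lib.helper3.FR6

set_option autoImplicit false
set_option linter.style.haveILetI false
set_option linter.unusedSectionVars false

/-!
# Lemma L: a 2-block of defect at most 2 of a group with a central 2-element `≠ 1` has rank 1
-/

namespace Cfsg.Agent.H2.KQ

open Cfsg Cfsg.Agent.Lib.helper3.LocalM Cfsg.Agent.Lib.helper3.CharBasic
open Cfsg.Agent.Lib.helper3.Irr Cfsg.Agent.Lib.helper3.IndFun Cfsg.Agent.Lib.helper3.Block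
open scoped ComplexConjugate

variable {G : Type*} [Group G] [Finite G] {M : Ideal AlgInt}

/-- A nonempty set of irreducible characters has positive rank. -/
theorem blockRank_pos (p : ℕ) [hp : Fact p.Prime] (B : Set (IrrCharacter G)) (hne : B.Nonempty) :
    0 < blockRank p B := by
  classical
  obtain ⟨χ, hχ⟩ := hne
  unfold blockRank
  rw [Module.finrank_pos_iff_exists_ne_zero]
  refine ⟨⟨pRegularPart p (χ : G → ℂ), Submodule.subset_span ⟨χ, hχ, rfl⟩⟩, ?_⟩
  intro h
  have h1 : pRegularPart p (χ : G → ℂ) = 0 := congrArg Subtype.val h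
  have h2 := congrFun h1 1
  have hreg : IsPRegular p (1 : G) := by
    unfold IsPRegular
    rw [orderOf_one]
    exact hp.out.one_lt.ne' ∘ Nat.dvd_one.mp
  unfold pRegularPart at h2
  rw [if_pos hreg] at h2
  exact apply_one_ne_zero χ.2 h2

/-- The number of members of a block is at most the sum of `p ^ (2 * height)`. -/
theorem card_le_finsum_height (p : ℕ) [hp : Fact p.Prime] (B : Set (IrrCharacter G)) :
    Nat.card B ≤ ∑ᶠ χ ∈ B, p ^ (2 * blockHeight p B (χ : G → ℂ)) := by
  classical
  haveI : Fintype G := Fintype.ofFinite G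
  have hfin : B.Finite := Set.toFinite B
  rw [finsum_mem_eq_finite_toFinset_sum _ hfin, Nat.card_coe_set_eq, Set.ncard_eq_toFinset_card B hfin,
    Finset.card_eq_sum_ones]
  apply Finset.sum_le_sum
  intro χ _
  exact Nat.one_le_pow _ _ hp.out.pos

/-- A 2-block of defect at most one has rank one. -/
theorem blockRank_eq_one_of_defect_le_one (hM : IsPModular 2 M)
    (B : Set (IrrCharacter G)) (hB : IsPBlock M B) (hd : blockDefect 2 B ≤ 1) :
    blockRank 2 B = 1 := by
  classical
  haveI : Fact (Nat.Prime 2) := ⟨Nat.prime_two⟩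
  haveI : Fintype G := Fintype.ofFinite G
  obtain ⟨h1, h2, h3⟩ := Cfsg.Agent.S4733.result 2 M hM B hB
  by_cases h0 : blockDefect 2 B = 0
  · exact (h2.mp h0).2
  · obtain ⟨D, hD⟩ := exists_isDefectGroup hM B hB
    have hcardD := Cfsg.Agent.S0908.result 2 M hM B hB D hD
    have hk := Cfsg.Agent.S4676.result 2 M hM B hB D hD
    have hd1 : blockDefect 2 B = 1 := by omega
    rw [hcardD, hd1] at hk
    have hk2 : Nat.card B ≤ 2 := (card_le_finsum_height 2 B).trans (by simpa using hk)
    have hne : B.Nonempty := by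
      obtain ⟨χ₀, rfl⟩ := hB
      haveI hMp := isPrime_of_isPModular hM
      exact ⟨χ₀, sameBlock_refl hM.2.1.ne_top _⟩
    have hpos := blockRank_pos 2 B hne
    have hneq : Nat.card B ≠ blockRank 2 B := fun h => h0 (h3.mpr h)
    omega

/-- **Lemma L**. Let `u ≠ 1` be a central 2-element of `G` and `b` a 2-block of `G` of defect at
most 2. Then `l(b) = 1`. -/
theorem blockRank_eq_one_of_central (hM : IsPModular 2 M) (u : G)
    (hu : u ∈ Subgroup.center G) (hu2 : ∃ k : ℕ, orderOf u = 2 ^ k) (hu1 : u ≠ 1)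
    (b : Set (IrrCharacter G)) (hb : IsPBlock M b) (hd : blockDefect 2 b ≤ 2) :
    blockRank 2 b = 1 := by
  classical
  haveI : Fact (Nat.Prime 2) := ⟨Nat.prime_two⟩
  haveI : Fintype G := Fintype.ofFinite G
  have hle : Subgroup.zpowers u ≤ Subgroup.center G := by
    rw [Subgroup.zpowers_le]; exact hu
  haveI hN : (Subgroup.zpowers u).Normal := by
    constructor
    intro n hn g
    have hc := Subgroup.mem_center_iff.mp (hle hn) g
    have : g * n * g⁻¹ = n := by rw [hc, mul_inv_cancel_right]
    rw [this]; exact hn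
  obtain ⟨k, hk⟩ := hu2
  have hcardQ : Nat.card (Subgroup.zpowers u) = 2 ^ k := by
    rw [Nat.card_zpowers, hk]
  have hQ : IsPGroup 2 (Subgroup.zpowers u) := IsPGroup.of_card hcardQ
  have hk1 : 1 ≤ k := by
    rcases Nat.eq_zero_or_pos k with h | h
    · exfalso
      rw [h, pow_zero, orderOf_eq_one_iff] at hk
      exact hu1 hk
    · exact h
  have hsup : Subgroup.zpowers u ⊔ Subgroup.centralizer ((Subgroup.zpowers u : Subgroup G) : Set G)
      = ⊤ := by
    have : Subgroup.centralizer ((Subgroup.zpowers u : Subgroup G) : Set G) = ⊤ := by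
      rw [Subgroup.centralizer_eq_top_iff_subset]
      exact hle
    rw [this, sup_top_eq]
  rw [blockRank_qBlock_fintype hM (Subgroup.zpowers u) hQ hsup b hb]
  have hbb := isPBlock_qBlock hM (Subgroup.zpowers u) hQ hsup b hb
  have hne := qBlock_nonempty hM (Subgroup.zpowers u) hQ hsup b hb
  have hdef := blockDefect_qBlock_le 2 (Subgroup.zpowers u) b hne
  have hfac : (Nat.card (Subgroup.zpowers u)).factorization 2 = k := by
    rw [hcardQ, Nat.Prime.factorization_pow Nat.prime_two]
    simp
  rw [hfac] at hdef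
  exact blockRank_eq_one_of_defect_le_one hM _ hbb (by omega)

end Cfsg.Agent.H2.KQ
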