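import Mathlib
import Cfsg.Prelude.Def_Blocks
import Cfsg.Agent.H2.KP2
import Cfsg.Agent.H2.KQ3
import Cfsg.Agent.Lib.Helper4.PerfDefs

set_option autoImplicit false
set_option linter.style.haveILetI false
set_option linter.unusedSectionVars false

/-!
# Columns of a subsection are orthogonal to the values at `p`-regular elements
-/

namespace Cfsg.Agent.H2.KP

open Cfsg Module Cfsg.Agent.Lib.helper3.CharBasic Cfsg.Agent.Lib.helper3.Irr
open Cfsg.Agent.Lib.helper3.Central Cfsg.Agent.Lib.helper3.LocalM Cfsg.Agent.Lib.helper3.IndFun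
open Cfsg.Agent.Lib.helper3.Lin Cfsg.Agent.Lib.helper3.Block Cfsg.Agent.Lib.helper3.Contrib
open Cfsg.Agent.Lib.Helper4.Perf
open scoped ComplexConjugate

universe u

variable {G : Type u} [Group G] [Fintype G] {M : Ideal AlgInt}

/-- `C_{C_G(u)}(s) ≃ C_G(x)` when `x = u s` and `u`, `s` are powers of `x`. -/
theorem card_centralizer_section (x u : G) (s : Subgroup.centralizer ({u} : Set G))
    (hx : x = u * (s : G)) (hu : u ∈ Subgroup.zpowers x) (hs : (s : G) ∈ Subgroup.zpowers x) :
    Nat.card (Subgroup.centralizer ({s} : Set (Subgroup.centralizer ({u} : Set G))))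
      = Nat.card (Subgroup.centralizer ({x} : Set G)) := by
  apply Nat.card_congr
  refine ⟨fun h => ⟨((h : Subgroup.centralizer ({u} : Set G)) : G), ?_⟩,
    fun g => ⟨⟨(g : G), ?_⟩, ?_⟩, ?_, ?_⟩
  · rw [Subgroup.mem_centralizer_singleton_iff]
    have h1 : ((h : Subgroup.centralizer ({u} : Set G)) : G) * u
        = u * ((h : Subgroup.centralizer ({u} : Set G)) : G) :=
      Subgroup.mem_centralizer_singleton_iff.mp (h : Subgroup.centralizer ({u} : Set G)).2
    have h2 : (h : Subgroup.centralizer ({u} : Set G)) * s = s * (h : Subgroup.centralizer ({u} : Set G)) :=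
      Subgroup.mem_centralizer_singleton_iff.mp h.2
    have h2' : ((h : Subgroup.centralizer ({u} : Set G)) : G) * (s : G)
        = (s : G) * ((h : Subgroup.centralizer ({u} : Set G)) : G) := by
      have := congrArg Subtype.val h2
      simpa using this
    rw [hx, ← mul_assoc, h1, mul_assoc, h2', mul_assoc]
  · have hg : (g : G) * x = x * (g : G) := Subgroup.mem_centralizer_singleton_iff.mp g.2
    obtain ⟨i, hi⟩ := Subgroup.mem_zpowers_iff.mp hu
    rw [Subgroup.mem_centralizer_singleton_iff, ← hi]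
    exact ((Commute.zpow_right (show Commute (g : G) x from hg) i)).eq
  · have hg : (g : G) * x = x * (g : G) := Subgroup.mem_centralizer_singleton_iff.mp g.2
    obtain ⟨i, hi⟩ := Subgroup.mem_zpowers_iff.mp hs
    rw [Subgroup.mem_centralizer_singleton_iff]
    apply Subtype.ext
    show (g : G) * (s : G) = (s : G) * (g : G)
    rw [← hi]
    exact ((Commute.zpow_right (show Commute (g : G) x from hg) i)).eq
  · intro h; rfl
  · intro g; rfl

open Classical in
/-- The column of a subsection is nonzero somewhere on the regular elements. -/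
theorem exists_regular_ne_zero {p : ℕ} [hpf : Fact p.Prime] (hM : IsPModular p M) (z : G) (k : ℕ)
    (hz : orderOf z = p ^ k) (B : Set (IrrCharacter G))
    (e : Set (IrrCharacter (Subgroup.centralizer ({z} : Set G))))
    (hind : IsInducedBlock M (Subgroup.centralizer ({z} : Set G)) e B)
    (d : IrrCharacter G → ℤ) (φ : Subgroup.centralizer ({z} : Set G) → ℂ)
    (hd : ∀ χ ∈ B, ∀ s : Subgroup.centralizer ({z} : Set G), ¬ p ∣ orderOf s →
      secPart (Subgroup.centralizer ({z} : Set G)) e z χ s = (d χ : ℂ) * φ s) :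
    ∃ s : Subgroup.centralizer ({z} : Set G), ¬ p ∣ orderOf s ∧ φ s ≠ 0 := by
  haveI : Fintype (Subgroup.centralizer ({z} : Set G)) := Fintype.ofFinite _
  haveI hMp := isPrime_of_isPModular hM
  by_contra hcon
  push Not at hcon
  have h1 := sum_regPair_self hM z k hz (Subgroup.centralizer ({z} : Set G)) rfl B e hind
  have h0 : ∑ χ : IrrCharacter G, (if χ ∈ B then (1 : ℂ) else 0)
        * regPair p (secPart (Subgroup.centralizer ({z} : Set G)) e z χ)
          (secPart (Subgroup.centralizer ({z} : Set G)) e z χ) = 0 := by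
    apply Finset.sum_eq_zero
    intro χ _
    by_cases hχ : χ ∈ B
    · rw [if_pos hχ, one_mul, regPair_eq_sum]
      apply Finset.sum_eq_zero
      intro s _
      by_cases hs : p ∣ orderOf s
      · rw [if_pos hs, zero_mul]
      · rw [hd χ hχ s hs, hcon s hs, mul_zero, zero_mul, mul_zero]
    · rw [if_neg hχ, zero_mul]
  rw [h0] at h1
  have hne : e.Nonempty := by
    obtain ⟨ξ₀, hξ₀⟩ := hind.1
    exact ⟨ξ₀, by rw [hξ₀]; exact sameBlock_refl hM.2.1.ne_top _⟩
  have hpos := Cfsg.Agent.H2.KQ.blockRank_pos p e hne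
  have hH0 : (Nat.card (Subgroup.centralizer ({z} : Set G)) : ℂ) ≠ 0 := card_ne_zero_complex _
  have hr0 : (blockRank p e : ℂ) ≠ 0 := by exact_mod_cast hpos.ne'
  exact mul_ne_zero hH0 hr0 h1.symm

open Classical in
/-- **(I4)**: a column of a nontrivial subsection is orthogonal to the values at the `p`-regular
elements. -/
theorem isCol_of_secPart {p : ℕ} [hpf : Fact p.Prime] (hM : IsPModular p M) (z : G) (hz1 : z ≠ 1)
    (k : ℕ) (hz : orderOf z = p ^ k) (B : Set (IrrCharacter G))
    (e : Set (IrrCharacter (Subgroup.centralizer ({z} : Set G))))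
    (hind : IsInducedBlock M (Subgroup.centralizer ({z} : Set G)) e B)
    (d : IrrCharacter G → ℤ) (φ : Subgroup.centralizer ({z} : Set G) → ℂ)
    (hd : ∀ χ ∈ B, ∀ s : Subgroup.centralizer ({z} : Set G), ¬ p ∣ orderOf s →
      secPart (Subgroup.centralizer ({z} : Set G)) e z χ s = (d χ : ℂ) * φ s) :
    IsCol p B d := by
  haveI : Fintype (Subgroup.centralizer ({z} : Set G)) := Fintype.ofFinite _
  obtain ⟨s₀, hs₀, hφ₀⟩ := exists_regular_ne_zero hM z k hz B e hind d φ hd
  intro t ht
  have h1 := sum_secPart_mul_conj_eq_zero hM z hz1 k hz (Subgroup.centralizer ({z} : Set G)) rfl e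
    hind.1 s₀ hs₀ t ht
  have h2 : ∀ ζ : IrrCharacter G,
      secPart (Subgroup.centralizer ({z} : Set G)) e z ζ s₀ * conj ((ζ : G → ℂ) t)
      = φ s₀ * ((if ζ ∈ B then (1 : ℂ) else 0) * ((d ζ : ℂ) * conj ((ζ : G → ℂ) t))) := by
    intro ζ
    by_cases hζ : ζ ∈ B
    · rw [if_pos hζ, hd ζ hζ s₀ hs₀]
      ring
    · rw [if_neg hζ, secPart_eq_zero hM z k hz (Subgroup.centralizer ({z} : Set G)) rfl B e hind ζ
        hζ s₀ hs₀]
      ring
  rw [Finset.sum_congr rfl (fun ζ _ => h2 ζ), ← Finset.mul_sum] at h1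
  have h3 := (mul_eq_zero.mp h1).resolve_left hφ₀
  rw [finsum_mem_set_eq_sum_ite]
  have h5 : ∑ ζ : IrrCharacter G, (if ζ ∈ B then (1 : ℂ) else 0) * ((d ζ : ℂ) * (ζ : G → ℂ) t)
      = conj (∑ ζ : IrrCharacter G, (if ζ ∈ B then (1 : ℂ) else 0)
          * ((d ζ : ℂ) * conj ((ζ : G → ℂ) t))) := by
    rw [map_sum]
    apply Finset.sum_congr rfl
    intro ζ _
    by_cases hζ : ζ ∈ B
    · rw [if_pos hζ, one_mul, one_mul, map_mul, Complex.conj_conj, map_intCast]
    · rw [if_neg hζ, zero_mul, zero_mul, map_zero]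
  rw [h5, h3, map_zero]

end Cfsg.Agent.H2.KP
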