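import Mathlib
import Cfsg.Prelude.Def_Blocks
import Cfsg.Agent.H2.KP3
import Cfsg.Agent.H2.KP4
import Cfsg.Agent.Lib.helper3.SP14

set_option autoImplicit false
set_option linter.style.haveILetI false
set_option linter.unusedSectionVars false

/-!
# The expansion of the values of a block with Klein four defect group at 2-singular elements
-/

namespace Cfsg.Agent.H2.KP

open Cfsg Module Cfsg.Agent.Lib.helper3.CharBasic Cfsg.Agent.Lib.helper3.Irr
open Cfsg.Agent.Lib.helper3.Central Cfsg.Agent.Lib.helper3.LocalM Cfsg.Agent.Lib.helper3.IndFun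
open Cfsg.Agent.Lib.helper3.Lin Cfsg.Agent.Lib.helper3.Block Cfsg.Agent.Lib.helper3.Contrib
open Cfsg.Agent.Lib.Helper4.Perf
open scoped ComplexConjugate

universe u

variable {X : Type u} [Group X] [Fintype X] {M : Ideal AlgInt}

open Classical in
/-- **P3**: the sign-column expansion at a 2-singular element, given the columns of the
subsections (hypothesis `hcol`, to be supplied by the contribution-matrix analysis). -/
theorem singExp_of_columns (hM : IsPModular 2 M) (𝔅 : Set (IrrCharacter X)) (h𝔅 : IsPBlock M 𝔅)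
    (P : Subgroup X) (hPD : IsDefectGroup 2 M 𝔅 P) (hexp : ∀ g ∈ P, g ^ 2 = 1)
    (hcol : ∀ u : X, orderOf u = 2 →
      ∀ b : Set (IrrCharacter (Subgroup.centralizer ({u} : Set X))),
        IsInducedBlock M (Subgroup.centralizer ({u} : Set X)) b 𝔅 →
        ∃ (d : IrrCharacter X → ℤ) (φ : Subgroup.centralizer ({u} : Set X) → ℂ),
          (∀ χ ∈ 𝔅, d χ = 1 ∨ d χ = -1) ∧
          (∀ χ ∈ 𝔅, ∀ s : Subgroup.centralizer ({u} : Set X), ¬ 2 ∣ orderOf s →
            secPart (Subgroup.centralizer ({u} : Set X)) b u χ s = (d χ : ℂ) * φ s) ∧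
          (∀ s, IsIntegral ℤ (φ s)) ∧
          (∀ s : Subgroup.centralizer ({u} : Set X), ¬ 2 ∣ orderOf s →
            MemLocalRing M (4 * φ s / (Nat.card ↥(Subgroup.centralizer
              ({s} : Set (Subgroup.centralizer ({u} : Set X)))) : ℂ))))
    (x : X) (hx : 2 ∣ orderOf x) : SingExp M 𝔅 x := by
  haveI : Fact (Nat.Prime 2) := ⟨Nat.prime_two⟩
  obtain ⟨a, c, hac, ⟨k, hk⟩, hreg⟩ := exists_zpow_decomp 2 Nat.prime_two x
  obtain ⟨u, hu⟩ : ∃ u : X, u = x ^ a := ⟨_, rfl⟩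
  obtain ⟨s₀, hs₀⟩ : ∃ s₀ : X, s₀ = x ^ c := ⟨_, rfl⟩
  rw [← hu] at hk hac
  rw [← hs₀] at hreg hac
  have hu1 : u ≠ 1 := by
    intro h
    rw [h, one_mul] at hac
    rw [← hac] at hx
    exact hreg hx
  have hcomm : s₀ * u = u * s₀ := by
    rw [hu, hs₀, ← zpow_add, ← zpow_add, add_comm]
  have hs₀H : s₀ ∈ Subgroup.centralizer ({u} : Set X) := by
    rw [Subgroup.mem_centralizer_singleton_iff]
    exact hcomm
  obtain ⟨s, hs⟩ : ∃ s : Subgroup.centralizer ({u} : Set X), s = ⟨s₀, hs₀H⟩ := ⟨_, rfl⟩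
  have hscoe : (s : X) = s₀ := by rw [hs]
  have hsreg : ¬ 2 ∣ orderOf s := by
    rw [← Subgroup.orderOf_coe, hscoe]
    exact hreg
  have hxus : x = u * (s : X) := by rw [hscoe, hac]
  have huz : u ∈ Subgroup.zpowers x := by rw [hu]; exact Subgroup.zpow_mem_zpowers x a
  have hsz : (s : X) ∈ Subgroup.zpowers x := by
    rw [hscoe, hs₀]; exact Subgroup.zpow_mem_zpowers x c
  have hcardC := card_centralizer_section x u s hxus huz hsz
  haveI : Fintype (Subgroup.centralizer ({u} : Set X)) := Fintype.ofFinite _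
  -- the columns
  have hall : ∀ b : (secBlocks M u 𝔅 : Finset _),
      ∃ (d : IrrCharacter X → ℤ) (φ : Subgroup.centralizer ({u} : Set X) → ℂ),
        (∀ χ ∈ 𝔅, d χ = 1 ∨ d χ = -1) ∧
        (∀ χ ∈ 𝔅, ∀ s : Subgroup.centralizer ({u} : Set X), ¬ 2 ∣ orderOf s →
          secPart (Subgroup.centralizer ({u} : Set X)) (b : Set _) u χ s = (d χ : ℂ) * φ s) ∧
        (∀ s, IsIntegral ℤ (φ s)) ∧
        (∀ s : Subgroup.centralizer ({u} : Set X), ¬ 2 ∣ orderOf s →
          MemLocalRing M (4 * φ s / (Nat.card ↥(Subgroup.centralizer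
            ({s} : Set (Subgroup.centralizer ({u} : Set X)))) : ℂ))) := by
    intro b
    have hind := (mem_secBlocks u 𝔅 (b : Set _)).mp b.2
    have hu2 := orderOf_eq_two_of_induced hM 𝔅 h𝔅 P hPD hexp u hu1 k hk (b : Set _) hind
    exact hcol u hu2 (b : Set _) hind
  choose d φ hd1 hd2 hd3 hd4 using hall
  obtain ⟨n, hn⟩ : ∃ n : ℕ, n = (secBlocks M u 𝔅).card := ⟨_, rfl⟩
  have eqv : Fin n ≃ (secBlocks M u 𝔅 : Finset _) := by
    rw [hn]
    exact (Finset.equivFin _).symm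
  refine ⟨n, fun j => d (eqv j), fun j => φ (eqv j) s, ?_, ?_, ?_, ?_, ?_⟩
  · intro j χ hχ
    exact hd1 (eqv j) χ hχ
  · intro j
    have hind := (mem_secBlocks u 𝔅 ((eqv j : (secBlocks M u 𝔅 : Finset _)) : Set _)).mp (eqv j).2
    exact isCol_of_secPart hM u hu1 k hk 𝔅 _ hind (d (eqv j)) (φ (eqv j)) (hd2 (eqv j))
  · intro j
    exact hd3 (eqv j) s
  · intro j
    have := hd4 (eqv j) s hsreg
    rw [hcardC] at this
    exact this
  · intro χ hχ
    rw [hxus, apply_mul_eq_sum_secPart hM u k hk 𝔅 h𝔅 χ hχ s hsreg]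
    rw [← Finset.sum_coe_sort (secBlocks M u 𝔅), ← Equiv.sum_comp eqv]
    apply Finset.sum_congr rfl
    intro j _
    exact hd2 (eqv j) χ hχ s hsreg

end Cfsg.Agent.H2.KP
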