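import Mathlib
import Cfsg.Prelude.Def_BlockRank
import Cfsg.Agent.H2.KQ3
import Cfsg.Agent.S0917

set_option autoImplicit false
set_option linter.style.haveILetI false
set_option linter.unusedSectionVars false

/-!
# Lemma L applied to subsections: `l(b) = 1` for every block `b` of `C_G(u)` inducing a 2-block of
defect at most 2, `u ≠ 1` a 2-element
-/

namespace Cfsg.Agent.H2.KQ

open Cfsg Cfsg.Agent.Lib.helper3.LocalM Cfsg.Agent.Lib.helper3.CharBasic
open Cfsg.Agent.Lib.helper3.Irr Cfsg.Agent.Lib.helper3.IndFun Cfsg.Agent.Lib.helper3.Block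
open scoped ComplexConjugate

variable {G : Type*} [Group G] [Finite G] {M : Ideal AlgInt}

/-- The defect of a block is at most the defect of the block it induces. -/
theorem blockDefect_le_of_isInducedBlock {p : ℕ} [hp : Fact p.Prime] (hM : IsPModular p M)
    (H : Subgroup G) (b : Set (IrrCharacter H)) (B : Set (IrrCharacter G))
    (hind : IsInducedBlock M H b B) : blockDefect p b ≤ blockDefect p B := by
  classical
  haveI : Fintype G := Fintype.ofFinite G
  haveI : Fintype H := Fintype.ofFinite H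
  obtain ⟨D, hD⟩ := exists_isDefectGroup hM b hind.1
  obtain ⟨E, hE, hle⟩ := Cfsg.Agent.S0917.result p M hM H b hind.1 B hind.2.1 hind D hD
  have h1 := Cfsg.Agent.S0908.result p M hM b hind.1 D hD
  have h2 := Cfsg.Agent.S0908.result p M hM B hind.2.1 E hE
  have h3 : p ^ blockDefect p b ∣ p ^ blockDefect p B := by
    rw [← h1, ← h2, ← Subgroup.card_map_of_injective (Subgroup.subtype_injective H)]
    exact Subgroup.card_dvd_of_le hle
  exact (Nat.pow_dvd_pow_iff_le_right hp.out.one_lt).mp h3

/-- **Lemma L for subsections** (general form). `H ≤ G` centralizes its own element `u`, a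
2-element `≠ 1`; `b` a block of `H` inducing the block `B` of `G` of defect at most 2. Then
`l(b) = 1`. -/
theorem blockRank_eq_one_of_induced (hM : IsPModular 2 M) (H : Subgroup G) (u : G) (huH : u ∈ H)
    (hcent : ∀ h ∈ H, h * u = u * h) (hu2 : ∃ k : ℕ, orderOf u = 2 ^ k) (hu1 : u ≠ 1)
    (b : Set (IrrCharacter H)) (B : Set (IrrCharacter G)) (hind : IsInducedBlock M H b B)
    (hd : blockDefect 2 B ≤ 2) : blockRank 2 b = 1 := by
  haveI : Fact (Nat.Prime 2) := ⟨Nat.prime_two⟩
  have hle := blockDefect_le_of_isInducedBlock hM H b B hind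
  refine blockRank_eq_one_of_central hM (⟨u, huH⟩ : H) ?_ ?_ ?_ b hind.1 (hle.trans hd)
  · rw [Subgroup.mem_center_iff]
    intro h
    apply Subtype.ext
    exact hcent h h.2
  · obtain ⟨k, hk⟩ := hu2
    refine ⟨k, ?_⟩
    rw [← hk]
    exact Subgroup.orderOf_mk u huH
  · intro h
    exact hu1 (congrArg Subtype.val h)

/-- Lemma L for `H = C_G(u)` written as `centralizer {u}`. -/
theorem blockRank_eq_one_centralizer_singleton (hM : IsPModular 2 M) (u : G)
    (hu2 : ∃ k : ℕ, orderOf u = 2 ^ k) (hu1 : u ≠ 1)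
    (b : Set (IrrCharacter (Subgroup.centralizer ({u} : Set G)))) (B : Set (IrrCharacter G))
    (hind : IsInducedBlock M (Subgroup.centralizer ({u} : Set G)) b B)
    (hd : blockDefect 2 B ≤ 2) : blockRank 2 b = 1 := by
  refine blockRank_eq_one_of_induced hM _ u ?_ ?_ hu2 hu1 b B hind hd
  · rw [Subgroup.mem_centralizer_iff]
    intro x hx
    rw [Set.mem_singleton_iff] at hx
    rw [hx]
  · intro h hh
    rw [Subgroup.mem_centralizer_iff] at hh
    exact (hh u rfl).symm

/-- Lemma L for `H = C_G(⟨u⟩)` written as `centralizer (zpowers u)`. -/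
theorem blockRank_eq_one_centralizer_zpowers (hM : IsPModular 2 M) (u : G)
    (hu2 : ∃ k : ℕ, orderOf u = 2 ^ k) (hu1 : u ≠ 1)
    (b : Set (IrrCharacter (Subgroup.centralizer ((Subgroup.zpowers u : Subgroup G) : Set G))))
    (B : Set (IrrCharacter G))
    (hind : IsInducedBlock M (Subgroup.centralizer ((Subgroup.zpowers u : Subgroup G) : Set G)) b B)
    (hd : blockDefect 2 B ≤ 2) : blockRank 2 b = 1 := by
  refine blockRank_eq_one_of_induced hM _ u ?_ ?_ hu2 hu1 b B hind hd
  · rw [Subgroup.mem_centralizer_iff]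
    intro x hx
    obtain ⟨n, rfl⟩ := Subgroup.mem_zpowers_iff.mp hx
    exact (Commute.zpow_left (Commute.refl u) n).eq.symm ▸ rfl
  · intro h hh
    rw [Subgroup.mem_centralizer_iff] at hh
    exact (hh u (Subgroup.mem_zpowers u)).symm

/-- `l(b) = l(b̄)` when `G = Q C_G(Q)` (`Finite` version). -/
theorem blockRank_qBlock {p : ℕ} [hp : Fact p.Prime] (hM : IsPModular p M)
    (Q : Subgroup G) [Q.Normal] (hQ : IsPGroup p Q)
    (hsup : Q ⊔ Subgroup.centralizer (Q : Set G) = ⊤)
    (b : Set (IrrCharacter G)) (hb : IsPBlock M b) :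
    blockRank p b = blockRank p (qBlock Q b) := by
  haveI : Fintype G := Fintype.ofFinite G
  exact blockRank_qBlock_fintype hM Q hQ hsup b hb

end Cfsg.Agent.H2.KQ
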