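import Mathlib
import Cfsg.Prelude.Def_BlockRank
import Cfsg.Agent.H2.KQ4

set_option autoImplicit false
set_option linter.style.haveILetI false
set_option linter.unusedSectionVars false

/-!
# Lemma L in the shape requested for the assembly of S4637
-/

namespace Cfsg.Agent.H2.KQ

open Cfsg

variable {G : Type*} [Group G] [Fintype G] {M : Ideal AlgInt}

/-- **Lemma L** (assembly shape). -/
theorem lemmaL (hM : IsPModular 2 M) (B : Set (IrrCharacter G)) (hB : IsPBlock M B)
    (hdB : blockDefect 2 B ≤ 2) (u : G) (hu1 : u ≠ 1) (k : ℕ) (hu : orderOf u = 2 ^ k)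
    (H : Subgroup G) (hH : H = Subgroup.centralizer ({u} : Set G)) (b : Set (IrrCharacter H))
    (hind : IsInducedBlock M H b B) : blockRank 2 b = 1 := by
  subst hH
  exact blockRank_eq_one_centralizer_singleton hM u ⟨k, hu⟩ hu1 b B hind hdB

end Cfsg.Agent.H2.KQ
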