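import Mathlib
import Cfsg.Prelude.Def_Blocks
import Cfsg.Agent.H2.KP5
import Cfsg.Agent.H2.KQ5
import Cfsg.Agent.S0958

set_option autoImplicit false
set_option linter.style.haveILetI false
set_option linter.unusedSectionVars false

/-!
# S4638, piece P3: the sign columns of a 2-block with Klein four defect group
-/

namespace Cfsg.Agent.H2.KP

open Cfsg Module Cfsg.Agent.Lib.helper3.CharBasic Cfsg.Agent.Lib.helper3.Irr
open Cfsg.Agent.Lib.helper3.Central Cfsg.Agent.Lib.helper3.LocalM Cfsg.Agent.Lib.helper3.IndFun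
open Cfsg.Agent.Lib.helper3.Lin Cfsg.Agent.Lib.helper3.Block Cfsg.Agent.Lib.helper3.Contrib
open Cfsg.Agent.Lib.Helper4.Perf
open scoped ComplexConjugate

universe u

variable {X : Type u} [Group X] [Finite X] {M : Ideal AlgInt}

theorem pow_two_eq_one_of_isKleinFour (D : Subgroup X) (hV : IsKleinFour D) (g : X) (hg : g ∈ D) :
    g ^ 2 = 1 := by
  have h1 : (⟨g, hg⟩ : D) ^ 2 = 1 := by
    rw [← hV.exponent_two]
    exact Monoid.pow_exponent_eq_one _
  have := congrArg Subtype.val h1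
  simpa using this

theorem exists_involution_of_isKleinFour (D : Subgroup X) (hV : IsKleinFour D) :
    ∃ u ∈ D, orderOf u = 2 := by
  have hcard : Nat.card D = 4 := hV.card_four
  haveI : Nontrivial D := by
    rw [← Finite.one_lt_card_iff_nontrivial, hcard]; norm_num
  obtain ⟨u, hu⟩ := exists_ne (1 : D)
  refine ⟨(u : X), u.2, ?_⟩
  apply orderOf_eq_prime (pow_two_eq_one_of_isKleinFour D hV _ u.2)
  intro h
  exact hu (Subtype.ext h)

theorem blockDefect_eq_two_of_isKleinFour (hM : IsPModular 2 M) (𝔅 : Set (IrrCharacter X))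
    (h𝔅 : IsPBlock M 𝔅) (D : Subgroup X) (hD : IsDefectGroup 2 M 𝔅 D) (hV : IsKleinFour D) :
    blockDefect 2 𝔅 = 2 := by
  haveI : Fact (Nat.Prime 2) := ⟨Nat.prime_two⟩
  have h1 := Cfsg.Agent.S0908.result 2 M hM 𝔅 h𝔅 D hD
  rw [hV.card_four] at h1
  have h2 : (2 : ℕ) ^ 2 = 2 ^ blockDefect 2 𝔅 := by rw [← h1]; norm_num
  exact (Nat.pow_right_injective (le_refl 2) h2).symm

/-- **S4638 P3**, with the column data of the subsections (piece P2) as a hypothesis. -/
theorem kleinFour_columns_of (hM : IsPModular 2 M) (𝔅 : Set (IrrCharacter X))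
    (h𝔅 : IsPBlock M 𝔅) (D : Subgroup X) (hD : IsDefectGroup 2 M 𝔅 D) (hV : IsKleinFour D)
    (hP2 : ∀ u : X, orderOf u = 2 →
      ∀ b : Set (IrrCharacter (Subgroup.centralizer ({u} : Set X))),
        IsInducedBlock M (Subgroup.centralizer ({u} : Set X)) b 𝔅 → blockRank 2 b = 1 →
        ∃ (d : IrrCharacter X → ℤ) (φ : Subgroup.centralizer ({u} : Set X) → ℂ),
          (∀ χ ∈ 𝔅, d χ = 1 ∨ d χ = -1) ∧
          (∀ χ ∈ 𝔅, ∀ s : Subgroup.centralizer ({u} : Set X), ¬ 2 ∣ orderOf s →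
            blockPart b (fun c : Subgroup.centralizer ({u} : Set X) =>
              (χ : X → ℂ) (u * (c : X))) s = (d χ : ℂ) * φ s) ∧
          (∀ s, IsIntegral ℤ (φ s)) ∧
          (∀ s : Subgroup.centralizer ({u} : Set X), ¬ 2 ∣ orderOf s →
            MemLocalRing M (4 * φ s / (Nat.card ↥(Subgroup.centralizer
              ({s} : Set (Subgroup.centralizer ({u} : Set X)))) : ℂ)))) :
    (∀ x : X, 2 ∣ orderOf x → SingExp M 𝔅 x) ∧
      ∃ d : IrrCharacter X → ℤ, IsSign 𝔅 d ∧ IsCol 2 𝔅 d := by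
  classical
  haveI : Fact (Nat.Prime 2) := ⟨Nat.prime_two⟩
  letI : Fintype X := Fintype.ofFinite X
  have hdef := blockDefect_eq_two_of_isKleinFour hM 𝔅 h𝔅 D hD hV
  have hexp := pow_two_eq_one_of_isKleinFour D hV
  have hcol : ∀ u : X, orderOf u = 2 →
      ∀ b : Set (IrrCharacter (Subgroup.centralizer ({u} : Set X))),
        IsInducedBlock M (Subgroup.centralizer ({u} : Set X)) b 𝔅 →
        ∃ (d : IrrCharacter X → ℤ) (φ : Subgroup.centralizer ({u} : Set X) → ℂ),
          (∀ χ ∈ 𝔅, d χ = 1 ∨ d χ = -1) ∧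
          (∀ χ ∈ 𝔅, ∀ s : Subgroup.centralizer ({u} : Set X), ¬ 2 ∣ orderOf s →
            secPart (Subgroup.centralizer ({u} : Set X)) b u χ s = (d χ : ℂ) * φ s) ∧
          (∀ s, IsIntegral ℤ (φ s)) ∧
          (∀ s : Subgroup.centralizer ({u} : Set X), ¬ 2 ∣ orderOf s →
            MemLocalRing M (4 * φ s / (Nat.card ↥(Subgroup.centralizer
              ({s} : Set (Subgroup.centralizer ({u} : Set X)))) : ℂ))) := by
    intro u hu b hind
    have hu1 : u ≠ 1 := by
      intro h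
      rw [h, orderOf_one] at hu
      norm_num at hu
    have hlb := Cfsg.Agent.H2.KQ.lemmaL hM 𝔅 h𝔅 hdef.le u hu1 1 (by rw [hu, pow_one]) _ rfl b hind
    exact hP2 u hu b hind hlb
  refine ⟨fun x hx => singExp_of_columns hM 𝔅 h𝔅 D hD hexp hcol x hx, ?_⟩
  -- one column
  obtain ⟨u, huD, hu2⟩ := exists_involution_of_isKleinFour D hV
  have hu1 : u ≠ 1 := by
    intro h
    rw [h, orderOf_one] at hu2
    norm_num at hu2
  have hPz : IsPGroup 2 (Subgroup.zpowers u) := by
    apply IsPGroup.of_card (n := 1)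
    rw [Nat.card_zpowers, hu2, pow_one]
  have hcz : Subgroup.centralizer ((Subgroup.zpowers u : Subgroup X) : Set X)
      = Subgroup.centralizer ({u} : Set X) := centralizer_zpowers_eq u
  have hPH : Subgroup.zpowers u ⊔ Subgroup.centralizer ((Subgroup.zpowers u : Subgroup X) : Set X)
      ≤ Subgroup.centralizer ({u} : Set X) := by
    rw [hcz]
    apply sup_le _ le_rfl
    rw [Subgroup.zpowers_le, Subgroup.mem_centralizer_singleton_iff]
  have hHN : Subgroup.centralizer ({u} : Set X)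
      ≤ Subgroup.normalizer ((Subgroup.zpowers u : Subgroup X) : Set X) := by
    rw [← hcz]
    exact Subgroup.centralizer_le_normalizer _
  have hex := (Cfsg.Agent.S0958.result 2 M hM (Subgroup.zpowers u)
    (Subgroup.centralizer ({u} : Set X)) hPz hPH hHN 𝔅 h𝔅).mpr
    ⟨D, hD, 1, by
      rintro _ ⟨y, hy, rfl⟩
      have : y ∈ D := (Subgroup.zpowers_le.mpr huD) hy
      simpa using this⟩
  obtain ⟨b, hind⟩ := hex
  obtain ⟨d, φ, hd1, hd2, -, -⟩ := hcol u hu2 b hind
  exact ⟨d, hd1, isCol_of_secPart hM u hu1 1 (by rw [hu2, pow_one]) 𝔅 b hind d φ hd2⟩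

end Cfsg.Agent.H2.KP
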