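import Mathlib
import Cfsg.Prelude.Def_Blocks
import Cfsg.Agent.H2.KP6
import Cfsg.Agent.S4710

set_option autoImplicit false
set_option linter.style.haveILetI false
set_option linter.unusedSectionVars false

/-!
# Heights in a 2-block with Klein four defect group
-/

namespace Cfsg.Agent.H2.KP

open Cfsg

universe u

variable {X : Type u} [Group X] [Finite X] {M : Ideal AlgInt}

/-- All characters in a 2-block with Klein four defect group have height zero. -/
theorem blockHeight_eq_zero_of_isKleinFour (hM : IsPModular 2 M) (𝔅 : Set (IrrCharacter X))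
    (h𝔅 : IsPBlock M 𝔅) (D : Subgroup X) (hD : IsDefectGroup 2 M 𝔅 D) (hV : IsKleinFour D)
    (χ : IrrCharacter X) (hχ : χ ∈ 𝔅) : blockHeight 2 𝔅 (χ : X → ℂ) = 0 := by
  haveI : Fact (Nat.Prime 2) := ⟨Nat.prime_two⟩
  have hdef := blockDefect_eq_two_of_isKleinFour hM 𝔅 h𝔅 D hD hV
  have h := (Cfsg.Agent.S4710.result 2 M hM 𝔅 h𝔅 2 hdef).2 χ hχ
  have := h.2 (le_refl 2)
  omega

end Cfsg.Agent.H2.KP
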