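import Mathlib
import Cfsg.Prelude.Def_Blocks
import Cfsg.Agent.H2.KP6
import Cfsg.Agent.H9.KK4

set_option autoImplicit false
set_option linter.style.haveILetI false
set_option linter.unusedSectionVars false

/-!
# S4638, piece P3: the sign columns of a 2-block with Klein four defect group (final form)
-/

namespace Cfsg.Agent.H2.KP

open Cfsg Cfsg.Agent.Lib.Helper4.Perf

/-- **S4638 P3** (final, hypothesis-free shape). -/
theorem kleinFour_columns {X : Type*} [Group X] [Finite X] {M : Ideal AlgInt}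
    (hM : IsPModular 2 M) (𝔅 : Set (IrrCharacter X)) (h𝔅 : IsPBlock M 𝔅) (D : Subgroup X)
    (hD : IsDefectGroup 2 M 𝔅 D) (hV : IsKleinFour D) (h4 : Nat.card 𝔅 = 4) :
    (∀ x : X, 2 ∣ orderOf x → SingExp M 𝔅 x) ∧
      ∃ d : IrrCharacter X → ℤ, IsSign 𝔅 d ∧ IsCol 2 𝔅 d := by
  classical
  letI : Fintype X := Fintype.ofFinite X
  have hdef := blockDefect_eq_two_of_isKleinFour hM 𝔅 h𝔅 D hD hV
  refine kleinFour_columns_of hM 𝔅 h𝔅 D hD hV ?_
  intro u hu b hind hlb
  haveI : Fintype (Subgroup.centralizer ({u} : Set X)) := Fintype.ofFinite _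
  exact Cfsg.Agent.H9.KK.exists_column hM 𝔅 h𝔅 h4 hdef u hu _ rfl b hind hlb

end Cfsg.Agent.H2.KP
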