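import Mathlib

set_option autoImplicit false
set_option linter.style.haveILetI false
set_option linter.unusedSectionVars false

/-!
# An abstract orbit count

`G` acts on `Σ`, `S ⊆ Σ` a finite `G`-stable set, `f : X → S` a family of representatives meeting
every orbit, such that `f x ~ f y` iff `r x y`, all `r`-classes of size `e`. Then
`e * ∑_{σ ∈ S} |Stab σ| = |X| * |G|`.
-/

namespace Cfsg.Agent.H2.KS

open MulAction

variable {G : Type*} [Group G] [Fintype G] {Sig : Type*} [MulAction G Sig]

open Classical in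
/-- The stabilizer of `σ = g₀ • τ` is in bijection with the transporter from `τ` to `σ`. -/
theorem card_stabilizer_eq_card_transporter (τ σ : Sig) (g₀ : G) (h₀ : g₀ • τ = σ) :
    Nat.card (stabilizer G σ) = (Finset.univ.filter (fun h : G => h • τ = σ)).card := by
  rw [← Fintype.card_subtype, Nat.card_eq_fintype_card]
  apply Fintype.card_congr
  refine ⟨fun k => ⟨(k : G) * g₀, ?_⟩, fun h => ⟨(h : G) * g₀⁻¹, ?_⟩, ?_, ?_⟩
  · rw [mul_smul, h₀]; exact k.2
  · have h2 : (h : G) • τ = σ := h.2
    have h3 : g₀⁻¹ • σ = τ := by rw [← h₀, inv_smul_smul]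
    rw [mem_stabilizer_iff, mul_smul, h3, h2]
  · intro k; apply Subtype.ext; simp
  · intro h; apply Subtype.ext; simp

open Classical in
/-- The sum of the orders of the stabilizers over an orbit inside a stable set is `|G|`. -/
theorem sum_card_stabilizer_orbit (S : Finset Sig) (hS : ∀ (g : G) (σ : Sig), σ ∈ S → g • σ ∈ S)
    (τ : Sig) (hτ : τ ∈ S) :
    ∑ σ ∈ S, (if ∃ g : G, g • τ = σ then Nat.card (stabilizer G σ) else 0) = Fintype.card G := by
  have h1 : ∀ σ ∈ S, (if ∃ g : G, g • τ = σ then Nat.card (stabilizer G σ) else 0)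
      = (Finset.univ.filter (fun h : G => h • τ = σ)).card := by
    intro σ _
    by_cases hσ : ∃ g : G, g • τ = σ
    · rw [if_pos hσ]
      obtain ⟨g₀, h₀⟩ := hσ
      exact card_stabilizer_eq_card_transporter τ σ g₀ h₀
    · rw [if_neg hσ]
      symm
      rw [Finset.card_eq_zero, Finset.filter_eq_empty_iff]
      intro h _ hh
      exact hσ ⟨h, hh⟩
  rw [Finset.sum_congr rfl h1, ← Finset.card_univ]
  symm
  apply Finset.card_eq_sum_card_fiberwise
  intro h _
  exact hS h τ hτ

open Classical in
/-- **Abstract orbit count.** -/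
theorem abstract_count {X : Type*} [Fintype X]
    (S : Finset Sig) (hS : ∀ (g : G) (σ : Sig), σ ∈ S → g • σ ∈ S)
    (f : X → Sig) (hf : ∀ x, f x ∈ S)
    (hsurj : ∀ σ ∈ S, ∃ (g : G) (x : X), g • f x = σ)
    (r : X → X → Prop)
    (hfr : ∀ x y, (∃ g : G, g • f x = f y) ↔ r x y)
    (e : ℕ) (he : ∀ x, Nat.card {y // r x y} = e) :
    e * ∑ σ ∈ S, Nat.card (stabilizer G σ) = Fintype.card X * Fintype.card G := by
  -- the number of `x` with `f x ~ σ` is `e`
  have hcount : ∀ σ ∈ S, (Finset.univ.filter (fun x : X => ∃ g : G, g • f x = σ)).card = e := by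
    intro σ hσ
    obtain ⟨g₀, x₀, h₀⟩ := hsurj σ hσ
    rw [← he x₀, Nat.card_eq_fintype_card, Fintype.card_subtype]
    congr 1
    ext x
    simp only [Finset.mem_filter, Finset.mem_univ, true_and]
    rw [← hfr x₀ x]
    constructor
    · rintro ⟨g, hg⟩
      refine ⟨g⁻¹ * g₀, ?_⟩
      rw [mul_smul, h₀, ← hg, inv_smul_smul]
    · rintro ⟨g, hg⟩
      refine ⟨g₀ * g⁻¹, ?_⟩
      rw [mul_smul, ← hg, inv_smul_smul, h₀]
  calc e * ∑ σ ∈ S, Nat.card (stabilizer G σ)
      = ∑ σ ∈ S, (Finset.univ.filter (fun x : X => ∃ g : G, g • f x = σ)).card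
          * Nat.card (stabilizer G σ) := by
        rw [Finset.mul_sum]
        apply Finset.sum_congr rfl
        intro σ hσ
        rw [hcount σ hσ]
    _ = ∑ σ ∈ S, ∑ x : X, (if ∃ g : G, g • f x = σ then Nat.card (stabilizer G σ) else 0) := by
        apply Finset.sum_congr rfl
        intro σ _
        rw [Finset.card_eq_sum_ones, Finset.sum_mul, Finset.sum_filter]
        apply Finset.sum_congr rfl
        intro x _
        by_cases h : ∃ g : G, g • f x = σ
        · rw [if_pos h, if_pos h, one_mul]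
        · rw [if_neg h, if_neg h]
    _ = ∑ x : X, ∑ σ ∈ S, (if ∃ g : G, g • f x = σ then Nat.card (stabilizer G σ) else 0) :=
        Finset.sum_comm
    _ = ∑ _x : X, Fintype.card G := by
        apply Finset.sum_congr rfl
        intro x _
        exact sum_card_stabilizer_orbit S hS (f x) (hf x)
    _ = Fintype.card X * Fintype.card G := by
        rw [Finset.sum_const, Finset.card_univ, smul_eq_mul]

end Cfsg.Agent.H2.KS
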