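import Mathlib

set_option autoImplicit false

namespace Cfsg.Agent.H2.KTransSupport

open Equiv Equiv.Perm MulAction

variable {α : Type*} [Fintype α] [DecidableEq α]

/-- In a `k`-transitive group one can prescribe the values on any `≤ k` points. -/
lemma extend (G : Subgroup (Perm α)) {k : ℕ} (hkn : k ≤ Fintype.card α)
    (hG : IsMultiplyPretransitive G α k) (S : Finset α) (hS : S.card ≤ k) (f : α → α)
    (hf : Set.InjOn f S) : ∃ x : Perm α, x ∈ G ∧ ∀ y ∈ S, x y = f y := by
  have : IsMultiplyPretransitive G α S.card :=
    isMultiplyPretransitive_of_le (G := G) (α := α) (n := k) hS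
      (by rw [Nat.card_eq_fintype_card]; exact hkn)
  let e := S.equivFin.symm
  let e₁ : Fin S.card ↪ α := ⟨fun i => (e i : α), fun i j h => e.injective (Subtype.ext h)⟩
  let e₂ : Fin S.card ↪ α :=
    ⟨fun i => f (e i : α), fun i j h => e.injective (Subtype.ext (hf (e i).2 (e j).2 h))⟩
  obtain ⟨x, hx⟩ := exists_smul_eq G e₁ e₂
  refine ⟨x, x.2, fun y hy => ?_⟩
  have h1 : (x • e₁) (e.symm ⟨y, hy⟩) = e₂ (e.symm ⟨y, hy⟩) := DFunLike.congr_fun hx (e.symm ⟨y, hy⟩)
  rw [Function.Embedding.smul_apply] at h1
  change x • ((e (e.symm ⟨y, hy⟩) : S) : α) = f ((e (e.symm ⟨y, hy⟩) : S) : α) at h1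
  rw [Equiv.apply_symm_apply] at h1
  exact h1

/-- Subsets of the support of any size with at most one "exit". -/
lemma exists_almost_closed (g : Perm α) (s : ℕ) (hs : s ≤ g.support.card) :
    ∃ A : Finset α, A ⊆ g.support ∧ A.card = s ∧ (A.filter (fun y => g y ∉ A)).card ≤ 1 := by
  induction s with
  | zero => exact ⟨∅, by simp, rfl, by simp⟩
  | succ s ih =>
    obtain ⟨A, hA, hAc, he⟩ := ih (by omega)
    by_cases h0 : (A.filter (fun y => g y ∉ A)) = ∅
    · have hex : ∃ c ∈ g.support, c ∉ A := by
        by_contra hcon
        push Not at hcon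
        have h1 : g.support ⊆ A := hcon
        have h2 := Finset.card_le_card h1
        omega
      obtain ⟨c, hc, hcA⟩ := hex
      refine ⟨insert c A, ?_, ?_, ?_⟩
      · exact Finset.insert_subset hc hA
      · rw [Finset.card_insert_of_notMem hcA, hAc]
      · refine le_trans (Finset.card_le_card (t := {c}) ?_) (by simp)
        intro y hy
        rw [Finset.mem_filter, Finset.mem_insert] at hy
        rw [Finset.mem_singleton]
        rcases hy.1 with rfl | hyA
        · rfl
        · exfalso
          have h1 : y ∈ A.filter (fun y => g y ∉ A) := by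
            rw [Finset.mem_filter]
            exact ⟨hyA, fun h => hy.2 (Finset.mem_insert_of_mem h)⟩
          rw [h0] at h1
          simp at h1
    · obtain ⟨b, hb⟩ := Finset.nonempty_iff_ne_empty.mpr h0
      have hfil : ∀ y ∈ A.filter (fun y => g y ∉ A), y = b := by
        intro y hy
        exact Finset.card_le_one.mp he y hy b hb
      rw [Finset.mem_filter] at hb
      refine ⟨insert (g b) A, ?_, ?_, ?_⟩
      · refine Finset.insert_subset ?_ hA
        rw [Perm.apply_mem_support]
        exact hA hb.1
      · rw [Finset.card_insert_of_notMem hb.2, hAc]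
      · refine le_trans (Finset.card_le_card (t := {g b}) ?_) (by simp)
        intro y hy
        rw [Finset.mem_filter, Finset.mem_insert] at hy
        rw [Finset.mem_singleton]
        rcases hy.1 with rfl | hyA
        · rfl
        · exfalso
          have h1 : y ∈ A.filter (fun y => g y ∉ A) := by
            rw [Finset.mem_filter]
            exact ⟨hyA, fun h => hy.2 (Finset.mem_insert_of_mem h)⟩
          have h2 := hfil y h1
          apply hy.2
          rw [h2]
          exact Finset.mem_insert_self _ _

/-- Support of the commutator-like element `g⁻¹ * (x * g * x⁻¹)` when `x` fixes `A` pointwise. -/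
lemma support_comm_subset (g x : Perm α) (A : Finset α) (hA : A ⊆ g.support)
    (hx : ∀ y ∈ A, x y = y) :
    (g⁻¹ * (x * g * x⁻¹)).support ⊆
      (g.support \ A.filter (fun y => g y ∈ A)) ∪ (g.support \ A).image x := by
  intro y hy
  rw [Perm.mem_support] at hy
  have hy' : x (g (x⁻¹ y)) ≠ g y := by
    intro h
    apply hy
    simp only [Perm.mul_apply]
    rw [h]
    simp
  by_cases hyB : y ∈ A.filter (fun y => g y ∈ A)
  · exfalso
    rw [Finset.mem_filter] at hyB
    have h1 : x⁻¹ y = y := by
      rw [Perm.inv_eq_iff_eq]
      exact (hx y hyB.1).symm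
    apply hy'
    rw [h1, hx _ hyB.2]
  by_cases hyΔ : y ∈ g.support
  · exact Finset.mem_union_left _ (Finset.mem_sdiff.mpr ⟨hyΔ, hyB⟩)
  · apply Finset.mem_union_right
    rw [Perm.notMem_support] at hyΔ
    rw [hyΔ] at hy'
    have hz : x⁻¹ y ∈ g.support := by
      rw [Perm.mem_support]
      intro h
      apply hy'
      rw [h]
      simp
    have hzA : x⁻¹ y ∉ A := by
      intro h
      have h1 := hx _ h
      have h1' : x (x⁻¹ y) = y := by simp
      rw [h1'] at h1
      rw [← h1] at h
      have h2 := hA h
      rw [Perm.mem_support] at h2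
      exact h2 hyΔ
    exact Finset.mem_image.mpr ⟨x⁻¹ y, Finset.mem_sdiff.mpr ⟨hz, hzA⟩, by simp⟩


lemma injOn_update (S : Finset α) (q q' : α) (hq' : q' ∉ S) :
    Set.InjOn (fun y => if y = q then q' else y) (S : Set α) := by
  intro y1 h1 y2 h2 h
  simp only at h
  by_cases e1 : y1 = q <;> by_cases e2 : y2 = q
  · rw [e1, e2]
  · rw [if_pos e1, if_neg e2] at h
    exact absurd (h ▸ h2) hq'
  · rw [if_neg e1, if_pos e2] at h
    exact absurd (h.symm ▸ h1) hq'
  · rw [if_neg e1, if_neg e2] at h
    exact h

lemma comm_mem (G : Subgroup (Perm α)) {g x : Perm α} (hg : g ∈ G) (hx : x ∈ G) :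
    g⁻¹ * (x * g * x⁻¹) ∈ G :=
  G.mul_mem (G.inv_mem hg) (G.mul_mem (G.mul_mem hx hg) (G.inv_mem hx))

lemma comm_apply (g x : Perm α) (y : α) :
    (g⁻¹ * (x * g * x⁻¹)) y = g⁻¹ (x (g (x⁻¹ y))) := by
  simp [Perm.mul_apply]

lemma descent (G : Subgroup (Perm α)) {k : ℕ} (hkn : k ≤ Fintype.card α)
    (hG : IsMultiplyPretransitive G α k) (g : Perm α) (hg : g ∈ G) (hm4 : 4 ≤ g.support.card)
    (hm : g.support.card + 3 ≤ 2 * k) :
    ∃ t : Perm α, t ∈ G ∧ t ≠ 1 ∧ t.support.card < g.support.card := by
  have hk4 : 4 ≤ k := by omega
  have hmn : g.support.card ≤ Fintype.card α := Finset.card_le_univ _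
  by_cases hfull : g.support = Finset.univ
  · -- Case I : no fixed points
    have hmeq : g.support.card = Fintype.card α := by rw [hfull]; rfl
    have hmove : ∀ y, g y ≠ y := fun y => Perm.mem_support.mp (hfull ▸ Finset.mem_univ y)
    by_cases hnk : Fintype.card α ≤ k
    · obtain ⟨b, c, hbc⟩ : ∃ b c : α, b ≠ c := Fintype.one_lt_card_iff.mp (by omega)
      obtain ⟨x, hxG, hx⟩ := extend G hkn hG Finset.univ (by rw [Finset.card_univ]; exact hnk)
        (swap b c) (Equiv.injective _).injOn
      have hxs : x = swap b c := Equiv.ext (fun y => hx y (Finset.mem_univ y))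
      refine ⟨swap b c, hxs ▸ hxG, ?_, ?_⟩
      · intro h
        have h1 := congrArg (fun σ : Perm α => σ b) h
        simp only [swap_apply_left, Perm.one_apply] at h1
        exact hbc h1.symm
      · rw [Perm.card_support_swap hbc]; omega
    · push Not at hnk
      have hn5 : 5 ≤ Fintype.card α := by omega
      obtain ⟨b⟩ : Nonempty α := Fintype.card_pos_iff.mp (by omega)
      obtain ⟨c, hc⟩ : ∃ c, c = g b := ⟨_, rfl⟩
      have hcb : c ≠ b := hc ▸ hmove b
      obtain ⟨p, -, hp⟩ := Finset.exists_mem_notMem_of_card_lt_card
        (s := ({b, c} : Finset α)) (t := Finset.univ) (by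
          calc _ ≤ 2 := Finset.card_le_two
            _ < _ := by rw [Finset.card_univ]; omega)
      simp only [Finset.mem_insert, Finset.mem_singleton, not_or] at hp
      -- find x fixing b, c and not commuting with g
      have hex : ∃ x : Perm α, x ∈ G ∧ x b = b ∧ x c = c ∧ ∃ y, x (g y) ≠ g (x y) := by
        by_cases hq : g p = b
        · obtain ⟨p', -, hp'⟩ := Finset.exists_mem_notMem_of_card_lt_card
            (s := ({b, c, p} : Finset α)) (t := Finset.univ) (by
              calc _ ≤ 3 := Finset.card_le_three
                _ < _ := by rw [Finset.card_univ]; omega)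
          obtain ⟨x, hxG, hx⟩ := extend G hkn hG {b, c, p}
            (le_trans Finset.card_le_three (by omega)) (fun y => if y = p then p' else y)
            (injOn_update _ p p' hp')
          simp only [Finset.mem_insert, Finset.mem_singleton, not_or] at hp'
          have hxb : x b = b := by
            rw [hx b (by simp)]
            exact if_neg (fun h => hp.1 h.symm)
          have hxc : x c = c := by
            rw [hx c (by simp)]
            exact if_neg (fun h => hp.2 h.symm)
          have hxp : x p = p' := by
            rw [hx p (by simp)]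
            exact if_pos rfl
          refine ⟨x, hxG, hxb, hxc, p, ?_⟩
          rw [hq, hxb, hxp]
          intro h
          rw [← hq] at h
          exact hp'.2.2 (g.injective h).symm
        · obtain ⟨q, hqd⟩ : ∃ q, q = g p := ⟨_, rfl⟩
          obtain ⟨q', -, hq'⟩ := Finset.exists_mem_notMem_of_card_lt_card
            (s := ({b, c, p, q} : Finset α)) (t := Finset.univ) (by
              calc _ ≤ 4 := Finset.card_le_four
                _ < _ := by rw [Finset.card_univ]; omega)
          obtain ⟨x, hxG, hx⟩ := extend G hkn hG {b, c, p, q}
            (le_trans Finset.card_le_four hk4) (fun y => if y = q then q' else y)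
            (injOn_update _ q q' hq')
          simp only [Finset.mem_insert, Finset.mem_singleton, not_or] at hq'
          have hqb : q ≠ b := by rw [hqd]; exact hq
          have hqc : q ≠ c := by
            rw [hqd, hc]
            intro h
            exact hp.1 (g.injective h)
          have hqp : q ≠ p := by rw [hqd]; exact hmove p
          have hxb : x b = b := by
            rw [hx b (by simp)]
            exact if_neg (fun h => hqb h.symm)
          have hxc : x c = c := by
            rw [hx c (by simp)]
            exact if_neg (fun h => hqc h.symm)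
          have hxp : x p = p := by
            rw [hx p (by simp)]
            exact if_neg (fun h => hqp h.symm)
          have hxq : x q = q' := by
            rw [hx q (by simp)]
            exact if_pos rfl
          refine ⟨x, hxG, hxb, hxc, p, ?_⟩
          rw [← hqd, hxq, hxp, ← hqd]
          exact fun h => hq'.2.2.2 h
      obtain ⟨x, hxG, hxb, hxc, y, hy⟩ := hex
      refine ⟨g⁻¹ * (x * g * x⁻¹), comm_mem G hg hxG, ?_, ?_⟩
      · intro h
        apply hy
        have h1 : x * g * x⁻¹ = g := by
          have := congrArg (fun σ => g * σ) h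
          simpa using this
        have h2 : x * g = g * x := by
          have h3 := congrArg (fun σ => σ * x) h1
          simpa [mul_assoc] using h3
        have := congrArg (fun σ : Perm α => σ y) h2
        simpa [Perm.mul_apply] using this
      · have hb : b ∉ (g⁻¹ * (x * g * x⁻¹)).support := by
          rw [Perm.notMem_support, comm_apply]
          have h1 : x⁻¹ b = b := by rw [Perm.inv_eq_iff_eq]; exact hxb.symm
          rw [h1, ← hc, hxc, hc]
          simp
        have h1 : (g⁻¹ * (x * g * x⁻¹)).support ⊆ Finset.univ.erase b := by
          intro z hz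
          rw [Finset.mem_erase]
          exact ⟨fun h => hb (h ▸ hz), Finset.mem_univ z⟩
        have h2 := Finset.card_le_card h1
        rw [Finset.card_erase_of_mem (Finset.mem_univ b), Finset.card_univ] at h2
        omega
  · -- Case II : some fixed point c'
    obtain ⟨c', hc'⟩ : ∃ c', c' ∉ g.support := by
      by_contra hcon
      push Not at hcon
      exact hfull (Finset.eq_univ_iff_forall.mpr hcon)
    have hgc' : g c' = c' := Perm.notMem_support.mp hc'
    by_cases hmk : g.support.card ≤ k
    · -- II.1
      obtain ⟨b, hb⟩ : g.support.Nonempty := Finset.card_pos.mp (by omega)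
      obtain ⟨c, hc⟩ : ∃ c, c = g b := ⟨_, rfl⟩
      have hcΔ : c ∈ g.support := by rw [hc, Perm.apply_mem_support]; exact hb
      have hgcc : g c ≠ c := Perm.mem_support.mp hcΔ
      have hcc' : c ≠ c' := fun h => hc' (h ▸ hcΔ)
      obtain ⟨x, hxG, hx⟩ := extend G hkn hG g.support hmk (fun y => if y = c then c' else y)
        (injOn_update _ c c' hc')
      have hxA : ∀ y ∈ g.support.erase c, x y = y := by
        intro y hy
        rw [Finset.mem_erase] at hy
        rw [hx y hy.2]
        exact if_neg hy.1
      have hxc : x c = c' := by
        rw [hx c hcΔ]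
        exact if_pos rfl
      have hsub := support_comm_subset g x (g.support.erase c) (Finset.erase_subset _ _) hxA
      refine ⟨g⁻¹ * (x * g * x⁻¹), comm_mem G hg hxG, ?_, ?_⟩
      · intro h
        have h1 := congrArg (fun σ : Perm α => σ c') h
        simp only [Perm.one_apply] at h1
        rw [comm_apply] at h1
        have h2 : x⁻¹ c' = c := by rw [Perm.inv_eq_iff_eq]; exact hxc.symm
        rw [h2, hxA (g c) (Finset.mem_erase.mpr ⟨hgcc, Perm.apply_mem_support.mpr hcΔ⟩)] at h1
        simp at h1
        exact hcc' h1
      · have h3 : (g⁻¹ * (x * g * x⁻¹)).support ⊆ {c, g⁻¹ c, c'} := by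
          intro y hy
          have hy2 := hsub hy
          simp only [Finset.mem_insert, Finset.mem_singleton]
          rcases Finset.mem_union.mp hy2 with h | h
          · rw [Finset.mem_sdiff, Finset.mem_filter] at h
            by_cases hyc : y = c
            · exact Or.inl hyc
            · right; left
              have hyA : y ∈ g.support.erase c := Finset.mem_erase.mpr ⟨hyc, h.1⟩
              have h4 : g y ∉ g.support.erase c := fun h5 => h.2 ⟨hyA, h5⟩
              rw [Finset.mem_erase, not_and_or] at h4
              rcases h4 with h4 | h4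
              · push Not at h4
                rw [← h4]
                simp
              · exact absurd (Perm.apply_mem_support.mpr h.1) h4
          · right; right
            rw [Finset.mem_image] at h
            obtain ⟨z, hz, rfl⟩ := h
            rw [Finset.mem_sdiff, Finset.mem_erase, not_and_or] at hz
            rcases hz.2 with h4 | h4
            · push Not at h4
              rw [h4]
              exact hxc
            · exact absurd hz.1 h4
        have h4 := Finset.card_le_card h3
        have h5 : ({c, g⁻¹ c, c'} : Finset α).card ≤ 3 := Finset.card_le_three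
        omega
    · -- II.2
      push Not at hmk
      obtain ⟨A, hA, hAc, he⟩ := exists_almost_closed g (k - 1) (by omega)
      have hBE := Finset.card_filter_add_card_filter_not (s := A) (fun y => g y ∈ A)
      have hBsub : A.filter (fun y => g y ∈ A) ⊆ g.support :=
        (Finset.filter_subset _ _).trans hA
      have hBcard := Finset.card_sdiff_add_card_eq_card hBsub
      by_cases hE : A.filter (fun y => g y ∉ A) = ∅
      · -- closed
        rw [hE, Finset.card_empty, add_zero] at hBE
        obtain ⟨c, hcΔ, hcA⟩ : ∃ c ∈ g.support, c ∉ A := by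
          by_contra hcon
          push Not at hcon
          have h1 : g.support ⊆ A := hcon
          have h2 := Finset.card_le_card h1
          omega
        have hgcc : g c ≠ c := Perm.mem_support.mp hcΔ
        have hS : c' ∉ insert c A := by
          rw [Finset.mem_insert, not_or]
          exact ⟨fun h => hc' (h ▸ hcΔ), fun h => hc' (hA h)⟩
        obtain ⟨x, hxG, hx⟩ := extend G hkn hG (insert c A)
          (by rw [Finset.card_insert_of_notMem hcA]; omega) (fun y => if y = c then c' else y)
          (injOn_update _ c c' hS)
        have hxA : ∀ y ∈ A, x y = y := by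
          intro y hy
          rw [hx y (Finset.mem_insert_of_mem hy)]
          exact if_neg (fun h : y = c => hcA (h ▸ hy))
        have hxc : x c = c' := by
          rw [hx c (Finset.mem_insert_self _ _)]
          exact if_pos rfl
        have hsub := support_comm_subset g x A hA hxA
        refine ⟨g⁻¹ * (x * g * x⁻¹), comm_mem G hg hxG, ?_, ?_⟩
        · intro h
          have h1 := congrArg (fun σ : Perm α => σ c') h
          simp only [Perm.one_apply] at h1
          rw [comm_apply] at h1
          have h2 : x⁻¹ c' = c := by rw [Perm.inv_eq_iff_eq]; exact hxc.symm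
          rw [h2, Perm.inv_eq_iff_eq, hgc', ← hxc] at h1
          exact hgcc (x.injective h1.symm).symm
        · have h4 := (Finset.card_le_card hsub).trans (Finset.card_union_le _ _)
          have h5 : ((g.support \ A).image x).card ≤ (g.support \ A).card := Finset.card_image_le
          have h6 := Finset.card_sdiff_add_card_eq_card hA
          omega
      · -- one exit
        obtain ⟨b, hbE⟩ := Finset.nonempty_iff_ne_empty.mpr hE
        have hEcard : (A.filter (fun y => g y ∉ A)).card = 1 :=
          le_antisymm he (Finset.card_pos.mpr ⟨b, hbE⟩)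
        rw [Finset.mem_filter] at hbE
        obtain ⟨c, hc⟩ : ∃ c, c = g b := ⟨_, rfl⟩
        have hcA : c ∉ A := hc ▸ hbE.2
        have hcΔ : c ∈ g.support := by rw [hc, Perm.apply_mem_support]; exact hA hbE.1
        obtain ⟨d, hdΔ, hdS⟩ := Finset.exists_mem_notMem_of_card_lt_card
          (s := insert c A) (t := g.support) (by rw [Finset.card_insert_of_notMem hcA]; omega)
        obtain ⟨x, hxG, hx⟩ := extend G hkn hG (insert c A)
          (by rw [Finset.card_insert_of_notMem hcA]; omega) (fun y => if y = c then d else y)
          (injOn_update _ c d hdS)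
        have hxA : ∀ y ∈ A, x y = y := by
          intro y hy
          rw [hx y (Finset.mem_insert_of_mem hy)]
          exact if_neg (fun h : y = c => hcA (h ▸ hy))
        have hxc : x c = d := by
          rw [hx c (Finset.mem_insert_self _ _)]
          exact if_pos rfl
        rw [Finset.mem_insert, not_or] at hdS
        have hsub := support_comm_subset g x A hA hxA
        refine ⟨g⁻¹ * (x * g * x⁻¹), comm_mem G hg hxG, ?_, ?_⟩
        · intro h
          have h1 := congrArg (fun σ : Perm α => σ b) h
          simp only [Perm.one_apply] at h1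
          rw [comm_apply] at h1
          have h2 : x⁻¹ b = b := by rw [Perm.inv_eq_iff_eq]; exact (hxA b hbE.1).symm
          rw [h2, ← hc, hxc, Perm.inv_eq_iff_eq, ← hc] at h1
          exact hdS.1 h1
        · have hsub2 : (g⁻¹ * (x * g * x⁻¹)).support ⊆
              (g.support \ A.filter (fun y => g y ∈ A)) ∪ (g.support \ insert c A).image x := by
            intro y hy
            rcases Finset.mem_union.mp (hsub hy) with h | h
            · exact Finset.mem_union_left _ h
            · rw [Finset.mem_image] at h
              obtain ⟨z, hz, rfl⟩ := h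
              rw [Finset.mem_sdiff] at hz
              by_cases hzc : z = c
              · apply Finset.mem_union_left
                rw [hzc, hxc, Finset.mem_sdiff, Finset.mem_filter]
                exact ⟨hdΔ, fun h => hdS.2 h.1⟩
              · apply Finset.mem_union_right
                refine Finset.mem_image.mpr ⟨z, Finset.mem_sdiff.mpr ⟨hz.1, ?_⟩, rfl⟩
                rw [Finset.mem_insert, not_or]
                exact ⟨hzc, hz.2⟩
          have h4 := (Finset.card_le_card hsub2).trans (Finset.card_union_le _ _)
          have h5 : ((g.support \ insert c A).image x).card ≤ (g.support \ insert c A).card :=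
            Finset.card_image_le
          have h6 := Finset.card_sdiff_add_card_eq_card
            (Finset.insert_subset hcΔ hA : insert c A ⊆ g.support)
          rw [Finset.card_insert_of_notMem hcA] at h6
          omega


theorem main (G : Subgroup (Perm α)) {k : ℕ} (hk : 3 ≤ k) (hkn : k ≤ Fintype.card α)
    (hG : IsMultiplyPretransitive G α k) (g : Perm α) (hg : g ∈ G) (hg1 : g ≠ 1)
    (hsupp : g.support.card < 2 * k - 2) :
    (∃ h : Perm α, h ∈ G ∧ h ≠ 1 ∧ h.support.card ≤ 3) ∧ alternatingGroup α ≤ G := by
  have key : ∀ m : ℕ, ∀ g : Perm α, g ∈ G → g ≠ 1 → g.support.card = m → m + 3 ≤ 2 * k →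
      ∃ h : Perm α, h ∈ G ∧ h ≠ 1 ∧ h.support.card ≤ 3 := by
    intro m
    induction m using Nat.strong_induction_on with
    | _ m ih =>
      intro g hg hg1 hm hmk
      by_cases h3 : m ≤ 3
      · exact ⟨g, hg, hg1, hm ▸ h3⟩
      · push Not at h3
        obtain ⟨t, htG, ht1, htc⟩ := descent G hkn hG g hg (by omega) (by omega)
        exact ih t.support.card (by omega) t htG ht1 rfl (by omega)
  obtain ⟨h, hhG, hh1, hh3⟩ := key _ g hg hg1 rfl (by omega)
  refine ⟨⟨h, hhG, hh1, hh3⟩, ?_⟩
  have h2 : IsMultiplyPretransitive G α 2 :=
    isMultiplyPretransitive_of_le (G := G) (α := α) (n := k) (by omega)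
      (by rw [Nat.card_eq_fintype_card]; exact hkn)
  have hprim : IsPreprimitive G α := isPreprimitive_of_is_two_pretransitive h2
  have hc0 : h.support.card ≠ 0 := by
    rw [Ne, Perm.card_support_eq_zero]
    exact hh1
  have hc1 := Perm.card_support_ne_one h
  have hc : h.support.card = 2 ∨ h.support.card = 3 := by omega
  rcases hc with h2c | h3c
  · rw [Perm.card_support_eq_two] at h2c
    rw [subgroup_eq_top_of_isPreprimitive_of_isSwap_mem hprim h h2c hhG]
    exact le_top
  · rw [_root_.card_support_eq_three_iff] at h3c
    exact alternatingGroup_le_of_isPreprimitive_of_isThreeCycle_mem hprim h3c hhG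

end Cfsg.Agent.H2.KTransSupport
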