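import Cfsg.Agent.H2.LESDefs
import Cfsg.Agent.H2.Layer
import Cfsg.Agent.H2.PPrimeCore
import Cfsg.Agent.Lib.Helper4.LBalB
import Cfsg.Agent.H1.Cores
import Cfsg.Agent.H1.PGroup
import Cfsg.Agent.Lib.Lead.PGroup

/-!
# S5426 pieces (R0), (R1), (R2)
-/

set_option autoImplicit false
set_option linter.style.haveILetI false
set_option linter.unusedVariables false
set_option linter.unusedSectionVars false

namespace Cfsg.Agent.H2.LES

universe u
variable {G : Type u} [Group G] [Finite G] {Q : Subgroup G} {z : G}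

theorem eq_one_or_eq_of_mem_zpowers {g : G} (hz : orderOf z = 2) (hg : g ∈ Subgroup.zpowers z) :
    g = 1 ∨ g = z := by
  obtain ⟨k, rfl⟩ := Subgroup.mem_zpowers_iff.1 hg
  rw [← zpow_mod_orderOf z k, hz]
  rcases Int.emod_two_eq_zero_or_one k with h | h
  · left
    have : k % ((2 : ℕ) : ℤ) = 0 := by exact_mod_cast h
    rw [this, zpow_zero]
  · right
    have : k % ((2 : ℕ) : ℤ) = 1 := by exact_mod_cast h
    rw [this, zpow_one]

/-- (R0) -/
theorem ctx_of_hyps (hQ : Cfsg.IsLargeExtraspecial Q)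
    (hz : (Subgroup.center ↥Q).map Q.subtype = Subgroup.zpowers z) : Ctx Q z := by
  classical
  obtain ⟨⟨⟨hp, hfr, hcm⟩, hcard⟩, hcent, hnorm, hodd⟩ := hQ
  have hzmem : z ∈ (Subgroup.center ↥Q).map Q.subtype := hz ▸ Subgroup.mem_zpowers z
  have hzQ : z ∈ Q := by
    obtain ⟨y, -, rfl⟩ := hzmem
    exact y.2
  have hord : orderOf z = 2 := by
    rw [← Nat.card_zpowers, ← hz, Subgroup.card_map_of_injective Q.subtype_injective, hcard]
  have hz1 : z ≠ 1 := by
    intro h
    rw [h, orderOf_one] at hord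
    omega
  have hzsq : z * z = 1 := by
    have := pow_orderOf_eq_one z
    rw [hord, pow_two] at this
    exact this
  have hmemZ : ∀ y : ↥Q, y ∈ Subgroup.center ↥Q → (y : G) = 1 ∨ (y : G) = z := by
    intro y hy
    apply eq_one_or_eq_of_mem_zpowers hord
    rw [← hz]
    exact ⟨y, hy, rfl⟩
  refine ⟨hzQ, hz1, hzsq, hp, ?_, ?_, ?_, ?_, ?_, hodd⟩
  · intro a ha b hb
    have h1 : (⟨a, ha⟩ : ↥Q) * ⟨b, hb⟩ * (⟨a, ha⟩ : ↥Q)⁻¹ * (⟨b, hb⟩ : ↥Q)⁻¹ ∈ commutator ↥Q := by
      rw [commutator_def, ← commutatorElement_def]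
      exact Subgroup.commutator_mem_commutator (Subgroup.mem_top _) (Subgroup.mem_top _)
    rw [hcm] at h1
    have := hmemZ _ h1
    simpa using this
  · intro a ha
    haveI : Fact (Nat.Prime 2) := ⟨Nat.prime_two⟩
    have h1 := Cfsg.Agent.H1.pow_p_mem_frattini hp (⟨a, ha⟩ : ↥Q)
    rw [hfr] at h1
    have := hmemZ _ h1
    simpa [pow_two] using this
  · intro g hg
    have h1 : g ∈ Subgroup.centralizer (Q : Set G) := by
      rw [Subgroup.mem_centralizer_iff]
      intro a ha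
      exact (hg a ha).symm
    rw [hcent, hz] at h1
    exact eq_one_or_eq_of_mem_zpowers hord h1
  · intro a ha
    obtain ⟨y, hy, rfl⟩ := hzmem
    have := Subgroup.mem_center_iff.1 hy ⟨a, ha⟩
    have h2 := congrArg Subtype.val this
    simpa using h2.symm
  · intro g hg a ha
    have h1 : g ∈ Subgroup.centralizer
        (((Subgroup.center ↥Q).map Q.subtype : Subgroup G) : Set G) := by
      rw [hz, Subgroup.mem_centralizer_iff]
      intro y hy
      obtain ⟨k, rfl⟩ := Subgroup.mem_zpowers_iff.1 hy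
      exact ((Commute.zpow_right (show Commute g z from hg) k).eq).symm
    have h2 := hnorm h1
    exact (Subgroup.mem_normalizer_iff.1 h2 a).1 ha

/-- (R1a) a nontrivial 2-subgroup normalized by `Q` contains `z`. -/
theorem Ctx.z_mem_of_two_group (c : Ctx Q z) (X : Subgroup G) (hX : IsPGroup 2 ↥X) (hX1 : X ≠ ⊥)
    (hQX : Q ≤ Subgroup.normalizer (X : Set G)) : z ∈ X := by
  classical
  haveI : Fact (Nat.Prime 2) := ⟨Nat.prime_two⟩
  set P : Subgroup G := Q ⊔ X with hP
  have hPp : IsPGroup 2 ↥P := IsPGroup.to_sup_of_normal_right' c.pgrp hX hQX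
  have hXP : X ≤ P := le_sup_right
  have hQP : Q ≤ P := le_sup_left
  have hPn : P ≤ Subgroup.normalizer (X : Set G) := sup_le hQX Subgroup.le_normalizer
  haveI : (X.subgroupOf P).Normal := (Subgroup.normal_subgroupOf_iff_le_normalizer hXP).mpr hPn
  have hne : X.subgroupOf P ≠ ⊥ := by
    obtain ⟨x, hx⟩ := (Subgroup.ne_bot_iff_exists_ne_one).mp hX1
    intro h
    have h1 : (⟨x, hXP x.2⟩ : ↥P) ∈ X.subgroupOf P := Subgroup.mem_subgroupOf.mpr x.2
    rw [h, Subgroup.mem_bot] at h1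
    apply hx
    apply Subtype.ext
    exact congrArg (fun t : ↥P => (t : G)) h1
  obtain ⟨y, hyX, hyZ, hy1⟩ :=
    Cfsg.Agent.Lib.Lead.PGroup.exists_mem_center_of_normal hPp (X.subgroupOf P) hne
  have hyc : ∀ a ∈ Q, (y : G) * a = a * (y : G) := by
    intro a ha
    have := Subgroup.mem_center_iff.1 hyZ ⟨a, hQP ha⟩
    have h2 := congrArg Subtype.val this
    simpa using h2.symm
  rcases c.cent (y : G) hyc with h | h
  · exact absurd (Subtype.ext h) hy1
  · rw [← h]
    exact Subgroup.mem_subgroupOf.1 hyX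

/-- (R1b) `z` is central in every 2-subgroup containing `Q`. -/
theorem Ctx.z_comm_of_le (c : Ctx Q z) (T : Subgroup G) (hT : IsPGroup 2 ↥T) (hQT : Q ≤ T) :
    ∀ t ∈ T, z * t = t * z := by
  classical
  haveI : Fact (Nat.Prime 2) := ⟨Nat.prime_two⟩
  haveI : Nontrivial ↥T := by
    refine ⟨⟨⟨z, hQT c.zQ⟩, 1, ?_⟩⟩
    intro h
    exact c.z1 (congrArg Subtype.val h)
  haveI := hT.center_nontrivial
  obtain ⟨y, hy⟩ := exists_ne (1 : ↥(Subgroup.center ↥T))
  have hyc : ∀ a ∈ Q, ((y : ↥T) : G) * a = a * ((y : ↥T) : G) := by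
    intro a ha
    have := Subgroup.mem_center_iff.1 y.2 ⟨a, hQT ha⟩
    have h2 := congrArg Subtype.val this
    simpa using h2.symm
  have hyz : ((y : ↥T) : G) = z := by
    rcases c.cent _ hyc with h | h
    · exfalso
      apply hy
      apply Subtype.ext
      apply Subtype.ext
      exact h
    · exact h
  intro t ht
  have := Subgroup.mem_center_iff.1 y.2 ⟨t, ht⟩
  have h2 := congrArg Subtype.val this
  rw [← hyz]
  simpa using h2.symm

/-- (R2a) -/
theorem Ctx.pPrimeCore_eq_bot (c : Ctx Q z) : Cfsg.pPrimeCore 2 G = ⊥ := by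
  apply c.odd
  · have := Cfsg.Agent.H1.pPrimeCore_coprime (G := G) 2
    exact Nat.Coprime.odd_of_right this
  · have hn : (Cfsg.pPrimeCore 2 G).Normal := (Cfsg.Agent.H1.pPrimeCore_mem (G := G) 2).1
    rw [Subgroup.normalizer_eq_top_iff.2 hn]
    exact le_top

/-- (R2b) -/
theorem Ctx.eq_bot_of_isSubnormal_of_odd (c : Ctx Q z) (H : Subgroup G) (hH : H.IsSubnormal)
    (hodd : Odd (Nat.card H)) : H = ⊥ := by
  have h1 := Cfsg.Agent.H2.le_pPrimeCore_of_isSubnormal 2 hH
    (Nat.coprime_two_right.mpr hodd)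
  rw [c.pPrimeCore_eq_bot] at h1
  exact le_bot_iff.1 h1

/-- (R2c) -/
theorem Ctx.fitting_eq (c : Ctx Q z) : Cfsg.fittingSubgroup G = Cfsg.pCore 2 G := by
  haveI : Fact (Nat.Prime 2) := ⟨Nat.prime_two⟩
  exact Cfsg.Agent.Lib.Helper4.LBal.fittingSubgroup_eq_pCore c.pPrimeCore_eq_bot

end Cfsg.Agent.H2.LES
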