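import Cfsg.Agent.H2.LESBasic

/-!
# S5426 pieces (R4a), (R4a'), (R4a'')
-/

set_option autoImplicit false
set_option linter.style.haveILetI false
set_option linter.unusedVariables false
set_option linter.unusedSectionVars false

namespace Cfsg.Agent.H2.LES

universe u
variable {G : Type u} [Group G] [Finite G] {Q : Subgroup G} {z : G}

theorem Ctx.fitting_eq_bot (c : Ctx Q z) (h : Cfsg.pCore 2 G = ⊥) : Cfsg.fittingSubgroup G = ⊥ := by
  rw [c.fitting_eq, h]

/-- the centre of a component is trivial when `F(G) = 1` -/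
theorem center_component_eq_bot (hF1 : Cfsg.fittingSubgroup G = ⊥) (K : Subgroup G)
    (hK : Cfsg.IsComponent K) : Subgroup.center ↥K = ⊥ := by
  have hsub : ((Subgroup.center ↥K).map K.subtype).IsSubnormal := by
    refine Subgroup.IsSubnormal.step _ K (Cfsg.Agent.H2.map_subtype_le K _) hK.1 ?_
    have : ((Subgroup.center ↥K).map K.subtype).subgroupOf K = Subgroup.center ↥K := by
      ext y
      rw [Subgroup.mem_subgroupOf]
      constructor
      · rintro ⟨z, hz, hzy⟩
        have : z = y := Subtype.ext hzy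
        rwa [← this]
      · intro hy
        exact ⟨y, hy, rfl⟩
    rw [this]
    infer_instance
  have hcomm : ⁅(Subgroup.center ↥K).map K.subtype, (Subgroup.center ↥K).map K.subtype⁆ = ⊥ := by
    rw [Cfsg.Agent.H2.commutator_eq_bot_iff_forall_commute]
    rintro _ ⟨a, ha, rfl⟩ _ ⟨b, hb, rfl⟩
    have := (Subgroup.mem_center_iff.1 ha b)
    have h2 := congrArg Subtype.val this
    simpa using h2.symm
  have hnil := Cfsg.Agent.H2.isNilpotent_of_commutator_eq_bot _ hcomm
  have hle := Cfsg.Agent.H2.le_fittingSubgroup_of_isSubnormal_of_isNilpotent hsub hnil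
  rw [hF1, le_bot_iff] at hle
  exact (Subgroup.map_eq_bot_iff_of_injective _ K.subtype_injective).1 hle

/-- (R4a) components are simple, non-abelian, with trivial centre and even order. -/
theorem Ctx.component_facts (c : Ctx Q z) (h : Cfsg.pCore 2 G = ⊥) (K : Subgroup G)
    (hK : Cfsg.IsComponent K) :
    IsSimpleGroup ↥K ∧ ¬ IsMulCommutative ↥K ∧ (∀ x ∈ K, (∀ k ∈ K, x * k = k * x) → x = 1) ∧
      Even (Nat.card ↥K) := by
  classical
  have hZ : Subgroup.center ↥K = ⊥ := center_component_eq_bot (c.fitting_eq_bot h) K hK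
  refine ⟨?_, ?_, ?_, ?_⟩
  · haveI : Nontrivial ↥K := (Subgroup.nontrivial_iff_ne_bot K).2
      (Cfsg.Agent.H2.quasisimple_ne_bot hK.2)
    haveI := hK.2.2
    let f : (↥K ⧸ Subgroup.center ↥K) →* ↥K :=
      QuotientGroup.lift (Subgroup.center ↥K) (MonoidHom.id ↥K) (by
        intro y hy
        rw [hZ, Subgroup.mem_bot] at hy
        rw [hy]; exact Subgroup.one_mem _)
    have hf : Function.Surjective f := fun y => ⟨QuotientGroup.mk y, rfl⟩
    exact IsSimpleGroup.isSimpleGroup_of_surjective f hf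
  · intro hc
    apply Cfsg.Agent.H2.quasisimple_not_isSolvable hK.2
    exact Group.isSolvable_of_comm (fun a b => hc.is_comm.comm a b)
  · intro x hx hxc
    have h1 : (⟨x, hx⟩ : ↥K) ∈ Subgroup.center ↥K := by
      rw [Subgroup.mem_center_iff]
      intro k
      apply Subtype.ext
      exact (hxc k.1 k.2).symm
    rw [hZ, Subgroup.mem_bot] at h1
    exact congrArg Subtype.val h1
  · by_contra hne
    have hodd : Odd (Nat.card ↥K) := Nat.not_even_iff_odd.1 hne
    exact Cfsg.Agent.H2.quasisimple_ne_bot hK.2 (c.eq_bot_of_isSubnormal_of_odd K hK.1 hodd)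

/-- (R4a') there is a component. -/
theorem Ctx.exists_component (c : Ctx Q z) (h : Cfsg.pCore 2 G = ⊥) :
    ∃ K : Subgroup G, Cfsg.IsComponent K := by
  by_contra hne
  push Not at hne
  have hlayer : Cfsg.layer G = ⊥ := by
    rw [eq_bot_iff]
    exact Cfsg.Agent.H2.layer_le_iff.2 (fun L hL => absurd hL (hne L))
  have hFs : Cfsg.generalizedFittingSubgroup G = ⊥ := by
    unfold Cfsg.generalizedFittingSubgroup
    rw [hlayer, c.fitting_eq_bot h, sup_bot_eq]
  have h1 := Cfsg.Agent.H2.centralizer_generalizedFittingSubgroup_le (G := G)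
  rw [hFs] at h1
  have h2 : z ∈ Subgroup.centralizer (((⊥ : Subgroup G) : Subgroup G) : Set G) := by
    rw [Subgroup.mem_centralizer_iff]
    intro y hy
    have : y = 1 := by simpa using hy
    rw [this, one_mul, mul_one]
  exact c.z1 ((Subgroup.mem_bot).1 (h1 h2))

/-- (R4a'') only one component. -/
theorem Ctx.one_component (c : Ctx Q z) (h : Cfsg.pCore 2 G = ⊥) (K : Subgroup G)
    (hK : Cfsg.IsComponent K) (hall : ∀ K' : Subgroup G, Cfsg.IsComponent K' → K' = K) :
    Cfsg.generalizedFittingSubgroup G = K := by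
  have hlayer : Cfsg.layer G = K :=
    le_antisymm (Cfsg.Agent.H2.layer_le_iff.2 (fun L hL => (hall L hL).le))
      (Cfsg.Agent.H2.component_le_layer hK)
  unfold Cfsg.generalizedFittingSubgroup
  rw [hlayer, c.fitting_eq_bot h, sup_bot_eq]

/-- `F*(G) = E(G)` when `O₂(G) = 1`. -/
theorem Ctx.gfs_eq_layer (c : Ctx Q z) (h : Cfsg.pCore 2 G = ⊥) :
    Cfsg.generalizedFittingSubgroup G = Cfsg.layer G := by
  unfold Cfsg.generalizedFittingSubgroup
  rw [c.fitting_eq_bot h, sup_bot_eq]

end Cfsg.Agent.H2.LES
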