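import Mathlib
import Cfsg.Prelude.Def_MonsterType

/-!
# S5426 (large extraspecial 2-subgroups): working structures
-/

set_option autoImplicit false

namespace Cfsg.Agent.H2.LES

universe u
variable {G : Type u} [Group G]

/-- Working form of "`Q` is a large extraspecial 2-subgroup of `G` with `Z(Q) = ⟨z⟩`". -/
structure Ctx (Q : Subgroup G) (z : G) : Prop where
  zQ : z ∈ Q
  z1 : z ≠ 1
  zsq : z * z = 1
  pgrp : IsPGroup 2 ↥Q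
  comm : ∀ a ∈ Q, ∀ b ∈ Q, a * b * a⁻¹ * b⁻¹ = 1 ∨ a * b * a⁻¹ * b⁻¹ = z
  sq : ∀ a ∈ Q, a * a = 1 ∨ a * a = z
  cent : ∀ g : G, (∀ a ∈ Q, g * a = a * g) → g = 1 ∨ g = z
  zc : ∀ a ∈ Q, z * a = a * z
  norm : ∀ g : G, g * z = z * g → ∀ a ∈ Q, g * a * g⁻¹ ∈ Q
  odd : ∀ K : Subgroup G, Odd (Nat.card K) → Q ≤ Subgroup.normalizer (K : Set G) → K = ⊥

/-- Two commuting subgroups `K`, `u K u⁻¹` meeting trivially, with `z = z₁ (u z₁ u⁻¹)`, `z₁ ∈ K`,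
`u ∈ Q`. -/
structure Two (Q : Subgroup G) (z : G) (K : Subgroup G) (u z₁ : G) : Prop where
  uQ : u ∈ Q
  z₁K : z₁ ∈ K
  hz : z = z₁ * (u * z₁ * u⁻¹)
  disj : ∀ x ∈ K, ∀ y ∈ K, x = u * y * u⁻¹ → x = 1
  comm : ∀ x ∈ K, ∀ y ∈ K, x * (u * y * u⁻¹) = (u * y * u⁻¹) * x

end Cfsg.Agent.H2.LES
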