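import Cfsg.Agent.H2.LESComp
import Cfsg.Agent.Lib.Helper6.LESR4c

/-!
# S5426 piece (R4f-1)
-/

set_option autoImplicit false
set_option linter.style.haveILetI false
set_option linter.unusedVariables false
set_option linter.unusedSectionVars false

namespace Cfsg.Agent.H2.LES

open scoped Pointwise

universe u
variable {G : Type u} [Group G] [Finite G] {Q : Subgroup G} {z : G}

/-- (R4f-1) exactly two components `K`, `u K u⁻¹`: decomposition of `z`. -/
theorem Ctx.two_decomp (c : Ctx Q z) (h : Cfsg.pCore 2 G = ⊥) (K : Subgroup G)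
    (hK : Cfsg.IsComponent K) (u : G) (hu : u ∈ Q)
    (hne : K.map (MulAut.conj u).toMonoidHom ≠ K)
    (hall : ∀ K'' : Subgroup G, Cfsg.IsComponent K'' →
      K'' = K ∨ K'' = K.map (MulAut.conj u).toMonoidHom) :
    K ⊔ K.map (MulAut.conj u).toMonoidHom = Cfsg.generalizedFittingSubgroup G ∧
      ∃ z₁ : G, Two Q z K u z₁ := by
  classical
  set K' : Subgroup G := K.map (MulAut.conj u).toMonoidHom with hK'def
  have hK' : Cfsg.IsComponent K' := Cfsg.Agent.H2.component_conj hK u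
  have hmemK' : ∀ y : G, y ∈ K' ↔ ∃ b ∈ K, y = u * b * u⁻¹ := by
    intro y
    constructor
    · rintro ⟨b, hb, rfl⟩
      exact ⟨b, hb, by simp [MulAut.conj_apply]⟩
    · rintro ⟨b, hb, rfl⟩
      exact ⟨b, hb, by simp [MulAut.conj_apply]⟩
  have hcomm : ∀ a ∈ K, ∀ b ∈ K', a * b = b * a :=
    (Cfsg.Agent.H2.commutator_eq_bot_iff_forall_commute _ _).1
      (Cfsg.Agent.H2.components_commute hK hK' hne.symm)
  obtain ⟨-, -, hcen, -⟩ := c.component_facts h K hK
  have hdisj : ∀ x : G, x ∈ K → x ∈ K' → x = 1 := by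
    intro x hx hx'
    apply hcen x hx
    intro k hk
    exact (hcomm k hk x hx').symm
  -- the layer
  have hlayer : Cfsg.layer G = K ⊔ K' := by
    apply le_antisymm
    · apply Cfsg.Agent.H2.layer_le_iff.2
      intro L hL
      rcases hall L hL with h1 | h1
      · rw [h1]; exact le_sup_left
      · rw [h1]; exact le_sup_right
    · exact sup_le (Cfsg.Agent.H2.component_le_layer hK) (Cfsg.Agent.H2.component_le_layer hK')
  have hFs : K ⊔ K' = Cfsg.generalizedFittingSubgroup G := by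
    rw [c.gfs_eq_layer h, hlayer]
  refine ⟨hFs, ?_⟩
  -- `u K' u⁻¹ = K`
  have hK'' : K'.map (MulAut.conj u).toMonoidHom = K := by
    have hc : Cfsg.IsComponent (K'.map (MulAut.conj u).toMonoidHom) :=
      Cfsg.Agent.H2.component_conj hK' u
    rcases hall _ hc with h1 | h1
    · exact h1
    · exfalso
      apply hne
      exact Subgroup.map_injective (MulAut.conj u).injective h1
  have hconjK' : ∀ y ∈ K', u * y * u⁻¹ ∈ K := by
    intro y hy
    rw [← hK'']
    exact ⟨y, hy, by simp [MulAut.conj_apply]⟩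
  -- decompose `z`
  have hzmem : z ∈ K ⊔ K' := by
    rw [← hlayer]
    exact c.z_mem_layer h
  have hle : K ≤ Subgroup.normalizer (K' : Set G) := by
    intro a ha
    rw [Subgroup.mem_normalizer_iff]
    intro y
    have e : ∀ y ∈ K', a * y * a⁻¹ = y := by
      intro y hy
      rw [hcomm a ha y hy]; group
    constructor
    · intro hy
      rw [e y hy]; exact hy
    · intro hy
      have h2 : a⁻¹ * (a * y * a⁻¹) * a⁻¹⁻¹ ∈ K' := by
        have ha' : a⁻¹ ∈ K := K.inv_mem ha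
        have e' : a⁻¹ * (a * y * a⁻¹) * a⁻¹⁻¹ = a * y * a⁻¹ := by
          have := hcomm a⁻¹ ha' _ hy
          rw [this]; group
        rw [e']; exact hy
      have e3 : a⁻¹ * (a * y * a⁻¹) * a⁻¹⁻¹ = y := by group
      rwa [e3] at h2
  have hset : ((K ⊔ K' : Subgroup G) : Set G) = (K : Set G) * (K' : Set G) :=
    Subgroup.coe_mul_of_left_le_normalizer_right K K' hle
  have hz' : z ∈ (K : Set G) * (K' : Set G) := by
    rw [← hset]; exact hzmem
  obtain ⟨a, ha, b', hb', hab⟩ := Set.mem_mul.1 hz'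
  have ha : a ∈ K := ha
  have hb' : b' ∈ K' := hb'
  -- conjugate by `u`
  have hzu : u * z * u⁻¹ = z := by
    have := c.zc u hu
    rw [← this]; group
  have h1 : (u * b' * u⁻¹) * (u * a * u⁻¹) = a * b' := by
    have ha' : u * a * u⁻¹ ∈ K' := (hmemK' _).2 ⟨a, ha, rfl⟩
    have hb'' : u * b' * u⁻¹ ∈ K := hconjK' b' hb'
    rw [hcomm _ hb'' _ ha', hab]
    calc u * a * u⁻¹ * (u * b' * u⁻¹) = u * (a * b') * u⁻¹ := by group
      _ = z := by rw [hab, hzu]
  have h2 : (u * b' * u⁻¹)⁻¹ * a = (u * a * u⁻¹) * b'⁻¹ := by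
    have : a = (u * b' * u⁻¹) * (u * a * u⁻¹) * b'⁻¹ := by rw [h1]; group
    calc (u * b' * u⁻¹)⁻¹ * a = (u * b' * u⁻¹)⁻¹ * ((u * b' * u⁻¹) * (u * a * u⁻¹) * b'⁻¹) := by
          rw [← this]
      _ = (u * a * u⁻¹) * b'⁻¹ := by group
  have h3 : (u * b' * u⁻¹)⁻¹ * a = 1 := by
    apply hdisj
    · exact K.mul_mem (K.inv_mem (hconjK' b' hb')) ha
    · rw [h2]
      exact K'.mul_mem ((hmemK' _).2 ⟨a, ha, rfl⟩) (K'.inv_mem hb')
  have h4 : b' = u * a * u⁻¹ := by
    have : (u * a * u⁻¹) * b'⁻¹ = 1 := by rw [← h2]; exact h3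
    have h5 := mul_eq_one_iff_eq_inv.1 this
    rw [inv_inv] at h5
    exact h5.symm
  refine ⟨a, hu, ha, ?_, ?_, ?_⟩
  · rw [← h4]; exact hab.symm
  · intro x hx y hy hxy
    exact hdisj x hx ((hmemK' x).2 ⟨y, hy, hxy⟩)
  · intro x hx y hy
    exact hcomm x hx _ ((hmemK' _).2 ⟨y, hy, rfl⟩)

end Cfsg.Agent.H2.LES
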