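import Mathlib

set_option autoImplicit false

namespace Cfsg.Agent.H2

variable {Q : Type*} [Group Q]

/-- The fixed-point subgroup of an endomorphism. -/
def fixedSubgroup (β : Q →* Q) : Subgroup Q := β.eqLocus (MonoidHom.id Q)

theorem mem_fixedSubgroup (β : Q →* Q) (q : Q) : q ∈ fixedSubgroup β ↔ β q = q := Iff.rfl

/-- The "Lang map" `q ↦ q⁻¹ β(q)` has image of size `|Q| / |C_Q(β)|`. -/
theorem card_range_lang_mul_card_fixed [Finite Q] (β : Q →* Q) :
    Nat.card (Set.range (fun q : Q => q⁻¹ * β q)) * Nat.card (fixedSubgroup β) = Nat.card Q := by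
  set C := fixedSubgroup β with hC
  -- σ : Q ⧸ C → Q, gC ↦ g β(g)⁻¹
  let σ : Q ⧸ C → Q := Quotient.lift (fun g : Q => g * (β g)⁻¹) (by
    intro a b hab
    have hab' : a⁻¹ * b ∈ C := QuotientGroup.leftRel_apply.1 hab
    rw [hC, mem_fixedSubgroup, map_mul, map_inv] at hab'
    show a * (β a)⁻¹ = b * (β b)⁻¹
    -- (β a)⁻¹ * β b = a⁻¹ * b
    calc a * (β a)⁻¹ = a * ((β a)⁻¹ * β b) * (β b)⁻¹ := by group
      _ = a * (a⁻¹ * b) * (β b)⁻¹ := by rw [hab']
      _ = b * (β b)⁻¹ := by group)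
  have hσinj : Function.Injective σ := by
    intro x y
    refine Quotient.inductionOn₂ x y ?_
    intro a b h
    have h' : a * (β a)⁻¹ = b * (β b)⁻¹ := h
    apply Quotient.sound
    apply QuotientGroup.leftRel_apply.2
    rw [hC, mem_fixedSubgroup, map_mul, map_inv]
    calc (β a)⁻¹ * β b = a⁻¹ * (a * (β a)⁻¹) * β b := by group
      _ = a⁻¹ * (b * (β b)⁻¹) * β b := by rw [h']
      _ = a⁻¹ * b := by group
  have hrange : Set.range (fun q : Q => q⁻¹ * β q) = Set.range σ := by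
    ext y
    constructor
    · rintro ⟨q, rfl⟩
      refine ⟨QuotientGroup.mk q⁻¹, ?_⟩
      show q⁻¹ * (β q⁻¹)⁻¹ = q⁻¹ * β q
      rw [map_inv, inv_inv]
    · rintro ⟨x, rfl⟩
      refine Quotient.inductionOn x ?_
      intro a
      refine ⟨a⁻¹, ?_⟩
      show a⁻¹⁻¹ * β a⁻¹ = a * (β a)⁻¹
      rw [inv_inv, map_inv]
  rw [hrange, Nat.card_range_of_injective hσinj, ← Subgroup.index_eq_card, Subgroup.index_mul_card]

end Cfsg.Agent.H2
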