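import Mathlib
import Cfsg.Prelude.Def_LinearParabolics

namespace Cfsg.Agent.H2.ParabolicCount

open Matrix Finset

variable {F : Type*} [Field F]

section General

variable {ι : Type*} [Fintype ι] [DecidableEq ι] {α : Type*} [LinearOrder α] (b : ι → α)

omit [Field F] [Fintype ι] [DecidableEq ι] [LinearOrder α] in
theorem toSquareBlock_apply' (M : Matrix ι ι F) (k : α) (i j : {i // b i = k}) :
    M.toSquareBlock b k i j = M i.1 j.1 := rfl

/-- a block triangular matrix is the same as its diagonal blocks and its strictly upper entries -/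
def btEquiv : {M : Matrix ι ι F // M.BlockTriangular b} ≃
    ((a : α) → Matrix {i // b i = a} {i // b i = a} F) × ({p : ι × ι // b p.1 < b p.2} → F) where
  toFun M := (fun a => M.1.toSquareBlock b a, fun p => M.1 p.1.1 p.1.2)
  invFun x := ⟨fun i j => if h : b i = b j then x.1 (b i) ⟨i, rfl⟩ ⟨j, h.symm⟩
      else if h' : b i < b j then x.2 ⟨(i, j), h'⟩ else 0, by
    intro i j hij
    have h1 : ¬ b i = b j := fun h => by rw [h] at hij; exact lt_irrefl _ hij
    have h2 : ¬ b i < b j := fun h => lt_asymm h hij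
    simp only [dif_neg h1, dif_neg h2]⟩
  left_inv M := by
    apply Subtype.ext
    ext i j
    by_cases h : b i = b j
    · simp only [dif_pos h, toSquareBlock_apply']
    · by_cases h' : b i < b j
      · simp only [dif_neg h, dif_pos h']
      · simp only [dif_neg h, dif_neg h']
        exact (M.2 (lt_of_le_of_ne (not_lt.mp h') (Ne.symm h))).symm
  right_inv x := by
    apply Prod.ext
    · funext a
      ext ⟨i, hi⟩ ⟨j, hj⟩
      subst hi
      have h : b i = b j := hj.symm
      change (if h : b i = b j then x.1 (b i) ⟨i, rfl⟩ ⟨j, h.symm⟩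
        else if h' : b i < b j then x.2 ⟨(i, j), h'⟩ else 0) = _
      rw [dif_pos h]
    · funext ⟨⟨i, j⟩, hp⟩
      have h1 : ¬ b i = b j := ne_of_lt hp
      change (if h : b i = b j then x.1 (b i) ⟨i, rfl⟩ ⟨j, h.symm⟩
        else if h' : b i < b j then x.2 ⟨(i, j), h'⟩ else 0) = _
      rw [dif_neg h1, dif_pos hp]

/-- invertible matrices as a subtype -/
noncomputable def glEquiv (κ : Type*) [Fintype κ] [DecidableEq κ] :
    GL κ F ≃ {D : Matrix κ κ F // IsUnit D.det} where
  toFun g := ⟨g.1, (Matrix.isUnit_iff_isUnit_det _).mp g.isUnit⟩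
  invFun D := Matrix.GeneralLinearGroup.mk'' D.1 D.2
  left_inv g := Units.ext rfl
  right_inv D := Subtype.ext rfl

variable [Fintype F] [Fintype α]

omit [Fintype F] in
theorem isUnit_det_iff (M : {M : Matrix ι ι F // M.BlockTriangular b}) :
    IsUnit M.1.det ↔ ∀ a, IsUnit ((btEquiv b M).1 a).det := by
  rw [M.2.det_fintype]
  simp only [isUnit_iff_ne_zero, Finset.prod_ne_zero_iff, Finset.mem_univ, true_implies]
  rfl

/-- the block triangular invertible matrices, decomposed -/
noncomputable def btUnitsEquiv : {g : GL ι F // (g : Matrix ι ι F).BlockTriangular b} ≃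
    ((a : α) → GL {i // b i = a} F) × ({p : ι × ι // b p.1 < b p.2} → F) :=
  let e1 : {g : GL ι F // (g : Matrix ι ι F).BlockTriangular b} ≃
      {M : {M : Matrix ι ι F // M.BlockTriangular b} // IsUnit M.1.det} :=
    { toFun := fun g => ⟨⟨g.1.1, g.2⟩, (Matrix.isUnit_iff_isUnit_det _).mp g.1.isUnit⟩
      invFun := fun M => ⟨Matrix.GeneralLinearGroup.mk'' M.1.1 M.2, M.1.2⟩
      left_inv := fun g => Subtype.ext (Units.ext rfl)
      right_inv := fun M => Subtype.ext (Subtype.ext rfl) }
  let e2 : {M : {M : Matrix ι ι F // M.BlockTriangular b} // IsUnit M.1.det} ≃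
      {x : ((a : α) → Matrix {i // b i = a} {i // b i = a} F) ×
        ({p : ι × ι // b p.1 < b p.2} → F) // ∀ a, IsUnit (x.1 a).det} :=
    (btEquiv b).subtypeEquiv (fun M => isUnit_det_iff b M)
  let e3 : {x : ((a : α) → Matrix {i // b i = a} {i // b i = a} F) ×
        ({p : ι × ι // b p.1 < b p.2} → F) // ∀ a, IsUnit (x.1 a).det} ≃
      {D : (a : α) → Matrix {i // b i = a} {i // b i = a} F // ∀ a, IsUnit (D a).det} ×
        ({p : ι × ι // b p.1 < b p.2} → F) :=
    { toFun := fun x => (⟨x.1.1, x.2⟩, x.1.2)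
      invFun := fun y => ⟨(y.1.1, y.2), y.1.2⟩
      left_inv := fun x => rfl
      right_inv := fun y => rfl }
  let e4 : {D : (a : α) → Matrix {i // b i = a} {i // b i = a} F // ∀ a, IsUnit (D a).det} ≃
      ((a : α) → GL {i // b i = a} F) :=
    (Equiv.subtypePiEquivPi (β := fun a => Matrix {i // b i = a} {i // b i = a} F)
      (p := fun a D => IsUnit D.det)).trans
      (Equiv.piCongrRight fun a => (glEquiv {i // b i = a}).symm)
  e1.trans (e2.trans (e3.trans (Equiv.prodCongr e4 (Equiv.refl _))))

theorem card_bt_units : Nat.card {g : GL ι F // (g : Matrix ι ι F).BlockTriangular b} =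
    (∏ a, Nat.card (GL {i // b i = a} F)) *
      Fintype.card F ^ Fintype.card {p : ι × ι // b p.1 < b p.2} := by
  rw [Nat.card_congr (btUnitsEquiv b), Nat.card_prod, Nat.card_pi, Nat.card_fun,
    Nat.card_eq_fintype_card, Nat.card_eq_fintype_card]

end General

section Pairs

variable {ι : Type*} [Fintype ι] [DecidableEq ι] {α : Type*} [Fintype α] [LinearOrder α] (b : ι → α)

theorem card_pairs :
    Fintype.card ι ^ 2 = 2 * Fintype.card {p : ι × ι // b p.1 < b p.2} +
      ∑ a, Fintype.card {i // b i = a} ^ 2 := by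
  classical
  have h0 : Fintype.card ι ^ 2 = (Finset.univ : Finset (ι × ι)).card := by
    rw [Finset.card_univ, Fintype.card_prod, sq]
  have h1 := Finset.card_filter_add_card_filter_not (s := (Finset.univ : Finset (ι × ι)))
    (fun p => b p.1 < b p.2)
  have h2 := Finset.card_filter_add_card_filter_not
    (s := (Finset.univ : Finset (ι × ι)).filter (fun p => ¬ b p.1 < b p.2))
    (fun p => b p.2 < b p.1)
  have h3 : (((Finset.univ : Finset (ι × ι)).filter (fun p => ¬ b p.1 < b p.2)).filter
      (fun p => b p.2 < b p.1)).card =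
      ((Finset.univ : Finset (ι × ι)).filter (fun p => b p.1 < b p.2)).card := by
    apply Finset.card_bij (fun p _ => (p.2, p.1))
    · intro p hp
      simp only [Finset.mem_filter, Finset.mem_univ, true_and] at hp ⊢
      exact hp.2
    · intro p _ p' _ h
      simp only [Prod.mk.injEq] at h
      exact Prod.ext h.2 h.1
    · intro p hp
      simp only [Finset.mem_filter, Finset.mem_univ, true_and] at hp
      refine ⟨(p.2, p.1), ?_, rfl⟩
      simp only [Finset.mem_filter, Finset.mem_univ, true_and]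
      exact ⟨lt_asymm hp, hp⟩
  have h4 : (((Finset.univ : Finset (ι × ι)).filter (fun p => ¬ b p.1 < b p.2)).filter
      (fun p => ¬ b p.2 < b p.1)) =
      (Finset.univ : Finset (ι × ι)).filter (fun p => b p.1 = b p.2) := by
    ext p
    simp only [Finset.mem_filter, Finset.mem_univ, true_and]
    constructor
    · rintro ⟨h, h'⟩
      exact le_antisymm (not_lt.mp h') (not_lt.mp h)
    · intro h
      rw [h]
      exact ⟨lt_irrefl _, lt_irrefl _⟩
  have h5 : ((Finset.univ : Finset (ι × ι)).filter (fun p => b p.1 = b p.2)).card =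
      ∑ a, Fintype.card {i // b i = a} ^ 2 := by
    rw [Finset.card_eq_sum_card_fiberwise (f := fun p : ι × ι => b p.1) (t := Finset.univ)
      (fun _ _ => Finset.mem_univ _)]
    refine Finset.sum_congr rfl fun a _ => ?_
    have h6 : ((Finset.univ : Finset (ι × ι)).filter (fun p => b p.1 = b p.2)).filter
        (fun p => b p.1 = a) =
        ((Finset.univ : Finset ι).filter (fun i => b i = a)) ×ˢ
          ((Finset.univ : Finset ι).filter (fun i => b i = a)) := by
      ext p
      simp only [Finset.mem_filter, Finset.mem_univ, true_and, Finset.mem_product]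
      constructor
      · rintro ⟨h, h'⟩
        exact ⟨h', h ▸ h'⟩
      · rintro ⟨h, h'⟩
        exact ⟨h.trans h'.symm, h⟩
    rw [h6, Finset.card_product, Fintype.card_subtype, sq]
  rw [h4] at h2
  rw [h3] at h2
  rw [Fintype.card_subtype, h0, ← h5]
  omega

end Pairs

section Arith

/-- `{m} = ∏_{j<m} (1 + q + ⋯ + q^j)` -/
def qfact (q m : ℕ) : ℕ := ∏ j ∈ Finset.range m, ∑ l ∈ Finset.range (j + 1), q ^ l

theorem geom_succ (q k : ℕ) (hq : 1 ≤ q) : (q - 1) * (∑ l ∈ Finset.range k, q ^ l) + 1 = q ^ k := by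
  induction k with
  | zero => simp
  | succ k ih =>
    rw [Finset.sum_range_succ, mul_add, pow_succ]
    have h1 : (q - 1) * q ^ k + q ^ k = q ^ k * q := by
      obtain ⟨r, rfl⟩ : ∃ r, q = r + 1 := ⟨q - 1, by omega⟩
      simp only [Nat.add_sub_cancel]
      ring
    omega

theorem gl_order_eq (q m : ℕ) (hq : 1 ≤ q) :
    ∏ i ∈ Finset.range m, (q ^ m - q ^ i) =
      q ^ (∑ i ∈ Finset.range m, i) * (q - 1) ^ m * qfact q m := by
  have h1 : ∀ i ∈ Finset.range m, q ^ m - q ^ i =
      q ^ i * ((q - 1) * ∑ l ∈ Finset.range (m - 1 - i + 1), q ^ l) := by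
    intro i hi
    have him : i < m := Finset.mem_range.mp hi
    have h2 := geom_succ q (m - 1 - i + 1) hq
    have h3 : m = i + (m - 1 - i + 1) := by omega
    have h4 : q ^ m = q ^ i * q ^ (m - 1 - i + 1) := by rw [← pow_add, ← h3]
    rw [h4, ← h2, mul_add, mul_one, Nat.add_sub_cancel]
  rw [Finset.prod_congr rfl h1, Finset.prod_mul_distrib, Finset.prod_mul_distrib,
    Finset.prod_pow_eq_pow_sum, Finset.prod_const, Finset.card_range, mul_assoc]
  congr 2
  unfold qfact
  exact Finset.prod_range_reflect (fun j => ∑ l ∈ Finset.range (j + 1), q ^ l) m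

end Arith

section CardGL

variable [Fintype F]

theorem card_GL (κ : Type*) [Fintype κ] [DecidableEq κ] :
    Nat.card (GL κ F) = ∏ i ∈ Finset.range (Fintype.card κ),
      (Fintype.card F ^ Fintype.card κ - Fintype.card F ^ i) := by
  have e : GL κ F ≃* GL (Fin (Fintype.card κ)) F :=
    Units.mapEquiv (Matrix.reindexAlgEquiv F F (Fintype.equivFin κ)).toMulEquiv
  rw [Nat.card_congr e.toEquiv, Matrix.card_GL_field,
    Fin.prod_univ_eq_prod_range (fun i => Fintype.card F ^ Fintype.card κ - Fintype.card F ^ i)]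

end CardGL

section Index

variable [Fintype F] {ι : Type*} [Fintype ι] [DecidableEq ι] {α : Type*} [Fintype α]
  [LinearOrder α] (b : ι → α)

theorem sum_card_blocks : ∑ a, Fintype.card {i // b i = a} = Fintype.card ι := by
  classical
  rw [← Finset.card_univ (α := ι), Finset.card_eq_sum_card_fiberwise (f := b) (t := Finset.univ)
    (fun _ _ => Finset.mem_univ _)]
  exact Finset.sum_congr rfl fun a _ => Fintype.card_subtype _

theorem sq_eq (k : ℕ) : k ^ 2 = 2 * (∑ i ∈ Finset.range k, i) + k := by
  have h := Finset.sum_range_id_mul_two k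
  cases k with
  | zero => simp
  | succ k =>
    simp only [Nat.add_sub_cancel] at h
    have : (k + 1) ^ 2 = (k + 1) * k + (k + 1) := by ring
    omega

theorem exponent_identity :
    ∑ i ∈ Finset.range (Fintype.card ι), i =
      Fintype.card {p : ι × ι // b p.1 < b p.2} +
        ∑ a, ∑ i ∈ Finset.range (Fintype.card {i // b i = a}), i := by
  have h1 := card_pairs b
  have h2 := sum_card_blocks b
  have h3 : ∑ a, Fintype.card {i // b i = a} ^ 2 =
      2 * (∑ a, ∑ i ∈ Finset.range (Fintype.card {i // b i = a}), i) +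
        ∑ a, Fintype.card {i // b i = a} := by
    rw [Finset.mul_sum, ← Finset.sum_add_distrib]
    exact Finset.sum_congr rfl fun a _ => sq_eq _
  have h4 := sq_eq (Fintype.card ι)
  omega

/-- the index formula for a block triangular subgroup -/
theorem index_formula (P : Subgroup (GL ι F))
    (hP : ∀ g, g ∈ P ↔ (g : Matrix ι ι F).BlockTriangular b) :
    P.index * ∏ a, qfact (Fintype.card F) (Fintype.card {i // b i = a}) =
      qfact (Fintype.card F) (Fintype.card ι) := by
  obtain ⟨q, hq⟩ : ∃ q, q = Fintype.card F := ⟨_, rfl⟩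
  have hq2 : 2 ≤ q := hq ▸ Fintype.one_lt_card
  have hq1 : 1 ≤ q := by omega
  have hcardP : Nat.card P = (∏ a, Nat.card (GL {i // b i = a} F)) *
      q ^ Fintype.card {p : ι × ι // b p.1 < b p.2} := by
    rw [hq, ← card_bt_units b]
    exact Nat.card_congr (Equiv.subtypeEquivRight hP)
  have hblk : ∀ a, Nat.card (GL {i // b i = a} F) =
      q ^ (∑ i ∈ Finset.range (Fintype.card {i // b i = a}), i) *
        (q - 1) ^ Fintype.card {i // b i = a} * qfact q (Fintype.card {i // b i = a}) := by
    intro a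
    rw [card_GL, ← hq, gl_order_eq q _ hq1]
  have hG : Nat.card (GL ι F) = q ^ (∑ i ∈ Finset.range (Fintype.card ι), i) *
      (q - 1) ^ Fintype.card ι * qfact q (Fintype.card ι) := by
    rw [card_GL, ← hq, gl_order_eq q _ hq1]
  have hLag := P.index_mul_card
  rw [hcardP, hG, Finset.prod_congr rfl (fun a _ => hblk a), Finset.prod_mul_distrib,
    Finset.prod_mul_distrib, Finset.prod_pow_eq_pow_sum, Finset.prod_pow_eq_pow_sum,
    sum_card_blocks b, exponent_identity b] at hLag
  rw [← hq]
  have hc : 0 < q ^ (Fintype.card {p : ι × ι // b p.1 < b p.2} +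
      ∑ a, ∑ i ∈ Finset.range (Fintype.card {i // b i = a}), i) * (q - 1) ^ Fintype.card ι := by
    apply Nat.mul_pos
    · exact pow_pos (by omega) _
    · exact pow_pos (by omega) _
  apply Nat.eq_of_mul_eq_mul_right hc
  have e1 : qfact q (Fintype.card ι) * (q ^ (Fintype.card {p : ι × ι // b p.1 < b p.2} +
      ∑ a, ∑ i ∈ Finset.range (Fintype.card {i // b i = a}), i) * (q - 1) ^ Fintype.card ι) =
      q ^ (Fintype.card {p : ι × ι // b p.1 < b p.2} +
      ∑ a, ∑ i ∈ Finset.range (Fintype.card {i // b i = a}), i) * (q - 1) ^ Fintype.card ι *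
        qfact q (Fintype.card ι) := by ring
  rw [e1, ← hLag, pow_add]
  ring

end Index

section Label

variable {n : ℕ} (μ : Fin n → ℕ)

/-- partial sums of the composition -/
def psum (a : ℕ) : ℕ := ∑ k : Fin n, if k.val < a then μ k else 0

theorem psum_zero : psum μ 0 = 0 := by
  unfold psum
  simp

theorem psum_succ (a : ℕ) (h : a < n) : psum μ (a + 1) = psum μ a + μ ⟨a, h⟩ := by
  unfold psum
  have h1 : ∀ k : Fin n, (if k.val < a + 1 then μ k else 0) =
      (if k.val < a then μ k else 0) + (if k = ⟨a, h⟩ then μ k else 0) := by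
    intro k
    by_cases h1 : k.val < a
    · have h2 : k ≠ ⟨a, h⟩ := fun hk => by rw [hk] at h1; exact lt_irrefl _ h1
      rw [if_pos h1, if_pos (by omega), if_neg h2, add_zero]
    · by_cases h2 : k.val = a
      · have h3 : k = ⟨a, h⟩ := Fin.ext h2
        rw [if_neg h1, if_pos (by omega), if_pos h3, zero_add]
      · have h3 : k ≠ ⟨a, h⟩ := fun hk => h2 (by rw [hk])
        rw [if_neg h1, if_neg (by omega), if_neg h3]
  rw [Finset.sum_congr rfl (fun k _ => h1 k), Finset.sum_add_distrib,
    Finset.sum_ite_eq' Finset.univ ⟨a, h⟩ μ, if_pos (Finset.mem_univ _)]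

theorem psum_mono {a a' : ℕ} (h : a ≤ a') : psum μ a ≤ psum μ a' := by
  unfold psum
  apply Finset.sum_le_sum
  intro k _
  by_cases h1 : k.val < a
  · rw [if_pos h1, if_pos (by omega)]
  · rw [if_neg h1]
    exact Nat.zero_le _

theorem psum_top : psum μ n = ∑ k, μ k := by
  unfold psum
  exact Finset.sum_congr rfl fun k _ => if_pos k.isLt

theorem compLabel_eq (i : Fin n) :
    Cfsg.compLabel μ i = (Finset.univ.filter fun j : Fin n => psum μ (j.val + 1) ≤ i.val).card := by
  unfold Cfsg.compLabel
  congr 1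
  apply Finset.filter_congr
  intro j _
  have : ∑ k ∈ Finset.univ.filter (fun k : Fin n => k ≤ j), μ k = psum μ (j.val + 1) := by
    unfold psum
    rw [Finset.sum_filter]
    refine Finset.sum_congr rfl fun k _ => ?_
    have : k ≤ j ↔ k.val < j.val + 1 := by rw [Fin.le_def]; omega
    simp only [this]
  rw [this]

theorem compLabel_of_mem (i : Fin n) (a : ℕ) (ha : a < n) (h1 : psum μ a ≤ i.val)
    (h2 : i.val < psum μ (a + 1)) : Cfsg.compLabel μ i = a := by
  rw [compLabel_eq]
  have : (Finset.univ.filter fun j : Fin n => psum μ (j.val + 1) ≤ i.val) =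
      Finset.univ.filter fun j : Fin n => j.val < a := by
    apply Finset.filter_congr
    intro j _
    constructor
    · intro h
      by_contra hc
      have := psum_mono μ (show a + 1 ≤ j.val + 1 by omega)
      omega
    · intro h
      have := psum_mono μ (show j.val + 1 ≤ a by omega)
      omega
  rw [this, Fin.card_filter_val_lt]
  omega

theorem exists_block (hμ : ∑ k, μ k = n) (i : Fin n) :
    ∃ a, a < n ∧ psum μ a ≤ i.val ∧ i.val < psum μ (a + 1) := by
  classical
  have hex : ∃ a, i.val < psum μ (a + 1) := ⟨n, by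
    have := psum_mono μ (show n ≤ n + 1 by omega)
    rw [psum_top, hμ] at this
    exact lt_of_lt_of_le i.isLt this⟩
  refine ⟨Nat.find hex, ?_, ?_, Nat.find_spec hex⟩
  · by_contra hc
    have h1 : n - 1 < Nat.find hex := by omega
    have h2 := Nat.find_min hex h1
    have h3 : n - 1 + 1 = n := by have := i.isLt; omega
    rw [h3, psum_top, hμ] at h2
    exact h2 i.isLt
  · by_cases h0 : Nat.find hex = 0
    · rw [h0, psum_zero]
      exact Nat.zero_le _
    · have h1 : Nat.find hex - 1 < Nat.find hex := by omega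
      have h2 := Nat.find_min hex h1
      have h3 : Nat.find hex - 1 + 1 = Nat.find hex := by omega
      rw [h3] at h2
      exact not_lt.mp h2

theorem compLabel_lt (hμ : ∑ k, μ k = n) (i : Fin n) : Cfsg.compLabel μ i < n := by
  obtain ⟨a, ha, h1, h2⟩ := exists_block μ hμ i
  rw [compLabel_of_mem μ i a ha h1 h2]
  exact ha

theorem compLabel_eq_iff (hμ : ∑ k, μ k = n) (i : Fin n) (a : ℕ) (ha : a < n) :
    Cfsg.compLabel μ i = a ↔ psum μ a ≤ i.val ∧ i.val < psum μ (a + 1) := by
  constructor
  · intro h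
    obtain ⟨a', ha', h1, h2⟩ := exists_block μ hμ i
    have := compLabel_of_mem μ i a' ha' h1 h2
    rw [h] at this
    subst this
    exact ⟨h1, h2⟩
  · rintro ⟨h1, h2⟩
    exact compLabel_of_mem μ i a ha h1 h2

theorem card_Ico_fin (lo hi : ℕ) (hhi : hi ≤ n) :
    (Finset.univ.filter fun i : Fin n => lo ≤ i.val ∧ i.val < hi).card = hi - lo := by
  rw [← Nat.card_Ico, ← Finset.card_map Fin.valEmbedding]
  congr 1
  ext x
  simp only [Finset.mem_map, Finset.mem_filter, Finset.mem_univ, true_and, Fin.valEmbedding_apply,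
    Finset.mem_Ico]
  constructor
  · rintro ⟨i, hi, rfl⟩
    exact hi
  · intro hx
    exact ⟨⟨x, by omega⟩, hx, rfl⟩

theorem card_block (hμ : ∑ k, μ k = n) (a : ℕ) (ha : a < n) :
    (Finset.univ.filter fun i : Fin n => Cfsg.compLabel μ i = a).card = μ ⟨a, ha⟩ := by
  have : (Finset.univ.filter fun i : Fin n => Cfsg.compLabel μ i = a) =
      Finset.univ.filter fun i : Fin n => psum μ a ≤ i.val ∧ i.val < psum μ (a + 1) := by
    apply Finset.filter_congr
    intro i _
    exact compLabel_eq_iff μ hμ i a ha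
  have hle : psum μ (a + 1) ≤ n := by
    have := psum_mono μ (show a + 1 ≤ n by omega)
    rwa [psum_top, hμ] at this
  rw [this, card_Ico_fin _ _ hle, psum_succ μ a ha]
  omega

end Label

section Main

variable [Fintype F]

/-- the label function with values in `Fin (n+1)` -/
def lab {n : ℕ} (μ : Fin n → ℕ) (hμ : ∑ k, μ k = n) (i : Fin n) : Fin (n + 1) :=
  ⟨Cfsg.compLabel μ i, Nat.lt_succ_of_lt (compLabel_lt μ hμ i)⟩

theorem card_lab_castSucc {n : ℕ} (μ : Fin n → ℕ) (hμ : ∑ k, μ k = n) (i₀ : Fin n) :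
    Fintype.card {i // lab μ hμ i = i₀.castSucc} = μ i₀ := by
  rw [Fintype.card_subtype]
  have : (Finset.univ.filter fun i : Fin n => lab μ hμ i = i₀.castSucc) =
      Finset.univ.filter fun i : Fin n => Cfsg.compLabel μ i = i₀.val := by
    apply Finset.filter_congr
    intro i _
    rw [Fin.ext_iff]
    rfl
  rw [this, card_block μ hμ i₀.val i₀.isLt]

theorem card_lab_last {n : ℕ} (μ : Fin n → ℕ) (hμ : ∑ k, μ k = n) :
    Fintype.card {i // lab μ hμ i = Fin.last n} = 0 := by
  rw [Fintype.card_eq_zero_iff]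
  refine ⟨fun i => ?_⟩
  have h1 := i.2
  rw [Fin.ext_iff] at h1
  have h2 : Cfsg.compLabel μ i.1 = n := h1
  have h3 := compLabel_lt μ hμ i.1
  omega

theorem main {q : ℕ} (hq : Fintype.card F = q) {n : ℕ} (μ : Fin n → ℕ) (hμ : ∑ i, μ i = n) :
    Nat.card (GL (Fin n) F ⧸ Cfsg.parabolicGL n F μ) *
        ∏ i : Fin n, ∏ j ∈ Finset.range (μ i), ∑ l ∈ Finset.range (j + 1), q ^ l =
      ∏ j ∈ Finset.range n, ∑ l ∈ Finset.range (j + 1), q ^ l := by
  have hP : ∀ g, g ∈ Cfsg.parabolicGL n F μ ↔
      (g : Matrix (Fin n) (Fin n) F).BlockTriangular (lab μ hμ) := fun g => Iff.rfl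
  have h := index_formula (lab μ hμ) (Cfsg.parabolicGL n F μ) hP
  rw [Fin.prod_univ_castSucc, card_lab_last, hq, Fintype.card_fin] at h
  have h2 : qfact q 0 = 1 := by unfold qfact; simp
  rw [h2, mul_one, Finset.prod_congr rfl (fun i _ => by rw [card_lab_castSucc μ hμ i])] at h
  exact h

end Main

end Cfsg.Agent.H2.ParabolicCount
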