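import Mathlib
import Cfsg.Agent.H2.LargePrimeSylowSL
import Cfsg.Agent.S0245
import Cfsg.Agent.H9.SympEmbed
import Cfsg.Agent.H9.SympForm

namespace Cfsg.Agent.H2.LargePrimeSylowSp

open Finset Cfsg.Agent.H2.LargePrimeSylow Cfsg.Agent.H2.LargePrimeSylowSL
  Cfsg.Agent.H2.ParabolicCount

open scoped MatrixGroups

section NumberTheory

variable {r : ℕ} [hr : Fact r.Prime]

theorem padicValNat_pow_sub_one' {x : ℕ} (hx2 : 2 ≤ x) (hx : r ∣ x - 1) {t : ℕ}
    (ht : ¬ r ∣ t) : padicValNat r (x ^ t - 1) = padicValNat r (x - 1) := by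
  have h1 := geom_succ x t (by omega)
  have h2 : x ^ t - 1 = (x - 1) * ∑ l ∈ range t, x ^ l := by omega
  have hx1 : (x : ZMod r) = 1 := by
    have : ((x - 1 : ℕ) : ZMod r) = 0 := (ZMod.natCast_eq_zero_iff _ _).mpr hx
    rw [Nat.cast_sub (by omega), sub_eq_zero] at this
    simpa using this
  have h3 : ¬ r ∣ ∑ l ∈ range t, x ^ l := by
    rw [← ZMod.natCast_eq_zero_iff, geom_cast x t hx1, ZMod.natCast_eq_zero_iff]
    exact ht
  have h4 : (∑ l ∈ range t, x ^ l) ≠ 0 := fun h => h3 (h ▸ dvd_zero r)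
  rw [h2, padicValNat.mul (by omega) h4, padicValNat.eq_zero_of_not_dvd h3, add_zero]

theorem two_le_pow {q : ℕ} (hq2 : 2 ≤ q) {j : ℕ} (hj : 0 < j) : 2 ≤ q ^ j := by
  calc 2 ≤ q := hq2
    _ = q ^ 1 := (pow_one q).symm
    _ ≤ q ^ j := Nat.pow_le_pow_right (by omega) hj

/-- the `r`-part of `∏_{i<n} (q^(2(i+1)) - 1)` for `n < r`, `r` odd -/
theorem padicValNat_prod_pow_two_sub_one {q : ℕ} (hq2 : 2 ≤ q) (hrq : ¬ r ∣ q) (hr2 : r ≠ 2)
    (n : ℕ) (hn : n < r) :
    padicValNat r (∏ i ∈ range n, (q ^ (2 * (i + 1)) - 1)) =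
      ((Icc 1 n).filter (fun i => orderOf (q : ZMod r) ∣ 2 * i)).card *
        padicValNat r (q ^ orderOf (q : ZMod r) - 1) := by
  obtain ⟨d, hd⟩ : ∃ d, d = orderOf (q : ZMod r) := ⟨_, rfl⟩
  rw [← hd]
  have hd0 : 0 < d := hd ▸ orderOf_pos_of_not_dvd hrq
  have hodd : ¬ 2 ∣ r := by
    intro h
    rcases (Nat.dvd_prime hr.out).mp h with h1 | h1
    · omega
    · exact hr2 h1.symm
  have hpos : ∀ j, q ^ (2 * (j + 1)) - 1 ≠ 0 := by
    intro j
    have := two_le_pow hq2 (j := 2 * (j + 1)) (by omega)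
    omega
  rw [padicValNat_prod_range _ _ fun j _ => hpos j]
  have hterm : ∀ j ∈ range n, padicValNat r (q ^ (2 * (j + 1)) - 1) =
      if d ∣ 2 * (j + 1) then padicValNat r (q ^ d - 1) else 0 := by
    intro j hj
    have hjn : j < n := mem_range.mp hj
    by_cases hdj : d ∣ 2 * (j + 1)
    · rw [if_pos hdj]
      obtain ⟨t, ht⟩ := hdj
      have hrt : ¬ r ∣ t := by
        rintro ⟨s, rfl⟩
        have hs0 : 0 < s := by
          rcases Nat.eq_zero_or_pos s with h | h
          · rw [h] at ht; simp at ht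
          · exact h
        have hd1 : d = 1 ∨ 2 ≤ d := by omega
        rcases hd1 with hd1 | hd1
        · rw [hd1, one_mul] at ht
          have hs1 : s = 1 ∨ 2 ≤ s := by omega
          rcases hs1 with hs1 | hs1
          · rw [hs1, mul_one] at ht
            exact hodd ⟨j + 1, ht.symm⟩
          · have : r * 2 ≤ r * s := Nat.mul_le_mul_left r hs1
            omega
        · have h1 : 2 * r ≤ d * r := Nat.mul_le_mul_right r hd1
          have h2 : d * r ≤ d * (r * s) := by
            apply Nat.mul_le_mul_left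
            exact Nat.le_mul_of_pos_right r hs0
          omega
      rw [ht, pow_mul]
      have hx2 : 2 ≤ q ^ d := two_le_pow hq2 hd0
      have hx : r ∣ q ^ d - 1 := by
        rw [dvd_pow_sub_one_iff (by omega), hd]
      exact padicValNat_pow_sub_one' hx2 hx hrt
    · rw [if_neg hdj]
      apply padicValNat.eq_zero_of_not_dvd
      rw [dvd_pow_sub_one_iff (by omega), ← hd]
      exact hdj
  rw [sum_congr rfl hterm, ← sum_filter, sum_const, smul_eq_mul]
  congr 1
  apply Finset.card_nbij' (fun i => i + 1) (fun i => i - 1)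
  · intro i hi
    simp only [coe_filter, mem_range, Set.mem_ofPred_eq, mem_Icc] at hi ⊢
    exact ⟨⟨by omega, by omega⟩, hi.2⟩
  · intro i hi
    simp only [coe_filter, mem_range, Set.mem_ofPred_eq, mem_Icc] at hi ⊢
    obtain ⟨⟨h1, h2⟩, h3⟩ := hi
    have : i - 1 + 1 = i := by omega
    exact ⟨by omega, by rwa [this]⟩
  · intro i _
    simp
  · intro i hi
    simp only [coe_filter, Set.mem_ofPred_eq, mem_Icc] at hi
    show i - 1 + 1 = i
    omega

end NumberTheory

section CardSp

variable {F : Type*} [Field F] [Fintype F] {r : ℕ} [hr : Fact r.Prime]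

theorem padicValNat_card_Sp (hrq : ¬ r ∣ Fintype.card F) (hr2 : r ≠ 2) (n : ℕ) (hn : n < r) :
    padicValNat r (Nat.card (Matrix.symplecticGroup (Fin n) F)) =
      ((Icc 1 n).filter (fun i => orderOf ((Fintype.card F : ℕ) : ZMod r) ∣ 2 * i)).card *
        padicValNat r (Fintype.card F ^ orderOf ((Fintype.card F : ℕ) : ZMod r) - 1) := by
  have hq2 : 2 ≤ Fintype.card F := Fintype.one_lt_card
  rw [Cfsg.Agent.S0245.result rfl n, padicValNat.mul, padicValNat.pow,
    padicValNat.eq_zero_of_not_dvd hrq, mul_zero, zero_add,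
    padicValNat_prod_pow_two_sub_one hq2 hrq hr2 n hn]
  · exact pow_ne_zero _ (by omega)
  · apply prod_ne_zero_iff.mpr
    intro j _
    have := two_le_pow hq2 (j := 2 * (j + 1)) (by omega)
    omega

end CardSp

section GLtoSp

variable {F : Type*} [Field F] {n : ℕ}

theorem glBlock_mem (A : GL (Fin n) F) :
    Matrix.fromBlocks (A : Matrix (Fin n) (Fin n) F) 0 0
      ((A⁻¹ : GL (Fin n) F) : Matrix (Fin n) (Fin n) F).transpose ∈
        Matrix.symplecticGroup (Fin n) F := by
  rw [SymplecticGroup.mem_iff, Matrix.J, Matrix.fromBlocks_multiply, Matrix.fromBlocks_transpose,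
    Matrix.fromBlocks_multiply]
  have h1 : (A : Matrix (Fin n) (Fin n) F) * ((A⁻¹ : GL (Fin n) F) : Matrix (Fin n) (Fin n) F) = 1 := by
    rw [← Units.val_mul, mul_inv_cancel, Units.val_one]
  have h2 : ((A⁻¹ : GL (Fin n) F) : Matrix (Fin n) (Fin n) F).transpose *
      (A : Matrix (Fin n) (Fin n) F).transpose = 1 := by
    rw [← Matrix.transpose_mul, h1, Matrix.transpose_one]
  simp only [Matrix.mul_zero, Matrix.zero_mul, Matrix.mul_one, add_zero, zero_add,
    Matrix.transpose_zero, Matrix.mul_neg, Matrix.neg_mul, Matrix.transpose_transpose, h1, h2,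
    Matrix.one_mul, neg_zero]

def glToSp (n : ℕ) : GL (Fin n) F →* ↥(Matrix.symplecticGroup (Fin n) F) where
  toFun A := ⟨_, glBlock_mem A⟩
  map_one' := Subtype.ext (by
    show Matrix.fromBlocks ((1 : GL (Fin n) F) : Matrix (Fin n) (Fin n) F) 0 0
      (((1 : GL (Fin n) F)⁻¹ : GL (Fin n) F) : Matrix (Fin n) (Fin n) F).transpose = 1
    simp [Matrix.fromBlocks_one])
  map_mul' A B := Subtype.ext (by
    show Matrix.fromBlocks ((A * B : GL (Fin n) F) : Matrix (Fin n) (Fin n) F) 0 0
      (((A * B)⁻¹ : GL (Fin n) F) : Matrix (Fin n) (Fin n) F).transpose =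
      Matrix.fromBlocks (A : Matrix (Fin n) (Fin n) F) 0 0
        ((A⁻¹ : GL (Fin n) F) : Matrix (Fin n) (Fin n) F).transpose *
      Matrix.fromBlocks (B : Matrix (Fin n) (Fin n) F) 0 0
        ((B⁻¹ : GL (Fin n) F) : Matrix (Fin n) (Fin n) F).transpose
    rw [Matrix.fromBlocks_multiply, mul_inv_rev]
    simp [Matrix.transpose_mul])

theorem glToSp_injective : Function.Injective (glToSp (F := F) n) := by
  intro A B h
  have h1 := congrArg (fun M : ↥(Matrix.symplecticGroup (Fin n) F) =>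
    (M : Matrix (Fin n ⊕ Fin n) (Fin n ⊕ Fin n) F).toBlocks₁₁) h
  have h2 : (Matrix.fromBlocks (A : Matrix (Fin n) (Fin n) F) 0 0
      ((A⁻¹ : GL (Fin n) F) : Matrix (Fin n) (Fin n) F).transpose).toBlocks₁₁ =
    (Matrix.fromBlocks (B : Matrix (Fin n) (Fin n) F) 0 0
      ((B⁻¹ : GL (Fin n) F) : Matrix (Fin n) (Fin n) F).transpose).toBlocks₁₁ := h1
  rw [Matrix.toBlocks_fromBlocks₁₁, Matrix.toBlocks_fromBlocks₁₁] at h2
  exact Units.ext h2

end GLtoSp

section EvenBlock

open Cfsg.Agent.H9.SympForm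

variable {F : Type*} [Field F] [Fintype F] {E : Type*} [Field E] [Fintype E] [Algebra F E]

/-- the power `x ↦ x ^ (q ^ d')` of the Frobenius -/
noncomputable def sig (d' : ℕ) : E ≃ₐ[F] E := (FiniteField.frobeniusAlgEquivOfAlgebraic F E) ^ d'

theorem sig_apply (d' : ℕ) (x : E) : sig (F := F) d' x = x ^ (Fintype.card F ^ d') := by
  unfold sig
  rw [AlgEquiv.coe_pow, FiniteField.coe_frobeniusAlgEquivOfAlgebraic_iterate]

theorem card_E {d' : ℕ} (h : Module.finrank F E = 2 * d') :
    Fintype.card E = Fintype.card F ^ d' * Fintype.card F ^ d' := by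
  have := Module.natCard_eq_pow_finrank (K := F) (V := E)
  rw [Nat.card_eq_fintype_card, Nat.card_eq_fintype_card, h, two_mul, pow_add] at this
  exact this

theorem sig_sig {d' : ℕ} (h : Module.finrank F E = 2 * d') (x : E) :
    sig (F := F) d' (sig (F := F) d' x) = x := by
  rw [sig_apply, sig_apply, ← pow_mul, ← card_E h, FiniteField.pow_card]

noncomputable def BE (d' : ℕ) (lam : E) : LinearMap.BilinForm F E :=
  (Algebra.traceForm F E).compl₁₂ (LinearMap.mulLeft F lam) (sig (F := F) d').toLinearMap -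
  (Algebra.traceForm F E).compl₁₂
    ((LinearMap.mulLeft F lam).comp (sig (F := F) d').toLinearMap) LinearMap.id

theorem BE_apply (d' : ℕ) (lam x y : E) : BE (F := F) d' lam x y =
    Algebra.trace F E (lam * x * sig (F := F) d' y) -
      Algebra.trace F E (lam * sig (F := F) d' x * y) := by
  simp [BE, Algebra.traceForm_apply]

theorem BE_self (d' : ℕ) (lam x : E) : BE (F := F) d' lam x x = 0 := by
  rw [BE_apply, sub_eq_zero]
  congr 1
  ring

theorem BE_isometry (d' : ℕ) (lam u : E) (hu : u * sig (F := F) d' u = 1) (x y : E) :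
    BE (F := F) d' lam (u * x) (u * y) = BE (F := F) d' lam x y := by
  rw [BE_apply, BE_apply, map_mul (sig (F := F) d') u x, map_mul (sig (F := F) d') u y]
  have h1 : lam * (u * x) * (sig (F := F) d' u * sig (F := F) d' y) =
      (u * sig (F := F) d' u) * (lam * x * sig (F := F) d' y) := by ring
  have h2 : lam * (sig (F := F) d' u * sig (F := F) d' x) * (u * y) =
      (u * sig (F := F) d' u) * (lam * sig (F := F) d' x * y) := by ring
  rw [h1, h2, hu, one_mul, one_mul]

theorem BE_eq {d' : ℕ} (h : Module.finrank F E = 2 * d') (lam x y : E) :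
    BE (F := F) d' lam x y =
      Algebra.trace F E ((lam - sig (F := F) d' lam) * x * sig (F := F) d' y) := by
  rw [BE_apply]
  have h1 : Algebra.trace F E (lam * sig (F := F) d' x * y) =
      Algebra.trace F E (sig (F := F) d' lam * x * sig (F := F) d' y) := by
    rw [← Algebra.trace_eq_of_algEquiv (sig (F := F) d') (lam * sig (F := F) d' x * y),
      map_mul (sig (F := F) d'), map_mul (sig (F := F) d'), sig_sig h]
  rw [h1, ← map_sub]
  congr 1
  ring

theorem BE_nondeg {d' : ℕ} (h : Module.finrank F E = 2 * d') (lam : E)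
    (hlam : sig (F := F) d' lam ≠ lam) (x : E) (hx : x ≠ 0) :
    ∃ y, BE (F := F) d' lam x y ≠ 0 := by
  have hμ : (lam - sig (F := F) d' lam) * x ≠ 0 := mul_ne_zero (sub_ne_zero.mpr hlam.symm) hx
  have hT := traceForm_nondegenerate F E
  by_contra hcon
  rw [not_exists] at hcon
  apply hμ
  apply hT.1
  intro z
  have h1 := hcon (sig (F := F) d' z)
  rw [not_not, BE_eq h, sig_sig h] at h1
  rw [Algebra.traceForm_apply]
  exact h1

theorem exists_sig_ne {d' : ℕ} (hd' : 0 < d') (h : Module.finrank F E = 2 * d') :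
    ∃ lam : E, sig (F := F) d' lam ≠ lam := by
  by_contra hcon
  rw [not_exists] at hcon
  have hq2 : 2 ≤ Fintype.card F := Fintype.one_lt_card
  have hQ : 2 ≤ Fintype.card F ^ d' := two_le_pow hq2 hd'
  obtain ⟨g, hg⟩ := IsCyclic.exists_ofOrder_eq_natCard (α := Eˣ)
  have h1 : (g : E) ^ (Fintype.card F ^ d') = g := by
    have := hcon g
    rwa [not_not, sig_apply] at this
  have h2 : g ^ (Fintype.card F ^ d' - 1) = 1 := by
    apply Units.ext
    rw [Units.val_pow_eq_pow_val, Units.val_one]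
    have h3 : (g : E) ^ (Fintype.card F ^ d' - 1) * g = 1 * g := by
      rw [← pow_succ, Nat.sub_add_cancel (by omega), h1, one_mul]
    exact mul_right_cancel₀ g.ne_zero h3
  have h3 : orderOf g ∣ Fintype.card F ^ d' - 1 := orderOf_dvd_of_pow_eq_one h2
  rw [hg, Nat.card_units, Nat.card_eq_fintype_card, card_E h] at h3
  have h4 := Nat.le_of_dvd (by omega) h3
  have h5 : 2 * Fintype.card F ^ d' ≤ Fintype.card F ^ d' * Fintype.card F ^ d' :=
    Nat.mul_le_mul_right _ hQ
  omega

/-- the form on `E^a × F^(2c)` -/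
noncomputable def BV (a c d' : ℕ) (lam : E) :
    LinearMap.BilinForm F ((Fin a → E) × (Fin c ⊕ Fin c → F)) :=
  (∑ i : Fin a, (BE (F := F) d' lam).compl₁₂
      ((LinearMap.proj i).comp (LinearMap.fst F (Fin a → E) (Fin c ⊕ Fin c → F)))
      ((LinearMap.proj i).comp (LinearMap.fst F (Fin a → E) (Fin c ⊕ Fin c → F)))) +
    (sympB c F).compl₁₂ (LinearMap.snd F (Fin a → E) (Fin c ⊕ Fin c → F))
      (LinearMap.snd F (Fin a → E) (Fin c ⊕ Fin c → F))

theorem BV_apply (a c d' : ℕ) (lam : E) (v w : (Fin a → E) × (Fin c ⊕ Fin c → F)) :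
    BV (F := F) a c d' lam v w =
      ∑ i, BE (F := F) d' lam (v.1 i) (w.1 i) + sympB c F v.2 w.2 := by
  simp [BV, LinearMap.sum_apply]

theorem BV_isAlt (a c d' : ℕ) (lam : E) : (BV (F := F) a c d' lam).IsAlt := by
  intro v
  rw [BV_apply, sympB_self, add_zero]
  exact Finset.sum_eq_zero fun i _ => BE_self d' lam (v.1 i)

theorem BV_sepLeft (a c : ℕ) {d' : ℕ} (h : Module.finrank F E = 2 * d') (lam : E)
    (hlam : sig (F := F) d' lam ≠ lam) (v : (Fin a → E) × (Fin c ⊕ Fin c → F))
    (hv : ∀ w, BV (F := F) a c d' lam v w = 0) : v = 0 := by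
  have h1 : v.1 = 0 := by
    funext i
    by_contra hne
    obtain ⟨y, hy⟩ := BE_nondeg h lam hlam (v.1 i) hne
    apply hy
    have h2 := hv (Pi.single i y, 0)
    rw [BV_apply, Finset.sum_eq_single i] at h2
    · simpa using h2
    · intro j _ hj
      simp [Pi.single_eq_of_ne hj]
    · intro hi
      exact absurd (Finset.mem_univ i) hi
  have h2 : v.2 = 0 := by
    by_contra hne
    obtain ⟨k, hk⟩ := sympB_nondeg c F v.2 hne
    apply hk
    have h3 := hv (0, k)
    rw [BV_apply] at h3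
    simpa using h3
  exact Prod.ext h1 h2

theorem BV_nondeg (a c : ℕ) {d' : ℕ} (h : Module.finrank F E = 2 * d') (lam : E)
    (hlam : sig (F := F) d' lam ≠ lam) : (BV (F := F) a c d' lam).Nondegenerate := by
  refine ⟨fun v hv => BV_sepLeft a c h lam hlam v hv, fun v hv => BV_sepLeft a c h lam hlam v ?_⟩
  intro w
  have h1 := (BV_isAlt (F := F) a c d' lam).neg_eq w v
  rw [← h1, hv, neg_zero]

end EvenBlock

section EvenTorus

open Cfsg.Agent.H9.SympForm

variable {F : Type*} [Field F] {E : Type*} [Field E] [Algebra F E]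

/-- the action of `(Eˣ)^a` on `E^a × H` by linear maps -/
def torusEnd (a : ℕ) (H : Type*) [AddCommGroup H] [Module F H] :
    (Fin a → Eˣ) →* Module.End F ((Fin a → E) × H) where
  toFun u := LinearMap.prodMap
    (LinearMap.pi fun i => (LinearMap.mulLeft F ((u i : Eˣ) : E)).comp (LinearMap.proj i))
    LinearMap.id
  map_one' := LinearMap.ext fun v => Prod.ext (funext fun i => by simp) (by simp)
  map_mul' u v := LinearMap.ext fun w => Prod.ext (funext fun i => by simp [mul_assoc]) (by simp)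

theorem torusEnd_apply (a : ℕ) (H : Type*) [AddCommGroup H] [Module F H] (u : Fin a → Eˣ)
    (v : (Fin a → E) × H) :
    torusEnd (F := F) a H u v = (fun i => ((u i : Eˣ) : E) * v.1 i, v.2) := by
  simp [torusEnd]
  rfl

theorem torusEnd_injective (a : ℕ) (H : Type*) [AddCommGroup H] [Module F H] :
    Function.Injective (torusEnd (F := F) (E := E) a H) := by
  intro u v h
  funext i
  have h1 := congrArg (fun f : Module.End F ((Fin a → E) × H) =>
    (f ((fun _ => (1 : E)), (0 : H))).1 i) h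
  simp only [torusEnd_apply, mul_one] at h1
  exact Units.ext h1

end EvenTorus

section Homs

open Cfsg.Agent.H9.SympForm

variable {F : Type*} [Field F] [Fintype F]

theorem exists_hom_odd (n d c : ℕ) (hd : 0 < d) (hdvd : c ∣ Fintype.card F ^ d - 1) :
    ∃ ψ : (Fin (n / d) → Multiplicative (ZMod c)) →* ↥(Matrix.symplecticGroup (Fin n) F),
      Function.Injective ψ := by
  obtain ⟨ψ, hψ⟩ := exists_homocyclic_subgroup (F := F) n d hd c hdvd
  exact ⟨(glToSp n).comp ψ, glToSp_injective.comp hψ⟩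

theorem exists_hom_even (n d' c : ℕ) (hd' : 0 < d') (hdvd : c ∣ Fintype.card F ^ d' + 1) :
    ∃ ψ : (Fin (n / d') → Multiplicative (ZMod c)) →* ↥(Matrix.symplecticGroup (Fin n) F),
      Function.Injective ψ := by
  obtain ⟨E, _, _, _, hE⟩ := exists_extension F (2 * d') (by omega)
  letI := Fintype.ofFinite E
  have hq2 : 2 ≤ Fintype.card F := Fintype.one_lt_card
  have hQ : 2 ≤ Fintype.card F ^ d' := two_le_pow hq2 hd'
  have hc0 : c ≠ 0 := by
    rintro rfl
    rw [zero_dvd_iff] at hdvd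
    omega
  haveI : NeZero c := ⟨hc0⟩
  have hcardU : Nat.card Eˣ = Fintype.card F ^ d' * Fintype.card F ^ d' - 1 := by
    rw [Nat.card_units, Nat.card_eq_fintype_card, card_E hE]
  have hfac : Fintype.card F ^ d' * Fintype.card F ^ d' - 1 =
      (Fintype.card F ^ d' - 1) * (Fintype.card F ^ d' + 1) := by
    obtain ⟨Q, hQe⟩ : ∃ Q, Fintype.card F ^ d' = Q + 1 := ⟨Fintype.card F ^ d' - 1, by omega⟩
    rw [hQe]
    simp only [Nat.add_sub_cancel]
    have : (Q + 1) * (Q + 1) = Q * (Q + 1 + 1) + 1 := by ring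
    rw [this, Nat.add_sub_cancel]
  obtain ⟨φ, hφ⟩ := exists_cyclic_hom (C := Eˣ) c
    (by rw [hcardU, hfac]; exact dvd_mul_of_dvd_right hdvd _)
  obtain ⟨lam, hlam⟩ := exists_sig_ne (F := F) (E := E) hd' hE
  have hdim : Module.finrank F ((Fin (n / d') → E) ×
      (Fin (n - n / d' * d') ⊕ Fin (n - n / d' * d') → F)) = 2 * n := by
    rw [Module.finrank_prod, Module.finrank_pi_fintype, Module.finrank_fintype_fun_eq_card,
      Fintype.card_sum, Fintype.card_fin]
    simp only [hE, Finset.sum_const, Finset.card_univ, Fintype.card_fin, smul_eq_mul]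
    have := Nat.div_mul_le_self n d'
    have h2 : n / d' * (2 * d') = 2 * (n / d' * d') := by ring
    omega
  have hpow : ∀ x : Multiplicative (ZMod c),
      ((φ x : Eˣ) : E) * sig (F := F) d' ((φ x : Eˣ) : E) = 1 := by
    intro x
    rw [sig_apply, ← pow_succ']
    have h1 : x ^ c = 1 := by
      have := pow_card_eq_one' (G := Multiplicative (ZMod c)) (x := x)
      rwa [Nat.card_congr Multiplicative.toAdd, Nat.card_zmod] at this
    obtain ⟨t, ht⟩ := hdvd
    have h2 : (φ x) ^ (Fintype.card F ^ d' + 1) = 1 := by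
      rw [← map_pow, ht, pow_mul, h1, one_pow, map_one]
    have h3 := congrArg Units.val h2
    rwa [Units.val_pow_eq_pow_val, Units.val_one] at h3
  refine Cfsg.Agent.H9.SympEmbed.exists_embedding
    (BV (F := F) (E := E) (n / d') (n - n / d' * d') d' lam)
    (BV_nondeg _ _ hE lam hlam) (BV_isAlt _ _ _ lam) n hdim
    ((torusEnd (F := F) (E := E) (n / d')
      (Fin (n - n / d' * d') ⊕ Fin (n - n / d' * d') → F)).comp (φ.compLeft (Fin (n / d'))))
    ?_ ?_
  · intro u v h
    have h1 := torusEnd_injective _ _ h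
    funext i
    exact hφ (congrFun h1 i)
  · intro u v w
    rw [BV_apply, BV_apply]
    simp only [MonoidHom.coe_comp, Function.comp_apply, torusEnd_apply]
    congr 1
    refine Finset.sum_congr rfl fun i _ => ?_
    exact BE_isometry d' lam _ (hpow (u i)) _ _

theorem card_filter_Icc_one (n k : ℕ) : ((Icc 1 n).filter (fun i => k ∣ i)).card = n / k := by
  rw [← Nat.Ioc_filter_dvd_card_eq_div n k]
  congr 1

theorem sylow_Sp (n r : ℕ) [hr : Fact r.Prime] (hr2 : r ≠ 2) (hrn : n < r)
    (hrq : ¬ r ∣ Fintype.card F) (P : Sylow r ↥(Matrix.symplecticGroup (Fin n) F)) :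
    Nonempty (↥(P : Subgroup ↥(Matrix.symplecticGroup (Fin n) F)) ≃*
      (Fin ((Finset.Icc 1 n).filter
          (fun i => orderOf ((Fintype.card F : ℕ) : ZMod r) ∣ 2 * i)).card →
        Multiplicative (ZMod (r ^ padicValNat r ((Polynomial.cyclotomic
          (orderOf ((Fintype.card F : ℕ) : ZMod r)) ℤ).eval
            ((Fintype.card F : ℕ) : ℤ)).natAbs)))) := by
  have hq2 : 2 ≤ Fintype.card F := Fintype.one_lt_card
  have hd0 := orderOf_pos_of_not_dvd hrq
  rw [padicValNat_cyclotomic hq2 hrq]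
  have hval := padicValNat_card_Sp hrq hr2 n hrn
  suffices h : ∃ ψ : (Fin ((Finset.Icc 1 n).filter
      (fun i => orderOf ((Fintype.card F : ℕ) : ZMod r) ∣ 2 * i)).card →
      Multiplicative (ZMod (r ^ padicValNat r
        (Fintype.card F ^ orderOf ((Fintype.card F : ℕ) : ZMod r) - 1)))) →*
      ↥(Matrix.symplecticGroup (Fin n) F), Function.Injective ψ by
    obtain ⟨ψ, hψ⟩ := h
    refine sylow_equiv_of_injective P ψ hψ ?_
    rw [card_pi_zmod, ← pow_mul, hval, mul_comm]
  obtain ⟨d, hd⟩ : ∃ d, d = orderOf ((Fintype.card F : ℕ) : ZMod r) := ⟨_, rfl⟩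
  rw [← hd] at hd0 ⊢
  rcases Nat.even_or_odd' d with ⟨d', hd' | hd'⟩
  · have hd'0 : 0 < d' := by omega
    have ha : ((Finset.Icc 1 n).filter (fun i => d ∣ 2 * i)).card = n / d' := by
      rw [← card_filter_Icc_one n d']
      congr 1
      ext x
      simp only [mem_filter, mem_Icc, hd']
      rw [Nat.mul_dvd_mul_iff_left (by omega)]
    rw [ha]
    apply exists_hom_even n d' _ hd'0
    have hQ : 2 ≤ Fintype.card F ^ d' := two_le_pow hq2 hd'0
    have hfac : Fintype.card F ^ d - 1 =
        (Fintype.card F ^ d' - 1) * (Fintype.card F ^ d' + 1) := by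
      rw [hd', two_mul, pow_add]
      obtain ⟨Q, hQe⟩ : ∃ Q, Fintype.card F ^ d' = Q + 1 := ⟨Fintype.card F ^ d' - 1, by omega⟩
      rw [hQe]
      simp only [Nat.add_sub_cancel]
      have : (Q + 1) * (Q + 1) = Q * (Q + 1 + 1) + 1 := by ring
      rw [this, Nat.add_sub_cancel]
    have hnd : ¬ r ∣ Fintype.card F ^ d' - 1 := by
      rw [dvd_pow_sub_one_iff (by omega), ← hd]
      intro h
      have := Nat.le_of_dvd hd'0 h
      omega
    rw [hfac, padicValNat.mul (by omega) (by omega), padicValNat.eq_zero_of_not_dvd hnd, zero_add]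
    exact pow_padicValNat_dvd
  · have hcop : Nat.Coprime d 2 := by
      rw [Nat.coprime_comm, Nat.Prime.coprime_iff_not_dvd Nat.prime_two]
      omega
    have ha : ((Finset.Icc 1 n).filter (fun i => d ∣ 2 * i)).card = n / d := by
      rw [← card_filter_Icc_one n d]
      congr 1
      ext x
      simp only [mem_filter, mem_Icc]
      rw [hcop.dvd_mul_left]
    rw [ha]
    exact exists_hom_odd n d _ hd0 pow_padicValNat_dvd

end Homs

end Cfsg.Agent.H2.LargePrimeSylowSp
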