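import Mathlib

/-!
# Index of the subgroup generated by elements with eigenvalue one (helper2)
-/

set_option autoImplicit false

namespace Cfsg.Agent.H2.LinIdx

theorem index_le_card_of_map {H X : Type*} [Group H] [Finite X] (S : Subgroup H) (φ : H → X)
    (hφ : ∀ a b, φ a = φ b → a⁻¹ * b ∈ S) : S.index ≤ Nat.card X := by
  rw [Subgroup.index]
  refine Nat.card_le_card_of_injective (fun c : H ⧸ S => φ (Quotient.out c)) ?_
  intro c d hcd
  have h1 := hφ _ _ hcd
  rw [← QuotientGroup.leftRel_apply] at h1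
  have h2 : (Quotient.mk'' (Quotient.out c) : H ⧸ S) = Quotient.mk'' (Quotient.out d) :=
    Quotient.sound' h1
  simpa using h2

variable {F : Type*} [Field F] [Fintype F]

theorem card_ne_zero (M : Type*) [AddCommGroup M] [Module F M] [FiniteDimensional F M] :
    Nat.card {m : M // m ≠ 0} = Fintype.card F ^ Module.finrank F M - 1 := by
  classical
  have : Finite M := Module.finite_of_finite F
  have : Fintype M := Fintype.ofFinite M
  have h := Module.natCard_eq_pow_finrank (K := F) (V := M)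
  rw [Nat.card_eq_fintype_card (α := F)] at h
  rw [← h, Nat.card_eq_fintype_card, Nat.card_eq_fintype_card, Fintype.card_subtype_compl,
    Fintype.card_subtype_eq]

variable {V : Type*} [AddCommGroup V] [Module F V] [FiniteDimensional F V]

/-- index bound from an invariant subspace, via the orbit of a nonzero vector of it -/
theorem index_le_of_invariant (H : Subgroup (V ≃ₗ[F] V)) (W : Submodule F V) (hW : W ≠ ⊥)
    (hinv : ∀ h ∈ H, ∀ w ∈ W, h w ∈ W) :
    (Subgroup.closure {h : ↥H | ∃ v : V, v ≠ 0 ∧ (h : V ≃ₗ[F] V) v = v}).index ≤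
      Fintype.card F ^ Module.finrank F W - 1 := by
  obtain ⟨w, hwW, hw0⟩ := (Submodule.ne_bot_iff W).mp hW
  have : Finite W := Module.finite_of_finite F
  rw [← card_ne_zero (F := F) W]
  have hne : ∀ h : ↥H, (⟨(h : V ≃ₗ[F] V) w, hinv h h.2 w hwW⟩ : W) ≠ 0 := by
    intro h h0
    have h1 : (h : V ≃ₗ[F] V) w = 0 := congrArg (Subtype.val : W → V) h0
    rw [LinearEquiv.map_eq_zero_iff] at h1
    exact hw0 h1
  refine index_le_card_of_map _ (fun h : ↥H => (⟨⟨(h : V ≃ₗ[F] V) w, hinv h h.2 w hwW⟩, hne h⟩ :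
    {m : W // m ≠ 0})) ?_
  intro a b hab
  have h1 : (a : V ≃ₗ[F] V) w = (b : V ≃ₗ[F] V) w := by
    have := congrArg (fun x : {m : W // m ≠ 0} => ((x : W) : V)) hab
    exact this
  apply Subgroup.subset_closure
  refine ⟨w, hw0, ?_⟩
  rw [Subgroup.coe_mul, Subgroup.coe_inv, LinearEquiv.mul_apply, ← h1, LinearEquiv.coe_inv,
    LinearEquiv.symm_apply_apply]

omit [Fintype F] in
/-- an element fixing a nonzero functional fixes a nonzero vector -/
theorem exists_fixed_of_dual_fixed (c : V ≃ₗ[F] V) (f : Module.Dual F V) (hf : f ≠ 0)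
    (hc : ∀ x, f (c x) = f x) : ∃ v : V, v ≠ 0 ∧ c v = v := by
  by_contra hcon
  push Not at hcon
  have hinj : Function.Injective (((c : V →ₗ[F] V) - (LinearMap.id : V →ₗ[F] V)) : V →ₗ[F] V) := by
    rw [injective_iff_map_eq_zero]
    intro v hv
    by_contra hv0
    apply hcon v hv0
    have : c v - v = 0 := hv
    exact sub_eq_zero.mp this
  have hsurj := LinearMap.injective_iff_surjective.mp hinj
  apply hf
  ext y
  obtain ⟨x, rfl⟩ := hsurj y
  simp [hc]

/-- index bound from an invariant subspace, via the dual orbit -/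
theorem index_le_of_invariant_dual (H : Subgroup (V ≃ₗ[F] V)) (W : Submodule F V) (hW : W ≠ ⊤)
    (hinv : ∀ h ∈ H, ∀ w ∈ W, h w ∈ W) :
    (Subgroup.closure {h : ↥H | ∃ v : V, v ≠ 0 ∧ (h : V ≃ₗ[F] V) v = v}).index ≤
      Fintype.card F ^ (Module.finrank F V - Module.finrank F W) - 1 := by
  obtain ⟨f, hf0, hfW⟩ := Submodule.exists_le_ker_of_lt_top W (lt_top_iff_ne_top.mpr hW)
  have hfin : Module.finrank F W.dualAnnihilator = Module.finrank F V - Module.finrank F W := by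
    have := Subspace.finrank_add_finrank_dualAnnihilator_eq W
    omega
  rw [← hfin, ← card_ne_zero (F := F) W.dualAnnihilator]
  have : Finite W.dualAnnihilator := Module.finite_of_finite F
  have hmem : ∀ h : ↥H, f.comp ((h : V ≃ₗ[F] V)⁻¹ : V ≃ₗ[F] V).toLinearMap ∈
      W.dualAnnihilator := by
    intro h
    rw [Submodule.mem_dualAnnihilator]
    intro w hw
    have h1 : ((h : V ≃ₗ[F] V)⁻¹) w ∈ W := hinv _ (H.inv_mem h.2) w hw
    exact hfW h1
  have hne : ∀ h : ↥H, (⟨_, hmem h⟩ : W.dualAnnihilator) ≠ 0 := by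
    intro h h0
    have h1 : f.comp ((h : V ≃ₗ[F] V)⁻¹ : V ≃ₗ[F] V).toLinearMap = 0 :=
      congrArg (Subtype.val : W.dualAnnihilator → Module.Dual F V) h0
    apply hf0
    ext y
    have := LinearMap.congr_fun h1 ((h : V ≃ₗ[F] V) y)
    simpa using this
  refine index_le_card_of_map _ (fun h : ↥H =>
    (⟨⟨_, hmem h⟩, hne h⟩ : {m : W.dualAnnihilator // m ≠ 0})) ?_
  intro a b hab
  have h1 : f.comp ((a : V ≃ₗ[F] V)⁻¹ : V ≃ₗ[F] V).toLinearMap =
      f.comp ((b : V ≃ₗ[F] V)⁻¹ : V ≃ₗ[F] V).toLinearMap := by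
    have := congrArg (fun x : {m : W.dualAnnihilator // m ≠ 0} =>
      ((x : W.dualAnnihilator) : Module.Dual F V)) hab
    exact this
  have h2 : ∀ x, f (((a : V ≃ₗ[F] V)⁻¹ * (b : V ≃ₗ[F] V)) x) = f x := by
    intro x
    have := LinearMap.congr_fun h1 ((b : V ≃ₗ[F] V) x)
    simpa using this
  obtain ⟨v, hv0, hv⟩ := exists_fixed_of_dual_fixed _ f hf0 h2
  apply Subgroup.subset_closure
  refine ⟨v, hv0, ?_⟩
  rw [Subgroup.coe_mul, Subgroup.coe_inv]
  exact hv

theorem real_bound (q a d : ℕ) (hq : 1 ≤ q) (h : 2 * a ≤ d) (n : ℕ) (hn : n ≤ q ^ a - 1) :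
    (n : ℝ) ≤ Real.sqrt ((q : ℝ) ^ d) - 1 := by
  have h1 : 1 ≤ q ^ a := Nat.one_le_pow _ _ hq
  have h2 : (n : ℝ) ≤ (q : ℝ) ^ a - 1 := by
    have : ((q ^ a - 1 : ℕ) : ℝ) = (q : ℝ) ^ a - 1 := by
      rw [Nat.cast_sub h1]; simp
    rw [← this]
    exact_mod_cast hn
  have hq' : (1 : ℝ) ≤ (q : ℝ) := by exact_mod_cast hq
  have h3 : (q : ℝ) ^ a ≤ Real.sqrt ((q : ℝ) ^ d) := by
    apply Real.le_sqrt_of_sq_le
    rw [← pow_mul, mul_comm]
    exact pow_le_pow_right₀ hq' h
  linarith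

end Cfsg.Agent.H2.LinIdx
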