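import Mathlib
import Cfsg.Agent.H2.MaxClassLCS
import Cfsg.Agent.H1.Frattini
import Cfsg.Agent.Lib.Helper7.Core

/-!
# Subgroup structure of 2-groups of maximal class

`X` of order `2 ^ n`, `n ≥ 3`, commutator subgroup of index four, `a` of order `2 ^ (n - 1)`,
`b ∉ ⟨a⟩`: centre, Frattini subgroup, the three maximal subgroups, normal subgroups.
(author: helper2)
-/

set_option autoImplicit false

namespace Cfsg.Agent.H2.MaxClassSub

open Cfsg.Agent.H2 Cfsg.Agent.H2.MaxClassTwo
open scoped commutatorElement

universe u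

/-- a subgroup of index two is a coatom -/
theorem isCoatom_of_index_two {X : Type*} [Group X] [Finite X] (M : Subgroup X)
    (h : M.index = 2) : IsCoatom M := by
  constructor
  · intro htop
    rw [htop, Subgroup.index_top] at h
    omega
  · intro K hK
    have h1 : K.index ∣ 2 := h ▸ Subgroup.index_dvd_of_le hK.le
    rcases (Nat.dvd_prime Nat.prime_two).mp h1 with h2 | h2
    · exact Subgroup.index_eq_one.mp h2
    · exfalso
      have h3 := K.card_mul_index
      have h4 := M.card_mul_index
      rw [h2] at h3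
      rw [h] at h4
      have h5 : Nat.card K ≤ Nat.card M := by omega
      exact hK.ne (Subgroup.eq_of_le_of_card_ge hK.le h5)

section

variable {X : Type u} [Group X] [Finite X] (n : ℕ) (hn : 3 ≤ n) (hX : Nat.card X = 2 ^ n)
  (hidx : (commutator X).index = 4)

include hn hX hidx in
theorem sq_mem_commutator (g : X) : g * g ∈ commutator X := by
  have hK := MaxClassLCS.isKleinFour_of_class n hn hX (MaxClassLCS.class_of_index n hn hX hidx)
  have h1 : (QuotientGroup.mk g : X ⧸ commutator X) ^ 2 = 1 := by
    have := Monoid.pow_exponent_eq_one (QuotientGroup.mk g : X ⧸ commutator X)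
    rw [hK.exponent_two] at this
    exact this
  rw [← QuotientGroup.mk_pow, QuotientGroup.eq_one_iff, pow_two] at h1
  exact h1

variable (a : X) (ha : orderOf a = 2 ^ (n - 1))

include hn ha in
theorem orderOf_sq : orderOf (a ^ 2) = 2 ^ (n - 2) := by
  rw [orderOf_pow' a (by norm_num), ha]
  have h1 : n - 1 = (n - 2) + 1 := by omega
  have h2 : Nat.gcd (2 ^ (n - 1)) 2 = 2 := by
    apply Nat.gcd_eq_right
    rw [h1, pow_succ]
    exact dvd_mul_left 2 _
  rw [h2, h1, pow_succ, Nat.mul_div_cancel _ (by norm_num)]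

include hn hX hidx ha in
theorem commutator_eq_zpowers_sq : commutator X = Subgroup.zpowers (a ^ 2) := by
  symm
  apply Subgroup.eq_of_le_of_card_ge
  · rw [Subgroup.zpowers_le, pow_two]
    exact sq_mem_commutator n hn hX hidx a
  · rw [Nat.card_zpowers, orderOf_sq n hn a ha, card_commutator n hn hX hidx]

include hn hX hidx ha in
theorem not_mem_commutator_self : a ∉ commutator X := by
  intro h
  have h1 := Subgroup.orderOf_dvd_natCard (commutator X) h
  rw [ha, card_commutator n hn hX hidx] at h1
  have := (Nat.pow_dvd_pow_iff_le_right (by norm_num)).mp h1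
  omega

include hn hX hidx ha in
theorem pow_mem_commutator_or (i : ℕ) :
    a ^ i ∈ commutator X ∨ a⁻¹ * a ^ i ∈ commutator X := by
  rw [commutator_eq_zpowers_sq n hn hX hidx a ha]
  rcases Nat.even_or_odd' i with ⟨k, rfl | rfl⟩
  · left
    rw [pow_mul]
    exact Subgroup.pow_mem _ (Subgroup.mem_zpowers _) _
  · right
    rw [pow_succ' a (2 * k), ← mul_assoc, inv_mul_cancel, one_mul, pow_mul]
    exact Subgroup.pow_mem _ (Subgroup.mem_zpowers _) _

variable (b : X) (hb : b ∉ Subgroup.zpowers a)

include hn hX hidx ha hb in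
/-- the four cosets of the commutator subgroup -/
theorem coset_cases (g : X) : g ∈ commutator X ∨ a⁻¹ * g ∈ commutator X ∨
    b⁻¹ * g ∈ commutator X ∨ (b * a)⁻¹ * g ∈ commutator X := by
  have hA2 := index_zpowers n hn hX a ha
  by_cases hg : g ∈ Subgroup.zpowers a
  · obtain ⟨i, rfl⟩ := Submonoid.mem_powers_iff _ _ |>.mp
      ((isOfFinOrder_of_finite a).mem_powers_iff_mem_zpowers.mpr hg)
    rcases pow_mem_commutator_or n hn hX hidx a ha i with h | h
    · exact Or.inl h
    · exact Or.inr (Or.inl h)
  · have h1 : b⁻¹ * g ∈ Subgroup.zpowers a := IdxTwo.mem_of_not_mem _ hA2 hb hg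
    obtain ⟨i, hi⟩ := Submonoid.mem_powers_iff _ _ |>.mp
      ((isOfFinOrder_of_finite a).mem_powers_iff_mem_zpowers.mpr h1)
    rcases pow_mem_commutator_or n hn hX hidx a ha i with h | h
    · exact Or.inr (Or.inr (Or.inl (hi ▸ h)))
    · refine Or.inr (Or.inr (Or.inr ?_))
      rw [hi] at h
      have : (b * a)⁻¹ * g = a⁻¹ * (b⁻¹ * g) := by group
      rw [this]; exact h

include hn hX hidx ha hb in
theorem commutator_le_zpowers : commutator X ≤ Subgroup.zpowers a :=
  IdxTwo.commutator_le _ (index_zpowers n hn hX a ha) (zpowers_comm a) b hb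

include hn hX hidx ha hb in
theorem not_mem_commutator_of_not_mem (g : X) (hg : g ∉ Subgroup.zpowers a) :
    g ∉ commutator X :=
  fun h => hg (commutator_le_zpowers n hn hX hidx a ha b hb h)

/-- the preimage of `⟨g⟩` under the map onto the commutator quotient -/
def Msub (g : X) : Subgroup X :=
  (Subgroup.zpowers (QuotientGroup.mk' (commutator X) g)).comap (QuotientGroup.mk' (commutator X))

theorem mem_Msub_iff' (g u : X) : u ∈ Msub g ↔ QuotientGroup.mk' (commutator X) u ∈
    Subgroup.zpowers (QuotientGroup.mk' (commutator X) g) := Iff.rfl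

theorem commutator_le_Msub (g : X) : commutator X ≤ Msub g := by
  intro u hu
  rw [mem_Msub_iff']
  have : QuotientGroup.mk' (commutator X) u = 1 := (QuotientGroup.eq_one_iff u).mpr hu
  rw [this]
  exact Subgroup.one_mem _

theorem self_mem_Msub (g : X) : g ∈ Msub g := by
  rw [mem_Msub_iff']
  exact Subgroup.mem_zpowers _

include hn hX hidx in
theorem mem_Msub (g u : X) : u ∈ Msub g ↔ u ∈ commutator X ∨ g⁻¹ * u ∈ commutator X := by
  constructor
  · intro hu
    rw [mem_Msub_iff'] at hu
    obtain ⟨k, hk⟩ := Submonoid.mem_powers_iff _ _ |>.mp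
      ((isOfFinOrder_of_finite _).mem_powers_iff_mem_zpowers.mpr hu)
    have hsq : (QuotientGroup.mk' (commutator X) g) ^ 2 = 1 := by
      rw [← map_pow, pow_two]
      exact (QuotientGroup.eq_one_iff _).mpr (sq_mem_commutator n hn hX hidx g)
    rcases Nat.even_or_odd' k with ⟨j, rfl | rfl⟩
    · left
      rw [pow_mul, hsq, one_pow] at hk
      exact (QuotientGroup.eq_one_iff u).mp hk.symm
    · right
      rw [pow_succ, pow_mul, hsq, one_pow, one_mul] at hk
      exact QuotientGroup.eq.mp hk
  · rintro (h | h)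
    · exact commutator_le_Msub g h
    · have : u = g * (g⁻¹ * u) := by group
      rw [this]
      exact Subgroup.mul_mem _ (self_mem_Msub g) (commutator_le_Msub g h)

include hn hX hidx in
theorem index_Msub (g : X) (hg : g ∉ commutator X) : (Msub g).index = 2 := by
  unfold Msub
  rw [Subgroup.index_comap_of_surjective _ (QuotientGroup.mk'_surjective _)]
  have h1 := (Subgroup.zpowers (QuotientGroup.mk' (commutator X) g)).card_mul_index
  have h2 : Nat.card (X ⧸ commutator X) = 4 := hidx
  have h3 : orderOf (QuotientGroup.mk' (commutator X) g) = 2 := by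
    apply orderOf_eq_prime
    · rw [← map_pow, pow_two]
      exact (QuotientGroup.eq_one_iff _).mpr (sq_mem_commutator n hn hX hidx g)
    · intro h
      exact hg ((QuotientGroup.eq_one_iff g).mp h)
  rw [Nat.card_zpowers, h3, h2] at h1
  omega

theorem Msub_le (g : X) (M : Subgroup X) (hM : commutator X ≤ M) (hg : g ∈ M) : Msub g ≤ M := by
  intro u hu
  rw [mem_Msub_iff'] at hu
  obtain ⟨k, hk⟩ := Subgroup.mem_zpowers_iff.mp hu
  rw [← map_zpow] at hk
  have h1 : (g ^ k)⁻¹ * u ∈ commutator X := QuotientGroup.eq.mp hk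
  have : u = g ^ k * ((g ^ k)⁻¹ * u) := by group
  rw [this]
  exact Subgroup.mul_mem _ (Subgroup.zpow_mem _ hg k) (hM h1)

include hn hX hidx in
theorem eq_Msub (g : X) (hg : g ∉ commutator X) (M : Subgroup X) (hM2 : M.index = 2)
    (hM : commutator X ≤ M) (hgM : g ∈ M) : M = Msub g := by
  symm
  apply Subgroup.eq_of_le_of_card_ge (Msub_le g M hM hgM)
  have h3 := M.card_mul_index
  have h4 := (Msub g).card_mul_index
  rw [hM2] at h3
  rw [index_Msub n hn hX hidx g hg] at h4
  omega

include hn hX hidx ha hb in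
theorem Msub_self : Msub a = Subgroup.zpowers a :=
  (eq_Msub n hn hX hidx a (not_mem_commutator_self n hn hX hidx a ha) _
    (index_zpowers n hn hX a ha) (commutator_le_zpowers n hn hX hidx a ha b hb)
    (Subgroup.mem_zpowers a)).symm

include hn hX hidx ha hb in
theorem mul_not_mem : b * a ∉ Subgroup.zpowers a := by
  intro h
  apply hb
  have : b = (b * a) * a⁻¹ := by group
  rw [this]
  exact Subgroup.mul_mem _ h (Subgroup.inv_mem _ (Subgroup.mem_zpowers a))

include hn hX hidx ha hb in
/-- every maximal subgroup is one of three -/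
theorem coatom_cases (M : Subgroup X) (hM : IsCoatom M) :
    M = Msub a ∨ M = Msub b ∨ M = Msub (b * a) := by
  haveI : Fact (Nat.Prime 2) := ⟨Nat.prime_two⟩
  have hP : IsPGroup 2 X := IsPGroup.of_card hX
  obtain ⟨hMn, hM2⟩ := Cfsg.Agent.H1.coatom_normal_index_of_pgroup hP M hM
  have hcM : commutator X ≤ M :=
    (Cfsg.Agent.H1.commutator_le_frattini hP).trans (frattini_le_coatom hM)
  obtain ⟨g, hgM, hgc⟩ : ∃ g ∈ M, g ∉ commutator X := by
    by_contra hcon
    push_neg at hcon
    have h1 : M = commutator X := le_antisymm hcon hcM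
    rw [h1, hidx] at hM2
    omega
  have hba := mul_not_mem n hn hX hidx a ha b hb
  rcases coset_cases n hn hX hidx a ha b hb g with h | h | h | h
  · exact absurd h hgc
  · left
    apply eq_Msub n hn hX hidx a (not_mem_commutator_self n hn hX hidx a ha) M hM2 hcM
    have : a = g * (a⁻¹ * g)⁻¹ := by group
    rw [this]
    exact M.mul_mem hgM (M.inv_mem (hcM h))
  · right; left
    apply eq_Msub n hn hX hidx b (not_mem_commutator_of_not_mem n hn hX hidx a ha b hb b hb)
      M hM2 hcM
    have : b = g * (b⁻¹ * g)⁻¹ := by group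
    rw [this]
    exact M.mul_mem hgM (M.inv_mem (hcM h))
  · right; right
    apply eq_Msub n hn hX hidx (b * a)
      (not_mem_commutator_of_not_mem n hn hX hidx a ha b hb _ hba) M hM2 hcM
    have : b * a = g * ((b * a)⁻¹ * g)⁻¹ := by group
    rw [this]
    exact M.mul_mem hgM (M.inv_mem (hcM h))

include hn hX hidx ha hb in
theorem Msub_ne : Msub a ≠ Msub b ∧ Msub a ≠ Msub (b * a) ∧ Msub b ≠ Msub (b * a) := by
  have hba := mul_not_mem n hn hX hidx a ha b hb
  have hself := Msub_self n hn hX hidx a ha b hb
  refine ⟨?_, ?_, ?_⟩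
  · intro h
    apply hb
    rw [← hself, h]
    exact self_mem_Msub b
  · intro h
    apply hba
    rw [← hself, h]
    exact self_mem_Msub (b * a)
  · intro h
    have h1 : b * a ∈ Msub b := h ▸ self_mem_Msub (b * a)
    rcases (mem_Msub n hn hX hidx b (b * a)).mp h1 with h2 | h2
    · exact not_mem_commutator_of_not_mem n hn hX hidx a ha b hb _ hba h2
    · apply not_mem_commutator_self n hn hX hidx a ha
      have : b⁻¹ * (b * a) = a := by group
      rw [this] at h2
      exact h2

include hn hX hidx in
theorem commutator_eq_frattini : commutator X = frattini X := by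
  haveI : Fact (Nat.Prime 2) := ⟨Nat.prime_two⟩
  have hP : IsPGroup 2 X := IsPGroup.of_card hX
  apply le_antisymm (Cfsg.Agent.H1.commutator_le_frattini hP)
  apply Cfsg.Agent.Lib.Helper7.frattini_le_of_elemAb_quotient 2
  · intro x y
    have := Subgroup.commutator_mem_commutator (Subgroup.mem_top x) (Subgroup.mem_top y)
    rw [← commutator_def, commutatorElement_def] at this
    exact this
  · intro x
    rw [pow_two]
    exact sq_mem_commutator n hn hX hidx x

include hn hX hidx ha hb in
/-- the centre has order two, generated by the involution of `⟨a⟩` -/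
theorem center_eq : Subgroup.center X = Subgroup.zpowers (a ^ (2 ^ (n - 2))) ∧
    Nat.card (Subgroup.center X) = 2 := by
  haveI : Fact (Nat.Prime 2) := ⟨Nat.prime_two⟩
  have hP : IsPGroup 2 X := IsPGroup.of_card hX
  have hA2 := index_zpowers n hn hX a ha
  have hAab := zpowers_comm a
  obtain ⟨z, hzdef⟩ : ∃ z : X, z = a ^ (2 ^ (n - 2)) := ⟨_, rfl⟩
  have hzz : z * z = 1 := by rw [hzdef]; exact z_sq n hn a ha
  have hZA : ∀ w ∈ Subgroup.center X, w ∈ Subgroup.zpowers a := by
    intro w hw
    by_contra hwA
    have h1 : ⁅w, a⁆ = b * a * b⁻¹ * a⁻¹ :=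
      IdxTwo.comm_eq_of_not_mem _ hA2 hAab b hb hwA (Subgroup.mem_zpowers a)
    have h2 : ⁅w, a⁆ = 1 := by
      rw [commutatorElement_eq_one_iff_mul_comm]
      exact (Subgroup.mem_center_iff.mp hw a).symm
    rw [h2] at h1
    apply not_comm n hn hX hidx a ha b hb
    calc b * a * b⁻¹ = (b * a * b⁻¹ * a⁻¹) * a := by group
      _ = a := by rw [← h1, one_mul]
  have hZ : ∀ w ∈ Subgroup.center X, w = 1 ∨ w = z := by
    intro w hw
    rw [hzdef]
    apply fixed n hn hX hidx a ha b hb w (hZA w hw)
    rw [Subgroup.mem_center_iff.mp hw b, mul_inv_cancel_right]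
  have hzcen : z ∈ Subgroup.center X := by
    haveI : Nontrivial X := by
      rw [← Finite.one_lt_card_iff_nontrivial, hX]
      exact Nat.one_lt_two_pow (by omega)
    have hnt : Nontrivial (Subgroup.center X) := hP.center_nontrivial
    obtain ⟨w, hw⟩ := exists_ne (1 : Subgroup.center X)
    rcases hZ w w.2 with h | h
    · exact absurd (Subtype.ext h) hw
    · rw [← h]; exact w.2
  have hz1 : z ≠ 1 := by
    intro h
    rw [hzdef] at h
    have h3 := orderOf_dvd_of_pow_eq_one h
    rw [ha] at h3
    have := (Nat.pow_dvd_pow_iff_le_right (by norm_num)).mp h3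
    omega
  have hzo : orderOf z = 2 := orderOf_eq_prime (by rw [pow_two]; exact hzz) hz1
  have hcen_eq : Subgroup.center X = Subgroup.zpowers z := by
    apply le_antisymm
    · intro w hw
      rcases hZ w hw with h | h
      · rw [h]; exact Subgroup.one_mem _
      · rw [h]; exact Subgroup.mem_zpowers z
    · exact Subgroup.zpowers_le.mpr hzcen
  refine ⟨hzdef ▸ hcen_eq, ?_⟩
  rw [hcen_eq, Nat.card_zpowers, hzo]

include hn hX hidx ha hb in
/-- proper normal subgroups are maximal or cyclic inside the commutator subgroup -/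
theorem normal_cases (N : Subgroup X) [hN : N.Normal] (hNtop : N ≠ ⊤) :
    IsCoatom N ∨ (IsCyclic N ∧ N ≤ commutator X) := by
  have hA2 := index_zpowers n hn hX a ha
  have hAab := zpowers_comm a
  by_cases hNA : N ≤ Subgroup.zpowers a
  · by_cases hNeq : N = Subgroup.zpowers a
    · left
      rw [hNeq]
      exact isCoatom_of_index_two _ hA2
    · right
      refine ⟨Subgroup.isCyclic_of_le hNA, ?_⟩
      intro u hu
      obtain ⟨i, hi⟩ := Submonoid.mem_powers_iff _ _ |>.mp
        ((isOfFinOrder_of_finite a).mem_powers_iff_mem_zpowers.mpr (hNA hu))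
      rcases Nat.even_or_odd' i with ⟨k, rfl | rfl⟩
      · rw [← hi, commutator_eq_zpowers_sq n hn hX hidx a ha, pow_mul]
        exact Subgroup.pow_mem _ (Subgroup.mem_zpowers _) _
      · exfalso
        apply hNeq
        apply le_antisymm hNA
        have hcop : (orderOf a).Coprime (2 * k + 1) := by
          rw [ha]
          apply Nat.Coprime.pow_left
          rw [Nat.coprime_two_left]
          exact ⟨k, rfl⟩
        have h1 : orderOf u = orderOf a := by rw [← hi]; exact hcop.orderOf_pow
        have h2 : Subgroup.zpowers u = Subgroup.zpowers a := by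
          apply Subgroup.eq_of_le_of_card_ge
          · rw [Subgroup.zpowers_le]; exact hNA hu
          · rw [Nat.card_zpowers, Nat.card_zpowers, h1]
        rw [← h2, Subgroup.zpowers_le]
        exact hu
  · left
    obtain ⟨g, hgN, hgA⟩ := SetLike.not_le_iff_exists.mp hNA
    have hcN : commutator X ≤ N := by
      intro x hx
      obtain ⟨u, hu, rfl⟩ := (IdxTwo.mem_commutator_iff _ hA2 hAab b hb x).mp hx
      rw [← IdxTwo.comm_eq_of_not_mem _ hA2 hAab b hb hgA hu, commutatorElement_def]
      have : g * u * g⁻¹ * u⁻¹ = g * (u * g⁻¹ * u⁻¹) := by group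
      rw [this]
      exact N.mul_mem hgN (hN.conj_mem _ (N.inv_mem hgN) u)
    have h1 : N.index ∣ 4 := hidx ▸ Subgroup.index_dvd_of_le hcN
    have h2 : N.index ≠ 1 := fun h => hNtop (Subgroup.index_eq_one.mp h)
    have h3 : N.index ≠ 4 := by
      intro h
      have h5 := N.card_mul_index
      have h6 := (commutator X).card_mul_index
      rw [h] at h5
      rw [hidx] at h6
      have h7 : commutator X = N :=
        Subgroup.eq_of_le_of_card_ge hcN (by omega)
      exact not_mem_commutator_of_not_mem n hn hX hidx a ha b hb g hgA (h7 ▸ hgN)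
    have h4 : N.index = 2 := by
      have : N.index ≤ 4 := Nat.le_of_dvd (by norm_num) h1
      interval_cases (N.index) <;> simp_all
    exact isCoatom_of_index_two _ h4

end

end Cfsg.Agent.H2.MaxClassSub
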