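import Mathlib

/-!
# `H` maximal in `M` maximal in `G` with `⟨H, H^g⟩ ∩ M = H`: then `H^G ∩ M = H`

(author: helper2)
-/

set_option autoImplicit false

namespace Cfsg.Agent.H2.MaxMax

variable {G : Type*} [Group G]

/-- the conjugate `g H g⁻¹` -/
abbrev cj (g : G) (H : Subgroup G) : Subgroup G := H.map (MulAut.conj g).toMonoidHom

theorem mem_cj {g x : G} {H : Subgroup G} : x ∈ cj g H ↔ g⁻¹ * x * g ∈ H := by
  unfold cj
  rw [Subgroup.mem_map]
  constructor
  · rintro ⟨y, hy, rfl⟩
    have : g⁻¹ * ((MulAut.conj g).toMonoidHom y) * g = y := by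
      simp [MulAut.conj_apply, mul_assoc]
    rw [this]; exact hy
  · intro h
    exact ⟨g⁻¹ * x * g, h, by simp [MulAut.conj_apply, mul_assoc]⟩

theorem conj_mem_cj {g x : G} {H : Subgroup G} (hx : x ∈ H) : g * x * g⁻¹ ∈ cj g H := by
  rw [mem_cj]
  have : g⁻¹ * (g * x * g⁻¹) * g = x := by group
  rw [this]; exact hx

theorem card_cj [Finite G] (g : G) (H : Subgroup G) : Nat.card (cj g H) = Nat.card H :=
  Subgroup.card_map_of_injective (MulAut.conj g).injective

theorem cj_eq_of_le [Finite G] {g : G} {H : Subgroup G} (h : cj g H ≤ H) : cj g H = H :=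
  Subgroup.eq_of_le_of_card_ge h (card_cj g H).ge

theorem cj_sup (g : G) (H K : Subgroup G) : cj g (H ⊔ K) = cj g H ⊔ cj g K :=
  Subgroup.map_sup H K _

theorem mem_normalizer_iff_cj {g : G} {H : Subgroup G} :
    g ∈ Subgroup.normalizer (H : Set G) ↔ cj g H = H :=
  Subgroup.mem_normalizer_iff_map_conj_eq

/-- the transfer step -/
theorem transfer_case [Finite G] (H M : Subgroup G) (hHM : H ≤ M)
    [hHn : (H.subgroupOf M).Normal]
    (hcomm : ∀ a b : ↥M ⧸ H.subgroupOf M, a * b = b * a)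
    (hB : ∀ x : G, x ∉ M → M ⊓ cj x M ≤ H) :
    ∃ L : Subgroup G, L.Normal ∧ H ≤ L ∧ L ⊓ M ≤ H := by
  classical
  let _ : CommGroup (↥M ⧸ H.subgroupOf M) :=
    { (inferInstance : Group (↥M ⧸ H.subgroupOf M)) with mul_comm := hcomm }
  obtain ⟨ϕ, hϕ⟩ : ∃ ϕ : ↥M →* (↥M ⧸ H.subgroupOf M), ϕ = QuotientGroup.mk' (H.subgroupOf M) :=
    ⟨_, rfl⟩
  have hϕ1 : ∀ (y : G) (hy : y ∈ M), ϕ ⟨y, hy⟩ = 1 ↔ y ∈ H := by
    intro y hy
    rw [hϕ, QuotientGroup.mk'_apply, QuotientGroup.eq_one_iff, Subgroup.mem_subgroupOf]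
  have key : ∀ (m : G) (hm : m ∈ M), MonoidHom.transfer ϕ m = ϕ ⟨m, hm⟩ := by
    intro m hm
    have : Fintype (Quotient (MulAction.orbitRel (Subgroup.zpowers m) (G ⧸ M))) :=
      Fintype.ofFinite _
    rw [MonoidHom.transfer_eq_prod_quotient_orbitRel_zpowers_quot]
    -- general facts about a term
    have hterm : ∀ (x : G) (n : ℕ) (hmem : x⁻¹ * m ^ n * x ∈ M),
        (x ∈ M → n = 1 → ϕ ⟨x⁻¹ * m ^ n * x, hmem⟩ = ϕ ⟨m, hm⟩) ∧
        (x ∉ M → ϕ ⟨x⁻¹ * m ^ n * x, hmem⟩ = 1) := by
      intro x n hmem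
      constructor
      · intro hx hn
        subst hn
        have h1 : (⟨x⁻¹ * m ^ 1 * x, hmem⟩ : ↥M) = ⟨x, hx⟩⁻¹ * ⟨m, hm⟩ * ⟨x, hx⟩ := by
          apply Subtype.ext
          simp
        rw [h1, map_mul, map_mul, map_inv, mul_comm, ← mul_assoc, mul_inv_cancel, one_mul]
      · intro hx
        rw [hϕ1]
        apply hB x⁻¹ (fun h => hx (by simpa using M.inv_mem h))
        refine ⟨hmem, ?_⟩
        show x⁻¹ * m ^ n * x ∈ cj x⁻¹ M
        rw [mem_cj]
        have : (x⁻¹)⁻¹ * (x⁻¹ * m ^ n * x) * x⁻¹ = m ^ n := by group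
        rw [this]
        exact M.pow_mem hm n
    obtain ⟨α, hα⟩ : ∃ α : G ⧸ M, α = ((1 : G) : G ⧸ M) := ⟨_, rfl⟩
    have hmemM : ∀ x : G, (x : G ⧸ M) = α ↔ x ∈ M := by
      intro x
      rw [hα, QuotientGroup.eq]
      constructor
      · intro h
        have := M.inv_mem h
        simpa using this
      · intro h
        simpa using M.inv_mem h
    obtain ⟨q₀, hq₀⟩ : ∃ q₀ : Quotient (MulAction.orbitRel (Subgroup.zpowers m) (G ⧸ M)),
        q₀ = Quotient.mk'' α := ⟨_, rfl⟩
    have hfixα : ∀ z ∈ Subgroup.zpowers m, z • α = α := by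
      intro z hz
      have hzM : z ∈ M := (Subgroup.zpowers_le.mpr hm) hz
      rw [hα]
      show ((z * 1 : G) : G ⧸ M) = ((1 : G) : G ⧸ M)
      rw [QuotientGroup.eq]
      simpa using M.inv_mem hzM
    have hout0 : q₀.out = α := by
      have h1 : Quotient.mk'' q₀.out = (Quotient.mk'' α :
          Quotient (MulAction.orbitRel (Subgroup.zpowers m) (G ⧸ M))) := by
        rw [Quotient.out_eq', hq₀]
      have h2 := Quotient.exact' h1
      -- h2 : q₀.out ∈ orbit α
      obtain ⟨⟨z, hz⟩, hz2⟩ := h2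
      have h3 : z • α = q₀.out := hz2
      rw [← h3, hfixα z hz]
    rw [Finset.prod_eq_single q₀]
    · have hx : q₀.out.out ∈ M := by
        rw [← hmemM, QuotientGroup.out_eq', hout0]
      apply (hterm _ _ _).1 hx
      rw [Function.minimalPeriod_eq_one_iff_isFixedPt, hout0]
      exact hfixα m (Subgroup.mem_zpowers m)
    · intro q _ hq
      apply (hterm _ _ _).2
      intro hx
      apply hq
      have h1 : q.out = α := by
        rw [← hmemM, QuotientGroup.out_eq'] at hx
        exact hx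
      rw [hq₀, ← h1, Quotient.out_eq']
    · intro h; exact absurd (Finset.mem_univ _) h
  refine ⟨(MonoidHom.transfer ϕ).ker, inferInstance, ?_, ?_⟩
  · intro h hh
    rw [MonoidHom.mem_ker, key h (hHM hh), hϕ1]
    exact hh
  · rintro x ⟨hxL, hxM⟩
    have h1 : MonoidHom.transfer ϕ x = 1 := hxL
    rw [key x hxM, hϕ1] at h1
    exact h1


/-- a quotient by a maximal normal subgroup is commutative -/
theorem comm_of_coatom {M : Type*} [Group M] (H : Subgroup M) [H.Normal] (hmax : IsCoatom H) :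
    ∀ a b : M ⧸ H, a * b = b * a := by
  intro a b
  obtain ⟨A, hA⟩ : ∃ A : Subgroup M, A = (Subgroup.zpowers a).comap (QuotientGroup.mk' H) :=
    ⟨_, rfl⟩
  have hHA : H ≤ A := by
    intro x hx
    rw [hA, Subgroup.mem_comap, QuotientGroup.mk'_apply, (QuotientGroup.eq_one_iff x).mpr hx]
    exact Subgroup.one_mem _
  obtain ⟨x, rfl⟩ := QuotientGroup.mk'_surjective H a
  obtain ⟨y, rfl⟩ := QuotientGroup.mk'_surjective H b
  rcases hmax.le_iff.mp hHA with h | h
  · have hy : y ∈ A := by rw [h]; trivial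
    rw [hA, Subgroup.mem_comap] at hy
    obtain ⟨k, hk⟩ := Subgroup.mem_zpowers_iff.mp hy
    rw [← hk]
    exact ((Commute.refl _).zpow_right k).eq
  · have hx : x ∈ A := by
      rw [hA, Subgroup.mem_comap]; exact Subgroup.mem_zpowers _
    rw [h] at hx
    have : (QuotientGroup.mk' H) x = 1 := (QuotientGroup.eq_one_iff x).mpr hx
    rw [this, one_mul, mul_one]

variable [Finite G]

theorem main (H M : Subgroup G) (hHM : H ≤ M)
    (hcl : ∀ g : G, (H ⊔ cj g H) ⊓ M = H)
    (hmaxH : IsCoatom (H.subgroupOf M)) (hmaxM : IsCoatom M) :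
    Subgroup.normalClosure (H : Set G) ⊓ M = H := by
  -- weak closure
  have hwc : ∀ g : G, cj g H ≤ M → cj g H = H := by
    intro g hg
    apply cj_eq_of_le
    have h1 : H ⊔ cj g H ≤ M := sup_le hHM hg
    have h2 := hcl g
    rw [inf_eq_left.mpr h1] at h2
    calc cj g H ≤ H ⊔ cj g H := le_sup_right
      _ = H := h2
  have hdich : ∀ L : Subgroup G, H ≤ L → L ≤ M → L = H ∨ L = M := by
    intro L hHL hLM
    have h1 : H.subgroupOf M ≤ L.subgroupOf M := by
      intro x hx
      rw [Subgroup.mem_subgroupOf] at hx ⊢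
      exact hHL hx
    rcases hmaxH.le_iff.mp h1 with h | h
    · right
      exact le_antisymm hLM (Subgroup.subgroupOf_eq_top.mp h)
    · left
      rw [Subgroup.subgroupOf_inj, inf_eq_left.mpr hLM, inf_eq_left.mpr hHM] at h
      exact h
  have hHneM : H ≠ M := by
    intro h
    apply hmaxH.1
    rw [h]
    exact Subgroup.subgroupOf_self M
  have hMnorm : M ≤ Subgroup.normalizer (H : Set G) := by
    intro m hm
    rw [mem_normalizer_iff_cj]
    apply hwc
    intro x hx
    rw [mem_cj] at hx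
    have h1 : m * (m⁻¹ * x * m) * m⁻¹ ∈ M :=
      M.mul_mem (M.mul_mem hm (hHM hx)) (M.inv_mem hm)
    have h2 : m * (m⁻¹ * x * m) * m⁻¹ = x := by group
    rwa [h2] at h1
  have hHnM : (H.subgroupOf M).Normal := by
    constructor
    intro x hx m
    rw [Subgroup.mem_subgroupOf] at hx ⊢
    have h1 := hMnorm m.2
    rw [Subgroup.mem_normalizer_iff] at h1
    exact (h1 x).mp hx
  obtain ⟨N, hN⟩ : ∃ N, N = Subgroup.normalClosure (H : Set G) := ⟨_, rfl⟩
  rw [← hN]
  have hHN : H ≤ N := by rw [hN]; exact Subgroup.le_normalClosure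
  have hNn : N.Normal := by rw [hN]; exact Subgroup.normalClosure_normal
  rcases hdich (N ⊓ M) (le_inf hHN hHM) inf_le_right with h | h
  · exact h
  exfalso
  have hMN : M ≤ N := inf_eq_right.mp h
  have hcjN : ∀ g : G, cj g H ≤ N := by
    intro g x hx
    rw [mem_cj] at hx
    have h1 := hNn.conj_mem _ (hHN hx) g
    have h2 : g * (g⁻¹ * x * g) * g⁻¹ = x := by group
    rwa [h2] at h1
  rcases hmaxM.le_iff.mp hMN with hNtop | hNM
  swap
  · -- N = M
    have hHnorm : H.Normal := by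
      constructor
      intro x hx g
      have h1 : cj g H = H := hwc g (hNM ▸ hcjN g)
      rw [← h1]
      exact conj_mem_cj hx
    have h2 : N = H := by rw [hN]; exact Subgroup.normalClosure_eq_self H
    exact hHneM (h2 ▸ hNM)
  -- N = ⊤
  have hHnn : ¬ H.Normal := by
    intro hn
    have h2 : N = H := by rw [hN]; exact Subgroup.normalClosure_eq_self H
    rw [h2] at hNtop
    apply hmaxM.1
    exact top_le_iff.mp (hNtop ▸ hHM)
  have hnormH : Subgroup.normalizer (H : Set G) = M := by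
    rcases hmaxM.le_iff.mp hMnorm with h1 | h1
    · exact absurd (Subgroup.normalizer_eq_top_iff.mp h1) hHnn
    · exact h1
  by_cases hA : ∃ g, cj g H ≠ H ∧ ¬ (M ⊓ cj g M ≤ H)
  · obtain ⟨g, hg1, hg2⟩ := hA
    obtain ⟨K, hK⟩ : ∃ K, K = H ⊔ cj g H := ⟨_, rfl⟩
    obtain ⟨D, hD⟩ : ∃ D, D = M ⊓ cj g M := ⟨_, rfl⟩
    have hHD : H ⊔ D = M := by
      rcases hdich (H ⊔ D) le_sup_left (sup_le hHM (hD ▸ inf_le_left)) with h1 | h1
      · exfalso
        apply hg2
        rw [← hD]
        calc D ≤ H ⊔ D := le_sup_right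
          _ = H := h1
      · exact h1
    have hDK : D ≤ Subgroup.normalizer (K : Set G) := by
      intro d hd
      rw [hD] at hd
      rw [mem_normalizer_iff_cj, hK, cj_sup]
      have h1 : cj d H = H := by
        rw [← mem_normalizer_iff_cj, hnormH]; exact hd.1
      have h2 : cj d (cj g H) = cj g H := by
        apply cj_eq_of_le
        intro x hx
        rw [mem_cj, mem_cj] at hx
        rw [mem_cj]
        -- g⁻¹ d g normalises H
        have h3 : g⁻¹ * d * g ∈ M := mem_cj.mp hd.2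
        have h4 := hMnorm h3
        rw [Subgroup.mem_normalizer_iff] at h4
        have h5 := (h4 _).mp hx
        have h6 : g⁻¹ * d * g * (g⁻¹ * (d⁻¹ * x * d) * g) * (g⁻¹ * d * g)⁻¹ = g⁻¹ * x * g := by
          group
        rwa [h6] at h5
      rw [h1, h2]
    have hMK : M ≤ Subgroup.normalizer (K : Set G) := by
      rw [← hHD]
      apply sup_le _ hDK
      exact (hK ▸ le_sup_left : H ≤ K).trans Subgroup.le_normalizer
    rcases hmaxM.le_iff.mp hMK with h1 | h1
    · have hKn : K.Normal := Subgroup.normalizer_eq_top_iff.mp h1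
      have h2 : N ≤ K := by
        rw [hN]
        exact Subgroup.normalClosure_le_normal (hK ▸ le_sup_left : H ≤ K)
      have h3 : M ≤ H := by
        calc M ≤ K ⊓ M := le_inf (hMN.trans h2) le_rfl
          _ = H := by rw [hK]; exact hcl g
      exact hHneM (le_antisymm hHM h3)
    · apply hg1
      apply hwc
      calc cj g H ≤ K := hK ▸ le_sup_right
        _ ≤ Subgroup.normalizer (K : Set G) := Subgroup.le_normalizer
        _ = M := h1
  · push_neg at hA
    have hB : ∀ x : G, x ∉ M → M ⊓ cj x M ≤ H := by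
      intro x hx
      apply hA
      intro h1
      apply hx
      rw [← hnormH, mem_normalizer_iff_cj]
      exact h1
    obtain ⟨L, hLn, hHL, hLM⟩ :=
      transfer_case H M hHM (comm_of_coatom (H.subgroupOf M) hmaxH) hB
    have h2 : N ≤ L := by
      rw [hN]
      exact Subgroup.normalClosure_le_normal hHL
    have h3 : M ≤ H := by
      calc M ≤ L ⊓ M := le_inf (hMN.trans h2) le_rfl
        _ ≤ H := hLM
    exact hHneM (le_antisymm hHM h3)

end Cfsg.Agent.H2.MaxMax
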