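import Mathlib

/-!
# Mazurov's lemma: the abelian case

If a cyclic group `⟨h⟩` acts fixed-point-freely on `R`, `R⟨h⟩` acts on an abelian group `A`
of order prime to `|R|`, and the norm `∏ i < m, h^i • a` is trivial for all `a`, then `R` acts
trivially on `A`.
-/

namespace Cfsg.Agent.H2.Maz

open Finset

theorem abelian_lemma {Γ A : Type*} [Group Γ] [CommGroup A] [Finite A] (R : Subgroup Γ) [Finite R]
    (h : Γ) (m' : ℕ) (φ : Γ →* MulAut A)
    (hnR : ∀ y ∈ R, ∀ i : ℕ, y * h ^ i * y⁻¹ * (h ^ i)⁻¹ ∈ R)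
    (hfpf : ∀ y ∈ R, ∀ i < m', y * h ^ (i + 1) * y⁻¹ = h ^ (i + 1) → y = 1)
    (hcop : (Nat.card A).Coprime (Nat.card R))
    (hnorm : ∀ a : A, ∏ i ∈ range (m' + 1), φ (h ^ i) a = 1) :
    ∀ z ∈ R, ∀ a : A, φ z a = a := by
  classical
  let _ : Fintype R := Fintype.ofFinite R
  intro z hz a
  have hmul : ∀ (x y : Γ) (b : A), φ (x * y) b = φ x (φ y b) := by
    intro x y b; rw [map_mul]; rfl
  -- (I)
  have hI : ∏ y : R, ∏ i ∈ range (m' + 1), φ ((y : Γ) * h ^ i) a = 1 := by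
    have : ∀ y : R, ∏ i ∈ range (m' + 1), φ ((y : Γ) * h ^ i) a = 1 := by
      intro y
      simp_rw [hmul]
      rw [← map_prod, hnorm, map_one]
    exact Finset.prod_eq_one (fun y _ => this y)
  -- the other products
  have hrest : ∀ b : A, ∏ i ∈ range m', φ (h ^ (i + 1)) b = b⁻¹ := by
    intro b
    have h1 := hnorm b
    rw [Finset.prod_range_succ', pow_zero, map_one] at h1
    exact eq_inv_of_mul_eq_one_left h1
  have hbij : ∀ i < m', ∏ y : R, φ ((y : Γ) * h ^ (i + 1)) a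
      = ∏ y : R, φ ((y : Γ) * h ^ (i + 1) * (y : Γ)⁻¹) a := by
    intro i hi
    symm
    let β : R → R := fun y => ⟨(y : Γ) * h ^ (i + 1) * (y : Γ)⁻¹ * (h ^ (i + 1))⁻¹, hnR y y.2 (i + 1)⟩
    have hβinj : Function.Injective β := by
      intro y y' hyy
      have h1 : (y : Γ) * h ^ (i + 1) * (y : Γ)⁻¹ * (h ^ (i + 1))⁻¹
          = (y' : Γ) * h ^ (i + 1) * (y' : Γ)⁻¹ * (h ^ (i + 1))⁻¹ := congrArg Subtype.val hyy
      have h2 : (y : Γ) * h ^ (i + 1) * (y : Γ)⁻¹ = (y' : Γ) * h ^ (i + 1) * (y' : Γ)⁻¹ :=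
        mul_right_cancel h1
      have h3 : ((y' : Γ)⁻¹ * y) * h ^ (i + 1) * ((y' : Γ)⁻¹ * y)⁻¹ = h ^ (i + 1) := by
        have : ((y' : Γ)⁻¹ * y) * h ^ (i + 1) * ((y' : Γ)⁻¹ * y)⁻¹
            = (y' : Γ)⁻¹ * ((y : Γ) * h ^ (i + 1) * (y : Γ)⁻¹) * y' := by group
        rw [this, h2]; group
      have h4 := hfpf _ (R.mul_mem (R.inv_mem y'.2) y.2) i hi h3
      apply Subtype.ext
      have : (y : Γ) = y' * ((y' : Γ)⁻¹ * y) := by group
      rw [this, h4, mul_one]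
    have hβ : Function.Bijective β := Finite.injective_iff_bijective.mp hβinj
    refine Fintype.prod_bijective β hβ _ _ ?_
    intro y
    simp only [β]
    congr 2
    group
  have hII : ∏ y : R, ∏ i ∈ range (m' + 1), φ ((y : Γ) * h ^ i) a
      = (a⁻¹) ^ (Fintype.card R) * ∏ y : R, φ (y : Γ) a := by
    rw [Finset.prod_comm, Finset.prod_range_succ']
    congr 1
    · rw [Finset.prod_congr rfl (fun i hi => hbij i (Finset.mem_range.mp hi)), Finset.prod_comm]
      have : ∀ y : R, ∏ i ∈ range m', φ ((y : Γ) * h ^ (i + 1) * (y : Γ)⁻¹) a = a⁻¹ := by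
        intro y
        simp_rw [hmul]
        rw [← map_prod, hrest, map_inv, ← hmul, mul_inv_cancel, map_one]
        rfl
      rw [Finset.prod_congr rfl (fun y _ => this y), Finset.prod_const, Finset.card_univ]
    · simp
  -- τ is R-invariant
  have hIII : φ z (∏ y : R, φ (y : Γ) a) = ∏ y : R, φ (y : Γ) a := by
    rw [map_prod]
    simp_rw [← hmul]
    exact Fintype.prod_equiv (Equiv.mulLeft (⟨z, hz⟩ : R)) _ _ (fun y => rfl)
  have hτ : ∏ y : R, φ (y : Γ) a = a ^ (Fintype.card R) := by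
    rw [hI] at hII
    rw [inv_pow] at hII
    exact (eq_mul_of_inv_mul_eq hII.symm).trans (mul_one _) |>.symm ▸ rfl
  rw [hτ, map_pow] at hIII
  rw [← Nat.card_eq_fintype_card] at hIII
  exact (powCoprime hcop).injective hIII

end Cfsg.Agent.H2.Maz
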