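import Mathlib
import Cfsg.Prelude.Def_Solvable
import Cfsg.Agent.H1.FrobeniusCount
import Cfsg.Agent.H1.SylowConj

/-!
# Mazurov's lemma: preliminaries
-/

namespace Cfsg.Agent.H2.Maz

open scoped Pointwise

/-- a subgroup containing a Sylow `p`-subgroup for every prime `p` is everything -/
theorem eq_top_of_forall_sylow_le {K : Type*} [Group K] [Finite K] (M : Subgroup K)
    (h : ∀ p : ℕ, p.Prime → ∃ P : Sylow p K, (P : Subgroup K) ≤ M) : M = ⊤ := by
  rw [← Subgroup.index_eq_one]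
  by_contra hne
  obtain ⟨p, hp, hpd⟩ := Nat.exists_prime_and_dvd hne
  obtain ⟨P, hP⟩ := h p hp
  have := Fact.mk hp
  exact P.not_dvd_index (dvd_trans hpd (Subgroup.index_dvd_of_le hP))

/-- if `G` has no element of order `p * m` for `p ∣ |N|`, every element whose image mod `N` has
order `m` has order `m`. -/
theorem pow_eq_one_of_no_order {G : Type*} [Group G] [Finite G] (N : Subgroup G) [N.Normal]
    (m : ℕ) (hm : 0 < m)
    (hno : ∀ p : ℕ, p.Prime → p ∣ Nat.card N → ∀ g : G, orderOf g ≠ p * m)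
    (g : G) (hg : orderOf (QuotientGroup.mk' N g) = m) : g ^ m = 1 := by
  by_contra hne
  have hxN : g ^ m ∈ N := by
    rw [← QuotientGroup.eq_one_iff, QuotientGroup.mk_pow]
    have := pow_orderOf_eq_one (QuotientGroup.mk' N g)
    rwa [hg] at this
  have hk1 : orderOf (g ^ m) ≠ 1 := by
    rwa [Ne, orderOf_eq_one_iff]
  obtain ⟨p, hp, hpd⟩ := Nat.exists_prime_and_dvd hk1
  have hkN : orderOf (g ^ m) ∣ Nat.card N := by
    have := orderOf_dvd_natCard (⟨g ^ m, hxN⟩ : N)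
    rwa [← Subgroup.orderOf_coe] at this
  have hmdvd : m ∣ orderOf g := by
    rw [← hg]
    apply orderOf_dvd_of_pow_eq_one
    rw [← map_pow, pow_orderOf_eq_one, map_one]
  have hk : orderOf (g ^ m) = orderOf g / m := by
    rw [orderOf_pow' g hm.ne', Nat.gcd_eq_right hmdvd]
  obtain ⟨k, hkdef⟩ := hmdvd
  have hkk : orderOf (g ^ m) = k := by
    rw [hk, hkdef, Nat.mul_div_cancel_left _ hm]
  rw [hkk] at hpd
  obtain ⟨k', hk'⟩ := hpd
  have hk'pos : 0 < k' := by
    rcases Nat.eq_zero_or_pos k' with h0 | h0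
    · exfalso
      rw [h0, mul_zero] at hk'
      rw [hk', mul_zero] at hkdef
      exact (orderOf_pos g).ne' hkdef
    · exact h0
  apply hno p hp (dvd_trans ⟨k', hkk.trans hk'⟩ hkN) (g ^ k')
  rw [orderOf_pow' g hk'pos.ne', hkdef, hk']
  have : Nat.gcd (m * (p * k')) k' = k' := Nat.gcd_eq_right ⟨m * p, by ring⟩
  rw [this]
  have : m * (p * k') = (p * m) * k' := by ring
  rw [this, Nat.mul_div_cancel _ hk'pos]

section frob

variable {L : Type*} [Group L] (Fb Hb : Subgroup L)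

theorem frob_inf (hker : Cfsg.frobeniusKernel Hb = (Fb : Set L)) : Fb ⊓ Hb = ⊥ := by
  rw [eq_bot_iff]
  intro x hx
  rw [Subgroup.mem_inf] at hx
  have h1 : x ∈ Cfsg.frobeniusKernel Hb := by rw [hker]; exact hx.1
  rcases h1 with h1 | h1
  · exact h1
  · exfalso
    apply h1 1
    rw [map_one, one_smul]
    exact hx.2

theorem frob_exists_conj (hker : Cfsg.frobeniusKernel Hb = (Fb : Set L)) (x : L) (hx : x ∉ Fb) :
    ∃ g : L, ∃ y ∈ Hb, x = g * y * g⁻¹ := by
  have h1 : x ∉ Cfsg.frobeniusKernel Hb := by rw [hker]; exact hx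
  simp only [Cfsg.frobeniusKernel, Set.mem_ofPred_eq, not_or, not_forall, not_not] at h1
  obtain ⟨g, hg⟩ := h1.2
  rw [Cfsg.Agent.H1.mem_conj_smul_iff'] at hg
  exact ⟨g, g⁻¹ * x * g, hg, by group⟩

theorem frob_compl [Finite L] (hHb : Cfsg.IsFrobeniusComplement Hb)
    (hker : Cfsg.frobeniusKernel Hb = (Fb : Set L)) : Subgroup.IsComplement' Fb Hb := by
  apply Subgroup.isComplement'_of_card_mul_and_disjoint
  · have h1 := Cfsg.Agent.H1.card_frobeniusKernel Hb hHb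
    rw [hker] at h1
    have h2 : Nat.card Fb = Hb.index := h1
    rw [h2, mul_comm, Subgroup.card_mul_index]
  · rw [disjoint_iff]; exact frob_inf Fb Hb hker

theorem frob_conj_generator [Finite L] [hFn : Fb.Normal] (hHb : Cfsg.IsFrobeniusComplement Hb)
    (hker : Cfsg.frobeniusKernel Hb = (Fb : Set L)) (hb : L) (hhb : hb ∈ Hb)
    (hgen : ∀ x ∈ Hb, x ∈ Subgroup.zpowers hb) (f : L) (hf : f ∈ Fb) :
    ∃ g : L, f * hb = g * hb * g⁻¹ := by
  have hinf := frob_inf Fb Hb hker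
  have hb1 : hb ≠ 1 := by
    intro h1
    apply hHb.1
    rw [eq_bot_iff]
    intro x hx
    have := hgen x hx
    rw [h1, Subgroup.zpowers_one_eq_bot] at this
    exact this
  have hnot : f * hb ∉ Fb := by
    intro hmem
    have h2 : hb ∈ Fb := by
      have := Fb.mul_mem (Fb.inv_mem hf) hmem
      rwa [inv_mul_cancel_left] at this
    have h3 : hb ∈ Fb ⊓ Hb := ⟨h2, hhb⟩
    rw [hinf] at h3
    exact hb1 h3
  obtain ⟨g, x, hx, hfx⟩ := frob_exists_conj Fb Hb hker _ hnot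
  obtain ⟨⟨f', h'⟩, hfh⟩ := (frob_compl Fb Hb hHb hker).2 g
  have hfh' : (f' : L) * (h' : L) = g := hfh
  have hcomm : (h' : L) * x = x * h' := by
    obtain ⟨a, ha⟩ := hgen x hx
    obtain ⟨b, hb'⟩ := hgen h' h'.2
    have ha' : hb ^ a = x := ha
    have hb'' : hb ^ b = (h' : L) := hb'
    rw [← ha', ← hb'', ← zpow_add, ← zpow_add, add_comm]
  have hfx' : f * hb = f' * x * (f' : L)⁻¹ := by
    rw [hfx, ← hfh']
    calc (f' : L) * h' * x * ((f' : L) * h')⁻¹
        = f' * (h' * x) * (h' : L)⁻¹ * (f' : L)⁻¹ := by group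
      _ = f' * (x * h') * (h' : L)⁻¹ * (f' : L)⁻¹ := by rw [hcomm]
      _ = _ := by group
  have hE : hb = f⁻¹ * (f' * x * (f' : L)⁻¹) := by rw [← hfx']; group
  have hxhb : hb = x := by
    have h1 : hb * x⁻¹ ∈ Fb := by
      have h2 : hb * x⁻¹ = f⁻¹ * f' * (x * (f' : L)⁻¹ * x⁻¹) := by
        nth_rewrite 1 [hE]; group
      rw [h2]
      exact Fb.mul_mem (Fb.mul_mem (Fb.inv_mem hf) f'.2) (hFn.conj_mem _ (Fb.inv_mem f'.2) x)
    have h3 : hb * x⁻¹ ∈ Fb ⊓ Hb := ⟨h1, Hb.mul_mem hhb (Hb.inv_mem hx)⟩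
    rw [hinf] at h3
    exact mul_inv_eq_one.mp h3
  exact ⟨f', by rw [hfx', hxhb]⟩

theorem frob_fpf [hFn : Fb.Normal] (hHb : Cfsg.IsFrobeniusComplement Hb)
    (hker : Cfsg.frobeniusKernel Hb = (Fb : Set L)) (y : L) (hy : y ∈ Fb) (x : L) (hx : x ∈ Hb)
    (g : L) (hfix : y * (g * x * g⁻¹) * y⁻¹ = g * x * g⁻¹) : y = 1 ∨ x = 1 := by
  obtain ⟨u, hudef⟩ : ∃ u : L, u = g⁻¹ * y * g := ⟨_, rfl⟩
  have hu : u ∈ Fb := by
    have := hFn.conj_mem y hy g⁻¹
    rw [inv_inv] at this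
    rw [hudef]; exact this
  have hux : u * x * u⁻¹ = x := by
    calc u * x * u⁻¹ = g⁻¹ * (y * (g * x * g⁻¹) * y⁻¹) * g := by rw [hudef]; group
      _ = g⁻¹ * (g * x * g⁻¹) * g := by rw [hfix]
      _ = x := by group
  by_cases huH : u ∈ Hb
  · left
    have h1 : u ∈ Fb ⊓ Hb := ⟨hu, huH⟩
    rw [frob_inf Fb Hb hker] at h1
    have hu1 : u = 1 := h1
    have h2 : y = g * u * g⁻¹ := by rw [hudef]; group
    rw [h2, hu1]; group
  · right
    have h1 := hHb.2.2 u huH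
    have h2 : x ∈ Hb ⊓ MulAut.conj u • Hb := by
      rw [Subgroup.mem_inf]
      refine ⟨hx, ?_⟩
      rw [Cfsg.Agent.H1.mem_conj_smul_iff']
      have h3 : u⁻¹ * x * u = x := by
        nth_rewrite 1 [← hux]; group
      rw [h3]; exact hx
    rw [h1] at h2
    exact h2

end frob

theorem conjNormal_smul_map {G : Type*} [Group G] (N : Subgroup G) [N.Normal] (g : G)
    (P : Subgroup ↥N) :
    ((MulAut.conjNormal g : MulAut ↥N) • P).map N.subtype
      = (P.map N.subtype).map (MulAut.conj g).toMonoidHom := by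
  ext x
  rw [Cfsg.Agent.H1.mem_map_conj_iff]
  constructor
  · rintro ⟨y, hy, rfl⟩
    have hy' : y ∈ ((MulAut.conjNormal g : MulAut ↥N) • P : Subgroup ↥N) := hy
    rw [Subgroup.mem_pointwise_smul_iff_inv_smul_mem] at hy'
    refine ⟨(MulAut.conjNormal g : MulAut ↥N)⁻¹ • y, hy', ?_⟩
    rw [MulAut.smul_def, ← map_inv, Subgroup.coe_subtype, MulAut.conjNormal_apply, inv_inv]
  · rintro ⟨y, hy, hyx⟩
    refine ⟨MulAut.conjNormal g y, ?_, ?_⟩
    · show MulAut.conjNormal g y ∈ ((MulAut.conjNormal g : MulAut ↥N) • P : Subgroup ↥N)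
      rw [Subgroup.mem_pointwise_smul_iff_inv_smul_mem, MulAut.smul_def]
      simpa using hy
    · rw [Subgroup.coe_subtype, MulAut.conjNormal_apply]
      rw [Subgroup.coe_subtype] at hyx
      rw [hyx]; group

theorem mem_normalizer_of_conjNormal_smul_eq {G : Type*} [Group G] (N : Subgroup G) [N.Normal]
    (g : G) {s : ℕ} (S : Sylow s ↥N) (h : (MulAut.conjNormal g : MulAut ↥N) • S = S) :
    g ∈ Subgroup.normalizer (((S : Subgroup N).map N.subtype : Subgroup G) : Set G) := by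
  have h1 : ((MulAut.conjNormal g : MulAut ↥N) • (S : Subgroup N)) = (S : Subgroup N) := by
    have := congrArg (fun T : Sylow s ↥N => (T : Subgroup ↥N)) h
    exact this
  have h2 := conjNormal_smul_map N g (S : Subgroup N)
  rw [h1] at h2
  rw [Subgroup.mem_normalizer_iff'']
  intro x
  nth_rewrite 1 [h2]
  rw [Cfsg.Agent.H1.mem_map_conj_iff]

end Cfsg.Agent.H2.Maz
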