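import Mathlib
import Cfsg.Agent.S0029
import Cfsg.Agent.H1.FrattiniExtra
import Cfsg.Agent.H2.MazurovAL

/-!
# Mazurov's lemma: the `s`-group step
-/

namespace Cfsg.Agent.H2.Maz

open Finset
open scoped commutatorElement

/-- the action induced on a quotient by an invariant normal subgroup -/
noncomputable def quotAct {Γ S : Type*} [Group Γ] [Group S] (B : Subgroup S) [B.Normal]
    (φ : Γ →* MulAut S) (hB : ∀ γ, B.map ((φ γ : S ≃* S) : S →* S) = B) :
    Γ →* MulAut (S ⧸ B) where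
  toFun γ := QuotientGroup.congr B B (φ γ) (hB γ)
  map_one' := by
    ext x
    induction x using QuotientGroup.induction_on with
    | _ x => simp
  map_mul' γ δ := by
    ext x
    induction x using QuotientGroup.induction_on with
    | _ x => simp

theorem quotAct_mk {Γ S : Type*} [Group Γ] [Group S] (B : Subgroup S) [B.Normal]
    (φ : Γ →* MulAut S) (hB : ∀ γ, B.map ((φ γ : S ≃* S) : S →* S) = B) (γ : Γ) (x : S) :
    quotAct B φ hB γ (QuotientGroup.mk x) = QuotientGroup.mk (φ γ x) := rfl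

theorem sgroup_step {G : Type*} [Group G] [Finite G] (s : ℕ) [Fact s.Prime] (S R : Subgroup G)
    (h : G) (m' : ℕ)
    (hS : IsPGroup s S) (hRS : R ≤ Subgroup.normalizer (S : Set G))
    (hhS : h ∈ Subgroup.normalizer (S : Set G)) (hhR : h ∈ Subgroup.normalizer (R : Set G))
    (hcop : (Nat.card S).Coprime (Nat.card R))
    (hfpf : ∀ y ∈ R, ∀ i < m', y * h ^ (i + 1) * y⁻¹ = h ^ (i + 1) → y = 1)
    (hnorm : ∀ v ∈ S, (v * h) ^ (m' + 1) = 1) :
    R ≤ Subgroup.centralizer (S : Set G) := by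
  classical
  have hBdvd : Nat.card (frattini ↥S) ∣ Nat.card S := Subgroup.card_subgroup_dvd_card _
  apply Cfsg.Agent.S0029.result R S hRS
  · exact (Nat.Coprime.coprime_dvd_left hBdvd hcop).symm
  intro a ha k hk
  -- set up the abelian lemma
  let B : Subgroup ↥S := frattini ↥S
  have hnil : Group.IsNilpotent ↥S := hS.isNilpotent
  have hcommle : commutator ↥S ≤ B := Cfsg.Agent.H1.commutator_le_frattini_of_nilpotent
  have hcomm : ∀ x y : ↥S ⧸ B, x * y = y * x := by
    intro x y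
    induction x using QuotientGroup.induction_on with
    | _ x =>
    induction y using QuotientGroup.induction_on with
    | _ y =>
    rw [← QuotientGroup.mk_mul, ← QuotientGroup.mk_mul, QuotientGroup.eq]
    apply hcommle
    have : (x * y)⁻¹ * (y * x) = ⁅y⁻¹, x⁻¹⁆ := by
      rw [commutatorElement_def]; group
    rw [this]
    exact Subgroup.commutator_mem_commutator (Subgroup.mem_top _) (Subgroup.mem_top _)
  let inst : CommGroup (↥S ⧸ B) := { (inferInstance : Group (↥S ⧸ B)) with mul_comm := hcomm }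
  let φ₀ : ↥(Subgroup.normalizer (S : Set G)) →* MulAut ↥S := S.normalizerMonoidHom
  have hφ₀ : ∀ (γ : ↥(Subgroup.normalizer (S : Set G))) (v : ↥S),
      ((φ₀ γ v : ↥S) : G) = γ * v * (γ : G)⁻¹ := fun γ v => rfl
  have hBchar : ∀ γ, B.map ((φ₀ γ : ↥S ≃* ↥S) : ↥S →* ↥S) = B := by
    intro γ
    exact (Subgroup.characteristic_iff_map_eq.mp (frattini_characteristic (G := ↥S))) (φ₀ γ)
  let φ' : ↥(Subgroup.normalizer (S : Set G)) →* MulAut (↥S ⧸ B) := quotAct B φ₀ hBchar
  let R' : Subgroup ↥(Subgroup.normalizer (S : Set G)) := R.subgroupOf _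
  let h' : ↥(Subgroup.normalizer (S : Set G)) := ⟨h, hhS⟩
  have hh'pow : ∀ i : ℕ, ((h' ^ i : ↥(Subgroup.normalizer (S : Set G))) : G) = h ^ i := fun i => rfl
  have hhm : h ^ (m' + 1) = 1 := by
    have := hnorm 1 S.one_mem
    rwa [one_mul] at this
  have hAL := @abelian_lemma ↥(Subgroup.normalizer (S : Set G)) (↥S ⧸ B) _ inst _ R' _ h' m' φ'
    (by
      intro y hy i
      rw [Subgroup.mem_subgroupOf] at hy ⊢
      have hn : h ^ i ∈ Subgroup.normalizer (R : Set G) := pow_mem hhR i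
      have h1 : h ^ i * (y : G)⁻¹ * (h ^ i)⁻¹ ∈ R :=
        (Subgroup.mem_normalizer_iff.mp hn _).mp (R.inv_mem hy)
      have h2 := R.mul_mem hy h1
      have : ((y * h' ^ i * y⁻¹ * (h' ^ i)⁻¹ : ↥(Subgroup.normalizer (S : Set G))) : G)
          = (y : G) * (h ^ i * (y : G)⁻¹ * (h ^ i)⁻¹) := by
        push_cast
        have hh' : (h' : G) = h := rfl
        rw [hh']
        group
      rw [this]
      exact h2)
    (by
      intro y hy i hi hyi
      rw [Subgroup.mem_subgroupOf] at hy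
      have h1 : (y : G) * h ^ (i + 1) * (y : G)⁻¹ = h ^ (i + 1) := by
        have := congrArg Subtype.val hyi
        simpa using this
      have := hfpf _ hy i hi h1
      exact Subtype.ext this)
    (by
      have h1 : Nat.card (↥S ⧸ B) ∣ Nat.card S := Subgroup.card_quotient_dvd_card B
      have h2 : Nat.card R' = Nat.card R :=
        Nat.card_congr (Subgroup.subgroupOfEquivOfLe hRS).toEquiv
      rw [h2]
      exact Nat.Coprime.coprime_dvd_left h1 hcop)
    (by
      intro x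
      induction x using QuotientGroup.induction_on with
      | _ v =>
      have key : ∀ k : ℕ, ∃ w : ↥S, ((v : G) * h) ^ k = (w : G) * h ^ k ∧
          (QuotientGroup.mk w : ↥S ⧸ B) = ∏ i ∈ range k, φ' (h' ^ i) (QuotientGroup.mk v) := by
        intro k
        induction k with
        | zero => exact ⟨1, by simp, by simp⟩
        | succ k ih =>
          obtain ⟨w, hw1, hw2⟩ := ih
          refine ⟨w * φ₀ (h' ^ k) v, ?_, ?_⟩
          · rw [pow_succ, hw1]
            push_cast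
            rw [hφ₀, hh'pow]
            group
          · rw [Finset.prod_range_succ, ← hw2, QuotientGroup.mk_mul]
            rfl
      obtain ⟨w, hw1, hw2⟩ := key (m' + 1)
      rw [hnorm v v.2, hhm, mul_one] at hw1
      have hw : w = 1 := Subtype.ext hw1.symm
      rw [← hw2, hw]
      rfl)
  have hz : (⟨a, hRS ha⟩ : ↥(Subgroup.normalizer (S : Set G))) ∈ R' := by
    rw [Subgroup.mem_subgroupOf]; exact ha
  have h3 := hAL ⟨a, hRS ha⟩ hz (QuotientGroup.mk ⟨k, hk⟩)
  have h4 : (QuotientGroup.mk (φ₀ ⟨a, hRS ha⟩ ⟨k, hk⟩ * (⟨k, hk⟩ : ↥S)⁻¹) : ↥S ⧸ B) = 1 := by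
    rw [QuotientGroup.mk_mul, QuotientGroup.mk_inv]
    have : (QuotientGroup.mk (φ₀ ⟨a, hRS ha⟩ ⟨k, hk⟩) : ↥S ⧸ B) = QuotientGroup.mk ⟨k, hk⟩ := h3
    rw [this, mul_inv_cancel]
  rw [QuotientGroup.eq_one_iff] at h4
  have h5 := Subgroup.mem_map_of_mem S.subtype h4
  have h6 : S.subtype (φ₀ ⟨a, hRS ha⟩ ⟨k, hk⟩ * (⟨k, hk⟩ : ↥S)⁻¹) = a * k * a⁻¹ * k⁻¹ := by
    rw [map_mul, Subgroup.coe_subtype, hφ₀]
    rfl
  rw [h6] at h5
  exact h5

end Cfsg.Agent.H2.Maz
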