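import Mathlib

set_option autoImplicit false
set_option linter.unusedVariables false
set_option linter.unusedSectionVars false
set_option linter.deprecated false
set_option linter.style.haveILetI false

namespace Cfsg.Agent.H2.SelfDualAbelian

variable {F : Type*} [Field F] {H : Type*} [CommGroup H] {V : Type*} [AddCommGroup V] [Module F V]

/-- Schur: an endomorphism commuting with the action is zero or injective. -/
lemma schur_ker (ρ : Representation F H V)
    (hirr : ∀ U : Submodule F V, (∀ h : H, ∀ u ∈ U, ρ h u ∈ U) → U = ⊥ ∨ U = ⊤)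
    (e : Module.End F V) (hcomm : ∀ h, e * ρ h = ρ h * e) (he : e ≠ 0) : LinearMap.ker e = ⊥ := by
  rcases hirr (LinearMap.ker e) (fun h u hu => by
    rw [LinearMap.mem_ker] at hu ⊢
    have h1 : e (ρ h u) = (e * ρ h) u := rfl
    rw [h1, hcomm h, Module.End.mul_apply, hu, map_zero]) with h | h
  · exact h
  · exact absurd (LinearMap.ker_eq_top.mp h) he

lemma adjoin_comm (ρ : Representation F H V) (e : Module.End F V)
    (he : e ∈ Algebra.adjoin F (Set.range ρ)) (h : H) : e * ρ h = ρ h * e := by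
  have hle : Algebra.adjoin F (Set.range ρ) ≤ Subalgebra.centralizer F {ρ h} := by
    rw [Algebra.adjoin_le_iff]
    rintro _ ⟨g, rfl⟩
    rw [SetLike.mem_coe, Subalgebra.mem_centralizer_iff]
    intro x hx
    rw [Set.mem_singleton_iff] at hx
    rw [hx, ← map_mul, ← map_mul, mul_comm]
  have h1 := hle he
  rw [Subalgebra.mem_centralizer_iff] at h1
  exact (h1 (ρ h) rfl).symm

lemma isCyclic_of_irr [Finite H] [Nontrivial V] (ρ : Representation F H V)
    (hfaith : Function.Injective ρ)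
    (hirr : ∀ U : Submodule F V, (∀ h : H, ∀ u ∈ U, ρ h u ∈ U) → U = ⊥ ∨ U = ⊤) :
    IsCyclic H := by
  classical
  have hcomm : ∀ a ∈ Set.range ρ, ∀ b ∈ Set.range ρ, a * b = b * a := by
    rintro _ ⟨g, rfl⟩ _ ⟨h, rfl⟩
    rw [← map_mul, ← map_mul, mul_comm]
  letI : CommRing (Algebra.adjoin F (Set.range ρ)) := Algebra.adjoinCommRingOfComm F hcomm
  haveI : Nontrivial (Algebra.adjoin F (Set.range ρ)) := by
    refine ⟨⟨0, 1, ?_⟩⟩
    intro h01
    have h1 : (0 : Module.End F V) = 1 := congrArg Subtype.val h01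
    obtain ⟨v, hv⟩ := exists_ne (0 : V)
    have h2 : (0 : Module.End F V) v = (1 : Module.End F V) v := by rw [h1]
    simp at h2
    exact hv h2.symm
  haveI : NoZeroDivisors (Algebra.adjoin F (Set.range ρ)) := by
    refine ⟨fun {a b} hab => ?_⟩
    by_cases ha : a = 0
    · exact Or.inl ha
    · right
      have ha' : (a : Module.End F V) ≠ 0 := fun h => ha (Subtype.ext h)
      have hk := schur_ker ρ hirr a.1 (adjoin_comm ρ a.1 a.2) ha'
      have hab' : (a : Module.End F V) * (b : Module.End F V) = 0 := congrArg Subtype.val hab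
      apply Subtype.ext
      apply LinearMap.ext
      intro v
      have h1 : (a : Module.End F V) ((b : Module.End F V) v) = 0 := by
        rw [← Module.End.mul_apply, hab']
        rfl
      have h2 : (b : Module.End F V) v ∈ LinearMap.ker (a : Module.End F V) :=
        LinearMap.mem_ker.mpr h1
      rw [hk] at h2
      exact (Submodule.mem_bot F).mp h2
  haveI : IsDomain (Algebra.adjoin F (Set.range ρ)) := NoZeroDivisors.to_isDomain _
  let f : H →* (Algebra.adjoin F (Set.range ρ)) :=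
    { toFun := fun h => ⟨ρ h, Algebra.subset_adjoin ⟨h, rfl⟩⟩
      map_one' := Subtype.ext (map_one ρ)
      map_mul' := fun a b => Subtype.ext (map_mul ρ a b) }
  exact isCyclic_of_subgroup_isDomain f (fun a b hab => hfaith (congrArg Subtype.val hab))


lemma aeval_mem (ρ : Representation F H V) (h₀ : H) (f : Polynomial F) :
    Polynomial.aeval (ρ h₀) f ∈ Algebra.adjoin F (Set.range ρ) := by
  have h1 : Polynomial.aeval (ρ h₀) f ∈ Algebra.adjoin F {ρ h₀} :=
    Polynomial.aeval_mem_adjoin_singleton F (ρ h₀)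
  exact Algebra.adjoin_mono (by
    intro x hx
    rw [Set.mem_singleton_iff] at hx
    exact ⟨h₀, hx.symm⟩) h1

lemma minpoly_irreducible [FiniteDimensional F V] [Nontrivial V] (ρ : Representation F H V)
    (hirr : ∀ U : Submodule F V, (∀ h : H, ∀ u ∈ U, ρ h u ∈ U) → U = ⊥ ∨ U = ⊤) (h₀ : H) :
    Irreducible (minpoly F (ρ h₀)) := by
  classical
  have hint : IsIntegral F (ρ h₀) := Algebra.IsIntegral.isIntegral _
  have hne : minpoly F (ρ h₀) ≠ 0 := minpoly.ne_zero hint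
  refine ⟨minpoly.not_isUnit F (ρ h₀), ?_⟩
  intro f g hfg
  have h0 : Polynomial.aeval (ρ h₀) f * Polynomial.aeval (ρ h₀) g = 0 := by
    rw [← map_mul, ← hfg, minpoly.aeval]
  -- helper: if aeval f ≠ 0 then aeval g = 0
  have key : ∀ f g : Polynomial F, minpoly F (ρ h₀) = f * g →
      Polynomial.aeval (ρ h₀) f * Polynomial.aeval (ρ h₀) g = 0 →
      Polynomial.aeval (ρ h₀) f ≠ 0 → IsUnit f := by
    intro f g hfg h0 hf
    have hk := schur_ker ρ hirr _ (adjoin_comm ρ _ (aeval_mem ρ h₀ f)) hf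
    have hg : Polynomial.aeval (ρ h₀) g = 0 := by
      apply LinearMap.ext
      intro v
      have h1 : (Polynomial.aeval (ρ h₀) f) ((Polynomial.aeval (ρ h₀) g) v) = 0 := by
        rw [← Module.End.mul_apply, h0]
        rfl
      have h2 : (Polynomial.aeval (ρ h₀) g) v ∈ LinearMap.ker (Polynomial.aeval (ρ h₀) f) :=
        LinearMap.mem_ker.mpr h1
      rw [hk] at h2
      exact (Submodule.mem_bot F).mp h2
    obtain ⟨k, hk2⟩ := minpoly.dvd F (ρ h₀) hg
    -- minpoly = f * (minpoly * k)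
    have h3 : minpoly F (ρ h₀) * 1 = minpoly F (ρ h₀) * (f * k) := by
      rw [mul_one]
      conv_lhs => rw [hfg, hk2]
      ring
    have h4 := mul_left_cancel₀ hne h3
    exact IsUnit.of_mul_eq_one k h4.symm
  by_cases hf : Polynomial.aeval (ρ h₀) f = 0
  · right
    have hg : Polynomial.aeval (ρ h₀) g ≠ 0 := by
      intro hg
      -- both zero: then minpoly ∣ f and minpoly ∣ g, so degree contradiction
      obtain ⟨k, hk⟩ := minpoly.dvd F (ρ h₀) hf
      obtain ⟨l, hl⟩ := minpoly.dvd F (ρ h₀) hg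
      have h3 : minpoly F (ρ h₀) * 1 = minpoly F (ρ h₀) * (k * minpoly F (ρ h₀) * l) := by
        rw [mul_one]
        conv_lhs => rw [hfg, hk, hl]
        ring
      have h4 := mul_left_cancel₀ hne h3
      have h5 : IsUnit (minpoly F (ρ h₀)) := by
        apply IsUnit.of_mul_eq_one (k * l)
        rw [h4]
        ring
      exact minpoly.not_isUnit F (ρ h₀) h5
    exact key g f (by rw [hfg, mul_comm]) (by
      rw [← map_mul, mul_comm, map_mul]; exact h0) hg
  · left
    exact key f g hfg h0 hf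


section abstractK

variable [Fintype F] [FiniteDimensional F V]
  (ρ : Representation F H V)
  {K : Type*} [Field K] [Algebra F K] [FiniteDimensional F K]
  (Φ : K →ₐ[F] Module.End F V) (ζ : K) (h₀ : H)

lemma Phi_inj [Nontrivial V] : Function.Injective Φ := (Φ : K →+* Module.End F V).injective

lemma rho_eq (hζ : Φ ζ = ρ h₀) (hgen : ∀ h : H, ∃ k : ℕ, h = h₀ ^ k) (h : H) :
    ∃ k : ℕ, h = h₀ ^ k ∧ ρ h = Φ (ζ ^ k) := by
  obtain ⟨k, hk⟩ := hgen h
  exact ⟨k, hk, by rw [hk, map_pow, map_pow, hζ]⟩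

/-- `x ↦ Φ x v₀` -/
noncomputable def psiMap (v₀ : V) : K →ₗ[F] V :=
  (LinearMap.applyₗ v₀ : Module.End F V →ₗ[F] V).comp Φ.toLinearMap

lemma psiMap_apply (v₀ : V) (x : K) : psiMap Φ v₀ x = Φ x v₀ := rfl

lemma psiMap_mul (v₀ : V) (x y : K) : psiMap Φ v₀ (x * y) = Φ x (psiMap Φ v₀ y) := by
  rw [psiMap_apply, psiMap_apply, map_mul, Module.End.mul_apply]

lemma psiMap_bijective [Nontrivial V] (hζ : Φ ζ = ρ h₀) (hgen : ∀ h : H, ∃ k : ℕ, h = h₀ ^ k)
    (hirr : ∀ U : Submodule F V, (∀ h : H, ∀ u ∈ U, ρ h u ∈ U) → U = ⊥ ∨ U = ⊤)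
    (v₀ : V) (hv₀ : v₀ ≠ 0) : Function.Bijective (psiMap Φ v₀) := by
  constructor
  · rw [← LinearMap.ker_eq_bot, LinearMap.ker_eq_bot']
    intro x hx
    by_contra hx0
    apply hv₀
    have h1 : psiMap Φ v₀ (x⁻¹ * x) = 0 := by
      rw [psiMap_mul, hx, map_zero]
    rw [inv_mul_cancel₀ hx0, psiMap_apply, map_one] at h1
    exact h1
  · rw [← LinearMap.range_eq_top]
    rcases hirr (LinearMap.range (psiMap Φ v₀)) (by
      rintro h _ ⟨x, rfl⟩
      obtain ⟨k, -, hk⟩ := rho_eq ρ Φ ζ h₀ hζ hgen h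
      exact ⟨ζ ^ k * x, by rw [psiMap_mul, hk]⟩) with h | h
    · exfalso
      apply hv₀
      have h1 : psiMap Φ v₀ 1 ∈ LinearMap.range (psiMap Φ v₀) := ⟨1, rfl⟩
      rw [h, Submodule.mem_bot, psiMap_apply, map_one] at h1
      exact h1
    · exact h

lemma orderOf_zeta [Nontrivial V] [Finite H] (hfaith : Function.Injective ρ) (hζ : Φ ζ = ρ h₀)
    (hgen : ∀ h : H, ∃ k : ℕ, h = h₀ ^ k) : orderOf ζ = Nat.card H := by
  have h1 : orderOf (Φ ζ) = orderOf ζ :=
    orderOf_injective (Φ : K →* Module.End F V) (Phi_inj Φ) ζ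
  have h2 : orderOf (ρ h₀) = orderOf h₀ := orderOf_injective ρ hfaith h₀
  rw [← h1, hζ, h2]
  apply orderOf_eq_card_of_forall_mem_zpowers
  intro h
  obtain ⟨k, hk⟩ := hgen h
  exact ⟨k, by rw [hk]; simp⟩


lemma form_pow (B : LinearMap.BilinForm F V) (T T' : Module.End F V) (hTT' : T * T' = 1)
    (hB : ∀ x y, B (T x) (T y) = B x y) (n : ℕ) (x y : V) :
    B ((T ^ n) x) y = B x ((T' ^ n) y) := by
  induction n generalizing x y with
  | zero => simp
  | succ n ih =>
    have h1 : y = T (T' y) := by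
      rw [← Module.End.mul_apply, hTT']
      rfl
    rw [pow_succ', Module.End.mul_apply]
    conv_lhs => rw [h1]
    rw [hB, ih, pow_succ, Module.End.mul_apply]

lemma form_aeval (B : LinearMap.BilinForm F V) (T T' : Module.End F V) (hTT' : T * T' = 1)
    (hB : ∀ x y, B (T x) (T y) = B x y) (f : Polynomial F) (x y : V) :
    B (Polynomial.aeval T f x) y = B x (Polynomial.aeval T' f y) := by
  induction f using Polynomial.induction_on' with
  | add p q hp hq =>
    rw [map_add, map_add, LinearMap.add_apply, LinearMap.add_apply, map_add,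
      LinearMap.add_apply, map_add, hp, hq]
  | monomial n a =>
    rw [Polynomial.aeval_monomial, Polynomial.aeval_monomial, Module.End.mul_apply,
      Module.End.mul_apply, Module.algebraMap_end_apply, Module.algebraMap_end_apply,
      map_smul, LinearMap.smul_apply, map_smul, form_pow B T T' hTT' hB]

lemma forward [Nontrivial V] [Finite H] (hfaith : Function.Injective ρ)
    (hirr : ∀ U : Submodule F V, (∀ h : H, ∀ u ∈ U, ρ h u ∈ U) → U = ⊥ ∨ U = ⊤)
    (hζ : Φ ζ = ρ h₀) (hgen : ∀ h : H, ∃ k : ℕ, h = h₀ ^ k)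
    (hK : Algebra.adjoin F {ζ} = ⊤) (hn : 2 ≤ Module.finrank F V)
    (B : LinearMap.BilinForm F V) (hBnd : B.Nondegenerate)
    (hBinv : ∀ h x y, B (ρ h x) (ρ h y) = B x y) :
    Even (Module.finrank F V) ∧
      Nat.card H ∣ Fintype.card F ^ (Module.finrank F V / 2) + 1 := by
  classical
  haveI : Finite K := Module.finite_of_finite F
  obtain ⟨v₀, hv₀⟩ := exists_ne (0 : V)
  have hfr : Module.finrank F K = Module.finrank F V :=
    (LinearEquiv.ofBijective (psiMap Φ v₀)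
      (psiMap_bijective ρ Φ ζ h₀ hζ hgen hirr v₀ hv₀)).finrank_eq
  have hTT' : ρ h₀ * ρ h₀⁻¹ = 1 := by rw [← map_mul, mul_inv_cancel, map_one]
  have hT'T : ρ h₀⁻¹ * ρ h₀ = 1 := by rw [← map_mul, inv_mul_cancel, map_one]
  have hζ0 : ζ ≠ 0 := by
    intro h0
    rw [h0, map_zero] at hζ
    rw [← hζ, zero_mul] at hTT'
    exact zero_ne_one hTT'
  have h1 : Polynomial.aeval (ρ h₀) (minpoly F ζ) = 0 := by
    rw [← hζ, Polynomial.aeval_algHom_apply, minpoly.aeval, map_zero]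
  have h2 : Polynomial.aeval (ρ h₀⁻¹) (minpoly F ζ) = 0 := by
    apply LinearMap.ext
    intro y
    apply hBnd.2
    intro x
    rw [← form_aeval B (ρ h₀) (ρ h₀⁻¹) hTT' (hBinv h₀), h1]
    simp
  have h3 : ρ h₀⁻¹ = Φ ζ⁻¹ := by
    have h31 : Φ ζ * Φ ζ⁻¹ = 1 := by rw [← map_mul, mul_inv_cancel₀ hζ0, map_one]
    calc ρ h₀⁻¹ = ρ h₀⁻¹ * (Φ ζ * Φ ζ⁻¹) := by rw [h31, mul_one]
      _ = (ρ h₀⁻¹ * ρ h₀) * Φ ζ⁻¹ := by rw [hζ, mul_assoc]
      _ = Φ ζ⁻¹ := by rw [hT'T, one_mul]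
  have h4 : Polynomial.aeval ζ⁻¹ (minpoly F ζ) = 0 := by
    apply Phi_inj Φ
    rw [← Polynomial.aeval_algHom_apply, ← h3, h2, map_zero]
  obtain ⟨σ, hσ⟩ := minpoly.exists_algEquiv_of_root' (Algebra.IsAlgebraic.isAlgebraic ζ) h4
  obtain ⟨j, hj⟩ := (FiniteField.bijective_frobeniusAlgEquivOfAlgebraic_pow F K).2 σ
  have hj' : (FiniteField.frobeniusAlgEquivOfAlgebraic F K) ^ j.1 = σ := hj
  have happ : ∀ (m : ℕ) (x : K),
      ((FiniteField.frobeniusAlgEquivOfAlgebraic F K) ^ m) x = x ^ (Fintype.card F ^ m) := by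
    intro m x
    rw [AlgEquiv.coe_pow, FiniteField.coe_frobeniusAlgEquivOfAlgebraic_iterate]
  have h5 : ζ ^ (Fintype.card F ^ j.1) = ζ⁻¹ := by
    rw [← happ, hj', hσ]
  have h6 : ζ ^ (Fintype.card F ^ j.1 + 1) = 1 := by
    rw [pow_succ, h5, inv_mul_cancel₀ hζ0]
  have h7 : Nat.card H ∣ Fintype.card F ^ j.1 + 1 := by
    rw [← orderOf_zeta ρ Φ ζ h₀ hfaith hζ hgen]
    exact orderOf_dvd_of_pow_eq_one h6
  have h8 : σ * σ = 1 := by
    have h81 : (σ * σ) ζ = ζ := by
      rw [AlgEquiv.mul_apply, hσ, map_inv₀, hσ, inv_inv]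
    have h82 : ((σ * σ : K ≃ₐ[F] K) : K →ₐ[F] K) = ((1 : K ≃ₐ[F] K) : K →ₐ[F] K) := by
      apply AlgHom.ext_of_adjoin_eq_top hK
      intro x hx
      rw [Set.mem_singleton_iff] at hx
      rw [hx]
      exact h81
    apply AlgEquiv.ext
    intro x
    exact DFunLike.congr_fun h82 x
  have h9 : (FiniteField.frobeniusAlgEquivOfAlgebraic F K) ^ (2 * j.1) = 1 := by
    rw [two_mul, pow_add, hj', h8]
  have h10 : Module.finrank F K ∣ 2 * j.1 := by
    have h101 := orderOf_dvd_of_pow_eq_one h9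
    rwa [FiniteField.orderOf_frobeniusAlgEquivOfAlgebraic] at h101
  have hjlt : j.1 < Module.finrank F K := j.2
  obtain ⟨c, hc⟩ := h10
  have hc01 : c = 0 ∨ c = 1 := by
    rcases Nat.lt_or_ge c 2 with h | h
    · omega
    · exfalso
      have : Module.finrank F K * 2 ≤ Module.finrank F K * c := Nat.mul_le_mul_left _ h
      omega
  rcases hc01 with hc0 | hc1
  · exfalso
    rw [hc0, mul_zero] at hc
    have hj0 : j.1 = 0 := by omega
    rw [hj0, pow_zero] at h6
    have h11 : ζ ^ 2 = 1 := h6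
    have h12 : ζ ∈ (⊥ : Subalgebra F K) := by
      rcases sq_eq_one_iff.mp h11 with h | h
      · rw [h]; exact Subalgebra.one_mem _
      · rw [h]; exact Subalgebra.neg_mem _ (Subalgebra.one_mem _)
    have h13 : (⊥ : Subalgebra F K) = ⊤ := by
      rw [← hK]
      apply le_antisymm bot_le
      rw [Algebra.adjoin_le_iff]
      intro x hx
      rw [Set.mem_singleton_iff] at hx
      rw [hx]
      exact h12
    have h14 := Subalgebra.bot_eq_top_iff_finrank_eq_one.mp h13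
    omega
  · rw [hc1, mul_one] at hc
    rw [← hfr]
    refine ⟨⟨j.1, by omega⟩, ?_⟩
    have : Module.finrank F K / 2 = j.1 := by omega
    rw [this]
    exact h7


lemma backward [Nontrivial V] [Finite H] (hfaith : Function.Injective ρ)
    (hirr : ∀ U : Submodule F V, (∀ h : H, ∀ u ∈ U, ρ h u ∈ U) → U = ⊥ ∨ U = ⊤)
    (hζ : Φ ζ = ρ h₀) (hgen : ∀ h : H, ∃ k : ℕ, h = h₀ ^ k) (m : ℕ)
    (hdvd : Nat.card H ∣ Fintype.card F ^ m + 1) :
    ∃ B : LinearMap.BilinForm F V, B.Nondegenerate ∧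
      ∀ h x y, B (ρ h x) (ρ h y) = B x y := by
  classical
  haveI : Finite K := Module.finite_of_finite F
  obtain ⟨v₀, hv₀⟩ := exists_ne (0 : V)
  obtain ⟨ψ, hψ⟩ : ∃ ψ : K ≃ₗ[F] V, ∀ x, ψ x = psiMap Φ v₀ x :=
    ⟨LinearEquiv.ofBijective (psiMap Φ v₀) (psiMap_bijective ρ Φ ζ h₀ hζ hgen hirr v₀ hv₀),
      fun x => rfl⟩
  obtain ⟨φm, hφm⟩ : ∃ φm : K ≃ₐ[F] K, ∀ x, φm x = x ^ (Fintype.card F ^ m) := by
    refine ⟨(FiniteField.frobeniusAlgEquivOfAlgebraic F K) ^ m, fun x => ?_⟩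
    rw [AlgEquiv.coe_pow, FiniteField.coe_frobeniusAlgEquivOfAlgebraic_iterate]
  obtain ⟨l, hl⟩ : ∃ l : Module.Dual F K, l 1 ≠ 0 := by
    by_contra hcon
    push Not at hcon
    have := (Module.forall_dual_apply_eq_zero_iff F (1 : K)).mp hcon
    exact one_ne_zero this
  have hz : ζ ^ (Fintype.card F ^ m + 1) = 1 := by
    rw [← orderOf_dvd_iff_pow_eq_one, orderOf_zeta ρ Φ ζ h₀ hfaith hζ hgen]
    exact hdvd
  refine ⟨LinearMap.mk₂ F (fun x y => l (ψ.symm x * φm (ψ.symm y))) ?_ ?_ ?_ ?_, ⟨?_, ?_⟩, ?_⟩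
  · intro x x' y
    simp only [map_add, add_mul]
  · intro c x y
    simp only [map_smul, smul_mul_assoc]
  · intro x y y'
    simp only [map_add, mul_add]
  · intro c x y
    simp only [map_smul, mul_smul_comm]
  · -- separating left
    intro x hx
    by_contra hx0
    have ha : ψ.symm x ≠ 0 := fun h => hx0 (by simpa using h)
    have h1 := hx (ψ (φm.symm (ψ.symm x)⁻¹))
    rw [LinearMap.mk₂_apply, LinearEquiv.symm_apply_apply, AlgEquiv.apply_symm_apply,
      mul_inv_cancel₀ ha] at h1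
    exact hl h1
  · -- separating right
    intro y hy
    by_contra hy0
    have hb : ψ.symm y ≠ 0 := fun h => hy0 (by simpa using h)
    have hb' : φm (ψ.symm y) ≠ 0 := fun h => hb (by simpa using h)
    have h1 := hy (ψ (φm (ψ.symm y))⁻¹)
    rw [LinearMap.mk₂_apply, LinearEquiv.symm_apply_apply, inv_mul_cancel₀ hb'] at h1
    exact hl h1
  · intro h x y
    obtain ⟨k, -, hk⟩ := rho_eq ρ Φ ζ h₀ hζ hgen h
    have key : ∀ x : V, ψ.symm (ρ h x) = ζ ^ k * ψ.symm x := by
      intro x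
      have h1 : ψ (ζ ^ k * ψ.symm x) = ρ h x := by
        rw [hψ, psiMap_mul, ← hk, ← hψ, LinearEquiv.apply_symm_apply]
      rw [← h1, LinearEquiv.symm_apply_apply]
    rw [LinearMap.mk₂_apply, LinearMap.mk₂_apply, key, key, map_mul φm, hφm (ζ ^ k)]
    have h2 : ζ ^ k * (ζ ^ k) ^ (Fintype.card F ^ m) = 1 := by
      rw [← pow_succ', ← pow_mul, mul_comm, pow_mul, hz, one_pow]
    have h3 : ζ ^ k * ψ.symm x * ((ζ ^ k) ^ (Fintype.card F ^ m) * φm (ψ.symm y)) =
        (ζ ^ k * (ζ ^ k) ^ (Fintype.card F ^ m)) * (ψ.symm x * φm (ψ.symm y)) := by ring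
    rw [h3, h2, one_mul]

end abstractK


lemma one_case [Finite H] [FiniteDimensional F V] (ρ : Representation F H V)
    (hfaith : Function.Injective ρ) (h1 : Module.finrank F V = 1)
    (B : LinearMap.BilinForm F V) (hBnd : B.Nondegenerate)
    (hBinv : ∀ h x y, B (ρ h x) (ρ h y) = B x y) : Nat.card H ≤ 2 := by
  classical
  haveI : Nontrivial V := (Module.finrank_pos_iff (R := F) (M := V)).mp (by rw [h1]; exact one_pos)
  obtain ⟨v₀, hv₀⟩ := exists_ne (0 : V)
  have hspan := (finrank_eq_one_iff_of_nonzero' v₀ hv₀).mp h1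
  have hB00 : B v₀ v₀ ≠ 0 := by
    intro h0
    apply hv₀
    apply hBnd.1
    intro y
    obtain ⟨a, ha⟩ := hspan y
    rw [← ha, map_smul, h0, smul_zero]
  have hc : ∀ h : H, ∃ c : F, ρ h v₀ = c • v₀ := fun h => by
    obtain ⟨c, hc⟩ := hspan (ρ h v₀)
    exact ⟨c, hc.symm⟩
  choose c hc using hc
  have hc2 : ∀ h, c h = 1 ∨ c h = -1 := by
    intro h
    have h2 := hBinv h v₀ v₀
    simp only [hc, map_smul, LinearMap.smul_apply, smul_eq_mul] at h2
    have h3 : (c h * c h - 1) * B v₀ v₀ = 0 := by linear_combination h2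
    rcases mul_eq_zero.mp h3 with h4 | h4
    · have h5 : c h ^ 2 = 1 := by rw [pow_two]; exact sub_eq_zero.mp h4
      exact sq_eq_one_iff.mp h5
    · exact absurd h4 hB00
  have hcinj : Function.Injective c := by
    intro a b hab
    apply hfaith
    apply LinearMap.ext
    intro w
    obtain ⟨t, ht⟩ := hspan w
    rw [← ht, map_smul, map_smul, hc, hc, hab]
  let f : H → ({1, -1} : Finset F) := fun h => ⟨c h, by
    rw [Finset.mem_insert, Finset.mem_singleton]
    exact hc2 h⟩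
  have hf : Function.Injective f := fun a b hab => hcinj (congrArg Subtype.val hab)
  have h6 := Nat.card_le_card_of_injective f hf
  have h7 : Nat.card ({1, -1} : Finset F) = ({1, -1} : Finset F).card := by
    rw [Nat.card_eq_fintype_card, Fintype.card_coe]
  rw [h7] at h6
  exact h6.trans Finset.card_le_two

open scoped IsMulCommutative in
theorem main [Fintype F] [Finite H] [FiniteDimensional F V] (ρ : Representation F H V)
    (hfaith : Function.Injective ρ)
    (hirr : ∀ U : Submodule F V, (∀ h : H, ∀ u ∈ U, ρ h u ∈ U) → U = ⊥ ∨ U = ⊤) :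
    (Module.finrank F V = 1 → (∃ B : LinearMap.BilinForm F V, B.Nondegenerate ∧
      ∀ h : H, ∀ x y : V, B (ρ h x) (ρ h y) = B x y) → Nat.card H ≤ 2) ∧
    (2 ≤ Module.finrank F V → ((∃ B : LinearMap.BilinForm F V, B.Nondegenerate ∧
      ∀ h : H, ∀ x y : V, B (ρ h x) (ρ h y) = B x y) ↔
      (Even (Module.finrank F V) ∧
        Nat.card H ∣ Fintype.card F ^ (Module.finrank F V / 2) + 1))) := by
  classical
  refine ⟨fun h1 ⟨B, hBnd, hBinv⟩ => one_case ρ hfaith h1 B hBnd hBinv, fun hn => ?_⟩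
  haveI : Nontrivial V := (Module.finrank_pos_iff (R := F) (M := V)).mp (by omega)
  haveI := isCyclic_of_irr ρ hfaith hirr
  obtain ⟨h₀, hh₀⟩ := IsCyclic.exists_generator (α := H)
  have hgen : ∀ h : H, ∃ k : ℕ, h = h₀ ^ k := by
    intro h
    have h1 := hh₀ h
    rw [← mem_powers_iff_mem_zpowers] at h1
    obtain ⟨k, hk⟩ := h1
    exact ⟨k, hk.symm⟩
  have hμ := minpoly_irreducible ρ hirr h₀
  haveI : Fact (Irreducible (minpoly F (ρ h₀))) := ⟨hμ⟩
  have hne : minpoly F (ρ h₀) ≠ 0 := hμ.ne_zero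
  haveI : FiniteDimensional F (AdjoinRoot (minpoly F (ρ h₀))) :=
    (AdjoinRoot.powerBasis hne).finite
  have hroot : (minpoly F (ρ h₀)).eval₂ (Algebra.ofId F (Algebra.adjoin F {ρ h₀}))
      (⟨ρ h₀, Algebra.self_mem_adjoin_singleton F (ρ h₀)⟩ : Algebra.adjoin F {ρ h₀}) = 0 := by
    show Polynomial.eval₂ (algebraMap F (Algebra.adjoin F {ρ h₀})) _ _ = 0
    rw [← Polynomial.aeval_def]
    apply Subtype.ext
    rw [Polynomial.aeval_subalgebra_coe]
    exact minpoly.aeval F (ρ h₀)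
  obtain ⟨Φ, hΦ⟩ : ∃ Φ : AdjoinRoot (minpoly F (ρ h₀)) →ₐ[F] Module.End F V,
      Φ (AdjoinRoot.root (minpoly F (ρ h₀))) = ρ h₀ := by
    refine ⟨(Algebra.adjoin F {ρ h₀}).val.comp
      (AdjoinRoot.liftAlgHom (minpoly F (ρ h₀)) (Algebra.ofId F (Algebra.adjoin F {ρ h₀}))
        ⟨ρ h₀, Algebra.self_mem_adjoin_singleton F (ρ h₀)⟩ hroot), ?_⟩
    rw [AlgHom.comp_apply, AdjoinRoot.liftAlgHom_root]
    rfl
  have hK : Algebra.adjoin F {AdjoinRoot.root (minpoly F (ρ h₀))} = ⊤ :=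
    AdjoinRoot.adjoinRoot_eq_top
  constructor
  · rintro ⟨B, hBnd, hBinv⟩
    exact forward ρ Φ _ h₀ hfaith hirr hΦ hgen hK hn B hBnd hBinv
  · rintro ⟨-, hdvd⟩
    exact backward ρ Φ _ h₀ hfaith hirr hΦ hgen _ hdvd

end Cfsg.Agent.H2.SelfDualAbelian
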