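import Mathlib
import Cfsg.Agent.H2.SelfDualAbelian

set_option autoImplicit false
set_option linter.unusedVariables false
set_option linter.unusedSectionVars false
set_option linter.deprecated false
set_option linter.style.haveILetI false

namespace Cfsg.Agent.H2.NearFieldAbelian

open Cfsg.Agent.H2.SelfDualAbelian

lemma exists_min_invariant {F V : Type*} [Field F] [AddCommGroup V] [Module F V]
    [FiniteDimensional F V] (P : Submodule F V → Prop) (W₀ : Submodule F V) (hW₀ : W₀ ≠ ⊥)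
    (hP : P W₀) :
    ∃ W : Submodule F V, W ≤ W₀ ∧ W ≠ ⊥ ∧ P W ∧ ∀ W' : Submodule F V, W' ≤ W → P W' →
      W' = ⊥ ∨ W' = W := by
  classical
  have hex : ∃ n : ℕ, ∃ W : Submodule F V, W ≤ W₀ ∧ W ≠ ⊥ ∧ P W ∧ Module.finrank F W = n :=
    ⟨_, W₀, le_refl _, hW₀, hP, rfl⟩
  obtain ⟨W, hWle, hWne, hWP, hWn⟩ := Nat.find_spec hex
  refine ⟨W, hWle, hWne, hWP, ?_⟩
  intro W' hW'le hW'P
  by_cases hW'0 : W' = ⊥
  · exact Or.inl hW'0
  · right
    have h1 : Nat.find hex ≤ Module.finrank F W' :=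
      Nat.find_min' hex ⟨W', hW'le.trans hWle, hW'0, hW'P, rfl⟩
    have h2 : Module.finrank F W' ≤ Module.finrank F W := Submodule.finrank_mono hW'le
    exact Submodule.eq_of_le_of_finrank_eq hW'le (by omega)

lemma card_ne_zero {W : Type*} [AddCommGroup W] [Finite W] :
    Nat.card {w : W // w ≠ 0} = Nat.card W - 1 := by
  classical
  haveI := Fintype.ofFinite W
  rw [Nat.card_eq_fintype_card, Nat.card_eq_fintype_card, Fintype.card_subtype_compl,
    Fintype.card_subtype_eq]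


open scoped IsMulCommutative in
theorem main {p : ℕ} [Fact p.Prime] {V : Type*} [AddCommGroup V] [Module (ZMod p) V] [Finite V]
    (H : Subgroup (V ≃ₗ[ZMod p] V))
    (hreg : ∀ v w : V, v ≠ 0 → w ≠ 0 → ∃! h : H, (h : V ≃ₗ[ZMod p] V) v = w)
    (hI : ∀ A : Subgroup H, A.Normal → IsCyclic A → ∃ W : Submodule (ZMod p) V, W ≠ ⊥ ∧ W ≠ ⊤ ∧
      ∀ a ∈ A, ∀ v ∈ W, ((a : H) : V ≃ₗ[ZMod p] V) v ∈ W)
    (A : Subgroup H) (hAn : A.Normal) (hAc : IsMulCommutative A) :
    IsCyclic A ∧ ∃ W : Submodule (ZMod p) V, W ≠ ⊥ ∧ W ≠ ⊤ ∧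
      (∀ a ∈ A, ∀ v ∈ W, ((a : H) : V ≃ₗ[ZMod p] V) v ∈ W) ∧
      (∀ W' : Submodule (ZMod p) V, W' ≤ W →
        (∀ a ∈ A, ∀ v ∈ W', ((a : H) : V ≃ₗ[ZMod p] V) v ∈ W') → W' = ⊥ ∨ W' = W) ∧
      Nat.card A ∣ p ^ Module.finrank (ZMod p) W - 1 := by
  classical
  haveI : Finite (V ≃ₗ[ZMod p] V) := Finite.of_injective (fun e => (e : V → V))
    (fun a b hab => LinearEquiv.ext (fun x => congrFun hab x))
  have hsemi : ∀ a : H, ∀ v : V, v ≠ 0 → (a : V ≃ₗ[ZMod p] V) v = v → a = 1 := by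
    intro a v hv hav
    obtain ⟨h, -, huniq⟩ := hreg v v hv hv
    rw [huniq a hav, ← huniq 1 (by simp)]
  obtain ⟨Wb, hWb1, hWb2, -⟩ := hI ⊥ inferInstance inferInstance
  have hVtop : (⊤ : Submodule (ZMod p) V) ≠ ⊥ := fun h => hWb1 (by
    rw [eq_bot_iff, ← h]; exact le_top)
  have core : ∀ W : Submodule (ZMod p) V, W ≠ ⊥ →
      (∀ a ∈ A, ∀ v ∈ W, ((a : H) : V ≃ₗ[ZMod p] V) v ∈ W) →
      (∀ W' : Submodule (ZMod p) V, W' ≤ W →
        (∀ a ∈ A, ∀ v ∈ W', ((a : H) : V ≃ₗ[ZMod p] V) v ∈ W') → W' = ⊥ ∨ W' = W) →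
      IsCyclic A ∧ Nat.card A ∣ p ^ Module.finrank (ZMod p) W - 1 := by
    intro W hWne hWP hWmin
    haveI : Nontrivial W := (Submodule.nontrivial_iff_ne_bot).mpr hWne
    let ρ : Representation (ZMod p) A W :=
      { toFun := fun a => LinearMap.restrict (((a : H) : V ≃ₗ[ZMod p] V) : V →ₗ[ZMod p] V)
          (fun v hv => hWP a a.2 v hv)
        map_one' := by
          apply LinearMap.ext
          intro w
          apply Subtype.ext
          simp
        map_mul' := fun a b => by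
          apply LinearMap.ext
          intro w
          apply Subtype.ext
          simp }
    have hρ : ∀ (a : A) (w : W), ((ρ a w : W) : V) = ((a : H) : V ≃ₗ[ZMod p] V) (w : V) :=
      fun a w => rfl
    have hfaith : Function.Injective ρ := by
      rw [injective_iff_map_eq_one]
      intro a ha
      obtain ⟨w, hw, hw0⟩ := Submodule.exists_mem_ne_zero_of_ne_bot hWne
      have h1 : ((ρ a ⟨w, hw⟩ : W) : V) = w := by rw [ha]; rfl
      rw [hρ] at h1
      have h2 := hsemi (a : H) w hw0 h1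
      exact Subtype.ext h2
    have hirr : ∀ U : Submodule (ZMod p) W, (∀ h : A, ∀ u ∈ U, ρ h u ∈ U) → U = ⊥ ∨ U = ⊤ := by
      intro U hU
      rcases hWmin (U.map W.subtype) (Submodule.map_subtype_le W U) (by
        rintro a ha _ ⟨u, hu, rfl⟩
        exact ⟨ρ ⟨a, ha⟩ u, hU ⟨a, ha⟩ u hu, rfl⟩) with h | h
      · left
        apply Submodule.map_injective_of_injective (f := W.subtype) W.injective_subtype
        rw [h, Submodule.map_bot]
      · right
        apply Submodule.map_injective_of_injective (f := W.subtype) W.injective_subtype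
        rw [h, Submodule.map_subtype_top]
    haveI := hAc
    have hcyc : IsCyclic A := isCyclic_of_irr ρ hfaith hirr
    refine ⟨hcyc, ?_⟩
    -- free action on nonzero vectors of W
    have hinj : ∀ a : A, Function.Injective (ρ a) := by
      intro a x y hxy
      apply Subtype.ext
      have h1 : ((ρ a x : W) : V) = ((ρ a y : W) : V) := by rw [hxy]
      rw [hρ, hρ] at h1
      exact ((a : H) : V ≃ₗ[ZMod p] V).injective h1
    letI : MulAction A {w : W // w ≠ 0} :=
      { smul := fun a w => ⟨ρ a w.1, fun h => w.2 (hinj a (by rw [h, map_zero]))⟩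
        one_smul := fun w => by
          apply Subtype.ext
          show ρ 1 w.1 = w.1
          rw [map_one]
          rfl
        mul_smul := fun a b w => by
          apply Subtype.ext
          show ρ (a * b) w.1 = ρ a (ρ b w.1)
          rw [map_mul]
          rfl }
    have hsmul : ∀ (a : A) (w : {w : W // w ≠ 0}), ((a • w : {w : W // w ≠ 0}) : W) = ρ a w.1 :=
      fun a w => rfl
    have hstab : ∀ w : {w : W // w ≠ 0}, MulAction.stabilizer A w = ⊥ := by
      intro w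
      rw [eq_bot_iff]
      intro a ha
      rw [MulAction.mem_stabilizer_iff] at ha
      have h1 : ((ρ a w.1 : W) : V) = ((w.1 : W) : V) := by
        rw [← hsmul, ha]
      rw [hρ] at h1
      have h2 := hsemi (a : H) (w.1 : V) (fun h => w.2 (Subtype.ext h)) h1
      rw [Subgroup.mem_bot]
      exact Subtype.ext h2
    have hequiv := MulAction.selfEquivOrbitsQuotientProd hstab
    have hcard := Nat.card_congr hequiv
    rw [Nat.card_prod, card_ne_zero, Module.natCard_eq_pow_finrank (K := ZMod p) (V := W),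
      Nat.card_zmod] at hcard
    rw [hcard]
    exact Dvd.intro_left _ rfl
  obtain ⟨W₁, -, hW₁ne, hW₁P, hW₁min⟩ := exists_min_invariant
    (fun W : Submodule (ZMod p) V => ∀ a ∈ A, ∀ v ∈ W, ((a : H) : V ≃ₗ[ZMod p] V) v ∈ W) ⊤ hVtop
    (fun _ _ _ _ => Submodule.mem_top)
  have hcyc := (core W₁ hW₁ne hW₁P hW₁min).1
  obtain ⟨W₀, hW₀1, hW₀2, hW₀P⟩ := hI A hAn hcyc
  obtain ⟨W, hWle, hWne, hWP, hWmin⟩ := exists_min_invariant
    (fun W : Submodule (ZMod p) V => ∀ a ∈ A, ∀ v ∈ W, ((a : H) : V ≃ₗ[ZMod p] V) v ∈ W) W₀ hW₀1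
    hW₀P
  refine ⟨hcyc, W, hWne, ?_, hWP, hWmin, (core W hWne hWP hWmin).2⟩
  intro h
  apply hW₀2
  rw [eq_top_iff, ← h]
  exact hWle

end Cfsg.Agent.H2.NearFieldAbelian
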