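import Mathlib
import Cfsg.Prelude.Def_Blocks
import Cfsg.Prelude.Def_BrauerPairs
import Cfsg.Agent.Lib.helper3.StableBlock2
import Cfsg.Agent.Lib.helper3.BlockMinMax2
import Cfsg.Agent.Lib.helper3.ExtFirstMain2

/-!
# Defect groups of a block whose idempotent is that of a stable block of a normal subgroup
(helper2)
-/

set_option autoImplicit false
set_option linter.style.haveILetI false
set_option linter.unusedSectionVars false

namespace Cfsg.Agent.H2.StableDefect

open Cfsg Cfsg.Agent.Lib.helper3.Block Cfsg.Agent.Lib.helper3.LocalM Cfsg.Agent.Lib.helper3.Irr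
open Cfsg.Agent.Lib.helper3.Central

variable {G : Type*} [Group G] [Fintype G] {M : Ideal AlgInt}

/-- Let `c` be a `G`-stable block of the normal subgroup `N` and `B` a block of `G` whose idempotent
is that of `c`.  Then for every defect group `D` of `B`, `D ∩ N` lies in a defect group of `c`. -/
theorem exists_defectGroup_ge_inf {p : ℕ} [hp : Fact p.Prime] (hM : IsPModular p M)
    (N : Subgroup G) [hN : N.Normal] [Fintype N] (c : Set (IrrCharacter N)) (hc : IsPBlock M c)
    (hst : ∀ x : G, StabilizesBlock N c x) (B : Set (IrrCharacter G))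
    (hBc : ∀ g : G, blockCoeff B g = subgroupBlockCoeff N c g) (D : Subgroup G)
    (hD : IsDefectGroup p M B D) :
    ∃ Q : Subgroup N, IsDefectGroup p M c Q ∧ (D ⊓ N).subgroupOf N ≤ Q := by
  classical
  haveI hMp := isPrime_of_isPModular hM
  have hMtop : M ≠ ⊤ := hM.2.1.ne_top
  have hS := conjStable_of_stabilizes N c hst
  have hcoef := blockCoeff_overSet N c hS
  have hBeq : B = overSet N c := by
    apply eq_of_blockCoeff_eq
    intro g
    rw [hBc, hcoef]
  have hDp := isPGroup_of_isDefectGroup hD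
  obtain ⟨g, ⟨hloc, hnot, hω⟩, Q, hPQ⟩ := hD
  have hgN : g ∈ N := by
    by_contra hg
    apply hnot
    rw [hBc]
    unfold Cfsg.subgroupBlockCoeff
    rw [dif_neg hg]
    exact memLocalIdeal_zero hMtop
  obtain ⟨g', hg'⟩ : ∃ g' : N, g' = ⟨g, hgN⟩ := ⟨_, rfl⟩
  have hgg' : (g' : G) = g := by rw [hg']
  have hcoef' : Cfsg.blockCoeff B g = Cfsg.blockCoeff c g' := by
    rw [hBc]
    unfold Cfsg.subgroupBlockCoeff
    rw [dif_pos hgN, hg']
  have hcong : ∀ θ ∈ c, ¬ Cfsg.MemLocalIdeal M
      ((numClasses N g' : ℂ) * Cfsg.centralChar ((θ : Cfsg.IrrCharacter N) : N → ℂ) g') := by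
    intro θ hθ hmem
    obtain ⟨χ, hχ⟩ := exists_irr_over N (θ : N → ℂ) θ.2
    have hχB : χ ∈ B := by
      rw [hBeq]
      exact ⟨θ, hθ, hχ⟩
    apply hω χ hχB
    have h1 := centralChar_eq_of_over N χ θ hχ g'
    rw [hgg'] at h1
    rw [h1]
    have h2 := memLocalIdeal_inducedCentralChar_sub_numClasses N c hc hS θ hθ g'
    rw [hgg'] at h2
    have h3 := memLocalIdeal_add h2 hmem
    rw [sub_add_cancel] at h3
    exact h3
  have hdefc : Cfsg.IsDefectClass M c g' := by
    refine ⟨?_, ?_, ?_⟩
    · rw [← hcoef']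
      exact hloc
    · rw [← hcoef']
      exact hnot
    · intro θ hθ hmem
      apply hcong θ hθ
      have hint : IsIntegral ℤ ((numClasses N g' : ℕ) : ℂ) := by
        have : ((numClasses N g' : ℕ) : ℂ) = algebraMap ℤ ℂ (numClasses N g' : ℤ) := by simp
        rw [this]
        exact isIntegral_algebraMap
      exact memLocalIdeal_mul_localRing (memLocalRing_of_integral hint) hmem
  have hDC : D ≤ Subgroup.centralizer ({g} : Set G) := by
    rw [hPQ]
    exact Subgroup.map_subtype_le _
  have hle : (D ⊓ N).subgroupOf N ≤ Subgroup.centralizer ({g'} : Set N) := by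
    intro y hy
    rw [Subgroup.mem_subgroupOf] at hy
    have h1 := hDC hy.1
    rw [Subgroup.mem_centralizer_singleton_iff] at h1 ⊢
    apply Subtype.ext
    rw [Subgroup.coe_mul, Subgroup.coe_mul, hgg']
    exact h1
  have hp' : IsPGroup p ((D ⊓ N).subgroupOf N) := (hDp.to_le inf_le_left).comap_subtype
  obtain ⟨R, hR⟩ := exists_le_sylow_map (Subgroup.centralizer ({g'} : Set N)) _ hp' hle
  exact ⟨_, ⟨g', hdefc, R, rfl⟩, hR⟩

end Cfsg.Agent.H2.StableDefect
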