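import Mathlib
import Cfsg.Prelude.Def_Blocks
import Cfsg.Prelude.Def_BrauerPairs
import Cfsg.Agent.H2.StableDefect
import Cfsg.Agent.H2.DefectTransport
import Cfsg.Agent.Lib.helper3.TraceBlock2
import Cfsg.Agent.Lib.helper3.MaxPair4
import Cfsg.Agent.Lib.helper3.FR6
import Cfsg.Agent.Lib.helper3.QuotDefect3
import Cfsg.Agent.S0971
import Cfsg.Agent.S0959
import Cfsg.Agent.S4653

/-!
# Defect groups of the block induced from `P C(P)` for a normal `p`-subgroup `P` (helper2)

Let `P` be a normal `p`-subgroup of `X`, `K = P C_X(P)`, `e` a block of `K` with defect group `P`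
and `B₁` the block of `X` induced by `e`.  Then every defect group `P₁` of `B₁` satisfies
`P ≤ P₁` and `P₁ ∩ K ≤ P`.
-/

set_option autoImplicit false
set_option linter.style.haveILetI false
set_option linter.unusedSectionVars false

namespace Cfsg.Agent.H2.NormalPairDefect

open Cfsg Cfsg.Agent.Lib.helper3.Block Cfsg.Agent.Lib.helper3.LocalM Cfsg.Agent.Lib.helper3.Irr
open Cfsg.Agent.Lib.helper3.Central Cfsg.Agent.Lib.helper3.CharBasic

variable {X : Type*} [Group X] [Fintype X] {M : Ideal AlgInt}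

/-- A normal `p`-subgroup lies in every defect group. -/
theorem normal_le_defectGroup {p : ℕ} [hp : Fact p.Prime] (hM : IsPModular p M)
    (P : Subgroup X) [hPn : P.Normal] (hP : IsPGroup p P) (B : Set (IrrCharacter X))
    (hB : IsPBlock M B) (D : Subgroup X) (hD : IsDefectGroup p M B D) : P ≤ D := by
  classical
  have hMtop : M ≠ ⊤ := hM.2.1.ne_top
  obtain ⟨g, hg⟩ := exists_defectClass hM B hB
  have hgP : g ∈ Subgroup.centralizer (P : Set X) := by
    by_contra hcon
    apply hg.2.1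
    rw [Cfsg.Agent.S4653.result p M hM P hP B hB g hcon]
    exact memLocalIdeal_zero hMtop
  obtain ⟨x, hx⟩ := (Cfsg.Agent.S0959.result p M hM B hB D hD P hP).mp
    ⟨g, hg.1, hg.2.1, g, IsConj.refl _, hgP⟩
  intro u hu
  apply hx
  refine ⟨x⁻¹ * u * x, ?_, ?_⟩
  · have := hPn.conj_mem u hu x⁻¹
    rwa [inv_inv] at this
  · simp [mul_assoc]

theorem defect_inf_le {p : ℕ} [hp : Fact p.Prime] (hM : IsPModular p M)
    (P : Subgroup X) [hPn : P.Normal] (hP : IsPGroup p P)
    (e : Set (IrrCharacter ↥(P ⊔ Subgroup.centralizer (P : Set X)))) (he : IsPBlock M e)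
    (hdef : IsDefectGroup p M e (P.subgroupOf (P ⊔ Subgroup.centralizer (P : Set X))))
    (B₁ : Set (IrrCharacter X))
    (hind : IsInducedBlock M (P ⊔ Subgroup.centralizer (P : Set X)) e B₁)
    (P₁ : Subgroup X) (hP₁ : IsDefectGroup p M B₁ P₁) :
    P ≤ P₁ ∧ P₁ ⊓ (P ⊔ Subgroup.centralizer (P : Set X)) ≤ P := by
  classical
  haveI hMp := isPrime_of_isPModular hM
  have hMtop : M ≠ ⊤ := hM.2.1.ne_top
  have hB₁ : IsPBlock M B₁ := hind.2.1
  refine ⟨normal_le_defectGroup hM P hP B₁ hB₁ P₁ hP₁, ?_⟩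
  obtain ⟨K, hK⟩ : ∃ K : Subgroup X, K = P ⊔ Subgroup.centralizer (P : Set X) := ⟨_, rfl⟩
  subst hK
  haveI hKn : (P ⊔ Subgroup.centralizer (P : Set X)).Normal := inferInstance
  have hPK : P ≤ P ⊔ Subgroup.centralizer (P : Set X) := le_sup_left
  have hCK : Subgroup.centralizer (P : Set X) ≤ P ⊔ Subgroup.centralizer (P : Set X) :=
    le_sup_right
  letI : Fintype ↥(P ⊔ Subgroup.centralizer (P : Set X)) := Fintype.ofFinite _
  -- the stabilizer
  obtain ⟨T, hT⟩ := exists_stabilizer_subgroup (P ⊔ Subgroup.centralizer (P : Set X)) e he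
  letI : Fintype T := Fintype.ofFinite T
  have hKT : P ⊔ Subgroup.centralizer (P : Set X) ≤ T := by
    intro k hk
    rw [hT]
    refine ⟨?_, ?_⟩
    · rw [Subgroup.normalizer_eq_top]
      exact Subgroup.mem_top _
    · intro χ hχ
      refine ⟨χ, hχ, ?_⟩
      intro a a' ha
      have : a' = (⟨k, hk⟩ : ↥(P ⊔ Subgroup.centralizer (P : Set X))) * a * ⟨k, hk⟩⁻¹ :=
        Subtype.ext ha
      rw [this]
      exact isClassFunction_of_isCharacter (isCharacter_of_isIrrCharacter χ.2) a _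
  have hcent : ∀ t ∈ T, (∀ u ∈ P, u ∈ T → u * t = t * u) →
      t ∈ P ⊔ Subgroup.centralizer (P : Set X) := by
    intro t _ h
    apply hCK
    rw [Subgroup.mem_centralizer_iff]
    intro u hu
    exact h u hu (hKT (hPK hu))
  obtain ⟨E, hE, hEc⟩ := exists_block_of_stabilizer hM P hP
    (P ⊔ Subgroup.centralizer (P : Set X)) e he T hT hKT hcent
  obtain ⟨ξ₀, hξ₀⟩ := isPBlock_nonempty he
  -- `T` as a block stabilizer in the sense of the Fong–Reynolds library
  have hstab : IsBlockStab (P ⊔ Subgroup.centralizer (P : Set X)) T e := by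
    intro g
    constructor
    · intro hg θ hθ θ' hθ'
      have h1 : StabilizesBlock (P ⊔ Subgroup.centralizer (P : Set X)) e g⁻¹ :=
        (hT g⁻¹).mp (T.inv_mem hg)
      have h2 := (conjIrr_mem_iff_stabilizes _ e he θ hθ g).mpr h1
      have : θ' = conjIrr (P ⊔ Subgroup.centralizer (P : Set X)) g θ := by
        apply Subtype.ext
        funext n
        exact hθ' n
      rw [this]
      exact h2
    · intro h
      have h1 : conjIrr (P ⊔ Subgroup.centralizer (P : Set X)) g ξ₀ ∈ e :=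
        h ξ₀ hξ₀ _ (fun _ => rfl)
      have h2 := (conjIrr_mem_iff_stabilizes _ e he ξ₀ hξ₀ g).mp h1
      have h3 := (hT g⁻¹).mpr h2
      have := T.inv_mem h3
      rwa [inv_inv] at this
  -- the situation inside `T`
  obtain ⟨ι, hι⟩ : ∃ ι : (P ⊔ Subgroup.centralizer (P : Set X)).subgroupOf T
      ≃* ↥(P ⊔ Subgroup.centralizer (P : Set X)), ι = Subgroup.subgroupOfEquivOfLe hKT := ⟨_, rfl⟩
  have hιcoe : ∀ k, ((ι k : ↥(P ⊔ Subgroup.centralizer (P : Set X))) : X) = ((k : T) : X) := by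
    intro k
    rw [hι]
    rfl
  haveI hNn : ((P ⊔ Subgroup.centralizer (P : Set X)).subgroupOf T).Normal :=
    Subgroup.normal_subgroupOf
  letI : Fintype ((P ⊔ Subgroup.centralizer (P : Set X)).subgroupOf T) := Fintype.ofFinite _
  obtain ⟨c, hcdef⟩ : ∃ c : Set (IrrCharacter ((P ⊔ Subgroup.centralizer (P : Set X)).subgroupOf T)),
      c = irrCongr ι '' e := ⟨_, rfl⟩
  have hc : IsPBlock M c := by
    rw [hcdef]
    exact isPBlock_image_irrCongr ι e he
  have hst' : ∀ t : T, StabilizesBlock ((P ⊔ Subgroup.centralizer (P : Set X)).subgroupOf T) c t := by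
    intro t
    refine ⟨?_, ?_⟩
    · rw [Subgroup.normalizer_eq_top]
      exact Subgroup.mem_top _
    · intro χ hχ
      rw [hcdef] at hχ
      obtain ⟨χ₀, hχ₀, rfl⟩ := hχ
      obtain ⟨-, h2⟩ := (hT (t : X)).mp t.2
      obtain ⟨χ', hχ', hconj⟩ := h2 χ₀ hχ₀
      refine ⟨irrCongr ι χ', ?_, ?_⟩
      · rw [hcdef]
        exact ⟨χ', hχ', rfl⟩
      · intro k k' hkk'
        rw [irrCongr_apply, irrCongr_apply]
        apply hconj
        rw [hιcoe, hιcoe]
        have := congrArg (fun z : T => (z : X)) hkk'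
        simpa using this
  have hEc' : ∀ t : T, blockCoeff E t
      = subgroupBlockCoeff ((P ⊔ Subgroup.centralizer (P : Set X)).subgroupOf T) c t := by
    intro t
    rw [hEc]
    unfold subgroupBlockCoeff
    by_cases ht : (t : X) ∈ P ⊔ Subgroup.centralizer (P : Set X)
    · have ht' : t ∈ (P ⊔ Subgroup.centralizer (P : Set X)).subgroupOf T :=
        Subgroup.mem_subgroupOf.mpr ht
      rw [dif_pos ht, dif_pos ht', hcdef, blockCoeff_image_irrCongr]
      congr 1
      apply Subtype.ext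
      rw [hιcoe]
    · have ht' : t ∉ (P ⊔ Subgroup.centralizer (P : Set X)).subgroupOf T :=
        fun h => ht (Subgroup.mem_subgroupOf.mp h)
      rw [dif_neg ht, dif_neg ht']
  -- `E` covers `e`
  have hS := conjStable_of_stabilizes _ c hst'
  have hEeq : E = overSet ((P ⊔ Subgroup.centralizer (P : Set X)).subgroupOf T) c := by
    apply eq_of_blockCoeff_eq
    intro g
    rw [hEc', blockCoeff_overSet _ c hS]
  have hcov : ∃ ψ ∈ E, ∃ θ ∈ e, classInner
      (fun n : ↥(P ⊔ Subgroup.centralizer (P : Set X)) => (ψ : T → ℂ) ⟨(n : X), hKT n.2⟩)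
      (θ : ↥(P ⊔ Subgroup.centralizer (P : Set X)) → ℂ) ≠ 0 := by
    obtain ⟨ψ, hψ⟩ := isPBlock_nonempty hE
    have hψ' : ψ ∈ overSet ((P ⊔ Subgroup.centralizer (P : Set X)).subgroupOf T) c := hEeq ▸ hψ
    obtain ⟨θ', hθ'c, hθ'⟩ := hψ'
    rw [hcdef] at hθ'c
    obtain ⟨θ, hθ, rfl⟩ := hθ'c
    refine ⟨ψ, hψ, θ, hθ, ?_⟩
    rw [hι, classInner_sub_irrCongr] at hθ'
    exact hθ'
  -- Fong–Reynolds
  obtain ⟨B', hB'ind, hB'cov, -, -⟩ := fong_reynolds_i (P ⊔ Subgroup.centralizer (P : Set X)) T hM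
    he hstab hKT E hE hcov
  have hB'e : IsInducedBlock M (P ⊔ Subgroup.centralizer (P : Set X)) e B' :=
    (Cfsg.Agent.S0971.result p M hM P hP e he).2 B' hB'ind.2.1 hB'cov
  have hBB' : B₁ = B' := isInducedBlock_unique _ e B₁ B' hind hB'e
  obtain ⟨DE, hDE⟩ := exists_isDefectGroup hM E hE
  have hDE' : IsDefectGroup p M B₁ (DE.map T.subtype) := by
    rw [hBB']
    exact fong_reynolds_defectGroup (P ⊔ Subgroup.centralizer (P : Set X)) T hM he hstab hKT E hE
      hcov B' hB'ind DE hDE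
  -- the stable case inside `T`
  obtain ⟨Q, hQ, hQle⟩ := Cfsg.Agent.H2.StableDefect.exists_defectGroup_ge_inf hM
    ((P ⊔ Subgroup.centralizer (P : Set X)).subgroupOf T) c hc hst' E hEc' DE hDE
  have hdef' : IsDefectGroup p M c
      ((P.subgroupOf (P ⊔ Subgroup.centralizer (P : Set X))).comap ι.toMonoidHom) := by
    rw [hcdef]
    exact Cfsg.Agent.H2.DefectTransport.isDefectGroup_image_irrCongr ι e _ hdef
  have hQP : ∀ y ∈ Q, ((y : T) : X) ∈ P := by
    intro y hy
    obtain ⟨x, hx⟩ := defectGroup_conj_eq hM hc hQ hdef'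
    rw [← hx] at hy
    obtain ⟨d, hd, rfl⟩ := hy
    have hd' : ((d : T) : X) ∈ P := by
      have h1 : ι d ∈ P.subgroupOf (P ⊔ Subgroup.centralizer (P : Set X)) := hd
      rw [Subgroup.mem_subgroupOf, hιcoe] at h1
      exact h1
    have := hPn.conj_mem _ hd' ((x : T) : X)
    simpa using this
  -- conclusion
  obtain ⟨x, hx⟩ := defectGroup_conj_eq hM hB₁ hP₁ hDE'
  intro z hz
  rw [Subgroup.mem_inf] at hz
  obtain ⟨hz1, hz2⟩ := hz
  rw [← hx] at hz1
  obtain ⟨w, hw, rfl⟩ := hz1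
  obtain ⟨w', hw', rfl⟩ := hw
  have hwK : ((w' : T) : X) ∈ P ⊔ Subgroup.centralizer (P : Set X) := by
    have := hKn.conj_mem _ hz2 x⁻¹
    simpa [mul_assoc] using this
  have hw'N : w' ∈ (P ⊔ Subgroup.centralizer (P : Set X)).subgroupOf T :=
    Subgroup.mem_subgroupOf.mpr hwK
  have h1 : (⟨w', hw'N⟩ : (P ⊔ Subgroup.centralizer (P : Set X)).subgroupOf T)
      ∈ (DE ⊓ (P ⊔ Subgroup.centralizer (P : Set X)).subgroupOf T).subgroupOf
        ((P ⊔ Subgroup.centralizer (P : Set X)).subgroupOf T) := by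
    rw [Subgroup.mem_subgroupOf]
    exact ⟨hw', hw'N⟩
  have h2 := hQP _ (hQle h1)
  have := hPn.conj_mem _ h2 x
  simpa using this

end Cfsg.Agent.H2.NormalPairDefect
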