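import Mathlib
import Cfsg.Prelude.Def_Blocks
import Cfsg.Agent.H2.NormalPairDefect
import Cfsg.Agent.H2.InducedTrans
import Cfsg.Agent.Lib.helper3.ExtFirstMain2
import Cfsg.Agent.Lib.helper3.FirstMain2

/-!
# Nested defect groups for blocks induced from `P C_G(P)` (helper2)

If `b₀` is a block of `P C_G(P)` with defect group `P` inducing the block `B` of `G`, then `B` has a
defect group `D ≥ P` with `Z(D) ≤ P`.
-/

set_option autoImplicit false
set_option linter.style.haveILetI false
set_option linter.unusedSectionVars false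

namespace Cfsg.Agent.H2.NestedDefect

open Cfsg Cfsg.Agent.Lib.helper3.Block Cfsg.Agent.Lib.helper3.LocalM Cfsg.Agent.Lib.helper3.Irr
open Cfsg.Agent.Lib.helper3.Central Cfsg.Agent.Lib.helper3.CharBasic

variable {G : Type*} [Group G] [Fintype G] {M : Ideal AlgInt}

theorem irrCongr_symm_image {H H' : Type*} [Group H] [Group H'] [Fintype H] [Fintype H']
    (ι : H' ≃* H) (S : Set (IrrCharacter H')) :
    irrCongr ι '' (irrCongr ι.symm '' S) = S := by
  rw [Set.image_image]
  have : (fun θ : IrrCharacter H' => irrCongr ι (irrCongr ι.symm θ)) = id := by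
    funext θ
    apply Subtype.ext
    funext h
    show (θ : H' → ℂ) (ι.symm (ι h)) = (θ : H' → ℂ) h
    rw [MulEquiv.symm_apply_apply]
  rw [this, Set.image_id]

theorem nested_aux {p : ℕ} [hp : Fact p.Prime] (hM : IsPModular p M)
    (B : Set (IrrCharacter G)) :
    ∀ n : ℕ, ∀ P : Subgroup G, Nat.card G - Nat.card P = n → IsPGroup p P →
      ∀ b₀ : Set (IrrCharacter ↥(P ⊔ Subgroup.centralizer (P : Set G))),
        IsDefectGroup p M b₀ (P.subgroupOf (P ⊔ Subgroup.centralizer (P : Set G))) →
        IsInducedBlock M (P ⊔ Subgroup.centralizer (P : Set G)) b₀ B →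
        ∃ D : Subgroup G, IsDefectGroup p M B D ∧ P ≤ D ∧
          ∀ z ∈ D, (∀ d ∈ D, d * z = z * d) → z ∈ P := by
  classical
  haveI hMp := isPrime_of_isPModular hM
  intro n
  induction n using Nat.strong_induction_on with
  | _ n ih =>
    intro P hn hPp b₀ hdef hind
    by_cases hBP : IsDefectGroup p M B P
    · exact ⟨P, hBP, le_rfl, fun z hz _ => hz⟩
    · obtain ⟨B₁, h1, h2⟩ := exists_normalizer_block hM B P hPp b₀ hind
      have hB₁ : IsPBlock M B₁ := h1.2.1
      have he : IsPBlock M (irrCongr (lEquiv P) '' b₀) := h1.1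
      have hdefe : IsDefectGroup p M (irrCongr (lEquiv P) '' b₀)
          ((pInN P).subgroupOf (lInN P)) := by
        have := Cfsg.Agent.H2.DefectTransport.isDefectGroup_image_irrCongr (M := M) (p := p)
          (lEquiv P) b₀ _ hdef
        convert this using 1
        ext x
        rw [Subgroup.mem_subgroupOf, Subgroup.mem_comap, Subgroup.mem_subgroupOf,
          Subgroup.mem_subgroupOf]
        rfl
      obtain ⟨P₁, hP₁⟩ := exists_isDefectGroup hM B₁ hB₁
      obtain ⟨hPP₁, hP₁K⟩ := Cfsg.Agent.H2.NormalPairDefect.defect_inf_le hM (pInN P)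
        hPp.comap_subtype (irrCongr (lEquiv P) '' b₀) he hdefe B₁ h1 P₁ hP₁
      obtain ⟨P₁', hP₁'⟩ : ∃ P₁' : Subgroup G,
          P₁' = P₁.map (Subgroup.normalizer (P : Set G)).subtype := ⟨_, rfl⟩
      have hP₁p : IsPGroup p P₁' := by
        rw [hP₁']
        exact (isPGroup_of_isDefectGroup hP₁).map _
      have hPP₁' : P ≤ P₁' := by
        intro u hu
        rw [hP₁']
        exact ⟨⟨u, Subgroup.le_normalizer hu⟩, hPP₁ (Subgroup.mem_subgroupOf.mpr hu), rfl⟩
      have hne : P ≠ P₁' := by
        intro heq
        have h3 : P₁ = pInN P := by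
          apply le_antisymm _ hPP₁
          intro y hy
          show (y : G) ∈ P
          have h4 : (y : G) ∈ P₁' := by
            rw [hP₁']
            exact ⟨y, hy, rfl⟩
          exact (SetLike.ext_iff.mp heq (y : G)).mpr h4
        apply hBP
        rw [h3] at hP₁
        exact isDefectGroup_of_induced_normalizer hM P hPp B₁ hB₁ hP₁ B hind.2.1 h2
      have hlt : Nat.card P < Nat.card P₁' := by
        by_contra hcon
        push Not at hcon
        exact hne (Subgroup.eq_of_le_of_card_ge hPP₁' hcon)
      have hle : Nat.card P₁' ≤ Nat.card G := Subgroup.card_le_card_group P₁'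
      -- the next pair
      obtain ⟨b₂, hdef₂, hind₂⟩ := exists_block_sup_centralizer hM B₁ hB₁ P₁ hP₁
      have hCN : Subgroup.centralizer (P₁' : Set G) ≤ Subgroup.normalizer (P : Set G) := by
        intro z hz
        apply Subgroup.centralizer_le_normalizer
        exact Subgroup.centralizer_le (by exact_mod_cast hPP₁') hz
      have hmap : (P₁ ⊔ Subgroup.centralizer (P₁ : Set ↥(Subgroup.normalizer (P : Set G)))).map
          (Subgroup.normalizer (P : Set G)).subtype
          = P₁' ⊔ Subgroup.centralizer (P₁' : Set G) := by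
        rw [Subgroup.map_sup, ← hP₁']
        congr 1
        ext z
        constructor
        · rintro ⟨y, hy, rfl⟩
          rw [Subgroup.mem_centralizer_iff]
          intro w hw
          rw [hP₁'] at hw
          obtain ⟨w', hw', rfl⟩ := hw
          have := Subgroup.mem_centralizer_iff.mp hy w' hw'
          exact congrArg (fun t : ↥(Subgroup.normalizer (P : Set G)) => (t : G)) this
        · intro hz
          refine ⟨⟨z, hCN hz⟩, ?_, rfl⟩
          rw [SetLike.mem_coe, Subgroup.mem_centralizer_iff]
          intro w hw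
          apply Subtype.ext
          have h4 : (w : G) ∈ P₁' := by
            rw [hP₁']
            exact ⟨w, hw, rfl⟩
          exact Subgroup.mem_centralizer_iff.mp hz _ h4
      obtain ⟨ι₁, hι₁⟩ : ∃ ι₁ : ↥(P₁ ⊔ Subgroup.centralizer
          (P₁ : Set ↥(Subgroup.normalizer (P : Set G)))) ≃*
          ↥(P₁' ⊔ Subgroup.centralizer (P₁' : Set G)),
          ∀ m, ((ι₁ m : ↥(P₁' ⊔ Subgroup.centralizer (P₁' : Set G))) : G)
            = ((m : ↥(Subgroup.normalizer (P : Set G))) : G) :=
        ⟨(Subgroup.equivMapOfInjective _ _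
          (Subgroup.subtype_injective (Subgroup.normalizer (P : Set G)))).trans
          (MulEquiv.subgroupCongr hmap), fun m => rfl⟩
      have hb₂ : IsPBlock M b₂ := hind₂.1
      have hb₂' : IsPBlock M (irrCongr ι₁.symm '' b₂) := isPBlock_image_irrCongr _ b₂ hb₂
      have hind₂' : IsInducedBlock M (P₁' ⊔ Subgroup.centralizer (P₁' : Set G))
          (irrCongr ι₁.symm '' b₂) B := by
        apply isInducedBlock_trans (P₁' ⊔ Subgroup.centralizer (P₁' : Set G))
          (Subgroup.normalizer (P : Set G)) _ ι₁ hι₁ _ hb₂' B₁ B _ h2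
        rw [irrCongr_symm_image]
        exact hind₂
      have hdef₂' : IsDefectGroup p M (irrCongr ι₁.symm '' b₂)
          (P₁'.subgroupOf (P₁' ⊔ Subgroup.centralizer (P₁' : Set G))) := by
        have := Cfsg.Agent.H2.DefectTransport.isDefectGroup_image_irrCongr (M := M) (p := p)
          ι₁.symm b₂ _ hdef₂
        convert this using 1
        ext x
        rw [Subgroup.mem_subgroupOf, Subgroup.mem_comap, Subgroup.mem_subgroupOf,
          SetLike.ext_iff.mp hP₁' _]
        constructor
        · rintro ⟨y, hy, hyx⟩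
          have h5 : ((ι₁.symm x : ↥(P₁ ⊔ Subgroup.centralizer
              (P₁ : Set ↥(Subgroup.normalizer (P : Set G))))) :
                ↥(Subgroup.normalizer (P : Set G))) = y := by
            apply Subtype.ext
            rw [← hι₁, MulEquiv.apply_symm_apply]
            exact hyx.symm
          show ((ι₁.symm x : ↥(P₁ ⊔ Subgroup.centralizer
              (P₁ : Set ↥(Subgroup.normalizer (P : Set G))))) :
                ↥(Subgroup.normalizer (P : Set G))) ∈ P₁
          rw [h5]
          exact hy
        · intro hx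
          refine ⟨_, hx, ?_⟩
          have := hι₁ (ι₁.symm x)
          rw [MulEquiv.apply_symm_apply] at this
          exact this.symm
      obtain ⟨D, hD, hP₁D, hZ⟩ := ih (Nat.card G - Nat.card P₁') (by omega) P₁' rfl hP₁p
        (irrCongr ι₁.symm '' b₂) hdef₂' hind₂'
      refine ⟨D, hD, hPP₁'.trans hP₁D, ?_⟩
      intro z hz hcomm
      have hz1 : z ∈ P₁' := hZ z hz hcomm
      have hzC : z ∈ Subgroup.centralizer (P : Set G) := by
        rw [Subgroup.mem_centralizer_iff]
        intro u hu
        exact hcomm u (hP₁D (hPP₁' hu))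
      rw [hP₁'] at hz1
      obtain ⟨y, hy, rfl⟩ := hz1
      have hyK : y ∈ lInN P := by
        rw [lInN_eq, Subgroup.mem_subgroupOf]
        exact (le_sup_right : Subgroup.centralizer (P : Set G) ≤ _) hzC
      have h6 : y ∈ pInN P := hP₁K ⟨hy, hyK⟩
      exact Subgroup.mem_subgroupOf.mp h6

end Cfsg.Agent.H2.NestedDefect
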