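import Mathlib
import Cfsg.Agent.H9.RegNil

/-!
# Kernel dimension sequences of nilpotent endomorphisms (helper2)

`kd N k = dim ker N^k`.  The sequence is concave, and two nilpotent endomorphisms with the same
sequence are conjugate (the classification underlying the Jordan normal form).
-/

set_option linter.unusedSectionVars false

namespace Cfsg.Agent.H2.NilpKer

open Module

universe u

variable {F : Type*} [Field F]

section Basic

variable {V : Type*} [AddCommGroup V] [Module F V]

/-- kernel dimension sequence -/
noncomputable def kd (N : End F V) (k : ℕ) : ℕ := finrank F (LinearMap.ker (N ^ k))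

theorem kd_zero (N : End F V) : kd N 0 = 0 := by
  unfold kd
  rw [pow_zero]
  have : LinearMap.ker (1 : End F V) = ⊥ := LinearMap.ker_id
  rw [this, finrank_bot]

theorem ker_pow_le_succ (N : End F V) (k : ℕ) :
    LinearMap.ker (N ^ k) ≤ LinearMap.ker (N ^ (k + 1)) := by
  intro x hx
  rw [LinearMap.mem_ker] at hx ⊢
  rw [pow_succ', Module.End.mul_apply, hx, map_zero]

theorem range_invariant (N : End F V) : ∀ x ∈ LinearMap.range N, N x ∈ LinearMap.range N :=
  fun x _ => ⟨x, rfl⟩

variable [FiniteDimensional F V]

theorem kd_mono (N : End F V) (k : ℕ) : kd N k ≤ kd N (k + 1) :=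
  Submodule.finrank_mono (ker_pow_le_succ N k)

/-- restriction to the range shifts the kernel dimension sequence -/
theorem kd_restrict_range (N : End F V) (k : ℕ) :
    kd (N.restrict (range_invariant N)) k + kd N 1 = kd N (k + 1) := by
  unfold kd
  rw [pow_one]
  have hT : ∀ x ∈ LinearMap.ker (N ^ (k + 1)), N x ∈ LinearMap.range N := fun x _ => ⟨x, rfl⟩
  have h1 := LinearMap.finrank_range_add_finrank_ker (N.restrict hT)
  have hker : finrank F (LinearMap.ker (N.restrict hT)) = finrank F (LinearMap.ker N) := by
    rw [LinearMap.ker_restrict]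
    have hle : LinearMap.ker N ≤ LinearMap.ker (N ^ (k + 1)) := by
      intro x hx
      rw [LinearMap.mem_ker] at hx ⊢
      rw [pow_succ, Module.End.mul_apply, hx, map_zero]
    exact LinearEquiv.finrank_eq (Submodule.comapSubtypeEquivOfLe hle)
  have hrange : LinearMap.range (N.restrict hT) =
      LinearMap.ker ((N.restrict (range_invariant N)) ^ k) := by
    rw [LinearMap.range_restrict, Module.End.pow_restrict, LinearMap.ker_restrict]
    ext y
    simp only [Submodule.mem_comap, Submodule.subtype_apply, Submodule.mem_map,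
      LinearMap.mem_ker]
    constructor
    · rintro ⟨x, hx, hxy⟩
      rw [← hxy, ← Module.End.mul_apply, ← pow_succ]
      exact hx
    · intro hy
      obtain ⟨x, hx⟩ := y.2
      refine ⟨x, ?_, hx⟩
      rw [pow_succ, Module.End.mul_apply, hx]
      exact hy
  rw [hrange, hker] at h1
  exact h1

theorem finrank_range_lt (N : End F V) (hnil : IsNilpotent N) [Nontrivial V] :
    finrank F (LinearMap.range N) < finrank F V := by
  by_contra hge
  have htop : LinearMap.range N = ⊤ :=
    Submodule.eq_top_of_finrank_eq (le_antisymm (Submodule.finrank_le _) (not_lt.mp hge))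
  have hsurj : Function.Surjective N := LinearMap.range_eq_top.mp htop
  obtain ⟨m, hm⟩ := hnil
  have hsm : Function.Surjective (N ^ m) := by
    rw [Module.End.coe_pow]
    exact hsurj.iterate m
  obtain ⟨v, hv⟩ := exists_ne (0 : V)
  obtain ⟨w, hw⟩ := hsm v
  rw [hm, LinearMap.zero_apply] at hw
  exact hv hw.symm

theorem kd_of_pow_eq_zero (N : End F V) (k : ℕ) (h : N ^ k = 0) : kd N k = finrank F V := by
  unfold kd
  rw [h, LinearMap.ker_zero, finrank_top]

theorem finrank_comap_subtype (p q : Submodule F V) :
    finrank F (Submodule.comap p.subtype q) = finrank F ↥(p ⊓ q) := by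
  rw [← Submodule.finrank_map_subtype_eq p (Submodule.comap p.subtype q),
    Submodule.map_comap_subtype]

end Basic

/-- concavity of the kernel dimension sequence -/
theorem kd_concave_aux : ∀ (n : ℕ) (V : Type u) [AddCommGroup V] [Module F V]
    [FiniteDimensional F V], finrank F V = n → ∀ (N : End F V), IsNilpotent N → ∀ k : ℕ,
    kd N (k + 2) + kd N k ≤ 2 * kd N (k + 1) := by
  intro n
  induction n using Nat.strong_induction_on with
  | _ n ih =>
    intro V _ _ _ hV N hnil k
    rcases k with _ | k
    · rw [kd_zero, add_zero]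
      have := Cfsg.Agent.H9.RegNil.finrank_ker_pow_le N 2
      unfold kd
      rw [pow_one]
      exact this
    · rcases subsingleton_or_nontrivial V with hs | hnt
      · have h0 : ∀ j, kd N j = 0 := by
          intro j
          unfold kd
          exact finrank_zero_of_subsingleton
        rw [h0, h0, h0]
      · have hlt := finrank_range_lt N hnil
        have hnilW : IsNilpotent (N.restrict (range_invariant N)) :=
          Module.End.isNilpotent.restrict (range_invariant N) hnil
        have := ih _ (hV ▸ hlt) (LinearMap.range N) rfl (N.restrict (range_invariant N)) hnilW k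
        have e1 := kd_restrict_range N (k + 2)
        have e2 := kd_restrict_range N (k + 1)
        have e3 := kd_restrict_range N k
        rw [show k + 1 + 2 = k + 2 + 1 from rfl]
        omega

theorem kd_concave {V : Type*} [AddCommGroup V] [Module F V] [FiniteDimensional F V]
    (N : End F V) (hnil : IsNilpotent N) (k : ℕ) :
    kd N (k + 2) + kd N k ≤ 2 * kd N (k + 1) :=
  kd_concave_aux _ V rfl N hnil k

theorem extend_equiv {V V' : Type u} [AddCommGroup V] [Module F V] [FiniteDimensional F V]
    [AddCommGroup V'] [Module F V'] [FiniteDimensional F V'] (N : End F V) (N' : End F V')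
    (hfr : finrank F V = finrank F V') (hk1 : kd N 1 = kd N' 1) (hk2 : kd N 2 = kd N' 2)
    (ψ : LinearMap.range N ≃ₗ[F] LinearMap.range N')
    (hψ : ∀ w, ψ (N.restrict (range_invariant N) w) = N'.restrict (range_invariant N') (ψ w)) :
    ∃ φ : V ≃ₗ[F] V', ∀ v, φ (N v) = N' (φ v) := by
  classical
  -- complements
  obtain ⟨K, hK⟩ := (Submodule.comap (LinearMap.ker N).subtype (LinearMap.range N)).exists_isCompl
  obtain ⟨K', hK'⟩ :=
    (Submodule.comap (LinearMap.ker N').subtype (LinearMap.range N')).exists_isCompl
  obtain ⟨U, hU⟩ := (LinearMap.range N ⊔ LinearMap.ker N).exists_isCompl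
  -- dimensions
  have hA : finrank F (Submodule.comap (LinearMap.ker N).subtype (LinearMap.range N)) =
      kd (N.restrict (range_invariant N)) 1 := by
    unfold kd
    rw [pow_one, LinearMap.ker_restrict, finrank_comap_subtype, finrank_comap_subtype, inf_comm]
  have hA' : finrank F (Submodule.comap (LinearMap.ker N').subtype (LinearMap.range N')) =
      kd (N'.restrict (range_invariant N')) 1 := by
    unfold kd
    rw [pow_one, LinearMap.ker_restrict, finrank_comap_subtype, finrank_comap_subtype, inf_comm]
  have hKK' : finrank F K = finrank F K' := by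
    have e1 := Submodule.finrank_add_eq_of_isCompl hK
    have e2 := Submodule.finrank_add_eq_of_isCompl hK'
    have e3 : kd (N.restrict (range_invariant N)) 1 + kd N 1 = kd N 2 := kd_restrict_range N 1
    have e4 : kd (N'.restrict (range_invariant N')) 1 + kd N' 1 = kd N' 2 :=
      kd_restrict_range N' 1
    have e5 : finrank F (LinearMap.ker N) = kd N 1 := by unfold kd; rw [pow_one]
    have e6 : finrank F (LinearMap.ker N') = kd N' 1 := by unfold kd; rw [pow_one]
    omega
  let κ : K ≃ₗ[F] K' := LinearEquiv.ofFinrankEq K K' hKK'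
  obtain ⟨s', hs'⟩ := LinearMap.exists_rightInverse_of_surjective N'.rangeRestrict
    (LinearMap.range_rangeRestrict N')
  have hs'' : ∀ y : LinearMap.range N', N' (s' y) = (y : V') := by
    intro y
    have := congrArg (fun f => ((f y : LinearMap.range N') : V')) hs'
    simpa using this
  -- the sum map
  let E : (LinearMap.range N × (K × U)) →ₗ[F] V :=
    (LinearMap.range N).subtype.coprod
      (((LinearMap.ker N).subtype ∘ₗ K.subtype).coprod U.subtype)
  have hE : ∀ (w : LinearMap.range N) (k : K) (u : U), E (w, (k, u)) =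
      (w : V) + (((k : LinearMap.ker N) : V) + (u : V)) := fun w k u => rfl
  have hkN : ∀ k : K, N ((k : LinearMap.ker N) : V) = 0 := fun k => (k : LinearMap.ker N).2
  have hS_U : ∀ x : V, x ∈ LinearMap.range N ⊔ LinearMap.ker N → x ∈ U → x = 0 := by
    intro x hx hxU
    have : x ∈ (LinearMap.range N ⊔ LinearMap.ker N) ⊓ U := ⟨hx, hxU⟩
    rw [hU.inf_eq_bot] at this
    exact this
  have hEinj : Function.Injective E := by
    rw [← LinearMap.ker_eq_bot, LinearMap.ker_eq_bot']
    rintro ⟨w, k, u⟩ h0
    rw [hE] at h0
    have hu : (u : V) = 0 := by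
      apply hS_U _ _ u.2
      have : (u : V) = -((w : V) + ((k : LinearMap.ker N) : V)) := by
        rw [← add_assoc] at h0
        exact (neg_eq_of_add_eq_zero_right h0).symm
      rw [this]
      exact Submodule.neg_mem _ (Submodule.add_mem_sup w.2 (k : LinearMap.ker N).2)
    rw [hu, add_zero] at h0
    have hk : (k : LinearMap.ker N) = 0 := by
      have h1 : (k : LinearMap.ker N) ∈
          Submodule.comap (LinearMap.ker N).subtype (LinearMap.range N) ⊓ K := by
        refine Submodule.mem_inf.mpr ⟨?_, k.2⟩
        rw [Submodule.mem_comap, Submodule.subtype_apply]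
        have : ((k : LinearMap.ker N) : V) = -(w : V) := (neg_eq_of_add_eq_zero_right h0).symm
        rw [this]
        exact Submodule.neg_mem _ w.2
      rw [hK.inf_eq_bot] at h1
      exact h1
    rw [hk, Submodule.coe_zero, add_zero] at h0
    have hw : w = 0 := Subtype.ext h0
    have hk' : k = 0 := Subtype.ext hk
    have hu' : u = 0 := Subtype.ext hu
    rw [hw, hk', hu']
    rfl
  have hEsurj : Function.Surjective E := by
    intro v
    have hv : v ∈ (LinearMap.range N ⊔ LinearMap.ker N) ⊔ U := by
      rw [hU.sup_eq_top]; trivial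
    obtain ⟨s, hs, u, hu, rfl⟩ := Submodule.mem_sup.mp hv
    obtain ⟨w, hw, x, hx, rfl⟩ := Submodule.mem_sup.mp hs
    have hx' : (⟨x, hx⟩ : LinearMap.ker N) ∈
        Submodule.comap (LinearMap.ker N).subtype (LinearMap.range N) ⊔ K := by
      rw [hK.sup_eq_top]; trivial
    obtain ⟨a, ha, k, hk, hak⟩ := Submodule.mem_sup.mp hx'
    rw [Submodule.mem_comap, Submodule.subtype_apply] at ha
    refine ⟨(⟨w + (a : V), Submodule.add_mem _ hw ha⟩, (⟨k, hk⟩, ⟨u, hu⟩)), ?_⟩
    rw [hE]
    have : x = (a : V) + (k : V) := by
      have := congrArg (fun z : LinearMap.ker N => (z : V)) hak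
      simpa using this.symm
    rw [this]
    show w + (a : V) + ((k : V) + u) = w + ((a : V) + (k : V)) + u
    abel
  let Ee : (LinearMap.range N × (K × U)) ≃ₗ[F] V := LinearEquiv.ofBijective E ⟨hEinj, hEsurj⟩
  -- the target map
  let Φ : (LinearMap.range N × (K × U)) →ₗ[F] V' :=
    ((LinearMap.range N').subtype ∘ₗ ψ.toLinearMap).coprod
      ((((LinearMap.ker N').subtype ∘ₗ K'.subtype) ∘ₗ κ.toLinearMap).coprod
        ((s' ∘ₗ ψ.toLinearMap) ∘ₗ (N.rangeRestrict ∘ₗ U.subtype)))
  have hΦ : ∀ (w : LinearMap.range N) (k : K) (u : U), Φ (w, (k, u)) =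
      ((ψ w : LinearMap.range N') : V') + ((((κ k : K') : LinearMap.ker N') : V') +
        s' (ψ (N.rangeRestrict (u : V)))) := fun w k u => rfl
  have hNψ : ∀ w : LinearMap.range N, N' ((ψ w : LinearMap.range N') : V') =
      ((ψ (N.restrict (range_invariant N) w) : LinearMap.range N') : V') := by
    intro w
    rw [hψ]
    rfl
  have hNΦ : ∀ (w : LinearMap.range N) (k : K) (u : U), N' (Φ (w, (k, u))) =
      ((ψ (N.restrict (range_invariant N) w + N.rangeRestrict (u : V)) :
        LinearMap.range N') : V') := by
    intro w k u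
    rw [hΦ, map_add, map_add, hNψ, hs'']
    have : N' (((κ k : K') : LinearMap.ker N') : V') = 0 := ((κ k : K') : LinearMap.ker N').2
    rw [this, zero_add, map_add]
    rfl
  have hΦinj : Function.Injective Φ := by
    rw [← LinearMap.ker_eq_bot, LinearMap.ker_eq_bot']
    rintro ⟨w, k, u⟩ h0
    have h1 := hNΦ w k u
    rw [h0, map_zero] at h1
    have h2 : N.restrict (range_invariant N) w + N.rangeRestrict (u : V) = 0 := by
      apply ψ.injective
      rw [map_zero]
      exact Subtype.ext h1.symm
    have h3 : N ((w : V) + (u : V)) = 0 := by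
      have := congrArg (fun z : LinearMap.range N => (z : V)) h2
      simpa using this
    have hu : (u : V) = 0 := by
      apply hS_U _ _ u.2
      have h4 : (w : V) + (u : V) ∈ LinearMap.range N ⊔ LinearMap.ker N :=
        Submodule.mem_sup_right h3
      have h5 : (u : V) = ((w : V) + (u : V)) - (w : V) := by abel
      rw [h5]
      exact Submodule.sub_mem _ h4 (Submodule.mem_sup_left w.2)
    rw [hu, add_zero] at h3
    have hu' : u = 0 := Subtype.ext hu
    rw [hΦ, hu', Submodule.coe_zero, map_zero, map_zero, map_zero, add_zero] at h0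
    -- now ψ w + κ k = 0
    have hψw : N' ((ψ w : LinearMap.range N') : V') = 0 := by
      rw [hNψ]
      have : N.restrict (range_invariant N) w = 0 := Subtype.ext h3
      rw [this, map_zero]
      rfl
    have h6 : (⟨((ψ w : LinearMap.range N') : V'), hψw⟩ : LinearMap.ker N') ∈
        Submodule.comap (LinearMap.ker N').subtype (LinearMap.range N') ⊓ K' := by
      refine Submodule.mem_inf.mpr ⟨?_, ?_⟩
      · rw [Submodule.mem_comap, Submodule.subtype_apply]
        exact (ψ w).2
      · have : (⟨((ψ w : LinearMap.range N') : V'), hψw⟩ : LinearMap.ker N') =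
            -((κ k : K') : LinearMap.ker N') := by
          apply Subtype.ext
          rw [Submodule.coe_neg]
          exact eq_neg_of_add_eq_zero_left h0
        rw [this]
        exact Submodule.neg_mem _ (κ k).2
    rw [hK'.inf_eq_bot, Submodule.mem_bot] at h6
    have hψw0 : ((ψ w : LinearMap.range N') : V') = 0 := congrArg Subtype.val h6
    have hw : w = 0 := by
      apply ψ.injective
      rw [map_zero]
      exact Subtype.ext hψw0
    rw [hψw0, zero_add] at h0
    have hk : k = 0 := by
      apply κ.injective
      rw [map_zero]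
      apply Subtype.ext
      apply Subtype.ext
      exact h0
    rw [hw, hk, hu']
    rfl
  have hφinj : Function.Injective (Φ ∘ₗ Ee.symm.toLinearMap) := by
    intro x y hxy
    exact Ee.symm.injective (hΦinj hxy)
  refine ⟨LinearEquiv.ofInjectiveOfFinrankEq (Φ ∘ₗ Ee.symm.toLinearMap) hφinj hfr, ?_⟩
  intro v
  obtain ⟨⟨w, k, u⟩, rfl⟩ := Ee.surjective v
  show Φ (Ee.symm (N (Ee (w, (k, u))))) = N' (Φ (Ee.symm (Ee (w, (k, u)))))
  rw [LinearEquiv.symm_apply_apply, hNΦ]
  have hNE : N (Ee (w, (k, u))) =
      Ee ((N.restrict (range_invariant N) w + N.rangeRestrict (u : V), ((0 : K), (0 : U)))) := by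
    show N (E (w, (k, u))) = E _
    rw [hE, hE, map_add, map_add, hkN, zero_add]
    simp
  rw [hNE, LinearEquiv.symm_apply_apply, hΦ]
  simp

theorem finrank_eq_of_kd_eq {V V' : Type*} [AddCommGroup V] [Module F V] [FiniteDimensional F V]
    [AddCommGroup V'] [Module F V'] [FiniteDimensional F V'] (N : End F V) (N' : End F V')
    (hnil : IsNilpotent N) (hnil' : IsNilpotent N') (hkd : ∀ k, kd N k = kd N' k) :
    finrank F V = finrank F V' := by
  obtain ⟨m, hm⟩ := hnil
  obtain ⟨m', hm'⟩ := hnil'
  have h1 : N ^ (m + m') = 0 := by rw [pow_add, hm, zero_mul]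
  have h2 : N' ^ (m + m') = 0 := by rw [pow_add, hm', mul_zero]
  rw [← kd_of_pow_eq_zero N _ h1, ← kd_of_pow_eq_zero N' _ h2, hkd]

theorem exists_equiv_aux : ∀ (n : ℕ) (V V' : Type u) [AddCommGroup V] [Module F V]
    [FiniteDimensional F V] [AddCommGroup V'] [Module F V'] [FiniteDimensional F V'],
    finrank F V = n → ∀ (N : End F V) (N' : End F V'), IsNilpotent N → IsNilpotent N' →
    (∀ k, kd N k = kd N' k) → ∃ φ : V ≃ₗ[F] V', ∀ v, φ (N v) = N' (φ v) := by
  intro n
  induction n using Nat.strong_induction_on with
  | _ n ih =>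
    intro V V' _ _ _ _ _ _ hV N N' hnil hnil' hkd
    have hfr := finrank_eq_of_kd_eq N N' hnil hnil' hkd
    rcases subsingleton_or_nontrivial V with hs | hnt
    · have h0 : finrank F V' = 0 := by rw [← hfr]; exact finrank_zero_of_subsingleton
      have hs' : Subsingleton V' := Module.finrank_zero_iff.mp h0
      exact ⟨LinearEquiv.ofFinrankEq V V' hfr, fun v => Subsingleton.elim _ _⟩
    · have hlt := finrank_range_lt N hnil
      have hnilW : IsNilpotent (N.restrict (range_invariant N)) :=
        Module.End.isNilpotent.restrict (range_invariant N) hnil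
      have hnilW' : IsNilpotent (N'.restrict (range_invariant N')) :=
        Module.End.isNilpotent.restrict (range_invariant N') hnil'
      have hkdW : ∀ k, kd (N.restrict (range_invariant N)) k =
          kd (N'.restrict (range_invariant N')) k := by
        intro k
        have e1 := kd_restrict_range N k
        have e2 := kd_restrict_range N' k
        have e3 := hkd (k + 1)
        have e4 := hkd 1
        omega
      obtain ⟨ψ, hψ⟩ := ih _ (hV ▸ hlt) (LinearMap.range N) (LinearMap.range N') rfl
        (N.restrict (range_invariant N)) (N'.restrict (range_invariant N')) hnilW hnilW' hkdW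
      exact extend_equiv N N' hfr (hkd 1) (hkd 2) ψ hψ

/-- nilpotent endomorphisms with the same kernel dimension sequence are conjugate -/
theorem exists_equiv {V V' : Type u} [AddCommGroup V] [Module F V]
    [FiniteDimensional F V] [AddCommGroup V'] [Module F V'] [FiniteDimensional F V']
    (N : End F V) (N' : End F V') (hnil : IsNilpotent N) (hnil' : IsNilpotent N')
    (hkd : ∀ k, kd N k = kd N' k) : ∃ φ : V ≃ₗ[F] V', ∀ v, φ (N v) = N' (φ v) :=
  exists_equiv_aux _ V V' rfl N N' hnil hnil' hkd

/-- conjugate endomorphisms have the same kernel dimension sequence -/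
theorem kd_eq_of_equiv {V V' : Type*} [AddCommGroup V] [Module F V]
    [AddCommGroup V'] [Module F V'] (N : End F V) (N' : End F V')
    (φ : V ≃ₗ[F] V') (hφ : ∀ v, φ (N v) = N' (φ v)) (k : ℕ) : kd N k = kd N' k := by
  unfold kd
  have hpow : ∀ j : ℕ, ∀ v, φ ((N ^ j) v) = (N' ^ j) (φ v) := by
    intro j
    induction j with
    | zero => intro v; simp
    | succ j ihj =>
      intro v
      rw [pow_succ, Module.End.mul_apply, ihj, hφ, pow_succ, Module.End.mul_apply]
  have hmap : (LinearMap.ker (N ^ k)).map φ.toLinearMap = LinearMap.ker (N' ^ k) := by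
    ext y
    constructor
    · rintro ⟨x, hx, rfl⟩
      rw [LinearMap.mem_ker]
      show (N' ^ k) (φ x) = 0
      rw [← hpow, LinearMap.mem_ker.mp hx, map_zero]
    · intro hy
      refine ⟨φ.symm y, ?_, by simp⟩
      show φ.symm y ∈ LinearMap.ker (N ^ k)
      rw [LinearMap.mem_ker]
      apply φ.injective
      rw [hpow, LinearEquiv.apply_symm_apply, map_zero]
      exact hy
  rw [← hmap]
  exact (LinearEquiv.finrank_eq (φ.submoduleMap (LinearMap.ker (N ^ k)))).symm ▸ rfl

end Cfsg.Agent.H2.NilpKer
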