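import Mathlib
import Cfsg.Agent.H2.NilpKer

/-!
# The Jordan model of a nilpotent endomorphism (helper2)

The shift operator on functions on `Σ i, Fin (e i)` and the dimensions of the kernels of its powers.
-/


set_option linter.unusedSectionVars false

namespace Cfsg.Agent.H2.NilpModel

open Module Cfsg.Agent.H2.NilpKer

variable {F : Type*} [Field F] {ι : Type*} [Fintype ι] (e : ι → ℕ)

/-- the shift endomorphism on the Jordan model -/
def shift : End F ((Σ i : ι, Fin (e i)) → F) where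
  toFun x := fun c => if h : (c.2 : ℕ) + 1 < e c.1 then x ⟨c.1, ⟨(c.2 : ℕ) + 1, h⟩⟩ else 0
  map_add' x y := by
    funext c
    simp only [Pi.add_apply]
    split_ifs
    · rfl
    · rw [add_zero]
  map_smul' a x := by
    funext c
    simp only [Pi.smul_apply, RingHom.id_apply, smul_eq_mul]
    split_ifs
    · rfl
    · rw [mul_zero]

theorem shift_pow_apply (k : ℕ) (x : (Σ i : ι, Fin (e i)) → F) (c : Σ i : ι, Fin (e i)) :
    ((shift (F := F) e) ^ k) x c =
      if h : (c.2 : ℕ) + k < e c.1 then x ⟨c.1, ⟨(c.2 : ℕ) + k, h⟩⟩ else 0 := by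
  induction k generalizing c with
  | zero =>
    rw [pow_zero, Module.End.one_apply]
    have h : (c.2 : ℕ) + 0 < e c.1 := c.2.2
    rw [dif_pos h]
    rfl
  | succ k ih =>
    rw [pow_succ', Module.End.mul_apply]
    show (if h : (c.2 : ℕ) + 1 < e c.1 then
      ((shift (F := F) e) ^ k) x ⟨c.1, ⟨(c.2 : ℕ) + 1, h⟩⟩ else 0) = _
    by_cases h1 : (c.2 : ℕ) + 1 < e c.1
    · rw [dif_pos h1, ih]
      by_cases h2 : (c.2 : ℕ) + (k + 1) < e c.1
      · have h3 : (c.2 : ℕ) + 1 + k < e c.1 := by omega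
        rw [dif_pos h2]
        simp only
        rw [dif_pos h3]
        congr 3
        omega
      · have h3 : ¬ (c.2 : ℕ) + 1 + k < e c.1 := by omega
        rw [dif_neg h2]
        simp only
        rw [dif_neg h3]
    · rw [dif_neg h1]
      have h2 : ¬ (c.2 : ℕ) + (k + 1) < e c.1 := by omega
      rw [dif_neg h2]

theorem mem_ker_shift_pow (k : ℕ) (x : (Σ i : ι, Fin (e i)) → F) :
    x ∈ LinearMap.ker ((shift (F := F) e) ^ k) ↔
      ∀ c : Σ i : ι, Fin (e i), k ≤ (c.2 : ℕ) → x c = 0 := by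
  rw [LinearMap.mem_ker]
  constructor
  · intro h c hc
    have h1 := congrFun h ⟨c.1, ⟨(c.2 : ℕ) - k, by have := c.2.2; omega⟩⟩
    rw [shift_pow_apply] at h1
    have h2 : (c.2 : ℕ) - k + k < e c.1 := by have := c.2.2; omega
    simp only at h1
    rw [dif_pos h2] at h1
    have h3 : (⟨c.1, ⟨(c.2 : ℕ) - k + k, h2⟩⟩ : Σ i : ι, Fin (e i)) = c := by
      rcases c with ⟨i, j⟩
      simp only [Sigma.mk.injEq, heq_eq_eq, true_and]
      apply Fin.ext
      simp only at hc ⊢
      omega
    rw [h3] at h1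
    exact h1
  · intro h
    funext c
    rw [shift_pow_apply]
    by_cases h1 : (c.2 : ℕ) + k < e c.1
    · rw [dif_pos h1]
      exact h _ (by simp)
    · rw [dif_neg h1]
      rfl

theorem shift_isNilpotent : IsNilpotent (shift (F := F) e) := by
  refine ⟨Finset.univ.sup e, ?_⟩
  apply LinearMap.ext
  intro x
  funext c
  rw [shift_pow_apply]
  have h1 : e c.1 ≤ Finset.univ.sup e := Finset.le_sup (Finset.mem_univ c.1)
  have h2 : ¬ (c.2 : ℕ) + Finset.univ.sup e < e c.1 := by omega
  rw [dif_neg h2]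
  rfl

/-- the kernel of the `k`-th power is the coordinate subspace of the first `k` layers -/
noncomputable def kerEquiv (k : ℕ) :
    LinearMap.ker ((shift (F := F) e) ^ k) ≃ₗ[F]
      ({c : Σ i : ι, Fin (e i) // (c.2 : ℕ) < k} → F) := by
  classical
  refine LinearEquiv.ofBijective
    ((LinearMap.funLeft F F (fun c : {c : Σ i : ι, Fin (e i) // (c.2 : ℕ) < k} => c.1)) ∘ₗ
      (LinearMap.ker ((shift (F := F) e) ^ k)).subtype) ⟨?_, ?_⟩
  · intro x y hxy
    apply Subtype.ext
    funext c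
    by_cases hc : (c.2 : ℕ) < k
    · exact congrFun hxy ⟨c, hc⟩
    · rw [(mem_ker_shift_pow e k _).mp x.2 c (not_lt.mp hc),
        (mem_ker_shift_pow e k _).mp y.2 c (not_lt.mp hc)]
  · intro y
    refine ⟨⟨fun c => if hc : (c.2 : ℕ) < k then y ⟨c, hc⟩ else 0, ?_⟩, ?_⟩
    · rw [mem_ker_shift_pow]
      intro c hc
      rw [dif_neg (not_lt.mpr hc)]
    · funext c
      show (if hc : (c.1.2 : ℕ) < k then y ⟨c.1, hc⟩ else 0) = y c
      rw [dif_pos c.2]

theorem kd_shift (k : ℕ) [Fintype {c : Σ i : ι, Fin (e i) // (c.2 : ℕ) < k}] :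
    kd (shift (F := F) e) k = Fintype.card {c : Σ i : ι, Fin (e i) // (c.2 : ℕ) < k} := by
  unfold kd
  rw [LinearEquiv.finrank_eq (kerEquiv e k), Module.finrank_fintype_fun_eq_card]

theorem kd_shift_succ (k : ℕ) :
    kd (shift (F := F) e) (k + 1) = kd (shift (F := F) e) k + Nat.card {i : ι // k < e i} := by
  classical
  rw [kd_shift, kd_shift]
  have h1 : Fintype.card {c : Σ i : ι, Fin (e i) // (c.2 : ℕ) < k + 1} =
      Fintype.card {c : Σ i : ι, Fin (e i) // (c.2 : ℕ) < k} +
        Fintype.card {c : Σ i : ι, Fin (e i) // (c.2 : ℕ) = k} := by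
    rw [Fintype.card_subtype, Fintype.card_subtype, Fintype.card_subtype,
      ← Finset.card_union_of_disjoint]
    · congr 1
      ext c
      simp only [Finset.mem_filter, Finset.mem_univ, true_and, Finset.mem_union]
      omega
    · rw [Finset.disjoint_filter]
      intro c _ h1 h2
      omega
  rw [h1, Nat.card_eq_fintype_card]
  congr 1
  apply Fintype.card_congr
  exact
    { toFun := fun c => ⟨c.1.1, by have := c.1.2.2; have := c.2; omega⟩
      invFun := fun i => ⟨⟨i.1, ⟨k, i.2⟩⟩, rfl⟩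
      left_inv := by
        rintro ⟨⟨i, j⟩, hj⟩
        simp only at hj
        subst hj
        rfl
      right_inv := fun i => rfl }

theorem shift_pow_eq_zero (p : ℕ) (h : ∀ i, e i ≤ p) : (shift (F := F) e) ^ p = 0 := by
  apply LinearMap.ext
  intro x
  funext c
  rw [shift_pow_apply]
  have h1 := h c.1
  have h2 : ¬ (c.2 : ℕ) + p < e c.1 := by omega
  rw [dif_neg h2]
  rfl

end Cfsg.Agent.H2.NilpModel
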