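import Mathlib

/-!
# Kernel dimension sequences and Jordan types, the combinatorial part (helper2)
-/

set_option linter.unusedSectionVars false

namespace Cfsg.Agent.H2.NilpSeq

/-- the properties of a kernel dimension sequence on an `n`-dimensional space -/
structure IsKdSeq (d : ℕ → ℕ) (n : ℕ) : Prop where
  zero : d 0 = 0
  mono : ∀ k, d k ≤ d (k + 1)
  concave : ∀ k, d (k + 2) + d k ≤ 2 * d (k + 1)
  top : ∀ k, n ≤ k → d k = n

/-- the number of blocks of size greater than `k` -/
def cc (d : ℕ → ℕ) (k : ℕ) : ℕ := d (k + 1) - d k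

/-- the number of blocks of size exactly `b` (`b ≥ 1`) -/
def cnt (d : ℕ → ℕ) (b : ℕ) : ℕ := cc d (b - 1) - cc d b

/-- the Jordan type as a multiset -/
def jparts (d : ℕ → ℕ) (n : ℕ) : Multiset ℕ := ∑ b ∈ Finset.Icc 1 n, cnt d b • ({b} : Multiset ℕ)

variable {d : ℕ → ℕ} {n : ℕ}

theorem IsKdSeq.cc_add (h : IsKdSeq d n) (k : ℕ) : d k + cc d k = d (k + 1) := by
  unfold cc
  have := h.mono k
  omega

theorem IsKdSeq.cc_anti (h : IsKdSeq d n) (k : ℕ) : cc d (k + 1) ≤ cc d k := by
  unfold cc
  have h1 := h.mono k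
  have h2 := h.mono (k + 1)
  have h3 := h.concave k
  rw [show k + 1 + 1 = k + 2 from rfl]
  omega

theorem IsKdSeq.cnt_add (h : IsKdSeq d n) (b : ℕ) : cnt d (b + 1) + cc d (b + 1) = cc d b := by
  unfold cnt
  have := h.cc_anti b
  rw [Nat.add_sub_cancel]
  omega

theorem IsKdSeq.cc_top (h : IsKdSeq d n) (k : ℕ) (hk : n ≤ k) : cc d k = 0 := by
  unfold cc
  rw [h.top k hk, h.top (k + 1) (by omega), Nat.sub_self]

theorem IsKdSeq.le (h : IsKdSeq d n) (k : ℕ) : d k ≤ n := by
  have hm : ∀ j, d k ≤ d (k + j) := by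
    intro j
    induction j with
    | zero => exact le_rfl
    | succ j ih => exact ih.trans (h.mono _)
  have := hm n
  rwa [h.top (k + n) (by omega)] at this

theorem abel (h : IsKdSeq d n) (m : ℕ) :
    ∑ b ∈ Finset.Icc 1 m, b * cnt d b + m * cc d m = d m := by
  induction m with
  | zero => simp [h.zero]
  | succ m ih =>
    rw [Finset.sum_Icc_succ_top (by omega)]
    have h1 := h.cnt_add m
    have h2 := h.cc_add m
    calc ∑ b ∈ Finset.Icc 1 m, b * cnt d b + (m + 1) * cnt d (m + 1) + (m + 1) * cc d (m + 1)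
        = ∑ b ∈ Finset.Icc 1 m, b * cnt d b + (m + 1) * (cnt d (m + 1) + cc d (m + 1)) := by ring
      _ = (∑ b ∈ Finset.Icc 1 m, b * cnt d b + m * cc d m) + cc d m := by rw [h1]; ring
      _ = d (m + 1) := by rw [ih, h2]

theorem jparts_sum (h : IsKdSeq d n) : (jparts d n).sum = n := by
  unfold jparts
  have h1 : (∑ b ∈ Finset.Icc 1 n, cnt d b • ({b} : Multiset ℕ)).sum =
      ∑ b ∈ Finset.Icc 1 n, b * cnt d b := by
    rw [← Multiset.coe_sumAddMonoidHom, map_sum]
    refine Finset.sum_congr rfl fun b _ => ?_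
    rw [Multiset.coe_sumAddMonoidHom, Multiset.sum_nsmul, Multiset.sum_singleton, smul_eq_mul,
      mul_comm]
  rw [h1]
  have h2 := abel h n
  rw [h.cc_top n le_rfl, mul_zero, add_zero, h.top n le_rfl] at h2
  exact h2

theorem mem_jparts {a : ℕ} (ha : a ∈ jparts d n) : a ∈ Finset.Icc 1 n ∧ 0 < cnt d a := by
  unfold jparts at ha
  rw [Multiset.mem_sum] at ha
  obtain ⟨b, hb, hab⟩ := ha
  rw [Multiset.mem_nsmul] at hab
  obtain ⟨h0, h1⟩ := hab
  rw [Multiset.mem_singleton] at h1
  subst h1
  exact ⟨hb, Nat.pos_of_ne_zero h0⟩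

theorem count_jparts (b : ℕ) (hb : b ∈ Finset.Icc 1 n) :
    (jparts d n).count b = cnt d b := by
  unfold jparts
  rw [Multiset.count_sum']
  have : ∀ x ∈ Finset.Icc 1 n, Multiset.count b (cnt d x • ({x} : Multiset ℕ)) =
      if b = x then cnt d x else 0 := by
    intro x _
    rw [Multiset.count_nsmul, Multiset.count_singleton]
    split_ifs <;> simp
  rw [Finset.sum_congr rfl this, Finset.sum_ite_eq, if_pos hb]

/-- the sequence is determined by the Jordan type -/
theorem eq_of_jparts_eq {d' : ℕ → ℕ} (h : IsKdSeq d n) (h' : IsKdSeq d' n)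
    (heq : jparts d n = jparts d' n) : ∀ k, d k = d' k := by
  have hcnt : ∀ b ∈ Finset.Icc 1 n, cnt d b = cnt d' b := by
    intro b hb
    rw [← count_jparts b hb, ← count_jparts b hb, heq]
  have hcc : ∀ j, j ≤ n → cc d (n - j) = cc d' (n - j) := by
    intro j
    induction j with
    | zero =>
      intro _
      rw [Nat.sub_zero, h.cc_top n le_rfl, h'.cc_top n le_rfl]
    | succ j ih =>
      intro hj
      have e1 := h.cnt_add (n - (j + 1))
      have e2 := h'.cnt_add (n - (j + 1))
      have e3 : n - (j + 1) + 1 = n - j := by omega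
      rw [e3] at e1 e2
      have e4 := hcnt (n - j) (Finset.mem_Icc.mpr ⟨by omega, by omega⟩)
      have e5 := ih (by omega)
      omega
  have hcc' : ∀ k, cc d k = cc d' k := by
    intro k
    rcases le_or_gt k n with hk | hk
    · have := hcc (n - k) (by omega)
      rwa [show n - (n - k) = k by omega] at this
    · rw [h.cc_top k hk.le, h'.cc_top k hk.le]
  intro k
  induction k with
  | zero => rw [h.zero, h'.zero]
  | succ k ih =>
    rw [← h.cc_add k, ← h'.cc_add k, ih, hcc']

/-- all parts are at most `p` when the sequence reaches `n` at `p` -/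
theorem le_of_mem_jparts (h : IsKdSeq d n) {p : ℕ} (hp : d p = n) {a : ℕ}
    (ha : a ∈ jparts d n) : a ≤ p := by
  obtain ⟨ha1, ha2⟩ := mem_jparts ha
  by_contra hlt
  have hlt' : p < a := not_le.mp hlt
  have hdk : ∀ k, p ≤ k → d k = n := by
    intro k hk
    obtain ⟨j, rfl⟩ := Nat.exists_eq_add_of_le hk
    have hm : ∀ j, d p ≤ d (p + j) := by
      intro j
      induction j with
      | zero => exact le_rfl
      | succ j ih => exact ih.trans (h.mono _)
    exact le_antisymm (h.le _) (hp ▸ hm j)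
  have hcc0 : ∀ k, p ≤ k → cc d k = 0 := by
    intro k hk
    unfold cc
    rw [hdk k hk, hdk (k + 1) (by omega), Nat.sub_self]
  unfold cnt at ha2
  rw [hcc0 (a - 1) (by omega), hcc0 a (by omega)] at ha2
  exact absurd ha2 (lt_irrefl 0)

/-- if the Jordan type consists of ones then the sequence reaches `n` at `1` -/
theorem d_one_of_jparts_eq_replicate (h : IsKdSeq d n) (heq : jparts d n = Multiset.replicate n 1) :
    d 1 = n := by
  rcases Nat.eq_zero_or_pos n with h0 | hpos
  · subst h0
    exact h.top 1 (by omega)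
  · have h1 : (jparts d n).count 1 = n := by rw [heq, Multiset.count_replicate_self]
    rw [count_jparts 1 (Finset.mem_Icc.mpr ⟨le_rfl, hpos⟩)] at h1
    unfold cnt at h1
    rw [Nat.sub_self] at h1
    have h2 : cc d 0 ≤ d 1 := by
      unfold cc
      rw [zero_add]
      exact Nat.sub_le _ _
    have h3 := h.le 1
    have h4 : cc d 0 - cc d 1 ≤ cc d 0 := Nat.sub_le _ _
    omega

end Cfsg.Agent.H2.NilpSeq
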