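import Mathlib
import Cfsg.Agent.H2.NilpKer
import Cfsg.Agent.H2.NilpModel
import Cfsg.Agent.H2.NilpSeq

/-!
# Jordan types of unipotent elements of `GL_n` and the count of unipotent classes (helper2)
-/

set_option linter.unusedSectionVars false

namespace Cfsg.Agent.H2.NilpType

open Module Cfsg.Agent.H2.NilpKer Cfsg.Agent.H2.NilpModel Cfsg.Agent.H2.NilpSeq

section Comb

variable {ι : Type*} [Fintype ι]

theorem jparts_eq_map {d : ℕ → ℕ} {n : ℕ} (e : ι → ℕ)
    (hd : ∀ k, d (k + 1) = d k + Nat.card {i : ι // k < e i}) (hpos : ∀ i, 0 < e i)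
    (hsum : ∑ i, e i = n) : jparts d n = (Finset.univ : Finset ι).val.map e := by
  classical
  have hle : ∀ i, e i ≤ n := by
    intro i
    rw [← hsum]
    exact Finset.single_le_sum (fun _ _ => Nat.zero_le _) (Finset.mem_univ i)
  have hcc : ∀ k, cc d k = (Finset.univ.filter (fun i : ι => k < e i)).card := by
    intro k
    unfold cc
    rw [hd k, Nat.add_sub_cancel_left, Nat.card_eq_fintype_card, Fintype.card_subtype]
  apply Multiset.ext.mpr
  intro b
  by_cases hb : b ∈ Finset.Icc 1 n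
  · rw [count_jparts b hb, Multiset.count_map]
    obtain ⟨b', rfl⟩ : ∃ b', b = b' + 1 := ⟨b - 1, by have := (Finset.mem_Icc.mp hb).1; omega⟩
    unfold cnt
    rw [Nat.add_sub_cancel, hcc, hcc]
    have h1 : (Finset.univ.filter (fun i : ι => b' < e i)).card =
        (Finset.univ.filter (fun i : ι => b' + 1 < e i)).card +
          (Finset.univ.filter (fun i : ι => b' + 1 = e i)).card := by
      rw [← Finset.card_union_of_disjoint]
      · congr 1
        ext i
        simp only [Finset.mem_filter, Finset.mem_univ, true_and, Finset.mem_union]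
        omega
      · rw [Finset.disjoint_filter]
        intro i _ h1 h2
        omega
    rw [h1, Nat.add_sub_cancel_left]
    rfl
  · have h1 : b ∉ jparts d n := fun hm => hb (mem_jparts hm).1
    have h2 : b ∉ (Finset.univ : Finset ι).val.map e := by
      intro hm
      rw [Multiset.mem_map] at hm
      obtain ⟨i, _, rfl⟩ := hm
      exact hb (Finset.mem_Icc.mpr ⟨hpos i, hle i⟩)
    rw [Multiset.count_eq_zero_of_notMem h1, Multiset.count_eq_zero_of_notMem h2]

end Comb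

section Mat

variable {F : Type*} [Field F] {n : ℕ}

/-- kernel dimension sequence of a matrix -/
noncomputable def kdm (A : Matrix (Fin n) (Fin n) F) (k : ℕ) : ℕ := kd (Matrix.toLin' A) k

theorem isNilpotent_toLin' {A : Matrix (Fin n) (Fin n) F} (hA : IsNilpotent A) :
    IsNilpotent (Matrix.toLin' A) := by
  obtain ⟨k, hk⟩ := hA
  exact ⟨k, by rw [← Matrix.toLin'_pow, hk, map_zero]⟩

theorem toLin'_pow_card_eq_zero {A : Matrix (Fin n) (Fin n) F} (hA : IsNilpotent A) :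
    (Matrix.toLin' A) ^ n = 0 := by
  have h1 := IsNilpotent.charpoly_eq_X_pow_finrank (isNilpotent_toLin' hA)
  have h2 := LinearMap.aeval_self_charpoly (Matrix.toLin' A)
  rw [h1, map_pow, Polynomial.aeval_X, Module.finrank_fintype_fun_eq_card, Fintype.card_fin] at h2
  exact h2

theorem kdm_of_pow_eq_zero (A : Matrix (Fin n) (Fin n) F) (k : ℕ) (h : A ^ k = 0) :
    kdm A k = n := by
  unfold kdm
  rw [kd_of_pow_eq_zero _ k (by rw [← Matrix.toLin'_pow, h, map_zero]),
    Module.finrank_fintype_fun_eq_card, Fintype.card_fin]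

theorem pow_eq_zero_of_kdm (A : Matrix (Fin n) (Fin n) F) (k : ℕ) (h : kdm A k = n) :
    A ^ k = 0 := by
  unfold kdm kd at h
  have h1 : LinearMap.ker ((Matrix.toLin' A) ^ k) = ⊤ := by
    apply Submodule.eq_top_of_finrank_eq
    rw [h, Module.finrank_fintype_fun_eq_card, Fintype.card_fin]
  rw [LinearMap.ker_eq_top, ← Matrix.toLin'_pow] at h1
  exact Matrix.toLin'.injective (by rw [h1, map_zero])

theorem isKdSeq_kdm (A : Matrix (Fin n) (Fin n) F) (hA : IsNilpotent A) : IsKdSeq (kdm A) n where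
  zero := kd_zero _
  mono := kd_mono _
  concave := kd_concave _ (isNilpotent_toLin' hA)
  top := by
    intro k hk
    apply kdm_of_pow_eq_zero
    have h1 : A ^ n = 0 := by
      apply Matrix.toLin'.injective
      rw [Matrix.toLin'_pow, toLin'_pow_card_eq_zero hA, map_zero]
    obtain ⟨j, rfl⟩ := Nat.exists_eq_add_of_le hk
    rw [pow_add, h1, zero_mul]

/-- the linear equivalence of an invertible matrix -/
noncomputable def glEquiv (P : GL (Fin n) F) : (Fin n → F) ≃ₗ[F] (Fin n → F) :=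
  LinearEquiv.ofLinearMap (Matrix.toLin' (P : Matrix (Fin n) (Fin n) F))
    (Matrix.toLin' ((P⁻¹ : GL (Fin n) F) : Matrix (Fin n) (Fin n) F))
    (by rw [← Matrix.toLin'_mul, ← Units.val_mul, mul_inv_cancel, Units.val_one, Matrix.toLin'_one])
    (by rw [← Matrix.toLin'_mul, ← Units.val_mul, inv_mul_cancel, Units.val_one, Matrix.toLin'_one])

theorem kdm_conj (P : GL (Fin n) F) (A B : Matrix (Fin n) (Fin n) F)
    (h : (P : Matrix (Fin n) (Fin n) F) * A = B * (P : Matrix (Fin n) (Fin n) F)) (k : ℕ) :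
    kdm A k = kdm B k := by
  unfold kdm
  apply kd_eq_of_equiv _ _ (glEquiv P)
  intro v
  show Matrix.toLin' (P : Matrix (Fin n) (Fin n) F) (Matrix.toLin' A v) =
    Matrix.toLin' B (Matrix.toLin' (P : Matrix (Fin n) (Fin n) F) v)
  rw [← LinearMap.comp_apply, ← LinearMap.comp_apply, ← Matrix.toLin'_mul, ← Matrix.toLin'_mul, h]

theorem exists_gl_of_kdm_eq (A B : Matrix (Fin n) (Fin n) F) (hA : IsNilpotent A)
    (hB : IsNilpotent B) (h : ∀ k, kdm A k = kdm B k) :
    ∃ P : GL (Fin n) F, (P : Matrix (Fin n) (Fin n) F) * A = B * (P : Matrix (Fin n) (Fin n) F) := by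
  obtain ⟨φ, hφ⟩ := exists_equiv (Matrix.toLin' A) (Matrix.toLin' B) (isNilpotent_toLin' hA)
    (isNilpotent_toLin' hB) h
  have h1 : LinearMap.toMatrix' (φ : (Fin n → F) →ₗ[F] (Fin n → F)) *
      LinearMap.toMatrix' (φ.symm : (Fin n → F) →ₗ[F] (Fin n → F)) = 1 := by
    rw [← LinearMap.toMatrix'_comp, LinearEquiv.comp_symm, LinearMap.toMatrix'_id]
  have h2 : LinearMap.toMatrix' (φ.symm : (Fin n → F) →ₗ[F] (Fin n → F)) *
      LinearMap.toMatrix' (φ : (Fin n → F) →ₗ[F] (Fin n → F)) = 1 := by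
    rw [← LinearMap.toMatrix'_comp, LinearEquiv.symm_comp, LinearMap.toMatrix'_id]
  refine ⟨⟨LinearMap.toMatrix' (φ : (Fin n → F) →ₗ[F] (Fin n → F)),
    LinearMap.toMatrix' (φ.symm : (Fin n → F) →ₗ[F] (Fin n → F)), h1, h2⟩, ?_⟩
  change LinearMap.toMatrix' (φ : (Fin n → F) →ₗ[F] (Fin n → F)) * A = B * LinearMap.toMatrix' _
  apply Matrix.toLin'.injective
  rw [Matrix.toLin'_mul, Matrix.toLin'_mul, Matrix.toLin'_toMatrix']
  apply LinearMap.ext
  intro v
  rw [LinearMap.comp_apply, LinearMap.comp_apply]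
  exact hφ v

theorem exists_matrix {ι : Type} [Fintype ι] (e : ι → ℕ) (hsum : ∑ i, e i = n) :
    ∃ A : Matrix (Fin n) (Fin n) F, IsNilpotent A ∧
      (∀ k, kdm A (k + 1) = kdm A k + Nat.card {i : ι // k < e i}) ∧
      ∀ p, (∀ i, e i ≤ p) → A ^ p = 0 := by
  classical
  have hcard : Fintype.card (Σ i : ι, Fin (e i)) = Fintype.card (Fin n) := by
    rw [Fintype.card_sigma, Fintype.card_fin]
    simp only [Fintype.card_fin]
    exact hsum
  let σ : (Σ i : ι, Fin (e i)) ≃ Fin n := Fintype.equivOfCardEq hcard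
  let ψ : ((Σ i : ι, Fin (e i)) → F) ≃ₗ[F] (Fin n → F) := LinearEquiv.funCongrLeft F F σ.symm
  let N : End F (Fin n → F) := ψ.conj (shift e)
  have hkd : ∀ k, kdm (LinearMap.toMatrix' N) k = kd (shift (F := F) e) k := by
    intro k
    unfold kdm
    rw [Matrix.toLin'_toMatrix']
    symm
    apply kd_eq_of_equiv _ _ ψ
    intro v
    show ψ (shift e v) = ψ.conj (shift e) (ψ v)
    rw [LinearEquiv.conj_apply_apply, LinearEquiv.symm_apply_apply]
  have hfr : finrank F ((Σ i : ι, Fin (e i)) → F) = n := by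
    rw [Module.finrank_fintype_fun_eq_card, hcard, Fintype.card_fin]
  have hpow : ∀ p, (∀ i, e i ≤ p) → (LinearMap.toMatrix' N) ^ p = 0 := by
    intro p hp
    apply pow_eq_zero_of_kdm
    rw [hkd, kd_of_pow_eq_zero _ p (shift_pow_eq_zero e p hp), hfr]
  refine ⟨LinearMap.toMatrix' N, ?_, ?_, hpow⟩
  · exact ⟨Finset.univ.sup e, hpow _ (fun i => Finset.le_sup (Finset.mem_univ i))⟩
  · intro k
    rw [hkd, hkd, kd_shift_succ]

theorem exists_matrix_of_partition (μ : Nat.Partition n) :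
    ∃ A : Matrix (Fin n) (Fin n) F, IsNilpotent A ∧ jparts (kdm A) n = μ.parts ∧
      ∀ p, (∀ a ∈ μ.parts, a ≤ p) → A ^ p = 0 := by
  classical
  have hl : (Finset.univ : Finset (Fin μ.parts.toList.length)).val.map μ.parts.toList.get =
      μ.parts := by
    rw [Fin.univ_val_map, List.ofFn_get, Multiset.coe_toList]
  have hsum : ∑ i, μ.parts.toList.get i = n := by
    rw [Finset.sum_eq_multiset_sum, hl, μ.parts_sum]
  obtain ⟨A, hA, hkd, hpow⟩ := exists_matrix (F := F) μ.parts.toList.get hsum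
  refine ⟨A, hA, ?_, ?_⟩
  · rw [jparts_eq_map μ.parts.toList.get hkd ?_ hsum, hl]
    intro i
    apply μ.parts_pos
    rw [← Multiset.mem_toList]
    exact List.get_mem _ _
  · intro p hp
    apply hpow
    intro i
    apply hp
    rw [← Multiset.mem_toList]
    exact List.get_mem _ _

end Mat

section GenLin

variable {F : Type*} [Field F] {n : ℕ}

/-- the Jordan type (as a multiset) of `g - 1` -/
noncomputable def jp (g : GL (Fin n) F) : Multiset ℕ :=
  jparts (kdm ((g : Matrix (Fin n) (Fin n) F) - 1)) n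

theorem kdm_eq_of_isConj {g h : GL (Fin n) F} (hc : IsConj g h) (k : ℕ) :
    kdm ((g : Matrix (Fin n) (Fin n) F) - 1) k = kdm ((h : Matrix (Fin n) (Fin n) F) - 1) k := by
  obtain ⟨c, hc⟩ := isConj_iff.mp hc
  apply kdm_conj c
  have h1 : c * g = h * c := by rw [← hc]; group
  have h2 : (c : Matrix (Fin n) (Fin n) F) * (g : Matrix (Fin n) (Fin n) F) =
      (h : Matrix (Fin n) (Fin n) F) * (c : Matrix (Fin n) (Fin n) F) := by
    rw [← Units.val_mul, ← Units.val_mul, h1]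
  rw [mul_sub, sub_mul, h2, mul_one, one_mul]

theorem jp_eq_of_isConj {g h : GL (Fin n) F} (hc : IsConj g h) : jp g = jp h := by
  unfold jp
  congr 1
  funext k
  exact kdm_eq_of_isConj hc k

theorem kdm_eq_of_jp_eq {g h : GL (Fin n) F}
    (hg : IsNilpotent ((g : Matrix (Fin n) (Fin n) F) - 1))
    (hh : IsNilpotent ((h : Matrix (Fin n) (Fin n) F) - 1)) (heq : jp g = jp h) (k : ℕ) :
    kdm ((g : Matrix (Fin n) (Fin n) F) - 1) k = kdm ((h : Matrix (Fin n) (Fin n) F) - 1) k :=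
  eq_of_jparts_eq (isKdSeq_kdm _ hg) (isKdSeq_kdm _ hh) heq k

theorem isConj_of_jp_eq {g h : GL (Fin n) F}
    (hg : IsNilpotent ((g : Matrix (Fin n) (Fin n) F) - 1))
    (hh : IsNilpotent ((h : Matrix (Fin n) (Fin n) F) - 1)) (heq : jp g = jp h) : IsConj g h := by
  obtain ⟨P, hP⟩ := exists_gl_of_kdm_eq _ _ hg hh (kdm_eq_of_jp_eq hg hh heq)
  rw [isConj_iff]
  refine ⟨P, ?_⟩
  rw [mul_sub, sub_mul, mul_one, one_mul, sub_left_inj] at hP
  have h1 : P * g = h * P := by
    apply Units.ext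
    rw [Units.val_mul, Units.val_mul, hP]
  rw [h1]
  group

theorem exists_gl_of_partition (μ : Nat.Partition n) :
    ∃ g : GL (Fin n) F, IsNilpotent ((g : Matrix (Fin n) (Fin n) F) - 1) ∧ jp g = μ.parts ∧
      ∀ p, (∀ a ∈ μ.parts, a ≤ p) → ((g : Matrix (Fin n) (Fin n) F) - 1) ^ p = 0 := by
  obtain ⟨A, hA, hj, hpow⟩ := exists_matrix_of_partition (F := F) μ
  have h1 : ((hA.isUnit_add_one.unit : GL (Fin n) F) : Matrix (Fin n) (Fin n) F) - 1 = A := by
    rw [IsUnit.unit_spec, add_sub_cancel_right]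
  refine ⟨hA.isUnit_add_one.unit, ?_, ?_, ?_⟩
  · rw [h1]; exact hA
  · unfold jp
    rw [h1]; exact hj
  · rw [h1]; exact hpow

theorem jp_pos {g : GL (Fin n) F} {a : ℕ} (ha : a ∈ jp g) : 0 < a :=
  (Finset.mem_Icc.mp (mem_jparts ha).1).1

theorem jp_sum {g : GL (Fin n) F} (hg : IsNilpotent ((g : Matrix (Fin n) (Fin n) F) - 1)) :
    (jp g).sum = n :=
  jparts_sum (isKdSeq_kdm _ hg)

theorem jp_le {g : GL (Fin n) F} (hg : IsNilpotent ((g : Matrix (Fin n) (Fin n) F) - 1)) (p : ℕ)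
    (h : ((g : Matrix (Fin n) (Fin n) F) - 1) ^ p = 0) : ∀ a ∈ jp g, a ≤ p := by
  intro a ha
  exact le_of_mem_jparts (isKdSeq_kdm _ hg) (kdm_of_pow_eq_zero _ p h) ha

theorem pow_eq_zero_of_jp_le {g : GL (Fin n) F}
    (hg : IsNilpotent ((g : Matrix (Fin n) (Fin n) F) - 1)) (p : ℕ)
    (h : ∀ a ∈ jp g, a ≤ p) : ((g : Matrix (Fin n) (Fin n) F) - 1) ^ p = 0 := by
  obtain ⟨g₀, hg₀, hj, hpow⟩ := exists_gl_of_partition (F := F)
    (⟨jp g, fun {i} hi => jp_pos hi, jp_sum hg⟩ : Nat.Partition n)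
  apply pow_eq_zero_of_kdm
  rw [kdm_eq_of_jp_eq hg hg₀ hj.symm]
  exact kdm_of_pow_eq_zero _ p (hpow p h)

/-- counting unipotent classes with a property read off from the Jordan type -/
theorem card_classes (P : GL (Fin n) F → Prop) (Q : Multiset ℕ → Prop)
    (hP : ∀ g : GL (Fin n) F, P g → IsNilpotent ((g : Matrix (Fin n) (Fin n) F) - 1))
    (hPQ : ∀ g : GL (Fin n) F, IsNilpotent ((g : Matrix (Fin n) (Fin n) F) - 1) →
      (P g ↔ Q (jp g))) :
    Nat.card {C : ConjClasses (GL (Fin n) F) // ∃ g, P g ∧ ConjClasses.mk g = C} =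
      Nat.card {μ : Nat.Partition n // Q μ.parts} := by
  have hex : ∀ C : {C : ConjClasses (GL (Fin n) F) // ∃ g, P g ∧ ConjClasses.mk g = C},
      ∃ μ : {μ : Nat.Partition n // Q μ.parts}, ∀ g : GL (Fin n) F, ConjClasses.mk g = C.1 →
        jp g = μ.1.parts := by
    rintro ⟨C, g, hg, rfl⟩
    have hn := hP g hg
    refine ⟨⟨⟨jp g, fun {i} hi => jp_pos hi, jp_sum hn⟩, (hPQ g hn).mp hg⟩, ?_⟩
    intro g' hg'
    exact jp_eq_of_isConj (ConjClasses.mk_eq_mk_iff_isConj.mp hg')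
  choose f hf using hex
  apply Nat.card_eq_of_bijective f
  constructor
  · rintro ⟨C, g, hg, rfl⟩ ⟨C', g', hg', rfl⟩ hCC'
    have h1 : jp g = jp g' := by
      rw [hf ⟨_, g, hg, rfl⟩ g rfl, hf ⟨_, g', hg', rfl⟩ g' rfl, hCC']
    apply Subtype.ext
    exact ConjClasses.mk_eq_mk_iff_isConj.mpr (isConj_of_jp_eq (hP g hg) (hP g' hg') h1)
  · rintro ⟨μ, hμ⟩
    obtain ⟨g₀, hg₀, hj, -⟩ := exists_gl_of_partition (F := F) μ
    have hPg₀ : P g₀ := (hPQ g₀ hg₀).mpr (hj ▸ hμ)
    refine ⟨⟨ConjClasses.mk g₀, g₀, hPg₀, rfl⟩, ?_⟩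
    apply Subtype.ext
    apply Nat.Partition.ext
    rw [← hf ⟨_, g₀, hPg₀, rfl⟩ g₀ rfl, hj]

end GenLin

section CharPGL

variable {F : Type*} [Field F] {n : ℕ} (p : ℕ) [Fact p.Prime] [CharP F p]

theorem sub_one_pow_char_pow (g : GL (Fin n) F) (k : ℕ) :
    ((g : Matrix (Fin n) (Fin n) F) - 1) ^ p ^ k =
      ((g ^ p ^ k : GL (Fin n) F) : Matrix (Fin n) (Fin n) F) - 1 := by
  rcases Nat.eq_zero_or_pos n with h0 | hpos
  · subst h0
    exact Subsingleton.elim _ _
  · have : Nonempty (Fin n) := ⟨⟨0, hpos⟩⟩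
    rw [sub_pow_char_pow_of_commute p k (Commute.one_right _), one_pow, Units.val_pow_eq_pow_val]

theorem pow_char_pow_eq_one_iff (g : GL (Fin n) F) (k : ℕ) :
    g ^ p ^ k = 1 ↔ ((g : Matrix (Fin n) (Fin n) F) - 1) ^ p ^ k = 0 := by
  rw [sub_one_pow_char_pow, sub_eq_zero]
  constructor
  · intro h
    rw [h, Units.val_one]
  · intro h
    exact Units.ext h

theorem isNilpotent_sub_one_iff (g : GL (Fin n) F) :
    IsNilpotent ((g : Matrix (Fin n) (Fin n) F) - 1) ↔ ∃ k : ℕ, orderOf g = p ^ k := by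
  have hp : p.Prime := Fact.out
  constructor
  · rintro ⟨m, hm⟩
    have h1 : ((g : Matrix (Fin n) (Fin n) F) - 1) ^ p ^ m = 0 := by
      obtain ⟨j, hj⟩ := Nat.exists_eq_add_of_le (Nat.lt_pow_self hp.one_lt (n := m)).le
      rw [hj, pow_add, hm, zero_mul]
    have h2 := (pow_char_pow_eq_one_iff p g m).mpr h1
    exact (Nat.dvd_prime_pow hp).mp (orderOf_dvd_of_pow_eq_one h2) |>.imp fun k hk => hk.2
  · rintro ⟨k, hk⟩
    exact ⟨p ^ k, (pow_char_pow_eq_one_iff p g k).mp (by rw [← hk, pow_orderOf_eq_one])⟩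

theorem pow_char_eq_one_iff (g : GL (Fin n) F) :
    g ^ p = 1 ↔ ((g : Matrix (Fin n) (Fin n) F) - 1) ^ p = 0 := by
  have := pow_char_pow_eq_one_iff p g 1
  rwa [pow_one] at this

end CharPGL

end Cfsg.Agent.H2.NilpType
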