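import Mathlib

/-!
# Counting nilpotent endomorphisms of a finite vector space (Fine–Herstein)

For a finite field `F` with `q` elements and an `n`-dimensional space `V`, the number of
nilpotent endomorphisms with a prescribed "shift" on `k+1` linearly independent vectors is
`q ^ (n * (n - (k+1)))`; in particular there are `q ^ (n * (n - 1))` nilpotent endomorphisms.
-/

set_option linter.style.haveILetI false
set_option linter.unusedSectionVars false

namespace Cfsg.Agent.H2.NilpotentCount

open Module

universe u

variable {F : Type*} [Field F]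

section General
variable {V : Type*} [AddCommGroup V] [Module F V] [Module.Finite F V]

theorem pow_finrank_eq_zero {φ : Module.End F V} (h : IsNilpotent φ) :
    φ ^ finrank F V = 0 := by
  have h1 := h.charpoly_eq_X_pow_finrank
  have h2 := φ.aeval_self_charpoly
  rw [h1] at h2
  simpa using h2

end General

section Block
variable {V : Type*} [AddCommGroup V] [Module F V]
variable {U C : Submodule F V} (hUC : IsCompl U C) (s : Module.End F U)

/-- the `C → C` block of `T` -/
noncomputable def compD (T : Module.End F V) : Module.End F C :=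
  (C.projectionOnto U hUC.symm) ∘ₗ T ∘ₗ C.subtype

/-- the `C → U` block of `T` -/
noncomputable def compB (T : Module.End F V) : C →ₗ[F] U :=
  (U.projectionOnto C hUC) ∘ₗ T ∘ₗ C.subtype

/-- build a block triangular endomorphism -/
noncomputable def build (B : C →ₗ[F] U) (D : Module.End F C) : Module.End F V :=
  LinearMap.ofIsCompl hUC (U.subtype ∘ₗ s) (U.subtype ∘ₗ B + C.subtype ∘ₗ D)

theorem build_left (B : C →ₗ[F] U) (D : Module.End F C) (x : U) :
    build hUC s B D (x : V) = (s x : V) := by
  simp [build]

theorem build_right (B : C →ₗ[F] U) (D : Module.End F C) (c : C) :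
    build hUC s B D (c : V) = (B c : V) + (D c : V) := by
  simp [build]

theorem compD_build (B : C →ₗ[F] U) (D : Module.End F C) :
    compD hUC (build hUC s B D) = D := by
  ext c
  simp only [compD, LinearMap.coe_comp, Function.comp_apply, Submodule.coe_subtype]
  rw [build_right, map_add]
  simp

theorem compB_build (B : C →ₗ[F] U) (D : Module.End F C) :
    compB hUC (build hUC s B D) = B := by
  ext c
  simp only [compB, LinearMap.coe_comp, Function.comp_apply, Submodule.coe_subtype]
  rw [build_right, map_add]
  simp

theorem build_comp {T : Module.End F V} (hT : ∀ x : U, T (x : V) = (s x : V)) :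
    build hUC s (compB hUC T) (compD hUC T) = T := by
  unfold build
  apply LinearMap.ofIsCompl_eq
  · intro x
    simp [hT x]
  · intro c
    simp only [compB, compD, LinearMap.add_apply, LinearMap.coe_comp, Function.comp_apply,
      Submodule.coe_subtype, Submodule.coe_projectionOnto_apply]
    exact Submodule.projection_add_projection_eq_self hUC (T c)

theorem projC_apply {T : Module.End F V} (hT : ∀ x : U, T (x : V) = (s x : V)) (x : V) :
    C.projectionOnto U hUC.symm (T x) = compD hUC T (C.projectionOnto U hUC.symm x) := by
  have hx := Submodule.projection_add_projection_eq_self hUC x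
  conv_lhs => rw [← hx]
  rw [map_add, map_add]
  have h1 : C.projectionOnto U hUC.symm (T (U.projection C hUC x)) = 0 := by
    rw [Submodule.projectionOnto_apply_eq_zero_iff]
    have := hT (U.projectionOnto C hUC x)
    rw [Submodule.coe_projectionOnto_apply] at this
    rw [this]
    exact (s _).2
  rw [h1, zero_add]
  rfl

theorem projC_pow_apply {T : Module.End F V} (hT : ∀ x : U, T (x : V) = (s x : V)) (j : ℕ)
    (x : V) :
    C.projectionOnto U hUC.symm ((T ^ j) x) =
      (compD hUC T ^ j) (C.projectionOnto U hUC.symm x) := by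
  induction j generalizing x with
  | zero => simp
  | succ j ih =>
    rw [pow_succ', pow_succ', Module.End.mul_apply, Module.End.mul_apply, projC_apply hUC s hT, ih]

theorem pow_apply_left {T : Module.End F V} (hT : ∀ x : U, T (x : V) = (s x : V)) (j : ℕ)
    (x : U) : (T ^ j) (x : V) = ((s ^ j) x : V) := by
  induction j generalizing x with
  | zero => simp
  | succ j ih =>
    rw [pow_succ, pow_succ, Module.End.mul_apply, Module.End.mul_apply, hT, ih]

theorem isNilpotent_compD {T : Module.End F V} (hT : ∀ x : U, T (x : V) = (s x : V))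
    (hn : IsNilpotent T) : IsNilpotent (compD hUC T) := by
  obtain ⟨N, hN⟩ := hn
  refine ⟨N, ?_⟩
  ext c
  have := projC_pow_apply hUC s hT N (c : V)
  rw [hN] at this
  simp only [LinearMap.zero_apply, map_zero, Submodule.projectionOnto_apply_left] at this
  simp [← this]

theorem isNilpotent_of_compD {T : Module.End F V} (hT : ∀ x : U, T (x : V) = (s x : V))
    (hs : IsNilpotent s) (hD : IsNilpotent (compD hUC T)) : IsNilpotent T := by
  obtain ⟨a, ha⟩ := hD
  obtain ⟨b, hb⟩ := hs
  refine ⟨b + a, ?_⟩
  ext x
  rw [pow_add, Module.End.mul_apply]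
  have h1 : (T ^ a) x ∈ U := by
    rw [← Submodule.projectionOnto_apply_eq_zero_iff hUC.symm, projC_pow_apply hUC s hT, ha]
    simp
  have := pow_apply_left s hT b ⟨_, h1⟩
  simp only at this
  rw [this, hb]
  simp

/-- The block triangular equivalence. -/
noncomputable def blockEquiv (hs : IsNilpotent s) :
    {T : Module.End F V // IsNilpotent T ∧ ∀ x : U, T (x : V) = (s x : V)} ≃
      (C →ₗ[F] U) × {D : Module.End F C // IsNilpotent D} where
  toFun T := (compB hUC T.1, ⟨compD hUC T.1, isNilpotent_compD hUC s T.2.2 T.2.1⟩)
  invFun p := ⟨build hUC s p.1 p.2.1, by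
    have h1 : ∀ x : U, build hUC s p.1 p.2.1 (x : V) = (s x : V) := build_left hUC s _ _
    refine ⟨isNilpotent_of_compD hUC s h1 hs ?_, h1⟩
    rw [compD_build]
    exact p.2.2⟩
  left_inv T := by
    apply Subtype.ext
    exact build_comp hUC s T.2.2
  right_inv p := by
    apply Prod.ext
    · exact compB_build hUC s _ _
    · apply Subtype.ext
      exact compD_build hUC s _ _

end Block


section Shift
variable {V : Type*} [AddCommGroup V] [Module F V]
variable {k : ℕ} {u : Fin (k + 1) → V} (hu : LinearIndependent F u)

/-- the shift operator on the span of `u` -/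
noncomputable def shift : Module.End F (Submodule.span F (Set.range u)) :=
  (Basis.span hu).constr F (Fin.lastCases 0 (fun i => Basis.span hu i.succ))

theorem shift_castSucc (i : Fin k) :
    shift hu (Basis.span hu i.castSucc) = Basis.span hu i.succ := by
  unfold shift
  rw [Basis.constr_basis, Fin.lastCases_castSucc]

theorem shift_last : shift hu (Basis.span hu (Fin.last k)) = 0 := by
  unfold shift
  rw [Basis.constr_basis, Fin.lastCases_last]

theorem shift_pow_zero (j : ℕ) :
    ∀ i : Fin (k + 1), k + 1 ≤ (i : ℕ) + j → (shift hu ^ j) (Basis.span hu i) = 0 := by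
  induction j with
  | zero =>
    intro i hi
    have := i.2
    omega
  | succ j ih =>
    intro i hi
    rw [pow_succ, Module.End.mul_apply]
    induction i using Fin.lastCases with
    | last => rw [shift_last, map_zero]
    | cast i =>
      rw [shift_castSucc]
      apply ih
      simp only [Fin.val_succ, Fin.val_castSucc] at hi ⊢
      omega

theorem shift_nilpotent : IsNilpotent (shift hu) := by
  refine ⟨k + 1, ?_⟩
  apply (Basis.span hu).ext
  intro i
  rw [shift_pow_zero hu (k + 1) i (by omega)]
  simp

/-- the shift condition -/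
def Cond (T : Module.End F V) (u : Fin (k + 1) → V) : Prop :=
  ∀ i : Fin k, T (u i.castSucc) = u i.succ

theorem cond_iff_shift (T : Module.End F V) :
    (Cond T u ∧ T (u (Fin.last k)) = 0) ↔
      ∀ x : Submodule.span F (Set.range u), T (x : V) = (shift hu x : V) := by
  constructor
  · rintro ⟨h1, h2⟩
    have : T ∘ₗ (Submodule.span F (Set.range u)).subtype =
        (Submodule.span F (Set.range u)).subtype ∘ₗ shift hu := by
      apply (Basis.span hu).ext
      intro i
      induction i using Fin.lastCases with
      | last =>
        rw [LinearMap.comp_apply, LinearMap.comp_apply, shift_last]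
        simpa using h2
      | cast i =>
        rw [LinearMap.comp_apply, LinearMap.comp_apply, shift_castSucc]
        simpa using h1 i
    intro x
    exact LinearMap.congr_fun this x
  · intro h
    constructor
    · intro i
      have := h (Basis.span hu i.castSucc)
      rw [shift_castSucc] at this
      simpa using this
    · have := h (Basis.span hu (Fin.last k))
      rw [shift_last] at this
      simpa using this

theorem pow_apply_zero {T : Module.End F V} (hT : Cond T u) (j : ℕ) (hj : j < k + 1) :
    (T ^ j) (u 0) = u ⟨j, hj⟩ := by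
  induction j with
  | zero => simp
  | succ j ih =>
    rw [pow_succ', Module.End.mul_apply, ih (by omega)]
    exact hT ⟨j, by omega⟩

include hu in
theorem eq_zero_of_mem_span [Module.Finite F V] {T : Module.End F V} (hn : IsNilpotent T)
    (hT : Cond T u) (hw : T (u (Fin.last k)) ∈ Submodule.span F (Set.range u)) :
    T (u (Fin.last k)) = 0 := by
  have hinv : ∀ x ∈ Submodule.span F (Set.range u), T x ∈ Submodule.span F (Set.range u) := by
    intro x hx
    induction hx using Submodule.span_induction with
    | mem x hx =>
      obtain ⟨i, rfl⟩ := hx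
      induction i using Fin.lastCases with
      | last => exact hw
      | cast i =>
        rw [hT i]
        exact Submodule.subset_span ⟨_, rfl⟩
    | zero => simp
    | add x y _ _ hx hy =>
      rw [map_add]
      exact Submodule.add_mem _ hx hy
    | smul a x _ hx =>
      rw [map_smul]
      exact Submodule.smul_mem _ a hx
  have hnil : IsNilpotent (T.restrict hinv) := by
    obtain ⟨N, hN⟩ := hn
    refine ⟨N, ?_⟩
    rw [Module.End.pow_restrict]
    ext x
    simp [hN]
  have h0 := pow_finrank_eq_zero hnil
  rw [finrank_span_eq_card hu, Fintype.card_fin] at h0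
  have h1 : (T ^ (k + 1)) (u 0) = 0 := by
    have := LinearMap.congr_fun h0 ⟨u 0, Submodule.subset_span ⟨0, rfl⟩⟩
    rw [Module.End.pow_restrict] at this
    simpa using congrArg Subtype.val this
  rw [pow_succ', Module.End.mul_apply, pow_apply_zero hT k (by omega)] at h1
  exact h1

end Shift

section Counting

theorem card_eq_sum_fiber {α β : Type*} [Finite α] [Fintype β] (f : α → β) :
    Nat.card α = ∑ b, Nat.card {a // f a = b} := by
  rw [← Nat.card_sigma]
  exact Nat.card_congr (Equiv.sigmaFiberEquiv f).symm

theorem sum_split {V : Type*} [AddCommGroup V] [Module F V] [Fintype V] (U : Submodule F V)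
    (g : V → ℕ) (X : ℕ) (h1 : ∀ w, w ∉ U → g w = X) (h2 : ∀ w ∈ U, w ≠ 0 → g w = 0) :
    ∑ w, g w = (Nat.card V - Nat.card U) * X + g 0 := by
  classical
  rw [← Finset.sum_filter_add_sum_filter_not Finset.univ (fun w => w ∈ U) g]
  have e1 : ∑ w ∈ Finset.univ.filter (fun w => w ∈ U), g w = g 0 := by
    apply Finset.sum_eq_single_of_mem
    · simp
    · intro w hw hw0
      exact h2 w (by simpa using hw) hw0
  have e2 : ∑ w ∈ Finset.univ.filter (fun w => ¬ w ∈ U), g w =
      (Finset.univ.filter (fun w => ¬ w ∈ U)).card * X := by
    apply Finset.sum_const_nat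
    intro w hw
    exact h1 w (by simpa using hw)
  have e3 : (Finset.univ.filter (fun w => ¬ w ∈ U)).card = Nat.card V - Nat.card U := by
    rw [Nat.card_eq_fintype_card, Nat.card_eq_fintype_card, ← Fintype.card_subtype_compl,
      Fintype.card_subtype]
  rw [e1, e2, e3, add_comm]

end Counting

section Fibers
variable {V : Type*} [AddCommGroup V] [Module F V]
variable {k : ℕ} {u : Fin (k + 1) → V}

theorem cond_snoc (T : Module.End F V) (w : V) :
    Cond T (Fin.snoc u w : Fin (k + 1 + 1) → V) ↔ Cond T u ∧ T (u (Fin.last k)) = w := by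
  unfold Cond
  rw [Fin.forall_fin_succ']
  constructor
  · rintro ⟨h1, h2⟩
    refine ⟨fun i => ?_, ?_⟩
    · have := h1 i
      rw [Fin.succ_castSucc, Fin.snoc_castSucc, Fin.snoc_castSucc] at this
      exact this
    · have := h2
      rw [Fin.succ_last, Fin.snoc_castSucc, Fin.snoc_last] at this
      exact this
  · rintro ⟨h1, h2⟩
    refine ⟨fun i => ?_, ?_⟩
    · rw [Fin.succ_castSucc, Fin.snoc_castSucc, Fin.snoc_castSucc]
      exact h1 i
    · rw [Fin.succ_last, Fin.snoc_castSucc, Fin.snoc_last]
      exact h2

theorem card_fiber_snoc (w : V) :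
    Nat.card {T : Module.End F V // (IsNilpotent T ∧ Cond T u) ∧ T (u (Fin.last k)) = w} =
      Nat.card {T : Module.End F V // IsNilpotent T ∧ Cond T (Fin.snoc u w : Fin (k + 1 + 1) → V)} := by
  apply Nat.card_congr
  apply Equiv.subtypeEquivRight
  intro T
  rw [cond_snoc]
  tauto

theorem card_fiber_zero (hu : LinearIndependent F u) {C : Submodule F V}
    (hUC : IsCompl (Submodule.span F (Set.range u)) C) :
    Nat.card {T : Module.End F V // (IsNilpotent T ∧ Cond T u) ∧ T (u (Fin.last k)) = 0} =
      Nat.card (C →ₗ[F] Submodule.span F (Set.range u)) *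
        Nat.card {D : Module.End F C // IsNilpotent D} := by
  rw [← Nat.card_prod]
  apply Nat.card_congr
  refine Equiv.trans ?_ (blockEquiv hUC (shift hu) (shift_nilpotent hu))
  apply Equiv.subtypeEquivRight
  intro T
  rw [← cond_iff_shift hu]
  tauto

end Fibers

section Main
variable [Finite F]

theorem card_nilpotent_of_subsingleton {W : Type*} [AddCommGroup W] [Module F W]
    [Subsingleton W] : Nat.card {D : Module.End F W // IsNilpotent D} = 1 := by
  haveI : Subsingleton (Module.End F W) :=
    ⟨fun a b => LinearMap.ext fun x => Subsingleton.elim _ _⟩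
  haveI : Unique {D : Module.End F W // IsNilpotent D} :=
    ⟨⟨⟨0, IsNilpotent.zero⟩⟩, fun a => Subtype.ext (Subsingleton.elim _ _)⟩
  exact Nat.card_unique

theorem arith (q n d k : ℕ) (h : d + 1 + (k + 1) = n) :
    (q ^ n - q ^ (k + 1)) * q ^ (n * d) + q ^ ((d + 1) * (k + 1)) * q ^ ((d + 1) * (d + 1 - 1)) =
      q ^ (n * (d + 1)) := by
  have e1 : (d + 1) * (k + 1) + (d + 1) * (d + 1 - 1) = k + 1 + n * d := by
    subst h
    simp only [Nat.add_sub_cancel]
    ring
  rw [← pow_add, e1, Nat.sub_mul, ← pow_add, ← pow_add]
  have e2 : n + n * d = n * (d + 1) := by ring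
  rw [e2]
  apply Nat.sub_add_cancel
  rcases Nat.eq_zero_or_pos q with hq | hq
  · subst hq
    rw [zero_pow (by omega), zero_pow (by subst h; simp)]
  · apply Nat.pow_le_pow_right hq
    subst h
    nlinarith

theorem key : ∀ (n : ℕ) (V : Type u) [AddCommGroup V] [Module F V] [Module.Finite F V],
    finrank F V = n → ∀ (d k : ℕ) (u : Fin (k + 1) → V), LinearIndependent F u →
      d + (k + 1) = n →
      Nat.card {T : Module.End F V // IsNilpotent T ∧ Cond T u} = Nat.card F ^ (n * d) := by
  intro n
  induction n using Nat.strong_induction_on with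
  | _ n IH =>
  intro V _ _ _ hV
  haveI : Finite V := Module.finite_of_finite F
  haveI : Fintype V := Fintype.ofFinite V
  haveI : Finite (Module.End F V) := Module.finite_of_finite F
  have hcardV : Nat.card V = Nat.card F ^ n := by
    rw [Module.natCard_eq_pow_finrank (K := F), hV]
  -- nilpotent count on a complement of dimension e < n
  have hnilC : ∀ (C : Submodule F V) (e : ℕ), finrank F C = e → e < n →
      Nat.card {D : Module.End F C // IsNilpotent D} = Nat.card F ^ (e * (e - 1)) := by
    intro C e hC he
    rcases Nat.eq_zero_or_pos e with h0 | hpos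
    · subst h0
      haveI : Subsingleton C := (Module.finrank_zero_iff (R := F)).mp hC
      rw [card_nilpotent_of_subsingleton]
      simp
    · haveI : Nontrivial C := Module.nontrivial_of_finrank_pos (R := F) (by omega)
      obtain ⟨c, hc⟩ := exists_ne (0 : C)
      haveI : Unique (Fin (0 + 1)) := (inferInstance : Unique (Fin 1))
      have hli : LinearIndependent F (fun _ : Fin (0 + 1) => c) := by
        rw [linearIndependent_unique_iff]
        exact hc
      have := IH e he C hC (e - 1) 0 (fun _ => c) hli (by omega)
      rw [← this]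
      apply Nat.card_congr
      apply Equiv.subtypeEquivRight
      intro T
      constructor
      · intro h
        exact ⟨h, fun i => i.elim0⟩
      · intro h
        exact h.1
  -- the common decomposition
  have hstep : ∀ (d k : ℕ) (u : Fin (k + 1) → V), LinearIndependent F u → d + (k + 1) = n →
      ∀ X : ℕ, (∀ w, w ∉ Submodule.span F (Set.range u) →
        Nat.card {T : Module.End F V // IsNilpotent T ∧
          Cond T (Fin.snoc u w : Fin (k + 1 + 1) → V)} = X) →
      Nat.card {T : Module.End F V // IsNilpotent T ∧ Cond T u} =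
        (Nat.card F ^ n - Nat.card F ^ (k + 1)) * X +
          Nat.card F ^ (d * (k + 1)) * Nat.card F ^ (d * (d - 1)) := by
    intro d k u hu hdk X hX
    have hU : finrank F (Submodule.span F (Set.range u)) = k + 1 := by
      rw [finrank_span_eq_card hu, Fintype.card_fin]
    obtain ⟨C, hUC⟩ := Submodule.exists_isCompl (Submodule.span F (Set.range u))
    have hC : finrank F C = d := by
      have := Submodule.finrank_add_eq_of_isCompl hUC
      omega
    have hcardU : Nat.card (Submodule.span F (Set.range u)) = Nat.card F ^ (k + 1) := by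
      rw [Module.natCard_eq_pow_finrank (K := F), hU]
    rw [card_eq_sum_fiber (fun T : {T : Module.End F V // IsNilpotent T ∧ Cond T u} =>
      T.1 (u (Fin.last k)))]
    have hfib : ∀ w : V, Nat.card {a : {T : Module.End F V // IsNilpotent T ∧ Cond T u} //
        a.1 (u (Fin.last k)) = w} =
        Nat.card {T : Module.End F V // (IsNilpotent T ∧ Cond T u) ∧ T (u (Fin.last k)) = w} :=
      fun w => Nat.card_congr (Equiv.subtypeSubtypeEquivSubtypeInter
        (fun T : Module.End F V => IsNilpotent T ∧ Cond T u)
        (fun T : Module.End F V => T (u (Fin.last k)) = w))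
    simp only [hfib]
    rw [sum_split (Submodule.span F (Set.range u)) _ X]
    · have hhom : Nat.card (C →ₗ[F] Submodule.span F (Set.range u)) =
          Nat.card F ^ (d * (k + 1)) := by
        rw [Module.natCard_eq_pow_finrank (K := F) (V := C →ₗ[F] Submodule.span F (Set.range u)),
          Module.finrank_linearMap, hC, hU]
      rw [hcardV, hcardU, card_fiber_zero hu hUC, hhom, hnilC C d hC (by omega)]
    · intro w hw
      rw [card_fiber_snoc]
      exact hX w hw
    · intro w hw hw0
      rw [Nat.card_eq_zero]
      left
      refine ⟨fun T => hw0 ?_⟩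
      have h1 := T.2.2
      rw [← h1] at hw ⊢
      exact eq_zero_of_mem_span hu T.2.1.1 T.2.1.2 hw
  intro d
  induction d with
  | zero =>
    intro k u hu hdk
    rw [hstep 0 k u hu hdk 0]
    · have : k + 1 = n := by omega
      rw [this]
      simp
    · intro w hw
      exfalso
      apply hw
      have hU : finrank F (Submodule.span F (Set.range u)) = finrank F V := by
        rw [finrank_span_eq_card hu, Fintype.card_fin, hV]
        omega
      rw [Submodule.eq_top_of_finrank_eq hU]
      trivial
  | succ d ihd =>
    intro k u hu hdk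
    rw [hstep (d + 1) k u hu hdk (Nat.card F ^ (n * d))]
    · exact arith (Nat.card F) n d k hdk
    · intro w hw
      exact ihd (k + 1) (Fin.snoc u w) (linearIndependent_finSnoc.mpr ⟨hu, hw⟩) (by omega)

end Main

section Final

theorem card_nilpotent [Finite F] (V : Type u) [AddCommGroup V] [Module F V]
    [Module.Finite F V] :
    Nat.card {T : Module.End F V // IsNilpotent T} =
      Nat.card F ^ (finrank F V * (finrank F V - 1)) := by
  rcases Nat.eq_zero_or_pos (finrank F V) with h0 | hpos
  · haveI : Subsingleton V := (Module.finrank_zero_iff (R := F)).mp h0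
    rw [card_nilpotent_of_subsingleton, h0]
    simp
  · haveI : Nontrivial V := Module.nontrivial_of_finrank_pos (R := F) hpos
    obtain ⟨c, hc⟩ := exists_ne (0 : V)
    haveI : Unique (Fin (0 + 1)) := (inferInstance : Unique (Fin 1))
    have hli : LinearIndependent F (fun _ : Fin (0 + 1) => c) := by
      rw [linearIndependent_unique_iff]
      exact hc
    have := key (F := F) (finrank F V) V rfl (finrank F V - 1) 0 (fun _ => c) hli (by omega)
    rw [← this]
    apply Nat.card_congr
    apply Equiv.subtypeEquivRight
    intro T
    exact ⟨fun h => ⟨h, fun i => i.elim0⟩, fun h => h.1⟩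

theorem card_nilpotent_matrix [Fintype F] (n : ℕ) :
    Nat.card {N : Matrix (Fin n) (Fin n) F // IsNilpotent N} =
      Fintype.card F ^ (n * (n - 1)) := by
  have h := card_nilpotent (F := F) (Fin n → F)
  rw [Module.finrank_fin_fun, Nat.card_eq_fintype_card (α := F)] at h
  rw [← h]
  apply Nat.card_congr
  refine Equiv.subtypeEquiv (Matrix.toLinAlgEquiv' (R := F) (n := Fin n)).toEquiv ?_
  intro N
  constructor
  · intro hN
    exact hN.map (Matrix.toLinAlgEquiv' (R := F) (n := Fin n))
  · intro hN
    have := hN.map (Matrix.toLinAlgEquiv' (R := F) (n := Fin n)).symm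
    simpa using this

/-- units of a ring with nilpotent `g - 1` correspond to nilpotent elements -/
noncomputable def unitEquiv (R : Type*) [Ring R] :
    {g : Rˣ // IsNilpotent ((g : R) - 1)} ≃ {x : R // IsNilpotent x} where
  toFun g := ⟨(g.1 : R) - 1, g.2⟩
  invFun x := ⟨(IsNilpotent.isUnit_add_one x.2).unit, by simpa using x.2⟩
  left_inv g := by
    apply Subtype.ext
    apply Units.ext
    simp
  right_inv x := by
    apply Subtype.ext
    simp

theorem order_iff {R : Type*} [Ring R] (p : ℕ) [Fact p.Prime] [CharP R p] (g : Rˣ) :
    (∃ k : ℕ, orderOf g = p ^ k) ↔ IsNilpotent ((g : R) - 1) := by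
  constructor
  · rintro ⟨k, hk⟩
    refine ⟨p ^ k, ?_⟩
    rw [sub_pow_char_pow_of_commute p k (Commute.one_right _), one_pow, sub_eq_zero]
    have := pow_orderOf_eq_one g
    rw [hk] at this
    rw [← Units.val_pow_eq_pow_val, this, Units.val_one]
  · rintro ⟨m, hm⟩
    have hp := (Fact.out : p.Prime)
    have hle : m ≤ p ^ m := (Nat.lt_pow_self hp.one_lt).le
    have h1 : ((g : R) - 1) ^ (p ^ m) = 0 := pow_eq_zero_of_le hle hm
    rw [sub_pow_char_pow_of_commute p m (Commute.one_right _), one_pow, sub_eq_zero] at h1
    have h2 : g ^ (p ^ m) = 1 := by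
      apply Units.ext
      rw [Units.val_pow_eq_pow_val, h1, Units.val_one]
    have := orderOf_dvd_of_pow_eq_one h2
    obtain ⟨j, _, hj⟩ := (Nat.dvd_prime_pow hp).mp this
    exact ⟨j, hj⟩

theorem card_unipotent [Fintype F] (p : ℕ) [Fact p.Prime] [CharP F p] (n : ℕ) :
    Nat.card {g : Matrix.GeneralLinearGroup (Fin n) F // ∃ k : ℕ, orderOf g = p ^ k} =
      Fintype.card F ^ (n * (n - 1)) := by
  rcases Nat.eq_zero_or_pos n with h0 | hpos
  · subst h0
    haveI : Subsingleton (Matrix.GeneralLinearGroup (Fin 0) F) :=
      ⟨fun a b => Units.ext (Subsingleton.elim _ _)⟩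
    haveI : Unique {g : Matrix.GeneralLinearGroup (Fin 0) F // ∃ k : ℕ, orderOf g = p ^ k} :=
      ⟨⟨⟨1, 0, by simp⟩⟩, fun a => Subtype.ext (Subsingleton.elim _ _)⟩
    rw [Nat.card_unique]
    simp
  · haveI : Nonempty (Fin n) := ⟨⟨0, hpos⟩⟩
    rw [← card_nilpotent_matrix (F := F) n]
    refine Nat.card_congr (Equiv.trans ?_ (unitEquiv (Matrix (Fin n) (Fin n) F)))
    apply Equiv.subtypeEquivRight
    intro g
    exact order_iff p g

end Final

end Cfsg.Agent.H2.NilpotentCount
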