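import Mathlib
import Cfsg.Prelude.Def_Solvable
import Cfsg.Agent.H1.Cores
import Cfsg.Agent.H1.Card
import Cfsg.Agent.H2.FrobComplSylow
import Cfsg.Agent.H2.QuatCentralizer

/-!
# Nilpotent groups with cyclic centralizers of non-central elements (helper2)
-/

set_option autoImplicit false
set_option linter.style.haveILetI false
set_option linter.unusedSectionVars false
set_option linter.unusedVariables false

namespace Cfsg.Agent.H2.NilCyc

open Cfsg.Agent.H1 Cfsg.Agent.H2.UOP Cfsg.Agent.H2.FCS

universe u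

/-- in a finite cyclic group, elements with `w ^ p = 1` lie in `⟨z⟩` for `z` of order `p` -/
theorem mem_zpowers_of_cyclic {X : Type*} [Group X] [Finite X] [hX : IsCyclic X] {p : ℕ} [hp : Fact p.Prime]
    {w z : X} (hw : w ^ p = 1) (hz : z ^ p = 1) (hz1 : z ≠ 1) : w ∈ Subgroup.zpowers z := by
  letI : CommGroup X := IsCyclic.commGroup
  have hoz : orderOf z = p := orderOf_eq_prime hz hz1
  have hKcard : Nat.card ↥(powMonoidHom p : X →* X).ker ∣ p := by
    rw [IsCyclic.card_powMonoidHom_ker]
    exact Nat.gcd_dvd_right _ _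
  have hzK : Subgroup.zpowers z ≤ (powMonoidHom p : X →* X).ker := by
    rw [Subgroup.zpowers_le, MonoidHom.mem_ker, powMonoidHom_apply]
    exact hz
  have hcard : Nat.card ↥(Subgroup.zpowers z) = p := by rw [Nat.card_zpowers, hoz]
  have hKz : Subgroup.zpowers z = (powMonoidHom p : X →* X).ker :=
    Subgroup.eq_of_le_of_card_ge hzK (by rw [hcard]; exact Nat.le_of_dvd hp.out.pos hKcard)
  rw [hKz, MonoidHom.mem_ker, powMonoidHom_apply]
  exact hw

variable {G : Type u} [Group G] [Finite G]

theorem exists_nonabelian_sylow (hnil : Group.IsNilpotent G) (hna : ¬ IsMulCommutative G) :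
    ∃ (p : ℕ) (_ : Fact p.Prime) (P : Sylow p G), ∃ x ∈ P, ∃ y ∈ P, x * y ≠ y * x := by
  by_contra hcon
  push Not at hcon
  apply hna
  obtain ⟨e⟩ := ((Group.isNilpotent_of_finite_tfae (G := G)).out 0 4).mp hnil
  refine ⟨⟨fun a b => ?_⟩⟩
  have h : e.symm a * e.symm b = e.symm b * e.symm a := by
    funext p P
    apply Subtype.ext
    haveI : Fact (p : ℕ).Prime := ⟨Nat.prime_of_mem_primeFactors p.2⟩
    exact hcon p this P _ (e.symm a p P).2 _ (e.symm b p P).2
  have := congrArg e h
  simpa using this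

/-- in a nilpotent group, `O_{p'}(G)` has `p`-power index -/
theorem index_pPrimeCore_of_nilpotent (hnil : Group.IsNilpotent G) (p : ℕ) [hp : Fact p.Prime] :
    ∃ k : ℕ, (Cfsg.pPrimeCore p G).index = p ^ k := by
  haveI := hnil
  have hall : ∀ {d : ℕ}, d.Prime → d ∣ (Cfsg.pPrimeCore p G).index → d = p := by
    intro r hr hrd
    by_contra hne
    haveI : Fact r.Prime := ⟨hr⟩
    obtain ⟨R⟩ : Nonempty (Sylow r G) := inferInstance
    have hRn : (R : Subgroup G).Normal := inferInstance
    have hRc : (Nat.card (R : Subgroup G)).Coprime p := by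
      obtain ⟨j, hj⟩ := IsPGroup.iff_card.1 R.isPGroup'
      rw [hj]
      exact Nat.Coprime.pow_left j ((Nat.coprime_primes hr hp.out).2 hne)
    have hle : (R : Subgroup G) ≤ Cfsg.pPrimeCore p G := le_pPrimeCore hRn hRc
    exact R.not_dvd_index (dvd_trans hrd (Subgroup.index_dvd_of_le hle))
  exact ⟨_, Nat.eq_prime_pow_of_unique_prime_dvd Subgroup.index_ne_zero_of_finite hall⟩

/-- **forward direction** -/
theorem forward (hnil : Group.IsNilpotent G) (hna : ¬ IsMulCommutative G)
    (hC : ∀ x : G, x ∉ Subgroup.center G → IsCyclic (Subgroup.centralizer ({x} : Set G))) :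
    ∃ (k m : ℕ), 1 ≤ k ∧ Odd m ∧ Nonempty (G ≃* QuaternionGroup (2 ^ k) × Multiplicative (ZMod m)) := by
  haveI := hnil
  obtain ⟨p, hp, P, x0, hx0, y0, hy0, hxy⟩ := exists_nonabelian_sylow hnil hna
  have hx0Z : x0 ∉ Subgroup.center G := by
    intro h
    exact hxy ((Subgroup.mem_center_iff.1 h y0).symm)
  have hPn : (P : Subgroup G).Normal := inferInstance
  obtain ⟨H, hH⟩ : ∃ H : Subgroup G, H = Cfsg.pPrimeCore p G := ⟨_, rfl⟩
  have hHn : H.Normal := hH ▸ inferInstance
  have hHc : (Nat.card H).Coprime p := hH ▸ pPrimeCore_coprime p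
  have hdisj : Disjoint (P : Subgroup G) H := by
    apply Subgroup.disjoint_of_coprime_natCard
    obtain ⟨j, hj⟩ := IsPGroup.iff_card.1 P.isPGroup'
    rw [hj]
    exact (hHc.symm.pow_left j)
  have hcomm : ∀ x ∈ (P : Subgroup G), ∀ y ∈ H, x * y = y * x := fun x hx y hy =>
    (Subgroup.commute_of_normal_of_disjoint _ _ hPn hHn hdisj x y hx hy).eq
  -- `P ⊔ H = ⊤`
  have hsup : (P : Subgroup G) ⊔ H = ⊤ := by
    rw [← Subgroup.index_eq_one]
    obtain ⟨k, hk⟩ := index_pPrimeCore_of_nilpotent hnil p
    rw [← hH] at hk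
    have h1 : ((P : Subgroup G) ⊔ H).index ∣ (P : Subgroup G).index := Subgroup.index_dvd_of_le le_sup_left
    have h2 : ((P : Subgroup G) ⊔ H).index ∣ p ^ k := hk ▸ Subgroup.index_dvd_of_le le_sup_right
    have h3 : ((P : Subgroup G).index).Coprime (p ^ k) :=
      Nat.Coprime.pow_right k (((Nat.Prime.coprime_iff_not_dvd hp.out).2 P.not_dvd_index).symm)
    exact Nat.eq_one_of_dvd_coprimes h3 h1 h2
  have hinf : (P : Subgroup G) ⊓ H = ⊥ := disjoint_iff.1 hdisj
  have hcard : Nat.card (P : Subgroup G) * Nat.card H = Nat.card G := by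
    have h1 := card_sup_mul_card_inf (P : Subgroup G) H (by
      rw [Subgroup.normalizer_eq_top]; exact le_top)
    rw [hsup, hinf, Subgroup.card_top, Subgroup.card_bot, mul_one] at h1
    exact h1.symm
  -- the isomorphism `P × H ≃* G`
  obtain ⟨f, hf⟩ : ∃ f : ↥(P : Subgroup G) × ↥H →* G, ∀ x y, f (x, y) = (x : G) * (y : G) :=
    ⟨MonoidHom.noncommCoprod (P : Subgroup G).subtype H.subtype
      (fun x y => hcomm x x.2 y y.2), fun x y => rfl⟩
  have hfinj : Function.Injective f := by
    rw [injective_iff_map_eq_one]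
    rintro ⟨x, y⟩ hxy1
    rw [hf] at hxy1
    have h1 : (x : G) = (y : G)⁻¹ := eq_inv_of_mul_eq_one_left hxy1
    have h2 : (x : G) ∈ (P : Subgroup G) ⊓ H :=
      Subgroup.mem_inf.2 ⟨x.2, h1 ▸ Subgroup.inv_mem _ y.2⟩
    rw [hinf, Subgroup.mem_bot] at h2
    have h3 : (y : G) = 1 := by rw [h2] at h1; exact inv_eq_one.1 h1.symm
    exact Prod.ext (Subtype.ext h2) (Subtype.ext h3)
  have hfbij : Function.Bijective f := by
    apply hfinj.bijective_of_nat_card_le
    rw [Nat.card_prod, hcard]
  -- `H` is cyclic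
  have hHcyc : IsCyclic H := by
    have hle : H ≤ Subgroup.centralizer ({x0} : Set G) := by
      intro y hy
      rw [Subgroup.mem_centralizer_iff]
      intro h hh
      rw [Set.mem_singleton_iff] at hh
      rw [hh]; exact hcomm x0 hx0 y hy
    haveI := hC x0 hx0Z
    exact isCyclic_of_injective (Subgroup.inclusion hle) (Subgroup.inclusion_injective hle)
  -- `P` has a unique subgroup of order `p`
  have huniq : ∀ U V : Subgroup ↥(P : Subgroup G), Nat.card U = p → Nat.card V = p → U = V := by
    intro U V hU hV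
    by_contra hne
    obtain ⟨w, z, hwp, hzp, hz1, hwz, hm⟩ := exists_rank_two P.isPGroup' U V hU hV hne
    have hwz' : (w : G) * (z : G) = (z : G) * (w : G) := congrArg Subtype.val hwz
    obtain ⟨x, hxZ, hwx, hzx⟩ : ∃ x : G, x ∉ Subgroup.center G ∧
        (w : G) ∈ Subgroup.centralizer ({x} : Set G) ∧ (z : G) ∈ Subgroup.centralizer ({x} : Set G) := by
      by_cases hwZ : (w : G) ∈ Subgroup.center G
      · by_cases hzZ : (z : G) ∈ Subgroup.center G
        · refine ⟨x0, hx0Z, ?_, ?_⟩
          · rw [Subgroup.mem_centralizer_iff]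
            intro h hh
            rw [Set.mem_singleton_iff] at hh
            rw [hh]; exact Subgroup.mem_center_iff.1 hwZ x0
          · rw [Subgroup.mem_centralizer_iff]
            intro h hh
            rw [Set.mem_singleton_iff] at hh
            rw [hh]; exact Subgroup.mem_center_iff.1 hzZ x0
        · refine ⟨z, hzZ, ?_, ?_⟩
          · rw [Subgroup.mem_centralizer_iff]
            intro h hh
            rw [Set.mem_singleton_iff] at hh
            rw [hh]; exact hwz'.symm
          · rw [Subgroup.mem_centralizer_iff]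
            intro h hh
            rw [Set.mem_singleton_iff] at hh
            rw [hh]
      · refine ⟨w, hwZ, ?_, ?_⟩
        · rw [Subgroup.mem_centralizer_iff]
          intro h hh
          rw [Set.mem_singleton_iff] at hh
          rw [hh]
        · rw [Subgroup.mem_centralizer_iff]
          intro h hh
          rw [Set.mem_singleton_iff] at hh
          rw [hh]; exact hwz'
    haveI := hC x hxZ
    have h1 : (⟨(w : G), hwx⟩ : ↥(Subgroup.centralizer ({x} : Set G))) ∈
        Subgroup.zpowers (⟨(z : G), hzx⟩ : ↥(Subgroup.centralizer ({x} : Set G))) := by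
      apply mem_zpowers_of_cyclic (p := p)
      · apply Subtype.ext
        have := congrArg (fun t : ↥(P : Subgroup G) => (t : G)) hwp
        simpa using this
      · apply Subtype.ext
        have := congrArg (fun t : ↥(P : Subgroup G) => (t : G)) hzp
        simpa using this
      · intro h0
        apply hz1
        apply Subtype.ext
        have := congrArg Subtype.val h0
        simpa using this
    have h2 : (⟨(w : G), hwx⟩ : ↥(Subgroup.centralizer ({x} : Set G)))⁻¹ ∈
        Subgroup.zpowers (⟨(z : G), hzx⟩ : ↥(Subgroup.centralizer ({x} : Set G))) :=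
      Subgroup.inv_mem _ h1
    rw [← mem_powers_iff_mem_zpowers] at h2
    obtain ⟨m, hm'⟩ := h2
    apply hm m
    apply Subtype.ext
    have h3 := congrArg Subtype.val hm'
    simp only [Subgroup.coe_pow, Subgroup.coe_inv] at h3
    show (w : G) * ((z ^ m : ↥(P : Subgroup G)) : G) = 1
    rw [Subgroup.coe_pow, h3]
    group
  -- `P` is not commutative
  have hPnc : ¬ ∀ u v : ↥(P : Subgroup G), u * v = v * u := by
    intro h
    exact hxy (congrArg Subtype.val (h ⟨x0, hx0⟩ ⟨y0, hy0⟩))
  rcases UOP.main p P.isPGroup' huniq with hcyc | ⟨hp2, n, ⟨eP⟩⟩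
  · exfalso
    apply hPnc
    intro u v
    haveI := hcyc
    exact Std.Commutative.comm u v
  subst hp2
  have hn1 : 1 ≤ n := by
    rcases Nat.eq_zero_or_pos n with h0 | h0
    · exfalso
      subst h0
      apply hPnc
      have hc4 : Nat.card ↥(P : Subgroup G) = 2 ^ 2 := by
        rw [Nat.card_congr eP.toEquiv, Nat.card_eq_fintype_card, QuaternionGroup.card]
        norm_num
      have := IsPGroup.isMulCommutative_of_card_eq_prime_sq hc4
      exact fun u v => mul_comm' u v
    · exact h0
  refine ⟨n, Nat.card H, hn1, ?_, ?_⟩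
  · exact (Nat.coprime_two_right.1 hHc)
  · exact ⟨(MulEquiv.ofBijective f hfbij).symm.trans
      (MulEquiv.prodCongr eP (zmodCyclicMulEquiv hHcyc).symm)⟩

/-- **backward direction** -/
theorem backward (k m : ℕ) (hm : Odd m)
    (e : G ≃* QuaternionGroup (2 ^ k) × Multiplicative (ZMod m)) (x : G)
    (hx : x ∉ Subgroup.center G) : IsCyclic (Subgroup.centralizer ({x} : Set G)) := by
  have ht : e x ∉ Subgroup.center (QuaternionGroup (2 ^ k) × Multiplicative (ZMod m)) := by
    intro h
    apply hx
    rw [Subgroup.mem_center_iff] at h ⊢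
    intro g
    apply e.injective
    rw [map_mul, map_mul]
    exact h (e g)
  obtain ⟨D, hD, hle⟩ := Cfsg.Agent.H2.QuatCent.exists_cyclic_ge_centralizer k m hm (e x) ht
  have hmem : ∀ y : ↥(Subgroup.centralizer ({x} : Set G)), e (y : G) ∈ D := by
    intro y
    apply hle
    rw [Subgroup.mem_centralizer_iff]
    intro h hh
    rw [Set.mem_singleton_iff] at hh
    rw [hh, ← map_mul, ← map_mul]
    congr 1
    exact (Subgroup.mem_centralizer_iff.1 y.2) x (Set.mem_singleton x)
  obtain ⟨φ, hφ⟩ : ∃ φ : ↥(Subgroup.centralizer ({x} : Set G)) →* ↥D, ∀ y, (φ y : _) = e (y : G) :=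
    ⟨(e.toMonoidHom.comp (Subgroup.centralizer ({x} : Set G)).subtype).codRestrict D hmem,
      fun y => rfl⟩
  haveI := hD
  apply isCyclic_of_injective φ
  intro y1 y2 h
  apply Subtype.ext
  apply e.injective
  rw [← hφ, ← hφ, h]

end Cfsg.Agent.H2.NilCyc
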