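import Mathlib

/-!
# Counting pairs of elements of a multiplicative subgroup of a finite field with given sum

(author: helper2)
-/

set_option autoImplicit false
set_option linter.unusedSectionVars false
set_option linter.unusedVariables false

namespace Cfsg.Agent.H2.NormOneCount

open Finset

section Fourier

variable {F : Type*} [Field F] [Fintype F] [DecidableEq F]
variable (ψ : AddChar F ℂ) (U : Finset F)

/-- the character sum over `U` -/
noncomputable def S (b : F) : ℂ := ∑ x ∈ U, ψ (b * x)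

/-- the number of pairs in `U` with sum `d` -/
def cnt (d : F) : ℕ := ((U ×ˢ U).filter fun xy => xy.1 + xy.2 = d).card

theorem S_zero : S ψ U 0 = (U.card : ℂ) := by
  unfold S
  simp

variable {ψ} (hψ : ψ.IsPrimitive)

include hψ

theorem sum_char (c : F) : ∑ b : F, ψ (b * c) = if c = 0 then (Fintype.card F : ℂ) else 0 := by
  have := AddChar.sum_mulShift c hψ
  rw [this]
  split_ifs <;> simp

/-- Fourier inversion for the pair count -/
theorem card_mul_cnt (d : F) :
    (Fintype.card F : ℂ) * (cnt U d : ℂ) = ∑ b : F, S ψ U b ^ 2 * ψ (-(b * d)) := by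
  have h1 : ∀ b : F, S ψ U b ^ 2 * ψ (-(b * d)) =
      ∑ xy ∈ U ×ˢ U, ψ (b * (xy.1 + xy.2 - d)) := by
    intro b
    unfold S
    rw [pow_two, Finset.sum_mul_sum, Finset.sum_product, Finset.sum_mul]
    apply Finset.sum_congr rfl
    intro x _
    rw [Finset.sum_mul]
    apply Finset.sum_congr rfl
    intro y _
    rw [← AddChar.map_add_eq_mul, ← AddChar.map_add_eq_mul]
    congr 1
    ring
  simp_rw [h1]
  rw [Finset.sum_comm]
  simp_rw [sum_char hψ]
  rw [Finset.sum_ite, Finset.sum_const_zero, add_zero, Finset.sum_const, nsmul_eq_mul, mul_comm]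
  congr 2
  unfold cnt
  congr 1
  apply Finset.filter_congr
  intro xy _
  show xy.1 + xy.2 = d ↔ xy.1 + xy.2 - d = 0
  exact sub_eq_zero.symm

/-- Parseval -/
theorem sum_normSq : ∑ b : F, ‖S ψ U b‖ ^ 2 = (Fintype.card F : ℝ) * U.card := by
  have h0 : ∀ b : F, ((‖S ψ U b‖ : ℝ) : ℂ) ^ 2 = S ψ U b * (starRingEnd ℂ) (S ψ U b) := by
    intro b
    rw [Complex.mul_conj, Complex.normSq_eq_norm_sq]
    push_cast
    rfl
  have h1 : ∀ b : F, S ψ U b * (starRingEnd ℂ) (S ψ U b) =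
      ∑ xy ∈ U ×ˢ U, ψ (b * (xy.1 - xy.2)) := by
    intro b
    unfold S
    rw [map_sum, Finset.sum_mul_sum, Finset.sum_product]
    apply Finset.sum_congr rfl
    intro x _
    apply Finset.sum_congr rfl
    intro y _
    rw [← AddChar.map_neg_eq_conj, ← AddChar.map_add_eq_mul]
    congr 1
    ring
  have h2 : ((∑ b : F, ‖S ψ U b‖ ^ 2 : ℝ) : ℂ) = ((Fintype.card F : ℝ) * U.card : ℝ) := by
    push_cast
    simp_rw [h0, h1]
    rw [Finset.sum_comm]
    simp_rw [sum_char hψ]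
    rw [Finset.sum_ite, Finset.sum_const_zero, add_zero, Finset.sum_const, nsmul_eq_mul, mul_comm]
    congr 2
    have : (U ×ˢ U).filter (fun xy => xy.1 - xy.2 = 0) = U.image (fun x => (x, x)) := by
      ext ⟨x, y⟩
      simp only [Finset.mem_filter, Finset.mem_product, Finset.mem_image, Prod.mk.injEq]
      constructor
      · rintro ⟨⟨hx, hy⟩, hxy⟩
        have : x = y := sub_eq_zero.mp hxy
        exact ⟨x, hx, rfl, this⟩
      · rintro ⟨z, hz, rfl, rfl⟩
        exact ⟨⟨hz, hz⟩, sub_self _⟩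
    rw [this, Finset.card_image_of_injective]
    intro a b hab
    exact (Prod.mk.inj hab).1
  exact_mod_cast h2

end Fourier

section Mult

variable {F : Type*} [Field F] [Fintype F] [DecidableEq F]
variable {ψ : AddChar F ℂ} (hψ : ψ.IsPrimitive) {U : Finset F}
variable (hU0 : ∀ x ∈ U, x ≠ 0) (hUmul : ∀ x ∈ U, ∀ y ∈ U, x * y ∈ U)

include hU0 hUmul

theorem image_mul_left {v : F} (hv : v ∈ U) : U.image (fun x => v * x) = U := by
  apply Finset.eq_of_subset_of_card_le
  · intro y hy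
    obtain ⟨x, hx, rfl⟩ := Finset.mem_image.mp hy
    exact hUmul v hv x hx
  · rw [Finset.card_image_of_injective]
    exact mul_right_injective₀ (hU0 v hv)

theorem S_mul (b : F) {v : F} (hv : v ∈ U) : S ψ U (b * v) = S ψ U b := by
  unfold S
  conv_rhs => rw [← image_mul_left hU0 hUmul hv]
  rw [Finset.sum_image]
  · apply Finset.sum_congr rfl
    intro x _
    rw [mul_assoc]
  · intro x _ y _ hxy
    exact mul_right_injective₀ (hU0 v hv) hxy

include hψ

/-- the basic bound on the character sums at nonzero arguments -/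
theorem card_mul_normSq_le {b : F} (hb : b ≠ 0) :
    (U.card : ℝ) * ‖S ψ U b‖ ^ 2 ≤ (Fintype.card F : ℝ) * U.card - (U.card : ℝ) ^ 2 := by
  have h1 : (U.card : ℝ) * ‖S ψ U b‖ ^ 2 = ∑ v ∈ U, ‖S ψ U (b * v)‖ ^ 2 := by
    rw [Finset.sum_congr rfl (fun v hv => by rw [S_mul hU0 hUmul b hv]), Finset.sum_const,
      nsmul_eq_mul]
  have h2 : ∑ v ∈ U, ‖S ψ U (b * v)‖ ^ 2 = ∑ c ∈ U.image (fun v => b * v), ‖S ψ U c‖ ^ 2 := by
    rw [Finset.sum_image]
    intro x _ y _ hxy
    exact mul_right_injective₀ hb hxy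
  have h3 : ∑ c ∈ U.image (fun v => b * v), ‖S ψ U c‖ ^ 2 ≤
      ∑ c ∈ Finset.univ.erase (0 : F), ‖S ψ U c‖ ^ 2 := by
    apply Finset.sum_le_sum_of_subset_of_nonneg
    · intro c hc
      obtain ⟨v, hv, rfl⟩ := Finset.mem_image.mp hc
      rw [Finset.mem_erase]
      exact ⟨mul_ne_zero hb (hU0 v hv), Finset.mem_univ _⟩
    · intro c _ _
      positivity
  have h4 : ∑ c ∈ Finset.univ.erase (0 : F), ‖S ψ U c‖ ^ 2 =
      (Fintype.card F : ℝ) * U.card - (U.card : ℝ) ^ 2 := by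
    have h5 := Finset.add_sum_erase Finset.univ (fun c => ‖S ψ U c‖ ^ 2) (Finset.mem_univ (0 : F))
    rw [sum_normSq U hψ, S_zero] at h5
    have h6 : ‖((U.card : ℕ) : ℂ)‖ = (U.card : ℝ) := by
      rw [Complex.norm_natCast]
    rw [h6] at h5
    linarith
  rw [h1, h2]
  exact h3.trans h4.le

/-- second form of the inversion formula, after averaging over `U` -/
theorem card_mul_card_mul_cnt (d : F) :
    (U.card : ℂ) * ((Fintype.card F : ℂ) * (cnt U d : ℂ)) =
      ∑ b : F, S ψ U b ^ 2 * S ψ U (-(b * d)) := by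
  rw [card_mul_cnt U hψ]
  have h1 : ∀ v ∈ U, ∑ b : F, S ψ U b ^ 2 * ψ (-(b * d)) =
      ∑ b : F, S ψ U b ^ 2 * ψ (-(b * d) * v) := by
    intro v hv
    rw [← Equiv.sum_comp (Equiv.mulRight₀ v (hU0 v hv))]
    apply Finset.sum_congr rfl
    intro b _
    rw [Equiv.mulRight₀_apply, S_mul hU0 hUmul b hv]
    congr 2
    ring
  have h2 : (U.card : ℂ) * ∑ b : F, S ψ U b ^ 2 * ψ (-(b * d)) =
      ∑ v ∈ U, ∑ b : F, S ψ U b ^ 2 * ψ (-(b * d) * v) := by
    rw [← Finset.sum_congr rfl h1, Finset.sum_const, nsmul_eq_mul]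
  rw [h2, Finset.sum_comm]
  apply Finset.sum_congr rfl
  intro b _
  unfold S
  rw [Finset.mul_sum]

end Mult

section Bound

variable {F : Type*} [Field F] [Fintype F] [DecidableEq F]
variable {ψ : AddChar F ℂ} (hψ : ψ.IsPrimitive) {U : Finset F}
variable (hU0 : ∀ x ∈ U, x ≠ 0) (hUmul : ∀ x ∈ U, ∀ y ∈ U, x * y ∈ U)

include hψ hU0 hUmul

theorem sum_erase_normSq :
    ∑ c ∈ Finset.univ.erase (0 : F), ‖S ψ U c‖ ^ 2 =
      (Fintype.card F : ℝ) * U.card - (U.card : ℝ) ^ 2 := by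
  have h5 := Finset.add_sum_erase Finset.univ (fun c => ‖S ψ U c‖ ^ 2) (Finset.mem_univ (0 : F))
  rw [sum_normSq U hψ, S_zero] at h5
  have h6 : ‖((U.card : ℕ) : ℂ)‖ = (U.card : ℝ) := by
    rw [Complex.norm_natCast]
  rw [h6] at h5
  linarith

theorem main_bound (hne : U.Nonempty) {d : F} (hd : d ≠ 0) :
    (U.card : ℝ) ^ 2 - ((Fintype.card F : ℝ) - U.card) * Real.sqrt ((Fintype.card F : ℝ) - U.card) ≤
      (Fintype.card F : ℝ) * cnt U d := by
  obtain ⟨m, hmdef⟩ : ∃ m : ℝ, m = U.card := ⟨_, rfl⟩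
  obtain ⟨Q, hQdef⟩ : ∃ Q : ℝ, Q = Fintype.card F := ⟨_, rfl⟩
  rw [← hmdef, ← hQdef]
  have hm : 0 < m := by
    rw [hmdef]
    exact_mod_cast Finset.card_pos.mpr hne
  have hS : ∀ b : F, b ≠ 0 → ‖S ψ U b‖ ^ 2 ≤ Q - m := by
    intro b hb
    have h1 := card_mul_normSq_le hψ hU0 hUmul hb
    rw [← hmdef, ← hQdef] at h1
    have h2 : m * ‖S ψ U b‖ ^ 2 ≤ m * (Q - m) := by nlinarith
    exact le_of_mul_le_mul_left h2 hm
  have hA : 0 ≤ Q - m := by
    have := hS 1 one_ne_zero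
    have h0 : 0 ≤ ‖S ψ U 1‖ ^ 2 := by positivity
    linarith
  have hS' : ∀ b : F, b ≠ 0 → ‖S ψ U b‖ ≤ Real.sqrt (Q - m) := by
    intro b hb
    rw [← Real.sqrt_sq (norm_nonneg (S ψ U b))]
    exact Real.sqrt_le_sqrt (hS b hb)
  have h1 := card_mul_card_mul_cnt hψ hU0 hUmul d
  rw [← Finset.add_sum_erase Finset.univ _ (Finset.mem_univ (0 : F)), S_zero] at h1
  have h2 : ‖∑ b ∈ Finset.univ.erase (0 : F), S ψ U b ^ 2 * S ψ U (-(b * d))‖ ≤
      Real.sqrt (Q - m) * (Q * m - m ^ 2) := by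
    calc ‖∑ b ∈ Finset.univ.erase (0 : F), S ψ U b ^ 2 * S ψ U (-(b * d))‖
        ≤ ∑ b ∈ Finset.univ.erase (0 : F), ‖S ψ U b ^ 2 * S ψ U (-(b * d))‖ := norm_sum_le _ _
      _ ≤ ∑ b ∈ Finset.univ.erase (0 : F), ‖S ψ U b‖ ^ 2 * Real.sqrt (Q - m) := by
          apply Finset.sum_le_sum
          intro b hb
          rw [norm_mul, norm_pow]
          apply mul_le_mul_of_nonneg_left _ (by positivity)
          apply hS'
          have hb0 : b ≠ 0 := (Finset.mem_erase.mp hb).1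
          exact neg_ne_zero.mpr (mul_ne_zero hb0 hd)
      _ = Real.sqrt (Q - m) * (Q * m - m ^ 2) := by
          rw [← Finset.sum_mul, sum_erase_normSq hψ hU0 hUmul, ← hmdef, ← hQdef]
          ring
  have h3 : (∑ b ∈ Finset.univ.erase (0 : F), S ψ U b ^ 2 * S ψ U (-(b * d))) =
      ((m * (Q * cnt U d) - m ^ 3 : ℝ) : ℂ) := by
    have : ((m * (Q * cnt U d) - m ^ 3 : ℝ) : ℂ) =
        (U.card : ℂ) * ((Fintype.card F : ℂ) * (cnt U d : ℂ)) - (U.card : ℂ) ^ 3 := by
      rw [hmdef, hQdef]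
      push_cast
      ring
    rw [this, h1]
    simp only [neg_zero, zero_mul, S_zero]
    ring
  rw [h3, Complex.norm_real, Real.norm_eq_abs] at h2
  have h4 := (abs_le.mp h2).1
  have h5 : m * (m ^ 2 - (Q - m) * Real.sqrt (Q - m)) ≤ m * (Q * cnt U d) := by nlinarith
  exact le_of_mul_le_mul_left h5 hm

theorem two_le_cnt (hne : U.Nonempty) {d : F} (hd : d ≠ 0)
    (h1 : (Fintype.card F : ℝ) < (U.card : ℝ) ^ 2)
    (h2 : ((Fintype.card F : ℝ) - U.card) ^ 3 < ((U.card : ℝ) ^ 2 - Fintype.card F) ^ 2) :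
    2 ≤ cnt U d := by
  by_contra hcon
  push Not at hcon
  have hc : (cnt U d : ℝ) ≤ 1 := by exact_mod_cast Nat.lt_succ_iff.mp hcon
  have hb := main_bound hψ hU0 hUmul hne hd
  obtain ⟨m, hmdef⟩ : ∃ m : ℝ, m = U.card := ⟨_, rfl⟩
  obtain ⟨Q, hQdef⟩ : ∃ Q : ℝ, Q = Fintype.card F := ⟨_, rfl⟩
  rw [← hmdef, ← hQdef] at hb h1 h2
  have hQ : 0 ≤ Q := by rw [hQdef]; positivity
  have h3 : m ^ 2 - (Q - m) * Real.sqrt (Q - m) ≤ Q := by nlinarith
  by_cases hA : 0 ≤ Q - m
  · have hs := Real.sq_sqrt hA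
    have hs0 := Real.sqrt_nonneg (Q - m)
    have h4 : 0 < m ^ 2 - Q := by linarith
    have h5 : m ^ 2 - Q ≤ (Q - m) * Real.sqrt (Q - m) := by linarith
    have h6 : (m ^ 2 - Q) ^ 2 ≤ ((Q - m) * Real.sqrt (Q - m)) ^ 2 :=
      pow_le_pow_left₀ h4.le h5 2
    have h7 : ((Q - m) * Real.sqrt (Q - m)) ^ 2 = (Q - m) ^ 3 := by
      rw [mul_pow, hs]; ring
    linarith
  · push Not at hA
    have hs : Real.sqrt (Q - m) = 0 := Real.sqrt_eq_zero_of_nonpos hA.le
    rw [hs, mul_zero, sub_zero] at h3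
    linarith

end Bound

section Galois

variable (p q : ℕ) [hp : Fact p.Prime]

/-- the additive character `x ↦ e(Tr x / p)` -/
noncomputable def traceChar : AddChar (GaloisField p q) ℂ :=
  (ZMod.stdAddChar (N := p)).compAddMonoidHom
    (Algebra.trace (ZMod p) (GaloisField p q)).toAddMonoidHom

theorem traceChar_apply (x : GaloisField p q) :
    traceChar p q x = ZMod.stdAddChar (N := p) (Algebra.trace (ZMod p) (GaloisField p q) x) := rfl

theorem traceChar_isPrimitive : (traceChar p q).IsPrimitive := by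
  intro a ha
  rw [AddChar.ne_one_iff]
  have htr := (traceForm_nondegenerate (ZMod p) (GaloisField p q)).1 a
  simp_rw [Algebra.traceForm_apply] at htr
  by_contra hf
  push Not at hf
  apply ha
  apply htr
  intro y
  have h1 := hf y
  rw [AddChar.mulShift_apply, traceChar_apply] at h1
  rw [← (ZMod.stdAddChar (N := p)).map_zero_eq_one] at h1
  exact ZMod.injective_stdAddChar h1

end Galois

section Concrete

variable (p q : ℕ) [hp : Fact p.Prime]

/-- the kernel of the norm on units is large -/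
theorem card_normOne_ge (hq0 : q ≠ 0) [Fintype (GaloisField p q)] [DecidableEq (GaloisField p q)] :
    p ^ (q - 1) ≤ (Finset.univ.filter fun x : GaloisField p q =>
      Algebra.norm (ZMod p) x = 1).card := by
  obtain ⟨ν, hνdef⟩ : ∃ ν : (GaloisField p q)ˣ →* (ZMod p)ˣ,
      ν = Units.map (Algebra.norm (ZMod p) : GaloisField p q →* ZMod p) := ⟨_, rfl⟩
  have hν : ∀ x : (GaloisField p q)ˣ,
      ((ν x : (ZMod p)ˣ) : ZMod p) = Algebra.norm (ZMod p) (x : GaloisField p q) := by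
    intro x
    rw [hνdef]
    rfl
  have hcard : Nat.card (GaloisField p q)ˣ = p ^ q - 1 := by
    rw [Nat.card_units, GaloisField.card p q hq0]
  have h1 : Nat.card ν.ker * Nat.card ν.range = p ^ q - 1 := by
    rw [← Subgroup.index_ker, Subgroup.card_mul_index, hcard]
  have h2 : Nat.card ν.range ≤ p - 1 := by
    have : Nat.card ν.range ≤ Nat.card (ZMod p)ˣ := Subgroup.card_le_card_group _
    rwa [Nat.card_eq_fintype_card (α := (ZMod p)ˣ), ZMod.card_units] at this
  have hp1 : 1 < p := hp.out.one_lt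
  have h3 : p ^ (q - 1) * (p - 1) ≤ p ^ q - 1 := by
    obtain ⟨k, rfl⟩ : ∃ k, q = k + 1 := ⟨q - 1, by omega⟩
    rw [Nat.add_sub_cancel, pow_succ, Nat.mul_sub, mul_one]
    have : 1 ≤ p ^ k := Nat.one_le_pow _ _ hp.out.pos
    omega
  have h4 : p ^ (q - 1) ≤ Nat.card ν.ker := by
    have h5 : p ^ (q - 1) * (p - 1) ≤ Nat.card ν.ker * (p - 1) :=
      h3.trans (h1 ▸ Nat.mul_le_mul_left _ h2)
    exact Nat.le_of_mul_le_mul_right h5 (by omega)
  refine h4.trans ?_
  rw [← Nat.card_eq_finsetCard]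
  apply Nat.card_le_card_of_injective
    (fun x : ν.ker => (⟨(x.1 : GaloisField p q), by
      rw [Finset.mem_filter]
      refine ⟨Finset.mem_univ _, ?_⟩
      have h6 : ν x.1 = 1 := x.2
      rw [← hν x.1, h6]
      rfl⟩ :
        (Finset.univ.filter fun x : GaloisField p q => Algebra.norm (ZMod p) x = 1)))
  intro x y hxy
  have h8 : (x.1 : GaloisField p q) = (y.1 : GaloisField p q) := congrArg Subtype.val hxy
  exact Subtype.ext (Units.ext h8)

end Concrete

section Large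

variable (p q : ℕ) [hp : Fact p.Prime]

/-- the arithmetic inequality -/
theorem arith_ineq {P pp m Q : ℝ} (hpp : 2 ≤ pp) (hP : pp ^ 4 ≤ P) (hQ : Q = pp * P) (hm1 : P ≤ m)
    (hm2 : m ≤ Q) : Q < m ^ 2 ∧ (Q - m) ^ 3 < (m ^ 2 - Q) ^ 2 := by
  have hpp0 : 0 < pp := by linarith
  have hP16 : 16 ≤ P := by
    have : (2 : ℝ) ^ 4 ≤ pp ^ 4 := pow_le_pow_left₀ (by norm_num) hpp 4
    linarith
  have hP0 : 0 < P := by linarith
  have hppP : pp < P := by
    have h1 : pp ^ 4 = pp * pp ^ 3 := by ring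
    have h2 : (1 : ℝ) < pp ^ 3 := by
      have : (2 : ℝ) ^ 3 ≤ pp ^ 3 := pow_le_pow_left₀ (by norm_num) hpp 3
      linarith
    nlinarith
  have hQP2 : Q < P ^ 2 := by
    rw [hQ, pow_two]
    exact mul_lt_mul_of_pos_right hppP hP0
  have hm0 : 0 < m := by linarith
  have hm2' : P ^ 2 ≤ m ^ 2 := pow_le_pow_left₀ hP0.le hm1 2
  refine ⟨by linarith, ?_⟩
  have h1 : (Q - m) ^ 3 ≤ (Q - P) ^ 3 := pow_le_pow_left₀ (by linarith) (by linarith) 3
  have h2 : (P ^ 2 - Q) ^ 2 ≤ (m ^ 2 - Q) ^ 2 := pow_le_pow_left₀ (by linarith) (by linarith) 2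
  have h3 : (Q - P) ^ 3 < (P ^ 2 - Q) ^ 2 := by
    rw [hQ]
    have e1 : (pp * P - P) ^ 3 = P ^ 2 * (P * (pp - 1) ^ 3) := by ring
    have e2 : (P ^ 2 - pp * P) ^ 2 = P ^ 2 * (P - pp) ^ 2 := by ring
    rw [e1, e2]
    apply mul_lt_mul_of_pos_left _ (by positivity)
    have e3 : (P - pp) ^ 2 - P * (pp - 1) ^ 3 =
        P * (P - pp ^ 3 + 3 * pp ^ 2 - 5 * pp + 1) + pp ^ 2 := by ring
    have e4 : 0 < P - pp ^ 3 + 3 * pp ^ 2 - 5 * pp + 1 := by
      have h5 : pp ^ 4 - pp ^ 3 + 3 * pp ^ 2 - 5 * pp + 1 > 0 := by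
        have : pp ^ 4 - pp ^ 3 + 3 * pp ^ 2 - 5 * pp + 1 =
            pp ^ 3 * (pp - 2) + pp ^ 3 + 3 * pp * (pp - 2) + pp + 1 := by ring
        rw [this]
        have : 0 ≤ pp - 2 := by linarith
        positivity
      linarith
    have : 0 < P * (P - pp ^ 3 + 3 * pp ^ 2 - 5 * pp + 1) + pp ^ 2 := by positivity
    linarith
  linarith

theorem two_le_ncard_of_five_le [hqf : Fact q.Prime] (hp2 : p ≠ 2) (hq5 : 5 ≤ q) :
    2 ≤ Set.ncard {a : GaloisField p q | Algebra.norm (ZMod p) a = 1 ∧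
      Algebra.norm (ZMod p) (2 - a) = 1} := by
  classical
  have hq0 : q ≠ 0 := by omega
  haveI : Fintype (GaloisField p q) := Fintype.ofFinite _
  obtain ⟨U, hUdef⟩ : ∃ U : Finset (GaloisField p q),
      U = Finset.univ.filter fun x : GaloisField p q => Algebra.norm (ZMod p) x = 1 := ⟨_, rfl⟩
  have hUmem : ∀ x, x ∈ U ↔ Algebra.norm (ZMod p) x = 1 := by
    intro x
    rw [hUdef, Finset.mem_filter]
    exact ⟨fun h => h.2, fun h => ⟨Finset.mem_univ _, h⟩⟩
  have hU0 : ∀ x ∈ U, x ≠ 0 := by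
    intro x hx h0
    rw [hUmem, h0, Algebra.norm_zero] at hx
    exact zero_ne_one hx
  have hUmul : ∀ x ∈ U, ∀ y ∈ U, x * y ∈ U := by
    intro x hx y hy
    rw [hUmem] at hx hy ⊢
    rw [map_mul, hx, hy, one_mul]
  have hUne : U.Nonempty := ⟨1, (hUmem 1).mpr (map_one _)⟩
  have hUcard : p ^ (q - 1) ≤ U.card := by
    rw [hUdef]
    convert card_normOne_ge p q hq0
  have hFcard : Fintype.card (GaloisField p q) = p ^ q := by
    rw [← Nat.card_eq_fintype_card, GaloisField.card p q hq0]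
  have h2ne : (2 : GaloisField p q) ≠ 0 := by
    intro h
    have h1 : ((2 : ℕ) : GaloisField p q) = 0 := by exact_mod_cast h
    rw [CharP.cast_eq_zero_iff (GaloisField p q) p] at h1
    have := (Nat.prime_dvd_prime_iff_eq hp.out Nat.prime_two).mp h1
    exact hp2 this
  have hp3 : 2 ≤ p := hp.out.two_le
  obtain ⟨h1, h2⟩ := arith_ineq (P := (p : ℝ) ^ (q - 1)) (pp := (p : ℝ)) (m := (U.card : ℝ))
    (Q := (Fintype.card (GaloisField p q) : ℝ)) (by exact_mod_cast hp3)
    (pow_le_pow_right₀ (by exact_mod_cast hp.out.one_le) (by omega))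
    (by
      rw [hFcard]
      push_cast
      rw [← pow_succ']
      congr 1
      omega)
    (by exact_mod_cast hUcard)
    (by exact_mod_cast Finset.card_le_univ U)
  have hcnt := two_le_cnt (traceChar_isPrimitive p q) hU0 hUmul hUne h2ne h1 h2
  refine hcnt.trans ?_
  -- the count equals the cardinality of the set
  unfold cnt
  rw [Set.ncard_eq_toFinset_card']
  apply le_of_eq
  apply Finset.card_bij (fun xy _ => xy.1)
  · intro xy hxy
    rw [Finset.mem_filter, Finset.mem_product] at hxy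
    rw [Set.mem_toFinset, Set.mem_setOf_eq]
    obtain ⟨⟨hx, hy⟩, hsum⟩ := hxy
    have : 2 - xy.1 = xy.2 := by rw [← hsum]; ring
    rw [this]
    exact ⟨(hUmem _).mp hx, (hUmem _).mp hy⟩
  · intro xy hxy xy' hxy' heq
    rw [Finset.mem_filter] at hxy hxy'
    have h3 : xy.2 = xy'.2 := by
      have e1 : xy.2 = 2 - xy.1 := by rw [← hxy.2]; ring
      have e2 : xy'.2 = 2 - xy'.1 := by rw [← hxy'.2]; ring
      rw [e1, e2, heq]
    exact Prod.ext heq h3
  · intro a ha
    rw [Set.mem_toFinset, Set.mem_setOf_eq] at ha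
    refine ⟨(a, 2 - a), ?_, rfl⟩
    rw [Finset.mem_filter, Finset.mem_product]
    exact ⟨⟨(hUmem _).mpr ha.1, (hUmem _).mpr ha.2⟩, by ring⟩

end Large

section Cubic

open Polynomial

variable (p : ℕ) [hp : Fact p.Prime]

/-- the cubics with `f 0 = -1`, `f 2 = 1` -/
noncomputable def cubic (c : ZMod p) : (ZMod p)[X] := X * (X - C 2) * (X - C c) + (X - C 1)

theorem cubic_eval (c x : ZMod p) : (cubic p c).eval x = x * (x - 2) * (x - c) + (x - 1) := by
  simp [cubic]

theorem cubic_prod_monic (c : ZMod p) : (X * (X - C 2) * (X - C c) : (ZMod p)[X]).Monic :=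
  (monic_X.mul (monic_X_sub_C 2)).mul (monic_X_sub_C c)

theorem cubic_prod_natDegree (c : ZMod p) :
    (X * (X - C 2) * (X - C c) : (ZMod p)[X]).natDegree = 3 := by
  rw [((monic_X.mul (monic_X_sub_C 2))).natDegree_mul (monic_X_sub_C c),
    monic_X.natDegree_mul (monic_X_sub_C 2), natDegree_X, natDegree_X_sub_C, natDegree_X_sub_C]

theorem cubic_lower_degree (c : ZMod p) :
    (X - C 1 : (ZMod p)[X]).degree < (X * (X - C 2) * (X - C c) : (ZMod p)[X]).degree := by
  rw [degree_X_sub_C, degree_eq_natDegree (cubic_prod_monic p c).ne_zero, cubic_prod_natDegree]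
  norm_num

theorem cubic_monic (c : ZMod p) : (cubic p c).Monic :=
  (cubic_prod_monic p c).add_of_left (cubic_lower_degree p c)

theorem cubic_natDegree (c : ZMod p) : (cubic p c).natDegree = 3 := by
  unfold cubic
  rw [natDegree_add_eq_left_of_degree_lt (cubic_lower_degree p c), cubic_prod_natDegree]

theorem exists_no_root : ∃ c : ZMod p, ∀ x, (cubic p c).eval x ≠ 0 := by
  by_contra hcon
  push Not at hcon
  choose r hr using hcon
  have hr0 : ∀ c, r c ≠ 0 := by
    intro c h0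
    have h2 := hr c
    rw [h0, cubic_eval] at h2
    simp at h2
  have hr2 : ∀ c, r c ≠ 2 := by
    intro c h0
    have h2 := hr c
    rw [h0, cubic_eval] at h2
    norm_num at h2
  have hinj : Function.Injective r := by
    intro c c' h
    have h1 := hr c
    have h2 := hr c'
    rw [cubic_eval] at h1 h2
    rw [h] at h1
    have h3 : r c' * (r c' - 2) * (c' - c) = 0 := by linear_combination h1 - h2
    rcases mul_eq_zero.mp h3 with h4 | h4
    · rcases mul_eq_zero.mp h4 with h5 | h5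
      · exact absurd h5 (hr0 c')
      · exact absurd (sub_eq_zero.mp h5) (hr2 c')
    · exact (sub_eq_zero.mp h4).symm
  obtain ⟨c, hc⟩ := Finite.injective_iff_surjective.mp hinj 0
  exact hr0 c hc

theorem exists_ne_one_of_three :
    ∃ a : GaloisField p 3, a ≠ 1 ∧ Algebra.norm (ZMod p) a = 1 ∧
      Algebra.norm (ZMod p) (2 - a) = 1 := by
  obtain ⟨c, hc⟩ := exists_no_root p
  obtain ⟨f, hfdef⟩ : ∃ f, f = cubic p c := ⟨_, rfl⟩
  have hmonic : f.Monic := hfdef ▸ cubic_monic p c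
  have hdeg : f.natDegree = 3 := hfdef ▸ cubic_natDegree p c
  have hroot : ∀ x, f.eval x ≠ 0 := hfdef ▸ hc
  have hirr : Irreducible f := by
    rw [hmonic.irreducible_iff_roots_eq_zero_of_degree_le_three (by omega) (by omega)]
    apply Multiset.eq_zero_of_forall_notMem
    intro x hx
    exact hroot x ((mem_roots hmonic.ne_zero).mp hx)
  have : Fact (Irreducible f) := ⟨hirr⟩
  obtain ⟨pb, hpbdef⟩ : ∃ pb : PowerBasis (ZMod p) (AdjoinRoot f),
      pb = AdjoinRoot.powerBasis hmonic.ne_zero := ⟨_, rfl⟩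
  have hgen : pb.gen = AdjoinRoot.root f := by rw [hpbdef]; exact AdjoinRoot.powerBasis_gen _
  have hdim : pb.dim = 3 := by rw [hpbdef, AdjoinRoot.powerBasis_dim, hdeg]
  have hminpoly : minpoly (ZMod p) (AdjoinRoot.root f) = f := by
    rw [AdjoinRoot.minpoly_root hmonic.ne_zero, hmonic.leadingCoeff, inv_one, C_1, mul_one]
  have hfin : Module.Finite (ZMod p) (AdjoinRoot f) := pb.finite
  have hchar : (Algebra.lmul (ZMod p) (AdjoinRoot f) (AdjoinRoot.root f)).charpoly = f := by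
    rw [← LinearMap.charpoly_toMatrix _ pb.basis, ← Algebra.leftMulMatrix_apply, ← hgen,
      charpoly_leftMulMatrix, hgen, hminpoly]
  have hN : ∀ t : ZMod p, Algebra.norm (ZMod p)
      (algebraMap (ZMod p) (AdjoinRoot f) t - AdjoinRoot.root f) = f.eval t := by
    intro t
    have h1 : (Algebra.lmul (ZMod p) (AdjoinRoot f) (AdjoinRoot.root f)).charpoly.eval t =
        f.eval t := congrArg (eval t) hchar
    rw [← h1, LinearMap.eval_charpoly, Algebra.norm_apply, map_sub, Algebra.lmul_algebraMap]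
    rfl
  have hfr : Module.finrank (ZMod p) (AdjoinRoot f) = 3 := by rw [pb.finrank, hdim]
  have hcard : Nat.card (AdjoinRoot f) = p ^ 3 := by
    rw [Module.natCard_eq_pow_finrank (K := ZMod p) (V := AdjoinRoot f), Nat.card_zmod, hfr]
  obtain ⟨e⟩ : Nonempty (AdjoinRoot f ≃ₐ[ZMod p] GaloisField p 3) :=
    ⟨GaloisField.algEquivGaloisField p 3 hcard⟩
  refine ⟨e (AdjoinRoot.root f), ?_, ?_, ?_⟩
  · intro h1
    have h2 : AdjoinRoot.root f = 1 := by
      apply e.injective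
      rw [h1, map_one]
    have h3 := hN 1
    rw [map_one, h2, sub_self, Algebra.norm_zero] at h3
    exact hroot 1 h3.symm
  · rw [Algebra.norm_eq_of_algEquiv]
    have h3 := hN 0
    rw [map_zero, zero_sub] at h3
    have h4 : f.eval 0 = -1 := by rw [hfdef, cubic_eval]; ring
    have h5 : Algebra.norm (ZMod p) (-(AdjoinRoot.root f)) =
        Algebra.norm (ZMod p) (algebraMap (ZMod p) (AdjoinRoot f) (-1)) *
          Algebra.norm (ZMod p) (AdjoinRoot.root f) := by
      rw [← map_mul]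
      congr 1
      rw [map_neg, map_one]
      ring
    rw [h5, Algebra.norm_algebraMap, hfr, h4] at h3
    have : ((-1 : ZMod p)) ^ 3 = -1 := by ring
    rw [this] at h3
    linear_combination -h3
  · have h1 : (2 : GaloisField p 3) - e (AdjoinRoot.root f) =
        e (algebraMap (ZMod p) (AdjoinRoot f) 2 - AdjoinRoot.root f) := by
      rw [map_sub, AlgEquiv.commutes]
      congr 1
    rw [h1, Algebra.norm_eq_of_algEquiv, hN 2, hfdef, cubic_eval]
    ring

end Cubic

section Main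

theorem main (p q : ℕ) [hp : Fact p.Prime] [hq : Fact q.Prime] (hp2 : p ≠ 2) (hq2 : q ≠ 2) :
    2 ≤ Set.ncard {a : GaloisField p q | Algebra.norm (ZMod p) a = 1 ∧
      Algebra.norm (ZMod p) (2 - a) = 1} := by
  by_cases h5 : 5 ≤ q
  · exact two_le_ncard_of_five_le p q hp2 h5
  · have hqp : q.Prime := hq.out
    have hq3 : q = 3 := by
      have h2 := hqp.two_le
      have h4 : q ≠ 4 := by
        rintro rfl
        norm_num at hqp
      omega
    subst hq3
    obtain ⟨a, ha1, haN, haN2⟩ := exists_ne_one_of_three p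
    have h1 : (1 : GaloisField p 3) ∈ {a : GaloisField p 3 | Algebra.norm (ZMod p) a = 1 ∧
        Algebra.norm (ZMod p) (2 - a) = 1} := by
      refine ⟨map_one _, ?_⟩
      have : (2 : GaloisField p 3) - 1 = 1 := by norm_num
      rw [this, map_one]
    have h2 : a ∈ {a : GaloisField p 3 | Algebra.norm (ZMod p) a = 1 ∧
        Algebra.norm (ZMod p) (2 - a) = 1} := ⟨haN, haN2⟩
    rw [← Set.ncard_pair ha1.symm]
    apply Set.ncard_le_ncard _ (Set.toFinite _)
    intro x hx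
    rcases hx with rfl | rfl
    · exact h1
    · exact h2

end Main

end Cfsg.Agent.H2.NormOneCount
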