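import Mathlib

/-!
# The set `{a : N(a) = N(2 - a) = 1}` in a finite field: closed under inversion forces `p ≤ q`

(author: helper2)
-/

set_option autoImplicit false

namespace Cfsg.Agent.H2.NormOne

open Polynomial

theorem p_le_q (p q : ℕ) [Fact p.Prime] [Fact q.Prime]
    (hinv : ∀ a ∈ {a : GaloisField p q | Algebra.norm (ZMod p) a = 1 ∧
      Algebra.norm (ZMod p) (2 - a) = 1},
      a⁻¹ ∈ {a : GaloisField p q | Algebra.norm (ZMod p) a = 1 ∧
        Algebra.norm (ZMod p) (2 - a) = 1})
    (h2 : 2 ≤ Set.ncard {a : GaloisField p q | Algebra.norm (ZMod p) a = 1 ∧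
      Algebra.norm (ZMod p) (2 - a) = 1}) :
    p ≤ q := by
  have hpp : p.Prime := Fact.out
  have hqp : q.Prime := Fact.out
  have hq0 : q ≠ 0 := hqp.ne_zero
  obtain ⟨a, haE, ha1⟩ := Set.exists_ne_of_one_lt_ncard h2 (1 : GaloisField p q)
  have hφ : ∀ x : GaloisField p q, (Algebra.norm (ZMod p) x = 1 ∧
      Algebra.norm (ZMod p) (2 - x) = 1) →
      (Algebra.norm (ZMod p) (2 - x⁻¹) = 1 ∧ Algebra.norm (ZMod p) (2 - (2 - x⁻¹)) = 1) := by
    intro x hx
    have := hinv x hx
    exact ⟨this.2, by rw [sub_sub_cancel]; exact this.1⟩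
  have key : ∀ k : ℕ, ∃ x : GaloisField p q, (Algebra.norm (ZMod p) x = 1 ∧
      Algebra.norm (ZMod p) (2 - x) = 1) ∧ x ≠ 1 ∧ (x - 1)⁻¹ = (a - 1)⁻¹ + (k : GaloisField p q) := by
    intro k
    induction k with
    | zero => exact ⟨a, haE, ha1, by simp⟩
    | succ k ih =>
      obtain ⟨x, hxE, hx1, hxt⟩ := ih
      have hx0 : x ≠ 0 := by
        intro h0
        have := hxE.1
        rw [h0, Algebra.norm_zero] at this
        exact zero_ne_one this
      refine ⟨2 - x⁻¹, hφ x hxE, ?_, ?_⟩
      · intro h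
        apply hx1
        have h' : x⁻¹ = 1 := by linear_combination -h
        exact inv_eq_one.mp h'
      · have hx1' : x - 1 ≠ 0 := sub_ne_zero.mpr hx1
        push_cast
        rw [← add_assoc, ← hxt]
        have e1 : 2 - x⁻¹ - 1 = (x - 1) * x⁻¹ := by
          rw [sub_mul, mul_inv_cancel₀ hx0]; ring
        have e2 : (x - 1)⁻¹ + 1 = (x - 1)⁻¹ * x := by
          have e3 : (x - 1)⁻¹ * x = (x - 1)⁻¹ * ((x - 1) + 1) := by ring
          rw [e3, mul_add, inv_mul_cancel₀ hx1', mul_one, add_comm]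
        rw [e1, mul_inv, inv_inv, e2]
  have hN : ∀ k : ℕ, Algebra.norm (ZMod p) ((a - 1)⁻¹ + (k : GaloisField p q)) =
      Algebra.norm (ZMod p) (a - 1)⁻¹ := by
    intro k
    induction k with
    | zero => simp
    | succ k ih =>
      obtain ⟨x, hxE, hx1, hxt⟩ := key k
      have hne : (a - 1)⁻¹ + (k : GaloisField p q) ≠ 0 := by
        rw [← hxt]
        exact inv_ne_zero (sub_ne_zero.mpr hx1)
      have hx : x * ((a - 1)⁻¹ + (k : GaloisField p q)) =
          (a - 1)⁻¹ + ((k + 1 : ℕ) : GaloisField p q) := by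
        have h3 : x - 1 = ((a - 1)⁻¹ + (k : GaloisField p q))⁻¹ := by rw [← hxt, inv_inv]
        have h4 : x = 1 + ((a - 1)⁻¹ + (k : GaloisField p q))⁻¹ := by linear_combination h3
        rw [h4, add_mul, inv_mul_cancel₀ hne]
        push_cast
        ring
      rw [← hx, map_mul, hxE.1, one_mul, ih]
  -- the polynomial
  obtain ⟨t, ht⟩ : ∃ t : GaloisField p q, t = (a - 1)⁻¹ := ⟨_, rfl⟩
  rw [← ht] at hN
  have hPeval : ∀ c : ZMod p,
      (∏ i ∈ Finset.range q, (X + C (t ^ p ^ i)) : (GaloisField p q)[X]).eval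
        (algebraMap (ZMod p) (GaloisField p q) c) =
      algebraMap (ZMod p) (GaloisField p q)
        (Algebra.norm (ZMod p) (t + algebraMap (ZMod p) (GaloisField p q) c)) := by
    intro c
    rw [FiniteField.algebraMap_norm_eq_prod_pow, GaloisField.finrank p hq0, Nat.card_zmod,
      eval_prod]
    apply Finset.prod_congr rfl
    intro i _
    simp only [eval_add, eval_X, eval_C]
    rw [add_pow_char_pow, add_comm]
    congr 1
    rw [← map_pow, ZMod.pow_card_pow]
  have hmonic : (∏ i ∈ Finset.range q, (X + C (t ^ p ^ i)) : (GaloisField p q)[X]).Monic :=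
    monic_prod_of_monic _ _ (fun i _ => monic_X_add_C _)
  have hdeg : (∏ i ∈ Finset.range q, (X + C (t ^ p ^ i)) : (GaloisField p q)[X]).natDegree = q := by
    rw [natDegree_prod_of_monic _ _ (fun i _ => monic_X_add_C _),
      Finset.sum_congr rfl (fun i _ => natDegree_X_add_C (t ^ p ^ i)), Finset.sum_const,
      Finset.card_range, smul_eq_mul, mul_one]
  have hQdeg : ((∏ i ∈ Finset.range q, (X + C (t ^ p ^ i)) : (GaloisField p q)[X]) -
      C (algebraMap (ZMod p) (GaloisField p q) (Algebra.norm (ZMod p) t))).natDegree = q := by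
    rw [natDegree_sub_C, hdeg]
  have hQ0 : ((∏ i ∈ Finset.range q, (X + C (t ^ p ^ i)) : (GaloisField p q)[X]) -
      C (algebraMap (ZMod p) (GaloisField p q) (Algebra.norm (ZMod p) t))) ≠ 0 := by
    intro h0
    rw [h0, natDegree_zero] at hQdeg
    exact hq0 hQdeg.symm
  have hroot : ∀ c : ZMod p, algebraMap (ZMod p) (GaloisField p q) c ∈
      ((∏ i ∈ Finset.range q, (X + C (t ^ p ^ i)) : (GaloisField p q)[X]) -
      C (algebraMap (ZMod p) (GaloisField p q) (Algebra.norm (ZMod p) t))).roots := by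
    intro c
    rw [mem_roots hQ0, IsRoot, eval_sub, eval_C, hPeval, sub_eq_zero]
    congr 1
    have h5 := hN c.val
    have h6 : ((c.val : ℕ) : GaloisField p q) = algebraMap (ZMod p) (GaloisField p q) c := by
      rw [← map_natCast (algebraMap (ZMod p) (GaloisField p q)), ZMod.natCast_zmod_val]
    rw [h6] at h5
    exact h5
  classical
  have hZ : (Finset.univ.image (algebraMap (ZMod p) (GaloisField p q))).val ⊆
      ((∏ i ∈ Finset.range q, (X + C (t ^ p ^ i)) : (GaloisField p q)[X]) -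
      C (algebraMap (ZMod p) (GaloisField p q) (Algebra.norm (ZMod p) t))).roots := by
    intro x hx
    rw [Finset.mem_val, Finset.mem_image] at hx
    obtain ⟨c, -, rfl⟩ := hx
    exact hroot c
  have h7 := card_le_degree_of_subset_roots hZ
  rw [hQdeg, Finset.card_image_of_injective _ (algebraMap (ZMod p) (GaloisField p q)).injective,
    Finset.card_univ, ZMod.card] at h7
  exact h7

end Cfsg.Agent.H2.NormOne
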