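import Mathlib

set_option autoImplicit false

namespace Cfsg.Agent.H2.OTD2

universe u

/-- Piece D2 of S3998: counting along the fibres of the quotient map. -/
theorem ot_card_fiber {G : Type u} [Group G] [Finite G] (N : Subgroup G) [N.Normal] (m : ℕ) :
    Nat.card {g : G // orderOf (QuotientGroup.mk g : G ⧸ N) = m}
      = Nat.card N * Nat.card {x : G ⧸ N // orderOf x = m} := by
  classical
  have e := QuotientGroup.preimageMkEquivSubgroupProdSet N {x : G ⧸ N | orderOf x = m}
  have h1 : Nat.card {g : G // orderOf (QuotientGroup.mk g : G ⧸ N) = m}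
      = Nat.card ↥(QuotientGroup.mk ⁻¹' {x : G ⧸ N | orderOf x = m} : Set G) := by
    refine Nat.card_congr (Equiv.subtypeEquivRight ?_)
    intro g
    simp
  rw [h1, Nat.card_congr e, Nat.card_prod]
  rfl

end Cfsg.Agent.H2.OTD2
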