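import Mathlib

/-!
# One-point extension of a multiply transitive group (helper2)
-/

set_option autoImplicit false

namespace Cfsg.Agent.H2.OnePt

open Equiv

variable {X : Type*}

theorem perm_apply_inv {α : Type*} (f : Equiv.Perm α) (a : α) : f (f⁻¹ a) = a := by
  rw [Equiv.Perm.inv_def]; exact f.apply_symm_apply a

theorem perm_inv_apply {α : Type*} (f : Equiv.Perm α) (a : α) : f⁻¹ (f a) = a := by
  rw [Equiv.Perm.inv_def]; exact f.symm_apply_apply a

theorem h_inv_eq {α : Type*} (h : Equiv.Perm α) : h⁻¹ = h * (h ^ 2)⁻¹ := by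
  rw [pow_two]; group

/-- an embedding `Fin k ↪ X` (`2 ≤ k`) with prescribed first two values -/
theorem exists_embedding_two (k : ℕ) (hk : 2 ≤ k) (e : Fin k ↪ X) (p q : X) (hpq : p ≠ q) :
    ∃ e' : Fin k ↪ X, e' ⟨0, by omega⟩ = p ∧ e' ⟨1, by omega⟩ = q := by
  classical
  let e₁ : Fin k ↪ X := e.trans (Equiv.swap (e ⟨0, by omega⟩) p).toEmbedding
  have he₁0 : e₁ ⟨0, by omega⟩ = p := by
    simp [e₁]
  have he₁1 : e₁ ⟨1, by omega⟩ ≠ p := by
    rw [← he₁0]
    intro h
    have := e₁.injective h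
    simp at this
  let e₂ : Fin k ↪ X := e₁.trans (Equiv.swap (e₁ ⟨1, by omega⟩) q).toEmbedding
  refine ⟨e₂, ?_, ?_⟩
  · show Equiv.swap (e₁ ⟨1, by omega⟩) q (e₁ ⟨0, by omega⟩) = p
    rw [he₁0]
    exact Equiv.swap_apply_of_ne_of_ne (Ne.symm he₁1) hpq
  · show Equiv.swap (e₁ ⟨1, by omega⟩) q (e₁ ⟨1, by omega⟩) = q
    exact Equiv.swap_apply_left _ _

/-- an embedding `Fin k ↪ X` (`1 ≤ k`) with prescribed first value -/
theorem exists_embedding_one (k : ℕ) (hk : 1 ≤ k) (e : Fin k ↪ X) (p : X) :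
    ∃ e' : Fin k ↪ X, e' ⟨0, by omega⟩ = p := by
  classical
  refine ⟨e.trans (Equiv.swap (e ⟨0, by omega⟩) p).toEmbedding, ?_⟩
  simp

section

variable (G : Subgroup (Equiv.Perm (Option X))) (hfix : ∀ f ∈ G, f none = none)
  (k : ℕ) (hk : 2 ≤ k) (hkX : Nonempty (Fin k ↪ X))
  (htrans : ∀ a b : Fin k ↪ X, ∃ f ∈ G, ∀ i, f (some (a i)) = some (b i))

include hk hkX htrans in
/-- `G` is transitive on `X` -/
theorem trans_one (p q : X) : ∃ f ∈ G, f (some p) = some q := by
  obtain ⟨e⟩ := hkX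
  obtain ⟨a, ha⟩ := exists_embedding_one k (by omega) e p
  obtain ⟨b, hb⟩ := exists_embedding_one k (by omega) e q
  obtain ⟨f, hf, hfab⟩ := htrans a b
  refine ⟨f, hf, ?_⟩
  have := hfab ⟨0, by omega⟩
  rwa [ha, hb] at this

include hk hkX htrans in
/-- `G` is 2-transitive on `X` -/
theorem trans_two (p q p' q' : X) (hpq : p ≠ q) (hpq' : p' ≠ q') :
    ∃ f ∈ G, f (some p) = some p' ∧ f (some q) = some q' := by
  obtain ⟨e⟩ := hkX
  obtain ⟨a, ha0, ha1⟩ := exists_embedding_two k hk e p q hpq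
  obtain ⟨b, hb0, hb1⟩ := exists_embedding_two k hk e p' q' hpq'
  obtain ⟨f, hf, hfab⟩ := htrans a b
  refine ⟨f, hf, ?_, ?_⟩
  · have := hfab ⟨0, by omega⟩
    rwa [ha0, hb0] at this
  · have := hfab ⟨1, by omega⟩
    rwa [ha1, hb1] at this

variable (h g : Equiv.Perm (Option X)) (hg : g ∈ G) (x y : X)
  (h1 : h none = some x) (h2 : h (some x) = none) (h3 : h (some y) = some y)
  (h4 : g (some x) = some y) (h5 : g (some y) = some x)
  (h6 : (g * h) ^ 3 ∈ G) (h7 : h ^ 2 ∈ G)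
  (h8 : ∀ f ∈ G, f (some x) = some x → h * f * h ∈ G ∧ (h * f * h) (some x) = some x)

/-- the union `G ∪ G h G` -/
def DD : Set (Equiv.Perm (Option X)) := {f | f ∈ G ∨ ∃ a ∈ G, ∃ b ∈ G, f = a * h * b}

theorem DD_mul_right {f : Equiv.Perm (Option X)} (hf : f ∈ DD G h) {b : Equiv.Perm (Option X)}
    (hb : b ∈ G) : f * b ∈ DD G h := by
  rcases hf with hf | ⟨a, ha, c, hc, rfl⟩
  · exact Or.inl (G.mul_mem hf hb)
  · exact Or.inr ⟨a, ha, c * b, G.mul_mem hc hb, by group⟩

theorem DD_mul_left {f : Equiv.Perm (Option X)} (hf : f ∈ DD G h) {b : Equiv.Perm (Option X)}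
    (hb : b ∈ G) : b * f ∈ DD G h := by
  rcases hf with hf | ⟨a, ha, c, hc, rfl⟩
  · exact Or.inl (G.mul_mem hb hf)
  · exact Or.inr ⟨b * a, G.mul_mem hb ha, c, hc, by group⟩

include hg h6 h7 in
/-- `h⁻¹ g h⁻¹ ∈ G h G` -/
theorem hinv_g_hinv_mem : ∃ a ∈ G, ∃ b ∈ G, h⁻¹ * g * h⁻¹ = a * h * b := by
  refine ⟨(h ^ 2)⁻¹ * g⁻¹ * (g * h) ^ 3, ?_, (h ^ 2)⁻¹ * g⁻¹ * (h ^ 2)⁻¹, ?_, ?_⟩
  · exact G.mul_mem (G.mul_mem (G.inv_mem h7) (G.inv_mem hg)) h6
  · exact G.mul_mem (G.mul_mem (G.inv_mem h7) (G.inv_mem hg)) (G.inv_mem h7)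
  · rw [show (g * h) ^ 3 = g * h * (g * h) * (g * h) by rw [pow_succ, pow_two],
      show h ^ 2 = h * h from pow_two h]
    group

include hfix hk hkX htrans hg h2 h3 h4 h5 h6 h7 h8 in
/-- the key step: `h a h ∈ G ∪ G h G` for `a ∈ G` -/
theorem h_mul_h_mem (a : Equiv.Perm (Option X)) (ha : a ∈ G) : h * a * h ∈ DD G h := by
  have hxy : x ≠ y := by
    rintro rfl
    rw [h2] at h3
    exact Option.some_ne_none _ h3.symm
  by_cases hax : a (some x) = some x
  · exact Or.inl (h8 a ha hax).1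
  · -- `a⁻¹ x = v ≠ x`
    have hinv : a⁻¹ (some x) ≠ none := by
      intro hn
      have : a (a⁻¹ (some x)) = a none := by rw [hn]
      rw [perm_apply_inv, hfix a ha] at this
      exact Option.some_ne_none _ this
    obtain ⟨v, hv⟩ := Option.ne_none_iff_exists'.mp hinv
    have hvx : v ≠ x := by
      rintro rfl
      apply hax
      have : a (a⁻¹ (some v)) = a (some v) := by rw [hv]
      rw [perm_apply_inv] at this
      exact this.symm
    -- `f₂ ∈ G_x` with `f₂ v = y`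
    obtain ⟨f₂, hf₂, hf₂x, hf₂v⟩ := trans_two G k hk hkX htrans x v x y (Ne.symm hvx) hxy
    -- `f₁ = a (g f₂)⁻¹ ∈ G_x`
    have hf₁ : a * (g * f₂)⁻¹ ∈ G := G.mul_mem ha (G.inv_mem (G.mul_mem hg hf₂))
    have hf₁x : (a * (g * f₂)⁻¹) (some x) = some x := by
      have e1 : (g * f₂) (some v) = some x := by
        rw [Equiv.Perm.mul_apply, hf₂v, h5]
      have e2 : (g * f₂)⁻¹ (some x) = some v := by
        rw [← e1, perm_inv_apply]
      rw [Equiv.Perm.mul_apply, e2, ← hv, perm_apply_inv]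
    obtain ⟨b, hb, c, hc, hbc⟩ := hinv_g_hinv_mem G h g hg h6 h7
    have e : h * a * h = (h * (a * (g * f₂)⁻¹) * h) * (h⁻¹ * g * h⁻¹) * (h * f₂ * h) := by group
    rw [e, hbc]
    refine Or.inr ⟨h * (a * (g * f₂)⁻¹) * h * b, G.mul_mem (h8 _ hf₁ hf₁x).1 hb,
      c * (h * f₂ * h), G.mul_mem hc (h8 _ hf₂ hf₂x).1, by group⟩

include hfix hk hkX htrans hg h2 h3 h4 h5 h6 h7 h8 in
/-- the group generated by `G` and `h` is `G ∪ G h G` -/
theorem closure_subset_DD :
    ∀ f ∈ Subgroup.closure ((G : Set (Equiv.Perm (Option X))) ∪ {h}), f ∈ DD G h := by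
  intro f hf
  have hh : ∀ d ∈ DD G h, h * d ∈ DD G h := by
    rintro d (hd | ⟨a, ha, b, hb, rfl⟩)
    · exact Or.inr ⟨1, G.one_mem, d, hd, by group⟩
    · have := h_mul_h_mem G hfix k hk hkX htrans h g hg x y h2 h3 h4 h5 h6 h7 h8 a ha
      have e : h * (a * h * b) = (h * a * h) * b := by group
      rw [e]
      exact DD_mul_right G h this hb
  induction hf using Subgroup.closure_induction_left with
  | one => exact Or.inl G.one_mem
  | mul_left s hs d _ ih =>
    rcases hs with hs | hs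
    · exact DD_mul_left G h ih hs
    · rw [Set.mem_singleton_iff] at hs
      rw [hs]; exact hh d ih
  | inv_mul_cancel s hs d _ ih =>
    rcases hs with hs | hs
    · exact DD_mul_left G h ih (G.inv_mem hs)
    · rw [Set.mem_singleton_iff] at hs
      rw [hs, h_inv_eq h]
      have e : h * (h ^ 2)⁻¹ * d = h * ((h ^ 2)⁻¹ * d) := by group
      rw [e]
      exact hh _ (DD_mul_left G h ih (G.inv_mem h7))

include hfix hk hkX htrans hg h1 h2 h3 h4 h5 h6 h7 h8 in
theorem stabilizer_none (f : Equiv.Perm (Option X))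
    (hf : f ∈ Subgroup.closure ((G : Set (Equiv.Perm (Option X))) ∪ {h})) :
    f none = none ↔ f ∈ G := by
  constructor
  · intro hfn
    rcases closure_subset_DD G hfix k hk hkX htrans h g hg x y h2 h3 h4 h5 h6 h7 h8 f hf with
      hfG | ⟨a, ha, b, hb, rfl⟩
    · exact hfG
    · exfalso
      rw [Equiv.Perm.mul_apply, Equiv.Perm.mul_apply, hfix b hb, h1] at hfn
      have : a (some x) = a none := by rw [hfn, hfix a ha]
      exact Option.some_ne_none _ (a.injective this)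
  · exact hfix f

include hk hkX htrans h2 in
/-- every point can be moved to `none` -/
theorem exists_move_to_none (p : Option X) :
    ∃ l ∈ Subgroup.closure ((G : Set (Equiv.Perm (Option X))) ∪ {h}), l p = none := by
  have hG : G ≤ Subgroup.closure ((G : Set (Equiv.Perm (Option X))) ∪ {h}) := by
    intro f hf
    exact Subgroup.subset_closure (Or.inl hf)
  have hh : h ∈ Subgroup.closure ((G : Set (Equiv.Perm (Option X))) ∪ {h}) :=
    Subgroup.subset_closure (Or.inr rfl)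
  rcases p with _ | w
  · exact ⟨1, Subgroup.one_mem _, rfl⟩
  · obtain ⟨f, hf, hfw⟩ := trans_one G k hk hkX htrans w x
    refine ⟨h * f, Subgroup.mul_mem _ hh (hG hf), ?_⟩
    rw [Equiv.Perm.mul_apply, hfw, h2]

include hfix htrans in
/-- `G` is transitive on the `(k+1)`-tuples starting with `none` -/
theorem exists_map_of_zero_none (a b : Fin (k + 1) ↪ Option X) (ha : a 0 = none)
    (hb : b 0 = none) : ∃ f ∈ G, ∀ i, f (a i) = b i := by
  have ha' : ∀ i : Fin k, ∃ v : X, a i.succ = some v := by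
    intro i
    apply Option.ne_none_iff_exists'.mp
    rw [← ha]
    intro h
    exact Fin.succ_ne_zero i (a.injective h)
  have hb' : ∀ i : Fin k, ∃ v : X, b i.succ = some v := by
    intro i
    apply Option.ne_none_iff_exists'.mp
    rw [← hb]
    intro h
    exact Fin.succ_ne_zero i (b.injective h)
  choose a' ha'' using ha'
  choose b' hb'' using hb'
  have hinj : ∀ (c : Fin (k + 1) ↪ Option X) (c' : Fin k → X),
      (∀ i, c i.succ = some (c' i)) → Function.Injective c' := by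
    intro c c' hc i j hij
    have : c i.succ = c j.succ := by rw [hc, hc, hij]
    exact Fin.succ_injective _ (c.injective this)
  obtain ⟨f, hf, hfab⟩ := htrans ⟨a', hinj a a' ha''⟩ ⟨b', hinj b b' hb''⟩
  refine ⟨f, hf, ?_⟩
  intro i
  refine Fin.cases ?_ (fun j => ?_) i
  · rw [ha, hb]; exact hfix f hf
  · rw [ha'', hb'']; exact hfab j

include hfix hk hkX htrans h2 in
theorem multiply_pretransitive :
    MulAction.IsMultiplyPretransitive
      (Subgroup.closure ((G : Set (Equiv.Perm (Option X))) ∪ {h})) (Option X) (k + 1) := by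
  have hG : G ≤ Subgroup.closure ((G : Set (Equiv.Perm (Option X))) ∪ {h}) := by
    intro f hf
    exact Subgroup.subset_closure (Or.inl hf)
  refine ⟨fun a b => ?_⟩
  obtain ⟨la, hla, hla0⟩ := exists_move_to_none G k hk hkX htrans h x h2 (a 0)
  obtain ⟨lb, hlb, hlb0⟩ := exists_move_to_none G k hk hkX htrans h x h2 (b 0)
  obtain ⟨f, hf, hfab⟩ := exists_map_of_zero_none G hfix k htrans
    ((⟨la, hla⟩ : Subgroup.closure ((G : Set (Equiv.Perm (Option X))) ∪ {h})) • a)
    ((⟨lb, hlb⟩ : Subgroup.closure ((G : Set (Equiv.Perm (Option X))) ∪ {h})) • b) hla0 hlb0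
  refine ⟨⟨lb⁻¹ * f * la, Subgroup.mul_mem _ (Subgroup.mul_mem _ (Subgroup.inv_mem _ hlb)
    (hG hf)) hla⟩, ?_⟩
  ext i : 1
  have h3 : f (la (a i)) = lb (b i) := hfab i
  show (lb⁻¹ * f * la) (a i) = b i
  rw [Equiv.Perm.mul_apply, Equiv.Perm.mul_apply, h3, perm_inv_apply]

end

end Cfsg.Agent.H2.OnePt
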