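import Mathlib

set_option autoImplicit false

namespace Cfsg.Agent.H2.OrbitPerm

open MulAction
open scoped Pointwise

/-! ### Abstract lemma: normalizer of a transitive `p`-group on `p` points -/

section abstract

variable {X : Type*} [Fintype X] [DecidableEq X] {p : ℕ} [hp : Fact p.Prime]

theorem card_of_transitive (hX : Fintype.card X = p) (S : Subgroup (Equiv.Perm X))
    (hS : IsPGroup p S) (htr : ∀ a b : X, ∃ s ∈ S, s a = b) : Nat.card S = p := by
  obtain ⟨e, he⟩ := hS.exists_card_eq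
  have hdvd : Nat.card S ∣ (Fintype.card X).factorial := by
    have := Subgroup.card_subgroup_dvd_card S
    rwa [Nat.card_eq_fintype_card (α := Equiv.Perm X), Fintype.card_perm] at this
  rw [he, hX] at hdvd
  have he1 : e ≤ 1 := by
    by_contra hcon
    have h2 : p ^ 2 ∣ p.factorial := (pow_dvd_pow p (by omega)).trans hdvd
    have hpos : 0 < p := hp.out.pos
    obtain ⟨m, hm⟩ : ∃ m, p = m + 1 := ⟨p - 1, by omega⟩
    rw [hm, Nat.factorial_succ, ← hm, pow_two] at h2
    have h3 : p ∣ m.factorial := (Nat.mul_dvd_mul_iff_left hpos).mp h2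
    have := (hp.out.dvd_factorial).mp h3
    omega
  have he0 : e ≠ 0 := by
    rintro rfl
    have h1 : Nat.card S = 1 := by rw [he, pow_zero]
    have hbot : S = ⊥ := Subgroup.card_eq_one.mp h1
    have h2 : 1 < Fintype.card X := by rw [hX]; exact hp.out.one_lt
    obtain ⟨a, b, hab⟩ := Fintype.exists_pair_of_one_lt_card h2
    obtain ⟨s, hs, hsa⟩ := htr a b
    rw [hbot, Subgroup.mem_bot] at hs
    rw [hs] at hsa
    exact hab hsa
  have : e = 1 := by omega
  rw [he, this, pow_one]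

/-- an element centralizing `S` lies in `S` -/
theorem mem_of_centralizes (hX : Fintype.card X = p) (S : Subgroup (Equiv.Perm X))
    (hS : IsPGroup p S) (htr : ∀ a b : X, ∃ s ∈ S, s a = b) (y : Equiv.Perm X)
    (hy : ∀ s ∈ S, y * s = s * y) : y ∈ S := by
  have hcard := card_of_transitive hX S hS htr
  have : Fact (Nat.card S).Prime := ⟨by rw [hcard]; exact hp.out⟩
  have : IsCyclic S := isCyclic_of_prime_card rfl
  have hcomm : ∀ s ∈ S, ∀ t ∈ S, s * t = t * s := by
    intro s hs t ht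
    obtain ⟨⟨σ, hσS⟩, hσ⟩ := IsCyclic.exists_generator (α := S)
    obtain ⟨n, hn⟩ := Subgroup.mem_zpowers_iff.mp (hσ ⟨s, hs⟩)
    obtain ⟨m, hm⟩ := Subgroup.mem_zpowers_iff.mp (hσ ⟨t, ht⟩)
    have h1 : s = σ ^ n := by
      have := congrArg Subtype.val hn
      simpa using this.symm
    have h2 : t = σ ^ m := by
      have := congrArg Subtype.val hm
      simpa using this.symm
    rw [h1, h2]
    exact (Commute.zpow_zpow_self σ n m).eq
  have h2 : 0 < Fintype.card X := by rw [hX]; exact hp.out.pos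
  obtain ⟨x₀⟩ := Fintype.card_pos_iff.mp h2
  obtain ⟨s, hs, hsx⟩ := htr x₀ (y x₀)
  have : y = s := by
    ext x
    obtain ⟨t, ht, htx⟩ := htr x₀ x
    rw [← htx]
    calc y (t x₀) = (y * t) x₀ := rfl
      _ = (t * y) x₀ := by rw [hy t ht]
      _ = t (y x₀) := rfl
      _ = t (s x₀) := by rw [hsx]
      _ = (t * s) x₀ := rfl
      _ = (s * t) x₀ := by rw [hcomm t ht s hs]
      _ = s (t x₀) := rfl
  rw [this]; exact hs

theorem pow_eq_one_of_mem (hX : Fintype.card X = p) (S : Subgroup (Equiv.Perm X))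
    (hS : IsPGroup p S) (htr : ∀ a b : X, ∃ s ∈ S, s a = b) (s : Equiv.Perm X) (hs : s ∈ S) :
    s ^ p = 1 := by
  have hcard := card_of_transitive hX S hS htr
  have h := pow_card_eq_one' (G := S) (x := ⟨s, hs⟩)
  rw [hcard] at h
  exact congrArg Subtype.val h

/-- commutators of elements normalizing `S` lie in `S` -/
theorem comm_mem (hX : Fintype.card X = p) (S : Subgroup (Equiv.Perm X))
    (hS : IsPGroup p S) (htr : ∀ a b : X, ∃ s ∈ S, s a = b) (a b : Equiv.Perm X)
    (ha : ∀ s ∈ S, a * s * a⁻¹ ∈ S) (hb : ∀ s ∈ S, b * s * b⁻¹ ∈ S) :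
    a * b * a⁻¹ * b⁻¹ ∈ S := by
  have hcard := card_of_transitive hX S hS htr
  have : Fact (Nat.card S).Prime := ⟨by rw [hcard]; exact hp.out⟩
  have : IsCyclic S := isCyclic_of_prime_card rfl
  obtain ⟨⟨σ, hσS⟩, hσ⟩ := IsCyclic.exists_generator (α := S)
  have hgen : ∀ s ∈ S, ∃ n : ℤ, s = σ ^ n := by
    intro s hs
    obtain ⟨n, hn⟩ := Subgroup.mem_zpowers_iff.mp (hσ ⟨s, hs⟩)
    refine ⟨n, ?_⟩
    have := congrArg Subtype.val hn
    simpa using this.symm
  -- inverse also normalize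
  have ha' : ∀ s ∈ S, a⁻¹ * s * a ∈ S := by
    intro s hs
    -- conjugation by a is an injective self-map of the finite set S
    have hinj : Function.Injective (fun t : S => (⟨a * t * a⁻¹, ha t t.2⟩ : S)) := by
      intro t t' h
      have := congrArg Subtype.val h
      simp only [mul_left_inj, mul_right_inj] at this
      exact Subtype.ext this
    have : Finite S := Nat.finite_of_card_ne_zero (by rw [hcard]; exact hp.out.ne_zero)
    obtain ⟨t, ht⟩ := (Finite.injective_iff_surjective.mp hinj) ⟨s, hs⟩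
    have h1 : a * t * a⁻¹ = s := congrArg Subtype.val ht
    rw [← h1]
    simp only [mul_assoc, inv_mul_cancel_left, inv_mul_cancel, mul_one]
    exact t.2
  obtain ⟨i, hi⟩ := hgen _ (ha σ hσS)
  obtain ⟨j, hj⟩ := hgen _ (hb σ hσS)
  have hconj_pow : ∀ (g : Equiv.Perm X) (n : ℤ), g * σ ^ n * g⁻¹ = (g * σ * g⁻¹) ^ n := by
    intro g n
    exact (conj_zpow (a := g) (b := σ) (i := n)).symm
  have e1 : (a * b) * σ * (a * b)⁻¹ = σ ^ (i * j) := by
    calc (a * b) * σ * (a * b)⁻¹ = a * (b * σ * b⁻¹) * a⁻¹ := by group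
      _ = a * σ ^ j * a⁻¹ := by rw [hj]
      _ = (a * σ * a⁻¹) ^ j := hconj_pow a j
      _ = (σ ^ i) ^ j := by rw [hi]
      _ = σ ^ (i * j) := (zpow_mul σ i j).symm
  have e2 : (b * a) * σ * (b * a)⁻¹ = σ ^ (i * j) := by
    calc (b * a) * σ * (b * a)⁻¹ = b * (a * σ * a⁻¹) * b⁻¹ := by group
      _ = b * σ ^ i * b⁻¹ := by rw [hi]
      _ = (b * σ * b⁻¹) ^ i := hconj_pow b i
      _ = (σ ^ j) ^ i := by rw [hj]
      _ = σ ^ (i * j) := by rw [← zpow_mul, mul_comm]
  -- c = (b a)⁻¹ (a b) commutes with σ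
  set c := (b * a)⁻¹ * (a * b) with hc
  have hcσ : c * σ = σ * c := by
    have h3 : (a * b) * σ * (a * b)⁻¹ = (b * a) * σ * (b * a)⁻¹ := by rw [e1, e2]
    have h4 : (b * a)⁻¹ * ((a * b) * σ * (a * b)⁻¹) * (b * a) = σ := by
      rw [h3]; group
    calc c * σ = ((b * a)⁻¹ * ((a * b) * σ * (a * b)⁻¹) * (b * a)) * c := by
          rw [hc]; group
      _ = σ * c := by rw [h4]
  have hcS : c ∈ S := by
    apply mem_of_centralizes hX S hS htr
    intro s hs
    obtain ⟨n, rfl⟩ := hgen s hs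
    have : Commute c σ := hcσ
    exact (this.zpow_right n).eq
  have : a * b * a⁻¹ * b⁻¹ = (b * a) * c * (b * a)⁻¹ := by rw [hc]; group
  rw [this]
  have h5 := hb _ (ha c hcS)
  have h6 : (b * a) * c * (b * a)⁻¹ = b * (a * c * a⁻¹) * b⁻¹ := by group
  rw [h6]; exact h5

end abstract


/-! ### The action on the nontrivial orbits of a normal subgroup -/

section action

variable {K : Type*} [Group K] (U : Subgroup K) [hU : U.Normal] (α : Type*) [MulAction K α]

/-- the nontrivial `U`-orbits, as a `K`-set -/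
def orbs : SubMulAction K (Set α) where
  carrier := {B | ∃ ω, ω ∉ fixedPoints U α ∧ B = orbit U ω}
  smul_mem' := by
    rintro g B ⟨ω, hω, rfl⟩
    refine ⟨g • ω, ?_, smul_orbit_eq_orbit_smul U ω g⟩
    intro h
    apply hω
    have := smul_mem_fixedPoints_of_normal (H := U) g⁻¹ h
    simpa using this

/-- the action on nontrivial orbits -/
def orbHom : K →* Equiv.Perm (orbs U α) := toPermHom K (orbs U α)

/-- elements fixing each nontrivial `U`-orbit -/
def M : Subgroup K := (orbHom U α).ker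

instance : (M U α).Normal := by unfold M; infer_instance

variable {α}

theorem mem_M_iff (m : K) :
    m ∈ M U α ↔ ∀ ω, ω ∉ fixedPoints U α → m • orbit U ω = orbit U ω := by
  unfold M
  rw [MonoidHom.mem_ker]
  constructor
  · intro h ω hω
    have h1 := DFunLike.congr_fun h (⟨orbit U ω, ω, hω, rfl⟩ : orbs U α)
    have h2 := congrArg Subtype.val h1
    exact h2
  · intro h
    ext ⟨B, ω, hω, rfl⟩ : 2
    exact h ω hω

theorem le_M : U ≤ M U α := by
  intro u hu
  rw [mem_M_iff]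
  intro ω _
  rw [smul_orbit_eq_orbit_smul U ω u]
  exact orbit_smul (⟨u, hu⟩ : U) ω

theorem smul_mem_orbit_of_mem_M {m : K} (hm : m ∈ M U α) {ω x : α} (hω : ω ∉ fixedPoints U α)
    (hx : x ∈ orbit U ω) : m • x ∈ orbit U ω := by
  have := (mem_M_iff U m).mp hm ω hω
  rw [← this]
  exact Set.smul_mem_smul_set hx

/-- index bound -/
theorem index_M_dvd [Finite α] : (M U α).index ∣ (Nat.card (orbs U α)).factorial := by
  unfold M
  rw [Subgroup.index_ker]
  have h1 := Subgroup.card_subgroup_dvd_card (orbHom U α).range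
  rwa [Nat.card_perm] at h1


theorem not_mem_fixedPoints_of_mem_orbit {ω x : α} (hω : ω ∉ fixedPoints U α)
    (hx : x ∈ orbit U ω) : x ∉ fixedPoints U α := by
  intro h
  apply hω
  obtain ⟨u, rfl⟩ := hx
  have h1 : u⁻¹ • (u • ω) = u • ω := h u⁻¹
  rw [inv_smul_smul] at h1
  rw [h1]; exact h

/-- counting the nontrivial orbits -/
theorem card_orbs_mul [Finite α] (p : ℕ)
    (h1 : ∀ ω, ω ∉ fixedPoints U α → Nat.card (orbit U ω) = p) :
    Nat.card (orbs U α) * p = Nat.card ↥((fixedPoints U α)ᶜ : Set α) := by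
  classical
  let f : ↥((fixedPoints U α)ᶜ : Set α) → orbs U α := fun ω => ⟨orbit U (ω : α), ω, ω.2, rfl⟩
  have hfib : ∀ B : orbs U α, Nat.card {ω // f ω = B} = p := by
    rintro ⟨B, ω₀, hω₀, rfl⟩
    rw [← h1 ω₀ hω₀]
    apply Nat.card_congr
    refine
      { toFun := fun x => ⟨x.1.1, ?_⟩
        invFun := fun y => ⟨⟨y.1, not_mem_fixedPoints_of_mem_orbit U hω₀ y.2⟩, ?_⟩
        left_inv := fun x => rfl
        right_inv := fun y => rfl }
    · have := congrArg Subtype.val x.2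
      simp only [f] at this
      have h2 : (x.1 : α) ∈ orbit U (x.1 : α) := mem_orbit_self _
      rw [this] at h2
      exact h2
    · apply Subtype.ext
      simp only [f]
      exact orbit_eq_iff.mpr y.2
  have := Fintype.ofFinite (orbs U α)
  rw [← Nat.card_congr (Equiv.sigmaFiberEquiv f), Nat.card_sigma]
  simp only [hfib, Finset.sum_const, Finset.card_univ, smul_eq_mul, Nat.card_eq_fintype_card]


/-- the orbit of `ω`, as an `M`-set -/
def orbSub (ω : α) (hω : ω ∉ fixedPoints U α) : SubMulAction (M U α) α where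
  carrier := orbit U ω
  smul_mem' := fun m _ hx => smul_mem_orbit_of_mem_M U m.2 hω hx

section pointwise

variable [Finite α] {p : ℕ} [hp : Fact p.Prime] (hUp : IsPGroup p U)
  (h1 : ∀ ω, ω ∉ fixedPoints U α → Nat.card (orbit U ω) = p)

include hUp h1

/-- key facts about the restriction to one orbit -/
theorem restrict_facts (ω : α) (hω : ω ∉ fixedPoints U α) :
    ∃ (_ : Fintype (orbSub U ω hω)) (_ : DecidableEq (orbSub U ω hω))
      (S : Subgroup (Equiv.Perm (orbSub U ω hω))),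
      Fintype.card (orbSub U ω hω) = p ∧ IsPGroup p S ∧
      (∀ a b : orbSub U ω hω, ∃ s ∈ S, s a = b) ∧
      (∀ u : M U α, (u : K) ∈ U → toPermHom (M U α) (orbSub U ω hω) u ∈ S) ∧
      (∀ s ∈ S, ∃ u : M U α, (u : K) ∈ U ∧ toPermHom (M U α) (orbSub U ω hω) u = s) := by
  classical
  have hfin : Fintype (orbSub U ω hω) := Fintype.ofFinite _
  refine ⟨hfin, inferInstance, (U.subgroupOf (M U α)).map (toPermHom (M U α) (orbSub U ω hω)), ?_, ?_, ?_, ?_, ?_⟩
  · rw [← Nat.card_eq_fintype_card, ← h1 ω hω]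
    rfl
  · exact (hUp.comap_subtype (K := M U α)).map _
  · rintro ⟨a, u₁, rfl⟩ ⟨b, u₂, rfl⟩
    have hu : ((u₂ * u₁⁻¹ : U) : K) ∈ M U α := le_M U (u₂ * u₁⁻¹).2
    refine ⟨_, ⟨⟨_, hu⟩, Subgroup.mem_subgroupOf.mpr (u₂ * u₁⁻¹).2, rfl⟩, ?_⟩
    apply Subtype.ext
    show ((u₂ * u₁⁻¹ : U) : K) • ((u₁ : K) • ω) = (u₂ : K) • ω
    rw [smul_smul]
    congr 1
    simp
  · intro u hu
    exact ⟨u, Subgroup.mem_subgroupOf.mpr hu, rfl⟩
  · rintro s ⟨u, hu, rfl⟩
    exact ⟨u, Subgroup.mem_subgroupOf.mp hu, rfl⟩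

/-- `p`-th powers of commutators of elements of `M` fix all points outside the fixed points -/
theorem comm_pow_smul {a b : K} (ha : a ∈ M U α) (hb : b ∈ M U α) (ω : α)
    (hω : ω ∉ fixedPoints U α) : (a * b * a⁻¹ * b⁻¹) ^ p • ω = ω := by
  classical
  obtain ⟨hfin, hdec, S, hcard, hS, htr, hUS, hSU⟩ := restrict_facts U hUp h1 ω hω
  set ρ := toPermHom (M U α) (orbSub U ω hω) with hρ
  have hnorm : ∀ m : M U α, ∀ s ∈ S, ρ m * s * (ρ m)⁻¹ ∈ S := by
    intro m s hs
    obtain ⟨u, hu, rfl⟩ := hSU s hs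
    have : ρ m * ρ u * (ρ m)⁻¹ = ρ (m * u * m⁻¹) := by simp
    rw [this]
    apply hUS
    show (m : K) * (u : K) * (m : K)⁻¹ ∈ U
    exact hU.conj_mem _ hu _
  have h2 := comm_mem hcard S hS htr (ρ ⟨a, ha⟩) (ρ ⟨b, hb⟩) (hnorm _) (hnorm _)
  have h3 := pow_eq_one_of_mem hcard S hS htr _ h2
  have h4 : ρ ((⟨a, ha⟩ * ⟨b, hb⟩ * ⟨a, ha⟩⁻¹ * ⟨b, hb⟩⁻¹ : M U α) ^ p) = 1 := by
    rw [map_pow, map_mul, map_mul, map_mul, map_inv, map_inv]; exact h3
  have h5 := DFunLike.congr_fun h4 (⟨ω, mem_orbit_self _⟩ : orbSub U ω hω)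
  have h6 := congrArg Subtype.val h5
  exact h6

/-- `p`-th powers of elements of `M` centralizing `U` fix all points outside the fixed points -/
theorem cent_pow_smul {c : K} (hc : c ∈ M U α) (hcU : ∀ u ∈ U, c * u = u * c) (ω : α)
    (hω : ω ∉ fixedPoints U α) : c ^ p • ω = ω := by
  classical
  obtain ⟨hfin, hdec, S, hcard, hS, htr, hUS, hSU⟩ := restrict_facts U hUp h1 ω hω
  set ρ := toPermHom (M U α) (orbSub U ω hω) with hρ
  have h2 : ρ ⟨c, hc⟩ ∈ S := by
    apply mem_of_centralizes hcard S hS htr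
    intro s hs
    obtain ⟨u, hu, rfl⟩ := hSU s hs
    have e : (⟨c, hc⟩ : M U α) * u = u * ⟨c, hc⟩ := Subtype.ext (hcU _ hu)
    rw [← map_mul, ← map_mul, e]
  have h3 := pow_eq_one_of_mem hcard S hS htr _ h2
  have h4 : ρ ((⟨c, hc⟩ : M U α) ^ p) = 1 := by
    rw [map_pow]; exact h3
  have h5 := DFunLike.congr_fun h4 (⟨ω, mem_orbit_self _⟩ : orbSub U ω hω)
  have h6 := congrArg Subtype.val h5
  exact h6

end pointwise

end action

end Cfsg.Agent.H2.OrbitPerm
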