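import Mathlib
import Cfsg.Agent.H9.SemisimpleConj
import Cfsg.Agent.H9.SemisimpleExists
import Cfsg.Agent.S2387

/-!
# Conjugacy classes of elements of prime order `r` (prime to the characteristic) in `GL_n(q)` (helper2)
-/

set_option linter.unusedSectionVars false

namespace Cfsg.Agent.H2.OrderRClasses

open Polynomial UniqueFactorizationMonoid

variable {F : Type*} [Field F] [Fintype F] [DecidableEq F]

/-- the monic irreducible factors of the `r`-th cyclotomic polynomial -/
noncomputable def cycFactors (r : ℕ) (F : Type*) [Field F] [DecidableEq F] : Finset F[X] := by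
  classical exact (normalizedFactors (cyclotomic r F)).toFinset

theorem mem_cycFactors {r : ℕ} {f : F[X]} :
    f ∈ cycFactors r F ↔ f ∈ normalizedFactors (cyclotomic r F) := by
  classical
  unfold cycFactors
  rw [Multiset.mem_toFinset]

theorem cycFactors_irreducible {r : ℕ} {f : F[X]} (hf : f ∈ cycFactors r F) : Irreducible f :=
  irreducible_of_normalized_factor f (mem_cycFactors.mp hf)

theorem cycFactors_monic {r : ℕ} {f : F[X]} (hf : f ∈ cycFactors r F) : f.Monic := by
  have h1 := normalize_normalized_factor f (mem_cycFactors.mp hf)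
  rw [← h1]
  exact Polynomial.monic_normalize (cycFactors_irreducible hf).ne_zero

theorem cycFactors_dvd {r : ℕ} {f : F[X]} (hf : f ∈ cycFactors r F) : f ∣ cyclotomic r F :=
  dvd_of_mem_normalizedFactors (mem_cycFactors.mp hf)

theorem cycFactors_dvd_pow_sub_one {r : ℕ} (hr : r.Prime) {f : F[X]} (hf : f ∈ cycFactors r F) :
    f ∣ X ^ r - 1 := by
  have : Fact r.Prime := ⟨hr⟩
  rw [← cyclotomic_prime_mul_X_sub_one F r]
  exact (cycFactors_dvd hf).mul_right _

section CharPFacts

variable (p : ℕ) [Fact p.Prime] [CharP F p] {r : ℕ} (hr : r.Prime) (hrp : r ≠ p)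

include hr hrp

theorem cast_ne_zero : (r : F) ≠ 0 := by
  intro h0
  rw [CharP.cast_eq_zero_iff F p] at h0
  have hp : p.Prime := Fact.out
  exact hrp ((Nat.prime_dvd_prime_iff_eq hp hr).mp h0).symm

theorem squarefree_pow_sub_one : Squarefree (X ^ r - 1 : F[X]) := by
  have h := (separable_X_pow_sub_C (1 : F) (cast_ne_zero p hr hrp) one_ne_zero).squarefree
  rwa [map_one] at h

theorem X_sub_one_notMem : (X - 1 : F[X]) ∉ cycFactors r F := by
  intro hmem
  have : Fact r.Prime := ⟨hr⟩
  have h1 : (X - 1 : F[X]) * (X - 1) ∣ X ^ r - 1 := by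
    rw [← cyclotomic_prime_mul_X_sub_one F r]
    exact mul_dvd_mul_right (cycFactors_dvd hmem) _
  have h2 := squarefree_pow_sub_one p hr hrp (X - 1) h1
  have h3 : (X - 1 : F[X]) = X - C 1 := by rw [map_one]
  rw [h3] at h2
  exact Polynomial.not_isUnit_X_sub_C 1 h2

theorem cycFactors_natDegree {q : ℕ} (hq : Fintype.card F = q) {f : F[X]}
    (hf : f ∈ cycFactors r F) : f.natDegree = orderOf (q : ZMod r) := by
  have hp : p.Prime := Fact.out
  obtain ⟨k, -, hk⟩ := FiniteField.card F p
  have hn : p.Coprime r := (Nat.coprime_primes hp hr).mpr (Ne.symm hrp)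
  rw [natDegree_of_mem_normalizedFactors_cyclotomic hk hn (mem_cycFactors.mp hf),
    ← orderOf_units, ZMod.coe_unitOfCoprime, ← hq, hk]

theorem card_cycFactors {q : ℕ} (hq : Fintype.card F = q) :
    (cycFactors r F).card * orderOf (q : ZMod r) = r - 1 := by
  classical
  have hp : p.Prime := Fact.out
  obtain ⟨k, -, hk⟩ := FiniteField.card F p
  have hn : p.Coprime r := (Nat.coprime_primes hp hr).mpr (Ne.symm hrp)
  have h1 := normalizedFactors_cyclotomic_card (K := F) hk hn
  have h2 : orderOf (ZMod.unitOfCoprime (p ^ (k : ℕ)) (hn.pow_left k)) = orderOf (q : ZMod r) := by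
    rw [← orderOf_units, ZMod.coe_unitOfCoprime, ← hq, hk]
  rw [h2, Nat.totient_prime hr] at h1
  have h3 : (cycFactors r F).card = (r - 1) / orderOf (q : ZMod r) := by
    rw [← h1]
    unfold cycFactors
    congr!
  rw [h3]
  apply Nat.div_mul_cancel
  -- orderOf q ∣ r - 1
  have hq0 : (q : ZMod r) ≠ 0 := by
    rw [← hq, hk]
    intro h0
    rw [ZMod.natCast_eq_zero_iff] at h0
    have := hr.dvd_of_dvd_pow h0
    exact hrp ((Nat.prime_dvd_prime_iff_eq hr hp).mp this)
  have : Fact r.Prime := ⟨hr⟩
  exact ZMod.orderOf_dvd_card_sub_one hq0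

end CharPFacts

section ToPoly

variable {r : ℕ} (i n : ℕ)

/-- the multiset of irreducible factors attached to a multiset of cyclotomic factors -/
noncomputable def factorMultiset (M : Multiset ↥(cycFactors r F)) : Multiset F[X] :=
  Multiset.replicate (n - i * Multiset.card M) (X - 1) + M.map Subtype.val

/-- the polynomial attached to a multiset of cyclotomic factors -/
noncomputable def toPoly (M : Multiset ↥(cycFactors r F)) : F[X] := (factorMultiset i n M).prod

theorem mem_factorMultiset {M : Multiset ↥(cycFactors r F)} {s : F[X]}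
    (hs : s ∈ factorMultiset i n M) : s = X - 1 ∨ s ∈ cycFactors r F := by
  unfold factorMultiset at hs
  rw [Multiset.mem_add] at hs
  rcases hs with hs | hs
  · left
    exact Multiset.eq_of_mem_replicate hs
  · right
    rw [Multiset.mem_map] at hs
    obtain ⟨f, -, rfl⟩ := hs
    exact f.2

theorem X_sub_one_monic : (X - 1 : F[X]).Monic := by
  have h3 : (X - 1 : F[X]) = X - C 1 := by rw [map_one]
  rw [h3]
  exact monic_X_sub_C 1

theorem X_sub_one_irreducible : Irreducible (X - 1 : F[X]) := by
  have h3 : (X - 1 : F[X]) = X - C 1 := by rw [map_one]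
  rw [h3]
  exact irreducible_X_sub_C 1

theorem factorMultiset_monic {M : Multiset ↥(cycFactors r F)} {s : F[X]}
    (hs : s ∈ factorMultiset i n M) : s.Monic := by
  rcases mem_factorMultiset i n hs with rfl | h
  · exact X_sub_one_monic
  · exact cycFactors_monic h

theorem factorMultiset_irreducible {M : Multiset ↥(cycFactors r F)} {s : F[X]}
    (hs : s ∈ factorMultiset i n M) : Irreducible s := by
  rcases mem_factorMultiset i n hs with rfl | h
  · exact X_sub_one_irreducible
  · exact cycFactors_irreducible h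

theorem toPoly_monic (M : Multiset ↥(cycFactors r F)) : (toPoly i n M).Monic := by
  have h := monic_multiset_prod_of_monic (factorMultiset i n M) id
    (fun _ hs => factorMultiset_monic i n hs)
  rwa [Multiset.map_id] at h

theorem normalizedFactors_toPoly (M : Multiset ↥(cycFactors r F)) :
    normalizedFactors (toPoly i n M) = factorMultiset i n M := by
  unfold toPoly
  rw [normalizedFactors_prod_eq _ (fun _ hs => factorMultiset_irreducible i n hs)]
  conv_rhs => rw [← Multiset.map_id (factorMultiset i n M)]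
  apply Multiset.map_congr rfl
  intro s hs
  exact (factorMultiset_monic i n hs).normalize_eq_self

theorem toPoly_natDegree (hdeg : ∀ f ∈ cycFactors r F, f.natDegree = i)
    (M : Multiset ↥(cycFactors r F)) (hM : i * Multiset.card M ≤ n) :
    (toPoly i n M).natDegree = n := by
  unfold toPoly
  rw [natDegree_multiset_prod_of_monic _ (fun _ hs => factorMultiset_monic i n hs)]
  unfold factorMultiset
  rw [Multiset.map_add, Multiset.sum_add, Multiset.map_replicate, Multiset.sum_replicate,
    Multiset.map_map]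
  have h1 : (X - 1 : F[X]).natDegree = 1 := by
    have h3 : (X - 1 : F[X]) = X - C 1 := by rw [map_one]
    rw [h3, natDegree_X_sub_C]
  have h2 : M.map (natDegree ∘ Subtype.val) = M.map (fun _ => i) :=
    Multiset.map_congr rfl (fun f _ => hdeg f.1 f.2)
  rw [h1, h2, Multiset.map_const', Multiset.sum_replicate, smul_eq_mul, smul_eq_mul, mul_one]
  rw [mul_comm (Multiset.card M) i]
  omega

theorem toPoly_injective (hX : (X - 1 : F[X]) ∉ cycFactors r F)
    {M M' : Multiset ↥(cycFactors r F)} (h : toPoly i n M = toPoly i n M') : M = M' := by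
  classical
  have h1 : factorMultiset i n M = factorMultiset i n M' := by
    rw [← normalizedFactors_toPoly, ← normalizedFactors_toPoly, h]
  apply Multiset.ext.mpr
  intro f
  have hf : f.1 ≠ X - 1 := fun h0 => hX (h0 ▸ f.2)
  have h2 := congrArg (Multiset.count f.1) h1
  unfold factorMultiset at h2
  rw [Multiset.count_add, Multiset.count_add, Multiset.count_replicate, Multiset.count_replicate,
    if_neg hf.symm, if_neg hf.symm, zero_add, zero_add,
    Multiset.count_map_eq_count' _ _ Subtype.val_injective,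
    Multiset.count_map_eq_count' _ _ Subtype.val_injective] at h2
  exact h2

theorem toPoly_dvd (hr : r.Prime) (M : Multiset ↥(cycFactors r F)) :
    toPoly i n M ∣ (X ^ r - 1) ^ Multiset.card (factorMultiset i n M) := by
  unfold toPoly
  have key : ∀ S : Multiset F[X], (∀ s ∈ S, s ∣ (X ^ r - 1 : F[X])) →
      S.prod ∣ (X ^ r - 1) ^ Multiset.card S := by
    intro S
    induction S using Multiset.induction with
    | empty => intro _; simp
    | cons a S ih =>
      intro h
      rw [Multiset.prod_cons, Multiset.card_cons, pow_succ']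
      exact mul_dvd_mul (h a (Multiset.mem_cons_self a S))
        (ih (fun s hs => h s (Multiset.mem_cons_of_mem hs)))
  apply key
  intro s hs
  rcases mem_factorMultiset i n hs with rfl | h
  · exact sub_one_dvd_pow_sub_one X r
  · exact cycFactors_dvd_pow_sub_one hr h

theorem toPoly_coeff_zero (hr : r.Prime) (M : Multiset ↥(cycFactors r F)) :
    (toPoly i n M).coeff 0 ≠ 0 := by
  intro h0
  obtain ⟨c, hc⟩ := toPoly_dvd i n hr M
  have h1 := congrArg (Polynomial.eval 0) hc
  rw [eval_mul, ← coeff_zero_eq_eval_zero (toPoly i n M), h0, zero_mul, eval_pow, eval_sub,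
    eval_pow, eval_X, eval_one, zero_pow hr.ne_zero, zero_sub] at h1
  exact pow_ne_zero _ (neg_ne_zero.mpr one_ne_zero) h1

theorem exists_toPoly_eq (hdeg : ∀ f ∈ cycFactors r F, f.natDegree = i) (χ : F[X])
    (hmonic : χ.Monic) (hn : χ.natDegree = n)
    (hχ : ∀ π ∈ normalizedFactors χ, π = X - 1 ∨ π ∈ cycFactors r F) :
    ∃ M : Multiset ↥(cycFactors r F), i * Multiset.card M ≤ n ∧ χ = toPoly i n M := by
  classical
  have hprod : (normalizedFactors χ).prod = χ := by
    rw [prod_normalizedFactors_eq hmonic.ne_zero, hmonic.normalize_eq_self]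
  have hsplit := Multiset.filter_add_not (fun π => π ∈ cycFactors r F) (normalizedFactors χ)
  have hB : (normalizedFactors χ).filter (fun π => ¬ π ∈ cycFactors r F) =
      Multiset.replicate (Multiset.card ((normalizedFactors χ).filter
        (fun π => ¬ π ∈ cycFactors r F))) (X - 1) := by
    rw [Multiset.eq_replicate]
    refine ⟨rfl, ?_⟩
    intro b hb
    rw [Multiset.mem_filter] at hb
    rcases hχ b hb.1 with h | h
    · exact h
    · exact absurd h hb.2
  have hmonicNF : ∀ π ∈ normalizedFactors χ, π.Monic := by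
    intro π hπ
    rw [← normalize_normalized_factor π hπ]
    exact Polynomial.monic_normalize (irreducible_of_normalized_factor π hπ).ne_zero
  have hdegsum : ((normalizedFactors χ).map natDegree).sum = n := by
    rw [← natDegree_multiset_prod_of_monic _ hmonicNF, hprod, hn]
  let M : Multiset ↥(cycFactors r F) :=
    ((normalizedFactors χ).filter (fun π => π ∈ cycFactors r F)).pmap Subtype.mk
      (fun a ha => (Multiset.mem_filter.mp ha).2)
  have hMmap : M.map Subtype.val = (normalizedFactors χ).filter (fun π => π ∈ cycFactors r F) := by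
    show (Multiset.pmap _ _ _).map _ = _
    rw [Multiset.map_pmap]
    simp only [Multiset.pmap_eq_map, Multiset.map_id']
  have hMcard : Multiset.card M = Multiset.card ((normalizedFactors χ).filter
      (fun π => π ∈ cycFactors r F)) := Multiset.card_pmap _ _ _
  have hA : (((normalizedFactors χ).filter (fun π => π ∈ cycFactors r F)).map natDegree).sum =
      i * Multiset.card M := by
    have h2 : ((normalizedFactors χ).filter (fun π => π ∈ cycFactors r F)).map natDegree =
        ((normalizedFactors χ).filter (fun π => π ∈ cycFactors r F)).map (fun _ => i) :=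
      Multiset.map_congr rfl (fun f hf => hdeg f (Multiset.mem_filter.mp hf).2)
    rw [h2, Multiset.map_const', Multiset.sum_replicate, smul_eq_mul, hMcard, mul_comm]
  have hBsum : (((normalizedFactors χ).filter (fun π => ¬ π ∈ cycFactors r F)).map natDegree).sum =
      Multiset.card ((normalizedFactors χ).filter (fun π => ¬ π ∈ cycFactors r F)) := by
    have h1 : (X - 1 : F[X]).natDegree = 1 := by
      have h3 : (X - 1 : F[X]) = X - C 1 := by rw [map_one]
      rw [h3, natDegree_X_sub_C]
    conv_lhs => rw [hB]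
    rw [Multiset.map_replicate, Multiset.sum_replicate, h1, smul_eq_mul, mul_one]
  have htot : i * Multiset.card M +
      Multiset.card ((normalizedFactors χ).filter (fun π => ¬ π ∈ cycFactors r F)) = n := by
    rw [← hA, ← hBsum, ← Multiset.sum_add, ← Multiset.map_add, hsplit, hdegsum]
  refine ⟨M, by omega, ?_⟩
  unfold toPoly factorMultiset
  have h5 : n - i * Multiset.card M =
      Multiset.card ((normalizedFactors χ).filter (fun π => ¬ π ∈ cycFactors r F)) := by omega
  rw [h5, ← hB, hMmap, add_comm, hsplit, hprod]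

end ToPoly

section GLSide

variable (p : ℕ) [Fact p.Prime] [CharP F p] {r : ℕ} (hr : r.Prime) (hrp : r ≠ p) {n : ℕ}

include hr hrp

theorem orderOf_coprime_of_pow_eq_one (g : GL (Fin n) F) (hg : g ^ r = 1) :
    (orderOf g).Coprime p := by
  have hp : p.Prime := Fact.out
  have h1 : orderOf g ∣ r := orderOf_dvd_of_pow_eq_one hg
  have h2 : r.Coprime p := (Nat.coprime_primes hr hp).mpr hrp
  exact Nat.Coprime.coprime_dvd_left h1 h2

theorem aeval_toLin'_pow_sub_one (g : GL (Fin n) F) (hg : g ^ r = 1) :
    aeval (Matrix.toLin' (g : Matrix (Fin n) (Fin n) F)) (X ^ r - 1 : F[X]) = 0 := by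
  rw [map_sub, map_pow, aeval_X, map_one, ← Matrix.toLin'_pow, ← Units.val_pow_eq_pow_val, hg,
    Units.val_one, Matrix.toLin'_one]
  exact sub_self _

theorem factor_dvd_of_pow_eq_one (g : GL (Fin n) F) (hg : g ^ r = 1) (π : F[X])
    (hπ : π ∈ normalizedFactors (g : Matrix (Fin n) (Fin n) F).charpoly) : π ∣ X ^ r - 1 := by
  have hirr := irreducible_of_normalized_factor π hπ
  have hmonic : π.Monic := by
    rw [← normalize_normalized_factor π hπ]
    exact Polynomial.monic_normalize hirr.ne_zero
  have hss := Cfsg.Agent.S2387.ss_of_coprime p g (orderOf_coprime_of_pow_eq_one p hr hrp g hg)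
  have hdvd : π ∣ (Matrix.toLin' (g : Matrix (Fin n) (Fin n) F)).charpoly := by
    rw [Matrix.charpoly_toLin']
    exact dvd_of_mem_normalizedFactors hπ
  obtain ⟨U, C, _, _, _, _, _, _, B, Y', e, he, hB, hBq⟩ :=
    Cfsg.Agent.H9.SemisimpleConj.exists_split_of_dvd π hirr hmonic n (Fin n → F)
      (Matrix.toLin' (g : Matrix (Fin n) (Fin n) F))
      (by rw [Module.finrank_fintype_fun_eq_card, Fintype.card_fin]) hss hdvd
  rw [← hBq]
  apply minpoly.dvd
  apply LinearMap.ext
  intro u
  have h1 := Cfsg.Agent.H9.SemisimpleConj.aeval_intertwine B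
    (Matrix.toLin' (g : Matrix (Fin n) (Fin n) F))
    ((e : (U × C) →ₗ[F] (Fin n → F)) ∘ₗ LinearMap.inl F U C) (by
      intro v
      simp only [LinearMap.comp_apply, LinearEquiv.coe_coe, LinearMap.inl_apply]
      rw [he, LinearMap.prodMap_apply, map_zero]) (X ^ r - 1) u
  rw [aeval_toLin'_pow_sub_one p hr hrp g hg, LinearMap.zero_apply] at h1
  simp only [LinearMap.comp_apply, LinearEquiv.coe_coe, LinearMap.inl_apply] at h1
  have h2 := e.injective (h1.symm.trans (map_zero e).symm)
  rw [LinearMap.zero_apply]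
  exact (Prod.ext_iff.1 h2).1

theorem charpoly_eq_toPoly_of_pow_eq_one {i : ℕ} (hdeg : ∀ f ∈ cycFactors r F, f.natDegree = i)
    (g : GL (Fin n) F) (hg : g ^ r = 1) :
    ∃ M : Multiset ↥(cycFactors r F), i * Multiset.card M ≤ n ∧
      (g : Matrix (Fin n) (Fin n) F).charpoly = toPoly i n M := by
  have : Fact r.Prime := ⟨hr⟩
  apply exists_toPoly_eq i n hdeg _ (Matrix.charpoly_monic _)
    (by rw [Matrix.charpoly_natDegree_eq_dim, Fintype.card_fin])
  intro π hπ
  have hirr := irreducible_of_normalized_factor π hπ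
  have hnorm := normalize_normalized_factor π hπ
  have hmonic : π.Monic := by
    rw [← hnorm]
    exact Polynomial.monic_normalize hirr.ne_zero
  have h1 := factor_dvd_of_pow_eq_one p hr hrp g hg π hπ
  rw [← cyclotomic_prime_mul_X_sub_one F r] at h1
  rcases hirr.prime.dvd_or_dvd h1 with h | h
  · right
    rw [mem_cycFactors, mem_normalizedFactors_iff' (cyclotomic_ne_zero r F)]
    exact ⟨hirr, hnorm, h⟩
  · left
    exact eq_of_monic_of_associated hmonic X_sub_one_monic
      (hirr.associated_of_dvd X_sub_one_irreducible h)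

theorem exists_gl_of_toPoly {i : ℕ} (hdeg : ∀ f ∈ cycFactors r F, f.natDegree = i)
    (M : Multiset ↥(cycFactors r F)) (hM : i * Multiset.card M ≤ n) :
    ∃ g : GL (Fin n) F, g ^ r = 1 ∧ (g : Matrix (Fin n) (Fin n) F).charpoly = toPoly i n M := by
  obtain ⟨g, hg, hgc⟩ := Cfsg.Agent.H9.SemisimpleExists.exists_gl p n (toPoly i n M)
    (toPoly_monic i n M) (toPoly_natDegree i n hdeg M hM) (toPoly_coeff_zero i n hr M)
  refine ⟨g, ?_, hgc⟩
  have hss := Cfsg.Agent.S2387.ss_of_coprime p g hg
  have hsq := hss.minpoly_squarefree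
  rw [Matrix.minpoly_toLin'] at hsq
  have h1 : minpoly F (g : Matrix (Fin n) (Fin n) F) ∣
      (X ^ r - 1) ^ Multiset.card (factorMultiset i n M) :=
    (Matrix.minpoly_dvd_charpoly _).trans (hgc ▸ toPoly_dvd i n hr M)
  have h2 : minpoly F (g : Matrix (Fin n) (Fin n) F) ∣ X ^ r - 1 := by
    rcases Nat.eq_zero_or_pos (Multiset.card (factorMultiset i n M)) with h0 | hpos
    · rw [h0, pow_zero] at h1
      exact (isUnit_of_dvd_one h1).dvd
    · exact (hsq.dvd_pow_iff_dvd hpos.ne').mp h1
  obtain ⟨c, hc⟩ := h2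
  have h3 : aeval (g : Matrix (Fin n) (Fin n) F) (X ^ r - 1 : F[X]) = 0 := by
    rw [hc, map_mul, minpoly.aeval, zero_mul]
  rw [map_sub, map_pow, aeval_X, map_one, sub_eq_zero] at h3
  apply Units.ext
  rw [Units.val_pow_eq_pow_val, h3, Units.val_one]

end GLSide

section Count

theorem sum_multichoose (t N : ℕ) :
    ∑ k ∈ Finset.range (N + 1), Nat.multichoose t k = Nat.multichoose (t + 1) N := by
  induction N with
  | zero => simp
  | succ N ih =>
    rw [Finset.sum_range_succ, ih, Nat.multichoose_succ_succ, add_comm]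

theorem card_multiset_le (α : Type*) [Fintype α] [DecidableEq α] (N : ℕ) :
    Nat.card {M : Multiset α // Multiset.card M ≤ N} =
      Nat.choose (N + Fintype.card α) (Fintype.card α) := by
  let e : {M : Multiset α // Multiset.card M ≤ N} ≃ Σ k : Fin (N + 1), Sym α k :=
    { toFun := fun M => ⟨⟨Multiset.card M.1, Nat.lt_succ_of_le M.2⟩, ⟨M.1, rfl⟩⟩
      invFun := fun x => ⟨x.2.1, by rw [x.2.2]; exact Nat.le_of_lt_succ x.1.2⟩
      left_inv := fun M => rfl
      right_inv := by
        rintro ⟨⟨k, hk⟩, ⟨M, hM⟩⟩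
        have hM' : Multiset.card M = k := hM
        subst hM'
        rfl }
  rw [Nat.card_congr e, Nat.card_eq_fintype_card, Fintype.card_sigma]
  simp only [Sym.card_sym_eq_multichoose]
  rw [Fin.sum_univ_eq_sum_range (fun k => Nat.multichoose (Fintype.card α) k) (N + 1),
    sum_multichoose, Nat.multichoose_eq]
  have h1 : Fintype.card α + 1 + N - 1 = N + Fintype.card α := by omega
  rw [h1, Nat.choose_symm_add]


variable (p : ℕ) [Fact p.Prime] [CharP F p] {r : ℕ} (hr : r.Prime) (hrp : r ≠ p)

include hr hrp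

theorem card_classes_pow_eq_one {q : ℕ} (hq : Fintype.card F = q) (n : ℕ) :
    Nat.card {C : ConjClasses (GL (Fin n) F) //
      ∃ g : GL (Fin n) F, g ^ r = 1 ∧ ConjClasses.mk g = C} =
      Nat.choose (n / orderOf (q : ZMod r) + (cycFactors r F).card) (cycFactors r F).card := by
  classical
  have hdeg : ∀ f ∈ cycFactors r F, f.natDegree = orderOf (q : ZMod r) :=
    fun f hf => cycFactors_natDegree p hr hrp hq hf
  have hX := X_sub_one_notMem (F := F) p hr hrp
  have hipos : 0 < orderOf (q : ZMod r) := by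
    have h1 := card_cycFactors (F := F) p hr hrp hq
    have h2 : 0 < r - 1 := by have := hr.two_le; omega
    rcases Nat.eq_zero_or_pos (orderOf (q : ZMod r)) with h0 | h0
    · rw [h0, mul_zero] at h1
      omega
    · exact h0
  have hex : ∀ C : {C : ConjClasses (GL (Fin n) F) //
      ∃ g : GL (Fin n) F, g ^ r = 1 ∧ ConjClasses.mk g = C},
      ∃ M : {M : Multiset ↥(cycFactors r F) // orderOf (q : ZMod r) * Multiset.card M ≤ n},
        ∀ g : GL (Fin n) F, ConjClasses.mk g = C.1 →
          (g : Matrix (Fin n) (Fin n) F).charpoly = toPoly (orderOf (q : ZMod r)) n M.1 := by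
    rintro ⟨C, g, hg, rfl⟩
    obtain ⟨M, hM, hgM⟩ := charpoly_eq_toPoly_of_pow_eq_one p hr hrp hdeg g hg
    refine ⟨⟨M, hM⟩, ?_⟩
    intro g' hg'
    rw [← hgM]
    exact Cfsg.Agent.S2387.charpoly_of_conj g' g (ConjClasses.mk_eq_mk_iff_isConj.mp hg')
  choose f hf using hex
  have hbij : Function.Bijective f := by
    constructor
    · rintro ⟨C, g, hg, rfl⟩ ⟨C', g', hg', rfl⟩ hCC'
      have h1 : (g : Matrix (Fin n) (Fin n) F).charpoly =
          (g' : Matrix (Fin n) (Fin n) F).charpoly := by
        rw [hf ⟨_, g, hg, rfl⟩ g rfl, hf ⟨_, g', hg', rfl⟩ g' rfl, hCC']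
      apply Subtype.ext
      exact ConjClasses.mk_eq_mk_iff_isConj.mpr
        (Cfsg.Agent.S2387.conj_of_charpoly p g g' (orderOf_coprime_of_pow_eq_one p hr hrp g hg)
          (orderOf_coprime_of_pow_eq_one p hr hrp g' hg') h1)
    · rintro ⟨M, hM⟩
      obtain ⟨g, hg, hgM⟩ := exists_gl_of_toPoly p hr hrp hdeg M hM
      refine ⟨⟨ConjClasses.mk g, g, hg, rfl⟩, ?_⟩
      apply Subtype.ext
      apply toPoly_injective (orderOf (q : ZMod r)) n hX
      rw [← hf ⟨_, g, hg, rfl⟩ g rfl, hgM]
  rw [Nat.card_congr (Equiv.ofBijective f hbij)]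
  have e2 : {M : Multiset ↥(cycFactors r F) // orderOf (q : ZMod r) * Multiset.card M ≤ n} ≃
      {M : Multiset ↥(cycFactors r F) // Multiset.card M ≤ n / orderOf (q : ZMod r)} :=
    Equiv.subtypeEquivRight (fun M => by rw [Nat.le_div_iff_mul_le hipos, mul_comm])
  rw [Nat.card_congr e2, card_multiset_le, Fintype.card_coe]

end Count

section General

theorem card_classes_orderOf_eq_prime {G : Type*} [Group G] [Finite G] {r : ℕ} (hr : r.Prime) :
    Nat.card {C : ConjClasses G // ∃ g : G, ConjClasses.mk g = C ∧ orderOf g = r} =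
      Nat.card {C : ConjClasses G // ∃ g : G, g ^ r = 1 ∧ ConjClasses.mk g = C} - 1 := by
  have : Fact r.Prime := ⟨hr⟩
  have hT : Nat.card {C : ConjClasses G // ∃ g : G, ConjClasses.mk g = C ∧ orderOf g = r} =
      Set.ncard {C : ConjClasses G | ∃ g : G, ConjClasses.mk g = C ∧ orderOf g = r} :=
    Nat.card_coe_set_eq _
  have hS' : Nat.card {C : ConjClasses G // ∃ g : G, g ^ r = 1 ∧ ConjClasses.mk g = C} =
      Set.ncard {C : ConjClasses G | ∃ g : G, g ^ r = 1 ∧ ConjClasses.mk g = C} :=
    Nat.card_coe_set_eq _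
  rw [hT, hS']
  have hins : {C : ConjClasses G | ∃ g : G, g ^ r = 1 ∧ ConjClasses.mk g = C} =
      insert (ConjClasses.mk 1) {C : ConjClasses G |
        ∃ g : G, ConjClasses.mk g = C ∧ orderOf g = r} := by
    ext C
    simp only [Set.mem_ofPred_eq, Set.mem_insert_iff]
    constructor
    · rintro ⟨g, hg, rfl⟩
      by_cases h1 : g = 1
      · left; rw [h1]
      · right
        exact ⟨g, rfl, orderOf_eq_prime_iff.mpr ⟨hg, h1⟩⟩
    · rintro (rfl | ⟨g, rfl, hg⟩)
      · exact ⟨1, one_pow _, rfl⟩
      · exact ⟨g, (orderOf_eq_prime_iff.mp hg).1, rfl⟩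
  have hnot : ConjClasses.mk (1 : G) ∉ {C : ConjClasses G |
        ∃ g : G, ConjClasses.mk g = C ∧ orderOf g = r} := by
    rintro ⟨g, hg1, hg2⟩
    have h1 : g = 1 := isConj_one_left.mp (ConjClasses.mk_eq_mk_iff_isConj.mp hg1)
    exact (orderOf_eq_prime_iff.mp hg2).2 h1
  rw [hins, Set.ncard_insert_of_notMem hnot (Set.toFinite _), Nat.add_sub_cancel]

end General

end Cfsg.Agent.H2.OrderRClasses
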