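import Mathlib
import Cfsg.Prelude.Def_Balance
import Cfsg.Agent.H2.ExtLayer
import Cfsg.Agent.H2.PComponent3

/-!
Sylow subgroups of `p`-components, normalizers of `p`-components (helper2).
-/

set_option autoImplicit false

namespace Cfsg.Agent.H2

open Cfsg.Agent.Lib.Helper7

section

variable {X : Type*} [Group X] [Finite X]

/-- A Sylow subgroup meets a subnormal subgroup in a Sylow subgroup. -/
theorem isSylowIn_inf_of_isSubnormal {p : ℕ} [Fact p.Prime] {S : Subgroup X}
    (hS : IsSylowIn p S ⊤) {K : Subgroup X} (hK : K.IsSubnormal) : IsSylowIn p (S ⊓ K) K := by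
  induction hK with
  | top => rw [inf_top_eq]; exact hS
  | step H K hHK _ hN ih =>
    have := ih.inf_normal H hHK ((Subgroup.normal_subgroupOf_iff_le_normalizer hHK).1 hN)
    rwa [inf_assoc, inf_eq_right.2 hHK] at this

/-- The image of a Sylow `p`-subgroup of a `p`-component `K` in `X / O_{p'}(X)` is not central
in the image of `K`. -/
theorem pComponent_sylow_not_central (p : ℕ) [Fact p.Prime] {K : Subgroup X}
    (hK : Cfsg.IsPComponent p K) (S : Sylow p X)
    (hc : ∀ t ∈ (S : Subgroup X) ⊓ K, ∀ k ∈ K,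
      QuotientGroup.mk' (Cfsg.pPrimeCore p X) t * QuotientGroup.mk' (Cfsg.pPrimeCore p X) k =
      QuotientGroup.mk' (Cfsg.pPrimeCore p X) k * QuotientGroup.mk' (Cfsg.pPrimeCore p X) t) :
    False := by
  have hSK := isSylowIn_inf_of_isSubnormal (IsSylowIn.of_sylow_top S) hK.1
  obtain ⟨TK, hTK⟩ := hSK.exists_sylow
  have hqs : Cfsg.IsQuasisimple (K.map (QuotientGroup.mk' (Cfsg.pPrimeCore p X))) := hK.2.1.2
  have hsurj := MonoidHom.subgroupMap_surjective (QuotientGroup.mk' (Cfsg.pPrimeCore p X)) K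
  have hle : ((TK.mapSurjective hsurj : Sylow p _) :
      Subgroup (K.map (QuotientGroup.mk' (Cfsg.pPrimeCore p X)))) ≤ Subgroup.center _ := by
    rw [Sylow.coe_mapSurjective]
    rintro _ ⟨t, ht, rfl⟩
    rw [Subgroup.mem_center_iff]
    rintro ⟨_, ⟨k, hk, rfl⟩⟩
    apply Subtype.ext
    have ht' : (t : X) ∈ (S : Subgroup X) ⊓ K := by
      have : t ∈ ((S : Subgroup X) ⊓ K).subgroupOf K := by rw [← hTK]; exact ht
      exact Subgroup.mem_subgroupOf.1 this
    exact (hc t ht' k hk).symm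
  have hnd : ¬ p ∣ (Subgroup.center (K.map (QuotientGroup.mk' (Cfsg.pPrimeCore p X)))).index := by
    intro hd
    exact (TK.mapSurjective hsurj).not_dvd_index (hd.trans (Subgroup.index_dvd_of_le hle))
  have hcop := quasisimple_coprime_of_not_dvd_index_center _ hqs p hnd
  exact component_not_coprime p (pPrimeCore_quotient_eq_bot p) hK.2.1 hcop

/-- An element centralizing a Sylow `p`-subgroup of the `p`-component `K` normalizes `K`. -/
theorem pComponent_map_conj_eq_of_centralizes (p : ℕ) [Fact p.Prime] {K : Subgroup X}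
    (hK : Cfsg.IsPComponent p K) (S : Sylow p X) (f : X)
    (hf : ∀ t ∈ (S : Subgroup X) ⊓ K, f * t = t * f) :
    K.map (MulAut.conj f).toMonoidHom = K := by
  have hK' := isPComponent_map_equiv p (MulAut.conj f) hK
  apply pComponent_unique p hK' hK
  by_contra hne
  have hcomm := components_commute hK'.2.1 hK.2.1 hne
  rw [commutator_eq_bot_iff_forall_commute] at hcomm
  apply pComponent_sylow_not_central p hK S
  intro t ht k hk
  apply hcomm
  · refine ⟨f * t * f⁻¹, ⟨t, ht.2, rfl⟩, ?_⟩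
    rw [hf t ht]
    congr 1
    group
  · exact ⟨k, hk, rfl⟩

/-- `O_{p'}(X)` normalizes every `p`-component. -/
theorem pPrimeCore_le_normalizer_pComponent (p : ℕ) [Fact p.Prime] {K : Subgroup X}
    (hK : Cfsg.IsPComponent p K) :
    Cfsg.pPrimeCore p X ≤ Subgroup.normalizer (K : Set X) := by
  intro o ho
  rw [← map_conj_eq_self_iff_mem_normalizer]
  have hK' := isPComponent_map_equiv p (MulAut.conj o) hK
  apply pComponent_unique p hK' hK
  have h1 : QuotientGroup.mk' (Cfsg.pPrimeCore p X) o = 1 := (QuotientGroup.eq_one_iff o).2 ho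
  ext y
  constructor
  · rintro ⟨_, ⟨k, hk, rfl⟩, rfl⟩
    refine ⟨k, hk, ?_⟩
    show QuotientGroup.mk' (Cfsg.pPrimeCore p X) k =
      QuotientGroup.mk' (Cfsg.pPrimeCore p X) (o * k * o⁻¹)
    rw [map_mul, map_mul, map_inv, h1]; simp
  · rintro ⟨k, hk, rfl⟩
    refine ⟨o * k * o⁻¹, ⟨k, hk, rfl⟩, ?_⟩
    rw [map_mul, map_mul, map_inv, h1]; simp

end

end Cfsg.Agent.H2

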