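import Mathlib
import Cfsg.Agent.H1.Basic

/-!
# A non-normal Sylow `p`-subgroup forces at least `p * |P|` elements of `p`-power order (helper2)
-/

set_option autoImplicit false

namespace Cfsg.Agent.H2.PEltCount

open Classical in
/-- sets of size `q` pairwise meeting inside `D` -/
theorem card_union_ge {α ι : Type*} (I : Finset ι) (A : ι → Finset α) (D : Finset α)
    (q : ℕ) (hD : ∀ i ∈ I, D ⊆ A i) (hcard : ∀ i ∈ I, (A i).card = q)
    (hpair : ∀ i ∈ I, ∀ j ∈ I, i ≠ j → A i ∩ A j ⊆ D) :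
    D.card + I.card * (q - D.card) ≤ (D ∪ I.biUnion A).card := by
  have h1 : D ∪ I.biUnion A = D ∪ I.biUnion (fun i => A i \ D) := by
    ext x
    simp only [Finset.mem_union, Finset.mem_biUnion, Finset.mem_sdiff]
    constructor
    · rintro (h | ⟨i, hi, hx⟩)
      · exact Or.inl h
      · by_cases hxD : x ∈ D
        · exact Or.inl hxD
        · exact Or.inr ⟨i, hi, hx, hxD⟩
    · rintro (h | ⟨i, hi, hx, -⟩)
      · exact Or.inl h
      · exact Or.inr ⟨i, hi, hx⟩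
  have h2 : Disjoint D (I.biUnion (fun i => A i \ D)) := by
    rw [Finset.disjoint_left]
    intro x hxD hx
    simp only [Finset.mem_biUnion, Finset.mem_sdiff] at hx
    obtain ⟨i, -, -, hx2⟩ := hx
    exact hx2 hxD
  have h3 : (I.biUnion (fun i => A i \ D)).card = ∑ i ∈ I, (A i \ D).card := by
    apply Finset.card_biUnion
    intro i hi j hj hij
    rw [Function.onFun, Finset.disjoint_left]
    intro x hxi hxj
    rw [Finset.mem_sdiff] at hxi hxj
    exact hxi.2 (hpair i hi j hj hij (Finset.mem_inter.mpr ⟨hxi.1, hxj.1⟩))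
  have h4 : ∑ i ∈ I, (A i \ D).card = I.card * (q - D.card) := by
    rw [Finset.sum_congr rfl (fun i hi => by
      rw [Finset.card_sdiff_of_subset (hD i hi), hcard i hi]), Finset.sum_const, smul_eq_mul]
  rw [h1, Finset.card_union_of_disjoint h2, h3, h4]

variable {G : Type*} [Group G] [Finite G] (p : ℕ) [hp : Fact p.Prime]

/-- `S4092` -/
theorem main (P : Sylow p G) (hP : ¬ (P : Subgroup G).Normal) :
    p * Nat.card (P : Subgroup G) ≤ Nat.card {g : G // ∃ k : ℕ, orderOf g = p ^ k} := by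
  classical
  have hcardS : ∀ Q : Sylow p G, Nat.card (Q : Subgroup G) = Nat.card (P : Subgroup G) := by
    intro Q
    rw [Sylow.card_eq_multiplicity, Sylow.card_eq_multiplicity]
  -- (1) another Sylow subgroup
  have hex : ∃ Q : Sylow p G, Q ≠ P := by
    by_contra h
    push Not at h
    apply hP
    rw [← Subgroup.normalizer_eq_top_iff, eq_top_iff]
    intro g _
    exact Sylow.smul_eq_iff_mem_normalizer.mp (h (g • P))
  obtain ⟨Q0, hQ0⟩ := hex
  -- (2) a maximal intersection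
  have hne0 : Nonempty {pr : Sylow p G × Sylow p G // pr.1 ≠ pr.2} := ⟨⟨(Q0, P), hQ0⟩⟩
  obtain ⟨⟨⟨P1, P2⟩, hne⟩, hmax⟩ := Finite.exists_max
    (fun pr : {pr : Sylow p G × Sylow p G // pr.1 ≠ pr.2} =>
      Nat.card ↥((pr.1.1 : Subgroup G) ⊓ (pr.1.2 : Subgroup G)))
  have hne' : P1 ≠ P2 := hne
  have hmax' : ∀ Q1 Q2 : Sylow p G, Q1 ≠ Q2 →
      Nat.card ↥((Q1 : Subgroup G) ⊓ Q2) ≤ Nat.card ↥((P1 : Subgroup G) ⊓ P2) :=
    fun Q1 Q2 h => hmax ⟨(Q1, Q2), h⟩
  obtain ⟨D, hDdef⟩ : ∃ D : Subgroup G, D = (P1 : Subgroup G) ⊓ P2 := ⟨_, rfl⟩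
  rw [← hDdef] at hmax'
  have hDP2 : D ≤ P2 := hDdef ▸ inf_le_right
  have hDP1 : D ≤ P1 := hDdef ▸ inf_le_left
  have hDne : D ≠ (P2 : Subgroup G) := by
    intro h
    apply hne'
    have h1 : (P2 : Subgroup G) ≤ P1 := h ▸ hDP1
    have h2 : (P2 : Subgroup G) = P1 :=
      Subgroup.eq_of_le_of_card_ge h1 (by rw [hcardS P1, hcardS P2])
    exact (Sylow.ext h2).symm
  -- (3) an element of `P2` normalizing `D` outside `D`
  have hlt : D.subgroupOf P2 < ⊤ := by
    rw [lt_top_iff_ne_top, Ne, Subgroup.subgroupOf_eq_top]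
    intro h
    exact hDne (le_antisymm hDP2 h)
  have hnil : Group.IsNilpotent ↥(P2 : Subgroup G) := P2.isPGroup'.isNilpotent
  have hnc := Group.normalizerCondition_of_isNilpotent (G := ↥(P2 : Subgroup G)) _ hlt
  obtain ⟨y', hy'N, hy'D⟩ := SetLike.exists_of_lt hnc
  obtain ⟨y, hydef⟩ : ∃ y : G, y = (y' : G) := ⟨_, rfl⟩
  have hyP2 : y ∈ (P2 : Subgroup G) := by rw [hydef]; exact y'.2
  have hyD : y ∉ D := by
    intro h
    apply hy'D
    rw [Subgroup.mem_subgroupOf, ← hydef]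
    exact h
  have hy1 : ∀ d ∈ D, y * d * y⁻¹ ∈ D := by
    intro d hd
    have h1 := (Subgroup.mem_normalizer_iff.mp hy'N ⟨d, hDP2 hd⟩).mp
      (by rw [Subgroup.mem_subgroupOf]; exact hd)
    rw [Subgroup.mem_subgroupOf] at h1
    rw [hydef]
    simpa using h1
  have hy2 : ∀ d ∈ D, y⁻¹ * d * y ∈ D := by
    intro d hd
    have h1 := (Subgroup.mem_normalizer_iff.mp hy'N (y'⁻¹ * ⟨d, hDP2 hd⟩ * y')).mpr
      (by
        rw [Subgroup.mem_subgroupOf]
        have e : ((y' * (y'⁻¹ * ⟨d, hDP2 hd⟩ * y') * y'⁻¹ : ↥(P2 : Subgroup G)) : G) = d := by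
          simp only [Subgroup.coe_mul, Subgroup.coe_inv]
          group
        rw [e]
        exact hd)
    rw [Subgroup.mem_subgroupOf] at h1
    rw [hydef]
    simpa using h1
  have hyN : y ∈ Subgroup.normalizer (D : Set G) := by
    rw [Subgroup.mem_normalizer_iff]
    intro h
    constructor
    · exact hy1 h
    · intro hh
      have h1 := hy2 _ hh
      have e : y⁻¹ * (y * h * y⁻¹) * y = h := by group
      rwa [e] at h1
  obtain ⟨Y, hYdef⟩ : ∃ Y : Subgroup G, Y = Subgroup.zpowers y := ⟨_, rfl⟩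
  have hYP2 : Y ≤ P2 := by rw [hYdef, Subgroup.zpowers_le]; exact hyP2
  have hYN : Y ≤ Subgroup.normalizer (D : Set G) := by
    rw [hYdef, Subgroup.zpowers_le]; exact hyN
  have hYD : ∀ g ∈ Y, ∀ d ∈ D, g⁻¹ * d * g ∈ D := by
    intro g hg d hd
    have h1 : g⁻¹ ∈ Subgroup.normalizer (D : Set G) := Subgroup.inv_mem _ (hYN hg)
    have h2 := (Subgroup.mem_normalizer_iff.mp h1 d).mp hd
    rwa [inv_inv] at h2
  -- (4) `y` moves `P1`
  have hyP1 : y • P1 ≠ P1 := by
    intro h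
    rw [Sylow.smul_eq_iff_mem_normalizer] at h
    have h1 : y ∈ (P2 : Subgroup G) ⊓ Subgroup.normalizer ((P1 : Subgroup G) : Set G) :=
      Subgroup.mem_inf.mpr ⟨hyP2, h⟩
    have h2 := P2.isPGroup'.inf_normalizer_sylow P1
    have h3 : y ∈ (P2 : Subgroup G) ⊓ (P1 : Subgroup G) := by
      rw [← h2]; exact h1
    rw [Subgroup.mem_inf] at h3
    have h1 := h3
    apply hyD
    rw [hDdef]
    exact Subgroup.mem_inf.mpr ⟨h1.2, h1.1⟩
  -- (5) the orbit of `P1` under `Y`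
  have hYp : IsPGroup p Y := P2.isPGroup'.to_le hYP2
  obtain ⟨n, hn⟩ := hYp.card_orbit P1
  have hyY : y ∈ Y := by rw [hYdef]; exact Subgroup.mem_zpowers y
  have hn0 : n ≠ 0 := by
    intro h0
    rw [h0, pow_zero, Nat.card_eq_one_iff_unique] at hn
    have h1 : (⟨P1, MulAction.mem_orbit_self P1⟩ : MulAction.orbit Y P1) =
        ⟨(⟨y, hyY⟩ : Y) • P1, MulAction.mem_orbit P1 (⟨y, hyY⟩ : Y)⟩ := hn.1.elim _ _
    have h2 := congrArg Subtype.val h1
    exact hyP1 h2.symm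
  have hple : p ≤ Nat.card (MulAction.orbit Y P1) := by
    rw [hn]
    calc p = p ^ 1 := (pow_one p).symm
      _ ≤ p ^ n := Nat.pow_le_pow_right hp.out.pos (Nat.one_le_iff_ne_zero.mpr hn0)
  have hP2orb : P2 ∉ MulAction.orbit Y P1 := by
    intro h
    obtain ⟨g, hg⟩ := MulAction.mem_orbit_iff.mp h
    have hg' : (g : G) • P1 = P2 := hg
    have h1 : (g : G)⁻¹ • P2 = P2 := by
      rw [Sylow.smul_eq_iff_mem_normalizer]
      exact Subgroup.le_normalizer (Subgroup.inv_mem _ (hYP2 g.2))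
    apply hne'
    have h2 : P1 = (g : G)⁻¹ • P2 := by rw [← hg', inv_smul_smul]
    rw [h2, h1]
  have horbD : ∀ Q ∈ MulAction.orbit Y P1, D ≤ (Q : Subgroup G) := by
    intro Q hQ
    obtain ⟨g, hg⟩ := MulAction.mem_orbit_iff.mp hQ
    have hg' : (g : G) • P1 = Q := hg
    intro d hd
    rw [← hg', Sylow.coe_subgroup_smul, Cfsg.Agent.H1.mem_conj_smul]
    exact hDP1 (hYD g g.2 d hd)
  -- (6) the family
  have hfin : (MulAction.orbit Y P1).Finite := Set.toFinite _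
  obtain ⟨I, hIdef⟩ : ∃ I : Finset (Sylow p G), I = insert P2 hfin.toFinset := ⟨_, rfl⟩
  have hIcard : p + 1 ≤ I.card := by
    rw [hIdef, Finset.card_insert_of_notMem (by rw [Set.Finite.mem_toFinset]; exact hP2orb),
      ← Set.ncard_eq_toFinset_card _ hfin, ← Nat.card_coe_set_eq]
    omega
  have hID : ∀ Q ∈ I, D ≤ (Q : Subgroup G) := by
    intro Q hQ
    rw [hIdef, Finset.mem_insert, Set.Finite.mem_toFinset] at hQ
    rcases hQ with rfl | hQ
    · exact hDP2
    · exact horbD Q hQ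
  have hIpair : ∀ Q ∈ I, ∀ Q' ∈ I, Q ≠ Q' → (Q : Subgroup G) ⊓ Q' = D := by
    intro Q hQ Q' hQ' hne2
    exact (Subgroup.eq_of_le_of_card_ge (le_inf (hID Q hQ) (hID Q' hQ')) (hmax' Q Q' hne2)).symm
  -- (7) counting
  have := Fintype.ofFinite G
  obtain ⟨A, hAdef⟩ : ∃ A : Sylow p G → Finset G,
      A = fun Q : Sylow p G => Finset.univ.filter (fun x => x ∈ (Q : Subgroup G)) := ⟨_, rfl⟩
  obtain ⟨Df, hDfdef⟩ : ∃ Df : Finset G, Df = Finset.univ.filter (fun x => x ∈ D) := ⟨_, rfl⟩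
  have hAcard : ∀ Q, (A Q).card = Nat.card (P : Subgroup G) := by
    intro Q
    rw [← hcardS Q, hAdef, Nat.card_eq_fintype_card, Fintype.card_subtype]
  have hDfcard : Df.card = Nat.card D := by
    rw [hDfdef, Nat.card_eq_fintype_card, Fintype.card_subtype]
  have hmemA : ∀ Q x, x ∈ A Q ↔ x ∈ (Q : Subgroup G) := by
    intro Q x
    rw [hAdef]
    simp
  have hmemD : ∀ x, x ∈ Df ↔ x ∈ D := by
    intro x
    rw [hDfdef]
    simp
  have hkey := card_union_ge I A Df (Nat.card (P : Subgroup G))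
    (fun Q hQ x hx => (hmemA Q x).mpr (hID Q hQ ((hmemD x).mp hx)))
    (fun Q _ => hAcard Q)
    (fun Q hQ Q' hQ' hne2 x hx => by
      rw [Finset.mem_inter, hmemA, hmemA] at hx
      rw [hmemD, ← hIpair Q hQ Q' hQ' hne2]
      exact Subgroup.mem_inf.mpr hx)
  have hsub : Df ∪ I.biUnion A ⊆ Finset.univ.filter (fun g : G => ∃ k : ℕ, orderOf g = p ^ k) := by
    intro x hx
    rw [Finset.mem_filter]
    refine ⟨Finset.mem_univ x, ?_⟩
    rw [Finset.mem_union, Finset.mem_biUnion] at hx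
    have hx' : ∃ Q : Sylow p G, x ∈ (Q : Subgroup G) := by
      rcases hx with h | ⟨Q, -, h⟩
      · exact ⟨P2, hDP2 ((hmemD x).mp h)⟩
      · exact ⟨Q, (hmemA Q x).mp h⟩
    obtain ⟨Q, hxQ⟩ := hx'
    obtain ⟨k, hk⟩ := (IsPGroup.iff_orderOf.mp Q.isPGroup') ⟨x, hxQ⟩
    rw [Subgroup.orderOf_mk] at hk
    exact ⟨k, hk⟩
  have hcardX : Nat.card {g : G // ∃ k : ℕ, orderOf g = p ^ k} =
      (Finset.univ.filter (fun g : G => ∃ k : ℕ, orderOf g = p ^ k)).card := by
    rw [Nat.card_eq_fintype_card, Fintype.card_subtype]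
  rw [hcardX]
  refine le_trans ?_ (le_trans hkey (Finset.card_le_card hsub))
  -- arithmetic
  rw [hDfcard]
  have hpd : p * Nat.card D ≤ Nat.card (P : Subgroup G) := by
    obtain ⟨a, ha⟩ := (IsPGroup.iff_card).mp (P2.isPGroup'.to_le hDP2)
    obtain ⟨b, hb⟩ := (IsPGroup.iff_card).mp P2.isPGroup'
    rw [← hcardS P2, ha, hb]
    have hab : a < b := by
      by_contra hcon
      push Not at hcon
      apply hDne
      apply Subgroup.eq_of_le_of_card_ge hDP2
      rw [ha, hb]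
      exact Nat.pow_le_pow_right hp.out.pos hcon
    calc p * p ^ a = p ^ (a + 1) := by rw [pow_succ, mul_comm]
      _ ≤ p ^ b := Nat.pow_le_pow_right hp.out.pos hab
  obtain ⟨e, he⟩ : ∃ e, Nat.card (P : Subgroup G) = Nat.card D + e := by
    refine ⟨Nat.card (P : Subgroup G) - Nat.card D, ?_⟩
    have h1 : Nat.card D ≤ Nat.card (P : Subgroup G) := by
      rw [← hcardS P2]; exact Subgroup.card_le_of_le hDP2
    omega
  rw [he] at hpd ⊢
  rw [Nat.add_sub_cancel_left]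
  have h1 : (p + 1) * e ≤ I.card * e := Nat.mul_le_mul_right e hIcard
  nlinarith

end Cfsg.Agent.H2.PEltCount
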