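import Mathlib

/-!
# Counting `p`-elements in quotients (helper2)
-/

set_option autoImplicit false

namespace Cfsg.Agent.H2.PEltQ

variable {G : Type*} [Group G] [Finite G] (p : ℕ) [hp : Fact p.Prime]

omit [Finite G] in
theorem pelt_map (N : Subgroup G) [N.Normal] {g : G} (hg : ∃ k : ℕ, orderOf g = p ^ k) :
    ∃ k : ℕ, orderOf (QuotientGroup.mk' N g) = p ^ k := by
  obtain ⟨k, hk⟩ := hg
  have h1 : orderOf (QuotientGroup.mk' N g) ∣ p ^ k := hk ▸ orderOf_map_dvd _ g
  obtain ⟨j, -, hj⟩ := (Nat.dvd_prime_pow hp.out).mp h1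
  exact ⟨j, hj⟩

omit [Finite G] in
theorem pelt_of_mem {S : Subgroup G} (hS : IsPGroup p S) {g : G} (hg : g ∈ S) :
    ∃ k : ℕ, orderOf g = p ^ k := by
  obtain ⟨k, hk⟩ := (IsPGroup.iff_orderOf.mp hS) ⟨g, hg⟩
  rw [Subgroup.orderOf_mk] at hk
  exact ⟨k, hk⟩

/-- the fibre of the reduction map over a `p`-element -/
theorem fibre (N : Subgroup G) [N.Normal] (P : Sylow p G) (Pbar : Sylow p (G ⧸ N))
    (xb : G ⧸ N) (hxb : ∃ k : ℕ, orderOf xb = p ^ k) :
    Nat.card (P : Subgroup G) ≤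
        Nat.card {g : {g : G // ∃ k : ℕ, orderOf g = p ^ k} // QuotientGroup.mk' N g.1 = xb} *
          Nat.card (Pbar : Subgroup (G ⧸ N)) ∧
      (N ≤ Subgroup.center G → Nat.card (P : Subgroup G) =
        Nat.card {g : {g : G // ∃ k : ℕ, orderOf g = p ^ k} // QuotientGroup.mk' N g.1 = xb} *
          Nat.card (Pbar : Subgroup (G ⧸ N))) := by
  -- a Sylow subgroup `Q` and `s0 ∈ Q` over `xb`
  obtain ⟨k, hk⟩ := hxb
  have hz : IsPGroup p (Subgroup.zpowers xb) := by
    apply IsPGroup.of_card (n := k)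
    rw [Nat.card_zpowers, hk]
  obtain ⟨Qb, hQb⟩ := hz.exists_le_sylow
  obtain ⟨Q, hQ⟩ := Sylow.mapSurjective_surjective (QuotientGroup.mk'_surjective N) p Qb
  have hxQ : xb ∈ (Q : Subgroup G).map (QuotientGroup.mk' N) := by
    have h1 : xb ∈ (Qb : Subgroup (G ⧸ N)) := hQb (Subgroup.mem_zpowers xb)
    rw [← hQ] at h1
    exact h1
  obtain ⟨s0, hs0Q, hs0⟩ := hxQ
  -- cardinalities
  have hcQ : Nat.card (Q : Subgroup G) = Nat.card (P : Subgroup G) := by
    rw [Sylow.card_eq_multiplicity, Sylow.card_eq_multiplicity]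
  have hcQb : Nat.card ((Q : Subgroup G).map (QuotientGroup.mk' N)) =
      Nat.card (Pbar : Subgroup (G ⧸ N)) := by
    have h1 : Nat.card (Qb : Subgroup (G ⧸ N)) = Nat.card (Pbar : Subgroup (G ⧸ N)) := by
      rw [Sylow.card_eq_multiplicity, Sylow.card_eq_multiplicity]
    rw [← h1, ← hQ]
    rfl
  have hcD : Nat.card ((Q : Subgroup G) ⊓ N : Subgroup G) *
      Nat.card (Pbar : Subgroup (G ⧸ N)) = Nat.card (P : Subgroup G) := by
    have h1 := Subgroup.relIndex_mul_relIndex ⊥ ((Q : Subgroup G) ⊓ N) (Q : Subgroup G) bot_le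
      inf_le_left
    rw [Subgroup.relIndex_bot_left, Subgroup.relIndex_bot_left, Subgroup.inf_relIndex_left] at h1
    have h2 := Subgroup.relIndex_ker (QuotientGroup.mk' N) (K := (Q : Subgroup G))
    rw [QuotientGroup.ker_mk'] at h2
    rw [h2, hcQb, hcQ] at h1
    exact h1
  -- the injection
  obtain ⟨ι, hι⟩ : ∃ ι : ↥((Q : Subgroup G) ⊓ N : Subgroup G) →
      {g : {g : G // ∃ k : ℕ, orderOf g = p ^ k} // QuotientGroup.mk' N g.1 = xb},
      ∀ n, ((ι n).1.1 : G) = s0 * (n : G) := by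
    refine ⟨fun n => ⟨⟨s0 * (n : G), pelt_of_mem p Q.isPGroup'
      ((Q : Subgroup G).mul_mem hs0Q (Subgroup.mem_inf.mp n.2).1)⟩, ?_⟩, fun n => rfl⟩
    show QuotientGroup.mk' N (s0 * (n : G)) = xb
    have h1 : QuotientGroup.mk' N (n : G) = 1 :=
      (QuotientGroup.eq_one_iff (n : G)).mpr (Subgroup.mem_inf.mp n.2).2
    rw [map_mul, hs0, h1, mul_one]
  have hinj : Function.Injective ι := by
    intro a b hab
    have h1 : s0 * (a : G) = s0 * (b : G) := by rw [← hι a, ← hι b, hab]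
    exact Subtype.ext (mul_left_cancel h1)
  constructor
  · rw [← hcD]
    exact Nat.mul_le_mul_right _ (Nat.card_le_card_of_injective ι hinj)
  · intro hNZ
    have hsurj : Function.Surjective ι := by
      rintro ⟨⟨g, hgp⟩, hgx⟩
      have hgx' : QuotientGroup.mk' N g = xb := hgx
      have hnN : s0⁻¹ * g ∈ N := by
        rw [← QuotientGroup.eq_one_iff, ← QuotientGroup.mk'_apply, map_mul, map_inv, hs0, hgx',
          inv_mul_cancel]
      have hcomm : Commute s0⁻¹ g := by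
        have h1 : s0⁻¹ * g ∈ Subgroup.center G := hNZ hnN
        have h2 := Subgroup.mem_center_iff.mp h1 s0
        -- s0 * (s0⁻¹ * g) = (s0⁻¹ * g) * s0
        show s0⁻¹ * g = g * s0⁻¹
        calc s0⁻¹ * g = s0⁻¹ * (s0 * (s0⁻¹ * g)) := by group
          _ = s0⁻¹ * ((s0⁻¹ * g) * s0) := by rw [h2]
          _ = s0⁻¹ * s0⁻¹ * g * s0 := by group
          _ = g * s0⁻¹ := by
            have h3 : s0⁻¹ * g * s0 = g := by
              have : s0 * (s0⁻¹ * g) = g := by group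
              rw [h2] at this
              exact this
            calc s0⁻¹ * s0⁻¹ * g * s0 = s0⁻¹ * (s0⁻¹ * g * s0) := by group
              _ = s0⁻¹ * g := by rw [h3]
              _ = (s0⁻¹ * g * s0) * s0⁻¹ := by group
              _ = g * s0⁻¹ := by rw [h3]
      obtain ⟨k1, hk1⟩ := pelt_of_mem p Q.isPGroup' hs0Q
      obtain ⟨k2, hk2⟩ := hgp
      have hord : orderOf (s0⁻¹ * g) ∣ p ^ (max k1 k2) := by
        apply (hcomm.orderOf_mul_dvd_lcm).trans
        rw [orderOf_inv, hk1, hk2]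
        apply Nat.lcm_dvd
        · exact pow_dvd_pow p (le_max_left _ _)
        · exact pow_dvd_pow p (le_max_right _ _)
      have hzp : IsPGroup p (Subgroup.zpowers (s0⁻¹ * g)) := by
        obtain ⟨j, -, hj⟩ := (Nat.dvd_prime_pow hp.out).mp hord
        apply IsPGroup.of_card (n := j)
        rw [Nat.card_zpowers, hj]
      have hzn : (Subgroup.zpowers (s0⁻¹ * g)).Normal := by
        constructor
        intro n hn y
        have hnc : n ∈ Subgroup.center G := by
          obtain ⟨i, rfl⟩ := Subgroup.mem_zpowers_iff.mp hn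
          exact Subgroup.zpow_mem _ (hNZ hnN) i
        have h2 := Subgroup.mem_center_iff.mp hnc y
        have h3 : y * n * y⁻¹ = n := by rw [h2]; group
        rw [h3]
        exact hn
      have hnQ : s0⁻¹ * g ∈ (Q : Subgroup G) :=
        (hzp.le_sylow_of_normal Q) (Subgroup.mem_zpowers _)
      refine ⟨⟨s0⁻¹ * g, Subgroup.mem_inf.mpr ⟨hnQ, hnN⟩⟩, ?_⟩
      apply Subtype.ext
      apply Subtype.ext
      rw [hι]
      show s0 * (s0⁻¹ * g) = g
      group
    rw [← hcD]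
    congr 1
    exact Nat.card_congr (Equiv.ofBijective ι ⟨hinj, hsurj⟩)

/-- `S4153` -/
theorem main (N : Subgroup G) [N.Normal] (P : Sylow p G) (Pbar : Sylow p (G ⧸ N)) :
    Nat.card {g : (G ⧸ N) // ∃ k : ℕ, orderOf g = p ^ k} * Nat.card (P : Subgroup G) ≤
        Nat.card {g : G // ∃ k : ℕ, orderOf g = p ^ k} * Nat.card (Pbar : Subgroup (G ⧸ N)) ∧
      (N ≤ Subgroup.center G →
        Nat.card {g : (G ⧸ N) // ∃ k : ℕ, orderOf g = p ^ k} * Nat.card (P : Subgroup G) =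
          Nat.card {g : G // ∃ k : ℕ, orderOf g = p ^ k} *
            Nat.card (Pbar : Subgroup (G ⧸ N))) := by
  obtain ⟨Φ, hΦ⟩ : ∃ Φ : {g : G // ∃ k : ℕ, orderOf g = p ^ k} →
      {y : G ⧸ N // ∃ k : ℕ, orderOf y = p ^ k}, ∀ g, (Φ g).1 = QuotientGroup.mk' N g.1 :=
    ⟨fun g => ⟨QuotientGroup.mk' N g.1, pelt_map p N g.2⟩, fun g => rfl⟩
  have hfib : ∀ y : {y : G ⧸ N // ∃ k : ℕ, orderOf y = p ^ k},
      Nat.card {g : {g : G // ∃ k : ℕ, orderOf g = p ^ k} // Φ g = y} =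
        Nat.card {g : {g : G // ∃ k : ℕ, orderOf g = p ^ k} // QuotientGroup.mk' N g.1 = y.1} := by
    intro y
    apply Nat.card_congr
    apply Equiv.subtypeEquivRight
    intro g
    rw [Subtype.ext_iff, hΦ]
  have := Fintype.ofFinite {y : G ⧸ N // ∃ k : ℕ, orderOf y = p ^ k}
  have hsum : Nat.card {g : G // ∃ k : ℕ, orderOf g = p ^ k} =
      ∑ y : {y : G ⧸ N // ∃ k : ℕ, orderOf y = p ^ k},
        Nat.card {g : {g : G // ∃ k : ℕ, orderOf g = p ^ k} // QuotientGroup.mk' N g.1 = y.1} := by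
    rw [← Nat.card_congr (Equiv.sigmaFiberEquiv Φ), Nat.card_sigma]
    exact Finset.sum_congr rfl (fun y _ => hfib y)
  have hleft : Nat.card {g : (G ⧸ N) // ∃ k : ℕ, orderOf g = p ^ k} * Nat.card (P : Subgroup G) =
      ∑ _y : {y : G ⧸ N // ∃ k : ℕ, orderOf y = p ^ k}, Nat.card (P : Subgroup G) := by
    rw [Finset.sum_const, Finset.card_univ, Nat.card_eq_fintype_card, smul_eq_mul]
  rw [hleft, hsum, Finset.sum_mul]
  constructor
  · apply Finset.sum_le_sum
    intro y _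
    exact (fibre p N P Pbar y.1 y.2).1
  · intro hNZ
    apply Finset.sum_congr rfl
    intro y _
    exact (fibre p N P Pbar y.1 y.2).2 hNZ

end Cfsg.Agent.H2.PEltQ
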