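import Mathlib
import Cfsg.Agent.S2387
import Cfsg.Agent.H9.SemisimpleConj
import Cfsg.Agent.H9.SemisimpleExists

/-!
# Involutions of `PGL_n(q)`, `q` odd

Elements `g` of `GL_n(F)` whose square is a scalar `λ`: if `λ = μ²` the characteristic polynomial is
`(X - μ)^(n-j) (X + μ)^j`, and if `λ` is a non-square it is `(X² - λ)^(n/2)`.  Such elements are
semisimple, hence classified up to conjugacy by their characteristic polynomial.
-/

set_option autoImplicit false
set_option linter.unusedSectionVars false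
set_option linter.unusedVariables false

namespace Cfsg.Agent.H2.PGLInv

open Polynomial UniqueFactorizationMonoid

universe u

variable {F : Type u} [Field F] [Fintype F] [DecidableEq F]

section factor

variable (p : ℕ) [Fact p.Prime] [CharP F p] {n : ℕ}

/-- irreducible factors of the characteristic polynomial of a semisimple element divide any
annihilating polynomial -/
theorem factor_dvd_of_aeval (g : GL (Fin n) F) (hcop : (orderOf g).Coprime p) (f : F[X])
    (hf : aeval (Matrix.toLin' (g : Matrix (Fin n) (Fin n) F)) f = 0) (π : F[X])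
    (hπ : π ∈ normalizedFactors (g : Matrix (Fin n) (Fin n) F).charpoly) : π ∣ f := by
  have hirr := irreducible_of_normalized_factor π hπ
  have hmonic : π.Monic := by
    rw [← normalize_normalized_factor π hπ]
    exact Polynomial.monic_normalize hirr.ne_zero
  have hss := Cfsg.Agent.S2387.ss_of_coprime p g hcop
  have hdvd : π ∣ (Matrix.toLin' (g : Matrix (Fin n) (Fin n) F)).charpoly := by
    rw [Matrix.charpoly_toLin']
    exact dvd_of_mem_normalizedFactors hπ
  obtain ⟨U, C, _, _, _, _, _, _, B, Y', e, he, hB, hBq⟩ :=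
    Cfsg.Agent.H9.SemisimpleConj.exists_split_of_dvd π hirr hmonic n (Fin n → F)
      (Matrix.toLin' (g : Matrix (Fin n) (Fin n) F))
      (by rw [Module.finrank_fintype_fun_eq_card, Fintype.card_fin]) hss hdvd
  rw [← hBq]
  apply minpoly.dvd
  apply LinearMap.ext
  intro u
  have h1 := Cfsg.Agent.H9.SemisimpleConj.aeval_intertwine B
    (Matrix.toLin' (g : Matrix (Fin n) (Fin n) F))
    ((e : (U × C) →ₗ[F] (Fin n → F)) ∘ₗ LinearMap.inl F U C) (by
      intro v
      simp only [LinearMap.comp_apply, LinearEquiv.coe_coe, LinearMap.inl_apply]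
      rw [he, LinearMap.prodMap_apply, map_zero]) f u
  rw [hf, LinearMap.zero_apply] at h1
  simp only [LinearMap.comp_apply, LinearEquiv.coe_coe, LinearMap.inl_apply] at h1
  have h2 := e.injective (h1.symm.trans (map_zero e).symm)
  rw [LinearMap.zero_apply]
  exact (Prod.ext_iff.1 h2).1

end factor

section ufm

theorem monic_prod_factors (χ : F[X]) (hχ : χ.Monic) : (normalizedFactors χ).prod = χ := by
  have h := prod_normalizedFactors_eq (a := χ) hχ.ne_zero
  rw [h, hχ.normalize_eq_self]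

/-- a monic polynomial all of whose normalized factors equal `π` is a power of `π` -/
theorem eq_pow_of_factors (χ π : F[X]) (hχ : χ.Monic)
    (h : ∀ f ∈ normalizedFactors χ, f = π) :
    χ = π ^ Multiset.card (normalizedFactors χ) := by
  conv_lhs => rw [← monic_prod_factors χ hχ]
  rw [Multiset.eq_replicate_of_mem h, Multiset.prod_replicate, Multiset.card_replicate]

/-- a monic polynomial all of whose normalized factors are `π₁` or `π₂` -/
theorem eq_pow_mul_pow_of_factors (χ π₁ π₂ : F[X]) (hχ : χ.Monic)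
    (h : ∀ f ∈ normalizedFactors χ, f = π₁ ∨ f = π₂) :
    ∃ a b : ℕ, χ = π₁ ^ a * π₂ ^ b := by
  classical
  set s := normalizedFactors χ with hs
  have h1 : s.filter (fun f => f = π₁) = Multiset.replicate (s.count π₁) π₁ := by
    rw [Multiset.filter_eq']
  have h2 : s.filter (fun f => ¬ f = π₁) =
      Multiset.replicate (Multiset.card (s.filter (fun f => ¬ f = π₁))) π₂ := by
    apply Multiset.eq_replicate_of_mem
    intro f hf
    rw [Multiset.mem_filter] at hf
    exact (h f hf.1).resolve_left hf.2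
  refine ⟨s.count π₁, Multiset.card (s.filter (fun f => ¬ f = π₁)), ?_⟩
  conv_lhs => rw [← monic_prod_factors χ hχ, ← hs, ← Multiset.filter_add_not (fun f => f = π₁) s,
    Multiset.prod_add, h1, h2]
  rw [Multiset.prod_replicate, Multiset.prod_replicate]

end ufm

section smul

variable {n : ℕ}

/-- the characteristic polynomial of a scalar multiple -/
theorem charpoly_smul (M : Matrix (Fin n) (Fin n) F) (c : F) (hc : c ≠ 0) :
    (c • M).charpoly = C (c ^ n) * M.charpoly.comp (C c⁻¹ * X) := by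
  have h1 : Matrix.charmatrix (c • M) =
      C c • (Polynomial.compRingHom (C c⁻¹ * X)).mapMatrix (Matrix.charmatrix M) := by
    ext i j : 1
    rw [Matrix.smul_apply, RingHom.mapMatrix_apply, Matrix.map_apply]
    by_cases hij : i = j
    · subst hij
      rw [Matrix.charmatrix_apply_eq, Matrix.charmatrix_apply_eq, Matrix.smul_apply,
        Polynomial.coe_compRingHom_apply, Polynomial.sub_comp, Polynomial.X_comp,
        Polynomial.C_comp, smul_eq_mul, smul_eq_mul, mul_sub, ← mul_assoc, ← C_mul,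
        mul_inv_cancel₀ hc, C_1, one_mul, C_mul]
    · rw [Matrix.charmatrix_apply_ne _ _ _ hij, Matrix.charmatrix_apply_ne _ _ _ hij,
        Matrix.smul_apply, Polynomial.coe_compRingHom_apply, Polynomial.neg_comp,
        Polynomial.C_comp, smul_eq_mul, smul_eq_mul, C_mul, mul_neg]
  rw [Matrix.charpoly, h1, Matrix.det_smul, Fintype.card_fin, ← RingHom.map_det, ← C_pow,
    Polynomial.coe_compRingHom_apply]
  rfl

end smul

section types

variable {n : ℕ}

local notation "sc" => Matrix.GeneralLinearGroup.scalar (Fin n)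

/-- `g` has characteristic polynomial `(X - μ)^(n-j) (X + μ)^j` -/
def HasType (g : GL (Fin n) F) (μ : Fˣ) (j : ℕ) : Prop :=
  j ≤ n ∧ (g : Matrix (Fin n) (Fin n) F).charpoly = (X - C (μ : F)) ^ (n - j) * (X + C (μ : F)) ^ j

theorem val_sc_mul (u : Fˣ) (g : GL (Fin n) F) :
    ((sc u * g : GL (Fin n) F) : Matrix (Fin n) (Fin n) F) =
      (u : F) • (g : Matrix (Fin n) (Fin n) F) := by
  rw [Units.val_mul, Matrix.GeneralLinearGroup.coe_scalar, Matrix.scalar_apply,
    ← Matrix.smul_eq_diagonal_mul]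

theorem HasType.smul {g : GL (Fin n) F} {μ : Fˣ} {j : ℕ} (h : HasType g μ j) (u : Fˣ) :
    HasType (sc u * g) (u * μ) j := by
  obtain ⟨hj, hc⟩ := h
  refine ⟨hj, ?_⟩
  have hu : (u : F) ≠ 0 := u.ne_zero
  rw [val_sc_mul, charpoly_smul _ _ hu, hc, Polynomial.mul_comp, Polynomial.pow_comp,
    Polynomial.pow_comp, Polynomial.sub_comp, Polynomial.add_comp, Polynomial.X_comp,
    Polynomial.C_comp]
  have e0 : C ((u : F) ^ n) = C (u : F) ^ (n - j) * C (u : F) ^ j := by
    rw [← C_pow, ← C_pow, ← C_mul, ← pow_add, Nat.sub_add_cancel hj]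
  rw [e0]
  have e1 : C (u : F) * (C (u : F)⁻¹ * X - C (μ : F)) = X - C ((u * μ : Fˣ) : F) := by
    rw [mul_sub, ← mul_assoc, ← C_mul, mul_inv_cancel₀ hu, C_1, one_mul, Units.val_mul, C_mul]
  have e2 : C (u : F) * (C (u : F)⁻¹ * X + C (μ : F)) = X + C ((u * μ : Fˣ) : F) := by
    rw [mul_add, ← mul_assoc, ← C_mul, mul_inv_cancel₀ hu, C_1, one_mul, Units.val_mul, C_mul]
  rw [← e1, ← e2, mul_pow, mul_pow]
  ring

theorem HasType.neg {g : GL (Fin n) F} {μ : Fˣ} {j : ℕ} (h : HasType g μ j) :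
    HasType g (-μ) (n - j) := by
  obtain ⟨hj, hc⟩ := h
  refine ⟨Nat.sub_le _ _, ?_⟩
  rw [hc, Units.val_neg, C_neg, sub_neg_eq_add, ← sub_eq_add_neg, Nat.sub_sub_self hj, mul_comm]

theorem HasType.unique (h2 : (2 : F) ≠ 0) {g : GL (Fin n) F} {μ : Fˣ} {j j' : ℕ}
    (h : HasType g μ j) (h' : HasType g μ j') : j = j' := by
  have hμ : (μ : F) ≠ 0 := μ.ne_zero
  have key : ∀ k : ℕ, k ≤ n → Polynomial.rootMultiplicity (-(μ : F))
      ((X - C (μ : F)) ^ (n - k) * (X + C (μ : F)) ^ k) = k := by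
    intro k hk
    have hne1 : (X - C (μ : F)) ^ (n - k) ≠ 0 := pow_ne_zero _ (X_sub_C_ne_zero _)
    have e : (X + C (μ : F)) = X - C (-(μ : F)) := by rw [C_neg, sub_neg_eq_add]
    have hne2 : (X + C (μ : F)) ^ k ≠ 0 := by rw [e]; exact pow_ne_zero _ (X_sub_C_ne_zero _)
    rw [Polynomial.rootMultiplicity_mul (mul_ne_zero hne1 hne2), e,
      Polynomial.rootMultiplicity_X_sub_C_pow, Polynomial.rootMultiplicity_eq_zero, zero_add]
    rw [Polynomial.IsRoot.def, eval_pow, eval_sub, eval_X, eval_C]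
    apply pow_ne_zero
    intro h0
    have : (2 : F) * (μ : F) = 0 := by linear_combination -h0
    rcases mul_eq_zero.mp this with h | h
    · exact h2 h
    · exact hμ h
  rw [← key j h.1, ← key j' h'.1, ← h.2, ← h'.2]

end types

section sq

variable (p : ℕ) [Fact p.Prime] [CharP F p] {n : ℕ}

local notation "sc" => Matrix.GeneralLinearGroup.scalar (Fin n)

theorem units_pow_card_sub_one (l : Fˣ) : l ^ (Fintype.card F - 1) = 1 := by
  apply Units.ext
  rw [Units.val_pow_eq_pow_val, Units.val_one]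
  exact FiniteField.pow_card_sub_one_eq_one _ l.ne_zero

theorem card_sub_one_coprime : (Fintype.card F - 1).Coprime p := by
  have hp : p.Prime := Fact.out
  obtain ⟨k, -, hk⟩ := FiniteField.card F p
  rw [Nat.coprime_comm, Nat.Prime.coprime_iff_not_dvd hp]
  intro h
  have h1 : p ∣ Fintype.card F := by rw [hk]; exact dvd_pow_self p k.ne_zero
  have h2 : 1 ≤ Fintype.card F := Fintype.card_pos
  have h3 : p ∣ 1 := by
    have := Nat.dvd_sub h1 h
    rwa [Nat.sub_sub_self h2] at this
  exact hp.one_lt.ne' (Nat.dvd_one.mp h3)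

/-- elements with scalar square have order prime to `p` -/
theorem coprime_of_sq (hp2 : p ≠ 2) (g : GL (Fin n) F) (l : Fˣ) (h : g * g = sc l) :
    (orderOf g).Coprime p := by
  have hp : p.Prime := Fact.out
  have h1 : g ^ (2 * (Fintype.card F - 1)) = 1 := by
    rw [pow_mul, pow_two, h, ← map_pow, units_pow_card_sub_one, map_one]
  have h2 : (2 * (Fintype.card F - 1)).Coprime p := by
    apply Nat.Coprime.mul_left
    · exact (Nat.coprime_primes Nat.prime_two hp).mpr (Ne.symm hp2)
    · exact card_sub_one_coprime p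
  exact Nat.Coprime.coprime_dvd_left (orderOf_dvd_of_pow_eq_one h1) h2

theorem coprime_sc (u : Fˣ) : (orderOf (sc u : GL (Fin n) F)).Coprime p := by
  have h1 : (sc u : GL (Fin n) F) ^ (Fintype.card F - 1) = 1 := by
    rw [← map_pow, units_pow_card_sub_one, map_one]
  exact Nat.Coprime.coprime_dvd_left (orderOf_dvd_of_pow_eq_one h1) (card_sub_one_coprime p)

theorem sq_sc_mul (u l : Fˣ) (g : GL (Fin n) F) (h : g * g = sc l) :
    (sc u * g) * (sc u * g) = sc (u * u * l) := by
  have hc := Matrix.GeneralLinearGroup.scalar_commute u g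
  calc (sc u * g) * (sc u * g) = sc u * (g * sc u) * g := by group
    _ = sc u * (sc u * g) * g := by rw [hc]
    _ = (sc u * sc u) * (g * g) := by group
    _ = sc (u * u * l) := by rw [h, ← map_mul, ← map_mul]

theorem aeval_sq (g : GL (Fin n) F) (l : Fˣ) (h : g * g = sc l) :
    aeval (Matrix.toLin' (g : Matrix (Fin n) (Fin n) F)) (X ^ 2 - C (l : F) : F[X]) = 0 := by
  have h1 : (g : Matrix (Fin n) (Fin n) F) * (g : Matrix (Fin n) (Fin n) F) =
      Matrix.scalar (Fin n) (l : F) := by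
    have := congrArg (fun x : GL (Fin n) F => (x : Matrix (Fin n) (Fin n) F)) h
    simpa using this
  rw [map_sub, map_pow, aeval_X, aeval_C, pow_two]
  apply LinearMap.ext
  intro v
  rw [LinearMap.sub_apply, LinearMap.zero_apply, Module.End.mul_apply, Matrix.toLin'_apply,
    Matrix.toLin'_apply, Matrix.mulVec_mulVec, h1, Matrix.scalar_apply,
    Algebra.algebraMap_eq_smul_one, LinearMap.smul_apply, Module.End.one_apply,
    ← Matrix.smul_one_eq_diagonal, Matrix.smul_mulVec, Matrix.one_mulVec, sub_self]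

theorem hasType_of_sq (hp2 : p ≠ 2) (g : GL (Fin n) F) (μ : Fˣ) (h : g * g = sc (μ * μ)) :
    ∃ j, HasType g μ j := by
  have hcop := coprime_of_sq p hp2 g _ h
  have hae := aeval_sq g _ h
  have hfac : (X ^ 2 - C ((μ * μ : Fˣ) : F) : F[X]) = (X - C (μ : F)) * (X + C (μ : F)) := by
    rw [Units.val_mul, C_mul]; ring
  have e : (X + C (μ : F)) = X - C (-(μ : F)) := by rw [C_neg, sub_neg_eq_add]
  have hfactors : ∀ f ∈ normalizedFactors (g : Matrix (Fin n) (Fin n) F).charpoly,
      f = X - C (μ : F) ∨ f = X + C (μ : F) := by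
    intro f hf
    have hirr := irreducible_of_normalized_factor f hf
    have hmonic : f.Monic := by
      rw [← normalize_normalized_factor f hf]
      exact Polynomial.monic_normalize hirr.ne_zero
    have hd := factor_dvd_of_aeval p g hcop _ hae f hf
    rw [hfac] at hd
    rcases hirr.prime.dvd_or_dvd hd with h' | h'
    · left
      exact eq_of_monic_of_associated hmonic (monic_X_sub_C _)
        (hirr.associated_of_dvd (irreducible_X_sub_C _) h')
    · right
      rw [e] at h' ⊢
      exact eq_of_monic_of_associated hmonic (monic_X_sub_C _)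
        (hirr.associated_of_dvd (irreducible_X_sub_C _) h')
  obtain ⟨a, b, hab⟩ := eq_pow_mul_pow_of_factors _ _ _ (Matrix.charpoly_monic _) hfactors
  have hdeg : a + b = n := by
    have h1 := Matrix.charpoly_natDegree_eq_dim (g : Matrix (Fin n) (Fin n) F)
    rw [hab, e, Polynomial.natDegree_mul (pow_ne_zero _ (X_sub_C_ne_zero _))
      (pow_ne_zero _ (X_sub_C_ne_zero _)), natDegree_pow, natDegree_pow, natDegree_X_sub_C,
      natDegree_X_sub_C, Fintype.card_fin] at h1
    omega
  refine ⟨b, by omega, ?_⟩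
  rw [hab]
  congr 2
  omega

theorem HasType.conj {g h : GL (Fin n) F} {μ : Fˣ} {j : ℕ} (hc : IsConj g h) (hg : HasType g μ j) :
    HasType h μ j :=
  ⟨hg.1, (Cfsg.Agent.S2387.charpoly_of_conj g h hc) ▸ hg.2⟩

theorem HasType.isConj {g h : GL (Fin n) F} {μ : Fˣ} {j : ℕ} (hg : HasType g μ j)
    (hh : HasType h μ j) (hgc : (orderOf g).Coprime p) (hhc : (orderOf h).Coprime p) :
    IsConj g h :=
  Cfsg.Agent.S2387.conj_of_charpoly p g h hgc hhc (hg.2.trans hh.2.symm)

theorem hasType_sc (μ : Fˣ) : HasType (sc μ : GL (Fin n) F) μ 0 := by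
  refine ⟨Nat.zero_le _, ?_⟩
  rw [Matrix.GeneralLinearGroup.coe_scalar, Matrix.scalar_apply, Matrix.charpoly_diagonal,
    Finset.prod_const, Finset.card_univ, Fintype.card_fin, pow_zero, mul_one, Nat.sub_zero]

theorem eq_sc_of_hasType_zero {g : GL (Fin n) F} {μ : Fˣ} (hg : HasType g μ 0)
    (hgc : (orderOf g).Coprime p) : g = sc μ := by
  have h1 := hg.isConj p (hasType_sc μ) hgc (coprime_sc p μ)
  rw [isConj_iff] at h1
  obtain ⟨c, hc⟩ := h1
  have h2 : g = c⁻¹ * sc μ * c := by rw [← hc]; group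
  rw [h2, mul_assoc, Matrix.GeneralLinearGroup.scalar_commute μ c, ← mul_assoc, inv_mul_cancel,
    one_mul]

end sq

section exist

variable {n : ℕ}

/-- diagonal involutions of every type -/
theorem exists_hasType_one (j : ℕ) (hj : j ≤ n) :
    ∃ g : GL (Fin n) F, g * g = 1 ∧ HasType g 1 j := by
  classical
  let d : Fin n → F := fun i => if (i : ℕ) < j then -1 else 1
  have hdd : ∀ i, d i * d i = 1 := by
    intro i
    show (if (i : ℕ) < j then (-1 : F) else 1) * (if (i : ℕ) < j then (-1 : F) else 1) = 1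
    split_ifs <;> ring
  have hDD : Matrix.diagonal d * Matrix.diagonal d = 1 := by
    rw [Matrix.diagonal_mul_diagonal, ← Matrix.diagonal_one]
    congr 1
    funext i
    exact hdd i
  refine ⟨⟨Matrix.diagonal d, Matrix.diagonal d, hDD, hDD⟩, Units.ext hDD, hj, ?_⟩
  show (Matrix.diagonal d).charpoly = _
  rw [Matrix.charpoly_diagonal, Units.val_one]
  have h1 : ∀ i : Fin n, (X - C (d i) : F[X]) =
      if (i : ℕ) < j then (X + C 1) else (X - C 1) := by
    intro i
    show (X - C (if (i : ℕ) < j then (-1 : F) else 1) : F[X]) = _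
    split_ifs
    · rw [C_neg, sub_neg_eq_add]
    · rfl
  rw [Finset.prod_congr rfl (fun i _ => h1 i), Finset.prod_ite, Finset.prod_const,
    Finset.prod_const, mul_comm]
  have hc1 : (Finset.univ.filter (fun i : Fin n => (i : ℕ) < j)).card = j := by
    rw [Fin.card_filter_val_lt]; exact min_eq_right hj
  have hc2 : (Finset.univ.filter (fun i : Fin n => ¬ (i : ℕ) < j)).card = n - j := by
    have := Finset.card_filter_add_card_filter_not (s := (Finset.univ : Finset (Fin n)))
      (fun i : Fin n => (i : ℕ) < j)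
    rw [hc1, Finset.card_univ, Fintype.card_fin] at this
    omega
  rw [hc1, hc2]

end exist

section typeB

variable (p : ℕ) [Fact p.Prime] [CharP F p] {n : ℕ}

local notation "sc" => Matrix.GeneralLinearGroup.scalar (Fin n)

theorem irreducible_of_not_isSquare (l : Fˣ) (hl : ¬ IsSquare l) :
    Irreducible (X ^ 2 - C (l : F) : F[X]) := by
  apply X_pow_sub_C_irreducible_of_prime Nat.prime_two
  intro b hb
  apply hl
  have hb0 : b ≠ 0 := by
    rintro rfl
    rw [zero_pow (by norm_num)] at hb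
    exact l.ne_zero hb.symm
  refine ⟨Units.mk0 b hb0, Units.ext ?_⟩
  rw [Units.val_mul, Units.val_mk0, ← hb, pow_two]

/-- the characteristic polynomial of an element whose square is a non-square scalar -/
theorem charpoly_of_sq_nonsquare (hp2 : p ≠ 2) (g : GL (Fin n) F) (l : Fˣ) (hl : ¬ IsSquare l)
    (h : g * g = sc l) :
    Even n ∧ (g : Matrix (Fin n) (Fin n) F).charpoly = (X ^ 2 - C (l : F)) ^ (n / 2) := by
  have hcop := coprime_of_sq p hp2 g _ h
  have hae := aeval_sq g _ h
  have hirr := irreducible_of_not_isSquare l hl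
  have hmon : (X ^ 2 - C (l : F) : F[X]).Monic := monic_X_pow_sub_C _ (by norm_num)
  have hfactors : ∀ f ∈ normalizedFactors (g : Matrix (Fin n) (Fin n) F).charpoly,
      f = X ^ 2 - C (l : F) := by
    intro f hf
    have hfirr := irreducible_of_normalized_factor f hf
    have hmonic : f.Monic := by
      rw [← normalize_normalized_factor f hf]
      exact Polynomial.monic_normalize hfirr.ne_zero
    have hd := factor_dvd_of_aeval p g hcop _ hae f hf
    exact eq_of_monic_of_associated hmonic hmon (hfirr.associated_of_dvd hirr hd)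
  have hpow := eq_pow_of_factors _ _ (Matrix.charpoly_monic _) hfactors
  set m := Multiset.card (normalizedFactors (g : Matrix (Fin n) (Fin n) F).charpoly) with hm
  have hdeg : 2 * m = n := by
    have h1 := Matrix.charpoly_natDegree_eq_dim (g : Matrix (Fin n) (Fin n) F)
    rw [hpow, natDegree_pow, natDegree_X_pow_sub_C, Fintype.card_fin] at h1
    omega
  refine ⟨⟨m, by omega⟩, ?_⟩
  rw [hpow]
  congr 1
  omega

theorem isConj_of_sq_nonsquare (hp2 : p ≠ 2) (g h : GL (Fin n) F) (l : Fˣ) (hl : ¬ IsSquare l)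
    (hg : g * g = sc l) (hh : h * h = sc l) : IsConj g h :=
  Cfsg.Agent.S2387.conj_of_charpoly p g h (coprime_of_sq p hp2 g _ hg) (coprime_of_sq p hp2 h _ hh)
    ((charpoly_of_sq_nonsquare p hp2 g l hl hg).2.trans
      (charpoly_of_sq_nonsquare p hp2 h l hl hh).2.symm)

theorem exists_sq_nonsquare (hp2 : p ≠ 2) (hn : Even n) (l : Fˣ) (hl : ¬ IsSquare l) :
    ∃ g : GL (Fin n) F, g * g = sc l := by
  have hirr := irreducible_of_not_isSquare l hl
  have hmon : (X ^ 2 - C (l : F) : F[X]).Monic := monic_X_pow_sub_C _ (by norm_num)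
  obtain ⟨m, hm⟩ := hn
  have hdeg : ((X ^ 2 - C (l : F) : F[X]) ^ m).natDegree = n := by
    rw [natDegree_pow, natDegree_X_pow_sub_C]; omega
  have hc0 : ((X ^ 2 - C (l : F) : F[X]) ^ m).coeff 0 ≠ 0 := by
    rw [coeff_zero_eq_eval_zero, eval_pow, eval_sub, eval_pow, eval_X, eval_C,
      zero_pow (by norm_num), zero_sub]
    exact pow_ne_zero _ (neg_ne_zero.mpr l.ne_zero)
  obtain ⟨g, hg, hgc⟩ := Cfsg.Agent.H9.SemisimpleExists.exists_gl p n _ (hmon.pow m) hdeg hc0
  refine ⟨g, ?_⟩
  have hss := Cfsg.Agent.S2387.ss_of_coprime p g hg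
  have hsq := hss.minpoly_squarefree
  rw [Matrix.minpoly_toLin'] at hsq
  have h1 : minpoly F (g : Matrix (Fin n) (Fin n) F) ∣ (X ^ 2 - C (l : F)) ^ m :=
    (Matrix.minpoly_dvd_charpoly _).trans (hgc ▸ dvd_rfl)
  have h2 : minpoly F (g : Matrix (Fin n) (Fin n) F) ∣ X ^ 2 - C (l : F) := by
    rcases Nat.eq_zero_or_pos m with h0 | hpos
    · rw [h0, pow_zero] at h1
      exact (isUnit_of_dvd_one h1).dvd
    · exact (hsq.dvd_pow_iff_dvd hpos.ne').mp h1
  obtain ⟨c, hc⟩ := h2
  have h3 : aeval (g : Matrix (Fin n) (Fin n) F) (X ^ 2 - C (l : F) : F[X]) = 0 := by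
    rw [hc, map_mul, minpoly.aeval, zero_mul]
  rw [map_sub, map_pow, aeval_X, aeval_C, sub_eq_zero] at h3
  apply Units.ext
  rw [Units.val_mul, Matrix.GeneralLinearGroup.coe_scalar, ← pow_two, h3]
  rfl

theorem exists_sq_ratio (hF : ringChar F ≠ 2) (l l' : Fˣ) (hl : ¬ IsSquare l) (hl' : ¬ IsSquare l') :
    ∃ u : Fˣ, l' = u * u * l := by
  have key : ∀ a : Fˣ, ¬ IsSquare a → (a : F) ^ (Fintype.card F / 2) = -1 := by
    intro a ha
    rcases FiniteField.pow_dichotomy hF a.ne_zero with h | h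
    · exfalso
      apply ha
      rw [FiniteField.unit_isSquare_iff hF]
      apply Units.ext
      rw [Units.val_pow_eq_pow_val, h, Units.val_one]
    · exact h
  have h1 : IsSquare (l' * l⁻¹) := by
    rw [FiniteField.unit_isSquare_iff hF]
    apply Units.ext
    rw [Units.val_pow_eq_pow_val, Units.val_mul, mul_pow, key l' hl', Units.val_inv_eq_inv_val,
      inv_pow, key l hl, Units.val_one]
    norm_num
  obtain ⟨u, hu⟩ := h1
  refine ⟨u, ?_⟩
  rw [← hu, inv_mul_cancel_right]

end typeB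

section generic

/-- counting conjugacy classes through a complete numeric invariant -/
theorem card_classes_of_types {P : Type*} [Group P] (good : P → Prop) (NT : P → ℕ → Prop)
    (I : Finset ℕ)
    (ha : ∀ x, good x → ∃ k ∈ I, NT x k)
    (hb : ∀ x y k, good x → good y → NT x k → NT y k → IsConj x y)
    (hc : ∀ x y k k', good x → good y → NT x k → NT y k' → IsConj x y → k = k')
    (hd : ∀ k ∈ I, ∃ x, good x ∧ NT x k) :
    Nat.card {C : ConjClasses P // ∃ x : P, ConjClasses.mk x = C ∧ good x} = I.card := by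
  classical
  choose rep hrep using hd
  let f : ↥I → {C : ConjClasses P // ∃ x : P, ConjClasses.mk x = C ∧ good x} :=
    fun k => ⟨ConjClasses.mk (rep k.1 k.2), rep k.1 k.2, rfl, (hrep k.1 k.2).1⟩
  have hf : Function.Bijective f := by
    constructor
    · intro k k' hkk'
      have h1 : ConjClasses.mk (rep k.1 k.2) = ConjClasses.mk (rep k'.1 k'.2) :=
        congrArg Subtype.val hkk'
      have h2 := ConjClasses.mk_eq_mk_iff_isConj.mp h1
      exact Subtype.ext (hc _ _ _ _ (hrep k.1 k.2).1 (hrep k'.1 k'.2).1 (hrep k.1 k.2).2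
        (hrep k'.1 k'.2).2 h2)
    · rintro ⟨C, x, rfl, hx⟩
      obtain ⟨k, hkI, hk⟩ := ha x hx
      refine ⟨⟨k, hkI⟩, Subtype.ext ?_⟩
      exact ConjClasses.mk_eq_mk_iff_isConj.mpr
        (hb _ _ k (hrep k hkI).1 hx (hrep k hkI).2 hk)
  rw [← Nat.card_congr (Equiv.ofBijective f hf), Nat.card_eq_fintype_card, Fintype.card_coe]

end generic

section pgl

variable {n : ℕ}

local notation "sc" => Matrix.GeneralLinearGroup.scalar (Fin n)
local notation "ZZ" => Subgroup.center (GL (Fin n) F)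

theorem mem_center_iff (g : GL (Fin n) F) : g ∈ ZZ ↔ ∃ u : Fˣ, g = sc u := by
  rw [Matrix.GeneralLinearGroup.center_eq_range_scalar]
  constructor
  · rintro ⟨u, hu⟩; exact ⟨u, hu.symm⟩
  · rintro ⟨u, hu⟩; exact ⟨u, hu.symm⟩

theorem orderOf_mk_eq_two (g : GL (Fin n) F) :
    orderOf (g : GL (Fin n) F ⧸ ZZ) = 2 ↔ g ∉ ZZ ∧ ∃ l : Fˣ, g * g = sc l := by
  have _ : Fact (Nat.Prime 2) := ⟨Nat.prime_two⟩
  rw [orderOf_eq_prime_iff, ← QuotientGroup.mk_pow, QuotientGroup.eq_one_iff, pow_two,
    Ne, QuotientGroup.eq_one_iff, mem_center_iff]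
  tauto

theorem isConj_mk_iff (g h : GL (Fin n) F) :
    IsConj (g : GL (Fin n) F ⧸ ZZ) (h : GL (Fin n) F ⧸ ZZ) ↔ ∃ u : Fˣ, IsConj g (sc u * h) := by
  constructor
  · intro hc
    rw [isConj_iff] at hc
    obtain ⟨c, hc⟩ := hc
    obtain ⟨x, rfl⟩ := QuotientGroup.mk_surjective c
    rw [← QuotientGroup.mk_inv, ← QuotientGroup.mk_mul, ← QuotientGroup.mk_mul,
      QuotientGroup.eq, mem_center_iff] at hc
    obtain ⟨u, hu⟩ := hc
    refine ⟨u⁻¹, ?_⟩
    rw [isConj_iff]
    refine ⟨x, ?_⟩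
    have h1 : h = x * g * x⁻¹ * sc u := by rw [← hu]; group
    rw [h1, ← Matrix.GeneralLinearGroup.scalar_commute, ← mul_assoc, ← map_mul, inv_mul_cancel,
      map_one, one_mul]
  · rintro ⟨u, hc⟩
    rw [isConj_iff] at hc ⊢
    obtain ⟨x, hx⟩ := hc
    refine ⟨(x : GL (Fin n) F ⧸ ZZ), ?_⟩
    rw [← QuotientGroup.mk_inv, ← QuotientGroup.mk_mul, ← QuotientGroup.mk_mul, hx,
      QuotientGroup.mk_mul]
    have : ((sc u : GL (Fin n) F) : GL (Fin n) F ⧸ ZZ) = 1 := by
      rw [QuotientGroup.eq_one_iff, mem_center_iff]; exact ⟨u, rfl⟩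
    rw [this, one_mul]

theorem sc_injective (hn : 0 < n) {a b : Fˣ} (h : (sc a : GL (Fin n) F) = sc b) : a = b := by
  have h1 := congrArg (fun x : GL (Fin n) F => (x : Matrix (Fin n) (Fin n) F) ⟨0, hn⟩ ⟨0, hn⟩) h
  simp only [Matrix.GeneralLinearGroup.coe_scalar, Matrix.scalar_apply,
    Matrix.diagonal_apply_eq] at h1
  exact Units.ext h1

/-- conjugate elements have the same (scalar) square -/
theorem sq_of_isConj {g g' : GL (Fin n) F} (hc : IsConj g g') {l : Fˣ} (h : g' * g' = sc l) :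
    g * g = sc l := by
  rw [isConj_iff] at hc
  obtain ⟨c, rfl⟩ := hc
  have h1 : g * g = c⁻¹ * ((c * g * c⁻¹) * (c * g * c⁻¹)) * c := by group
  rw [h1, h, mul_assoc, Matrix.GeneralLinearGroup.scalar_commute l c, ← mul_assoc, inv_mul_cancel,
    one_mul]

end pgl

section main

variable (p : ℕ) [Fact p.Prime] [CharP F p] {n : ℕ}

local notation "sc" => Matrix.GeneralLinearGroup.scalar (Fin n)
local notation "ZZ" => Subgroup.center (GL (Fin n) F)

/-- type data of an element of `GL_n` with scalar square -/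
def GT (g : GL (Fin n) F) (k : ℕ) : Prop :=
  (∃ (μ : Fˣ) (j : ℕ), 1 ≤ j ∧ j ≤ n - 1 ∧ g * g = sc (μ * μ) ∧ HasType g μ j ∧ k = min j (n - j)) ∨
  (k = 0 ∧ ∃ l : Fˣ, ¬ IsSquare l ∧ g * g = sc l)

/-- numeric type of an element of `PGL_n` -/
def NT (x : GL (Fin n) F ⧸ ZZ) (k : ℕ) : Prop :=
  ∃ g : GL (Fin n) F, (g : GL (Fin n) F ⧸ ZZ) = x ∧ GT g k

theorem two_ne_zero' (hp2 : p ≠ 2) : (2 : F) ≠ 0 := by
  have hp : p.Prime := Fact.out
  intro h
  have h1 : ((2 : ℕ) : F) = 0 := by exact_mod_cast h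
  rw [CharP.cast_eq_zero_iff F p] at h1
  exact hp2 ((Nat.prime_dvd_prime_iff_eq hp Nat.prime_two).mp h1)

/-- elements with scalar square have a type -/
theorem exists_GT (hp2 : p ≠ 2) (g : GL (Fin n) F) (hgZ : g ∉ ZZ) (l : Fˣ) (hl : g * g = sc l) :
    ∃ k, (1 ≤ k ∧ k ≤ n / 2 ∨ k = 0 ∧ Even n) ∧ GT g k := by
  by_cases hsq : IsSquare l
  · obtain ⟨μ, rfl⟩ := hsq
    obtain ⟨j, hj⟩ := hasType_of_sq p hp2 g μ hl
    have hcop := coprime_of_sq p hp2 g _ hl
    have hj0 : j ≠ 0 := by
      rintro rfl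
      apply hgZ
      rw [mem_center_iff]
      exact ⟨μ, eq_sc_of_hasType_zero p hj hcop⟩
    have hjn : j ≠ n := by
      rintro rfl
      apply hgZ
      rw [mem_center_iff]
      have := hj.neg
      rw [Nat.sub_self] at this
      exact ⟨-μ, eq_sc_of_hasType_zero p this hcop⟩
    have hjle := hj.1
    refine ⟨min j (n - j), Or.inl ⟨?_, ?_⟩, Or.inl ⟨μ, j, by omega, by omega, hl, hj, rfl⟩⟩
    · rw [le_min_iff]; omega
    · rcases le_total j (n - j) with h | h
      · rw [min_eq_left h]; omega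
      · rw [min_eq_right h]; omega
  · obtain ⟨hev, -⟩ := charpoly_of_sq_nonsquare p hp2 g l hsq hl
    exact ⟨0, Or.inr ⟨rfl, hev⟩, Or.inr ⟨rfl, l, hsq, hl⟩⟩

/-- same type implies conjugate up to scalars -/
theorem isConj_of_GT (hp2 : p ≠ 2) (hF : ringChar F ≠ 2) {g h : GL (Fin n) F} {k : ℕ}
    (hg : GT g k) (hh : GT h k) :
    ∃ u : Fˣ, IsConj g (sc u * h) := by
  rcases hg with ⟨μ, j, hj1, hjn, hgsq, hgT, hk⟩ | ⟨hk0, l, hl, hgsq⟩
  · rcases hh with ⟨ν, j', hj1', hjn', hhsq, hhT, hk'⟩ | ⟨hk0', -⟩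
    · have hcopg := coprime_of_sq p hp2 g _ hgsq
      have hmin : j' = j ∨ j' = n - j := by
        rw [hk] at hk'
        rcases le_total j (n - j) with h1 | h1 <;> rcases le_total j' (n - j') with h2 | h2
        · rw [min_eq_left h1, min_eq_left h2] at hk'; left; omega
        · rw [min_eq_left h1, min_eq_right h2] at hk'; right; omega
        · rw [min_eq_right h1, min_eq_left h2] at hk'; right; omega
        · rw [min_eq_right h1, min_eq_right h2] at hk'; left; omega
      rcases hmin with hjj | hjj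
      · refine ⟨μ * ν⁻¹, ?_⟩
        have h1 := hhT.smul (μ * ν⁻¹)
        rw [inv_mul_cancel_right, hjj] at h1
        exact hgT.isConj p h1 hcopg (coprime_of_sq p hp2 _ _ (sq_sc_mul _ _ h hhsq))
      · refine ⟨-(μ * ν⁻¹), ?_⟩
        have h1 := (hhT.smul (-(μ * ν⁻¹))).neg
        rw [neg_mul, inv_mul_cancel_right, neg_neg, hjj] at h1
        have hjle : j ≤ n := hgT.1
        rw [Nat.sub_sub_self hjle] at h1
        exact hgT.isConj p h1 hcopg (coprime_of_sq p hp2 _ _ (sq_sc_mul _ _ h hhsq))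
    · exfalso
      rw [hk0'] at hk
      have : 1 ≤ min j (n - j) := by rw [le_min_iff]; omega
      omega
  · rcases hh with ⟨ν, j', hj1', hjn', hhsq, hhT, hk'⟩ | ⟨-, l', hl', hhsq⟩
    · exfalso
      rw [hk0] at hk'
      have : 1 ≤ min j' (n - j') := by rw [le_min_iff]; omega
      omega
    · obtain ⟨u, hu⟩ := exists_sq_ratio hF l' l hl' hl
      refine ⟨u, ?_⟩
      have h1 := sq_sc_mul u l' h hhsq
      rw [← hu] at h1
      exact isConj_of_sq_nonsquare p hp2 g _ l hl hgsq h1

/-- conjugate up to scalars implies same type -/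
theorem GT_unique (hp2 : p ≠ 2) (hn : 0 < n) {g h : GL (Fin n) F} {k k' : ℕ}
    (hg : GT g k) (hh : GT h k') (u : Fˣ) (hc : IsConj g (sc u * h)) : k = k' := by
  have h2 := two_ne_zero' (F := F) p hp2
  rcases hg with ⟨μ, j, hj1, hjn, hgsq, hgT, hk⟩ | ⟨hk0, l, hl, hgsq⟩
  · rcases hh with ⟨ν, j', hj1', hjn', hhsq, hhT, hk'⟩ | ⟨hk0', l', hl', hhsq⟩
    · have h1 : HasType g (u * ν) j' := (hhT.smul u).conj hc.symm
      have h3 := sq_of_isConj hc (sq_sc_mul u _ h hhsq)
      rw [hgsq] at h3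
      have h4 : μ * μ = u * u * (ν * ν) := sc_injective hn h3
      have h5 : ((μ : F) - (u : F) * ν) * ((μ : F) + (u : F) * ν) = 0 := by
        have := congrArg (fun x : Fˣ => (x : F)) h4
        simp only [Units.val_mul] at this
        linear_combination this
      rcases mul_eq_zero.mp h5 with h6 | h6
      · have h7 : u * ν = μ := Units.ext (by rw [Units.val_mul]; linear_combination -h6)
        rw [h7] at h1
        rw [hk, hk', hgT.unique h2 h1]
      · have h7 : u * ν = -μ := Units.ext (by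
          rw [Units.val_mul, Units.val_neg]; linear_combination h6)
        rw [h7] at h1
        have h8 := h1.neg
        rw [neg_neg] at h8
        have h9 := hgT.unique h2 h8
        rw [hk, hk', h9, Nat.sub_sub_self h1.1, min_comm]
    · exfalso
      have h3 := sq_of_isConj hc (sq_sc_mul u _ h hhsq)
      rw [hgsq] at h3
      have h4 : μ * μ = u * u * l' := sc_injective hn h3
      apply hl'
      refine ⟨u⁻¹ * μ, ?_⟩
      have : l' = u⁻¹ * u⁻¹ * (μ * μ) := by rw [h4]; group
      rw [this]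
      exact mul_mul_mul_comm _ _ _ _
  · rcases hh with ⟨ν, j', hj1', hjn', hhsq, hhT, hk'⟩ | ⟨hk0', -⟩
    · exfalso
      have h3 := sq_of_isConj hc (sq_sc_mul u _ h hhsq)
      rw [hgsq] at h3
      have h4 : l = u * u * (ν * ν) := sc_injective hn h3
      apply hl
      refine ⟨u * ν, ?_⟩
      rw [h4]
      exact mul_mul_mul_comm _ _ _ _
    · rw [hk0, hk0']

end main

section final

variable (p : ℕ) [Fact p.Prime] [CharP F p] {n : ℕ}

local notation "sc" => Matrix.GeneralLinearGroup.scalar (Fin n)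
local notation "ZZ" => Subgroup.center (GL (Fin n) F)

/-- representatives of every type -/
theorem exists_of_type (hp2 : p ≠ 2) (hF : ringChar F ≠ 2) (hn : 2 ≤ n) (k : ℕ)
    (hk : 1 ≤ k ∧ k ≤ n / 2 ∨ k = 0 ∧ Even n) :
    ∃ g : GL (Fin n) F, g ∉ ZZ ∧ (∃ l : Fˣ, g * g = sc l) ∧ GT g k := by
  have h2 := two_ne_zero' (F := F) p hp2
  rcases hk with ⟨hk1, hk2⟩ | ⟨rfl, hev⟩
  · obtain ⟨g, hgg, hgT⟩ := exists_hasType_one (F := F) (n := n) k (by omega)
    have hgsq : g * g = sc (1 * 1) := by rw [hgg, mul_one, map_one]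
    refine ⟨g, ?_, ⟨_, hgsq⟩, Or.inl ⟨1, k, hk1, by omega, hgsq, hgT, ?_⟩⟩
    · intro hgZ
      rw [mem_center_iff] at hgZ
      obtain ⟨c, rfl⟩ := hgZ
      have h3 := (hasType_sc (n := n) c).2
      rw [hgT.2, pow_zero, mul_one, Nat.sub_zero, Units.val_one] at h3
      have e1 := congrArg (Polynomial.eval (1 : F)) h3
      have e2 := congrArg (Polynomial.eval (-1 : F)) h3
      simp only [eval_mul, eval_pow, eval_sub, eval_add, eval_X, eval_C] at e1 e2
      rw [sub_self, zero_pow (by omega), zero_mul] at e1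
      rw [neg_add_cancel, zero_pow (by omega), mul_zero] at e2
      have c1 : (1 : F) - c = 0 := pow_eq_zero_iff (by omega) |>.mp e1.symm
      have c2 : (-1 : F) - c = 0 := pow_eq_zero_iff (by omega) |>.mp e2.symm
      apply h2
      linear_combination c1 - c2
    · rw [min_eq_left]; omega
  · obtain ⟨a, ha⟩ := FiniteField.exists_nonsquare hF
    have ha0 : a ≠ 0 := by
      rintro rfl
      exact ha ⟨0, by ring⟩
    have hl : ¬ IsSquare (Units.mk0 a ha0) := by
      rintro ⟨b, hb⟩
      apply ha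
      refine ⟨(b : F), ?_⟩
      have := congrArg (fun x : Fˣ => (x : F)) hb
      simpa using this
    obtain ⟨g, hg⟩ := exists_sq_nonsquare p hp2 hev (Units.mk0 a ha0) hl
    refine ⟨g, ?_, ⟨_, hg⟩, Or.inr ⟨rfl, _, hl, hg⟩⟩
    intro hgZ
    rw [mem_center_iff] at hgZ
    obtain ⟨c, rfl⟩ := hgZ
    rw [← map_mul] at hg
    exact hl ⟨c, (sc_injective (by omega) hg).symm⟩

/-- **Involution classes of `PGL_n(q)`, `q` odd.** -/
theorem card_involution_classes (hp2 : p ≠ 2) (hF : ringChar F ≠ 2) (hn : 2 ≤ n) :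
    Nat.card {C : ConjClasses (GL (Fin n) F ⧸ ZZ) //
      ∃ x : GL (Fin n) F ⧸ ZZ, ConjClasses.mk x = C ∧ orderOf x = 2} =
      n / 2 + (if Even n then 1 else 0) := by
  classical
  set I : Finset ℕ := Finset.Icc 1 (n / 2) ∪ (if Even n then {0} else ∅) with hI
  have hmemI : ∀ k, k ∈ I ↔ (1 ≤ k ∧ k ≤ n / 2 ∨ k = 0 ∧ Even n) := by
    intro k
    rw [hI, Finset.mem_union, Finset.mem_Icc]
    split_ifs with hev
    · rw [Finset.mem_singleton]; tauto
    · simp only [Finset.notMem_empty]; tauto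
  have hcardI : I.card = n / 2 + (if Even n then 1 else 0) := by
    rw [hI, Finset.card_union_of_disjoint, Nat.card_Icc]
    · split_ifs <;> simp
    · rw [Finset.disjoint_left]
      intro k hk1 hk2
      rw [Finset.mem_Icc] at hk1
      split_ifs at hk2
      · rw [Finset.mem_singleton] at hk2; omega
      · simp at hk2
  rw [← hcardI]
  apply card_classes_of_types (fun x => orderOf x = 2) NT I
  · intro x hx
    obtain ⟨g, rfl⟩ := QuotientGroup.mk_surjective x
    obtain ⟨hgZ, l, hl⟩ := (orderOf_mk_eq_two g).mp hx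
    obtain ⟨k, hk, hGT⟩ := exists_GT p hp2 g hgZ l hl
    exact ⟨k, (hmemI k).mpr hk, g, rfl, hGT⟩
  · rintro x y k - - ⟨g, rfl, hg⟩ ⟨h, rfl, hh⟩
    exact (isConj_mk_iff g h).mpr (isConj_of_GT p hp2 hF hg hh)
  · rintro x y k k' - - ⟨g, rfl, hg⟩ ⟨h, rfl, hh⟩ hc
    obtain ⟨u, hu⟩ := (isConj_mk_iff g h).mp hc
    exact GT_unique p hp2 (by omega) hg hh u hu
  · intro k hk
    obtain ⟨g, hgZ, hl, hGT⟩ := exists_of_type p hp2 hF hn k ((hmemI k).mp hk)
    exact ⟨(g : GL (Fin n) F ⧸ ZZ), (orderOf_mk_eq_two g).mpr ⟨hgZ, hl⟩, g, rfl, hGT⟩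

end final

end Cfsg.Agent.H2.PGLInv
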