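import Mathlib
import Cfsg.Agent.H2.PGLInv

/-!
# Elements of prime order `r ∣ q - 1` in `PGL_n(q)`

Spectra of elements `g` of `GL_n(F)` with `g ^ r` scalar.
-/

set_option autoImplicit false
set_option linter.unusedSectionVars false
set_option linter.unusedVariables false

namespace Cfsg.Agent.H2.PGLOrderR

open Polynomial UniqueFactorizationMonoid Cfsg.Agent.H2.PGLInv

universe u

variable {F : Type u} [Field F] [Fintype F] [DecidableEq F]

section spec

variable (r : ℕ)

/-- the linear factor attached to an eigenvalue `μ c` -/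
noncomputable def lin (μ : Fˣ) (c : ↥(rootsOfUnity r F)) : F[X] :=
  X - C ((μ * (c : Fˣ) : Fˣ) : F)

theorem lin_monic (μ : Fˣ) (c : ↥(rootsOfUnity r F)) : (lin r μ c).Monic := monic_X_sub_C _

theorem lin_irreducible (μ : Fˣ) (c : ↥(rootsOfUnity r F)) : Irreducible (lin r μ c) :=
  irreducible_X_sub_C _

theorem lin_injective (μ : Fˣ) : Function.Injective (lin (F := F) r μ) := by
  intro c c' hcc'
  unfold lin at hcc'
  have h2 : C ((μ * (c : Fˣ) : Fˣ) : F) = C ((μ * (c' : Fˣ) : Fˣ) : F) := by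
    have := congrArg (fun f : F[X] => X - f) hcc'
    simpa using this
  have h3 := Units.ext (C_injective h2)
  exact Subtype.ext (mul_left_cancel h3)

/-- the polynomial with roots `μ c`, `c ∈ s` -/
noncomputable def specPoly (μ : Fˣ) (s : Multiset ↥(rootsOfUnity r F)) : F[X] :=
  (s.map (lin r μ)).prod

theorem specPoly_monic (μ : Fˣ) (s : Multiset ↥(rootsOfUnity r F)) : (specPoly r μ s).Monic := by
  unfold specPoly
  apply monic_multiset_prod_of_monic
  intro c _
  exact lin_monic r μ c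

theorem specPoly_natDegree (μ : Fˣ) (s : Multiset ↥(rootsOfUnity r F)) :
    (specPoly r μ s).natDegree = Multiset.card s := by
  unfold specPoly
  rw [natDegree_multiset_prod_of_monic, Multiset.map_map]
  · have : (natDegree ∘ lin (F := F) r μ) = fun _ => 1 := by
      funext c
      exact natDegree_X_sub_C _
    rw [this, Multiset.map_const', Multiset.sum_replicate, smul_eq_mul, mul_one]
  · intro f hf
    obtain ⟨c, -, rfl⟩ := Multiset.mem_map.mp hf
    exact lin_monic r μ c

theorem normalizedFactors_specPoly (μ : Fˣ) (s : Multiset ↥(rootsOfUnity r F)) :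
    normalizedFactors (specPoly r μ s) = s.map (lin r μ) := by
  unfold specPoly
  rw [normalizedFactors_prod_eq _ (fun f hf => by
    obtain ⟨c, -, rfl⟩ := Multiset.mem_map.mp hf
    exact lin_irreducible r μ c)]
  conv_rhs => rw [← Multiset.map_id (s.map (lin r μ))]
  apply Multiset.map_congr rfl
  intro f hf
  obtain ⟨c, -, rfl⟩ := Multiset.mem_map.mp hf
  exact (lin_monic r μ c).normalize_eq_self

theorem specPoly_injective (μ : Fˣ) {s s' : Multiset ↥(rootsOfUnity r F)}
    (h : specPoly r μ s = specPoly r μ s') : s = s' := by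
  have h1 := congrArg normalizedFactors h
  rw [normalizedFactors_specPoly, normalizedFactors_specPoly] at h1
  exact Multiset.map_injective (lin_injective r μ) h1

theorem specPoly_shift (μ : Fˣ) (c₀ : ↥(rootsOfUnity r F)) (s : Multiset ↥(rootsOfUnity r F)) :
    specPoly r (μ * (c₀ : Fˣ)) s = specPoly r μ (s.map (fun c => c₀ * c)) := by
  unfold specPoly
  rw [Multiset.map_map]
  apply congrArg
  apply Multiset.map_congr rfl
  intro c _
  simp only [Function.comp_apply, lin, Subgroup.coe_mul, mul_assoc]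

end spec

section hasSpec

variable (r : ℕ) {n : ℕ}

local notation "sc" => Matrix.GeneralLinearGroup.scalar (Fin n)

/-- `g` has eigenvalues `μ c`, `c ∈ s` -/
def HasSpec (g : GL (Fin n) F) (μ : Fˣ) (s : Multiset ↥(rootsOfUnity r F)) : Prop :=
  Multiset.card s = n ∧ (g : Matrix (Fin n) (Fin n) F).charpoly = specPoly r μ s

theorem lin_smul (μ u : Fˣ) (c : ↥(rootsOfUnity r F)) :
    C (u : F) * (lin r μ c).comp (C (u : F)⁻¹ * X) = lin r (u * μ) c := by
  have hu : (u : F) ≠ 0 := u.ne_zero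
  unfold lin
  rw [Polynomial.sub_comp, Polynomial.X_comp, Polynomial.C_comp, mul_sub, ← mul_assoc, ← C_mul,
    mul_inv_cancel₀ hu, C_1, one_mul, ← C_mul, ← Units.val_mul, mul_assoc]

theorem HasSpec.smul {g : GL (Fin n) F} {μ : Fˣ} {s : Multiset ↥(rootsOfUnity r F)}
    (h : HasSpec r g μ s) (u : Fˣ) : HasSpec r (sc u * g) (u * μ) s := by
  obtain ⟨hcard, hc⟩ := h
  refine ⟨hcard, ?_⟩
  have hu : (u : F) ≠ 0 := u.ne_zero
  rw [val_sc_mul, charpoly_smul _ _ hu, hc]
  unfold specPoly
  rw [Polynomial.multiset_prod_comp, Multiset.map_map, C_pow, ← hcard]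
  have e : C (u : F) ^ Multiset.card s =
      (s.map (fun _ : ↥(rootsOfUnity r F) => C (u : F))).prod := by
    rw [Multiset.map_const', Multiset.prod_replicate]
  rw [e, ← Multiset.prod_map_mul]
  apply congrArg
  apply Multiset.map_congr rfl
  intro c _
  exact lin_smul r μ u c

theorem HasSpec.shift {g : GL (Fin n) F} {μ : Fˣ} {s : Multiset ↥(rootsOfUnity r F)}
    (c₀ : ↥(rootsOfUnity r F)) (h : HasSpec r g (μ * (c₀ : Fˣ)) s) :
    HasSpec r g μ (s.map (fun c => c₀ * c)) :=
  ⟨by rw [Multiset.card_map]; exact h.1, by rw [h.2, specPoly_shift]⟩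

theorem HasSpec.unique {g : GL (Fin n) F} {μ : Fˣ} {s s' : Multiset ↥(rootsOfUnity r F)}
    (h : HasSpec r g μ s) (h' : HasSpec r g μ s') : s = s' :=
  specPoly_injective r μ (h.2.symm.trans h'.2)

theorem HasSpec.conj {g h : GL (Fin n) F} {μ : Fˣ} {s : Multiset ↥(rootsOfUnity r F)}
    (hc : IsConj g h) (hg : HasSpec r g μ s) : HasSpec r h μ s :=
  ⟨hg.1, (Cfsg.Agent.S2387.charpoly_of_conj g h hc) ▸ hg.2⟩

theorem HasSpec.isConj (p : ℕ) [Fact p.Prime] [CharP F p] {g h : GL (Fin n) F} {μ : Fˣ}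
    {s : Multiset ↥(rootsOfUnity r F)} (hg : HasSpec r g μ s)
    (hh : HasSpec r h μ s) (hgc : (orderOf g).Coprime p) (hhc : (orderOf h).Coprime p) :
    IsConj g h :=
  Cfsg.Agent.S2387.conj_of_charpoly p g h hgc hhc (hg.2.trans hh.2.symm)

theorem exists_map_eq {α β : Type*} (f : α → β) (t : Multiset β) (h : ∀ b ∈ t, ∃ a, f a = b) :
    ∃ s : Multiset α, s.map f = t := by
  induction t using Multiset.induction_on with
  | empty => exact ⟨0, rfl⟩
  | cons b t ih =>
    obtain ⟨s, hs⟩ := ih (fun b' hb' => h b' (Multiset.mem_cons_of_mem hb'))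
    obtain ⟨a, ha⟩ := h b (Multiset.mem_cons_self b t)
    exact ⟨a ::ₘ s, by rw [Multiset.map_cons, ha, hs]⟩

end hasSpec

section pow

variable (p : ℕ) [Fact p.Prime] [CharP F p] (r : ℕ) {n : ℕ}

local notation "sc" => Matrix.GeneralLinearGroup.scalar (Fin n)

theorem coprime_of_pow (hr : r ∣ Fintype.card F - 1) (g : GL (Fin n) F) (l : Fˣ)
    (h : g ^ r = sc l) : (orderOf g).Coprime p := by
  have h1 : g ^ (r * (Fintype.card F - 1)) = 1 := by
    rw [pow_mul, h, ← map_pow, units_pow_card_sub_one, map_one]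
  have h0 := card_sub_one_coprime (F := F) p
  have h2 : (r * (Fintype.card F - 1)).Coprime p :=
    Nat.Coprime.mul_left (Nat.Coprime.coprime_dvd_left hr h0) h0
  exact Nat.Coprime.coprime_dvd_left (orderOf_dvd_of_pow_eq_one h1) h2

theorem pow_sc_mul (u l : Fˣ) (g : GL (Fin n) F) (h : g ^ r = sc l) :
    (sc u * g) ^ r = sc (u ^ r * l) := by
  have hc : Commute (sc u : GL (Fin n) F) g := Matrix.GeneralLinearGroup.scalar_commute u g
  rw [hc.mul_pow, h, ← map_pow, ← map_mul]

theorem aeval_pow (g : GL (Fin n) F) (l : Fˣ) (h : g ^ r = sc l) :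
    aeval (Matrix.toLin' (g : Matrix (Fin n) (Fin n) F)) (X ^ r - C (l : F) : F[X]) = 0 := by
  have h1 : (g : Matrix (Fin n) (Fin n) F) ^ r = Matrix.scalar (Fin n) (l : F) := by
    have := congrArg (fun x : GL (Fin n) F => (x : Matrix (Fin n) (Fin n) F)) h
    simpa using this
  rw [map_sub, map_pow, aeval_X, aeval_C, ← Matrix.toLin'_pow, h1]
  apply LinearMap.ext
  intro v
  rw [LinearMap.sub_apply, LinearMap.zero_apply, Matrix.toLin'_apply, Matrix.scalar_apply,
    Algebra.algebraMap_eq_smul_one, LinearMap.smul_apply, Module.End.one_apply,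
    ← Matrix.smul_one_eq_diagonal, Matrix.smul_mulVec, Matrix.one_mulVec, sub_self]

/-- elements whose `r`-th power is the scalar `μ ^ r` have spectrum in `μ · μ_r` -/
theorem exists_hasSpec (hr : r.Prime) (hrq : r ∣ Fintype.card F - 1) (ζ : Fˣ) (hζ : orderOf ζ = r)
    (g : GL (Fin n) F) (μ : Fˣ) (h : g ^ r = sc (μ ^ r)) (hcop : (orderOf g).Coprime p) :
    ∃ s, HasSpec r g μ s := by
  have hae := aeval_pow r g _ h
  have hprim : IsPrimitiveRoot (ζ : F) r := by
    have h1 := IsPrimitiveRoot.orderOf ζ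
    rw [hζ] at h1
    exact IsPrimitiveRoot.coe_units_iff.mpr h1
  have hζr : ζ ^ r = 1 := by rw [← hζ]; exact pow_orderOf_eq_one ζ
  have hfac := X_pow_sub_C_eq_prod hprim hr.pos (α := (μ : F)) (a := ((μ ^ r : Fˣ) : F))
    (by rw [Units.val_pow_eq_pow_val])
  have hfactors : ∀ f ∈ normalizedFactors (g : Matrix (Fin n) (Fin n) F).charpoly,
      ∃ c : ↥(rootsOfUnity r F), lin r μ c = f := by
    intro f hf
    have hirr := irreducible_of_normalized_factor f hf
    have hmonic : f.Monic := by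
      rw [← normalize_normalized_factor f hf]
      exact Polynomial.monic_normalize hirr.ne_zero
    have hd := factor_dvd_of_aeval p g hcop _ hae f hf
    rw [hfac] at hd
    obtain ⟨i, -, hi⟩ := Prime.exists_mem_finset_dvd hirr.prime hd
    have hmem : ζ ^ i ∈ rootsOfUnity r F := by
      rw [mem_rootsOfUnity, ← pow_mul, mul_comm, pow_mul, hζr, one_pow]
    refine ⟨⟨ζ ^ i, hmem⟩, ?_⟩
    have e : lin r μ ⟨ζ ^ i, hmem⟩ = X - C ((ζ : F) ^ i * (μ : F)) := by
      unfold lin
      rw [Units.val_mul, Units.val_pow_eq_pow_val, mul_comm]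
    rw [e]
    exact (eq_of_monic_of_associated hmonic (monic_X_sub_C _)
      (hirr.associated_of_dvd (irreducible_X_sub_C _) hi)).symm
  obtain ⟨s, hs⟩ := exists_map_eq (lin r μ) _ hfactors
  have hχ : (g : Matrix (Fin n) (Fin n) F).charpoly = specPoly r μ s := by
    unfold specPoly
    rw [hs, monic_prod_factors _ (Matrix.charpoly_monic _)]
  refine ⟨s, ?_, hχ⟩
  have h1 := Matrix.charpoly_natDegree_eq_dim (g : Matrix (Fin n) (Fin n) F)
  rw [hχ, specPoly_natDegree, Fintype.card_fin] at h1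
  exact h1

end pow

section scalars

variable (p : ℕ) [Fact p.Prime] [CharP F p] (r : ℕ) {n : ℕ}

local notation "sc" => Matrix.GeneralLinearGroup.scalar (Fin n)

theorem hasSpec_sc (μ : Fˣ) (c : ↥(rootsOfUnity r F)) :
    HasSpec r (sc (μ * (c : Fˣ)) : GL (Fin n) F) μ (Multiset.replicate n c) := by
  refine ⟨Multiset.card_replicate _ _, ?_⟩
  unfold specPoly lin
  rw [Matrix.GeneralLinearGroup.coe_scalar, Matrix.scalar_apply, Matrix.charpoly_diagonal,
    Finset.prod_const, Finset.card_univ, Fintype.card_fin, Multiset.map_replicate,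
    Multiset.prod_replicate]

theorem eq_sc_of_hasSpec_replicate {g : GL (Fin n) F} {μ : Fˣ} {c : ↥(rootsOfUnity r F)}
    (hg : HasSpec r g μ (Multiset.replicate n c)) (hgc : (orderOf g).Coprime p) :
    g = sc (μ * (c : Fˣ)) := by
  have h1 := hg.isConj r p (hasSpec_sc r μ c) hgc (coprime_sc p _)
  rw [isConj_iff] at h1
  obtain ⟨x, hx⟩ := h1
  have h2 : g = x⁻¹ * sc (μ * (c : Fˣ)) * x := by rw [← hx]; group
  rw [h2, mul_assoc, Matrix.GeneralLinearGroup.scalar_commute _ x, ← mul_assoc, inv_mul_cancel,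
    one_mul]

theorem eval_specPoly (μ : Fˣ) (s : Multiset ↥(rootsOfUnity r F)) (a : F) :
    (specPoly r μ s).eval a =
      (s.map (fun c : ↥(rootsOfUnity r F) => a - ((μ * (c : Fˣ) : Fˣ) : F))).prod := by
  unfold specPoly
  rw [Polynomial.eval_multiset_prod, Multiset.map_map]
  apply congrArg
  apply Multiset.map_congr rfl
  intro c _
  simp only [Function.comp_apply, lin, eval_sub, eval_X, eval_C]

/-- a scalar matrix has constant spectrum -/
theorem replicate_of_hasSpec_sc (hn : 0 < n) {ν μ : Fˣ} {s : Multiset ↥(rootsOfUnity r F)}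
    (h : HasSpec r (sc ν : GL (Fin n) F) μ s) : ∃ c, s = Multiset.replicate n c := by
  have hroot : ∀ c ∈ s, μ * (c : Fˣ) = ν := by
    intro c hc
    have h1 := congrArg (Polynomial.eval ((μ * (c : Fˣ) : Fˣ) : F)) h.2
    rw [eval_specPoly, Matrix.GeneralLinearGroup.coe_scalar, Matrix.scalar_apply,
      Matrix.charpoly_diagonal, Finset.prod_const, Finset.card_univ, Fintype.card_fin,
      eval_pow, eval_sub, eval_X, eval_C] at h1
    have h2 : (s.map (fun c' : ↥(rootsOfUnity r F) =>
        ((μ * (c : Fˣ) : Fˣ) : F) - ((μ * (c' : Fˣ) : Fˣ) : F))).prod = 0 := by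
      apply Multiset.prod_eq_zero
      rw [Multiset.mem_map]
      exact ⟨c, hc, sub_self _⟩
    rw [h2] at h1
    have h3 := pow_eq_zero_iff (by omega) |>.mp h1
    exact Units.ext (sub_eq_zero.mp h3)
  have hne : s ≠ 0 := by
    intro h0
    have := h.1
    rw [h0, Multiset.card_zero] at this
    omega
  obtain ⟨c₀, hc₀⟩ := Multiset.exists_mem_of_ne_zero hne
  refine ⟨c₀, ?_⟩
  rw [Multiset.eq_replicate]
  refine ⟨h.1, fun c hc => ?_⟩
  have := (hroot c hc).trans (hroot c₀ hc₀).symm
  exact Subtype.ext (mul_left_cancel this)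

/-- every spectrum is realised -/
theorem exists_of_spec (hr : r.Prime) (μ : Fˣ) (s : Multiset ↥(rootsOfUnity r F))
    (hcard : Multiset.card s = n) :
    ∃ g : GL (Fin n) F, (orderOf g).Coprime p ∧ g ^ r = sc (μ ^ r) ∧ HasSpec r g μ s := by
  have hc0 : (specPoly r μ s).coeff 0 ≠ 0 := by
    rw [coeff_zero_eq_eval_zero, eval_specPoly]
    apply Multiset.prod_ne_zero
    rw [Multiset.mem_map]
    rintro ⟨c, -, hc⟩
    rw [zero_sub, neg_eq_zero] at hc
    exact (μ * (c : Fˣ)).ne_zero hc
  obtain ⟨g, hg, hgc⟩ := Cfsg.Agent.H9.SemisimpleExists.exists_gl p n _ (specPoly_monic r μ s)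
    ((specPoly_natDegree r μ s).trans hcard) hc0
  refine ⟨g, hg, ?_, hcard, hgc⟩
  have hss := Cfsg.Agent.S2387.ss_of_coprime p g hg
  have hsq := hss.minpoly_squarefree
  rw [Matrix.minpoly_toLin'] at hsq
  have hdvd : specPoly r μ s ∣ (X ^ r - C ((μ ^ r : Fˣ) : F)) ^ Multiset.card s := by
    unfold specPoly
    have key : ∀ S : Multiset F[X], (∀ f ∈ S, f ∣ (X ^ r - C ((μ ^ r : Fˣ) : F) : F[X])) →
        S.prod ∣ (X ^ r - C ((μ ^ r : Fˣ) : F)) ^ Multiset.card S := by
      intro S
      induction S using Multiset.induction_on with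
      | empty => intro _; simp
      | cons a S ih =>
        intro h
        rw [Multiset.prod_cons, Multiset.card_cons, pow_succ']
        exact mul_dvd_mul (h a (Multiset.mem_cons_self a S))
          (ih (fun f hf => h f (Multiset.mem_cons_of_mem hf)))
    have := key (s.map (lin r μ)) (by
      intro f hf
      obtain ⟨c, -, rfl⟩ := Multiset.mem_map.mp hf
      unfold lin
      rw [dvd_iff_isRoot, IsRoot.def, eval_sub, eval_pow, eval_X, eval_C, Units.val_mul,
        Units.val_pow_eq_pow_val, mul_pow, ← Units.val_pow_eq_pow_val (c : Fˣ),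
        (mem_rootsOfUnity r (c : Fˣ)).mp c.2, Units.val_one, mul_one, sub_self])
    rwa [Multiset.card_map] at this
  have h1 : minpoly F (g : Matrix (Fin n) (Fin n) F) ∣
      (X ^ r - C ((μ ^ r : Fˣ) : F)) ^ Multiset.card s :=
    (Matrix.minpoly_dvd_charpoly _).trans (hgc ▸ hdvd)
  have h2 : minpoly F (g : Matrix (Fin n) (Fin n) F) ∣ X ^ r - C ((μ ^ r : Fˣ) : F) := by
    rcases Nat.eq_zero_or_pos (Multiset.card s) with h0 | hpos
    · rw [h0, pow_zero] at h1
      exact (isUnit_of_dvd_one h1).dvd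
    · exact (hsq.dvd_pow_iff_dvd hpos.ne').mp h1
  obtain ⟨c, hc⟩ := h2
  have h3 : aeval (g : Matrix (Fin n) (Fin n) F) (X ^ r - C ((μ ^ r : Fˣ) : F) : F[X]) = 0 := by
    rw [hc, map_mul, minpoly.aeval, zero_mul]
  rw [map_sub, map_pow, aeval_X, aeval_C, sub_eq_zero] at h3
  apply Units.ext
  rw [Units.val_pow_eq_pow_val, Matrix.GeneralLinearGroup.coe_scalar, h3]
  rfl

end scalars

section orbits

variable (r : ℕ) (n : ℕ)

/-- the scaling action of `μ_r` on spectra -/
@[instance_reducible] noncomputable def symAction :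
    MulAction ↥(rootsOfUnity r F) (Sym ↥(rootsOfUnity r F) n) where
  smul c s := s.map (fun x => c * x)
  one_smul s := by
    show s.map (fun x => 1 * x) = s
    have : (fun x : ↥(rootsOfUnity r F) => 1 * x) = id := by funext x; exact one_mul x
    rw [this, Sym.map_id]
  mul_smul c d s := by
    show s.map (fun x => c * d * x) = (s.map (fun x => d * x)).map (fun x => c * x)
    rw [Sym.map_map]
    congr 1
    funext x
    exact mul_assoc c d x

attribute [local instance] symAction

theorem smul_coe (c : ↥(rootsOfUnity r F)) (s : Sym ↥(rootsOfUnity r F) n) :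
    ((c • s : Sym ↥(rootsOfUnity r F) n) : Multiset ↥(rootsOfUnity r F)) =
      (s : Multiset ↥(rootsOfUnity r F)).map (fun x => c * x) := rfl

variable [Fact r.Prime]

theorem count_of_fixed (hR : Nat.card ↥(rootsOfUnity r F) = r) (c : ↥(rootsOfUnity r F))
    (hc : c ≠ 1) (s : Sym ↥(rootsOfUnity r F) n) (hs : c • s = s) (b : ↥(rootsOfUnity r F)) :
    Multiset.count b (s : Multiset ↥(rootsOfUnity r F)) =
      Multiset.count 1 (s : Multiset ↥(rootsOfUnity r F)) := by
  classical
  have h1 : ∀ a : ↥(rootsOfUnity r F), Multiset.count (c * a) (s : Multiset ↥(rootsOfUnity r F)) =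
      Multiset.count a (s : Multiset ↥(rootsOfUnity r F)) := by
    intro a
    have h2 := congrArg (fun t : Sym ↥(rootsOfUnity r F) n =>
      Multiset.count (c * a) (t : Multiset ↥(rootsOfUnity r F))) hs
    simp only [smul_coe] at h2
    rw [← h2]
    exact Multiset.count_map_eq_count' _ _ (mul_right_injective c) a
  have h3 : ∀ k : ℕ, Multiset.count (c ^ k) (s : Multiset ↥(rootsOfUnity r F)) =
      Multiset.count 1 (s : Multiset ↥(rootsOfUnity r F)) := by
    intro k
    induction k with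
    | zero => rw [pow_zero]
    | succ k ih => rw [pow_succ', h1, ih]
  have htop := zpowers_eq_top_of_prime_card hR hc
  have hb : b ∈ Subgroup.zpowers c := by rw [htop]; exact Subgroup.mem_top b
  rw [← mem_powers_iff_mem_zpowers] at hb
  obtain ⟨k, rfl⟩ := hb
  exact h3 k

theorem fixed_iff (hR : Nat.card ↥(rootsOfUnity r F) = r) (c : ↥(rootsOfUnity r F)) (hc : c ≠ 1)
    (s : Sym ↥(rootsOfUnity r F) n) :
    c • s = s ↔ ∃ m : ℕ, n = r * m ∧
      ∀ b, Multiset.count b (s : Multiset ↥(rootsOfUnity r F)) = m := by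
  have _ : Fintype ↥(rootsOfUnity r F) := Fintype.ofFinite _
  constructor
  · intro hs
    set m := Multiset.count 1 (s : Multiset ↥(rootsOfUnity r F)) with hm
    have hcount := count_of_fixed r n hR c hc s hs
    refine ⟨m, ?_, hcount⟩
    have h1 := Multiset.sum_count_eq_card (s := (Finset.univ : Finset ↥(rootsOfUnity r F)))
      (m := (s : Multiset ↥(rootsOfUnity r F))) (fun a _ => Finset.mem_univ a)
    rw [Finset.sum_congr rfl (fun b _ => hcount b), Finset.sum_const, Finset.card_univ,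
      ← Nat.card_eq_fintype_card, hR, smul_eq_mul] at h1
    rw [h1]
    exact s.2.symm
  · rintro ⟨m, -, hsm⟩
    apply Sym.coe_injective
    rw [smul_coe]
    ext b
    have e : b = c * (c⁻¹ * b) := by group
    rw [hsm b, e, Multiset.count_map_eq_count' _ _ (mul_right_injective c), hsm]

end orbits

section burnside

variable (r : ℕ) (n : ℕ) [Fact r.Prime]

attribute [local instance] symAction

theorem card_fixedBy (hR : Nat.card ↥(rootsOfUnity r F) = r) (c : ↥(rootsOfUnity r F))
    (hc : c ≠ 1) :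
    Nat.card (MulAction.fixedBy (Sym ↥(rootsOfUnity r F) n) c) = if r ∣ n then 1 else 0 := by
  have _ : Fintype ↥(rootsOfUnity r F) := Fintype.ofFinite _
  split_ifs with hdvd
  · obtain ⟨m, hm⟩ := hdvd
    have hcard : Multiset.card (m • (Finset.univ : Finset ↥(rootsOfUnity r F)).val) = n := by
      rw [Multiset.card_nsmul, Finset.card_val, Finset.card_univ, ← Nat.card_eq_fintype_card, hR,
        hm, mul_comm]
    let s₀ : Sym ↥(rootsOfUnity r F) n := ⟨m • (Finset.univ : Finset ↥(rootsOfUnity r F)).val, hcard⟩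
    have hs₀ : ∀ b, Multiset.count b (s₀ : Multiset ↥(rootsOfUnity r F)) = m := by
      intro b
      show Multiset.count b (m • (Finset.univ : Finset ↥(rootsOfUnity r F)).val) = m
      rw [Multiset.count_nsmul, Multiset.count_univ, mul_one]
    have hfix : c • s₀ = s₀ := (fixed_iff r n hR c hc s₀).mpr ⟨m, hm, hs₀⟩
    rw [Nat.card_eq_one_iff_unique]
    refine ⟨⟨?_⟩, ⟨⟨s₀, hfix⟩⟩⟩
    rintro ⟨s, hs⟩ ⟨s', hs'⟩
    apply Subtype.ext
    apply Sym.coe_injective
    obtain ⟨m₁, hm₁, hc₁⟩ := (fixed_iff r n hR c hc s).mp hs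
    obtain ⟨m₂, hm₂, hc₂⟩ := (fixed_iff r n hR c hc s').mp hs'
    have hrpos : 0 < r := (Fact.out : r.Prime).pos
    have hmm : m₁ = m₂ := Nat.eq_of_mul_eq_mul_left hrpos (hm₁.symm.trans hm₂)
    ext b
    rw [hc₁ b, hc₂ b, hmm]
  · rw [Nat.card_eq_zero]
    left
    refine ⟨?_⟩
    rintro ⟨s, hs⟩
    obtain ⟨m, hm, -⟩ := (fixed_iff r n hR c hc s).mp hs
    exact hdvd ⟨m, hm⟩

theorem card_orbits (hR : Nat.card ↥(rootsOfUnity r F) = r) :
    Nat.card (MulAction.orbitRel.Quotient ↥(rootsOfUnity r F) (Sym ↥(rootsOfUnity r F) n)) * r =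
      Nat.multichoose r n + (r - 1) * (if r ∣ n then 1 else 0) := by
  classical
  have _ : Fintype ↥(rootsOfUnity r F) := Fintype.ofFinite _
  have _ : Fintype (Sym ↥(rootsOfUnity r F) n) := Fintype.ofFinite _
  have _ : Fintype (MulAction.orbitRel.Quotient ↥(rootsOfUnity r F) (Sym ↥(rootsOfUnity r F) n)) :=
    Fintype.ofFinite _
  have _ : ∀ g : ↥(rootsOfUnity r F), Fintype (MulAction.fixedBy (Sym ↥(rootsOfUnity r F) n) g) :=
    fun g => Fintype.ofFinite _
  have hB := MulAction.sum_card_fixedBy_eq_card_orbits_mul_card_group ↥(rootsOfUnity r F)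
    (Sym ↥(rootsOfUnity r F) n)
  rw [← Nat.card_eq_fintype_card (α := ↥(rootsOfUnity r F)), hR,
    ← Nat.card_eq_fintype_card] at hB
  rw [← hB, ← Finset.add_sum_erase Finset.univ _ (Finset.mem_univ (1 : ↥(rootsOfUnity r F)))]
  congr 1
  · rw [← Nat.card_eq_fintype_card]
    have h1 : Nat.card (MulAction.fixedBy (Sym ↥(rootsOfUnity r F) n) (1 : ↥(rootsOfUnity r F))) =
        Nat.card (Sym ↥(rootsOfUnity r F) n) := by
      apply Nat.card_congr
      exact Equiv.subtypeUnivEquiv (fun s => by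
        rw [MulAction.mem_fixedBy, one_smul])
    rw [h1, Nat.card_eq_fintype_card, Sym.card_sym_eq_multichoose, ← Nat.card_eq_fintype_card, hR]
  · have hall : ∀ c ∈ (Finset.univ : Finset ↥(rootsOfUnity r F)).erase 1,
        Fintype.card ↥(MulAction.fixedBy (Sym ↥(rootsOfUnity r F) n) c) =
          if r ∣ n then 1 else 0 := by
      intro c hc
      rw [← Nat.card_eq_fintype_card]
      exact card_fixedBy r n hR c (Finset.ne_of_mem_erase hc)
    rw [Finset.sum_congr rfl hall, Finset.sum_const, smul_eq_mul,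
      Finset.card_erase_of_mem (Finset.mem_univ _), Finset.card_univ,
      ← Nat.card_eq_fintype_card, hR]

end burnside

end Cfsg.Agent.H2.PGLOrderR
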