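import Mathlib
import Cfsg.Agent.H2.PGLOrderR

/-!
# Elements of prime order `r ∣ q - 1` in `PGL_n(q)`, part 2

Type B elements (whose `r`-th power is a scalar that is not an `r`-th power) and the count.
-/

set_option autoImplicit false
set_option linter.unusedSectionVars false
set_option linter.unusedVariables false

namespace Cfsg.Agent.H2.PGLOrderR

open Polynomial UniqueFactorizationMonoid Cfsg.Agent.H2.PGLInv

universe u

variable {F : Type u} [Field F] [Fintype F] [DecidableEq F]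

section typeB

variable (p : ℕ) [Fact p.Prime] [CharP F p] (r : ℕ) {n : ℕ}

local notation "sc" => Matrix.GeneralLinearGroup.scalar (Fin n)

theorem irreducible_of_not_pow (hr : r.Prime) (l : Fˣ) (hl : ∀ b : Fˣ, b ^ r ≠ l) :
    Irreducible (X ^ r - C (l : F) : F[X]) := by
  apply X_pow_sub_C_irreducible_of_prime hr
  intro b hb
  have hb0 : b ≠ 0 := by
    rintro rfl
    rw [zero_pow hr.ne_zero] at hb
    exact l.ne_zero hb.symm
  apply hl (Units.mk0 b hb0)
  apply Units.ext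
  rw [Units.val_pow_eq_pow_val, Units.val_mk0, hb]

/-- the characteristic polynomial of an element whose `r`-th power is a non-`r`-th-power scalar -/
theorem charpoly_of_pow_nonpow (hr : r.Prime) (hrq : r ∣ Fintype.card F - 1) (g : GL (Fin n) F)
    (l : Fˣ) (hl : ∀ b : Fˣ, b ^ r ≠ l) (h : g ^ r = sc l) (hcop : (orderOf g).Coprime p) :
    r ∣ n ∧ (g : Matrix (Fin n) (Fin n) F).charpoly = (X ^ r - C (l : F)) ^ (n / r) := by
  have hae := aeval_pow r g _ h
  have hirr := irreducible_of_not_pow r hr l hl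
  have hmon : (X ^ r - C (l : F) : F[X]).Monic := monic_X_pow_sub_C _ hr.ne_zero
  have hfactors : ∀ f ∈ normalizedFactors (g : Matrix (Fin n) (Fin n) F).charpoly,
      f = X ^ r - C (l : F) := by
    intro f hf
    have hfirr := irreducible_of_normalized_factor f hf
    have hmonic : f.Monic := by
      rw [← normalize_normalized_factor f hf]
      exact Polynomial.monic_normalize hfirr.ne_zero
    have hd := factor_dvd_of_aeval p g hcop _ hae f hf
    exact eq_of_monic_of_associated hmonic hmon (hfirr.associated_of_dvd hirr hd)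
  have hpow := eq_pow_of_factors _ _ (Matrix.charpoly_monic _) hfactors
  set m := Multiset.card (normalizedFactors (g : Matrix (Fin n) (Fin n) F).charpoly) with hm
  have hdeg : r * m = n := by
    have h1 := Matrix.charpoly_natDegree_eq_dim (g : Matrix (Fin n) (Fin n) F)
    rw [hpow, natDegree_pow, natDegree_X_pow_sub_C, Fintype.card_fin] at h1
    rw [← h1, mul_comm]
  refine ⟨⟨m, hdeg.symm⟩, ?_⟩
  rw [hpow]
  congr 1
  rw [← hdeg, Nat.mul_div_cancel_left _ hr.pos]

theorem isConj_of_pow_nonpow (hr : r.Prime) (hrq : r ∣ Fintype.card F - 1) (g h : GL (Fin n) F)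
    (l : Fˣ) (hl : ∀ b : Fˣ, b ^ r ≠ l) (hg : g ^ r = sc l) (hh : h ^ r = sc l)
    (hgc : (orderOf g).Coprime p) (hhc : (orderOf h).Coprime p) : IsConj g h :=
  Cfsg.Agent.S2387.conj_of_charpoly p g h hgc hhc
    ((charpoly_of_pow_nonpow p r hr hrq g l hl hg hgc).2.trans
      (charpoly_of_pow_nonpow p r hr hrq h l hl hh hhc).2.symm)

theorem exists_pow_nonpow (hr : r.Prime) (hn : r ∣ n) (l : Fˣ) (hl : ∀ b : Fˣ, b ^ r ≠ l) :
    ∃ g : GL (Fin n) F, (orderOf g).Coprime p ∧ g ^ r = sc l := by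
  have hirr := irreducible_of_not_pow r hr l hl
  have hmon : (X ^ r - C (l : F) : F[X]).Monic := monic_X_pow_sub_C _ hr.ne_zero
  obtain ⟨m, hm⟩ := hn
  have hdeg : ((X ^ r - C (l : F) : F[X]) ^ m).natDegree = n := by
    rw [natDegree_pow, natDegree_X_pow_sub_C, hm, mul_comm]
  have hc0 : ((X ^ r - C (l : F) : F[X]) ^ m).coeff 0 ≠ 0 := by
    rw [coeff_zero_eq_eval_zero, eval_pow, eval_sub, eval_pow, eval_X, eval_C,
      zero_pow hr.ne_zero, zero_sub]
    exact pow_ne_zero _ (neg_ne_zero.mpr l.ne_zero)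
  obtain ⟨g, hg, hgc⟩ := Cfsg.Agent.H9.SemisimpleExists.exists_gl p n _ (hmon.pow m) hdeg hc0
  refine ⟨g, hg, ?_⟩
  have hss := Cfsg.Agent.S2387.ss_of_coprime p g hg
  have hsq := hss.minpoly_squarefree
  rw [Matrix.minpoly_toLin'] at hsq
  have h1 : minpoly F (g : Matrix (Fin n) (Fin n) F) ∣ (X ^ r - C (l : F)) ^ m :=
    (Matrix.minpoly_dvd_charpoly _).trans (hgc ▸ dvd_rfl)
  have h2 : minpoly F (g : Matrix (Fin n) (Fin n) F) ∣ X ^ r - C (l : F) := by
    rcases Nat.eq_zero_or_pos m with h0 | hpos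
    · rw [h0, pow_zero] at h1
      exact (isUnit_of_dvd_one h1).dvd
    · exact (hsq.dvd_pow_iff_dvd hpos.ne').mp h1
  obtain ⟨c, hc⟩ := h2
  have h3 : aeval (g : Matrix (Fin n) (Fin n) F) (X ^ r - C (l : F) : F[X]) = 0 := by
    rw [hc, map_mul, minpoly.aeval, zero_mul]
  rw [map_sub, map_pow, aeval_X, aeval_C, sub_eq_zero] at h3
  apply Units.ext
  rw [Units.val_pow_eq_pow_val, Matrix.GeneralLinearGroup.coe_scalar, h3]
  rfl

end typeB

section generic

/-- counting conjugacy classes through a complete invariant -/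
theorem card_classes_of_inv {P : Type*} [Group P] {α : Type*} (good : P → Prop)
    (NT : P → α → Prop) (I : Finset α)
    (ha : ∀ x, good x → ∃ k ∈ I, NT x k)
    (hb : ∀ x y k, good x → good y → NT x k → NT y k → IsConj x y)
    (hc : ∀ x y k k', good x → good y → NT x k → NT y k' → IsConj x y → k = k')
    (hd : ∀ k ∈ I, ∃ x, good x ∧ NT x k) :
    Nat.card {C : ConjClasses P // ∃ x : P, ConjClasses.mk x = C ∧ good x} = I.card := by
  classical
  choose rep hrep using hd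
  let f : ↥I → {C : ConjClasses P // ∃ x : P, ConjClasses.mk x = C ∧ good x} :=
    fun k => ⟨ConjClasses.mk (rep k.1 k.2), rep k.1 k.2, rfl, (hrep k.1 k.2).1⟩
  have hf : Function.Bijective f := by
    constructor
    · intro k k' hkk'
      have h1 : ConjClasses.mk (rep k.1 k.2) = ConjClasses.mk (rep k'.1 k'.2) :=
        congrArg Subtype.val hkk'
      have h2 := ConjClasses.mk_eq_mk_iff_isConj.mp h1
      exact Subtype.ext (hc _ _ _ _ (hrep k.1 k.2).1 (hrep k'.1 k'.2).1 (hrep k.1 k.2).2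
        (hrep k'.1 k'.2).2 h2)
    · rintro ⟨C, x, rfl, hx⟩
      obtain ⟨k, hkI, hk⟩ := ha x hx
      refine ⟨⟨k, hkI⟩, Subtype.ext ?_⟩
      exact ConjClasses.mk_eq_mk_iff_isConj.mpr
        (hb _ _ k (hrep k hkI).1 hx (hrep k hkI).2 hk)
  rw [← Nat.card_congr (Equiv.ofBijective f hf), Nat.card_eq_fintype_card, Fintype.card_coe]

end generic

section pgl

variable {n : ℕ}

local notation "sc" => Matrix.GeneralLinearGroup.scalar (Fin n)
local notation "ZZ" => Subgroup.center (GL (Fin n) F)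

theorem orderOf_mk_eq_prime {r : ℕ} (hr : r.Prime) (g : GL (Fin n) F) :
    orderOf (g : GL (Fin n) F ⧸ ZZ) = r ↔ g ∉ ZZ ∧ ∃ l : Fˣ, g ^ r = sc l := by
  have _ : Fact r.Prime := ⟨hr⟩
  rw [orderOf_eq_prime_iff, ← QuotientGroup.mk_pow, QuotientGroup.eq_one_iff,
    Ne, QuotientGroup.eq_one_iff, mem_center_iff]
  tauto

/-- conjugate elements have the same (scalar) `r`-th power -/
theorem pow_of_isConj {r : ℕ} {g g' : GL (Fin n) F} (hc : IsConj g g') {l : Fˣ}
    (h : g' ^ r = sc l) : g ^ r = sc l := by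
  rw [isConj_iff] at hc
  obtain ⟨c, rfl⟩ := hc
  rw [conj_pow] at h
  have h1 : g ^ r = c⁻¹ * (c * g ^ r * c⁻¹) * c := by group
  rw [h1, h, mul_assoc, Matrix.GeneralLinearGroup.scalar_commute l c, ← mul_assoc, inv_mul_cancel,
    one_mul]

end pgl

section units

variable (r : ℕ)

/-- the subgroup of `r`-th powers -/
noncomputable def powRange : Subgroup Fˣ := (powMonoidHom r : Fˣ →* Fˣ).range

theorem mem_powRange (l : Fˣ) : l ∈ powRange (F := F) r ↔ ∃ b : Fˣ, b ^ r = l := by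
  unfold powRange
  rw [MonoidHom.mem_range]
  simp only [powMonoidHom_apply]

theorem mk_eq_one_iff (l : Fˣ) :
    ((l : Fˣ) : Fˣ ⧸ powRange (F := F) r) = 1 ↔ ∃ b : Fˣ, b ^ r = l := by
  rw [QuotientGroup.eq_one_iff, mem_powRange]

theorem mk_eq_mk_iff (l l' : Fˣ) :
    ((l : Fˣ) : Fˣ ⧸ powRange (F := F) r) = (l' : Fˣ ⧸ powRange (F := F) r) ↔
      ∃ u : Fˣ, l = u ^ r * l' := by
  rw [QuotientGroup.eq, mem_powRange]
  constructor
  · rintro ⟨b, hb⟩
    refine ⟨b⁻¹, ?_⟩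
    rw [inv_pow, hb, mul_inv_rev, inv_inv, mul_comm l'⁻¹ l, mul_assoc, inv_mul_cancel, mul_one]
  · rintro ⟨u, rfl⟩
    refine ⟨u⁻¹, ?_⟩
    rw [inv_pow, mul_inv_rev, mul_comm l'⁻¹, mul_assoc, inv_mul_cancel, mul_one]

theorem card_quot_powRange (hR : Nat.card ↥(rootsOfUnity r F) = r) :
    Nat.card (Fˣ ⧸ powRange (F := F) r) = r := by
  have h1 : (powMonoidHom r : Fˣ →* Fˣ).ker = rootsOfUnity r F := by
    ext x
    rw [MonoidHom.mem_ker, powMonoidHom_apply, mem_rootsOfUnity]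
  have h2 := Subgroup.index_ker (powMonoidHom r : Fˣ →* Fˣ)
  have h3 := Subgroup.card_mul_index (powMonoidHom r : Fˣ →* Fˣ).ker
  have h4 := Subgroup.card_mul_index (powRange (F := F) r)
  rw [h2] at h3
  rw [h1, hR] at h3
  unfold powRange at h4 ⊢
  rw [← Subgroup.index_eq_card]
  have hpos : 0 < Nat.card ↥(powMonoidHom r : Fˣ →* Fˣ).range := Nat.card_pos
  have : Nat.card ↥(powMonoidHom r : Fˣ →* Fˣ).range * (powMonoidHom r : Fˣ →* Fˣ).range.index =
      Nat.card ↥(powMonoidHom r : Fˣ →* Fˣ).range * r := by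
    rw [h4, ← h3, mul_comm]
  exact Nat.eq_of_mul_eq_mul_left hpos this

end units

section main

variable (p : ℕ) [Fact p.Prime] [CharP F p] (r : ℕ) {n : ℕ}

local notation "sc" => Matrix.GeneralLinearGroup.scalar (Fin n)
local notation "ZZ" => Subgroup.center (GL (Fin n) F)

attribute [local instance] symAction

/-- the orbit of a spectrum -/
noncomputable def orb (s : Sym ↥(rootsOfUnity r F) n) :
    MulAction.orbitRel.Quotient ↥(rootsOfUnity r F) (Sym ↥(rootsOfUnity r F) n) :=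
  Quotient.mk'' s

theorem orb_eq_iff (s s' : Sym ↥(rootsOfUnity r F) n) :
    orb r s = orb r s' ↔ ∃ c : ↥(rootsOfUnity r F), c • s' = s := by
  unfold orb
  rw [Quotient.eq'', MulAction.orbitRel_apply, MulAction.mem_orbit_iff]

theorem exists_orb
    (o : MulAction.orbitRel.Quotient ↥(rootsOfUnity r F) (Sym ↥(rootsOfUnity r F) n)) :
    ∃ s, orb r s = o := Quotient.exists_rep o

theorem smul_replicate (c c' : ↥(rootsOfUnity r F)) :
    c • (Sym.replicate n c' : Sym ↥(rootsOfUnity r F) n) = Sym.replicate n (c * c') := by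
  apply Sym.coe_injective
  rw [smul_coe, Sym.coe_replicate, Sym.coe_replicate, Multiset.map_replicate]

/-- the invariant of an element of `PGL_n` of order `r` -/
def NT (x : GL (Fin n) F ⧸ ZZ) :
    (MulAction.orbitRel.Quotient ↥(rootsOfUnity r F) (Sym ↥(rootsOfUnity r F) n)) ⊕
      (Fˣ ⧸ powRange (F := F) r) → Prop
  | Sum.inl o => ∃ (g : GL (Fin n) F) (μ : Fˣ) (s : Sym ↥(rootsOfUnity r F) n),
      (g : GL (Fin n) F ⧸ ZZ) = x ∧ g ^ r = sc (μ ^ r) ∧
      HasSpec r g μ (s : Multiset ↥(rootsOfUnity r F)) ∧ orb r s = o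
  | Sum.inr t => ∃ (g : GL (Fin n) F) (l : Fˣ),
      (g : GL (Fin n) F ⧸ ZZ) = x ∧ g ^ r = sc l ∧ (∀ b : Fˣ, b ^ r ≠ l) ∧
      ((l : Fˣ) : Fˣ ⧸ powRange (F := F) r) = t

/-- the invariants that occur -/
def InI : (MulAction.orbitRel.Quotient ↥(rootsOfUnity r F) (Sym ↥(rootsOfUnity r F) n)) ⊕
      (Fˣ ⧸ powRange (F := F) r) → Prop
  | Sum.inl o => o ≠ orb r (Sym.replicate n 1)
  | Sum.inr t => t ≠ 1 ∧ r ∣ n

include p

theorem exists_NT (hr : r.Prime) (hrq : r ∣ Fintype.card F - 1) (ζ : Fˣ) (hζ : orderOf ζ = r)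
    (g : GL (Fin n) F) (hgZ : g ∉ ZZ) (l : Fˣ) (hl : g ^ r = sc l) :
    ∃ a, InI r (n := n) a ∧ NT r (g : GL (Fin n) F ⧸ ZZ) a := by
  have hcop := coprime_of_pow p r hrq g _ hl
  by_cases h : ∃ μ : Fˣ, μ ^ r = l
  · obtain ⟨μ, rfl⟩ := h
    obtain ⟨s, hs⟩ := exists_hasSpec p r hr hrq ζ hζ g μ hl hcop
    refine ⟨Sum.inl (orb r ⟨s, hs.1⟩), ?_, g, μ, ⟨s, hs.1⟩, rfl, hl, hs, rfl⟩
    show orb r ⟨s, hs.1⟩ ≠ orb r (Sym.replicate n 1)
    intro heq
    obtain ⟨c, hc⟩ := (orb_eq_iff r _ _).mp heq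
    rw [smul_replicate] at hc
    have hs' : s = Multiset.replicate n (c * 1) := by
      have := congrArg (fun t : Sym ↥(rootsOfUnity r F) n => (t : Multiset ↥(rootsOfUnity r F))) hc
      simp only [Sym.coe_replicate] at this
      exact this.symm
    rw [hs'] at hs
    apply hgZ
    rw [mem_center_iff]
    exact ⟨_, eq_sc_of_hasSpec_replicate p r hs hcop⟩
  · have hlnp : ∀ b : Fˣ, b ^ r ≠ l := fun b hb => h ⟨b, hb⟩
    obtain ⟨hdvd, -⟩ := charpoly_of_pow_nonpow p r hr hrq g l hlnp hl hcop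
    refine ⟨Sum.inr ((l : Fˣ) : Fˣ ⧸ powRange (F := F) r), ⟨?_, hdvd⟩, g, l, rfl, hl, hlnp, rfl⟩
    intro h1
    obtain ⟨b, hb⟩ := (mk_eq_one_iff r l).mp h1
    exact hlnp b hb

theorem isConj_of_NT (hr : r.Prime) (hrq : r ∣ Fintype.card F - 1) {x y : GL (Fin n) F ⧸ ZZ}
    (a : (MulAction.orbitRel.Quotient ↥(rootsOfUnity r F) (Sym ↥(rootsOfUnity r F) n)) ⊕
      (Fˣ ⧸ powRange (F := F) r)) (hx : NT r x a) (hy : NT r y a) : IsConj x y := by
  rcases a with o | t
  · obtain ⟨g, μ, s, rfl, hg, hgs, ho⟩ := hx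
    obtain ⟨h, ν, s', rfl, hh, hhs, ho'⟩ := hy
    obtain ⟨c, hc⟩ := (orb_eq_iff r s s').mp (ho.trans ho'.symm)
    rw [isConj_mk_iff]
    refine ⟨μ * (c : Fˣ) * ν⁻¹, ?_⟩
    have h1 := hhs.smul r (μ * (c : Fˣ) * ν⁻¹)
    rw [inv_mul_cancel_right] at h1
    have h2 := h1.shift r c
    have h3 : ((s' : Multiset ↥(rootsOfUnity r F)).map (fun x => c * x)) =
        (s : Multiset ↥(rootsOfUnity r F)) := by
      rw [← smul_coe, hc]
    rw [h3] at h2
    exact hgs.isConj r p h2 (coprime_of_pow p r hrq g _ hg)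
      (coprime_of_pow p r hrq _ _ (pow_sc_mul r _ _ h hh))
  · obtain ⟨g, l, rfl, hg, hlnp, ht⟩ := hx
    obtain ⟨h, l', rfl, hh, hlnp', ht'⟩ := hy
    obtain ⟨u, hu⟩ := (mk_eq_mk_iff r l l').mp (ht.trans ht'.symm)
    rw [isConj_mk_iff]
    refine ⟨u, ?_⟩
    have h1 := pow_sc_mul r u l' h hh
    rw [← hu] at h1
    exact isConj_of_pow_nonpow p r hr hrq g _ l hlnp hg h1 (coprime_of_pow p r hrq g _ hg)
      (coprime_of_pow p r hrq _ _ h1)

theorem NT_unique (hn : 0 < n) {x y : GL (Fin n) F ⧸ ZZ}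
    (a a' : (MulAction.orbitRel.Quotient ↥(rootsOfUnity r F) (Sym ↥(rootsOfUnity r F) n)) ⊕
      (Fˣ ⧸ powRange (F := F) r)) (hx : NT r x a) (hy : NT r y a') (hxy : IsConj x y) :
    a = a' := by
  rcases a with o | t
  · obtain ⟨g, μ, s, rfl, hg, hgs, ho⟩ := hx
    rcases a' with o' | t'
    · obtain ⟨h, ν, s', rfl, hh, hhs, ho'⟩ := hy
      obtain ⟨u, hu⟩ := (isConj_mk_iff g h).mp hxy
      have h1 := pow_of_isConj hu (pow_sc_mul r u _ h hh)
      rw [hg] at h1
      have h2 : μ ^ r = u ^ r * ν ^ r := sc_injective hn h1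
      have hcmem : μ⁻¹ * (u * ν) ∈ rootsOfUnity r F := by
        rw [mem_rootsOfUnity, mul_pow, inv_pow, mul_pow, ← h2, inv_mul_cancel]
      have h3 : HasSpec r g (u * ν) (s' : Multiset ↥(rootsOfUnity r F)) :=
        (hhs.smul r u).conj r hu.symm
      have h4 : u * ν = μ * ((⟨μ⁻¹ * (u * ν), hcmem⟩ : ↥(rootsOfUnity r F)) : Fˣ) := by
        show u * ν = μ * (μ⁻¹ * (u * ν))
        rw [mul_inv_cancel_left]
      rw [h4] at h3
      have h5 := h3.shift r ⟨μ⁻¹ * (u * ν), hcmem⟩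
      have h6 := hgs.unique r h5
      rw [← smul_coe] at h6
      have h7 := Sym.coe_injective h6
      congr 1
      rw [← ho, ← ho', orb_eq_iff]
      exact ⟨_, h7.symm⟩
    · exfalso
      obtain ⟨h, l', rfl, hh, hlnp', ht'⟩ := hy
      obtain ⟨u, hu⟩ := (isConj_mk_iff g h).mp hxy
      have h1 := pow_of_isConj hu (pow_sc_mul r u _ h hh)
      rw [hg] at h1
      have h2 : μ ^ r = u ^ r * l' := sc_injective hn h1
      apply hlnp' (u⁻¹ * μ)
      rw [mul_pow, h2, inv_pow, inv_mul_cancel_left]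
  · obtain ⟨g, l, rfl, hg, hlnp, ht⟩ := hx
    rcases a' with o' | t'
    · exfalso
      obtain ⟨h, ν, s', rfl, hh, hhs, ho'⟩ := hy
      obtain ⟨u, hu⟩ := (isConj_mk_iff g h).mp hxy
      have h1 := pow_of_isConj hu (pow_sc_mul r u _ h hh)
      rw [hg] at h1
      have h2 : l = u ^ r * ν ^ r := sc_injective hn h1
      apply hlnp (u * ν)
      rw [mul_pow, h2]
    · obtain ⟨h, l', rfl, hh, hlnp', ht'⟩ := hy
      obtain ⟨u, hu⟩ := (isConj_mk_iff g h).mp hxy
      have h1 := pow_of_isConj hu (pow_sc_mul r u _ h hh)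
      rw [hg] at h1
      have h2 : l = u ^ r * l' := sc_injective hn h1
      congr 1
      rw [← ht, ← ht', mk_eq_mk_iff]
      exact ⟨u, h2⟩

theorem exists_of_InI (hr : r.Prime) (hn : 0 < n)
    (a : (MulAction.orbitRel.Quotient ↥(rootsOfUnity r F) (Sym ↥(rootsOfUnity r F) n)) ⊕
      (Fˣ ⧸ powRange (F := F) r)) (ha : InI r (n := n) a) :
    ∃ g : GL (Fin n) F, g ∉ ZZ ∧ (∃ l : Fˣ, g ^ r = sc l) ∧ NT r (g : GL (Fin n) F ⧸ ZZ) a := by
  rcases a with o | t
  · obtain ⟨s, rfl⟩ := exists_orb r o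
    obtain ⟨g, hgc, hg, hgs⟩ := exists_of_spec p r hr (1 : Fˣ) (s : Multiset ↥(rootsOfUnity r F)) s.2
    refine ⟨g, ?_, ⟨_, hg⟩, g, 1, s, rfl, hg, hgs, rfl⟩
    intro hgZ
    rw [mem_center_iff] at hgZ
    obtain ⟨ν, rfl⟩ := hgZ
    obtain ⟨c, hc⟩ := replicate_of_hasSpec_sc r hn hgs
    apply ha
    rw [orb_eq_iff]
    refine ⟨c, ?_⟩
    rw [smul_replicate, mul_one]
    apply Sym.coe_injective
    rw [Sym.coe_replicate, hc]
  · obtain ⟨ht1, hdvd⟩ := ha
    obtain ⟨l, rfl⟩ := QuotientGroup.mk_surjective t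
    have hlnp : ∀ b : Fˣ, b ^ r ≠ l := by
      intro b hb
      exact ht1 ((mk_eq_one_iff r l).mpr ⟨b, hb⟩)
    obtain ⟨g, hgc, hg⟩ := exists_pow_nonpow p r hr hdvd l hlnp
    refine ⟨g, ?_, ⟨_, hg⟩, g, l, rfl, hg, hlnp, rfl⟩
    intro hgZ
    rw [mem_center_iff] at hgZ
    obtain ⟨c, rfl⟩ := hgZ
    rw [← map_pow] at hg
    exact hlnp c (sc_injective hn hg)

end main

section final

variable (p : ℕ) [Fact p.Prime] [CharP F p] (r : ℕ) {n : ℕ}

local notation "sc" => Matrix.GeneralLinearGroup.scalar (Fin n)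
local notation "ZZ" => Subgroup.center (GL (Fin n) F)

attribute [local instance] symAction

include p

theorem exists_zeta (hr : r.Prime) (hrq : r ∣ Fintype.card F - 1) :
    ∃ ζ : Fˣ, orderOf ζ = r ∧ Nat.card ↥(rootsOfUnity r F) = r := by
  have _ : Fact r.Prime := ⟨hr⟩
  have _ : NeZero r := ⟨hr.ne_zero⟩
  have h1 : r ∣ Fintype.card Fˣ := by rw [Fintype.card_units]; exact hrq
  obtain ⟨ζ, hζ⟩ := exists_prime_orderOf_dvd_card r h1
  refine ⟨ζ, hζ, ?_⟩
  have hprim : IsPrimitiveRoot (ζ : F) r := by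
    have h2 := IsPrimitiveRoot.orderOf ζ
    rw [hζ] at h2
    exact IsPrimitiveRoot.coe_units_iff.mpr h2
  exact hprim.card_rootsOfUnity

theorem card_classes_aux (hr : r.Prime) (hrq : r ∣ Fintype.card F - 1) (hn : 2 ≤ n) :
    Nat.card {C : ConjClasses (GL (Fin n) F ⧸ ZZ) //
      ∃ x : GL (Fin n) F ⧸ ZZ, ConjClasses.mk x = C ∧ orderOf x = r} =
      (Nat.card (MulAction.orbitRel.Quotient ↥(rootsOfUnity r F) (Sym ↥(rootsOfUnity r F) n)) - 1) +
        (if r ∣ n then r - 1 else 0) := by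
  classical
  obtain ⟨ζ, hζ, hR⟩ := exists_zeta p r hr hrq
  have _ : Fintype (MulAction.orbitRel.Quotient ↥(rootsOfUnity r F) (Sym ↥(rootsOfUnity r F) n)) :=
    Fintype.ofFinite _
  have _ : Fintype (Fˣ ⧸ powRange (F := F) r) := Fintype.ofFinite _
  set I : Finset ((MulAction.orbitRel.Quotient ↥(rootsOfUnity r F) (Sym ↥(rootsOfUnity r F) n)) ⊕
      (Fˣ ⧸ powRange (F := F) r)) :=
    (Finset.univ.erase (orb r (Sym.replicate n 1))).disjSum
      (if r ∣ n then Finset.univ.erase 1 else ∅) with hI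
  have hmemI : ∀ a, a ∈ I ↔ InI r (n := n) a := by
    intro a
    rcases a with o | t
    · rw [hI, Finset.inl_mem_disjSum, Finset.mem_erase]
      show _ ↔ o ≠ orb r (Sym.replicate n 1)
      simp only [Finset.mem_univ, and_true]
    · rw [hI, Finset.inr_mem_disjSum]
      show _ ↔ t ≠ 1 ∧ r ∣ n
      split_ifs with hdvd
      · rw [Finset.mem_erase]
        simp only [Finset.mem_univ, and_true, hdvd]
      · simp only [Finset.notMem_empty, hdvd, and_false]
  have hcardI : I.card =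
      (Nat.card (MulAction.orbitRel.Quotient ↥(rootsOfUnity r F) (Sym ↥(rootsOfUnity r F) n)) - 1) +
        (if r ∣ n then r - 1 else 0) := by
    rw [hI, Finset.card_disjSum, Finset.card_erase_of_mem (Finset.mem_univ _), Finset.card_univ,
      ← Nat.card_eq_fintype_card]
    congr 1
    split_ifs with hdvd
    · rw [Finset.card_erase_of_mem (Finset.mem_univ _), Finset.card_univ,
        ← Nat.card_eq_fintype_card, card_quot_powRange r hR]
    · rfl
  rw [← hcardI]
  apply card_classes_of_inv (fun x => orderOf x = r) (NT r) I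
  · intro x hx
    obtain ⟨g, rfl⟩ := QuotientGroup.mk_surjective x
    obtain ⟨hgZ, l, hl⟩ := (orderOf_mk_eq_prime hr g).mp hx
    obtain ⟨a, haI, ha⟩ := exists_NT p r hr hrq ζ hζ g hgZ l hl
    exact ⟨a, (hmemI a).mpr haI, ha⟩
  · intro x y a _ _ hx hy
    exact isConj_of_NT p r hr hrq a hx hy
  · intro x y a a' _ _ hx hy hxy
    exact NT_unique p r (by omega) a a' hx hy hxy
  · intro a ha
    obtain ⟨g, hgZ, hl, hNT⟩ := exists_of_InI p r hr (by omega) a ((hmemI a).mp ha)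
    exact ⟨(g : GL (Fin n) F ⧸ ZZ), (orderOf_mk_eq_prime hr g).mpr ⟨hgZ, hl⟩, hNT⟩

theorem choose_bound (hr : 2 ≤ r) (hn : 2 ≤ n) : r + 1 ≤ Nat.choose (n + r - 1) (r - 1) := by
  have h1 : Nat.choose (r + 1) (r - 1) ≤ Nat.choose (n + r - 1) (r - 1) :=
    Nat.choose_le_choose _ (by omega)
  have h2 : Nat.choose (r + 1) (r - 1) = Nat.choose (r + 1) 2 := by
    have := Nat.choose_symm (n := r + 1) (k := 2) (by omega)
    rw [← this]
    congr 1
  rw [h2, Nat.choose_two_right, Nat.add_sub_cancel] at h1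
  refine le_trans ?_ h1
  rw [Nat.le_div_iff_mul_le (by norm_num)]
  exact Nat.mul_le_mul_left _ hr

/-- **Classes of elements of prime order `r ∣ q - 1` in `PGL_n(q)`.** -/
theorem card_order_r_classes (hr : r.Prime) (hrq : r ∣ Fintype.card F - 1) (hn : 2 ≤ n) :
    Nat.card {C : ConjClasses (GL (Fin n) F ⧸ ZZ) //
      ∃ x : GL (Fin n) F ⧸ ZZ, ConjClasses.mk x = C ∧ orderOf x = r} =
      (Nat.choose (n + r - 1) (r - 1) - r - (if r ∣ n then 1 else 0)) / r +
        r * (if r ∣ n then 1 else 0) := by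
  have _ : Fact r.Prime := ⟨hr⟩
  obtain ⟨ζ, hζ, hR⟩ := exists_zeta p r hr hrq
  rw [card_classes_aux p r hr hrq hn]
  have horb := card_orbits (F := F) r n hR
  have hmc : Nat.multichoose r n = Nat.choose (n + r - 1) (r - 1) := by
    rw [Nat.multichoose_eq]
    have h1 : r + n - 1 = n + r - 1 := by omega
    rw [h1]
    have := Nat.choose_symm (n := n + r - 1) (k := n) (by have := hr.two_le; omega)
    rw [← this]
    congr 1
    have := hr.two_le
    omega
  rw [hmc] at horb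
  have hb := choose_bound p r hr.two_le hn
  have hrpos : 0 < r := hr.pos
  have hr2 := hr.two_le
  generalize Nat.card (MulAction.orbitRel.Quotient ↥(rootsOfUnity r F)
    (Sym ↥(rootsOfUnity r F) n)) = N at horb ⊢
  generalize Nat.choose (n + r - 1) (r - 1) = C at horb hb ⊢
  split_ifs with hdvd
  · rw [if_pos hdvd, mul_one] at horb
    have hN : 2 ≤ N := by
      by_contra hlt
      have : N * r ≤ 1 * r := Nat.mul_le_mul_right _ (by omega)
      omega
    obtain ⟨M, rfl⟩ : ∃ M, N = M + 2 := ⟨N - 2, by omega⟩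
    have h1 : C - r - 1 = M * r := by
      have : (M + 2) * r = M * r + 2 * r := by ring
      omega
    rw [h1, Nat.mul_div_cancel _ hrpos]
    omega
  · rw [if_neg hdvd, mul_zero, add_zero] at horb
    have hN : 1 ≤ N := by
      by_contra hlt
      have : N = 0 := by omega
      rw [this, zero_mul] at horb
      omega
    obtain ⟨M, rfl⟩ : ∃ M, N = M + 1 := ⟨N - 1, by omega⟩
    have h1 : C - r - 0 = M * r := by
      have : (M + 1) * r = M * r + r := by ring
      omega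
    rw [h1, Nat.mul_div_cancel _ hrpos]
    omega

end final

end Cfsg.Agent.H2.PGLOrderR
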