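import Mathlib
import Cfsg.Prelude.Def_LocalEven
import Cfsg.Prelude.Def_Solvable
import Cfsg.Prelude.Def_Transfer
import Cfsg.Agent.H1.PResidual
import Cfsg.Agent.H1.Cores
import Cfsg.Agent.H1.CoprimeAction
import Cfsg.Agent.Lib.Lead.Subnormal
import Cfsg.Agent.H2.PComponentSylow

/-!
Structure of `p`-minimal groups (helper2).
-/

set_option autoImplicit false

namespace Cfsg.Agent.H2.PMin

open scoped Pointwise
open Cfsg.Agent.Lib.Helper7 Cfsg.Agent.Lib.Lead.Subnormal

section general

variable {G : Type*} [Group G]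

theorem conj_smul_iSup {ι : Sort*} (g : G) (f : ι → Subgroup G) :
    MulAut.conj g • (⨆ i, f i) = ⨆ i, MulAut.conj g • f i :=
  Subgroup.map_iSup (MulAut.conj g).toMonoidHom f

theorem conj_smul_smul (g h : G) (N : Subgroup G) :
    MulAut.conj g • (MulAut.conj h • N) = MulAut.conj (g * h) • N := by
  rw [map_mul, mul_smul]

/-- If `G = L R` with `R` normal then `|G : L| = |R : L ∩ R|`. -/
theorem index_eq_relIndex_of_sup_eq_top [Finite G] (L R : Subgroup G) [R.Normal]
    (h : L ⊔ R = ⊤) : L.index = L.relIndex R := by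
  have h1 : R.relIndex L = R.index := by
    rw [← Subgroup.relIndex_sup_right L R, h, Subgroup.relIndex_top_right]
  have e1 : L.index * Nat.card L = Nat.card G := L.index_mul_card
  have e2 : R.index * Nat.card R = Nat.card G := R.index_mul_card
  have e3 : Nat.card ↥(L ⊓ R) * R.relIndex L = Nat.card L := by
    have := Subgroup.relIndex_mul_relIndex ⊥ (L ⊓ R) L bot_le inf_le_left
    rwa [Subgroup.relIndex_bot_left, Subgroup.relIndex_bot_left,
      Subgroup.inf_relIndex_left] at this
  have e4 : Nat.card ↥(L ⊓ R) * L.relIndex R = Nat.card R := by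
    have := Subgroup.relIndex_mul_relIndex ⊥ (L ⊓ R) R bot_le inf_le_right
    rwa [Subgroup.relIndex_bot_left, Subgroup.relIndex_bot_left,
      Subgroup.inf_relIndex_right] at this
  have hpos : 0 < Nat.card L := Nat.card_pos
  have : L.index * Nat.card L = L.relIndex R * Nat.card L := by
    calc L.index * Nat.card L = R.index * Nat.card R := by rw [e1, e2]
      _ = R.relIndex L * (Nat.card ↥(L ⊓ R) * L.relIndex R) := by rw [h1, e4]
      _ = L.relIndex R * (Nat.card ↥(L ⊓ R) * R.relIndex L) := by ring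
      _ = L.relIndex R * Nat.card L := by rw [e3]
  exact Nat.eq_of_mul_eq_mul_right hpos this

/-- If `G = N S` with `N` normal and `S` a `p`-group then `G / N` is a `p`-group. -/
theorem isPGroup_quotient_of_sup_eq_top {p : ℕ} (N : Subgroup G) [N.Normal] (S : Subgroup G)
    (hS : IsPGroup p S) (h : N ⊔ S = ⊤) : IsPGroup p (G ⧸ N) := by
  refine hS.of_surjective ((QuotientGroup.mk' N).comp S.subtype) ?_
  intro x
  obtain ⟨g, rfl⟩ := QuotientGroup.mk_surjective x
  have hg : g ∈ N ⊔ S := h ▸ Subgroup.mem_top g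
  obtain ⟨n, hn, s, hs, rfl⟩ :=
    (Cfsg.Agent.H1.mem_sup_of_le_normalizer N S
      (by rw [Subgroup.normalizer_eq_top]; exact le_top)).1 hg
  refine ⟨⟨s, hs⟩, ?_⟩
  show (QuotientGroup.mk' N) s = (QuotientGroup.mk' N) (n * s)
  have h1 : (QuotientGroup.mk' N) n = 1 := (QuotientGroup.eq_one_iff n).2 hn
  rw [map_mul, h1, one_mul]

/-- a subgroup containing a Sylow `p`-subgroup: from `p ∤ |G : L|`. -/
theorem exists_sylow_le_of_not_dvd_index [Finite G] {p : ℕ} [Fact p.Prime] (L : Subgroup G)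
    (h : ¬ p ∣ L.index) : ∃ S : Sylow p G, (S : Subgroup G) ≤ L := by
  have hp : p.Prime := Fact.out
  obtain ⟨S₁⟩ : Nonempty (Sylow p ↥L) := inferInstance
  have hpg : IsPGroup p ↥((S₁ : Subgroup ↥L).map L.subtype) := S₁.isPGroup'.map L.subtype
  have hidx : ¬ p ∣ ((S₁ : Subgroup ↥L).map L.subtype).index := by
    rw [Subgroup.index_map_subtype]
    intro hd
    rcases hp.dvd_mul.1 hd with h1 | h1
    · exact S₁.not_dvd_index h1
    · exact h h1
  exact ⟨hpg.toSylow hidx, Subgroup.map_subtype_le _⟩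

end general

section pmin

variable {P : Type*} [Group P] [Finite P] {p : ℕ} [Fact p.Prime]

/-- every proper subgroup containing `S` lies in `M`. -/
theorem le_of_sylow_le (hP : Cfsg.IsPMinimal p P) (S : Sylow p P) {M : Subgroup P}
    (hM : IsCoatom M) (hSM : (S : Subgroup P) ≤ M) {X : Subgroup P}
    (hSX : (S : Subgroup P) ≤ X) (hX : X ≠ ⊤) : X ≤ M := by
  obtain ⟨M0, ⟨hM0, hSM0⟩, huniq⟩ := (hP S).2
  rcases eq_top_or_exists_le_coatom X with h | ⟨M', hM', hXM'⟩
  · exact absurd h hX
  · have h1 : M' = M0 := huniq M' ⟨hM', hSX.trans hXM'⟩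
    have h2 : M = M0 := huniq M ⟨hM, hSM⟩
    rw [h2, ← h1]; exact hXM'

theorem not_pResidual_le (S : Sylow p P) {M : Subgroup P} (hM : IsCoatom M)
    (hSM : (S : Subgroup P) ≤ M) : ¬ Cfsg.pResidual p P ≤ M := by
  intro h
  apply hM.1
  rw [eq_top_iff, ← Cfsg.Agent.H1.pResidual_sup_sylow S]
  exact sup_le h hSM

/-- a normal subgroup contains `O^p(P)` or lies in the core of `M`. -/
theorem pResidual_le_or_le_normalCore (hP : Cfsg.IsPMinimal p P) (S : Sylow p P)
    {M : Subgroup P} (hM : IsCoatom M) (hSM : (S : Subgroup P) ≤ M)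
    (N : Subgroup P) (hN : N.Normal) :
    Cfsg.pResidual p P ≤ N ∨ N ≤ M.normalCore := by
  haveI := hN
  by_cases h : N ⊔ (S : Subgroup P) = ⊤
  · left
    exact Cfsg.Agent.H1.pResidual_le_of_isPGroup_quotient N
      (isPGroup_quotient_of_sup_eq_top N S S.isPGroup' h)
  · right
    rw [Subgroup.normal_le_normalCore]
    exact le_sup_left.trans (le_of_sylow_le hP S hM hSM le_sup_right h)

/-- normal subgroups in `M` meet `S` inside `O_p(P)`. -/
theorem normal_inf_sylow_le_pCore (hP : Cfsg.IsPMinimal p P) (S : Sylow p P)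
    {M : Subgroup P} (hM : IsCoatom M) (hSM : (S : Subgroup P) ≤ M)
    (N : Subgroup P) (hN : N.Normal) (hNM : N ≤ M) :
    N ⊓ (S : Subgroup P) ≤ Cfsg.pCore p P := by
  haveI := hN
  have hNtop : Subgroup.normalizer (N : Set P) = ⊤ := Subgroup.normalizer_eq_top_iff.2 hN
  have hsyl : IsSylowIn p ((S : Subgroup P) ⊓ N) N :=
    (IsSylowIn.of_sylow_top S).inf_normal N le_top (by rw [hNtop])
  obtain ⟨T₀, hT₀⟩ := hsyl.exists_sylow
  have hfr := Sylow.normalizer_sup_eq_top T₀
  have hmap : (T₀ : Subgroup N).map N.subtype = (S : Subgroup P) ⊓ N := by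
    rw [hT₀, Subgroup.subgroupOf_map_subtype, inf_assoc, inf_idem]
  rw [hmap] at hfr
  have hSn : (S : Subgroup P) ≤
      Subgroup.normalizer (((S : Subgroup P) ⊓ N : Subgroup P) : Set P) := by
    refine le_trans ?_ (Subgroup.inf_normalizer_le_normalizer_inf)
    exact le_inf Subgroup.le_normalizer (by rw [hNtop]; exact le_top)
  have htop : Subgroup.normalizer (((S : Subgroup P) ⊓ N : Subgroup P) : Set P) = ⊤ := by
    by_contra hne
    have hle := le_of_sylow_le hP S hM hSM hSn hne
    apply hM.1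
    rw [eq_top_iff, ← hfr]
    exact sup_le hle hNM
  have hnorm : ((S : Subgroup P) ⊓ N).Normal := Subgroup.normalizer_eq_top_iff.1 htop
  rw [inf_comm]
  exact Cfsg.Agent.H1.le_pCore hnorm (S.isPGroup'.to_inf_left)

/-- subnormal subgroups in `M` meet `S` inside `O_p(P)`. -/
theorem isSubnormal_inf_sylow_le_pCore (hP : Cfsg.IsPMinimal p P) (S : Sylow p P)
    {M : Subgroup P} (hM : IsCoatom M) (hSM : (S : Subgroup P) ≤ M)
    (N : Subgroup P) (hN : N.IsSubnormal) (hNM : N ≤ M) :
    N ⊓ (S : Subgroup P) ≤ Cfsg.pCore p P := by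
  obtain ⟨Y, hYdef⟩ : ∃ Y : Subgroup P,
    Y = ⨆ s : (S : Subgroup P), MulAut.conj (s : P) • N := ⟨_, rfl⟩
  have hNY : N ≤ Y := by
    rw [hYdef]
    refine le_trans ?_ (le_iSup (fun t : (S : Subgroup P) => MulAut.conj (t : P) • N) 1)
    simp
  have hYM : Y ≤ M := by
    rw [hYdef]
    apply iSup_le
    intro s x hx
    rw [mem_conj_smul] at hx
    have hs : (s : P) ∈ M := hSM s.2
    have : x = (s : P) * ((s : P)⁻¹ * x * s) * (s : P)⁻¹ := by group
    rw [this]
    exact mul_mem (mul_mem hs (hNM hx)) (inv_mem hs)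
  have hYsn : Y.IsSubnormal := by
    rw [hYdef]
    apply sSup_isSubnormal
    rintro U ⟨s, rfl⟩
    exact hN.smul _
  have hSY : (S : Subgroup P) ≤ Subgroup.normalizer (Y : Set P) := by
    intro s hs
    apply mem_normalizer_of_conj_smul_le
    rw [hYdef, conj_smul_iSup]
    apply iSup_le
    intro s'
    rw [conj_smul_smul]
    have e : s * (s' : P) = ((⟨s, hs⟩ * s' : (S : Subgroup P)) : P) := rfl
    rw [e]
    exact le_iSup (fun t : (S : Subgroup P) => MulAut.conj (t : P) • N) _
  have hYF : Y ≤ M.normalCore := by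
    have hY1n : (Subgroup.normalClosure (Y : Set P)).Normal := Subgroup.normalClosure_normal
    rcases pResidual_le_or_le_normalCore hP S hM hSM _ hY1n with hR | hle
    · exfalso
      obtain ⟨Y₁, hY₁def⟩ : ∃ Y₁ : Subgroup P, Y₁ = Subgroup.normalClosure (Y : Set P) :=
        ⟨_, rfl⟩
      rw [← hY₁def] at hR hY1n
      have hYY₁ : Y ≤ Y₁ := by rw [hY₁def]; exact Subgroup.le_normalClosure
      have hY1S : Y₁ ⊔ (S : Subgroup P) = ⊤ := by
        rw [eq_top_iff, ← Cfsg.Agent.H1.pResidual_sup_sylow S]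
        exact sup_le_sup_right hR _
      have hsub : (Y.subgroupOf Y₁).IsSubnormal := hYsn.subgroupOf
      rcases hsub.lt_normal with htop | ⟨K, hKn, hYK, hKlt⟩
      · rw [Subgroup.subgroupOf_eq_top] at htop
        exact not_pResidual_le S hM hSM (hR.trans (htop.trans hYM))
      · obtain ⟨K', hK'def⟩ : ∃ K' : Subgroup P, K' = K.map Y₁.subtype := ⟨_, rfl⟩
        have hYK' : Y ≤ K' := by
          intro y hy
          rw [hK'def]
          exact ⟨⟨y, hYY₁ hy⟩, hYK (Subgroup.mem_subgroupOf.2 hy), rfl⟩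
        have hK'norm : ∀ y ∈ Y₁, ∀ k ∈ K', y * k * y⁻¹ ∈ K' := by
          intro y hy k hk
          rw [hK'def] at hk ⊢
          obtain ⟨k₀, hk₀, rfl⟩ := hk
          exact ⟨⟨y, hy⟩ * k₀ * ⟨y, hy⟩⁻¹, hKn.conj_mem k₀ hk₀ ⟨y, hy⟩, rfl⟩
        obtain ⟨L', hL'def⟩ : ∃ L' : Subgroup P,
          L' = ⨅ s : (S : Subgroup P), MulAut.conj (s : P) • K' := ⟨_, rfl⟩
        have hmemL' : ∀ x, x ∈ L' ↔ ∀ s : (S : Subgroup P), (s : P)⁻¹ * x * s ∈ K' := by
          intro x
          rw [hL'def, Subgroup.mem_iInf]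
          exact forall_congr' (fun s => mem_conj_smul _ _ _)
        have hYL' : Y ≤ L' := by
          intro y hy
          rw [hmemL']
          intro s
          apply hYK'
          have h1 := hSY (inv_mem s.2)
          rw [Subgroup.mem_normalizer_iff] at h1
          have h2 := (h1 y).1 hy
          simpa using h2
        have hL'K' : L' ≤ K' := by
          intro x hx
          have := (hmemL' x).1 hx 1
          simpa using this
        have hL'S : (S : Subgroup P) ≤ Subgroup.normalizer (L' : Set P) := by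
          intro s₀ hs₀
          apply mem_normalizer_of_conj_smul_le
          intro z hz
          rw [mem_conj_smul] at hz
          rw [hmemL'] at hz ⊢
          intro s
          have h1 := hz (⟨s₀, hs₀⟩⁻¹ * s)
          have e : ((⟨s₀, hs₀⟩⁻¹ * s : (S : Subgroup P)) : P)⁻¹ * (s₀⁻¹ * z * s₀) *
              ((⟨s₀, hs₀⟩⁻¹ * s : (S : Subgroup P)) : P) = (s : P)⁻¹ * z * s := by
            rw [Subgroup.coe_mul, Subgroup.coe_inv]
            group
          rw [← e]; exact h1
        have hL'Y1 : Y₁ ≤ Subgroup.normalizer (L' : Set P) := by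
          intro y hy
          apply mem_normalizer_of_conj_smul_le
          intro z hz
          rw [mem_conj_smul] at hz
          rw [hmemL'] at hz ⊢
          intro s
          have h1 := hz s
          have hy' : (s : P)⁻¹ * y * s ∈ Y₁ := by
            have := hY1n.conj_mem y hy (s : P)⁻¹
            simpa using this
          have h2 := hK'norm _ hy' _ h1
          have e : (s : P)⁻¹ * y * s * ((s : P)⁻¹ * (y⁻¹ * z * y) * s) *
              ((s : P)⁻¹ * y * s)⁻¹ = (s : P)⁻¹ * z * s := by group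
          rw [← e]; exact h2
        have hL'n : L'.Normal := by
          rw [← Subgroup.normalizer_eq_top_iff, eq_top_iff, ← hY1S]
          exact sup_le hL'Y1 hL'S
        have hY1L' : Y₁ ≤ L' := by
          rw [hY₁def]
          exact Subgroup.normalClosure_le_normal hYL'
        apply hKlt.ne
        rw [eq_top_iff]
        intro x _
        have hx : (x : P) ∈ K' := hL'K' (hY1L' x.2)
        rw [hK'def] at hx
        obtain ⟨k, hk, hkx⟩ := hx
        have : k = x := Subtype.ext hkx
        rwa [← this]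
    · exact Subgroup.le_normalClosure.trans hle
  calc N ⊓ (S : Subgroup P) ≤ M.normalCore ⊓ (S : Subgroup P) :=
        inf_le_inf_right _ (hNY.trans hYF)
    _ ≤ Cfsg.pCore p P :=
        normal_inf_sylow_le_pCore hP S hM hSM _ inferInstance (Subgroup.normalCore_le M)

/-- if `O^p(P)` has a normal Sylow `p`-subgroup then `|P|` has at most two prime divisors. -/
theorem primeFactors_card_le_two (hP : Cfsg.IsPMinimal p P) (S : Sylow p P)
    {M : Subgroup P} (hM : IsCoatom M) (hSM : (S : Subgroup P) ≤ M)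
    (hT : ∀ T : Sylow p ↥(Cfsg.pResidual p P), (T : Subgroup ↥(Cfsg.pResidual p P)).Normal) :
    (Nat.card P).primeFactors.card ≤ 2 := by
  have hp : p.Prime := Fact.out
  obtain ⟨R, hRdef⟩ : ∃ R : Subgroup P, R = Cfsg.pResidual p P := ⟨_, rfl⟩
  have hRn : R.Normal := by rw [hRdef]; infer_instance
  have hRtop : Subgroup.normalizer (R : Set P) = ⊤ := Subgroup.normalizer_eq_top_iff.2 hRn
  have hsyl : IsSylowIn p ((S : Subgroup P) ⊓ R) R :=
    (IsSylowIn.of_sylow_top S).inf_normal R le_top (by rw [hRtop])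
  obtain ⟨T₀, hT₀⟩ := hsyl.exists_sylow
  have hT₀n : (T₀ : Subgroup ↥R).Normal := by subst hRdef; exact hT T₀
  obtain ⟨T, hTdef⟩ : ∃ T : Subgroup P, T = (S : Subgroup P) ⊓ R := ⟨_, rfl⟩
  have hTR : T ≤ R := by rw [hTdef]; exact inf_le_right
  have hTS : T ≤ S := by rw [hTdef]; exact inf_le_left
  have hTn : T.Normal := by
    rw [← Subgroup.normalizer_eq_top_iff, eq_top_iff, ← Cfsg.Agent.H1.pResidual_sup_sylow S,
      ← hRdef]
    apply sup_le
    · rw [hT₀] at hT₀n; rw [hTdef]
      exact (Subgroup.normal_subgroupOf_iff_le_normalizer inf_le_right).1 hT₀n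
    · rw [hTdef]
      refine le_trans ?_ Subgroup.inf_normalizer_le_normalizer_inf
      exact le_inf Subgroup.le_normalizer (by rw [hRtop]; exact le_top)
  have hTrel : ¬ p ∣ T.relIndex R := by
    have := T₀.not_dvd_index
    rwa [hT₀, ← hTdef] at this
  have claimA : ∀ t : ℕ, [Fact t.Prime] → t ≠ p → ∃ Q : Sylow t P, (Q : Subgroup P) ≤ M ∨
      ∀ q : ℕ, q.Prime → q ∣ Nat.card P → q = p ∨ q = t := by
    intro t ht htp
    have htpr : t.Prime := ht.out
    obtain ⟨Q₀⟩ : Nonempty (Sylow t P) := inferInstance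
    have hQ₀R : ∀ Q : Sylow t P, (Q : Subgroup P) ≤ R := by
      intro Q g hg
      rw [hRdef]
      apply Cfsg.Agent.H1.mem_pResidual_of_coprime
      obtain ⟨k, hk⟩ := (IsPGroup.iff_orderOf.1 Q.isPGroup') ⟨g, hg⟩
      rw [Subgroup.orderOf_mk] at hk
      rw [hk]
      exact Nat.Coprime.pow_left k ((Nat.coprime_primes htpr hp).2 htp)
    have hfr : Subgroup.normalizer ((Q₀ : Subgroup P) : Set P) ⊔ R = ⊤ :=
      Sylow.normalizer_sup_eq_top' Q₀ (hQ₀R Q₀)
    obtain ⟨L, hLdef⟩ : ∃ L : Subgroup P,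
      L = Subgroup.normalizer ((T ⊔ (Q₀ : Subgroup P) : Subgroup P) : Set P) := ⟨_, rfl⟩
    have hNL : Subgroup.normalizer ((Q₀ : Subgroup P) : Set P) ≤ L := by
      rw [hLdef]
      refine le_trans ?_ (Subgroup.normalizer_inf_normalizer_le_normalizer_sup ..)
      exact le_inf (by rw [Subgroup.normalizer_eq_top_iff.2 hTn]; exact le_top) le_rfl
    have hLR : L ⊔ R = ⊤ := by rw [eq_top_iff, ← hfr]; exact sup_le_sup_right hNL _
    have hLidx : ¬ p ∣ L.index := by
      rw [index_eq_relIndex_of_sup_eq_top L R hLR]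
      intro hd
      apply hTrel
      refine hd.trans (Subgroup.relIndex_dvd_of_le_left R ?_)
      rw [hLdef]; exact le_sup_left.trans Subgroup.le_normalizer
    obtain ⟨S₂, hS₂⟩ := exists_sylow_le_of_not_dvd_index L hLidx
    obtain ⟨g, hg⟩ := MulAction.exists_smul_eq P S₂ S
    refine ⟨g • Q₀, ?_⟩
    have hSn : (S : Subgroup P) ≤ Subgroup.normalizer
        ((T ⊔ ((g • Q₀ : Sylow t P) : Subgroup P) : Subgroup P) : Set P) := by
      have hH : T ⊔ ((g • Q₀ : Sylow t P) : Subgroup P) =
          MulAut.conj g • (T ⊔ (Q₀ : Subgroup P)) := by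
        rw [Subgroup.smul_sup, Subgroup.Normal.conj_smul_eq_self, Sylow.coe_subgroup_smul]
      rw [hH]
      intro s hs
      apply mem_normalizer_of_conj_smul_le
      have hs' : g⁻¹ * s * g ∈ L := by
        apply hS₂
        have : s ∈ ((g • S₂ : Sylow p P) : Subgroup P) := by rw [hg]; exact hs
        rw [Sylow.coe_subgroup_smul, mem_conj_smul] at this
        exact this
      rw [hLdef] at hs'
      have h3 := conj_smul_eq_of_mem_normalizer _ _ hs'
      rw [conj_smul_smul]
      have e : s * g = g * (g⁻¹ * s * g) := by group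
      rw [e, ← conj_smul_smul, h3]
    by_cases hX : (T ⊔ ((g • Q₀ : Sylow t P) : Subgroup P)) ⊔ (S : Subgroup P) = ⊤
    · right
      obtain ⟨H, hHdef⟩ : ∃ H : Subgroup P,
        H = T ⊔ ((g • Q₀ : Sylow t P) : Subgroup P) := ⟨_, rfl⟩
      rw [← hHdef] at hX hSn
      have hHn : H.Normal := by
        rw [← Subgroup.normalizer_eq_top_iff, eq_top_iff, ← hX]
        exact sup_le Subgroup.le_normalizer hSn
      have hRH : R ≤ H := by
        rw [hRdef]
        exact Cfsg.Agent.H1.pResidual_le_of_isPGroup_quotient H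
          (isPGroup_quotient_of_sup_eq_top H S S.isPGroup' hX)
      intro q hq hqd
      obtain ⟨k, hk⟩ : ∃ k, R.index = p ^ k := by
        obtain ⟨k, hk⟩ :=
          IsPGroup.iff_card.1 (Cfsg.Agent.H1.isPGroup_quotient_pResidual (G := P) p)
        exact ⟨k, by rw [hRdef]; exact hk⟩
      obtain ⟨a, ha⟩ : ∃ a, Nat.card T = p ^ a := IsPGroup.iff_card.1 (S.isPGroup'.to_le hTS)
      obtain ⟨b, hb⟩ := IsPGroup.iff_card.1 (g • Q₀).isPGroup'
      have h1 : Nat.card P ∣ p ^ k * (t ^ b * p ^ a) := by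
        rw [← R.index_mul_card, hk]
        apply Nat.mul_dvd_mul_left
        refine (Subgroup.card_dvd_of_le hRH).trans ?_
        rw [hHdef, sup_comm, ← hb, ← ha]
        exact Cfsg.Agent.H1.card_sup_dvd_of_normal _ T
      have h2 := hqd.trans h1
      rcases (hq.dvd_mul).1 h2 with h3 | h3
      · left; exact (Nat.prime_dvd_prime_iff_eq hq hp).1 (hq.dvd_of_dvd_pow h3)
      · rcases (hq.dvd_mul).1 h3 with h4 | h4
        · right; exact (Nat.prime_dvd_prime_iff_eq hq htpr).1 (hq.dvd_of_dvd_pow h4)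
        · left; exact (Nat.prime_dvd_prime_iff_eq hq hp).1 (hq.dvd_of_dvd_pow h4)
    · left
      exact (le_sup_right.trans le_sup_left).trans
        (le_of_sylow_le hP S hM hSM le_sup_right hX)
  by_contra hcard
  rw [not_le] at hcard
  apply hM.1
  apply Cfsg.Agent.H1.eq_top_of_forall_sylow_le
  intro t ht
  by_cases htp : t = p
  · subst htp
    exact ⟨S, hSM⟩
  · obtain ⟨Q, hQ | hQ⟩ := claimA t htp
    · exact ⟨Q, hQ⟩
    · exfalso
      obtain ⟨e, he, hne⟩ := Finset.exists_mem_notMem_of_card_lt_card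
        (s := {p, t}) (t := (Nat.card P).primeFactors)
        (lt_of_le_of_lt Finset.card_le_two hcard)
      have he' := Nat.mem_primeFactors.1 he
      rcases hQ e he'.1 he'.2.1 with h | h
      · exact hne (by rw [h]; simp)
      · exact hne (by rw [h]; simp)

theorem main (hP : Cfsg.IsPMinimal p P) (S : Sylow p P) (M : Subgroup P) (hM : IsCoatom M)
    (hSM : (S : Subgroup P) ≤ M) :
    (∀ N : Subgroup P, N.IsSubnormal → N ≤ M → N ⊓ (S : Subgroup P) ≤ Cfsg.pCore p P) ∧
    ((∀ T : Sylow p ↥(Cfsg.pResidual p P), (T : Subgroup ↥(Cfsg.pResidual p P)).Normal) →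
      (Nat.card P).primeFactors.card ≤ 2) ∧
    (∀ N : Subgroup P, N.Normal → Cfsg.pResidual p P ≤ N ∨ N ≤ M.normalCore) ∧
    (∀ N : Subgroup P, N.Normal → M.normalCore ≤ N →
      N ≤ Cfsg.pResidual p P ⊔ M.normalCore →
      N = M.normalCore ∨ N = Cfsg.pResidual p P ⊔ M.normalCore) ∧
    M.normalCore < Cfsg.pResidual p P ⊔ M.normalCore := by
  refine ⟨isSubnormal_inf_sylow_le_pCore hP S hM hSM, primeFactors_card_le_two hP S hM hSM,
    pResidual_le_or_le_normalCore hP S hM hSM, ?_, ?_⟩
  · intro N hN hFN hNR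
    rcases pResidual_le_or_le_normalCore hP S hM hSM N hN with h | h
    · right; exact le_antisymm hNR (sup_le h hFN)
    · left; exact le_antisymm h hFN
  · refine lt_of_le_of_ne le_sup_right ?_
    intro h
    apply not_pResidual_le S hM hSM
    have : Cfsg.pResidual p P ≤ M.normalCore := by
      rw [h]; exact le_sup_left
    exact this.trans (Subgroup.normalCore_le M)

end pmin

end Cfsg.Agent.H2.PMin
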