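import Mathlib
import Cfsg.Prelude.Def_Characters
import Cfsg.Prelude.Def_CharExt
import Cfsg.Prelude.Def_Transfer
import Cfsg.Agent.S4455
import Cfsg.Agent.Lib.helper3.PKer2
import Cfsg.Agent.Lib.helper3.Inflate2
import Cfsg.Agent.Lib.helper3.SolvExt
import Cfsg.Agent.Lib.helper3.Irr8
import Cfsg.Agent.Lib.helper3.Irr10
import Cfsg.Agent.Lib.helper3.RankOne2
import Cfsg.Agent.Lib.Helper4.GNSM

/-!
# Characters of `p'`-degree not containing a given normal subgroup in their kernel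

From the congruence `#O^p(T) ≡ ∑_{p ∤ χ(1) o(χ)} χ(1)²` (S4455) applied to `T` and `T ⧸ K`.
-/

set_option autoImplicit false
set_option linter.style.haveILetI false

namespace Cfsg.Agent.H2.PQ

open Cfsg Cfsg.Agent.Lib.helper3.Irr Cfsg.Agent.Lib.helper3.CharBasic
open Cfsg.Agent.Lib.helper3.IndFun

universe u

/-- inflation preserves the degree -/
theorem charDegree_inflate {T : Type u} [Group T] (K : Subgroup T) [K.Normal] (ψ : T ⧸ K → ℂ) :
    charDegree (inflate K ψ) = charDegree ψ := by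
  unfold charDegree
  rw [inflate_apply, QuotientGroup.mk_one]

/-- inflation preserves the determinantal order -/
theorem detOrder_inflate {T : Type u} [Group T] [Finite T] (K : Subgroup T) [K.Normal]
    {ψ : T ⧸ K → ℂ} (hψ : IsCharacter (T ⧸ K) ψ) : detOrder (inflate K ψ) = detOrder ψ := by
  unfold detOrder
  let Φ : (T ⧸ K → ℂ) →* (T → ℂ) :=
    { toFun := fun f t => f (t : T ⧸ K), map_one' := rfl, map_mul' := fun _ _ => rfl }
  have hΦ : Function.Injective Φ := by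
    intro f g hfg
    funext x
    obtain ⟨t, rfl⟩ := QuotientGroup.mk_surjective x
    exact congrFun hfg t
  have h : detChar (inflate K ψ) = Φ (detChar ψ) := by
    funext t
    exact Cfsg.Agent.Lib.helper3.SolvExt.detChar_comp_hom (QuotientGroup.mk' K) hψ t
  rw [h]
  exact orderOf_injective Φ hΦ (detChar ψ)

/-- **Step 1**: if `#O^p(T) ≢ #O^p(T/K) (mod p)` then some irreducible character of `T` of degree
prime to `p` does not contain `K` in its kernel. -/
theorem exists_irr_not_ker {T : Type u} [Group T] [Finite T] (p : ℕ) [hp : Fact p.Prime]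
    (K : Subgroup T) [K.Normal]
    (hne : ¬ ((Nat.card (pResidual p T) : ℤ) ≡ (Nat.card (pResidual p (T ⧸ K)) : ℤ) [ZMOD p])) :
    ∃ θ : IrrCharacter T, ¬ p ∣ charDegree (θ : T → ℂ) ∧
      ∃ k ∈ K, (θ : T → ℂ) k ≠ (θ : T → ℂ) 1 := by
  classical
  by_contra hcon
  push Not at hcon
  apply hne
  have h1 := Cfsg.Agent.S4455.result (G := T) p hp.out
  have h2 := Cfsg.Agent.S4455.result (G := T ⧸ K) p hp.out
  refine h1.trans (Int.ModEq.trans ?_ h2.symm)
  have heq : (∑ᶠ ψ ∈ {ψ : IrrCharacter (T ⧸ K) | ¬ p ∣ charDegree (ψ : T ⧸ K → ℂ) ∧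
        ¬ p ∣ detOrder (ψ : T ⧸ K → ℂ)}, (charDegree (ψ : T ⧸ K → ℂ) : ℤ) ^ 2) =
      ∑ᶠ χ ∈ {χ : IrrCharacter T | ¬ p ∣ charDegree (χ : T → ℂ) ∧
        ¬ p ∣ detOrder (χ : T → ℂ)}, (charDegree (χ : T → ℂ) : ℤ) ^ 2 := by
    apply finsum_mem_eq_of_bijOn (fun ψ : IrrCharacter (T ⧸ K) =>
      (⟨inflate K (ψ : T ⧸ K → ℂ), isIrrCharacter_inflate K ψ.2⟩ : IrrCharacter T))
    · refine ⟨?_, ?_, ?_⟩
      · intro ψ hψ
        show ¬ p ∣ charDegree (inflate K (ψ : T ⧸ K → ℂ)) ∧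
          ¬ p ∣ detOrder (inflate K (ψ : T ⧸ K → ℂ))
        rw [charDegree_inflate, detOrder_inflate K (isCharacter_of_isIrrCharacter ψ.2)]
        exact hψ
      · intro ψ _ φ _ h
        apply Subtype.ext
        apply inflate_injective K
        exact congrArg Subtype.val h
      · intro θ hθ
        obtain ⟨ψ, hψ, hθψ⟩ := exists_eq_inflate θ.2 K (fun g n hn =>
          apply_mul_of_apply_eq_one (isCharacter_of_isIrrCharacter θ.2) (hcon θ hθ.1 n hn) g)
        refine ⟨⟨ψ, hψ⟩, ?_, Subtype.ext hθψ.symm⟩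
        have h3 : ¬ p ∣ charDegree (inflate K ψ) ∧ ¬ p ∣ detOrder (inflate K ψ) := by
          rw [← hθψ]
          exact hθ
        rw [charDegree_inflate, detOrder_inflate K (isCharacter_of_isIrrCharacter hψ)] at h3
        exact h3
    · intro ψ _
      show (charDegree (ψ : T ⧸ K → ℂ) : ℤ) ^ 2 = (charDegree (inflate K (ψ : T ⧸ K → ℂ)) : ℤ) ^ 2
      rw [charDegree_inflate]
  rw [heq]

/-- **Step 2**: a character of degree prime to `p` of a subgroup of index prime to `p` lies under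
an irreducible character of degree prime to `p`. -/
theorem exists_irr_over {H : Type u} [Group H] [Finite H] (p : ℕ) [hp : Fact p.Prime]
    (T : Subgroup H) (hidx : ¬ p ∣ T.index) (θ : IrrCharacter ↥T)
    (hθ : ¬ p ∣ charDegree (θ : ↥T → ℂ)) :
    ∃ χ : IrrCharacter H, ¬ p ∣ charDegree (χ : H → ℂ) ∧
      ∀ [Fintype ↥T], classInner (fun t : ↥T => (χ : H → ℂ) t) (θ : ↥T → ℂ) ≠ 0 := by
  classical
  letI : Fintype H := Fintype.ofFinite H
  letI : Fintype ↥T := Fintype.ofFinite _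
  have hζ := isCharacter_indFun T (θ : ↥T → ℂ) (isCharacter_of_isIrrCharacter θ.2)
  have hζ1 : indFun T (θ : ↥T → ℂ) 1 = ((T.index * charDegree (θ : ↥T → ℂ) : ℕ) : ℂ) := by
    rw [indFun_apply_one, Cfsg.Agent.Lib.helper3.Block.apply_one_eq_charDegree θ]
    push_cast
    rfl
  have hnd : ¬ p ∣ T.index * charDegree (θ : ↥T → ℂ) := by
    intro h
    rcases (Nat.Prime.dvd_mul hp.out).1 h with h | h
    · exact hidx h
    · exact hθ h
  obtain ⟨χ, hχ1, hχ2⟩ := Cfsg.Agent.Lib.helper3.PKer.exists_constituent_pdeg p hζ _ hζ1 hnd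
  refine ⟨χ, hχ2, ?_⟩
  intro inst
  have hfr := frobenius_reciprocity T (θ : ↥T → ℂ) (χ : H → ℂ)
    (isClassFunction_of_isCharacter (isCharacter_of_isIrrCharacter χ.2))
  rw [hfr] at hχ1
  have hsymm := classInner_conj_symm (θ : ↥T → ℂ) (fun t : ↥T => (χ : H → ℂ) t)
  intro h0
  apply hχ1
  have h3 : classInner (fun t : ↥T => (χ : H → ℂ) t) (θ : ↥T → ℂ) = 0 := by
    convert h0 using 2
  rw [← hsymm] at h3
  exact (map_eq_zero _).1 h3

/-- **Lemma C**: `T ≤ H` of index prime to `p`, `K₀ ⊴ H` inside `T`, and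
`#O^p(T) ≢ #O^p(T/K₀) (mod p)`: some irreducible character of `H` of degree prime to `p` does not
contain `K₀` in its kernel. -/
theorem exists_pprime_not_ker {H : Type u} [Group H] [Finite H] (p : ℕ) [hp : Fact p.Prime]
    (T K₀ : Subgroup H) [hK₀ : K₀.Normal] (hidx : ¬ p ∣ T.index)
    (hne : ¬ ((Nat.card (pResidual p ↥T) : ℤ) ≡
      (Nat.card (pResidual p (↥T ⧸ K₀.subgroupOf T)) : ℤ) [ZMOD p])) :
    ∃ χ : IrrCharacter H, ¬ p ∣ charDegree (χ : H → ℂ) ∧
      ∃ k ∈ K₀, (χ : H → ℂ) k ≠ (χ : H → ℂ) 1 := by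
  classical
  letI : Fintype ↥T := Fintype.ofFinite _
  obtain ⟨θ, hθ, k, hk, hθk⟩ := exists_irr_not_ker p (K₀.subgroupOf T) hne
  obtain ⟨χ, hχ, hov⟩ := exists_irr_over p T hidx θ hθ
  refine ⟨χ, hχ, (k : H), Subgroup.mem_subgroupOf.1 hk, ?_⟩
  intro hχk
  apply hθk
  exact Cfsg.Agent.Lib.Helper4.GNSM.apply_eq_one_of_constituent
    (A := fun t : ↥T => (χ : H → ℂ) t)
    (isCharacter_restrict (isCharacter_of_isIrrCharacter χ.2) T) θ.2 hov k hχk

end Cfsg.Agent.H2.PQ
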