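import Mathlib
import Cfsg.Agent.H2.PQ1
import Cfsg.Agent.H1.Cores

/-!
# Normal subgroups in the kernel of all characters of `p'`-degree

`O_{p'}(H) = 1`, `K ⊴ H` contained in the kernel of every irreducible character of degree prime to
`p`: then `O_{p'}(H/K) = 1`, in the form: a normal subgroup `U ≥ K` with `p ∤ |U : K|` equals `K`.
-/

set_option autoImplicit false
set_option linter.style.haveILetI false

namespace Cfsg.Agent.H2.PQ

open Cfsg

universe u

variable {H : Type u} [Group H] [Finite H] (p : ℕ) [hp : Fact p.Prime]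

omit [Finite H] in
/-- the subgroup generated by a conjugation-invariant set is normal -/
theorem closure_normal_of_conj_invariant (s : Set H)
    (hs : ∀ g ∈ s, ∀ h : H, h * g * h⁻¹ ∈ s) : (Subgroup.closure s).Normal := by
  have h1 : Group.conjugatesOfSet s = s := by
    apply Set.Subset.antisymm
    · intro x hx
      obtain ⟨b, hb, hconj⟩ := Group.mem_conjugatesOfSet_iff.1 hx
      obtain ⟨c, hc⟩ := isConj_iff.1 hconj
      rw [← hc]
      exact hs b hb c
    · exact Group.subset_conjugatesOfSet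
  have h2 : Subgroup.closure s = Subgroup.normalClosure s := by
    unfold Subgroup.normalClosure
    rw [h1]
  rw [h2]
  exact Subgroup.normalClosure_normal

omit [Finite H] in
/-- an element whose powers by two coprime numbers lie in a normal subgroup lies in it -/
theorem mem_of_pow_mem_of_coprime {X : Type*} [Group X] (N : Subgroup X) [N.Normal] (x : X)
    {a b : ℕ} (hab : a.Coprime b) (ha : x ^ a ∈ N) (hb : x ^ b ∈ N) : x ∈ N := by
  have h1 : ((x : X ⧸ N)) ^ a = 1 := by
    rw [← QuotientGroup.mk_pow]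
    exact (QuotientGroup.eq_one_iff _).2 ha
  have h2 : ((x : X ⧸ N)) ^ b = 1 := by
    rw [← QuotientGroup.mk_pow]
    exact (QuotientGroup.eq_one_iff _).2 hb
  have h3 : orderOf (x : X ⧸ N) ∣ a := orderOf_dvd_of_pow_eq_one h1
  have h4 : orderOf (x : X ⧸ N) ∣ b := orderOf_dvd_of_pow_eq_one h2
  have h5 : orderOf (x : X ⧸ N) = 1 := Nat.eq_one_of_dvd_coprimes hab h3 h4
  exact (QuotientGroup.eq_one_iff x).1 (orderOf_eq_one_iff.1 h5)

/-- if `O_{p'}(H) = 1` and the normal subgroup `U` has no nontrivial elements of order prime to `p`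
inside `O^p(T)` of order prime to `p`... : `p ∤ #O^p(T)`, `U ≤ T`, `U ⊴ H` force `U` to be a
`p`-group. -/
theorem isPGroup_of_not_dvd_card_pResidual (hO : pPrimeCore p H = ⊥) (U T : Subgroup H)
    [hU : U.Normal] (hUT : U ≤ T) (hnd : ¬ p ∣ Nat.card (pResidual p ↥T)) : IsPGroup p ↥U := by
  classical
  set s : Set H := {g : H | g ∈ U ∧ (orderOf g).Coprime p} with hs
  have hsconj : ∀ g ∈ s, ∀ h : H, h * g * h⁻¹ ∈ s := by
    rintro g ⟨hgU, hgo⟩ h
    refine ⟨hU.conj_mem g hgU h, ?_⟩
    have : h * g * h⁻¹ = MulAut.conj h g := by rw [MulAut.conj_apply]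
    rw [this, MulEquiv.orderOf_eq]
    exact hgo
  have hRn : (Subgroup.closure s).Normal := closure_normal_of_conj_invariant s hsconj
  have hRle : Subgroup.closure s ≤ (pResidual p ↥T).map T.subtype := by
    rw [Subgroup.closure_le]
    rintro g ⟨hgU, hgo⟩
    refine ⟨⟨g, hUT hgU⟩, ?_, rfl⟩
    apply Subgroup.subset_closure
    show (orderOf (⟨g, hUT hgU⟩ : ↥T)).Coprime p
    rw [Subgroup.orderOf_mk]
    exact hgo
  have hRcard : ¬ p ∣ Nat.card ↥(Subgroup.closure s) := by
    intro h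
    apply hnd
    have h1 := Subgroup.card_dvd_of_le hRle
    rw [Subgroup.card_map_of_injective T.subtype_injective] at h1
    exact h.trans h1
  have hRbot : Subgroup.closure s = ⊥ := by
    have := Cfsg.Agent.H1.le_pPrimeCore hRn ((Nat.Prime.coprime_iff_not_dvd hp.out).2 hRcard).symm
    rwa [hO, le_bot_iff] at this
  intro u
  have hne : orderOf (u : H) ≠ 0 := (orderOf_pos (u : H)).ne'
  obtain ⟨e, m, hm, hem⟩ := Nat.exists_eq_pow_mul_and_not_dvd hne p hp.out.ne_one
  refine ⟨e, ?_⟩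
  have hpe : p ^ e ∣ orderOf (u : H) := ⟨m, hem⟩
  have hord : orderOf ((u : H) ^ p ^ e) = m := by
    rw [orderOf_pow_of_dvd (pow_ne_zero e hp.out.ne_zero) hpe, hem,
      Nat.mul_div_cancel_left _ (pow_pos hp.out.pos e)]
  have hmem : (u : H) ^ p ^ e ∈ Subgroup.closure s := by
    apply Subgroup.subset_closure
    refine ⟨U.pow_mem u.2 _, ?_⟩
    rw [hord]
    exact ((Nat.Prime.coprime_iff_not_dvd hp.out).2 hm).symm
  rw [hRbot, Subgroup.mem_bot] at hmem
  apply Subtype.ext
  rw [Subgroup.coe_pow, hmem, Subgroup.coe_one]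

/-- **Lemma D**: `O_{p'}(H) = 1`, `K ⊴ H` in the kernel of every character of `p'`-degree, `U ⊴ H`
with `K ≤ U` and `p ∤ |U : K|`: then `U ≤ K`. -/
theorem le_of_not_dvd_relIndex (hO : pPrimeCore p H = ⊥) (K : Subgroup H) [hK : K.Normal]
    (hker : ∀ χ : IrrCharacter H, ¬ p ∣ charDegree (χ : H → ℂ) →
      ∀ k ∈ K, (χ : H → ℂ) k = (χ : H → ℂ) 1)
    (U : Subgroup H) [hU : U.Normal] (hKU : K ≤ U) (hidx : ¬ p ∣ K.relIndex U) : U ≤ K := by
  classical
  by_contra hUK
  obtain ⟨P⟩ : Nonempty (Sylow p H) := inferInstance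
  set T : Subgroup H := U ⊔ (P : Subgroup H) with hT
  have hUT : U ≤ T := le_sup_left
  have hPT : (P : Subgroup H) ≤ T := le_sup_right
  have hTidx : ¬ p ∣ T.index := fun h =>
    P.not_dvd_index (h.trans (Subgroup.index_dvd_of_le hPT))
  -- (i) `p ∣ #O^p(T)`
  have h1 : p ∣ Nat.card (pResidual p ↥T) := by
    by_contra hnd
    have hUp := isPGroup_of_not_dvd_card_pResidual p hO U T hUT hnd
    obtain ⟨n, hn⟩ := IsPGroup.iff_card.1 hUp
    have h2 : K.relIndex U ∣ p ^ n := hn ▸ Subgroup.relIndex_dvd_card K U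
    obtain ⟨j, _, hj⟩ := (Nat.dvd_prime_pow hp.out).1 h2
    have hj0 : j = 0 := by
      by_contra hj0
      apply hidx
      rw [hj]
      exact dvd_pow_self p hj0
    rw [hj0, pow_zero] at hj
    exact hUK (Subgroup.relIndex_eq_one.1 hj)
  -- (ii) `p ∤ #O^p(T/K)`
  have hUrel : ∃ j : ℕ, (U.subgroupOf T).index = p ^ j := by
    have h2 : U.relIndex T = U.relIndex (P : Subgroup H) := by
      rw [hT]
      exact Subgroup.relIndex_sup_left (P : Subgroup H) U
    obtain ⟨n, hn⟩ := IsPGroup.iff_card.1 P.isPGroup'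
    have h3 : U.relIndex T ∣ p ^ n := by
      rw [h2, ← hn]
      exact Subgroup.relIndex_dvd_card U (P : Subgroup H)
    obtain ⟨j, _, hj⟩ := (Nat.dvd_prime_pow hp.out).1 h3
    exact ⟨j, hj⟩
  obtain ⟨j, hj⟩ := hUrel
  have hK'U' : K.subgroupOf T ≤ U.subgroupOf T := by
    intro t ht
    exact hKU ht
  have h2 : ¬ p ∣ Nat.card (pResidual p (↥T ⧸ K.subgroupOf T)) := by
    -- the image of `U`
    have hA : pResidual p (↥T ⧸ K.subgroupOf T) ≤
        (U.subgroupOf T).map (QuotientGroup.mk' (K.subgroupOf T)) := by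
      unfold pResidual
      rw [Subgroup.closure_le]
      intro x hx
      obtain ⟨t, rfl⟩ := QuotientGroup.mk'_surjective (K.subgroupOf T) x
      have hx' : (orderOf (QuotientGroup.mk' (K.subgroupOf T) t)).Coprime p := hx
      refine ⟨t, ?_, rfl⟩
      apply mem_of_pow_mem_of_coprime (U.subgroupOf T) t
        (Nat.Coprime.pow_right j hx')
      · apply hK'U'
        rw [← QuotientGroup.eq_one_iff, ← QuotientGroup.mk'_apply, map_pow]
        exact pow_orderOf_eq_one _
      · rw [← hj]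
        exact Subgroup.pow_index_mem _ t
    have hB : ¬ p ∣ Nat.card ↥((U.subgroupOf T).map (QuotientGroup.mk' (K.subgroupOf T))) := by
      intro hdvd
      obtain ⟨x, hx⟩ := exists_prime_orderOf_dvd_card' (G :=
        ↥((U.subgroupOf T).map (QuotientGroup.mk' (K.subgroupOf T)))) p hdvd
      have hx' : orderOf ((x : ↥T ⧸ K.subgroupOf T)) = p := by
        rw [Subgroup.orderOf_coe]
        exact hx
      obtain ⟨u, hu, hux⟩ := Subgroup.mem_map.1 x.2
      rw [← hux] at hx'
      -- `u ^ |U : K| ∈ K`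
      have hu' : (u : H) ∈ U := hu
      have h3 : (⟨(u : H), hu'⟩ : ↥U) ^ (K.subgroupOf U).index ∈ K.subgroupOf U :=
        Subgroup.pow_index_mem _ _
      have h4 : (u : H) ^ K.relIndex U ∈ K := by
        have := Subgroup.mem_subgroupOf.1 h3
        rwa [Subgroup.coe_pow] at this
      have h5 : (QuotientGroup.mk' (K.subgroupOf T) u) ^ K.relIndex U = 1 := by
        rw [← map_pow, QuotientGroup.mk'_apply, QuotientGroup.eq_one_iff,
          Subgroup.mem_subgroupOf, Subgroup.coe_pow]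
        exact h4
      have h6 := orderOf_dvd_of_pow_eq_one h5
      rw [hx'] at h6
      exact hidx h6
    intro hdvd
    exact hB (hdvd.trans (Subgroup.card_dvd_of_le hA))
  -- conclusion
  have hne : ¬ ((Nat.card (pResidual p ↥T) : ℤ) ≡
      (Nat.card (pResidual p (↥T ⧸ K.subgroupOf T)) : ℤ) [ZMOD p]) := by
    intro hab
    apply h2
    have h3 : (p : ℤ) ∣ (Nat.card (pResidual p (↥T ⧸ K.subgroupOf T)) : ℤ) -
        (Nat.card (pResidual p ↥T) : ℤ) := hab.dvd
    have h4 : (p : ℤ) ∣ (Nat.card (pResidual p ↥T) : ℤ) := Int.natCast_dvd_natCast.2 h1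
    have h5 := dvd_add h3 h4
    rw [sub_add_cancel] at h5
    exact Int.natCast_dvd_natCast.1 h5
  obtain ⟨χ, hχ, k, hk, hχk⟩ := exists_pprime_not_ker p T K hTidx hne
  exact hχk (hker χ hχ k hk)

end Cfsg.Agent.H2.PQ
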