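import Mathlib
import Cfsg.Prelude.Def_Blocks
import Cfsg.Prelude.Def_Local
import Cfsg.Agent.S0915
import Cfsg.Agent.S4713
import Cfsg.Agent.Lib.helper3.PrincSection
import Cfsg.Agent.Lib.helper3.QuotBlock
import Cfsg.Agent.Lib.helper3.Inflate2
import Cfsg.Agent.Lib.helper3.PrincOnly
import Cfsg.Agent.Lib.Lead.PSolvable
import Cfsg.Agent.H2.PPrimeCore
import Cfsg.Agent.H1.Cores
import Cfsg.Agent.Lib.Helper4.Codegree

/-!
# Heights in the principal block of a `p`-solvable group

The principal block of a `p`-solvable group `G` is the set of inflations of the irreducible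
characters of `G ⧸ O_{p'}(G)`.
-/

set_option autoImplicit false

namespace Cfsg.Agent.H2.PrincHeight

open Cfsg Cfsg.Agent.Lib.helper3.Irr Cfsg.Agent.Lib.helper3.Block Cfsg.Agent.Lib.helper3.LocalM
open Cfsg.Agent.Lib.helper3.CharBasic

variable {G : Type*} [Group G] [Finite G]

/-- The inflation of an irreducible character of a quotient which has a single block lies in the
principal block. -/
theorem inflate_mem_principalBlock {M : Ideal AlgInt} (N : Subgroup G) [N.Normal]
    (ψ : IrrCharacter (G ⧸ N))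
    (hone : SameBlock M (fun _ : G ⧸ N => (1 : ℂ)) (ψ : G ⧸ N → ℂ)) :
    (⟨inflate N ψ, isIrrCharacter_inflate N ψ.2⟩ : IrrCharacter G) ∈ principalBlock M G := by
  show SameBlock M (fun _ : G => (1 : ℂ)) (inflate N (ψ : G ⧸ N → ℂ))
  intro g
  have h1 : (fun _ : G => (1 : ℂ))
      = (fun _ : G ⧸ N => (1 : ℂ)) ∘ (QuotientGroup.mk : G → G ⧸ N) := rfl
  have h2 : inflate N (ψ : G ⧸ N → ℂ)
      = (ψ : G ⧸ N → ℂ) ∘ (QuotientGroup.mk : G → G ⧸ N) := rfl
  rw [h1, h2, centralChar_comp_mk, centralChar_comp_mk, ← mul_sub]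
  exact memLocalIdeal_mul_integral (hone (g : G ⧸ N)) (isIntegral_natCast _)

/-- A character of the principal block is inflated from `G ⧸ N` for any normal `p'`-subgroup. -/
theorem exists_eq_inflate_of_mem_principalBlock {p : ℕ} {M : Ideal AlgInt} (hM : IsPModular p M)
    (N : Subgroup G) [N.Normal] (hNp : (Nat.card N).Coprime p) (χ : IrrCharacter G)
    (hχ : χ ∈ principalBlock M G) :
    ∃ ψ : IrrCharacter (G ⧸ N), (χ : G → ℂ) = inflate N (ψ : G ⧸ N → ℂ) := by
  let _ : Fintype G := Fintype.ofFinite G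
  have hker := apply_eq_of_mem_normal_coprime hM N hNp χ hχ
  obtain ⟨ψ, hψ, h⟩ := exists_eq_inflate χ.2 N (fun g n hn =>
    apply_mul_of_apply_eq_one (isCharacter_of_isIrrCharacter χ.2) (hker n hn) g)
  exact ⟨⟨ψ, hψ⟩, h⟩

/-- In the principal block, height zero means degree prime to `p`. -/
theorem blockHeight_principal_eq_zero_iff {p : ℕ} [hp : Fact p.Prime] {M : Ideal AlgInt}
    (hM : IsPModular p M) (χ : IrrCharacter G) :
    blockHeight p (principalBlock M G) (χ : G → ℂ) = 0 ↔ ¬ p ∣ charDegree (χ : G → ℂ) := by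
  have hMtop : M ≠ ⊤ := hM.2.1.ne_top
  have h0 : sInf ((fun ψ : IrrCharacter G => (charDegree (ψ : G → ℂ)).factorization p) ''
      principalBlock M G) = 0 := by
    rw [Nat.sInf_eq_zero]
    left
    refine ⟨Cfsg.Agent.Lib.helper3.PrincOnly.one G, sameBlock_refl hMtop _, ?_⟩
    have h1 : charDegree ((Cfsg.Agent.Lib.helper3.PrincOnly.one G : IrrCharacter G) : G → ℂ)
        = 1 := by
      apply Cfsg.Agent.Lib.Helper4.Codegree.charDegree_eq
      show (1 : ℂ) = ((1 : ℕ) : ℂ)
      norm_num
    show (charDegree ((Cfsg.Agent.Lib.helper3.PrincOnly.one G : IrrCharacter G) : G → ℂ)).factorization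
      p = 0
    rw [h1]
    simp
  unfold blockHeight
  rw [h0, Nat.sub_zero, Nat.factorization_eq_zero_iff]
  have hpos := Cfsg.Agent.Lib.Helper4.Codegree.charDegree_pos χ.2
  constructor
  · rintro (h | h | h)
    · exact absurd hp.out h
    · exact h
    · omega
  · intro h
    exact Or.inr (Or.inl h)

omit [Finite G] in
/-- The image of a Sylow `p`-subgroup in `G ⧸ O_{p'}(G)` is isomorphic to it: it is abelian
only if the Sylow subgroup is. -/
theorem isMulCommutative_of_map {p : ℕ} [hp : Fact p.Prime] (P : Sylow p G)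
    (N : Subgroup G) [N.Normal] (hNp : (Nat.card N).Coprime p)
    (h : IsMulCommutative ((P : Subgroup G).map (QuotientGroup.mk' N))) :
    IsMulCommutative P := by
  have hdisj : ∀ x : G, x ∈ (P : Subgroup G) → x ∈ N → x = 1 := by
    intro x hxP hxN
    obtain ⟨k, hk⟩ := (IsPGroup.iff_orderOf.1 P.2) ⟨x, hxP⟩
    have h1 : orderOf x = p ^ k := by
      rw [← hk]
      exact (Subgroup.orderOf_mk x hxP).symm
    have h2 : orderOf x ∣ Nat.card N := by
      have := orderOf_dvd_natCard (⟨x, hxN⟩ : N)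
      rwa [Subgroup.orderOf_mk] at this
    have h3 : (p ^ k).Coprime (Nat.card N) := (Nat.Coprime.pow_left k hNp.symm)
    rw [← h1] at h3
    have := Nat.Coprime.eq_one_of_dvd h3 h2
    exact orderOf_eq_one_iff.1 this
  refine ⟨⟨fun a b => ?_⟩⟩
  have ha : (QuotientGroup.mk' N) (a : G) ∈ (P : Subgroup G).map (QuotientGroup.mk' N) :=
    Subgroup.mem_map_of_mem _ a.2
  have hb : (QuotientGroup.mk' N) (b : G) ∈ (P : Subgroup G).map (QuotientGroup.mk' N) :=
    Subgroup.mem_map_of_mem _ b.2
  have hcomm := h.is_comm.comm ⟨_, ha⟩ ⟨_, hb⟩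
  have hcomm' : (QuotientGroup.mk' N) ((a : G) * (b : G)) = (QuotientGroup.mk' N) ((b : G) * a) := by
    rw [map_mul, map_mul]
    exact congrArg Subtype.val hcomm
  have hmem : ((a : G) * b)⁻¹ * ((b : G) * a) ∈ N := QuotientGroup.eq.1 hcomm'
  have hmemP : ((a : G) * b)⁻¹ * ((b : G) * a) ∈ (P : Subgroup G) :=
    mul_mem (inv_mem (mul_mem a.2 b.2)) (mul_mem b.2 a.2)
  have := hdisj _ hmemP hmem
  apply Subtype.ext
  show (a : G) * b = b * a
  exact inv_mul_eq_one.1 this

/-- In a `p`-solvable group with `O_{p'}(G) = 1`, an abelian Sylow `p`-subgroup is normal. -/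
theorem normal_of_isMulCommutative {p : ℕ} [hp : Fact p.Prime] (hsolv : IsPSolvable p G)
    (hcore : pPrimeCore p G = ⊥) (P : Sylow p G) (h : IsMulCommutative P) :
    (P : Subgroup G).Normal := by
  have h1 : pCore p G ≤ P := Cfsg.Agent.H1.pCore_le_sylow P
  have h2 := Cfsg.Agent.Lib.Lead.PSolvable.centralizer_pCore_le hsolv hcore
  have h3 : (P : Subgroup G) ≤ Subgroup.centralizer ((pCore p G : Subgroup G) : Set G) := by
    intro x hx
    rw [Subgroup.mem_centralizer_iff]
    intro y hy
    have := h.is_comm.comm ⟨y, h1 hy⟩ ⟨x, hx⟩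
    exact congrArg Subtype.val this
  have h4 : (P : Subgroup G) = pCore p G := le_antisymm (h3.trans h2) h1
  rw [h4]
  exact Cfsg.Agent.H1.pCore_normal p

/-- **Principal block heights in `p`-solvable groups**: the Sylow `p`-subgroups are abelian if and
only if all characters of the principal block have degree prime to `p`. -/
theorem isMulCommutative_iff_degrees {p : ℕ} [hp : Fact p.Prime] {M : Ideal AlgInt}
    (hM : IsPModular p M) (hsolv : IsPSolvable p G) (P : Sylow p G) :
    IsMulCommutative P ↔ ∀ χ ∈ principalBlock M G, ¬ p ∣ charDegree (χ : G → ℂ) := by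
  have hNn : (pPrimeCore p G).Normal := Cfsg.Agent.H1.pPrimeCore_normal p
  have hNp : (Nat.card (pPrimeCore p G)).Coprime p := Cfsg.Agent.H1.pPrimeCore_coprime p
  have hsolvbar : IsPSolvable p (G ⧸ pPrimeCore p G) :=
    Cfsg.Agent.Lib.Lead.PSolvable.IsPSolvable.quotient _ hsolv
  have hcorebar := Cfsg.Agent.H2.pPrimeCore_quotient_eq_bot (G := G) p
  have hsurj : Function.Surjective (QuotientGroup.mk' (pPrimeCore p G)) :=
    QuotientGroup.mk'_surjective _
  have hdeg : ∀ ψ : IrrCharacter (G ⧸ pPrimeCore p G),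
      charDegree (inflate (pPrimeCore p G) (ψ : G ⧸ pPrimeCore p G → ℂ))
        = charDegree (ψ : G ⧸ pPrimeCore p G → ℂ) := by
    intro ψ
    unfold charDegree
    rw [inflate_apply, QuotientGroup.mk_one]
  have key := Cfsg.Agent.S4713.result p hsolvbar (P.mapSurjective hsurj)
  constructor
  · intro hab χ hχ
    obtain ⟨ψ, hψ⟩ := exists_eq_inflate_of_mem_principalBlock hM (pPrimeCore p G) hNp χ hχ
    rw [hψ, hdeg]
    have hab' : IsMulCommutative (P.mapSurjective hsurj) := by
      show IsMulCommutative ((P : Subgroup G).map (QuotientGroup.mk' (pPrimeCore p G)))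
      infer_instance
    exact key.1 ⟨normal_of_isMulCommutative hsolvbar hcorebar _ hab', hab'⟩ ψ
  · intro hall
    have h1 : ∀ ψ : IrrCharacter (G ⧸ pPrimeCore p G),
        ¬ p ∣ charDegree (ψ : G ⧸ pPrimeCore p G → ℂ) := by
      intro ψ
      have hmem := inflate_mem_principalBlock (M := M) (pPrimeCore p G) ψ
        (Cfsg.Agent.S0915.result p M hM hsolvbar hcorebar
          (Cfsg.Agent.Lib.helper3.PrincOnly.one _) ψ)
      have := hall _ hmem
      rwa [hdeg] at this
    exact isMulCommutative_of_map P (pPrimeCore p G) hNp (key.2 h1).2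

end Cfsg.Agent.H2.PrincHeight
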