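import Mathlib
import Cfsg.Agent.H2.PQ2
import Cfsg.Agent.H2.PrincHeight
import Cfsg.Agent.Lib.helper3.PKer2

/-!
# Principal blocks for two primes in `p`- and `q`-solvable groups (S4885)
-/

set_option autoImplicit false
set_option linter.style.haveILetI false

namespace Cfsg.Agent.H2.PQ

open Cfsg Cfsg.Agent.Lib.helper3.Irr Cfsg.Agent.Lib.helper3.Block Cfsg.Agent.Lib.helper3.LocalM
open Cfsg.Agent.Lib.helper3.CharBasic
open scoped commutatorElement

universe u

variable {G : Type u} [Group G] [Finite G]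

/-- the principal block of a `p`-solvable group: the characters with `O_{p'}(G)` in the kernel -/
theorem mem_principalBlock_iff (p : ℕ) [hp : Fact p.Prime] {M : Ideal AlgInt}
    (hM : IsPModular p M) (hsolv : IsPSolvable p G) (χ : IrrCharacter G) :
    χ ∈ principalBlock M G ↔ ∀ y ∈ pPrimeCore p G, (χ : G → ℂ) y = (χ : G → ℂ) 1 := by
  classical
  letI : Fintype G := Fintype.ofFinite G
  haveI hNn : (pPrimeCore p G).Normal := Cfsg.Agent.H1.pPrimeCore_normal p
  have hNp : (Nat.card (pPrimeCore p G)).Coprime p := Cfsg.Agent.H1.pPrimeCore_coprime p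
  constructor
  · intro hχ y hy
    exact apply_eq_of_mem_normal_coprime hM (pPrimeCore p G) hNp χ hχ y hy
  · intro hker
    have hsolvbar : IsPSolvable p (G ⧸ pPrimeCore p G) :=
      Cfsg.Agent.Lib.Lead.PSolvable.IsPSolvable.quotient _ hsolv
    have hcorebar := Cfsg.Agent.H2.pPrimeCore_quotient_eq_bot (G := G) p
    obtain ⟨ψ, hψ, h⟩ := exists_eq_inflate χ.2 (pPrimeCore p G) (fun g n hn =>
      apply_mul_of_apply_eq_one (isCharacter_of_isIrrCharacter χ.2) (hker n hn) g)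
    have hmem := Cfsg.Agent.H2.PrincHeight.inflate_mem_principalBlock (M := M) (pPrimeCore p G)
      ⟨ψ, hψ⟩ (Cfsg.Agent.S0915.result p M hM hsolvbar hcorebar
        (Cfsg.Agent.Lib.helper3.PrincOnly.one _) ⟨ψ, hψ⟩)
    have heq : χ = (⟨inflate (pPrimeCore p G) ψ, isIrrCharacter_inflate (pPrimeCore p G) hψ⟩ :
        IrrCharacter G) := Subtype.ext h
    rw [heq]
    exact hmem

/-- transfer of Lemma D to `G` and a normal subgroup `N ≥ O_{p'}(G)` -/
theorem le_of_normal_of_not_dvd (p : ℕ) [hp : Fact p.Prime] (N : Subgroup G) [hN : N.Normal]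
    (hYN : pPrimeCore p G ≤ N)
    (hker : ∀ χ : IrrCharacter G, (∀ y ∈ pPrimeCore p G, (χ : G → ℂ) y = (χ : G → ℂ) 1) →
      ¬ p ∣ charDegree (χ : G → ℂ) → ∀ n ∈ N, (χ : G → ℂ) n = (χ : G → ℂ) 1)
    (U : Subgroup G) [hU : U.Normal] (hNU : N ≤ U) (hidx : ¬ p ∣ N.relIndex U) : U ≤ N := by
  classical
  haveI hYn : (pPrimeCore p G).Normal := Cfsg.Agent.H1.pPrimeCore_normal p
  have hsurj : Function.Surjective (QuotientGroup.mk' (pPrimeCore p G)) :=
    QuotientGroup.mk'_surjective _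
  have hO := Cfsg.Agent.H2.pPrimeCore_quotient_eq_bot (G := G) p
  haveI hKn : (N.map (QuotientGroup.mk' (pPrimeCore p G))).Normal := hN.map _ hsurj
  haveI hUn : (U.map (QuotientGroup.mk' (pPrimeCore p G))).Normal := hU.map _ hsurj
  have hkerle : (QuotientGroup.mk' (pPrimeCore p G)).ker ≤ N := by
    rw [QuotientGroup.ker_mk']
    exact hYN
  have hcomap : (N.map (QuotientGroup.mk' (pPrimeCore p G))).comap
      (QuotientGroup.mk' (pPrimeCore p G)) = N := Subgroup.comap_map_eq_self hkerle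
  have hkerH : ∀ χ : IrrCharacter (G ⧸ pPrimeCore p G),
      ¬ p ∣ charDegree (χ : G ⧸ pPrimeCore p G → ℂ) →
      ∀ k ∈ N.map (QuotientGroup.mk' (pPrimeCore p G)),
        (χ : G ⧸ pPrimeCore p G → ℂ) k = (χ : G ⧸ pPrimeCore p G → ℂ) 1 := by
    rintro χ hχ _ ⟨n, hn, rfl⟩
    have h1 := hker ⟨inflate (pPrimeCore p G) (χ : G ⧸ pPrimeCore p G → ℂ),
      isIrrCharacter_inflate (pPrimeCore p G) χ.2⟩
      (fun y hy => inflate_apply_of_mem (pPrimeCore p G) _ hy)
      (by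
        show ¬ p ∣ charDegree (inflate (pPrimeCore p G) (χ : G ⧸ pPrimeCore p G → ℂ))
        rw [charDegree_inflate]
        exact hχ) n hn
    have h2 : inflate (pPrimeCore p G) (χ : G ⧸ pPrimeCore p G → ℂ) n =
        inflate (pPrimeCore p G) (χ : G ⧸ pPrimeCore p G → ℂ) 1 := h1
    rw [inflate_apply, inflate_apply, QuotientGroup.mk_one] at h2
    exact h2
  have hrel : (N.map (QuotientGroup.mk' (pPrimeCore p G))).relIndex
      (U.map (QuotientGroup.mk' (pPrimeCore p G))) = N.relIndex U := by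
    rw [← Subgroup.relIndex_comap, hcomap]
  have hle := le_of_not_dvd_relIndex p hO (N.map (QuotientGroup.mk' (pPrimeCore p G))) hkerH
    (U.map (QuotientGroup.mk' (pPrimeCore p G))) (Subgroup.map_mono hNU) (by rw [hrel]; exact hidx)
  calc U ≤ (U.map (QuotientGroup.mk' (pPrimeCore p G))).comap
        (QuotientGroup.mk' (pPrimeCore p G)) := Subgroup.le_comap_map _ _
    _ ≤ (N.map (QuotientGroup.mk' (pPrimeCore p G))).comap
        (QuotientGroup.mk' (pPrimeCore p G)) := Subgroup.comap_mono hle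
    _ = N := hcomap

/-- `O_{p'}(G/N) = 1` from the conclusion of Lemma D -/
theorem pPrimeCore_quot_eq_bot (p : ℕ) (N : Subgroup G) [hN : N.Normal]
    (hstep : ∀ (U : Subgroup G) [U.Normal], N ≤ U → ¬ p ∣ N.relIndex U → U ≤ N)
    (hp1 : p ≠ 1) :
    pPrimeCore p (G ⧸ N) = ⊥ := by
  classical
  haveI hOn : (pPrimeCore p (G ⧸ N)).Normal := Cfsg.Agent.H1.pPrimeCore_normal p
  have hsurj : Function.Surjective (QuotientGroup.mk' N) := QuotientGroup.mk'_surjective _
  haveI hUn : ((pPrimeCore p (G ⧸ N)).comap (QuotientGroup.mk' N)).Normal := hOn.comap _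
  have hNU : N ≤ (pPrimeCore p (G ⧸ N)).comap (QuotientGroup.mk' N) := by
    intro n hn
    rw [Subgroup.mem_comap]
    have : QuotientGroup.mk' N n = 1 := (QuotientGroup.eq_one_iff n).2 hn
    rw [this]
    exact one_mem _
  have hmap : ((pPrimeCore p (G ⧸ N)).comap (QuotientGroup.mk' N)).map (QuotientGroup.mk' N) =
      pPrimeCore p (G ⧸ N) := Subgroup.map_comap_eq_self_of_surjective hsurj _
  have hrel : N.relIndex ((pPrimeCore p (G ⧸ N)).comap (QuotientGroup.mk' N)) =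
      Nat.card ↥(pPrimeCore p (G ⧸ N)) := by
    have h1 := Subgroup.relIndex_comap (⊥ : Subgroup (G ⧸ N)) (QuotientGroup.mk' N)
      ((pPrimeCore p (G ⧸ N)).comap (QuotientGroup.mk' N))
    rw [hmap, Subgroup.relIndex_bot_left, MonoidHom.comap_bot, QuotientGroup.ker_mk'] at h1
    exact h1
  have hcop : (Nat.card ↥(pPrimeCore p (G ⧸ N))).Coprime p :=
    Cfsg.Agent.H1.pPrimeCore_coprime p
  have hnd : ¬ p ∣ N.relIndex ((pPrimeCore p (G ⧸ N)).comap (QuotientGroup.mk' N)) := by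
    rw [hrel]
    intro h
    exact hp1 (Nat.Coprime.eq_one_of_dvd hcop.symm h)
  have hle := hstep _ hNU hnd
  rw [eq_bot_iff, ← hmap]
  calc ((pPrimeCore p (G ⧸ N)).comap (QuotientGroup.mk' N)).map (QuotientGroup.mk' N)
      ≤ N.map (QuotientGroup.mk' N) := Subgroup.map_mono hle
    _ = ⊥ := QuotientGroup.map_mk'_self N

/-- **S4885**: for `G` both `p`- and `q`-solvable with `p, q ∣ #G`, if the `p'`-degree characters of
the principal `p`-block are exactly the `q'`-degree characters of the principal `q`-block then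
`p = q`. -/
theorem main (p q : ℕ) [hp : Fact p.Prime] [hq : Fact q.Prime] (hpG : p ∣ Nat.card G)
    (_hqG : q ∣ Nat.card G) (hps : IsPSolvable p G) (hqs : IsPSolvable q G) (Mp Mq : Ideal AlgInt)
    (hMp : IsPModular p Mp) (hMq : IsPModular q Mq)
    (h : ∀ χ : IrrCharacter G, (χ ∈ principalBlock Mp G ∧ ¬ p ∣ charDegree (χ : G → ℂ)) ↔
      (χ ∈ principalBlock Mq G ∧ ¬ q ∣ charDegree (χ : G → ℂ))) : p = q := by
  classical
  by_contra hne
  haveI hYn : (pPrimeCore p G).Normal := Cfsg.Agent.H1.pPrimeCore_normal p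
  haveI hZn : (pPrimeCore q G).Normal := Cfsg.Agent.H1.pPrimeCore_normal q
  set N : Subgroup G := pPrimeCore p G ⊔ pPrimeCore q G with hNdef
  haveI hNn : N.Normal := Subgroup.sup_normal _ _
  -- the common kernel
  have key : ∀ χ : IrrCharacter G, (∀ y ∈ pPrimeCore p G, (χ : G → ℂ) y = (χ : G → ℂ) 1) →
      (∀ z ∈ pPrimeCore q G, (χ : G → ℂ) z = (χ : G → ℂ) 1) →
      ∀ n ∈ N, (χ : G → ℂ) n = (χ : G → ℂ) 1 := by
    intro χ hy hz n hn
    obtain ⟨y, hyY, z, hzZ, rfl⟩ := Subgroup.mem_sup_of_normal_right.1 hn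
    rw [apply_mul_of_apply_eq_one (isCharacter_of_isIrrCharacter χ.2) (hz z hzZ) y]
    exact hy y hyY
  have keyp : ∀ χ : IrrCharacter G, (∀ y ∈ pPrimeCore p G, (χ : G → ℂ) y = (χ : G → ℂ) 1) →
      ¬ p ∣ charDegree (χ : G → ℂ) → ∀ n ∈ N, (χ : G → ℂ) n = (χ : G → ℂ) 1 := by
    intro χ hy hdeg
    have h1 := (h χ).1 ⟨(mem_principalBlock_iff p hMp hps χ).2 hy, hdeg⟩
    exact key χ hy ((mem_principalBlock_iff q hMq hqs χ).1 h1.1)
  have keyq : ∀ χ : IrrCharacter G, (∀ z ∈ pPrimeCore q G, (χ : G → ℂ) z = (χ : G → ℂ) 1) →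
      ¬ q ∣ charDegree (χ : G → ℂ) → ∀ n ∈ N, (χ : G → ℂ) n = (χ : G → ℂ) 1 := by
    intro χ hz hdeg
    have h1 := (h χ).2 ⟨(mem_principalBlock_iff q hMq hqs χ).2 hz, hdeg⟩
    exact key χ ((mem_principalBlock_iff p hMp hps χ).1 h1.1) hz
  have stepP : ∀ (U : Subgroup G) [U.Normal], N ≤ U → ¬ p ∣ N.relIndex U → U ≤ N :=
    fun U _ hNU hidx => le_of_normal_of_not_dvd p N le_sup_left keyp U hNU hidx
  have stepQ : ∀ (U : Subgroup G) [U.Normal], N ≤ U → ¬ q ∣ N.relIndex U → U ≤ N :=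
    fun U _ hNU hidx => le_of_normal_of_not_dvd q N le_sup_right keyq U hNU hidx
  have hOp : pPrimeCore p (G ⧸ N) = ⊥ := pPrimeCore_quot_eq_bot p N stepP hp.out.ne_one
  have hOq : pPrimeCore q (G ⧸ N) = ⊥ := pPrimeCore_quot_eq_bot q N stepQ hq.out.ne_one
  -- `G = N`
  have hNtop : N = ⊤ := by
    by_contra hNtop
    have hidx : N.index ≠ 1 := fun h1 => hNtop (Subgroup.index_eq_one.1 h1)
    haveI : Nontrivial (G ⧸ N) := by
      rw [← Finite.one_lt_card_iff_nontrivial]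
      have hpos : 0 < N.index := Nat.pos_of_ne_zero Subgroup.index_ne_zero_of_finite
      have : Nat.card (G ⧸ N) = N.index := rfl
      omega
    have hpsbar : IsPSolvable p (G ⧸ N) :=
      Cfsg.Agent.Lib.Lead.PSolvable.IsPSolvable.quotient N hps
    have h1 := Cfsg.Agent.Lib.Lead.PSolvable.pCore_ne_bot hpsbar hOp
    apply h1
    have hcop : (Nat.card ↥(pCore p (G ⧸ N))).Coprime q := by
      obtain ⟨k, hk⟩ := IsPGroup.iff_card.1 (Cfsg.Agent.H1.pCore_isPGroup (G := G ⧸ N) p)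
      rw [hk]
      exact Nat.Coprime.pow_left k ((Nat.coprime_primes hp.out hq.out).2 hne)
    have h2 := Cfsg.Agent.H1.le_pPrimeCore (Cfsg.Agent.H1.pCore_normal (G := G ⧸ N) p) hcop
    rwa [hOq, le_bot_iff] at h2
  -- the quotient `G / O_{p'}(G)`
  have hcardY : ¬ p ∣ Nat.card ↥(pPrimeCore p G) :=
    (Nat.Prime.coprime_iff_not_dvd hp.out).1 (Cfsg.Agent.H1.pPrimeCore_coprime p).symm
  have hpH : p ∣ Nat.card (G ⧸ pPrimeCore p G) := by
    have h1 := Subgroup.card_eq_card_quotient_mul_card_subgroup (pPrimeCore p G)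
    rw [h1] at hpG
    rcases (Nat.Prime.dvd_mul hp.out).1 hpG with h2 | h2
    · exact h2
    · exact absurd h2 hcardY
  obtain ⟨P⟩ : Nonempty (Sylow p (G ⧸ pPrimeCore p G)) := inferInstance
  have hPne := P.ne_bot_of_dvd_card hpH
  have hkerP : ∀ g : G ⧸ pPrimeCore p G, g ∈ Cfsg.Agent.Lib.helper3.PKer.kerP p (G ⧸ pPrimeCore p G) := by
    intro g χ hχ
    obtain ⟨x, rfl⟩ := QuotientGroup.mk'_surjective (pPrimeCore p G) g
    have h1 := keyp ⟨inflate (pPrimeCore p G) (χ : G ⧸ pPrimeCore p G → ℂ),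
      isIrrCharacter_inflate (pPrimeCore p G) χ.2⟩
      (fun y hy => inflate_apply_of_mem (pPrimeCore p G) _ hy)
      (by
        show ¬ p ∣ charDegree (inflate (pPrimeCore p G) (χ : G ⧸ pPrimeCore p G → ℂ))
        rw [charDegree_inflate]
        exact hχ) x (hNtop ▸ Subgroup.mem_top x)
    have h2 : inflate (pPrimeCore p G) (χ : G ⧸ pPrimeCore p G → ℂ) x =
        inflate (pPrimeCore p G) (χ : G ⧸ pPrimeCore p G → ℂ) 1 := h1
    rw [inflate_apply, inflate_apply, QuotientGroup.mk_one] at h2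
    exact h2
  have hcomm : commutator ↥(P : Subgroup (G ⧸ pPrimeCore p G)) = ⊤ := by
    rw [eq_top_iff]
    intro x _
    have h1 := Cfsg.Agent.Lib.helper3.PKer.mem_commutator_of_mem_kerP p P (x : G ⧸ pPrimeCore p G)
      x.2 (hkerP _)
    rw [← Subgroup.map_subtype_commutator] at h1
    obtain ⟨y, hy, hyx⟩ := h1
    have : y = x := Subtype.ext hyx
    rw [← this]
    exact hy
  haveI : Nontrivial ↥(P : Subgroup (G ⧸ pPrimeCore p G)) :=
    (Subgroup.nontrivial_iff_ne_bot _).2 hPne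
  haveI : Group.IsNilpotent ↥(P : Subgroup (G ⧸ pPrimeCore p G)) := P.isPGroup'.isNilpotent
  have hlt := Group.IsSolvable.commutator_lt_top_of_nontrivial ↥(P : Subgroup (G ⧸ pPrimeCore p G))
  rw [hcomm] at hlt
  exact lt_irrefl _ hlt

end Cfsg.Agent.H2.PQ
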