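import Mathlib
import Cfsg.Agent.H2.ClassProdA
import Cfsg.Agent.Lib.Helper6.PSingDefs

/-!
# S4321 piece (A): basics
-/

set_option autoImplicit false
set_option linter.unusedVariables false
set_option linter.unusedSectionVars false
set_option linter.style.haveILetI false

namespace Cfsg.Agent.Lib.Helper6.PSing

open Cfsg.Agent.H2.ClassProd

variable {G : Type*} [Group G] [Finite G]

variable {p : ℕ} [Fact p.Prime]

theorem PEl.dvd_orderOf {a : G} (ha : PEl p a) : p ∣ orderOf a := by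
  obtain ⟨h1, k, hk⟩ := ha
  rcases Nat.eq_zero_or_pos k with h0 | h0
  · exfalso
    rw [h0, pow_zero, orderOf_eq_one_iff] at hk
    exact h1 hk
  · rw [hk]
    exact dvd_pow_self p h0.ne'

theorem PEl.conj {a : G} (ha : PEl p a) (g : G) : PEl p (g * a * g⁻¹) := by
  obtain ⟨h1, k, hk⟩ := ha
  refine ⟨?_, k, ?_⟩
  · intro h
    apply h1
    have : a = g⁻¹ * (g * a * g⁻¹) * g := by group
    rw [this, h]; group
  · have : orderOf (g * a * g⁻¹) = orderOf a := by
      have := (MulAut.conj g).orderOf_eq a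
      simpa [MulAut.conj_apply] using this
    rw [this, hk]

theorem PEl.cs_ne_one (hZ : ¬ p ∣ Nat.card ↥(Subgroup.center G)) {a : G} (ha : PEl p a) :
    cs a ≠ 1 := by
  intro h
  have hc : a ∈ Subgroup.center G := (cs_eq_one_iff a).1 h
  apply hZ
  have h1 : p ∣ orderOf a := ha.dvd_orderOf
  have h2 : orderOf (⟨a, hc⟩ : ↥(Subgroup.center G)) = orderOf a := Subgroup.orderOf_mk a hc
  have h3 : orderOf (⟨a, hc⟩ : ↥(Subgroup.center G)) ∣ Nat.card ↥(Subgroup.center G) :=
    orderOf_dvd_natCard _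
  rw [h2] at h3
  exact h1.trans h3

theorem PEl.mul {a b : G} (ha : PEl p a) (hb : PEl p b) (hab : a * b = b * a) (hne : a * b ≠ 1) :
    PEl p (a * b) := by
  have hpp : p.Prime := Fact.out
  obtain ⟨-, k, hk⟩ := ha
  obtain ⟨-, l, hl⟩ := hb
  refine ⟨hne, ?_⟩
  have h1 : (a * b) ^ (p ^ (k + l)) = 1 := by
    rw [(show Commute a b from hab).mul_pow]
    have e1 : a ^ (p ^ (k + l)) = 1 := by
      rw [pow_add, pow_mul, ← hk, pow_orderOf_eq_one, one_pow]
    have e2 : b ^ (p ^ (k + l)) = 1 := by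
      rw [pow_add, mul_comm, pow_mul, ← hl, pow_orderOf_eq_one, one_pow]
    rw [e1, e2, one_mul]
  have h2 : orderOf (a * b) ∣ p ^ (k + l) := orderOf_dvd_of_pow_eq_one h1
  obtain ⟨j, -, hj⟩ := (Nat.dvd_prime_pow hpp).1 h2
  exact ⟨j, hj⟩

theorem NK.symm {a b : G} (h : NK p a b) : NK p b a := by
  intro w hw
  exact (h w hw).symm

theorem NK.conj_right {a b : G} (h : NK p a b) (g : G) : NK p a (g * b * g⁻¹) := by
  intro w hw
  rw [cs_conj]
  exact h w hw

/-- a `p`-element has a conjugate in `C_G(a)` when `p ∤ |a^G|` -/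
theorem exists_conj_commute (a b : G) (hb : PEl p b) (hpa : ¬ p ∣ cs a) :
    ∃ g : G, a * (g * b * g⁻¹) = (g * b * g⁻¹) * a := by
  classical
  set C : Subgroup G := Subgroup.centralizer ({a} : Set G) with hC
  have hP : IsPGroup p ↥(Subgroup.zpowers b) := by
    obtain ⟨-, k, hk⟩ := hb
    apply IsPGroup.of_card (n := k)
    rw [Nat.card_zpowers, hk]
  have hcard : ¬ p ∣ Nat.card (G ⧸ C) := by
    rw [← Subgroup.index_eq_card]
    exact hpa
  obtain ⟨x, hx⟩ := hP.nonempty_fixed_point_of_prime_not_dvd_card (G ⧸ C) hcard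
  induction x using QuotientGroup.induction_on with
  | H g =>
    have h1 := hx ⟨b, Subgroup.mem_zpowers b⟩
    have h2 : ((b * g : G) : G ⧸ C) = (g : G ⧸ C) := h1
    rw [QuotientGroup.eq] at h2
    have h3 : ((b * g)⁻¹ * g)⁻¹ ∈ C := C.inv_mem h2
    have e : ((b * g)⁻¹ * g)⁻¹ = g⁻¹ * b * g⁻¹⁻¹ := by group
    rw [e, hC, Subgroup.mem_centralizer_iff] at h3
    refine ⟨g⁻¹, ?_⟩
    exact h3 a (Set.mem_singleton a)

/-- the `p`-part of a `p`-singular element -/
theorem exists_ppart (x : G) (hx : p ∣ orderOf x) : ∃ a : G, PEl p a ∧ cs a ∣ cs x := by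
  have hpp : p.Prime := Fact.out
  have hpos : orderOf x ≠ 0 := (orderOf_pos x).ne'
  obtain ⟨e, m, hm, hem⟩ := Nat.exists_eq_pow_mul_and_not_dvd hpos p hpp.ne_one
  have he : e ≠ 0 := by
    intro h0
    rw [h0, pow_zero, one_mul] at hem
    rw [hem] at hx
    exact hm hx
  have hm0 : m ≠ 0 := by
    intro h0
    rw [h0, mul_zero] at hem
    exact hpos hem
  have hord : orderOf (x ^ m) = p ^ e := by
    rw [orderOf_pow_of_dvd hm0 (Dvd.intro_left _ hem.symm), hem]
    exact Nat.mul_div_cancel _ (Nat.pos_of_ne_zero hm0)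
  refine ⟨x ^ m, ⟨?_, e, hord⟩, ?_⟩
  · intro h1
    rw [h1, orderOf_one] at hord
    have : 1 < p ^ e := Nat.one_lt_pow he hpp.one_lt
    omega
  · apply Subgroup.index_dvd_of_le
    intro g hg
    rw [Subgroup.mem_centralizer_iff] at hg ⊢
    intro y hy
    rw [Set.mem_singleton_iff] at hy
    rw [hy]
    have := hg x (Set.mem_singleton x)
    exact ((show Commute x g from this).pow_left m).eq

end Cfsg.Agent.Lib.Helper6.PSing
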