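import Mathlib
import Cfsg.Agent.H1.PSolvableHall
import Cfsg.Agent.Lib.Lead.HallSystem
import Cfsg.Agent.Lib.Lead.PSolvable

/-!
# Orbits of `p`-soluble groups on modules in characteristic `p` (helper2)

If `a` is fixed by a Sylow `p`-subgroup and its orbit spans `V`, the fixed vectors are multiples
of the orbit sum of `a`; vectors with orbit size coprime to that of `a` are fixed.
-/

set_option linter.unusedSectionVars false

namespace Cfsg.Agent.H2.PSolvOrbit

variable {k : Type*} [Field k] {H : Type*} [Group H] {V : Type*} [AddCommGroup V] [Module k V]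

/-- stabilizer of a vector -/
def stab (ρ : Representation k H V) (a : V) : Subgroup H where
  carrier := {h | ρ h a = a}
  one_mem' := by simp
  mul_mem' := by
    intro x y hx hy
    simp only [Set.mem_ofPred_eq] at *
    rw [map_mul, Module.End.mul_apply, hy, hx]
  inv_mem' := by
    intro x hx
    simp only [Set.mem_ofPred_eq] at *
    conv_lhs => rw [← hx]
    rw [← Module.End.mul_apply, ← map_mul, inv_mul_cancel, map_one, Module.End.one_apply]

theorem mem_stab (ρ : Representation k H V) (a : V) (h : H) : h ∈ stab ρ a ↔ ρ h a = a := Iff.rfl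

theorem card_orbit [Finite H] (ρ : Representation k H V) (a : V) :
    Nat.card {u : V | ∃ h : H, ρ h a = u} = (stab ρ a).index := by
  let _ : MulAction H V := MulAction.compHom V (ρ : H →* Module.End k V)
  have h1 : MulAction.stabilizer H a = stab ρ a := by
    ext h
    rfl
  have h2 : MulAction.orbit H a = {u : V | ∃ h : H, ρ h a = u} := by
    ext u
    rfl
  rw [← h1, MulAction.index_stabilizer, h2]
  exact Nat.card_coe_set_eq _

/-- the sum over the group is a multiple of the sum over the orbit -/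
theorem sum_eq_card_stab_smul [Fintype H] (ρ : Representation k H V) (a : V) :
    ∑ h : H, ρ h a = Nat.card (stab ρ a) • ∑ᶠ u ∈ Set.range (fun h : H => ρ h a), u := by
  classical
  have hrange : Set.range (fun h : H => ρ h a) =
      ((Finset.univ.image (fun h : H => ρ h a) : Finset V) : Set V) := by
    rw [Finset.coe_image, Finset.coe_univ, Set.image_univ]
  rw [hrange, finsum_mem_coe_finset]
  have h1 := Finset.sum_fiberwise_of_maps_to (s := (Finset.univ : Finset H))
    (t := Finset.univ.image (fun h : H => ρ h a)) (g := fun h : H => ρ h a)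
    (fun x _ => Finset.mem_image_of_mem _ (Finset.mem_univ x)) (fun h : H => ρ h a)
  rw [← h1, Finset.smul_sum]
  apply Finset.sum_congr rfl
  intro y hy
  obtain ⟨h₀, -, rfl⟩ := Finset.mem_image.mp hy
  have h2 : ∀ x ∈ Finset.univ.filter (fun h : H => ρ h a = ρ h₀ a), ρ x a = ρ h₀ a :=
    fun x hx => (Finset.mem_filter.mp hx).2
  rw [Finset.sum_congr rfl h2, Finset.sum_const]
  congr 1
  rw [Nat.card_eq_fintype_card, ← Finset.card_univ (α := ↥(stab ρ a))]
  symm
  apply Finset.card_bij (fun (s : ↥(stab ρ a)) _ => h₀ * (s : H))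
  · intro s _
    rw [Finset.mem_filter]
    refine ⟨Finset.mem_univ _, ?_⟩
    rw [map_mul, Module.End.mul_apply, (mem_stab ρ a s).mp s.2]
  · intro s _ s' _ hss'
    exact Subtype.ext (mul_left_cancel hss')
  · intro x hx
    rw [Finset.mem_filter] at hx
    refine ⟨⟨h₀⁻¹ * x, ?_⟩, Finset.mem_univ _, ?_⟩
    · rw [mem_stab, map_mul, Module.End.mul_apply, hx.2, ← Module.End.mul_apply, ← map_mul,
        inv_mul_cancel, map_one, Module.End.one_apply]
    · show h₀ * (h₀⁻¹ * x) = x
      group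

/-- the orbit sum is fixed by the group -/
theorem finsum_range_fixed [Finite H] (ρ : Representation k H V) (a : V) (h : H) :
    ρ h (∑ᶠ u ∈ Set.range (fun g : H => ρ g a), u) =
      ∑ᶠ u ∈ Set.range (fun g : H => ρ g a), u := by
  have hfin : (Set.range (fun g : H => ρ g a)).Finite := Set.finite_range _
  have h1 := AddMonoidHom.map_finsum_mem (fun u : V => u) (ρ h : V →ₗ[k] V).toAddMonoidHom hfin
  have h2 : (ρ h) '' Set.range (fun g : H => ρ g a) = Set.range (fun g : H => ρ g a) := by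
    ext u
    constructor
    · rintro ⟨_, ⟨g, rfl⟩, rfl⟩
      exact ⟨h * g, by simp [map_mul]⟩
    · rintro ⟨g, rfl⟩
      refine ⟨ρ (h⁻¹ * g) a, ⟨h⁻¹ * g, rfl⟩, ?_⟩
      show ρ h (ρ (h⁻¹ * g) a) = ρ g a
      rw [← Module.End.mul_apply, ← map_mul, mul_inv_cancel_left]
  have hinj : Set.InjOn (ρ h) (Set.range (fun g : H => ρ g a)) := by
    intro x _ y _ hxy
    have := congrArg (ρ h⁻¹) hxy
    rwa [← Module.End.mul_apply, ← Module.End.mul_apply, ← map_mul, inv_mul_cancel, map_one,
      Module.End.one_apply, Module.End.one_apply] at this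
  have h3 := finsum_mem_image (f := fun u : V => u) hinj
  rw [h2] at h3
  exact h1.trans h3.symm

theorem natCast_ne_zero_of_coprime (p : ℕ) [Fact p.Prime] [CharP k p] {m : ℕ} (hm : m.Coprime p) :
    (m : k) ≠ 0 := by
  intro h0
  rw [CharP.cast_eq_zero_iff k p] at h0
  have := Nat.Coprime.eq_one_of_dvd hm.symm h0
  exact (Fact.out : p.Prime).one_lt.ne' this

/-- vectors fixed by a `p'`-subgroup transitive on the orbit of `a` are multiples of the orbit
sum -/
theorem fixed_eq_smul_osum [Finite H] (p : ℕ) [Fact p.Prime] [CharP k p]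
    (ρ : Representation k H V) (a : V) (Q : Subgroup H) (hQ : (Nat.card Q).Coprime p)
    (htrans : ∀ h : H, ∃ q ∈ Q, ρ h a = ρ q a)
    (hspan : Submodule.span k {u : V | ∃ h : H, ρ h a = u} = ⊤)
    (v : V) (hv : ∀ q ∈ Q, ρ q v = v) :
    ∃ c : k, v = c • ∑ᶠ u ∈ Set.range (fun h : H => ρ h a), u := by
  classical
  have : Fintype Q := Fintype.ofFinite Q
  have key : ∀ w : V, ∃ c : k, ∑ q : Q, ρ q w = c • ∑ q : Q, ρ q a := by
    intro w
    have hw : w ∈ Submodule.span k {u : V | ∃ h : H, ρ h a = u} := by rw [hspan]; trivial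
    induction hw using Submodule.span_induction with
    | mem x hx =>
      obtain ⟨h, rfl⟩ := hx
      obtain ⟨q₀, hq₀, hq₀'⟩ := htrans h
      refine ⟨1, ?_⟩
      rw [one_smul, hq₀']
      have : ∀ q : Q, ρ q (ρ q₀ a) = ρ ((Equiv.mulRight (⟨q₀, hq₀⟩ : Q) q : Q) : H) a := by
        intro q
        rw [← Module.End.mul_apply, ← map_mul]
        rfl
      rw [Finset.sum_congr rfl (fun q _ => this q)]
      exact Equiv.sum_comp (Equiv.mulRight (⟨q₀, hq₀⟩ : Q)) (fun q : Q => ρ (q : H) a)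
    | zero =>
      refine ⟨0, ?_⟩
      simp
    | add x y _ _ hx hy =>
      obtain ⟨c₁, h₁⟩ := hx
      obtain ⟨c₂, h₂⟩ := hy
      refine ⟨c₁ + c₂, ?_⟩
      simp only [map_add, Finset.sum_add_distrib, h₁, h₂, add_smul]
    | smul r x _ hx =>
      obtain ⟨c, h₁⟩ := hx
      refine ⟨r * c, ?_⟩
      simp only [map_smul, ← Finset.smul_sum, h₁, mul_smul]
  obtain ⟨c, hc⟩ := key v
  have h1 : ∑ q : Q, ρ q v = (Nat.card Q : k) • v := by
    rw [Finset.sum_congr rfl (fun (q : Q) _ => hv q q.2), Finset.sum_const, Finset.card_univ,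
      Nat.card_eq_fintype_card, Nat.cast_smul_eq_nsmul]
  have h2 := sum_eq_card_stab_smul (ρ.comp Q.subtype) a
  have h3 : Set.range (fun q : Q => (ρ.comp Q.subtype) q a) = Set.range (fun h : H => ρ h a) := by
    ext u
    constructor
    · rintro ⟨q, rfl⟩
      exact ⟨q, rfl⟩
    · rintro ⟨h, rfl⟩
      obtain ⟨q₀, hq₀, hq₀'⟩ := htrans h
      exact ⟨⟨q₀, hq₀⟩, hq₀'.symm⟩
  rw [h3] at h2
  have h4 : ∑ q : Q, ρ q a = ∑ q : Q, (ρ.comp Q.subtype) q a := rfl
  rw [h1, h4, h2] at hc
  have hne := natCast_ne_zero_of_coprime (k := k) p hQ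
  refine ⟨(Nat.card Q : k)⁻¹ * c * (Nat.card (stab (ρ.comp Q.subtype) a) : k), ?_⟩
  have h5 := congrArg (fun x => (Nat.card Q : k)⁻¹ • x) hc
  simp only [smul_smul, inv_mul_cancel₀ hne, one_smul] at h5
  rw [h5, ← Nat.cast_smul_eq_nsmul k, smul_smul]

section Main

open Cfsg

universe u

theorem main {k V : Type*} {H : Type u} [Field k] (p : ℕ) [Fact p.Prime] [CharP k p]
    [AddCommGroup V] [Module k V] [Group H] [Finite H] (hsol : Cfsg.IsPSolvable p H)
    (ρ : Representation k H V) (a : V)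
    (hfix : ∃ P : Sylow p H, ∀ x : H, x ∈ (P : Subgroup H) → ρ x a = a)
    (hspan : Submodule.span k {u : V | ∃ h : H, ρ h a = u} = ⊤) :
    (∀ v : V, (∀ h : H, ρ h v = v) → ∃ c : k, v = c • ∑ᶠ u ∈ Set.range (fun h : H => ρ h a), u) ∧
    ∀ b : V, (Nat.card {u : V | ∃ h : H, ρ h a = u}).Coprime
      (Nat.card {u : V | ∃ h : H, ρ h b = u}) → ∀ h : H, ρ h b = b := by
  have hp : p.Prime := Fact.out
  obtain ⟨P, hP⟩ := hfix
  -- the stabilizer of `a` has index prime to `p`
  have hPS : (P : Subgroup H) ≤ stab ρ a := fun x hx => hP x hx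
  have hSidx : (stab ρ a).index.Coprime p := by
    rw [Nat.coprime_comm, Nat.Prime.coprime_iff_not_dvd hp]
    intro hdvd
    exact P.not_dvd_index (hdvd.trans (Subgroup.index_dvd_of_le hPS))
  -- general principle
  have gen : ∀ (L : Subgroup H), (∀ h : H, ∃ l ∈ L, ρ h a = ρ l a) →
      ∀ v : V, (∀ l ∈ L, ρ l v = v) →
        ∃ c : k, v = c • ∑ᶠ u ∈ Set.range (fun h : H => ρ h a), u := by
    intro L hLtrans v hv
    have hLsol : Cfsg.IsPSolvable p ↥L :=
      Cfsg.Agent.Lib.Lead.PSolvable.IsPSolvable.subgroup L hsol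
    obtain ⟨⟨Q, hQ, n, hQn⟩, -⟩ := Cfsg.Agent.H1.pcomp_aux p (Nat.card ↥L) ↥L rfl hLsol
    have hrange : Set.range (fun l : ↥L => (ρ.comp L.subtype) l a) =
        Set.range (fun h : H => ρ h a) := by
      ext u
      constructor
      · rintro ⟨l, rfl⟩
        exact ⟨l, rfl⟩
      · rintro ⟨h, rfl⟩
        obtain ⟨l, hl, hl'⟩ := hLtrans h
        exact ⟨⟨l, hl⟩, hl'.symm⟩
    have hset : {u : V | ∃ l : ↥L, (ρ.comp L.subtype) l a = u} = {u : V | ∃ h : H, ρ h a = u} :=
      hrange
    have hSL : (stab (ρ.comp L.subtype) a).index = (stab ρ a).index := by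
      rw [← card_orbit, ← card_orbit, hset]
    have hcop : Nat.Coprime Q.index (stab (ρ.comp L.subtype) a).index := by
      rw [hQn, hSL]
      exact (Nat.Coprime.pow_right n hSidx).symm
    have htrans : ∀ l : ↥L, ∃ q ∈ Q, (ρ.comp L.subtype) l a = (ρ.comp L.subtype) q a := by
      intro l
      obtain ⟨q, hq, s, hs, rfl⟩ :=
        Cfsg.Agent.Lib.Lead.HallSystem.exists_mul_of_coprime Q _ hcop l
      refine ⟨q, hq, ?_⟩
      rw [map_mul, Module.End.mul_apply, (mem_stab _ a s).mp hs]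
    have hspanL : Submodule.span k {u : V | ∃ l : ↥L, (ρ.comp L.subtype) l a = u} = ⊤ := by
      rw [hset, hspan]
    obtain ⟨c, hc⟩ := fixed_eq_smul_osum p (ρ.comp L.subtype) a Q hQ htrans hspanL v
      (fun q _ => hv q q.2)
    rw [hrange] at hc
    exact ⟨c, hc⟩
  constructor
  · intro v hv
    exact gen ⊤ (fun h => ⟨h, Subgroup.mem_top h, rfl⟩) v (fun l _ => hv l)
  · intro b hcop h
    rw [card_orbit, card_orbit] at hcop
    have hLtrans : ∀ h : H, ∃ l ∈ stab ρ b, ρ h a = ρ l a := by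
      intro h
      obtain ⟨l, hl, s, hs, rfl⟩ :=
        Cfsg.Agent.Lib.Lead.HallSystem.exists_mul_of_coprime (stab ρ b) (stab ρ a) hcop.symm h
      refine ⟨l, hl, ?_⟩
      rw [map_mul, Module.End.mul_apply, (mem_stab _ a s).mp hs]
    obtain ⟨c, hc⟩ := gen (stab ρ b) hLtrans b (fun l hl => hl)
    rw [hc, map_smul, finsum_range_fixed]

end Main

end Cfsg.Agent.H2.PSolvOrbit
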