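import Mathlib

/-!
# The number of conjugacy classes of π-elements is at most the π-part of the group order

(author: helper2)
-/

set_option autoImplicit false

namespace Cfsg.Agent.H2.PiCl

universe u

/-- `g` is an `s`-element: every prime dividing its order lies in `s` -/
def PiElt {G : Type*} [Group G] (s : Finset ℕ) (g : G) : Prop :=
  ∀ q : ℕ, q.Prime → q ∣ orderOf g → q ∈ s

/-- a conjugacy class of `s`-elements -/
def PiClass {G : Type*} [Group G] (s : Finset ℕ) (C : ConjClasses G) : Prop :=
  ∀ g : G, ConjClasses.mk g = C → PiElt s g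

/-- the `s`-part of a natural number -/
def piPart (s : Finset ℕ) (n : ℕ) : ℕ := ∏ q ∈ s, q ^ (n.factorization q)

theorem piPart_insert (s : Finset ℕ) (p : ℕ) (hp : p ∉ s) (n : ℕ) :
    piPart (insert p s) n = p ^ (n.factorization p) * piPart s n := by
  unfold piPart
  rw [Finset.prod_insert hp]

theorem piPart_le_of_dvd (s : Finset ℕ) (hs : ∀ q ∈ s, q.Prime) {d n : ℕ} (hd : d ≠ 0)
    (hn : n ≠ 0) (h : d ∣ n) : piPart s d ≤ piPart s n := by
  unfold piPart
  apply Finset.prod_le_prod
  · intro q _; exact Nat.zero_le _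
  · intro q hq
    apply Nat.pow_le_pow_right (hs q hq).pos
    exact (Nat.factorization_le_iff_dvd hd hn).mpr h q

theorem piPart_dvd (s : Finset ℕ) (n : ℕ) (hn : n ≠ 0) (hs : s ⊆ n.primeFactors) :
    piPart s n ∣ n := by
  conv_rhs => rw [← Nat.factorization_prod_pow_eq_self hn]
  unfold piPart
  rw [Nat.prod_factorization_eq_prod_primeFactors]
  exact Finset.prod_dvd_prod_of_subset _ _ _ hs

section decomp

variable {G : Type u} [Group G] [Finite G]

/-- decomposition of an element into its `p`-part and `p'`-part -/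
theorem exists_decomp (p : ℕ) (hp : p.Prime) (g : G) :
    ∃ (a : ℕ) (y z : G), g = y * z ∧ Commute y z ∧ y ^ (p ^ a) = 1 ∧ ¬ p ∣ orderOf z ∧
      orderOf z ∣ orderOf g := by
  have hn0 : orderOf g ≠ 0 := (orderOf_pos g).ne'
  obtain ⟨a, m, hpm, hn⟩ := Nat.exists_eq_pow_mul_and_not_dvd hn0 p hp.ne_one
  have hcop : (p ^ a).Coprime m := (Nat.Prime.coprime_iff_not_dvd hp).mpr hpm |>.pow_left a
  obtain ⟨k, hk1, hk0⟩ := Nat.chineseRemainder hcop 1 0
  obtain ⟨k', hk'0, hk'1⟩ := Nat.chineseRemainder hcop 0 1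
  have hmk : m ∣ k := (Nat.modEq_zero_iff_dvd).mp hk0
  have hpk' : p ^ a ∣ k' := (Nat.modEq_zero_iff_dvd).mp hk'0
  refine ⟨a, g ^ k, g ^ k', ?_, (Commute.refl g).pow_pow k k', ?_, ?_, ?_⟩
  · rw [← pow_add]
    have h1 : k + k' ≡ 1 [MOD orderOf g] := by
      rw [hn]
      apply (Nat.modEq_and_modEq_iff_modEq_mul hcop).mp
      constructor
      · have := hk1.add hk'0
        simpa using this
      · have := hk0.add hk'1
        simpa using this
    have := (pow_eq_pow_iff_modEq (x := g)).mpr h1
    rw [this, pow_one]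
  · obtain ⟨j, rfl⟩ := hmk
    rw [← pow_mul, show m * j * p ^ a = (p ^ a * m) * j by ring, ← hn, pow_mul,
      pow_orderOf_eq_one, one_pow]
  · have h1 : (g ^ k') ^ m = 1 := by
      obtain ⟨j, rfl⟩ := hpk'
      rw [← pow_mul, show p ^ a * j * m = (p ^ a * m) * j by ring, ← hn, pow_mul,
        pow_orderOf_eq_one, one_pow]
    intro h
    exact hpm (dvd_trans h (orderOf_dvd_of_pow_eq_one h1))
  · exact orderOf_pow_dvd k'

end decomp

section main

open scoped Classical in
/-- the key injection: equality in the sigma type gives conjugacy in the big group -/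
theorem inj_aux {G : Type u} [Group G] (P : Subgroup G) (s : Finset ℕ)
    (u u' : P) (v : Subgroup.centralizer ({(u : G)} : Set G))
    (v' : Subgroup.centralizer ({(u' : G)} : Set G))
    (hD : PiClass s (ConjClasses.mk v)) (hD' : PiClass s (ConjClasses.mk v'))
    (h : (⟨u, ⟨ConjClasses.mk v, hD⟩⟩ :
      Σ w : P, {C : ConjClasses (Subgroup.centralizer ({(w : G)} : Set G)) // PiClass s C}) =
      ⟨u', ⟨ConjClasses.mk v', hD'⟩⟩) :
    ConjClasses.mk ((u : G) * (v : G)) = ConjClasses.mk ((u' : G) * (v' : G)) := by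
  obtain ⟨h1, h2⟩ := Sigma.mk.inj_iff.mp h
  subst h1
  have h3 := eq_of_heq h2
  have h4 : ConjClasses.mk v = ConjClasses.mk v' := congrArg Subtype.val h3
  rw [ConjClasses.mk_eq_mk_iff_isConj, isConj_iff] at h4
  obtain ⟨c, hc⟩ := h4
  rw [ConjClasses.mk_eq_mk_iff_isConj, isConj_iff]
  refine ⟨(c : G), ?_⟩
  have hcu : (c : G) * (u : G) = (u : G) * (c : G) := by
    have := c.2
    rw [Subgroup.mem_centralizer_singleton_iff] at this
    exact this
  have hc' : (c : G) * (v : G) * (c : G)⁻¹ = (v' : G) := by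
    have := congrArg Subtype.val hc
    simpa using this
  calc (c : G) * ((u : G) * (v : G)) * (c : G)⁻¹
      = ((c : G) * (u : G)) * (v : G) * (c : G)⁻¹ := by group
    _ = ((u : G) * (c : G)) * (v : G) * (c : G)⁻¹ := by rw [hcu]
    _ = (u : G) * ((c : G) * (v : G) * (c : G)⁻¹) := by group
    _ = _ := by rw [hc']

theorem piElt_conj {G : Type*} [Group G] (s : Finset ℕ) (g x : G) (h : PiElt s g) :
    PiElt s (x * g * x⁻¹) := by
  intro q hq hqd
  apply h q hq
  have : orderOf (x * g * x⁻¹) = orderOf g := by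
    have := (MulAut.conj x).orderOf_eq g
    simpa using this
  rw [← this]; exact hqd

theorem piClass_mk {G : Type*} [Group G] (s : Finset ℕ) (g : G) (h : PiElt s g) :
    PiClass s (ConjClasses.mk g) := by
  intro g' hg'
  rw [ConjClasses.mk_eq_mk_iff_isConj, isConj_iff] at hg'
  obtain ⟨c, hc⟩ := hg'
  have h1 : g' = c⁻¹ * g * c⁻¹⁻¹ := by rw [← hc]; group
  rw [h1]
  exact piElt_conj s g c⁻¹ h

/-- **Main theorem**: the number of classes of `s`-elements is at most the `s`-part of `|G|`. -/
theorem card_piClass_le (s : Finset ℕ) (hs : ∀ q ∈ s, q.Prime) :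
    ∀ (G : Type u) [Group G] [Finite G],
      Nat.card {C : ConjClasses G // PiClass s C} ≤ piPart s (Nat.card G) := by
  classical
  induction s using Finset.induction_on with
  | empty =>
    intro G _ _
    have : Subsingleton {C : ConjClasses G // PiClass (∅ : Finset ℕ) C} := by
      constructor
      rintro ⟨C, hC⟩ ⟨C', hC'⟩
      apply Subtype.ext
      obtain ⟨g, rfl⟩ := ConjClasses.exists_rep C
      obtain ⟨g', rfl⟩ := ConjClasses.exists_rep C'
      have h1 : ∀ x : G, PiElt (∅ : Finset ℕ) x → x = 1 := by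
        intro x hx
        rw [← orderOf_eq_one_iff]
        by_contra hne
        obtain ⟨q, hq, hqd⟩ := Nat.exists_prime_and_dvd hne
        exact absurd (hx q hq hqd) (Finset.notMem_empty q)
      change ConjClasses.mk g = ConjClasses.mk g'
      rw [h1 g (hC g rfl), h1 g' (hC' g' rfl)]
    have h2 := Finite.card_le_one_iff_subsingleton.mpr this
    unfold piPart
    rw [Finset.prod_empty]
    exact h2
  | insert p s₀ hp ih =>
    intro G _ _
    have hpp : p.Prime := hs p (Finset.mem_insert_self p s₀)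
    haveI : Fact p.Prime := ⟨hpp⟩
    have ih' := ih (fun q hq => hs q (Finset.mem_insert_of_mem hq))
    obtain ⟨P⟩ : Nonempty (Sylow p G) := inferInstance
    -- choice of representatives
    have hex : ∀ C : {C : ConjClasses G // PiClass (insert p s₀) C},
        ∃ (u : (P : Subgroup G)) (v : Subgroup.centralizer ({(u : G)} : Set G)),
          ConjClasses.mk ((u : G) * (v : G)) = C.1 ∧ PiElt s₀ v := by
      rintro ⟨C, hC⟩
      obtain ⟨g₀, rfl⟩ := ConjClasses.exists_rep C
      obtain ⟨a, y, z, hg, hyz, hy, hz, hzd⟩ := exists_decomp p hpp g₀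
      -- conjugate `y` into `P`
      have hyP : IsPGroup p (Subgroup.zpowers y) := by
        obtain ⟨j, -, hj⟩ := (Nat.dvd_prime_pow hpp).mp (orderOf_dvd_of_pow_eq_one hy)
        exact IsPGroup.of_card (n := j) (by rw [Nat.card_zpowers, hj])
      obtain ⟨Q, hQ⟩ := hyP.exists_le_sylow
      obtain ⟨x, hx⟩ := MulAction.exists_smul_eq G Q P
      have hxy : x * y * x⁻¹ ∈ (P : Subgroup G) := by
        have h1 : y ∈ (Q : Subgroup G) := hQ (Subgroup.mem_zpowers y)
        have h2 := Subgroup.smul_mem_pointwise_smul y (MulAut.conj x) (Q : Subgroup G) h1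
        rw [← Sylow.pointwise_smul_def, ← Sylow.smul_def, hx] at h2
        simpa [MulAut.smul_def] using h2
      have hcomm : Commute (x * y * x⁻¹) (x * z * x⁻¹) := by
        have := hyz.eq
        unfold Commute SemiconjBy
        calc x * y * x⁻¹ * (x * z * x⁻¹) = x * (y * z) * x⁻¹ := by group
          _ = x * (z * y) * x⁻¹ := by rw [this]
          _ = _ := by group
      have hvmem : x * z * x⁻¹ ∈ Subgroup.centralizer ({(x * y * x⁻¹ : G)} : Set G) := by
        rw [Subgroup.mem_centralizer_singleton_iff]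
        exact hcomm.symm.eq
      refine ⟨⟨x * y * x⁻¹, hxy⟩, ⟨x * z * x⁻¹, hvmem⟩, ?_, ?_⟩
      · change ConjClasses.mk (x * y * x⁻¹ * (x * z * x⁻¹)) = ConjClasses.mk g₀
        rw [ConjClasses.mk_eq_mk_iff_isConj, isConj_iff]
        refine ⟨x⁻¹, ?_⟩
        rw [hg]; group
      · intro q hq hqd
        have h1 : orderOf (⟨x * z * x⁻¹, hvmem⟩ :
            Subgroup.centralizer ({(x * y * x⁻¹ : G)} : Set G)) = orderOf z := by
          rw [Subgroup.orderOf_mk]
          have := (MulAut.conj x).orderOf_eq z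
          simpa using this
        rw [h1] at hqd
        have h2 : q ∈ insert p s₀ := hC g₀ rfl q hq (dvd_trans hqd hzd)
        rcases Finset.mem_insert.mp h2 with h3 | h3
        · exact absurd (h3 ▸ hqd) hz
        · exact h3
    choose fu fv hfC hfv using hex
    -- the injection
    let J : {C : ConjClasses G // PiClass (insert p s₀) C} →
        Σ w : (P : Subgroup G),
          {C : ConjClasses (Subgroup.centralizer ({(w : G)} : Set G)) // PiClass s₀ C} :=
      fun C => ⟨fu C, ⟨ConjClasses.mk (fv C), piClass_mk s₀ _ (hfv C)⟩⟩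
    have hJ : Function.Injective J := by
      intro C C' h
      apply Subtype.ext
      rw [← hfC C, ← hfC C']
      exact inj_aux (P : Subgroup G) s₀ (fu C) (fu C') (fv C) (fv C') _ _ h
    have h1 := Nat.card_le_card_of_injective J hJ
    haveI : Fintype (P : Subgroup G) := Fintype.ofFinite _
    rw [Nat.card_sigma] at h1
    have hG0 : Nat.card G ≠ 0 := Nat.card_pos.ne'
    have h2 : ∀ w : (P : Subgroup G),
        Nat.card {C : ConjClasses (Subgroup.centralizer ({(w : G)} : Set G)) // PiClass s₀ C} ≤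
          piPart s₀ (Nat.card G) := by
      intro w
      refine (ih' _).trans ?_
      apply piPart_le_of_dvd s₀ (fun q hq => hs q (Finset.mem_insert_of_mem hq))
        Nat.card_pos.ne' hG0 (Subgroup.card_subgroup_dvd_card _)
    have h3 := Finset.sum_le_sum (fun w (_ : w ∈ Finset.univ) => h2 w)
    rw [Finset.sum_const, Finset.card_univ, smul_eq_mul, ← Nat.card_eq_fintype_card,
      Sylow.card_eq_multiplicity] at h3
    rw [piPart_insert s₀ p hp]
    exact h1.trans h3

end main

end Cfsg.Agent.H2.PiCl
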