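import Mathlib
import Cfsg.Agent.H2.EqualOrderIso
import Cfsg.Prelude.Def_Solvable

set_option autoImplicit false
set_option linter.unusedSectionVars false
set_option linter.unusedVariables false

/-!
# Conjugation-closed families of subgroups of order `p` closed under commuting products
-/

namespace Cfsg.Agent.H2.PointFamily

open Subgroup

variable {G : Type*} [Group G]

/-- elementwise commuting of subgroups -/
def Cm (X Y : Subgroup G) : Prop := ∀ x ∈ X, ∀ y ∈ Y, x * y = y * x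

theorem Cm.symm {X Y : Subgroup G} (h : Cm X Y) : Cm Y X := fun y hy x hx => (h x hx y hy).symm

theorem cm_zpowers {x y : G} (h : x * y = y * x) : Cm (zpowers x) (zpowers y) := by
  intro a ha b hb
  obtain ⟨i, rfl⟩ := Subgroup.mem_zpowers_iff.mp ha
  obtain ⟨j, rfl⟩ := Subgroup.mem_zpowers_iff.mp hb
  exact (((show Commute x y from h).zpow_left i).zpow_right j).eq

theorem cm_zpowers_iff {x y : G} : Cm (zpowers x) (zpowers y) ↔ x * y = y * x :=
  ⟨fun h => h x (mem_zpowers x) y (mem_zpowers y), cm_zpowers⟩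

theorem cm_zpowers_left {x : G} {Y : Subgroup G} (h : ∀ y ∈ Y, x * y = y * x) :
    Cm (zpowers x) Y := by
  intro a ha b hb
  obtain ⟨i, rfl⟩ := Subgroup.mem_zpowers_iff.mp ha
  exact ((show Commute x b from h b hb).zpow_left i).eq

/-- the hypotheses on the family -/
structure Hyp (p : ℕ) (K : Set (Subgroup G)) : Prop where
  hp : p.Prime
  card : ∀ X ∈ K, Nat.card ↥X = p
  conj : ∀ X ∈ K, ∀ g : G, X.map (MulAut.conj g).toMonoidHom ∈ K
  ha : ∀ X ∈ K, ∀ Y ∈ K, X ≠ Y → (∀ x ∈ X, ∀ y ∈ Y, x * y = y * x) →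
      ∀ Z : Subgroup G, Z ≤ X ⊔ Y → Nat.card ↥Z = p → Z ∈ K
  hb : ∀ X ∈ K, ∀ Y ∈ K, X ≠ Y → (∀ x ∈ X, ∀ y ∈ Y, x * y = y * x) →
      ∀ W ∈ K, (X ⊔ Y) ⊓ Subgroup.centralizer (W : Set G) ≠ ⊥

section Basic

variable {p : ℕ} {K : Set (Subgroup G)} (h : Hyp p K)

include h

theorem orderOf_of_mem {x : G} (hx : zpowers x ∈ K) : orderOf x = p := by
  rw [← Nat.card_zpowers]
  exact h.card _ hx

theorem ne_one_of_mem {x : G} (hx : zpowers x ∈ K) : x ≠ 1 := by
  rintro rfl
  have := orderOf_of_mem h hx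
  rw [orderOf_one] at this
  exact h.hp.one_lt.ne this

theorem exists_gen {X : Subgroup G} (hX : X ∈ K) : ∃ x, X = zpowers x := by
  have : Fact p.Prime := ⟨h.hp⟩
  have hc : IsCyclic X := isCyclic_of_prime_card (h.card X hX)
  obtain ⟨g, hg⟩ := (Subgroup.isCyclic_iff_exists_zpowers_eq_top X).mp hc
  exact ⟨g, hg.symm⟩

theorem zpowers_eq_of_mem {x y : G} (hx : orderOf x = p) (hy : y ∈ zpowers x) (hy1 : y ≠ 1) :
    zpowers y = zpowers x ∧ orderOf y = p := by
  have hfin : IsOfFinOrder x := by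
    rw [← orderOf_pos_iff, hx]; exact h.hp.pos
  have hle : zpowers y ≤ zpowers x := zpowers_le.mpr hy
  have hyp : y ^ p = 1 := by
    obtain ⟨i, rfl⟩ := Subgroup.mem_zpowers_iff.mp hy
    rw [← zpow_natCast, ← zpow_mul, mul_comm, zpow_mul, zpow_natCast, ← hx, pow_orderOf_eq_one,
      one_zpow]
  have : Fact p.Prime := ⟨h.hp⟩
  have ho : orderOf y = p := orderOf_eq_prime hyp hy1
  refine ⟨?_, ho⟩
  have : Finite (zpowers x) := by
    apply Nat.finite_of_card_ne_zero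
    rw [Nat.card_zpowers, hx]
    exact h.hp.ne_zero
  apply Subgroup.eq_of_le_of_card_ge hle
  rw [Nat.card_zpowers, Nat.card_zpowers, hx, ho]

theorem zpowers_eq_of_mem_K {X : Subgroup G} (hX : X ∈ K) {y : G} (hy : y ∈ X) (hy1 : y ≠ 1) :
    zpowers y = X := by
  obtain ⟨x, rfl⟩ := exists_gen h hX
  exact (zpowers_eq_of_mem h (orderOf_of_mem h hX) hy hy1).1

/-- an element of the product of two commuting points generates a point -/
theorem mem_K_of_mul {x y : G} (hx : zpowers x ∈ K) (hy : zpowers y ∈ K)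
    (hne : zpowers x ≠ zpowers y) (hxy : x * y = y * x) (i j : ℤ) (hg : x ^ i * y ^ j ≠ 1) :
    zpowers (x ^ i * y ^ j) ∈ K := by
  have : Fact p.Prime := ⟨h.hp⟩
  apply h.ha _ hx _ hy hne (cm_zpowers hxy)
  · rw [zpowers_le]
    exact mul_mem (mem_sup_left (zpow_mem (mem_zpowers x) i))
      (mem_sup_right (zpow_mem (mem_zpowers y) j))
  · rw [Nat.card_zpowers]
    apply orderOf_eq_prime _ hg
    have hc : Commute (x ^ i) (y ^ j) := ((show Commute x y from hxy).zpow_left i).zpow_right j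
    rw [hc.mul_pow, ← zpow_natCast, ← zpow_natCast, ← zpow_mul, ← zpow_mul, mul_comm i, mul_comm j,
      zpow_mul, zpow_mul, zpow_natCast, zpow_natCast]
    have h1 : x ^ p = 1 := by rw [← orderOf_of_mem h hx, pow_orderOf_eq_one]
    have h2 : y ^ p = 1 := by rw [← orderOf_of_mem h hy, pow_orderOf_eq_one]
    rw [h1, h2, one_zpow, one_zpow, one_mul]

/-- a simpler special case: the product of the generators -/
theorem mem_K_mul {x y : G} (hx : zpowers x ∈ K) (hy : zpowers y ∈ K)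
    (hne : zpowers x ≠ zpowers y) (hxy : x * y = y * x) (hg : x * y ≠ 1) :
    zpowers (x * y) ∈ K := by
  have := mem_K_of_mul h hx hy hne hxy 1 1 (by simpa using hg)
  simpa using this

end Basic

section Adj

/-- adjoin an element commuting with a subgroup -/
def adj (A : Subgroup G) (t : G) (ht : ∀ a ∈ A, a * t = t * a) : Subgroup G where
  carrier := {x | ∃ a ∈ A, ∃ i : ℤ, x = a * t ^ i}
  mul_mem' := by
    rintro _ _ ⟨a, ha, i, rfl⟩ ⟨b, hb, j, rfl⟩
    refine ⟨a * b, A.mul_mem ha hb, i + j, ?_⟩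
    have hc : Commute (t ^ i) b := ((show Commute b t from ht b hb).zpow_right i).symm
    rw [zpow_add]
    calc a * t ^ i * (b * t ^ j) = a * (t ^ i * b) * t ^ j := by group
      _ = a * (b * t ^ i) * t ^ j := by rw [hc.eq]
      _ = a * b * (t ^ i * t ^ j) := by group
  one_mem' := ⟨1, A.one_mem, 0, by simp⟩
  inv_mem' := by
    rintro _ ⟨a, ha, i, rfl⟩
    refine ⟨a⁻¹, A.inv_mem ha, -i, ?_⟩
    have hc : Commute (a⁻¹) (t ^ (-i)) :=
      ((show Commute a t from ht a ha).inv_left).zpow_right (-i)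
    rw [mul_inv_rev, ← zpow_neg]
    exact hc.eq.symm

theorem mem_adj {A : Subgroup G} {t : G} {ht : ∀ a ∈ A, a * t = t * a} {x : G} :
    x ∈ adj A t ht ↔ ∃ a ∈ A, ∃ i : ℤ, x = a * t ^ i := Iff.rfl

theorem le_adj (A : Subgroup G) (t : G) (ht : ∀ a ∈ A, a * t = t * a) : A ≤ adj A t ht :=
  fun a ha => ⟨a, ha, 0, by simp⟩

theorem self_mem_adj (A : Subgroup G) (t : G) (ht : ∀ a ∈ A, a * t = t * a) : t ∈ adj A t ht :=
  ⟨1, A.one_mem, 1, by simp⟩

theorem adj_le {A B : Subgroup G} {t : G} (ht : ∀ a ∈ A, a * t = t * a) (hAB : A ≤ B)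
    (htB : t ∈ B) : adj A t ht ≤ B := by
  rintro _ ⟨a, ha, i, rfl⟩
  exact B.mul_mem (hAB ha) (B.zpow_mem htB i)

end Adj

section Pure

variable {p : ℕ} {K : Set (Subgroup G)}

/-- elementary abelian subgroups all of whose points lie in `K` -/
structure Pure (p : ℕ) (K : Set (Subgroup G)) (A : Subgroup G) : Prop where
  comm : ∀ a ∈ A, ∀ b ∈ A, a * b = b * a
  exp : ∀ a ∈ A, a ^ p = 1
  pts : ∀ a ∈ A, a ≠ 1 → zpowers a ∈ K

theorem Pure.mono {A B : Subgroup G} (hA : Pure p K A) (hBA : B ≤ A) : Pure p K B :=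
  ⟨fun a ha b hb => hA.comm a (hBA ha) b (hBA hb), fun a ha => hA.exp a (hBA ha),
    fun a ha => hA.pts a (hBA ha)⟩

theorem Pure.isPGroup {A : Subgroup G} (hA : Pure p K A) : IsPGroup p A := by
  intro g
  refine ⟨1, ?_⟩
  apply Subtype.ext
  rw [pow_one]
  simpa using hA.exp g.1 g.2

variable (h : Hyp p K)

include h

theorem pure_zpowers {x : G} (hx : zpowers x ∈ K) : Pure p K (zpowers x) := by
  refine ⟨(cm_zpowers rfl), ?_, ?_⟩
  · intro a ha
    obtain ⟨i, rfl⟩ := Subgroup.mem_zpowers_iff.mp ha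
    rw [← zpow_natCast, ← zpow_mul, mul_comm, zpow_mul, zpow_natCast, ← orderOf_of_mem h hx,
      pow_orderOf_eq_one, one_zpow]
  · intro a ha ha1
    rw [(zpowers_eq_of_mem h (orderOf_of_mem h hx) ha ha1).1]
    exact hx

theorem Pure.card_pow [Finite G] {A : Subgroup G} (hA : Pure p K A) : ∃ n, Nat.card A = p ^ n := by
  have : Fact p.Prime := ⟨h.hp⟩
  exact IsPGroup.iff_card.mp hA.isPGroup

/-- a proper subgroup of a pure subgroup has at most `1 / p` of its order -/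
theorem Pure.card_lt [Finite G] {A B : Subgroup G} (hA : Pure p K A) (hBA : B ≤ A) (hne : B ≠ A) :
    p * Nat.card B ≤ Nat.card A := by
  obtain ⟨n, hn⟩ := hA.card_pow h
  obtain ⟨k, hk⟩ := (hA.mono hBA).card_pow h
  have hkn : k < n := by
    by_contra hge
    push Not at hge
    apply hne
    apply Subgroup.eq_of_le_of_card_ge hBA
    rw [hn, hk]
    exact Nat.pow_le_pow_right h.hp.pos hge
  rw [hn, hk, ← pow_succ']
  exact Nat.pow_le_pow_right h.hp.pos hkn

/-- adjoining a commuting point to a pure subgroup gives a pure subgroup -/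
theorem pure_adj {A : Subgroup G} (hA : Pure p K A) {t : G} (ht : zpowers t ∈ K)
    (htA : ∀ a ∈ A, a * t = t * a) (hnot : t ∉ A) : Pure p K (adj A t htA) := by
  have hto : orderOf t = p := orderOf_of_mem h ht
  have htp : t ^ p = 1 := by rw [← hto, pow_orderOf_eq_one]
  refine ⟨?_, ?_, ?_⟩
  · rintro _ ⟨a, ha, i, rfl⟩ _ ⟨b, hb, j, rfl⟩
    have h1 : Commute a b := hA.comm a ha b hb
    have h2 : Commute a (t ^ j) := (show Commute a t from htA a ha).zpow_right j
    have h3 : Commute (t ^ i) b := ((show Commute b t from htA b hb).zpow_right i).symm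
    have h4 : Commute (t ^ i) (t ^ j) := ((Commute.refl t).zpow_left i).zpow_right j
    exact ((h1.mul_right h2).mul_left (h3.mul_right h4)).eq
  · rintro _ ⟨a, ha, i, rfl⟩
    have h2 : Commute a (t ^ i) := (show Commute a t from htA a ha).zpow_right i
    rw [h2.mul_pow, hA.exp a ha, one_mul, ← zpow_natCast, ← zpow_mul, mul_comm, zpow_mul,
      zpow_natCast, htp, one_zpow]
  · rintro _ ⟨a, ha, i, rfl⟩ hne
    by_cases ha1 : a = 1
    · subst ha1
      rw [one_mul] at hne ⊢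
      rw [(zpowers_eq_of_mem h hto (zpow_mem (mem_zpowers t) i) hne).1]
      exact ht
    · have haK : zpowers a ∈ K := hA.pts a ha ha1
      have hne' : zpowers a ≠ zpowers t := by
        intro heq
        apply hnot
        have : t ∈ zpowers a := heq ▸ mem_zpowers t
        exact (zpowers_le.mpr ha) this
      have := mem_K_of_mul h haK ht hne' (htA a ha) 1 i (by simpa using hne)
      simpa using this

end Pure

section Hyperplane

variable {p : ℕ} {K : Set (Subgroup G)} (h : Hyp p K)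

include h

theorem mem_centralizer_zpowers {t g : G} :
    g ∈ Subgroup.centralizer ((zpowers t : Subgroup G) : Set G) ↔ g * t = t * g := by
  constructor
  · intro hg
    exact (Subgroup.mem_centralizer_iff.mp hg t (mem_zpowers t)).symm
  · intro hg
    rw [Subgroup.mem_centralizer_iff]
    intro x hx
    obtain ⟨i, rfl⟩ := Subgroup.mem_zpowers_iff.mp hx
    exact ((show Commute g t from hg).zpow_right i).eq.symm

/-- the centralizer of a point in a pure subgroup has index at most `p` -/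
theorem card_le_mul_centralizer [Finite G] {A : Subgroup G} (hA : Pure p K A) {t : G}
    (ht : zpowers t ∈ K) :
    Nat.card A ≤ p * Nat.card (A ⊓ Subgroup.centralizer ({t} : Set G) : Subgroup G) := by
  by_contra hcon
  push Not at hcon
  obtain ⟨B, hBdef⟩ : ∃ B : Subgroup G, B = A ⊓ Subgroup.centralizer ({t} : Set G) := ⟨_, rfl⟩
  rw [← hBdef] at hcon
  have hBA : B ≤ A := hBdef ▸ inf_le_left
  have hp1 := h.hp.one_lt
  have hBmem : ∀ g, g ∈ B ↔ g ∈ A ∧ g * t = t * g := by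
    intro g
    rw [hBdef, Subgroup.mem_inf, Subgroup.mem_centralizer_iff]
    constructor
    · rintro ⟨h1, h2⟩
      exact ⟨h1, (h2 t rfl).symm⟩
    · rintro ⟨h1, h2⟩
      refine ⟨h1, ?_⟩
      intro x hx
      rw [Set.mem_singleton_iff] at hx
      rw [hx]; exact h2.symm
  have hBne : B ≠ A := by
    intro heq
    rw [heq] at hcon
    have : 0 < Nat.card A := Nat.card_pos
    nlinarith
  obtain ⟨a₁, ha₁A, ha₁B⟩ : ∃ a₁ ∈ A, a₁ ∉ B := by
    by_contra hc
    push Not at hc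
    exact hBne (le_antisymm hBA hc)
  have ha₁p : a₁ ^ p = 1 := hA.exp a₁ ha₁A
  have ha₁1 : a₁ ≠ 1 := by
    rintro rfl
    exact ha₁B B.one_mem
  have : NeZero p := ⟨h.hp.ne_zero⟩
  let f : B × Fin p → G := fun bi => bi.1.1 * a₁ ^ (bi.2 : ℕ)
  have hrange : ∀ b ∈ B, ∀ i : ℤ, b * a₁ ^ i ∈ Set.range f := by
    intro b hb i
    have h1 : 0 ≤ i % (p : ℤ) := Int.emod_nonneg _ (by exact_mod_cast h.hp.ne_zero)
    have h2 : i % (p : ℤ) < p := Int.emod_lt_of_pos _ (by exact_mod_cast h.hp.pos)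
    refine ⟨(⟨b, hb⟩, ⟨(i % (p : ℤ)).toNat, by omega⟩), ?_⟩
    change b * a₁ ^ ((i % (p : ℤ)).toNat) = b * a₁ ^ i
    congr 1
    rw [← zpow_natCast, Int.toNat_of_nonneg h1]
    have h3 : i = i % (p : ℤ) + p * (i / (p : ℤ)) := (Int.emod_add_mul_ediv i p).symm
    conv_rhs => rw [h3, zpow_add, zpow_mul, zpow_natCast, ha₁p, one_zpow, mul_one]
  obtain ⟨a₂, ha₂A, ha₂S⟩ : ∃ a₂ ∈ A, a₂ ∉ Set.range f := by
    by_contra hc
    push Not at hc
    have h1 : (A : Set G) ⊆ Set.range f := hc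
    have h2 : Nat.card A ≤ Nat.card (Set.range f) := Nat.card_mono (Set.toFinite _) h1
    have h3 : Nat.card (Set.range f) ≤ Nat.card (B × Fin p) := Finite.card_range_le f
    rw [Nat.card_prod, Nat.card_fin] at h3
    have : Nat.card A ≤ p * Nat.card B := by rw [mul_comm]; exact h2.trans h3
    omega
  have ha₂1 : a₂ ≠ 1 := by
    rintro rfl
    apply ha₂S
    have := hrange 1 B.one_mem 0
    simpa using this
  have hXK : zpowers a₁ ∈ K := hA.pts a₁ ha₁A ha₁1
  have hYK : zpowers a₂ ∈ K := hA.pts a₂ ha₂A ha₂1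
  have ho₁ : orderOf a₁ = p := orderOf_of_mem h hXK
  have ho₂ : orderOf a₂ = p := orderOf_of_mem h hYK
  have hcomm : a₁ * a₂ = a₂ * a₁ := hA.comm a₁ ha₁A a₂ ha₂A
  have hne : zpowers a₁ ≠ zpowers a₂ := by
    intro heq
    have h1 : a₂ ∈ zpowers a₁ := heq ▸ mem_zpowers a₂
    obtain ⟨i, hi⟩ := Subgroup.mem_zpowers_iff.mp h1
    apply ha₂S
    have := hrange 1 B.one_mem i
    rw [one_mul, hi] at this
    exact this
  have hbot := h.hb _ hXK _ hYK hne (cm_zpowers hcomm) _ ht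
  obtain ⟨g, hg, hg1⟩ := (Subgroup.ne_bot_iff_exists_ne_one).mp hbot |>.imp
    (fun g hg => hg) |> fun ⟨⟨g, hg⟩, hg1⟩ => (⟨g, hg, fun hh => hg1 (Subtype.ext hh)⟩ :
      ∃ g : G, g ∈ (zpowers a₁ ⊔ zpowers a₂) ⊓ Subgroup.centralizer ((zpowers t : Subgroup G) : Set G)
        ∧ g ≠ 1)
  rw [Subgroup.mem_inf] at hg
  obtain ⟨hg2, hg3⟩ := hg
  have hgt : g * t = t * g := (mem_centralizer_zpowers h).mp hg3
  have hclos : zpowers a₁ ⊔ zpowers a₂ = Subgroup.closure ({a₁, a₂} : Set G) := by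
    rw [Subgroup.zpowers_eq_closure, Subgroup.zpowers_eq_closure, ← Subgroup.closure_union]
    rfl
  rw [hclos] at hg2
  obtain ⟨i, j, rfl⟩ := Cfsg.Agent.H2.EqualOrderIso.closure_pair_form hcomm g hg2
  have hgA : a₁ ^ i * a₂ ^ j ∈ A := A.mul_mem (A.zpow_mem ha₁A i) (A.zpow_mem ha₂A j)
  have hgB : a₁ ^ i * a₂ ^ j ∈ B := (hBmem _).mpr ⟨hgA, hgt⟩
  by_cases hj : a₂ ^ j = 1
  · rw [hj, mul_one] at hgB hg1
    have h1 := (zpowers_eq_of_mem h ho₁ (zpow_mem (mem_zpowers a₁) i) hg1).1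
    have h2 : a₁ ∈ zpowers (a₁ ^ i) := h1 ▸ mem_zpowers a₁
    exact ha₁B ((zpowers_le.mpr hgB) h2)
  · have h1 := (zpowers_eq_of_mem h ho₂ (zpow_mem (mem_zpowers a₂) j) hj).1
    have h2 : a₂ ∈ zpowers (a₂ ^ j) := h1 ▸ mem_zpowers a₂
    obtain ⟨m, hm⟩ := Subgroup.mem_zpowers_iff.mp h2
    apply ha₂S
    have h3 : a₂ ^ j = (a₁ ^ i * a₂ ^ j) * a₁ ^ (-i) := by
      have hc : Commute (a₁ ^ i) (a₂ ^ j) :=
        ((show Commute a₁ a₂ from hcomm).zpow_left i).zpow_right j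
      rw [hc.eq, mul_assoc, ← zpow_add, add_neg_cancel, zpow_zero, mul_one]
    have h4 : a₂ = (a₁ ^ i * a₂ ^ j) ^ m * a₁ ^ (-i * m) := by
      have hc : Commute (a₁ ^ i * a₂ ^ j) (a₁ ^ (-i)) := by
        apply Commute.mul_left
        · exact ((Commute.refl a₁).zpow_left i).zpow_right (-i)
        · exact (((show Commute a₁ a₂ from hcomm).zpow_left (-i)).zpow_right j).symm
      rw [zpow_mul, ← hc.mul_zpow, ← h3, hm]
    rw [h4]
    exact hrange _ (B.zpow_mem hgB m) _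

end Hyperplane

section Max

variable {p : ℕ} {K : Set (Subgroup G)}

/-- the family of pure subgroups of order at least `p ^ 2` -/
def Fam (p : ℕ) (K : Set (Subgroup G)) : Set (Subgroup G) :=
  {A | Pure p K A ∧ p ^ 2 ≤ Nat.card A}

/-- members of maximal order -/
def IsMax (p : ℕ) (K : Set (Subgroup G)) (A : Subgroup G) : Prop :=
  A ∈ Fam p K ∧ ∀ B ∈ Fam p K, Nat.card B ≤ Nat.card A

variable (h : Hyp p K) [Finite G]

include h

theorem card_adj_ge {A : Subgroup G} (hA : Pure p K A) {t : G} (ht : zpowers t ∈ K)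
    (htA : ∀ a ∈ A, a * t = t * a) (hnot : t ∉ A) :
    p * Nat.card A ≤ Nat.card (adj A t htA) := by
  apply (pure_adj h hA ht htA hnot).card_lt h (le_adj A t htA)
  intro heq
  apply hnot
  rw [heq]
  exact self_mem_adj A t htA

theorem exists_fam (hex : ∃ X ∈ K, ∃ Y ∈ K, X ≠ Y ∧ ∀ x ∈ X, ∀ y ∈ Y, x * y = y * x) :
    (Fam p K).Nonempty := by
  obtain ⟨X, hX, Y, hY, hne, hcm⟩ := hex
  obtain ⟨x, rfl⟩ := exists_gen h hX
  obtain ⟨y, rfl⟩ := exists_gen h hY
  have hxy : ∀ a ∈ zpowers x, a * y = y * a := fun a ha => hcm a ha y (mem_zpowers y)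
  have hnot : y ∉ zpowers x := by
    intro hy
    apply hne
    exact ((zpowers_eq_of_mem h (orderOf_of_mem h hX) hy (ne_one_of_mem h hY)).1).symm
  refine ⟨adj (zpowers x) y hxy, pure_adj h (pure_zpowers h hX) hY hxy hnot, ?_⟩
  have h1 := card_adj_ge h (pure_zpowers h hX) hY hxy hnot
  rw [h.card _ hX] at h1
  rw [pow_two]
  exact h1

theorem exists_max (hex : ∃ X ∈ K, ∃ Y ∈ K, X ≠ Y ∧ ∀ x ∈ X, ∀ y ∈ Y, x * y = y * x) :
    ∃ A, IsMax p K A := by
  obtain ⟨A, hA, hmax⟩ := Set.exists_max_image (Fam p K) (fun A => Nat.card A) (Set.toFinite _)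
    (exists_fam h hex)
  exact ⟨A, hA, hmax⟩

theorem IsMax.mem_of_centralizes {A : Subgroup G} (hA : IsMax p K A) {t : G} (ht : zpowers t ∈ K)
    (htA : ∀ a ∈ A, a * t = t * a) : t ∈ A := by
  by_contra hnot
  have h1 := card_adj_ge h hA.1.1 ht htA hnot
  have h2 : adj A t htA ∈ Fam p K := by
    refine ⟨pure_adj h hA.1.1 ht htA hnot, ?_⟩
    refine hA.1.2.trans ?_
    exact Subgroup.card_le_of_le (le_adj A t htA)
  have h3 := hA.2 _ h2
  have h4 : 0 < Nat.card A := Nat.card_pos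
  have hp1 := h.hp.one_lt
  nlinarith

/-- every point lies in a member of maximal order -/
theorem exists_max_mem (hex : ∃ X ∈ K, ∃ Y ∈ K, X ≠ Y ∧ ∀ x ∈ X, ∀ y ∈ Y, x * y = y * x) {v : G}
    (hv : zpowers v ∈ K) : ∃ A, IsMax p K A ∧ v ∈ A := by
  obtain ⟨A₀, hA₀⟩ := exists_max h hex
  by_cases hvA : v ∈ A₀
  · exact ⟨A₀, hA₀, hvA⟩
  obtain ⟨B, hBdef⟩ : ∃ B : Subgroup G, B = A₀ ⊓ Subgroup.centralizer ({v} : Set G) := ⟨_, rfl⟩
  have hcard := card_le_mul_centralizer h hA₀.1.1 hv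
  rw [← hBdef] at hcard
  have hBA : B ≤ A₀ := hBdef ▸ inf_le_left
  have hBv : ∀ a ∈ B, a * v = v * a := by
    intro a ha
    rw [hBdef, Subgroup.mem_inf, Subgroup.mem_centralizer_iff] at ha
    exact (ha.2 v rfl).symm
  have hvB : v ∉ B := fun hh => hvA (hBA hh)
  have hBpure : Pure p K B := hA₀.1.1.mono hBA
  have h1 := card_adj_ge h hBpure hv hBv hvB
  have hfam : adj B v hBv ∈ Fam p K :=
    ⟨pure_adj h hBpure hv hBv hvB, hA₀.1.2.trans (hcard.trans h1)⟩
  refine ⟨adj B v hBv, ⟨hfam, ?_⟩, self_mem_adj B v hBv⟩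
  intro C hC
  exact (hA₀.2 C hC).trans (hcard.trans h1)

end Max

section Config

variable {p : ℕ} {K : Set (Subgroup G)} (h : Hyp p K) [Finite G]

include h

/-- a point commuting with `v` outside the maximal `A = H⟨v⟩` commutes with an element of `A'`
outside `H` -/
theorem exists_comm_outside {A A' H : Subgroup G} {v t : G} (hA : IsMax p K A)
    (hA' : Pure p K A') (hHA' : H ≤ A') (hne : H ≠ A')
    (hAeq : ∀ x ∈ A, ∃ a ∈ H, ∃ i : ℤ, x = a * v ^ i) (ht : zpowers t ∈ K)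
    (htv : t * v = v * t) (htA : t ∉ A) : ∃ x ∈ A', x * t = t * x ∧ x ∉ H := by
  by_contra hcon
  push Not at hcon
  obtain ⟨B, hBdef⟩ : ∃ B : Subgroup G, B = A' ⊓ Subgroup.centralizer ({t} : Set G) := ⟨_, rfl⟩
  have hcard := card_le_mul_centralizer h hA' ht
  rw [← hBdef] at hcard
  have hBmem : ∀ g, g ∈ B ↔ g ∈ A' ∧ g * t = t * g := by
    intro g
    rw [hBdef, Subgroup.mem_inf, Subgroup.mem_centralizer_iff]
    constructor
    · rintro ⟨h1, h2⟩
      exact ⟨h1, (h2 t rfl).symm⟩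
    · rintro ⟨h1, h2⟩
      refine ⟨h1, ?_⟩
      intro x hx
      rw [Set.mem_singleton_iff] at hx
      rw [hx]; exact h2.symm
  have hBH : B ≤ H := by
    intro g hg
    obtain ⟨h1, h2⟩ := (hBmem g).mp hg
    exact hcon g h1 h2
  have h1 : p * Nat.card H ≤ Nat.card A' := hA'.card_lt h hHA' hne
  have h2 : Nat.card H ≤ Nat.card B := by
    have hp := h.hp.pos
    have : p * Nat.card H ≤ p * Nat.card B := h1.trans hcard
    exact Nat.le_of_mul_le_mul_left this hp
  have hBeq : B = H := Subgroup.eq_of_le_of_card_ge hBH h2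
  have hHt : ∀ a ∈ H, a * t = t * a := by
    intro a ha
    rw [← hBeq] at ha
    exact ((hBmem a).mp ha).2
  apply htA
  apply hA.mem_of_centralizes h ht
  intro x hx
  obtain ⟨a, ha, i, rfl⟩ := hAeq x hx
  have c1 : Commute a t := hHt a ha
  have c2 : Commute (v ^ i) t := ((show Commute t v from htv).zpow_right i).symm
  exact (c1.mul_left c2).eq

/-- the symmetric configuration -/
structure Config (p : ℕ) (K : Set (Subgroup G)) (v w : G) (H A A' : Subgroup G) : Prop where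
  hv : zpowers v ∈ K
  hw : zpowers w ∈ K
  hvw : v * w ≠ w * v
  hHv : ∀ a ∈ H, a * v = v * a
  hHw : ∀ a ∈ H, a * w = w * a
  hA : IsMax p K A
  hA' : IsMax p K A'
  hAeq : ∀ x, x ∈ A ↔ ∃ a ∈ H, ∃ i : ℤ, x = a * v ^ i
  hA'eq : ∀ x, x ∈ A' ↔ ∃ a ∈ H, ∃ i : ℤ, x = a * w ^ i

omit h [Finite G] in
theorem Config.symm {v w : G} {H A A' : Subgroup G} (c : Config p K v w H A A') :
    Config p K w v H A' A :=
  ⟨c.hw, c.hv, fun hh => c.hvw hh.symm, c.hHw, c.hHv, c.hA', c.hA, c.hA'eq, c.hAeq⟩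

omit h [Finite G] in
theorem Config.H_le_A {v w : G} {H A A' : Subgroup G} (c : Config p K v w H A A') : H ≤ A :=
  fun a ha => (c.hAeq a).mpr ⟨a, ha, 0, by simp⟩

omit h [Finite G] in
theorem Config.v_mem {v w : G} {H A A' : Subgroup G} (c : Config p K v w H A A') : v ∈ A :=
  (c.hAeq v).mpr ⟨1, H.one_mem, 1, by simp⟩

omit h [Finite G] in
theorem Config.w_not_mem_H {v w : G} {H A A' : Subgroup G} (c : Config p K v w H A A') : w ∉ H :=
  fun hw => c.hvw (c.hHv w hw).symm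

/-- a power of a point generator that is not `1` generates the same point -/
theorem exists_zpow_eq {w : G} (hw : zpowers w ∈ K) {i : ℤ} (hi : w ^ i ≠ 1) :
    ∃ m : ℤ, (w ^ i) ^ m = w := by
  have h1 := (zpowers_eq_of_mem h (orderOf_of_mem h hw) (zpow_mem (mem_zpowers w) i) hi).1
  have h2 : w ∈ zpowers (w ^ i) := h1 ▸ mem_zpowers w
  exact Subgroup.mem_zpowers_iff.mp h2

/-- points commuting with `v` outside `A` centralize the commutator -/
theorem Config.good {v w : G} {H A A' : Subgroup G} (c : Config p K v w H A A') {t : G}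
    (ht : zpowers t ∈ K) (htv : t * v = v * t) (htA : t ∉ A) :
    t * (v * w * v⁻¹ * w⁻¹) = (v * w * v⁻¹ * w⁻¹) * t := by
  have hHA' : H ≤ A' := c.symm.H_le_A
  have hne : H ≠ A' := by
    intro heq
    exact c.w_not_mem_H (heq ▸ c.symm.v_mem)
  obtain ⟨x, hxA', hxt, hxH⟩ := exists_comm_outside h c.hA c.hA'.1.1 hHA' hne
    (fun x hx => (c.hAeq x).mp hx) ht htv htA
  obtain ⟨a, ha, i, rfl⟩ := (c.hA'eq x).mp hxA'
  have hwi : w ^ i ≠ 1 := by
    intro hh
    apply hxH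
    rw [hh, mul_one]
    exact ha
  obtain ⟨m, hm⟩ := exists_zpow_eq h c.hw hwi
  -- `y = a ^ m * w` commutes with `t`
  have caw : Commute a (w ^ i) := (show Commute a w from c.hHw a ha).zpow_right i
  have hy : (a * w ^ i) ^ m = a ^ m * w := by rw [caw.mul_zpow, hm]
  have hyt : Commute t (a ^ m * w) := by
    rw [← hy]
    exact ((show Commute (a * w ^ i) t from hxt).zpow_left m).symm
  have hb : a ^ m ∈ H := H.zpow_mem ha m
  obtain ⟨b, hbdef⟩ : ∃ b, b = a ^ m := ⟨_, rfl⟩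
  rw [← hbdef] at hyt hb
  have cbv : Commute b v := c.hHv b hb
  have cbw : Commute b w := c.hHw b hb
  have hc : v * w * v⁻¹ * w⁻¹ = v * (b * w) * v⁻¹ * (b * w)⁻¹ := by
    have e1 : v * (b * w) * v⁻¹ * (b * w)⁻¹ = v * b * (w * v⁻¹ * w⁻¹) * b⁻¹ := by group
    rw [e1, ← cbv.eq]
    have c3 : Commute b (w * v⁻¹ * w⁻¹) := (cbw.mul_right cbv.inv_right).mul_right cbw.inv_right
    calc v * w * v⁻¹ * w⁻¹ = v * (w * v⁻¹ * w⁻¹) * (b * b⁻¹) := by group
      _ = v * ((w * v⁻¹ * w⁻¹) * b) * b⁻¹ := by group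
      _ = v * (b * (w * v⁻¹ * w⁻¹)) * b⁻¹ := by rw [c3.eq]
      _ = b * v * (w * v⁻¹ * w⁻¹) * b⁻¹ := by rw [← mul_assoc v b, ← cbv.eq]
  rw [hc]
  have ctv : Commute t v := htv
  exact (((ctv.mul_right hyt).mul_right ctv.inv_right).mul_right hyt.inv_right).eq

end Config

section Central

variable {p : ℕ} {K : Set (Subgroup G)} (h : Hyp p K) [Finite G]

include h

/-- `v` centralizes the commutator -/
theorem Config.v_comm {v w : G} {H A A' : Subgroup G} (c : Config p K v w H A A') {t : G}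
    (ht : zpowers t ∈ K) (htv : t * v = v * t) (htA : t ∉ A) :
    v * (v * w * v⁻¹ * w⁻¹) = (v * w * v⁻¹ * w⁻¹) * v := by
  have h1 := c.good h ht htv htA
  have hne : zpowers t ≠ zpowers v := by
    intro heq
    apply htA
    have : t ∈ zpowers v := heq ▸ mem_zpowers t
    exact (zpowers_le.mpr c.v_mem) this
  have htv1 : t * v ≠ 1 := by
    intro hh
    apply htA
    have : t = v⁻¹ := eq_inv_of_mul_eq_one_left hh
    rw [this]
    exact A.inv_mem c.v_mem
  have h2 : zpowers (t * v) ∈ K := mem_K_mul h ht c.hv hne htv htv1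
  have h3 : (t * v) * v = v * (t * v) := by
    rw [mul_assoc, ← mul_assoc v t v, ← htv, mul_assoc]
  have h4 : t * v ∉ A := by
    intro hh
    apply htA
    have : t = (t * v) * v⁻¹ := by group
    rw [this]
    exact A.mul_mem hh (A.inv_mem c.v_mem)
  have h5 := c.good h h2 h3 h4
  have c1 : Commute t (v * w * v⁻¹ * w⁻¹) := h1
  have c2 : Commute (t * v) (v * w * v⁻¹ * w⁻¹) := h5
  have c3 : Commute (t⁻¹ * (t * v)) (v * w * v⁻¹ * w⁻¹) := c1.inv_left.mul_left c2
  have : t⁻¹ * (t * v) = v := by group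
  rw [this] at c3
  exact c3.eq

/-- `w` centralizes the commutator -/
theorem Config.w_comm {v w : G} {H A A' : Subgroup G} (c : Config p K v w H A A') {t : G}
    (ht : zpowers t ∈ K) (htv : t * v = v * t) (htw : t * w = w * t) (htA : t ∉ A) :
    w * (v * w * v⁻¹ * w⁻¹) = (v * w * v⁻¹ * w⁻¹) * w := by
  have htA' : t ∉ A' := by
    intro hh
    obtain ⟨a, ha, i, rfl⟩ := (c.hA'eq t).mp hh
    by_cases hwi : w ^ i = 1
    · rw [hwi, mul_one] at htA
      exact htA (c.H_le_A ha)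
    · obtain ⟨m, hm⟩ := exists_zpow_eq h c.hw hwi
      apply c.hvw
      have c1 : Commute a v := c.hHv a ha
      have c2 : Commute (a * w ^ i) v := htv
      have c3 : Commute (a⁻¹ * (a * w ^ i)) v := c1.inv_left.mul_left c2
      have e : a⁻¹ * (a * w ^ i) = w ^ i := by group
      rw [e] at c3
      have c4 : Commute ((w ^ i) ^ m) v := c3.zpow_left m
      rw [hm] at c4
      exact c4.eq.symm
  have h1 := c.symm.v_comm h ht htw htA'
  have c1 : Commute w (w * v * w⁻¹ * v⁻¹) := h1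
  have e : (w * v * w⁻¹ * v⁻¹)⁻¹ = v * w * v⁻¹ * w⁻¹ := by group
  have c2 : Commute w ((w * v * w⁻¹ * v⁻¹)⁻¹) := c1.inv_right
  rw [e] at c2
  exact c2.eq

/-- all points commuting with `v` centralize the commutator -/
theorem Config.all_comm {v w : G} {H A A' : Subgroup G} (c : Config p K v w H A A') {t : G}
    (ht : zpowers t ∈ K) (htv : t * v = v * t) (htA : t ∉ A) {t' : G} (ht' : zpowers t' ∈ K)
    (ht'v : t' * v = v * t') :
    t' * (v * w * v⁻¹ * w⁻¹) = (v * w * v⁻¹ * w⁻¹) * t' := by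
  by_cases ht'A : t' ∈ A
  · obtain ⟨a, ha, i, rfl⟩ := (c.hAeq t').mp ht'A
    have cv : Commute v (v * w * v⁻¹ * w⁻¹) := c.v_comm h ht htv htA
    have cav : Commute a v := c.hHv a ha
    have caw : Commute a w := c.hHw a ha
    have ca : Commute a (v * w * v⁻¹ * w⁻¹) :=
      ((cav.mul_right caw).mul_right cav.inv_right).mul_right caw.inv_right
    exact (ca.mul_left (cv.zpow_left i)).eq
  · exact c.good h ht' ht'v ht'A

/-- the commutator generates a point -/
theorem Config.comm_mem_K {v w : G} {H A A' : Subgroup G} (c : Config p K v w H A A')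
    (hcv : v * (v * w * v⁻¹ * w⁻¹) = (v * w * v⁻¹ * w⁻¹) * v) :
    zpowers (v * w * v⁻¹ * w⁻¹) ∈ K := by
  have hc1 : v * w * v⁻¹ * w⁻¹ ≠ 1 := by
    intro hh
    apply c.hvw
    have : v * w = (v * w * v⁻¹ * w⁻¹) * (w * v) := by group
    rw [this, hh, one_mul]
  obtain ⟨v', hv'def⟩ : ∃ v', v' = w * v⁻¹ * w⁻¹ := ⟨_, rfl⟩
  have hcv' : v * w * v⁻¹ * w⁻¹ = v * v' := by rw [hv'def]; group
  -- `v'` generates a conjugate of `zpowers v`
  have hv'K : zpowers v' ∈ K := by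
    have h1 := h.conj _ c.hv w
    have h2 : (zpowers v).map (MulAut.conj w).toMonoidHom = zpowers (w * v * w⁻¹) := by
      rw [MonoidHom.map_zpowers]
      rfl
    rw [h2] at h1
    have h3 : zpowers v' = zpowers (w * v * w⁻¹) := by
      have : v' = (w * v * w⁻¹)⁻¹ := by rw [hv'def]; group
      rw [this, zpowers_inv]
    rw [h3]
    exact h1
  have cvv' : v * v' = v' * v := by
    have c1 : Commute v (v * v') := by rw [← hcv']; exact hcv
    have c2 : Commute v (v⁻¹ * (v * v')) := (Commute.refl v).inv_right.mul_right c1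
    have e : v⁻¹ * (v * v') = v' := by group
    rw [e] at c2
    exact c2.eq
  rw [hcv']
  rw [hcv'] at hc1
  by_cases hne : zpowers v = zpowers v'
  · have h1 : v * v' ∈ zpowers v := by
      apply (zpowers v).mul_mem (mem_zpowers v)
      rw [hne]
      exact mem_zpowers v'
    rw [(zpowers_eq_of_mem h (orderOf_of_mem h c.hv) h1 hc1).1]
    exact c.hv
  · exact mem_K_mul h c.hv hv'K hne cvv' hc1

end Central

section Radical

variable {p : ℕ} {K : Set (Subgroup G)}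

/-- the members of `K` commuting with `V` -/
def nb (K : Set (Subgroup G)) (V : Subgroup G) : Set (Subgroup G) := {T | T ∈ K ∧ Cm T V}

variable (h : Hyp p K) [Finite G]

include h

/-- some member of `K` commutes with all members of `K` -/
theorem exists_radical (hex : ∃ X ∈ K, ∃ Y ∈ K, X ≠ Y ∧ ∀ x ∈ X, ∀ y ∈ Y, x * y = y * x) :
    ∃ V ∈ K, ∀ W ∈ K, Cm V W := by
  have hKne : K.Nonempty := by
    obtain ⟨X, hX, _⟩ := hex
    exact ⟨X, hX⟩
  obtain ⟨V, hVK, hmax⟩ := Set.exists_max_image K (fun V => (nb K V).ncard) (Set.toFinite _) hKne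
  refine ⟨V, hVK, ?_⟩
  by_contra hcon
  push Not at hcon
  obtain ⟨W₀, hW₀K, hVW₀⟩ := hcon
  obtain ⟨v, rfl⟩ := exists_gen h hVK
  obtain ⟨w₀, rfl⟩ := exists_gen h hW₀K
  have hp1 := h.hp.one_lt
  have hvw₀ : v * w₀ ≠ w₀ * v := fun hh => hVW₀ (cm_zpowers hh)
  obtain ⟨A, hA, hvA⟩ := exists_max_mem h hex hVK
  obtain ⟨H, hHdef⟩ : ∃ H : Subgroup G, H = A ⊓ Subgroup.centralizer ({w₀} : Set G) := ⟨_, rfl⟩
  have hcard := card_le_mul_centralizer h hA.1.1 hW₀K
  rw [← hHdef] at hcard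
  have hHA : H ≤ A := hHdef ▸ inf_le_left
  have hHw₀ : ∀ a ∈ H, a * w₀ = w₀ * a := by
    intro a ha
    rw [hHdef, Subgroup.mem_inf, Subgroup.mem_centralizer_iff] at ha
    exact (ha.2 w₀ rfl).symm
  have hHv : ∀ a ∈ H, a * v = v * a := fun a ha => hA.1.1.comm a (hHA ha) v hvA
  have hvH : v ∉ H := fun hh => hvw₀ (hHw₀ v hh)
  have hHpure : Pure p K H := hA.1.1.mono hHA
  have hadj : adj H v hHv = A :=
    Subgroup.eq_of_le_of_card_ge (adj_le hHv hHA hvA)
      (hcard.trans (card_adj_ge h hHpure hVK hHv hvH))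
  have hAeq : ∀ x, x ∈ A ↔ ∃ a ∈ H, ∃ i : ℤ, x = a * v ^ i := by
    intro x
    rw [← hadj]
    exact mem_adj
  have hHcard : p ≤ Nat.card H := by
    have h1 := hA.1.2
    rw [pow_two] at h1
    exact Nat.le_of_mul_le_mul_left (h1.trans hcard) h.hp.pos
  obtain ⟨u, huH, hu1⟩ : ∃ u ∈ H, u ≠ 1 := by
    by_contra hc
    push Not at hc
    have : H = ⊥ := (Subgroup.eq_bot_iff_forall H).mpr hc
    rw [this, Subgroup.card_bot] at hHcard
    omega
  have huK : zpowers u ∈ K := hA.1.1.pts u (hHA huH) hu1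
  obtain ⟨t, htK, htv, htA⟩ : ∃ t, zpowers t ∈ K ∧ t * v = v * t ∧ t ∉ A := by
    by_contra hc
    push Not at hc
    have hsub : nb K (zpowers v) ⊆ nb K (zpowers u) := by
      rintro T ⟨hTK, hTV⟩
      refine ⟨hTK, ?_⟩
      obtain ⟨t, rfl⟩ := exists_gen h hTK
      have htv : t * v = v * t := cm_zpowers_iff.mp hTV
      have htA := hc t hTK htv
      exact cm_zpowers (hA.1.1.comm t htA u (hHA huH))
    have hW₀ : zpowers w₀ ∈ nb K (zpowers u) := ⟨hW₀K, cm_zpowers (hHw₀ u huH).symm⟩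
    have hW₀' : zpowers w₀ ∉ nb K (zpowers v) := fun hh => hVW₀ hh.2.symm
    have hlt : (nb K (zpowers v)).ncard < (nb K (zpowers u)).ncard := by
      apply Set.ncard_lt_ncard _ (Set.toFinite _)
      exact ⟨hsub, fun hh => hW₀' (hh hW₀)⟩
    have := hmax _ huK
    omega
  have hw₀H : w₀ ∉ H := fun hh => hvw₀ (hHv w₀ hh).symm
  have hA'pure := pure_adj h hHpure hW₀K hHw₀ hw₀H
  have hA'card := card_adj_ge h hHpure hW₀K hHw₀ hw₀H
  have hA'max : IsMax p K (adj H w₀ hHw₀) :=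
    ⟨⟨hA'pure, hA.1.2.trans (hcard.trans hA'card)⟩,
      fun B hB => (hA.2 B hB).trans (hcard.trans hA'card)⟩
  have hneH : H ≠ adj H w₀ hHw₀ := by
    intro heq
    apply hw₀H
    rw [heq]
    exact self_mem_adj H w₀ hHw₀
  obtain ⟨w, hwA', hwt, hwH⟩ := exists_comm_outside h hA hA'pure (le_adj H w₀ hHw₀) hneH
    (fun x hx => (hAeq x).mp hx) htK htv htA
  have hw1 : w ≠ 1 := fun hh => hwH (hh ▸ H.one_mem)
  have hwK : zpowers w ∈ K := hA'pure.pts w hwA' hw1
  have hHw : ∀ a ∈ H, a * w = w * a :=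
    fun a ha => hA'pure.comm a (le_adj H w₀ hHw₀ ha) w hwA'
  have hvw : v * w ≠ w * v := by
    obtain ⟨a, ha, i, hwdef⟩ := mem_adj.mp hwA'
    intro hh
    have hi : w₀ ^ i ≠ 1 := by
      intro h1
      apply hwH
      rw [hwdef, h1, mul_one]
      exact ha
    obtain ⟨m, hm⟩ := exists_zpow_eq h hW₀K hi
    apply hvw₀
    have c1 : Commute a v := hHv a ha
    have c2 : Commute (a * w₀ ^ i) v := by rw [← hwdef]; exact (show Commute v w from hh).symm
    have c3 : Commute (a⁻¹ * (a * w₀ ^ i)) v := c1.inv_left.mul_left c2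
    have e : a⁻¹ * (a * w₀ ^ i) = w₀ ^ i := by group
    rw [e] at c3
    have c4 : Commute ((w₀ ^ i) ^ m) v := c3.zpow_left m
    rw [hm] at c4
    exact c4.eq.symm
  have hwH' : w ∉ H := hwH
  have hadj' : adj H w hHw = adj H w₀ hHw₀ := by
    apply Subgroup.eq_of_le_of_card_ge (adj_le hHw (le_adj H w₀ hHw₀) hwA')
    have h1 := hA.2 _ hA'max.1
    exact (h1.trans hcard).trans (card_adj_ge h hHpure hwK hHw hwH')
  have hA'eq : ∀ x, x ∈ adj H w₀ hHw₀ ↔ ∃ a ∈ H, ∃ i : ℤ, x = a * w ^ i := by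
    intro x
    rw [← hadj']
    exact mem_adj
  have c : Config p K v w H A (adj H w₀ hHw₀) :=
    ⟨hVK, hwK, hvw, hHv, hHw, hA, hA'max, hAeq, hA'eq⟩
  have cv := c.v_comm h htK htv htA
  have cw := c.w_comm h htK htv hwt.symm htA
  have hcK := c.comm_mem_K h cv
  have hsub : nb K (zpowers v) ⊆ nb K (zpowers (v * w * v⁻¹ * w⁻¹)) := by
    rintro T ⟨hTK, hTV⟩
    refine ⟨hTK, ?_⟩
    obtain ⟨t', rfl⟩ := exists_gen h hTK
    have ht'v : t' * v = v * t' := cm_zpowers_iff.mp hTV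
    exact cm_zpowers (c.all_comm h htK htv htA hTK ht'v)
  have hW : zpowers w ∈ nb K (zpowers (v * w * v⁻¹ * w⁻¹)) := ⟨hwK, cm_zpowers cw⟩
  have hW' : zpowers w ∉ nb K (zpowers v) := fun hh => hvw (cm_zpowers_iff.mp hh.2).symm
  have hlt : (nb K (zpowers v)).ncard < (nb K (zpowers (v * w * v⁻¹ * w⁻¹))).ncard := by
    apply Set.ncard_lt_ncard _ (Set.toFinite _)
    exact ⟨hsub, fun hh => hW' (hh hW)⟩
  have := hmax _ hcK
  omega

end Radical

section Final

variable {p : ℕ} {K : Set (Subgroup G)} (h : Hyp p K) [Finite G]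

include h

theorem main (hex : ∃ X ∈ K, ∃ Y ∈ K, X ≠ Y ∧ ∀ x ∈ X, ∀ y ∈ Y, x * y = y * x) :
    (∃ V ∈ K, (∀ W ∈ K, ∀ v ∈ V, ∀ w ∈ W, v * w = w * v) ∧ V ≤ Cfsg.pCore p G) ∧
      ¬ IsSimpleGroup G := by
  have : Fact p.Prime := ⟨h.hp⟩
  obtain ⟨V, hVK, hrad⟩ := exists_radical h hex
  -- conjugates of elements of `V` commute with all members of `K`
  have hconj : ∀ g : G, ∀ v ∈ V, ∀ W ∈ K, ∀ w ∈ W, (g * v * g⁻¹) * w = w * (g * v * g⁻¹) := by
    intro g v hv W hW w hw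
    have hW' : W.map (MulAut.conj g⁻¹).toMonoidHom ∈ K := h.conj W hW g⁻¹
    have hw' : g⁻¹ * w * g ∈ W.map (MulAut.conj g⁻¹).toMonoidHom := by
      refine ⟨w, hw, ?_⟩
      simp [MulAut.conj_apply]
    have h1 := hrad _ hW' v hv _ hw'
    calc g * v * g⁻¹ * w = g * (v * (g⁻¹ * w * g)) * g⁻¹ := by group
      _ = g * ((g⁻¹ * w * g) * v) * g⁻¹ := by rw [h1]
      _ = w * (g * v * g⁻¹) := by group
  have hconjK : ∀ g : G, ∀ v ∈ V, ∃ W ∈ K, g * v * g⁻¹ ∈ W := by
    intro g v hv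
    refine ⟨V.map (MulAut.conj g).toMonoidHom, h.conj V hVK g, v, hv, ?_⟩
    simp [MulAut.conj_apply]
  obtain ⟨N, hNdef⟩ : ∃ N : Subgroup G, N = Subgroup.normalClosure (V : Set G) := ⟨_, rfl⟩
  have hNn : N.Normal := hNdef ▸ Subgroup.normalClosure_normal
  have hVN : V ≤ N := hNdef ▸ Subgroup.le_normalClosure
  have hgen : ∀ x ∈ Group.conjugatesOfSet (V : Set G), ∃ g : G, ∃ v ∈ V, x = g * v * g⁻¹ := by
    intro x hx
    obtain ⟨v, hv, hc⟩ := Group.mem_conjugatesOfSet_iff.mp hx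
    obtain ⟨g, hg⟩ := isConj_iff.mp hc
    exact ⟨g, v, hv, hg.symm⟩
  have hgencomm : ∀ x ∈ Group.conjugatesOfSet (V : Set G), ∀ y ∈ Group.conjugatesOfSet (V : Set G),
      x * y = y * x := by
    intro x hx y hy
    obtain ⟨g, v, hv, rfl⟩ := hgen x hx
    obtain ⟨g', v', hv', rfl⟩ := hgen y hy
    obtain ⟨W, hW, hmem⟩ := hconjK g' v' hv'
    exact hconj g v hv W hW _ hmem
  have hNcomm := Subgroup.isMulCommutative_closure hgencomm
  have hVexp : ∀ v ∈ V, v ^ p = 1 := by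
    intro v hv
    have h1 : (⟨v, hv⟩ : V) ^ Nat.card V = 1 := pow_card_eq_one'
    rw [h.card V hVK] at h1
    exact congrArg Subtype.val h1
  have hNexp : ∀ n ∈ N, n ^ p = 1 := by
    intro n hn
    rw [hNdef] at hn
    change n ∈ Subgroup.closure (Group.conjugatesOfSet (V : Set G)) at hn
    induction hn using Subgroup.closure_induction with
    | mem x hx =>
      obtain ⟨g, v, hv, rfl⟩ := hgen x hx
      rw [conj_pow, hVexp v hv]
      group
    | one => exact one_pow p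
    | mul x y hx hy ihx ihy =>
      have hc : x * y = y * x :=
        congrArg Subtype.val (hNcomm.is_comm.comm ⟨x, hx⟩ ⟨y, hy⟩)
      rw [(show Commute x y from hc).mul_pow, ihx, ihy, one_mul]
    | inv x hx ih => rw [inv_pow, ih, inv_one]
  have hNp : IsPGroup p N := by
    intro g
    refine ⟨1, ?_⟩
    apply Subtype.ext
    rw [pow_one]
    simpa using hNexp g.1 g.2
  have hNcore : N ≤ Cfsg.pCore p G := le_sSup ⟨hNn, hNp⟩
  refine ⟨⟨V, hVK, fun W hW v hv w hw => hrad W hW v hv w hw, hVN.trans hNcore⟩, ?_⟩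
  intro hsimple
  have hVbot : V ≠ ⊥ := by
    intro hh
    have := h.card V hVK
    rw [hh, Subgroup.card_bot] at this
    exact h.hp.one_lt.ne this
  have hNtop : N = ⊤ := by
    rcases hNn.eq_bot_or_eq_top with h1 | h1
    · exfalso
      apply hVbot
      rw [eq_bot_iff, ← h1]
      exact hVN
    · exact h1
  have hGcomm : ∀ a b : G, a * b = b * a := by
    intro a b
    have ha : a ∈ Subgroup.closure (Group.conjugatesOfSet (V : Set G)) := by
      change a ∈ Subgroup.normalClosure (V : Set G)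
      rw [← hNdef, hNtop]; trivial
    have hb : b ∈ Subgroup.closure (Group.conjugatesOfSet (V : Set G)) := by
      change b ∈ Subgroup.normalClosure (V : Set G)
      rw [← hNdef, hNtop]; trivial
    exact congrArg Subtype.val (hNcomm.is_comm.comm ⟨a, ha⟩ ⟨b, hb⟩)
  obtain ⟨X, hX, Y, hY, hne, _⟩ := hex
  have hnormal : ∀ Z : Subgroup G, Z.Normal := by
    intro Z
    refine ⟨fun n hn g => ?_⟩
    rw [hGcomm g n, mul_assoc, mul_inv_cancel, mul_one]
    exact hn
  have htop : ∀ Z ∈ K, Z = ⊤ := by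
    intro Z hZ
    rcases (hnormal Z).eq_bot_or_eq_top with h1 | h1
    · exfalso
      have := h.card Z hZ
      rw [h1, Subgroup.card_bot] at this
      exact h.hp.one_lt.ne this
    · exact h1
  exact hne ((htop X hX).trans (htop Y hY).symm)

end Final

end Cfsg.Agent.H2.PointFamily
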