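import Mathlib
import Cfsg.Agent.H2.ItoTwo

set_option autoImplicit false

/-!
# Groups all of whose conjugacy classes have size one or a prime
-/

namespace Cfsg.Agent.H2.PrimeClasses

open Cfsg.Agent.H2.ItoTwo

variable {G : Type*} [Group G]

/-- a subgroup of prime index is maximal -/
theorem eq_or_eq_top_of_prime_index {M L : Subgroup G} (hp : M.index.Prime) (hML : M ≤ L) :
    L = M ∨ L = ⊤ := by
  have h1 := Subgroup.relIndex_mul_index hML
  rcases (Nat.dvd_prime hp).mp (Dvd.intro_left _ h1) with h2 | h2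
  · right
    exact Subgroup.index_eq_one.mp h2
  · left
    rw [h2] at h1
    have hpos : 0 < M.index := hp.pos
    have h3 : M.relIndex L = 1 := by
      have : M.relIndex L * M.index = 1 * M.index := by rw [h1, one_mul]
      exact Nat.eq_of_mul_eq_mul_right hpos this
    exact le_antisymm (Subgroup.relIndex_eq_one.mp h3) hML

/-- a subgroup of prime index contained in a proper subgroup equals it -/
theorem le_of_prime_index {A M : Subgroup G} (hA : A.index.Prime) (hM : M.index ≠ 1)
    (hle : A ≤ M) : M ≤ A := by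
  have h1 := Subgroup.relIndex_mul_index hle
  have h3 : A.relIndex M = 1 := by
    rcases (Nat.dvd_prime hA).mp (Dvd.intro _ h1) with h4 | h4
    · exact h4
    · rw [h4] at h1
      have hpos : 0 < A.index := hA.pos
      have : M.index = 1 := by
        have : A.index * M.index = A.index * 1 := by rw [h1, mul_one]
        exact Nat.eq_of_mul_eq_mul_left hpos this
      exact absurd this hM
  exact Subgroup.relIndex_eq_one.mp h3

/-- if `H` maps onto the cosets of `M` then `G = H M` -/
theorem exists_mul_of_relIndex_eq [Finite G] (H M : Subgroup G) (h : M.relIndex H = M.index) :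
    ∀ g : G, ∃ a ∈ H, ∃ m ∈ M, g = a * m := by
  intro g
  have hinj := (Subgroup.quotientSubgroupOfEmbeddingOfLE M (le_top : H ≤ ⊤)).injective
  have hcard : Nat.card ((⊤ : Subgroup G) ⧸ M.subgroupOf ⊤) ≤ Nat.card (H ⧸ M.subgroupOf H) := by
    change M.relIndex ⊤ ≤ M.relIndex H
    rw [Subgroup.relIndex_top_right, h]
  have hsurj := (Function.Injective.bijective_of_nat_card_le hinj hcard).2
  obtain ⟨q, hq⟩ := hsurj (QuotientGroup.mk ⟨g, Subgroup.mem_top g⟩)
  obtain ⟨a, rfl⟩ := QuotientGroup.mk_surjective q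
  rw [Subgroup.quotientSubgroupOfEmbeddingOfLE_apply_mk, QuotientGroup.eq,
    Subgroup.mem_subgroupOf] at hq
  refine ⟨a, a.2, (a : G)⁻¹ * g, ?_, by group⟩
  simpa using hq

section Main

variable [Finite G] {M : Subgroup G} {p : ℕ} [Fact p.Prime]

/-- a `p`-element outside `M` whose powers represent all cosets of `M` -/
theorem exists_transversal_element (hM : M.index = p) :
    ∃ σ : G, σ ∉ M ∧ M.relIndex (Subgroup.zpowers σ) = p ∧
      ∀ g : G, ∃ a ∈ Subgroup.zpowers σ, ∃ m ∈ M, g = a * m := by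
  have hp : p.Prime := Fact.out
  obtain ⟨P⟩ : Nonempty (Sylow p G) := inferInstance
  have hPM : ¬ (P : Subgroup G) ≤ M := by
    intro hle
    apply P.not_dvd_index
    have := Subgroup.index_dvd_of_le hle
    rwa [hM] at this
  obtain ⟨σ, hσP, hσM⟩ := SetLike.not_le_iff_exists.mp hPM
  suffices hrel : M.relIndex (Subgroup.zpowers σ) = p from
    ⟨σ, hσM, hrel, exists_mul_of_relIndex_eq _ _ (hrel.trans hM.symm)⟩
  -- the relative index is a power of `p`, not `1`, and at most `p`
  obtain ⟨e, he⟩ := P.isPGroup' ⟨σ, hσP⟩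
  have hσe : σ ^ (p ^ e) = 1 := congrArg Subtype.val he
  have h1 : M.relIndex (Subgroup.zpowers σ) ∣ p ^ e := by
    apply (Subgroup.relIndex_dvd_card M (Subgroup.zpowers σ)).trans
    rw [Nat.card_zpowers]
    exact orderOf_dvd_of_pow_eq_one hσe
  obtain ⟨b, -, hb⟩ := (Nat.dvd_prime_pow hp).mp h1
  have h2 : M.relIndex (Subgroup.zpowers σ) ≠ 1 := by
    intro h
    apply hσM
    exact Subgroup.relIndex_eq_one.mp h (Subgroup.mem_zpowers σ)
  have h3 : M.relIndex (Subgroup.zpowers σ) ≤ M.index := by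
    have := Subgroup.relIndex_le_of_le_right (H := M) (le_top : Subgroup.zpowers σ ≤ ⊤)
      (by rw [Subgroup.relIndex_top_right, hM]; exact hp.ne_zero)
    rwa [Subgroup.relIndex_top_right] at this
  rw [hM] at h3
  rw [hb] at h2 h3 ⊢
  have hb0 : b ≠ 0 := by
    rintro rfl
    exact h2 (pow_zero p)
  have hb1 : b ≤ 1 := by
    by_contra hc
    push Not at hc
    have : p ^ 2 ≤ p ^ b := Nat.pow_le_pow_right hp.pos hc
    have h4 : p < p ^ 2 := by
      have := hp.two_le
      nlinarith
    omega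
  have : b = 1 := by omega
  rw [this, pow_one]

/-- `σ ^ p` lies in the core of `M` -/
theorem pow_mem_normalCore {σ : G} (hrel : M.relIndex (Subgroup.zpowers σ) = p)
    (hT : ∀ g : G, ∃ a ∈ Subgroup.zpowers σ, ∃ m ∈ M, g = a * m) :
    σ ^ p ∈ M.normalCore := by
  have hσp : σ ^ p ∈ M := by
    have hn : (M.subgroupOf (Subgroup.zpowers σ)).Normal := inferInstance
    have := Subgroup.pow_index_mem (M.subgroupOf (Subgroup.zpowers σ))
      (⟨σ, Subgroup.mem_zpowers σ⟩ : Subgroup.zpowers σ)
    change _ ^ (M.relIndex (Subgroup.zpowers σ)) ∈ _ at this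
    rw [hrel, Subgroup.mem_subgroupOf] at this
    simpa using this
  intro b
  obtain ⟨a, ha, m, hm, hb⟩ := hT b⁻¹
  obtain ⟨i, rfl⟩ := Subgroup.mem_zpowers_iff.mp ha
  have hb' : b = m⁻¹ * (σ ^ i)⁻¹ := by
    rw [← inv_inv b, hb]; group
  have hcomm : (σ ^ i)⁻¹ * σ ^ p * σ ^ i = σ ^ p := by
    have : Commute (σ ^ i) (σ ^ p) := (Commute.refl σ).zpow_left i |>.pow_right p
    rw [mul_assoc, ← this.eq]; group
  have : b * σ ^ p * b⁻¹ = m⁻¹ * ((σ ^ i)⁻¹ * σ ^ p * σ ^ i) * m := by
    rw [hb']; group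
  rw [this, hcomm]
  exact M.mul_mem (M.mul_mem (M.inv_mem hm) hσp) hm

/-- the centralizer of `σ` lies in `⟨σ⟩ K` -/
theorem centralizer_le_sup {σ : G}
    (hT : ∀ g : G, ∃ a ∈ Subgroup.zpowers σ, ∃ m ∈ M, g = a * m) :
    Cx σ ≤ Subgroup.zpowers σ ⊔ M.normalCore := by
  intro c hc
  rw [mem_Cx] at hc
  obtain ⟨a, ha, m, hm, hcam⟩ := hT c
  obtain ⟨i, rfl⟩ := Subgroup.mem_zpowers_iff.mp ha
  have hmσ : m * σ = σ * m := by
    have hm' : m = (σ ^ i)⁻¹ * c := by rw [hcam]; group
    have h1 : Commute c σ := hc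
    have h2 : Commute ((σ ^ i)⁻¹) σ := ((Commute.refl σ).zpow_left i).inv_left
    rw [hm']
    exact (h2.mul_left h1).eq
  have hmK : m ∈ M.normalCore := by
    intro b
    obtain ⟨a', ha', m', hm', hb⟩ := hT b⁻¹
    obtain ⟨j, rfl⟩ := Subgroup.mem_zpowers_iff.mp ha'
    have hb' : b = m'⁻¹ * (σ ^ j)⁻¹ := by
      rw [← inv_inv b, hb]; group
    have hcomm : (σ ^ j)⁻¹ * m * σ ^ j = m := by
      have : Commute m (σ ^ j) := (show Commute m σ from hmσ).zpow_right j
      rw [mul_assoc, this.eq]; group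
    have : b * m * b⁻¹ = m'⁻¹ * ((σ ^ j)⁻¹ * m * σ ^ j) * m' := by
      rw [hb']; group
    rw [this, hcomm]
    exact M.mul_mem (M.mul_mem (M.inv_mem hm') hm) hm'
  rw [hcam]
  exact Subgroup.mul_mem _ (Subgroup.mem_sup_left (Subgroup.mem_zpowers_iff.mpr ⟨i, rfl⟩))
    (Subgroup.mem_sup_right hmK)

/-- the index of the core of `M` in `M` is one or a prime -/
theorem relIndex_normalCore (hM : M.index = p)
    (h : ∀ x : G, (Cx x).index = 1 ∨ (Cx x).index.Prime) :
    M.normalCore.relIndex M = 1 ∨ (M.normalCore.relIndex M).Prime := by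
  have hp : p.Prime := Fact.out
  obtain ⟨σ, hσM, hrel, hT⟩ := exists_transversal_element hM
  obtain ⟨K, hK⟩ : ∃ K, K = M.normalCore := ⟨_, rfl⟩
  have hKn : K.Normal := hK ▸ M.normalCore_normal
  have hKM : K ≤ M := hK ▸ M.normalCore_le
  obtain ⟨L, hL⟩ : ∃ L, L = Subgroup.zpowers σ ⊔ K := ⟨_, rfl⟩
  have hCL : Cx σ ≤ L := by rw [hL, hK]; exact centralizer_le_sup hT
  have hσpK : σ ^ p ∈ K := hK ▸ pow_mem_normalCore hrel hT
  have hσK : σ ∉ K := fun hc => hσM (hKM hc)
  -- `K` has index `p` in `L`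
  have h1 : K.relIndex L = p := by
    rw [hL, Subgroup.relIndex_sup_right]
    have h2 := Subgroup.relIndex_ker (Subgroup.zpowers σ) (QuotientGroup.mk' K)
    rw [QuotientGroup.ker_mk'] at h2
    rw [h2, MonoidHom.map_zpowers, Nat.card_zpowers]
    apply orderOf_eq_prime
    · rw [← map_pow]
      exact (QuotientGroup.eq_one_iff _).mpr hσpK
    · intro hc
      exact hσK ((QuotientGroup.eq_one_iff _).mp hc)
  have hKL : K ≤ L := hL ▸ le_sup_right
  have h3 := Subgroup.relIndex_mul_index hKL
  have h4 := Subgroup.relIndex_mul_index hKM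
  rw [h1] at h3
  rw [hM] at h4
  have h5 : L.index = K.relIndex M := by
    have : p * L.index = p * K.relIndex M := by rw [h3, ← h4, mul_comm]
    exact Nat.eq_of_mul_eq_mul_left hp.pos this
  have h6 : L.index ∣ (Cx σ).index := Subgroup.index_dvd_of_le hCL
  rw [← hK, ← h5]
  rcases h σ with h7 | h7
  · left
    rw [h7] at h6
    exact Nat.dvd_one.mp h6
  · rcases (Nat.dvd_prime h7).mp h6 with h8 | h8
    · left; exact h8
    · right; rw [h8]; exact h7

end Main

section Core

variable [Finite G]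

omit [Finite G] in
/-- a non-normal subgroup of prime index is self-normalizing, elementwise form -/
theorem mem_of_conj_mem {M : Subgroup G} (hp : M.index.Prime) (hn : ¬ M.Normal) {c : G}
    (h1 : ∀ m ∈ M, c * m * c⁻¹ ∈ M) (h2 : ∀ m ∈ M, c⁻¹ * m * c ∈ M) : c ∈ M := by
  have hN : Subgroup.normalizer (M : Set G) = M := by
    rcases eq_or_eq_top_of_prime_index hp (Subgroup.le_normalizer (H := M)) with h | h
    · exact h
    · exact absurd (Subgroup.normalizer_eq_top_iff.mp h) hn
  rw [← hN, Subgroup.mem_normalizer_iff]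
  intro m
  constructor
  · exact h1 m
  · intro hm
    have := h2 _ hm
    have e : c⁻¹ * (c * m * c⁻¹) * c = m := by group
    rwa [e] at this

omit [Finite G] in
theorem normal_of_quotient_comm {N M : Subgroup G} [N.Normal] (hNM : N ≤ M)
    (hc : ∀ a b : G ⧸ N, a * b = b * a) : M.Normal := by
  constructor
  intro m hm g
  have h1 : (QuotientGroup.mk (g * m * g⁻¹ * m⁻¹) : G ⧸ N) = 1 := by
    simp only [QuotientGroup.mk_mul, QuotientGroup.mk_inv]
    rw [hc (QuotientGroup.mk g) (QuotientGroup.mk m)]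
    group
  have h2 : g * m * g⁻¹ * m⁻¹ ∈ M := hNM ((QuotientGroup.eq_one_iff _).mp h1)
  have h3 : g * m * g⁻¹ = (g * m * g⁻¹ * m⁻¹) * m := by group
  rw [h3]
  exact M.mul_mem h2 hm

/-- the core together with an element outside it generates `M` when the index is prime -/
theorem sup_zpowers_eq {M : Subgroup G} (hq : (M.normalCore.relIndex M).Prime) {y : G}
    (hyM : y ∈ M) (hyK : y ∉ M.normalCore) : M ≤ M.normalCore ⊔ Subgroup.zpowers y := by
  have h1 : M.normalCore ≤ M.normalCore ⊔ Subgroup.zpowers y := le_sup_left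
  have h2 : M.normalCore ⊔ Subgroup.zpowers y ≤ M :=
    sup_le M.normalCore_le ((Subgroup.zpowers_le).mpr hyM)
  have h3 := Subgroup.relIndex_mul_relIndex _ _ _ h1 h2
  have h4 : M.normalCore.relIndex (M.normalCore ⊔ Subgroup.zpowers y) ≠ 1 := by
    intro h
    apply hyK
    exact Subgroup.relIndex_eq_one.mp h (Subgroup.mem_sup_right (Subgroup.mem_zpowers y))
  have h5 : (M.normalCore ⊔ Subgroup.zpowers y).relIndex M = 1 := by
    rcases (Nat.dvd_prime hq).mp (Dvd.intro_left _ h3) with h | h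
    · exact h
    · rw [h] at h3
      have hpos : 0 < M.normalCore.relIndex M := hq.pos
      have : M.normalCore.relIndex (M.normalCore ⊔ Subgroup.zpowers y) * M.normalCore.relIndex M =
          1 * M.normalCore.relIndex M := by rw [h3, one_mul]
      exact absurd (Nat.eq_of_mul_eq_mul_right hpos this) h4
  exact Subgroup.relIndex_eq_one.mp h5

/-- elements of `M` outside the core have centralizer `M` -/
theorem Cx_eq_of_mem_of_not_mem_core {M : Subgroup G} (hp : M.index.Prime) (hn : ¬ M.Normal)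
    (hZM : Subgroup.center G ≤ M) (hq : (M.normalCore.relIndex M).Prime)
    (h : ∀ x : G, (Cx x).index = 1 ∨ (Cx x).index.Prime) {y : G}
    (hyM : y ∈ M) (hyK : y ∉ M.normalCore) : Cx y = M := by
  have hgen := sup_zpowers_eq hq hyM hyK
  have hconj : ∀ c ∈ Cx y, ∀ m ∈ M, c * m * c⁻¹ ∈ M := by
    intro c hc m hm
    have hle : M.normalCore ⊔ Subgroup.zpowers y ≤ M.comap (MulAut.conj c).toMonoidHom := by
      apply sup_le
      · intro k hk
        rw [Subgroup.mem_comap]
        exact M.normalCore_le (M.normalCore_normal.conj_mem k hk c)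
      · rw [Subgroup.zpowers_le, Subgroup.mem_comap]
        change c * y * c⁻¹ ∈ M
        rw [mem_Cx.mp hc, mul_assoc, mul_inv_cancel, mul_one]
        exact hyM
    exact hle (hgen hm)
  have hle : Cx y ≤ M := by
    intro c hc
    apply mem_of_conj_mem hp hn (hconj c hc)
    intro m hm
    have := hconj c⁻¹ ((Cx y).inv_mem hc) m hm
    rwa [inv_inv] at this
  have hyZ : y ∉ Subgroup.center G := by
    intro hc
    apply hyK
    have hZn : (Subgroup.center G).Normal := inferInstance
    exact (Subgroup.normal_le_normalCore.mpr hZM) hc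
  have h1 := Subgroup.relIndex_mul_index hle
  have hpr : (Cx y).index.Prime := by
    rcases h y with h2 | h2
    · exact absurd (Cx_eq_top_iff.mp (Subgroup.index_eq_one.mp h2)) hyZ
    · exact h2
  have h3 : (Cx y).relIndex M = 1 := by
    rcases (Nat.dvd_prime hpr).mp (Dvd.intro _ h1) with h4 | h4
    · exact h4
    · rw [h4] at h1
      have hpos : 0 < (Cx y).index := hpr.pos
      have : M.index = 1 := by
        have : (Cx y).index * M.index = (Cx y).index * 1 := by rw [h1, mul_one]
        exact Nat.eq_of_mul_eq_mul_left hpos this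
      exact absurd this hp.ne_one
  exact le_antisymm hle (Subgroup.relIndex_eq_one.mp h3)

omit [Finite G] in
/-- a conjugate of `x` differing from `x` by a central factor equals `x` -/
theorem central_twist {x : G} (hp : (Cx x).index.Prime) (hn : ¬ (Cx x).Normal) {a z : G}
    (hz : z ∈ Subgroup.center G) (h : a * x * a⁻¹ = x * z) : z = 1 := by
  obtain ⟨A, hA⟩ : ∃ A : Subgroup G, ∀ g, g ∈ A ↔ ∃ z ∈ Subgroup.center G, g * x * g⁻¹ = x * z := by
    refine ⟨{ carrier := {g | ∃ z ∈ Subgroup.center G, g * x * g⁻¹ = x * z}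
              mul_mem' := ?_
              one_mem' := ⟨1, Subgroup.one_mem _, by group⟩
              inv_mem' := ?_ }, fun g => Iff.rfl⟩
    · rintro g g' ⟨z₁, hz₁, h₁⟩ ⟨z₂, hz₂, h₂⟩
      refine ⟨z₁ * z₂, Subgroup.mul_mem _ hz₁ hz₂, ?_⟩
      have hc : g * z₂ = z₂ * g := Subgroup.mem_center_iff.mp hz₂ g
      calc g * g' * x * (g * g')⁻¹ = g * (g' * x * g'⁻¹) * g⁻¹ := by group
        _ = g * (x * z₂) * g⁻¹ := by rw [h₂]
        _ = (g * x * g⁻¹) * (g * z₂ * g⁻¹) := by group
        _ = (x * z₁) * (z₂ * g * g⁻¹) := by rw [h₁, hc]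
        _ = x * (z₁ * z₂) := by group
    · rintro g ⟨z₁, hz₁, h₁⟩
      refine ⟨z₁⁻¹, Subgroup.inv_mem _ hz₁, ?_⟩
      have hc : g⁻¹ * z₁⁻¹ = z₁⁻¹ * g⁻¹ := Subgroup.mem_center_iff.mp (Subgroup.inv_mem _ hz₁) g⁻¹
      have hx : x = g⁻¹ * (x * z₁) * g := by rw [← h₁]; group
      calc g⁻¹ * x * g⁻¹⁻¹ = g⁻¹ * (x * z₁) * z₁⁻¹ * g := by group
        _ = g⁻¹ * (x * z₁) * (z₁⁻¹ * g) := by group
        _ = g⁻¹ * (x * z₁) * g * z₁⁻¹ := by
          have : z₁⁻¹ * g = g * z₁⁻¹ := (Subgroup.mem_center_iff.mp (Subgroup.inv_mem _ hz₁) g).symm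
          rw [this]; group
        _ = x * z₁⁻¹ := by rw [← hx]
  have hMA : Cx x ≤ A := by
    intro g hg
    rw [hA]
    refine ⟨1, Subgroup.one_mem _, ?_⟩
    rw [mem_Cx.mp hg]; group
  rcases eq_or_eq_top_of_prime_index hp hMA with hAM | hAtop
  · have ha : a ∈ Cx x := by
      rw [← hAM, hA]; exact ⟨z, hz, h⟩
    rw [mem_Cx.mp ha, mul_assoc, mul_inv_cancel, mul_one] at h
    exact (mul_eq_left.mp h.symm)
  · exfalso
    apply hn
    constructor
    intro m hm g
    have hg : g ∈ A := hAtop ▸ Subgroup.mem_top g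
    rw [hA] at hg
    obtain ⟨z', hz', hgz⟩ := hg
    have := (Cx_conj x g m).mp hm
    rwa [hgz, Cx_mul_central x z' hz'] at this

/-- **the core of a non-normal centralizer is central** -/
theorem normalCore_le_center {x : G} (hp : (Cx x).index.Prime) (hn : ¬ (Cx x).Normal)
    (hxK : x ∉ (Cx x).normalCore) (hq : ((Cx x).normalCore.relIndex (Cx x)).Prime)
    (h : ∀ y : G, (Cx y).index = 1 ∨ (Cx y).index.Prime) :
    (Cx x).normalCore ≤ Subgroup.center G := by
  obtain ⟨K, hK⟩ : ∃ K, K = (Cx x).normalCore := ⟨_, rfl⟩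
  have hKn : K.Normal := hK ▸ (Cx x).normalCore_normal
  have hKM : K ≤ Cx x := hK ▸ (Cx x).normalCore_le
  obtain ⟨X, hX⟩ : ∃ X, X = Subgroup.normalClosure ({x} : Set G) := ⟨_, rfl⟩
  have hXn : X.Normal := hX ▸ Subgroup.normalClosure_normal
  have hxX : x ∈ X := hX ▸ Subgroup.subset_normalClosure (Set.mem_singleton x)
  -- `K` centralizes `X`
  have hKX : ∀ k ∈ K, ∀ a ∈ X, a * k = k * a := by
    intro k hk
    have hle : X ≤ Cx k := by
      rw [hX, Subgroup.normalClosure]
      rw [Subgroup.closure_le]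
      intro a ha
      rw [Group.mem_conjugatesOfSet_iff] at ha
      obtain ⟨b, hb, hba⟩ := ha
      rw [Set.mem_singleton_iff] at hb
      subst hb
      rw [isConj_iff] at hba
      obtain ⟨c, rfl⟩ := hba
      rw [SetLike.mem_coe, mem_Cx]
      have h1 : c⁻¹ * k * c⁻¹⁻¹ ∈ Cx b := by
        have : k ∈ (Cx b).normalCore := hK ▸ hk
        exact this c⁻¹
      have h2 := (Cx_conj b c _).mp h1
      have e : c * (c⁻¹ * k * c⁻¹⁻¹) * c⁻¹ = k := by group
      rw [e] at h2
      exact (mem_Cx.mp h2).symm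
    intro a ha
    exact mem_Cx.mp (hle ha)
  -- `X K = G`
  have hXK : X ⊔ K = ⊤ := by
    have hgen := sup_zpowers_eq hq (self_mem_Cx x) hxK
    have hle : Cx x ≤ X ⊔ K := by
      apply hgen.trans
      rw [← hK]
      exact sup_le le_sup_right ((Subgroup.zpowers_le.mpr hxX).trans le_sup_left)
    rcases eq_or_eq_top_of_prime_index hp hle with h1 | h1
    · exfalso
      apply hn
      rw [← h1]
      infer_instance
    · exact h1
  have hdecomp : ∀ g : G, ∃ a ∈ X, ∃ b ∈ K, g = a * b := by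
    intro g
    have hg : g ∈ ((X ⊔ K : Subgroup G) : Set G) := by rw [hXK]; trivial
    rw [Subgroup.mul_normal X K] at hg
    obtain ⟨a, ha, b, hb, hab⟩ := hg
    exact ⟨a, ha, b, hb, hab.symm⟩
  -- `X ∩ K` is central
  have hXKc : ∀ w, w ∈ X → w ∈ K → w ∈ Subgroup.center G := by
    intro w hwX hwK
    rw [Subgroup.mem_center_iff]
    intro g
    obtain ⟨a, ha, b, hb, rfl⟩ := hdecomp g
    have h1 : a * w = w * a := hKX w hwK a ha
    have h2 : w * b = b * w := hKX b hb w hwX
    calc a * b * w = a * (b * w) := by group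
      _ = a * (w * b) := by rw [h2]
      _ = (a * w) * b := by group
      _ = (w * a) * b := by rw [h1]
      _ = w * (a * b) := by group
  rw [← hK]
  intro k hkK
  by_contra hkZ
  have hkx : k * x = x * k := mem_Cx.mp (hKM hkK)
  have key : ∀ g ∈ Cx (x * k), g ∈ Cx x ∧ g ∈ Cx k := by
    intro g hg
    obtain ⟨a, haX, b, hbK, rfl⟩ := hdecomp g
    have hbx : b * x = x * b := mem_Cx.mp (hKM hbK)
    have hbk : b * k * b⁻¹ ∈ K := hKn.conj_mem k hkK b
    have ha_bk : a * (b * k * b⁻¹) = (b * k * b⁻¹) * a := hKX _ hbk a haX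
    have hak : a * k = k * a := hKX k hkK a haX
    have hg' : a * b * (x * k) = x * k * (a * b) := mem_Cx.mp hg
    have e1 : (a * x * a⁻¹) * (b * k * b⁻¹) = x * k := by
      calc (a * x * a⁻¹) * (b * k * b⁻¹) = a * x * a⁻¹ * ((b * k * b⁻¹) * a) * a⁻¹ := by group
        _ = a * x * a⁻¹ * (a * (b * k * b⁻¹)) * a⁻¹ := by rw [ha_bk]
        _ = a * (x * b) * k * b⁻¹ * a⁻¹ := by group
        _ = a * (b * x) * k * b⁻¹ * a⁻¹ := by rw [hbx]
        _ = (a * b * (x * k)) * (a * b)⁻¹ := by group
        _ = (x * k * (a * b)) * (a * b)⁻¹ := by rw [hg']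
        _ = x * k := by group
    obtain ⟨z, hzdef⟩ : ∃ z, z = x⁻¹ * (a * x * a⁻¹) := ⟨_, rfl⟩
    have hz2 : z = k * (b * k * b⁻¹)⁻¹ := by
      rw [hzdef]
      calc x⁻¹ * (a * x * a⁻¹) = x⁻¹ * ((a * x * a⁻¹) * (b * k * b⁻¹)) * (b * k * b⁻¹)⁻¹ := by group
        _ = x⁻¹ * (x * k) * (b * k * b⁻¹)⁻¹ := by rw [e1]
        _ = k * (b * k * b⁻¹)⁻¹ := by group
    have hzX : z ∈ X := by
      rw [hzdef]
      exact X.mul_mem (X.inv_mem hxX) (hXn.conj_mem x hxX a)
    have hzK : z ∈ K := by
      rw [hz2]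
      exact K.mul_mem hkK (K.inv_mem hbk)
    have hzc : z ∈ Subgroup.center G := hXKc z hzX hzK
    have htw : a * x * a⁻¹ = x * z := by rw [hzdef]; group
    have hz1 : z = 1 := central_twist hp hn hzc htw
    have hax : a * x = x * a := by
      rw [hz1, mul_one] at htw
      calc a * x = a * x * a⁻¹ * a := by group
        _ = x * a := by rw [htw]
    have hbk' : b * k = k * b := by
      rw [hz1] at hz2
      have : b * k * b⁻¹ = k := by
        calc b * k * b⁻¹ = (k * (b * k * b⁻¹)⁻¹)⁻¹ * k := by group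
          _ = k := by rw [← hz2]; group
      calc b * k = b * k * b⁻¹ * b := by group
        _ = k * b := by rw [this]
    constructor
    · rw [mem_Cx]
      calc a * b * x = a * (b * x) := by group
        _ = a * (x * b) := by rw [hbx]
        _ = (a * x) * b := by group
        _ = (x * a) * b := by rw [hax]
        _ = x * (a * b) := by group
    · rw [mem_Cx]
      calc a * b * k = a * (b * k) := by group
        _ = a * (k * b) := by rw [hbk']
        _ = (a * k) * b := by group
        _ = (k * a) * b := by rw [hak]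
        _ = k * (a * b) := by group
  have hle : Cx (x * k) ≤ Cx x := fun g hg => (key g hg).1
  have hxkZ : x * k ∉ Subgroup.center G := by
    intro hc
    have h1 : Cx (x * k) = ⊤ := Cx_eq_top_iff.mpr hc
    rw [h1, top_le_iff] at hle
    apply hn
    rw [hle]
    infer_instance
  have hpr : (Cx (x * k)).index.Prime := by
    rcases h (x * k) with h2 | h2
    · exact absurd (Cx_eq_top_iff.mp (Subgroup.index_eq_one.mp h2)) hxkZ
    · exact h2
  have hge : Cx x ≤ Cx (x * k) := le_of_prime_index hpr hp.ne_one hle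
  have hMk : Cx x ≤ Cx k := fun g hg => (key g (hge hg)).2
  have hXk : X ≤ Cx k := fun a ha => mem_Cx.mpr (hKX k hkK a ha)
  have htop : (⊤ : Subgroup G) ≤ Cx k := by
    rw [← hXK]
    exact sup_le hXk (hKM.trans hMk)
  exact hkZ (Cx_eq_top_iff.mp (top_le_iff.mp htop))

omit [Finite G] in
theorem comm_mem_of_prime_index {N : Subgroup G} [N.Normal] (h : N.index = 1 ∨ N.index.Prime)
    (a b : G) : a * b * a⁻¹ * b⁻¹ ∈ N := by
  rcases h with h | h
  · rw [Subgroup.index_eq_one.mp h]; exact Subgroup.mem_top _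
  · have hf : Fact (N.index).Prime := ⟨h⟩
    have hcyc : IsCyclic (G ⧸ N) := isCyclic_of_prime_card (p := N.index) rfl
    obtain ⟨γ, hγ⟩ := IsCyclic.exists_generator (α := G ⧸ N)
    obtain ⟨i, hi⟩ := Subgroup.mem_zpowers_iff.mp (hγ (QuotientGroup.mk a))
    obtain ⟨j, hj⟩ := Subgroup.mem_zpowers_iff.mp (hγ (QuotientGroup.mk b))
    rw [← QuotientGroup.eq_one_iff]
    simp only [QuotientGroup.mk_mul, QuotientGroup.mk_inv]
    rw [← hi, ← hj]
    have : Commute (γ ^ i) (γ ^ j) := ((Commute.refl γ).zpow_left i).zpow_right j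
    rw [this.eq]; group

/-- **Main theorem**: class sizes one or prime. -/
theorem main (h : ∀ x : G, (Cx x).index = 1 ∨ (Cx x).index.Prime) :
    Subgroup.upperCentralSeries G 2 = ⊤ ∨
      ∃ p q : ℕ, p.Prime ∧ q.Prime ∧ p ≠ q ∧ Nat.card (G ⧸ Subgroup.center G) = p * q ∧
        ¬ IsMulCommutative (G ⧸ Subgroup.center G) := by
  by_cases hall : ∀ x : G, (Cx x).Normal
  · left
    rw [eq_top_iff]
    intro g _
    change g ∈ Subgroup.upperCentralSeries G (1 + 1)
    rw [Subgroup.mem_upperCentralSeries_succ_iff]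
    intro y
    rw [Subgroup.upperCentralSeries_one, Subgroup.mem_center_iff]
    intro x
    have hN := hall x
    have := comm_mem_of_prime_index (h x) g y
    rw [commutatorElement_def]
    exact (mem_Cx.mp this).symm
  · right
    push Not at hall
    obtain ⟨x, hn⟩ := hall
    have hidx : (Cx x).index ≠ 1 := by
      intro h1
      apply hn
      rw [Subgroup.index_eq_one.mp h1]
      infer_instance
    have hp : (Cx x).index.Prime := by
      rcases h x with h1 | h1
      · exact absurd h1 hidx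
      · exact h1
    have hf : Fact (Cx x).index.Prime := ⟨hp⟩
    have hKM : (Cx x).normalCore ≤ Cx x := (Cx x).normalCore_le
    have hq : ((Cx x).normalCore.relIndex (Cx x)).Prime := by
      rcases relIndex_normalCore (M := Cx x) (p := (Cx x).index) rfl h with h1 | h1
      · exfalso
        apply hn
        have : Cx x = (Cx x).normalCore := le_antisymm (Subgroup.relIndex_eq_one.mp h1) hKM
        rw [this]
        infer_instance
      · exact h1
    have hnle : ¬ Cx x ≤ (Cx x).normalCore := by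
      intro hle
      exact hq.ne_one (Subgroup.relIndex_eq_one.mpr hle)
    obtain ⟨y, hyM, hyK⟩ := SetLike.not_le_iff_exists.mp hnle
    have hCy : Cx y = Cx x :=
      Cx_eq_of_mem_of_not_mem_core hp hn (center_le_Cx x) hq h hyM hyK
    have hKZ : (Cx x).normalCore ≤ Subgroup.center G := by
      have := normalCore_le_center (x := y) (by rw [hCy]; exact hp) (by rw [hCy]; exact hn)
        (by rw [hCy]; exact hyK) (by rw [hCy]; exact hq) h
      rwa [hCy] at this
    have hZK : Subgroup.center G ≤ (Cx x).normalCore :=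
      Subgroup.normal_le_normalCore.mpr (center_le_Cx x)
    have hKeq : (Cx x).normalCore = Subgroup.center G := le_antisymm hKZ hZK
    have hcard : Nat.card (G ⧸ Subgroup.center G) =
        (Cx x).normalCore.relIndex (Cx x) * (Cx x).index := by
      change (Subgroup.center G).index = _
      rw [← hKeq]
      exact (Subgroup.relIndex_mul_index hKM).symm
    refine ⟨_, _, hq, hp, ?_, hcard, ?_⟩
    · intro hpq
      apply hn
      have hc2 : Nat.card (G ⧸ (Cx x).normalCore) = (Cx x).index ^ 2 := by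
        change ((Cx x).normalCore).index = _
        rw [← Subgroup.relIndex_mul_index hKM, hpq, sq]
      exact normal_of_quotient_comm hKM
        (IsPGroup.commutative_of_card_eq_prime_sq (p := (Cx x).index) hc2)
    · intro hc
      apply hn
      exact normal_of_quotient_comm (center_le_Cx x) (fun a b => hc.is_comm.comm a b)

end Core

end Cfsg.Agent.H2.PrimeClasses
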