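import Mathlib
import Cfsg.Prelude.Def_Local
import Cfsg.Agent.H2.FStar

/-!
# A primitive subgroup meeting `F*(N)` for a normal subgroup `N`
-/

set_option autoImplicit false
open scoped commutatorElement

namespace Cfsg.Agent.H2.PrimFs

variable {G : Type*} [Group G] [Finite G]

theorem main (M : Subgroup G) (hM : M ≠ ⊤)
    (hprim : ∀ N : Subgroup G, N ≤ M → M ≤ Subgroup.normalizer (N : Set G) → N ≠ ⊥ →
      Subgroup.normalizer (N : Set G) = M)
    (N : Subgroup G) [hNn : N.Normal]
    (hMF : M ⊓ (Cfsg.generalizedFittingSubgroup ↥N).map N.subtype ≠ ⊥) :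
    Cfsg.fittingSubgroup G = ⊥ ∧
    (Cfsg.generalizedFittingSubgroup ↥N).map N.subtype = Cfsg.generalizedFittingSubgroup G ∧
    Cfsg.generalizedFittingSubgroup G = Cfsg.layer G ∧
    ∀ K : Subgroup G, K.Normal → K ≠ ⊥ →
      (∀ K' : Subgroup G, K'.Normal → K' ≤ K → K' = ⊥ ∨ K' = K) → K ≤ N := by
  have hNsn : N.IsSubnormal := hNn.isSubnormal
  obtain ⟨X, hX⟩ : ∃ X : Subgroup G, X = (Cfsg.generalizedFittingSubgroup ↥N).map N.subtype :=
    ⟨_, rfl⟩
  rw [← hX] at hMF ⊢
  have hXeq : X = Cfsg.generalizedFittingSubgroup G ⊓ N := by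
    rw [hX]; exact Cfsg.Agent.H2.map_generalizedFittingSubgroup_eq_of_isSubnormal hNsn
  have hXN : X ≤ N := by rw [hXeq]; exact inf_le_right
  have hXn : X.Normal := by rw [hXeq]; infer_instance
  -- `N_G(M ∩ X) = M`
  have hA : Subgroup.normalizer ((M ⊓ X : Subgroup G) : Set G) = M := by
    apply hprim _ inf_le_left _ hMF
    refine le_trans (le_inf Subgroup.le_normalizer ?_) Subgroup.inf_normalizer_le_normalizer_inf
    rw [Subgroup.normalizer_eq_top_iff.mpr hXn]
    exact le_top
  -- Step A
  have stepA : ∀ K : Subgroup G, K.Normal →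
      K ≤ Subgroup.centralizer ((M ⊓ X : Subgroup G) : Set G) → K = ⊥ := by
    intro K hKn hK
    by_contra hne
    have hKM : K ≤ M := by
      rw [← hA]; exact hK.trans (Subgroup.centralizer_le_normalizer _)
    have h1 := hprim K hKM (by rw [Subgroup.normalizer_eq_top_iff.mpr hKn]; exact le_top) hne
    rw [Subgroup.normalizer_eq_top_iff.mpr hKn] at h1
    exact hM h1.symm
  -- Step B
  have stepB : ∀ K : Subgroup G, K.Normal → K ⊓ N = ⊥ → K = ⊥ := by
    intro K hKn hKN
    apply stepA K hKn
    have h1 : ⁅K, N⁆ = ⊥ := by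
      rw [eq_bot_iff, ← hKN]; exact Subgroup.commutator_le_inf K N
    have h2 : K ≤ Subgroup.centralizer (N : Set G) :=
      Subgroup.commutator_eq_bot_iff_le_centralizer.mp h1
    exact h2.trans (Subgroup.centralizer_le (inf_le_right.trans hXN))
  -- Step C : `F(G) = 1`
  have hFG : Cfsg.fittingSubgroup G = ⊥ := by
    by_contra hne
    have hnil : Group.IsNilpotent (Cfsg.fittingSubgroup G) :=
      Cfsg.Agent.H1.fittingSubgroup_nilpotent
    have hnt : Nontrivial (Cfsg.fittingSubgroup G) :=
      (Subgroup.nontrivial_iff_ne_bot _).mpr hne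
    have hZne : (Subgroup.center (Cfsg.fittingSubgroup G)).map (Cfsg.fittingSubgroup G).subtype
        ≠ ⊥ := by
      intro h
      exact Group.IsNilpotent.center_ne_bot (Cfsg.fittingSubgroup G)
        ((Subgroup.map_eq_bot_iff_of_injective _ (Subgroup.subtype_injective _)).mp h)
    obtain ⟨Z, hZ⟩ : ∃ Z : Subgroup G, Z = (Subgroup.center (Cfsg.fittingSubgroup G)).map
      (Cfsg.fittingSubgroup G).subtype := ⟨_, rfl⟩
    rw [← hZ] at hZne
    have hZn : Z.Normal := by
      rw [hZ]; exact Cfsg.Agent.H2.map_subtype_center_normal _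
    have hZF : Z ≤ Subgroup.centralizer ((Cfsg.fittingSubgroup G : Subgroup G) : Set G) := by
      intro z hz
      rw [hZ] at hz
      rw [Subgroup.mem_centralizer_iff]
      intro f hf
      exact (((Cfsg.Agent.H2.mem_map_subtype_center_iff _ z).mp hz).2 f hf)
    have hZab : ∀ a ∈ Z, ∀ b ∈ Z, a * b = b * a := by
      intro a ha b hb
      have hbF : b ∈ Cfsg.fittingSubgroup G := by
        rw [hZ] at hb; exact Subgroup.map_subtype_le _ hb
      exact (Subgroup.mem_centralizer_iff.mp (hZF ha) b hbF).symm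
    have hZ1n : (Z ⊓ N).Normal := inferInstance
    have hZ1ne : Z ⊓ N ≠ ⊥ := fun h => hZne (stepB Z hZn h)
    apply hZ1ne
    apply stepA _ hZ1n
    refine le_trans ?_ (Subgroup.centralizer_le (show ((M ⊓ X : Subgroup G) : Set G) ⊆ X from
      inf_le_right))
    rw [Subgroup.le_centralizer_iff, hX, Cfsg.Agent.H2.map_generalizedFittingSubgroup]
    apply sup_le
    · -- the layer part
      have hsolv : Group.IsSolvable (Z ⊓ N : Subgroup G) := by
        have hc : ∀ a b : (Z ⊓ N : Subgroup G), a * b = b * a := by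
          intro a b
          apply Subtype.ext
          exact hZab a a.2.1 b b.2.1
        let _ : CommGroup (Z ⊓ N : Subgroup G) :=
          { (inferInstance : Group (Z ⊓ N : Subgroup G)) with mul_comm := hc }
        infer_instance
      have h1 := Cfsg.Agent.H2.layer_commutator_normal_solvable (Z ⊓ N) hsolv
      have h2 : ⁅(Cfsg.layer ↥N).map N.subtype, Z ⊓ N⁆ = ⊥ := by
        rw [eq_bot_iff, ← h1]
        exact Subgroup.commutator_mono
          (Cfsg.Agent.H2.layer_map_subtype_le_of_isSubnormal hNsn) le_rfl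
      exact Subgroup.commutator_eq_bot_iff_le_centralizer.mp h2
    · -- the Fitting part
      have h1 : (Cfsg.fittingSubgroup ↥N).map N.subtype ≤ Cfsg.fittingSubgroup G :=
        Cfsg.Agent.H2.fittingSubgroup_map_subtype_le_of_isSubnormal hNsn
      have h2 : Z ⊓ N ≤ Subgroup.centralizer
          (((Cfsg.fittingSubgroup ↥N).map N.subtype : Subgroup G) : Set G) :=
        inf_le_left.trans (hZF.trans (Subgroup.centralizer_le h1))
      exact Subgroup.le_centralizer_iff.mp h2
  have hFs : Cfsg.generalizedFittingSubgroup G = Cfsg.layer G := by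
    unfold Cfsg.generalizedFittingSubgroup
    rw [hFG, sup_bot_eq]
  refine ⟨hFG, ?_, hFs, ?_⟩
  · rw [hXeq, inf_eq_left, hFs]
    apply Cfsg.Agent.H2.layer_le_iff.mpr
    intro L hL
    rcases Cfsg.Agent.H2.component_le_or_commutator_eq_bot L N hL hNsn with h | h
    · exact h
    · exfalso
      have h1 : L ≤ Subgroup.centralizer (N : Set G) :=
        Subgroup.commutator_eq_bot_iff_le_centralizer.mp h
      have h2 : Subgroup.normalClosure (L : Set G) ≤ Subgroup.centralizer (N : Set G) :=
        Subgroup.normalClosure_le_normal h1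
      have h3 := stepA _ Subgroup.normalClosure_normal
        (h2.trans (Subgroup.centralizer_le (inf_le_right.trans hXN)))
      have h4 : L ≤ ⊥ := h3 ▸ Subgroup.le_normalClosure
      exact Cfsg.Agent.H2.quasisimple_ne_bot hL.2 (le_bot_iff.mp h4)
  · intro K hKn hKne hKmin
    have hKNn : (K ⊓ N).Normal := inferInstance
    rcases hKmin (K ⊓ N) hKNn inf_le_left with h | h
    · exact absurd (stepB K hKn h) hKne
    · exact inf_eq_left.mp h

end Cfsg.Agent.H2.PrimFs
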