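import Mathlib
import Cfsg.Agent.H2.MaxMaxTransfer

/-!
# A simple group is generated by two conjugates of a prime-index normal subgroup of a maximal
subgroup

(author: helper2)
-/

set_option autoImplicit false

namespace Cfsg.Agent.H2.TwoConj

open Cfsg.Agent.H2.MaxMax

variable {G : Type*} [Group G]

theorem cj_cj (x y : G) (H : Subgroup G) : cj x (cj y H) = cj (x * y) H := by
  ext z
  rw [mem_cj, mem_cj, mem_cj]
  have : y⁻¹ * (x⁻¹ * z * x) * y = (x * y)⁻¹ * z * (x * y) := by group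
  rw [this]

theorem cj_one (H : Subgroup G) : cj 1 H = H := by
  ext z
  rw [mem_cj]
  simp

theorem cj_mono (x : G) {H K : Subgroup G} (h : H ≤ K) : cj x H ≤ cj x K :=
  Subgroup.map_mono h

theorem cj_inj {x : G} {H K : Subgroup G} (h : cj x H = cj x K) : H = K :=
  Subgroup.map_injective (MulAut.conj x).injective h

theorem cj_top (x : G) : cj x (⊤ : Subgroup G) = ⊤ := by
  ext z
  rw [mem_cj]
  simp

theorem cj_of_mem_normalizer {x : G} {H : Subgroup G}
    (hx : x ∈ Subgroup.normalizer (H : Set G)) : cj x H = H :=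
  mem_normalizer_iff_cj.mp hx

/-- a subgroup of prime index is a coatom -/
theorem isCoatom_of_prime_index {M : Type*} [Group M] (K : Subgroup M) (hK : K.index.Prime) :
    IsCoatom K := by
  constructor
  · intro h
    rw [h, Subgroup.index_top] at hK
    exact Nat.not_prime_one hK
  · intro L hL
    have h1 : K.relIndex L * L.index = K.index := Subgroup.relIndex_mul_index hL.le
    have h2 : L.index ∣ K.index := Dvd.intro_left _ h1
    rcases (Nat.dvd_prime hK).mp h2 with h3 | h3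
    · exact Subgroup.index_eq_one.mp h3
    · exfalso
      rw [h3] at h1
      have h4 : K.relIndex L = 1 := by
        have hpos : 0 < K.index := hK.pos
        exact Nat.eq_of_mul_eq_mul_right hpos (by rw [h1, one_mul])
      exact hL.not_ge (Subgroup.relIndex_eq_one.mp h4)

/-- closure lemma: a set containing `1` and closed under right multiplication by two subgroups
with join `⊤` is everything -/
theorem eq_univ_of_right_closed (A B : Subgroup G) (hAB : A ⊔ B = ⊤) (𝒢 : Set G)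
    (h1 : (1 : G) ∈ 𝒢) (hA : ∀ u ∈ 𝒢, ∀ m ∈ A, u * m ∈ 𝒢) (hB : ∀ u ∈ 𝒢, ∀ m ∈ B, u * m ∈ 𝒢) :
    ∀ v : G, v ∈ 𝒢 := by
  have key : ∀ v ∈ Subgroup.closure ((A : Set G) ∪ (B : Set G)), ∀ u ∈ 𝒢, u * v ∈ 𝒢 := by
    intro v hv
    induction hv using Subgroup.closure_induction'' with
    | one => intro u hu; rwa [mul_one]
    | mem x hx =>
      intro u hu
      rcases hx with hx | hx
      · exact hA u hu x hx
      · exact hB u hu x hx
    | inv_mem x hx =>
      intro u hu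
      rcases hx with hx | hx
      · exact hA u hu _ (A.inv_mem hx)
      · exact hB u hu _ (B.inv_mem hx)
    | mul x y _ _ hx hy =>
      intro u hu
      rw [← mul_assoc]
      exact hy _ (hx u hu)
  intro v
  have hv : v ∈ Subgroup.closure ((A : Set G) ∪ (B : Set G)) := by
    rw [Subgroup.closure_union, Subgroup.closure_eq, Subgroup.closure_eq, hAB]
    trivial
  have := key v hv 1 h1
  rwa [one_mul] at this


section core

variable [Finite G]

/-- the core closure argument: if some conjugate `cj g H ≠ H` lies in `M`, then `cj g H` and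
`cj g⁻¹ H` generate `G` -/
theorem gen_of_not_weakly_closed (H M : Subgroup G) (hHM : H ≤ M)
    (hmaxM : IsCoatom M)
    (hdich : ∀ L : Subgroup G, H ≤ L → L ≤ M → L = H ∨ L = M)
    (hnormH : Subgroup.normalizer (H : Set G) = M)
    (hnormM : Subgroup.normalizer (M : Set G) = M)
    (hNC : Subgroup.normalClosure (H : Set G) = ⊤)
    (g : G) (hgM : cj g H ≤ M) (hgH : cj g H ≠ H) :
    cj g H ⊔ cj g⁻¹ H = ⊤ := by
  by_contra hX
  obtain ⟨X, hXdef⟩ : ∃ X, X = cj g H ⊔ cj g⁻¹ H := ⟨_, rfl⟩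
  rw [← hXdef] at hX
  have hXg : cj g H ≤ X := hXdef ▸ le_sup_left
  have hXg' : cj g⁻¹ H ≤ X := hXdef ▸ le_sup_right
  obtain ⟨D, hD⟩ : ∃ D : Set G, D = {t | ∃ m ∈ M, ∃ m' ∈ M, t = m * g * m'} := ⟨_, rfl⟩
  have hDM : ∀ t ∈ D, ∀ m ∈ M, ∀ m' ∈ M, m * t * m' ∈ D := by
    intro t ht m hm m' hm'
    rw [hD] at ht ⊢
    obtain ⟨m₁, hm₁, m₂, hm₂, rfl⟩ := ht
    exact ⟨m * m₁, M.mul_mem hm hm₁, m₂ * m', M.mul_mem hm₂ hm', by group⟩
  have hgD : g ∈ D := by rw [hD]; exact ⟨1, M.one_mem, 1, M.one_mem, by group⟩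
  have hcjH : ∀ m ∈ M, cj m H = H := by
    intro m hm
    apply cj_of_mem_normalizer
    rw [hnormH]; exact hm
  have hcjM : ∀ m ∈ M, cj m M = M := by
    intro m hm
    apply cj_of_mem_normalizer
    rw [hnormM]; exact hm
  have hDa : ∀ t ∈ D, cj t H ≤ M ∧ cj t H ≠ H := by
    intro t ht
    rw [hD] at ht
    obtain ⟨m, hm, m', hm', rfl⟩ := ht
    have h1 : cj (m * g * m') H = cj m (cj g H) := by
      rw [← cj_cj, ← cj_cj, hcjH m' hm']
    rw [h1]
    constructor
    · calc cj m (cj g H) ≤ cj m M := cj_mono m hgM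
        _ = M := hcjM m hm
    · intro h2
      apply hgH
      have : cj m (cj g H) = cj m H := by rw [h2, hcjH m hm]
      exact cj_inj this
  have hDsup : ∀ t ∈ D, H ⊔ cj t H = M := by
    intro t ht
    rcases hdich (H ⊔ cj t H) le_sup_left (sup_le hHM (hDa t ht).1) with h | h
    · exfalso
      apply (hDa t ht).2
      apply cj_eq_of_le
      calc cj t H ≤ H ⊔ cj t H := le_sup_right
        _ = H := h
    · exact h
  have hsplit : ∀ x y : G, cj x H = cj y (cj (y⁻¹ * x) H) := by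
    intro x y
    rw [cj_cj]
    congr 1
    group
  have hA1 : ∀ x y : G, y⁻¹ * x ∈ D → cj x H ≤ cj y M := by
    intro x y hxy
    rw [hsplit x y]
    exact cj_mono y (hDa _ hxy).1
  have hA2 : ∀ x y : G, y⁻¹ * x ∈ D → cj y M = cj y H ⊔ cj x H := by
    intro x y hxy
    rw [hsplit x y, ← cj_sup, hDsup _ hxy]
  have hmv : ∀ (y m : G), m ∈ cj y M → ∃ m₁ ∈ M, m * y = y * m₁ := by
    intro y m hm
    exact ⟨y⁻¹ * m * y, mem_cj.mp hm, by group⟩
  have hcjyH : ∀ (y m₁ : G), m₁ ∈ M → cj (y * m₁) H = cj y H := by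
    intro y m₁ hm₁
    rw [← cj_cj, hcjH m₁ hm₁]
  have hnormy : ∀ y : G, cj y M ≤ Subgroup.normalizer ((cj y H : Subgroup G) : Set G) := by
    intro y m hm
    rw [mem_normalizer_iff_cj, cj_cj]
    obtain ⟨m₁, hm₁, h1⟩ := hmv y m hm
    rw [h1, hcjyH y m₁ hm₁]
  have hXcj : ∀ u ∈ X, ∀ K : Subgroup G, K ≤ X → cj u K ≤ X := by
    intro u hu K hK
    calc cj u K ≤ cj u X := cj_mono u hK
      _ = X := cj_of_mem_normalizer (Subgroup.le_normalizer hu)
  -- goodness
  obtain ⟨good, hgood⟩ : ∃ good : G → G → Prop, ∀ y z, good y z ↔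
      (z⁻¹ * y ∈ D ∧ cj z H ≤ X ∧ ∃ x, cj x H ≤ X ∧ y⁻¹ * x ∈ D) := ⟨_, fun _ _ => Iff.rfl⟩
  have hR : ∀ y z m₁ m₂, good y z → m₁ ∈ M → m₂ ∈ M → good (y * m₁) (z * m₂) := by
    intro y z m₁ m₂ hg hm₁ hm₂
    rw [hgood] at hg ⊢
    obtain ⟨hyz, hz, x, hx, hxy⟩ := hg
    refine ⟨?_, ?_, x, hx, ?_⟩
    · have h1 : (z * m₂)⁻¹ * (y * m₁) = m₂⁻¹ * (z⁻¹ * y) * m₁ := by group
      rw [h1]
      exact hDM _ hyz _ (M.inv_mem hm₂) _ hm₁
    · rw [hcjyH z m₂ hm₂]; exact hz
    · have h1 : (y * m₁)⁻¹ * x = m₁⁻¹ * (y⁻¹ * x) * 1 := by group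
      rw [h1]
      exact hDM _ hxy _ (M.inv_mem hm₁) _ M.one_mem
  have hM1 : ∀ y z m, good y z → m ∈ cj y M → good y (m * z) := by
    intro y z m hg hm
    rw [hgood] at hg
    obtain ⟨hyz, hz, x, hx, hxy⟩ := hg
    rw [hA2 x y hxy] at hm
    have h1 := Subgroup.coe_mul_of_right_le_normalizer_left (cj y H) (cj x H)
      ((hA1 x y hxy).trans (hnormy y))
    have h2 : m ∈ ((cj y H ⊔ cj x H : Subgroup G) : Set G) := hm
    rw [h1] at h2
    obtain ⟨hy', hhy, hx', hhx, rfl⟩ := h2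
    -- step 1
    have hhxX : hx' ∈ X := hx hhx
    obtain ⟨m₁, hm₁, e1⟩ := hmv y hx'⁻¹ ((cj y M).inv_mem (hA1 x y hxy hhx))
    have s1a : (hx' * z)⁻¹ * y ∈ D := by
      have h3 : (hx' * z)⁻¹ * y = 1 * (z⁻¹ * y) * m₁ := by
        calc (hx' * z)⁻¹ * y = z⁻¹ * (hx'⁻¹ * y) := by group
          _ = z⁻¹ * (y * m₁) := by rw [e1]
          _ = 1 * (z⁻¹ * y) * m₁ := by group
      rw [h3]
      exact hDM _ hyz _ M.one_mem _ hm₁
    have s1b : cj (hx' * z) H ≤ X := by
      rw [← cj_cj]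
      exact hXcj hx' hhxX _ hz
    -- step 2
    obtain ⟨m₂, hm₂, e2⟩ := hmv (hx' * z) hy' (hA1 y (hx' * z) s1a hhy)
    rw [hgood]
    refine ⟨?_, ?_, x, hx, hxy⟩
    · have h3 : (hy' * hx' * z)⁻¹ * y = m₂⁻¹ * ((hx' * z)⁻¹ * y) * 1 := by
        calc (hy' * hx' * z)⁻¹ * y = (hy' * (hx' * z))⁻¹ * y := by rw [mul_assoc]
          _ = (hx' * z * m₂)⁻¹ * y := by rw [e2]
          _ = m₂⁻¹ * ((hx' * z)⁻¹ * y) * 1 := by group
      rw [h3]
      exact hDM _ s1a _ (M.inv_mem hm₂) _ M.one_mem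
    · have h3 : hy' * hx' * z = hx' * z * m₂ := by rw [mul_assoc, e2]
      rw [h3, hcjyH _ m₂ hm₂]
      exact s1b
  have hM2 : ∀ y z m, good y z → m ∈ cj z M → good (m * y) z := by
    intro y z m hg hm
    rw [hgood] at hg
    obtain ⟨hyz, hz, x, hx, hxy⟩ := hg
    have hm0 := hm
    rw [hA2 y z hyz] at hm
    have h1 := Subgroup.coe_mul_of_right_le_normalizer_left (cj z H) (cj y H)
      ((hA1 y z hyz).trans (hnormy z))
    have h2 : m ∈ ((cj z H ⊔ cj y H : Subgroup G) : Set G) := hm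
    rw [h1] at h2
    obtain ⟨hz', hhz, hy', hhy, hmeq⟩ := h2
    have hmeq' : m = hz' * hy' := hmeq.symm
    have hhzX : hz' ∈ X := hz hhz
    obtain ⟨m₃, hm₃, e3⟩ := hmv y hy' (cj_mono y hHM hhy)
    obtain ⟨m₄, hm₄, e4⟩ := hmv z m⁻¹ ((cj z M).inv_mem hm0)
    rw [hgood]
    refine ⟨?_, hz, hz' * x, ?_, ?_⟩
    · -- z⁻¹ * (m * y) = m₄⁻¹ * (z⁻¹ * y)
      have h3 : z⁻¹ * (m * y) = m₄⁻¹ * (z⁻¹ * y) * 1 := by
        have h4 : z⁻¹ * m = m₄⁻¹ * z⁻¹ := by
          have : (m⁻¹ * z)⁻¹ = (z * m₄)⁻¹ := by rw [e4]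
          simpa [mul_inv_rev] using this
        calc z⁻¹ * (m * y) = (z⁻¹ * m) * y := by group
          _ = (m₄⁻¹ * z⁻¹) * y := by rw [h4]
          _ = m₄⁻¹ * (z⁻¹ * y) * 1 := by group
      rw [h3]
      exact hDM _ hyz _ (M.inv_mem hm₄) _ M.one_mem
    · rw [← cj_cj]
      exact hXcj hz' hhzX _ hx
    · have h3 : (m * y)⁻¹ * (hz' * x) = m₃⁻¹ * (y⁻¹ * x) * 1 := by
        calc (m * y)⁻¹ * (hz' * x) = (hz' * (hy' * y))⁻¹ * (hz' * x) := by
              rw [hmeq', mul_assoc]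
          _ = (hz' * (y * m₃))⁻¹ * (hz' * x) := by rw [e3]
          _ = m₃⁻¹ * (y⁻¹ * x) * 1 := by group
      rw [h3]
      exact hDM _ hxy _ (M.inv_mem hm₃) _ M.one_mem
  -- the set 𝒢
  have hsup : M ⊔ cj g⁻¹ M = ⊤ := by
    rcases hmaxM.le_iff.mp (le_sup_left : M ≤ M ⊔ cj g⁻¹ M) with h | h
    · exact h
    · exfalso
      have h1 : cj g⁻¹ M ≤ M := by
        calc cj g⁻¹ M ≤ M ⊔ cj g⁻¹ M := le_sup_right
          _ = M := h
      have h2 : g⁻¹ ∈ Subgroup.normalizer (M : Set G) :=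
        mem_normalizer_iff_cj.mpr (cj_eq_of_le h1)
      rw [hnormM] at h2
      have h3 : g ∈ M := by simpa using M.inv_mem h2
      exact hgH (hcjH g h3)
  have hall := eq_univ_of_right_closed M (cj g⁻¹ M) hsup {u | good u (u * g⁻¹)} ?_ ?_ ?_
  · -- conclusion
    apply hX
    rw [eq_top_iff, ← hNC]
    show Subgroup.closure (Group.conjugatesOfSet (H : Set G)) ≤ X
    apply (Subgroup.closure_le X).mpr
    intro a ha
    rw [Group.mem_conjugatesOfSet_iff] at ha
    obtain ⟨b, hb, hba⟩ := ha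
    rw [isConj_iff] at hba
    obtain ⟨c, rfl⟩ := hba
    have h1 : good (c * g) (c * g * g⁻¹) := hall (c * g)
    rw [hgood] at h1
    have h2 : cj c H ≤ X := by
      have := h1.2.1
      rwa [mul_inv_cancel_right] at this
    exact h2 (conj_mem_cj hb)
  · show good 1 (1 * g⁻¹)
    rw [hgood, one_mul]
    refine ⟨by simpa using hgD, hXg', g, hXg, by simpa using hgD⟩
  · intro u hu m' hm'
    have hu' : good u (u * g⁻¹) := hu
    show good (u * m') (u * m' * g⁻¹)
    have h1 : u * m' * u⁻¹ ∈ cj u M := conj_mem_cj hm'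
    have h2 := hM1 u (u * g⁻¹) (u * m' * u⁻¹) hu' h1
    have h3 := hR _ _ m' 1 h2 hm' M.one_mem
    have h4 : u * m' * u⁻¹ * (u * g⁻¹) * 1 = u * m' * g⁻¹ := by group
    rwa [h4] at h3
  · intro u hu m' hm'
    have hu' : good u (u * g⁻¹) := hu
    show good (u * m') (u * m' * g⁻¹)
    -- m' = g⁻¹ m₀ g
    have hm₀ : (g⁻¹)⁻¹ * m' * g⁻¹ ∈ M := mem_cj.mp hm'
    obtain ⟨m₀, hm₀def⟩ : ∃ m₀, m₀ = (g⁻¹)⁻¹ * m' * g⁻¹ := ⟨_, rfl⟩
    rw [← hm₀def] at hm₀
    have h1 : u * m' * u⁻¹ ∈ cj (u * g⁻¹) M := by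
      rw [mem_cj]
      have : (u * g⁻¹)⁻¹ * (u * m' * u⁻¹) * (u * g⁻¹) = m₀ := by rw [hm₀def]; group
      rw [this]; exact hm₀
    have h2 := hM2 u (u * g⁻¹) (u * m' * u⁻¹) hu' h1
    have h3 := hR _ _ 1 m₀ h2 M.one_mem hm₀
    have h4 : u * m' * u⁻¹ * u * 1 = u * m' := by group
    have h5 : u * g⁻¹ * m₀ = u * m' * g⁻¹ := by rw [hm₀def]; group
    rwa [h4, h5] at h3

end core


section final

variable [Finite G]

/-- a non-abelian finite simple group has no maximal subgroup of prime order -/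
theorem no_prime_order_coatom [IsSimpleGroup G] (hG : ¬ IsMulCommutative G) (M : Subgroup G)
    (hmaxM : IsCoatom M) (hcardM : (Nat.card M).Prime) : False := by
  obtain ⟨p, hpdef⟩ : ∃ p, p = Nat.card M := ⟨_, rfl⟩
  have : Fact p.Prime := ⟨hpdef ▸ hcardM⟩
  have hMp : IsPGroup p M := IsPGroup.of_card (n := 1) (by rw [pow_one, hpdef])
  obtain ⟨P, hMP⟩ := hMp.exists_le_sylow
  have hMbot : M ≠ ⊥ := by
    intro h
    rw [h, Subgroup.card_bot] at hcardM
    exact Nat.not_prime_one hcardM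
  rcases hmaxM.le_iff.mp hMP with h | h
  · have hGp : IsPGroup p G := by
      intro x
      obtain ⟨k, hk⟩ := P.2 ⟨x, h ▸ Subgroup.mem_top x⟩
      exact ⟨k, by simpa using congrArg Subtype.val hk⟩
    have hc := hGp.center_nontrivial
    have hcn : Subgroup.center G ≠ ⊥ := by
      intro h0
      obtain ⟨⟨a, ha⟩, ⟨b, hb⟩, hab⟩ := hc
      rw [h0, Subgroup.mem_bot] at ha hb
      apply hab
      apply Subtype.ext
      show a = b
      rw [ha, hb]
    have hct : Subgroup.center G = ⊤ :=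
      (Subgroup.Normal.eq_bot_or_eq_top inferInstance).resolve_left hcn
    apply hG
    refine ⟨⟨fun a b => ?_⟩⟩
    have hb : b ∈ Subgroup.center G := by rw [hct]; trivial
    exact Subgroup.mem_center_iff.mp hb a
  · have hMn : ¬ M.Normal := by
      intro hn
      rcases hn.eq_bot_or_eq_top with h1 | h1
      · exact hMbot h1
      · exact hmaxM.1 h1
    have hNP : Subgroup.normalizer ((P : Subgroup G) : Set G) = (P : Subgroup G) := by
      rcases hmaxM.le_iff.mp (h ▸ Subgroup.le_normalizer :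
          M ≤ Subgroup.normalizer ((P : Subgroup G) : Set G)) with h1 | h1
      · exfalso
        apply hMn
        rw [← h]
        exact Subgroup.normalizer_eq_top_iff.mp h1
      · rw [h1, h]
    have hcyc : IsCyclic (P : Subgroup G) := by
      apply isCyclic_of_prime_card (p := p)
      rw [h, hpdef]
    have hcomm : IsMulCommutative (P : Subgroup G) := ⟨⟨fun a b => IsCyclic.commGroup.mul_comm a b⟩⟩
    have hNC : Subgroup.normalizer ((P : Subgroup G) : Set G) ≤
        Subgroup.centralizer ((P : Subgroup G) : Set G) := by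
      rw [hNP]
      exact Subgroup.le_centralizer_iff_isMulCommutative.mpr hcomm
    have hK := MonoidHom.ker_transferSylow_isComplement' P hNC
    rcases (inferInstance : (MonoidHom.transferSylow P hNC).ker.Normal).eq_bot_or_eq_top with
      h1 | h1
    · rw [h1, Subgroup.isComplement'_bot_left] at hK
      exact hmaxM.1 (h ▸ hK)
    · rw [h1, Subgroup.isComplement'_top_left] at hK
      exact hMbot (h ▸ hK)

/-- **S3015** -/
theorem main [IsSimpleGroup G] (hG : ¬ IsMulCommutative G) (M H : Subgroup G)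
    (hmaxM : IsCoatom M) (hHM : H ≤ M) (hHn : (H.subgroupOf M).Normal)
    (hidx : (H.relIndex M).Prime) : ∃ g : G, H ⊔ cj g H = ⊤ := by
  by_contra hno
  push_neg at hno
  have hmaxH : IsCoatom (H.subgroupOf M) := isCoatom_of_prime_index _ hidx
  have hdich : ∀ L : Subgroup G, H ≤ L → L ≤ M → L = H ∨ L = M := by
    intro L hHL hLM
    have h1 : H.subgroupOf M ≤ L.subgroupOf M := by
      intro x hx
      rw [Subgroup.mem_subgroupOf] at hx ⊢
      exact hHL hx
    rcases hmaxH.le_iff.mp h1 with h | h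
    · right
      exact le_antisymm hLM (Subgroup.subgroupOf_eq_top.mp h)
    · left
      rw [Subgroup.subgroupOf_inj, inf_eq_left.mpr hLM, inf_eq_left.mpr hHM] at h
      exact h
  have hHneM : H ≠ M := by
    intro h
    apply hmaxH.1
    rw [h]
    exact Subgroup.subgroupOf_self M
  by_cases hHbot : H = ⊥
  · rw [hHbot, Subgroup.relIndex_bot_left] at hidx
    exact no_prime_order_coatom hG M hmaxM hidx
  have hMnorm : M ≤ Subgroup.normalizer (H : Set G) := by
    intro m hm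
    rw [Subgroup.mem_normalizer_iff]
    intro x
    constructor
    · intro hx
      have := hHn.conj_mem ⟨x, hHM hx⟩ (Subgroup.mem_subgroupOf.mpr hx) ⟨m, hm⟩
      exact Subgroup.mem_subgroupOf.mp this
    · intro hx
      have hxM : m * x * m⁻¹ ∈ M := hHM hx
      have := hHn.conj_mem ⟨m * x * m⁻¹, hxM⟩ (Subgroup.mem_subgroupOf.mpr hx) ⟨m, hm⟩⁻¹
      have h2 := Subgroup.mem_subgroupOf.mp this
      have h3 : ((⟨m, hm⟩⁻¹ * ⟨m * x * m⁻¹, hxM⟩ * (⟨m, hm⟩⁻¹)⁻¹ : ↥M) : G) = x := by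
        simp [mul_assoc]
      rwa [h3] at h2
  have hHnn : ¬ H.Normal := by
    intro hn
    rcases hn.eq_bot_or_eq_top with h1 | h1
    · exact hHbot h1
    · apply hmaxM.1
      exact top_le_iff.mp (h1 ▸ hHM)
  have hnormH : Subgroup.normalizer (H : Set G) = M := by
    rcases hmaxM.le_iff.mp hMnorm with h1 | h1
    · exact absurd (Subgroup.normalizer_eq_top_iff.mp h1) hHnn
    · exact h1
  have hMbot : M ≠ ⊥ := by
    intro h
    apply hHbot
    exact le_bot_iff.mp (h ▸ hHM)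
  have hMn : ¬ M.Normal := by
    intro hn
    rcases hn.eq_bot_or_eq_top with h1 | h1
    · exact hMbot h1
    · exact hmaxM.1 h1
  have hnormM : Subgroup.normalizer (M : Set G) = M := by
    rcases hmaxM.le_iff.mp (Subgroup.le_normalizer : M ≤ Subgroup.normalizer (M : Set G)) with
      h1 | h1
    · exact absurd (Subgroup.normalizer_eq_top_iff.mp h1) hMn
    · exact h1
  have hNC : Subgroup.normalClosure (H : Set G) = ⊤ := by
    rcases (Subgroup.normalClosure_normal (s := (H : Set G))).eq_bot_or_eq_top with h1 | h1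
    · exfalso
      apply hHbot
      exact le_bot_iff.mp (h1 ▸ Subgroup.le_normalClosure)
    · exact h1
  by_cases hwc : ∀ g, cj g H ≤ M → cj g H = H
  · have hcl : ∀ g, (H ⊔ cj g H) ⊓ M = H := by
      intro g
      rcases hdich ((H ⊔ cj g H) ⊓ M) (le_inf le_sup_left hHM) inf_le_right with h | h
      · exact h
      · exfalso
        have h1 : M ≤ H ⊔ cj g H := inf_eq_right.mp h
        rcases hmaxM.le_iff.mp h1 with h2 | h2
        · exact hno g h2
        · have h3 : cj g H ≤ M := h2 ▸ le_sup_right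
          have h4 := hwc g h3
          rw [h4, sup_idem] at h2
          exact hHneM h2
    have h5 := MaxMax.main H M hHM hcl hmaxH hmaxM
    rw [hNC, top_inf_eq] at h5
    exact hHneM h5.symm
  · push_neg at hwc
    obtain ⟨g, hgM, hgH⟩ := hwc
    have h1 := gen_of_not_weakly_closed H M hHM hmaxM hdich hnormH hnormM hNC g hgM hgH
    apply hno (g⁻¹ * g⁻¹)
    have h2 : cj g⁻¹ (cj g H ⊔ cj g⁻¹ H) = H ⊔ cj (g⁻¹ * g⁻¹) H := by
      rw [cj_sup, cj_cj, cj_cj, inv_mul_cancel, cj_one]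
    rw [← h2, h1, cj_top]

end final

end Cfsg.Agent.H2.TwoConj
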