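import Mathlib
import Cfsg.Prelude.Def_LocalEven
import Cfsg.Agent.H1.Cores
import Cfsg.Agent.H2.Equivariant
import Cfsg.Agent.H2.TwoConjGen

/-!
# Local characteristic `p`: a primitive pair of characteristic `p`, or strongly `p`-embedded
maximal `p`-locals
-/

set_option autoImplicit false
open scoped commutatorElement

namespace Cfsg.Agent.H2.PrimPair

variable {G : Type*} [Group G]

/-- `L` is a `p`-local subgroup -/
def IsPLoc (p : ℕ) (L : Subgroup G) : Prop :=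
  ∃ T : Subgroup G, IsPGroup p T ∧ T ≠ ⊥ ∧ L = Subgroup.normalizer (T : Set G)

/-- `M` is a maximal `p`-local subgroup -/
def IsMaxPLoc (p : ℕ) (M : Subgroup G) : Prop :=
  IsPLoc p M ∧ ∀ L : Subgroup G, IsPLoc p L → M ≤ L → L = M

/-- `T` is a maximal `p`-subgroup of `L` -/
def IsSylIn (p : ℕ) (T L : Subgroup G) : Prop :=
  T ≤ L ∧ IsPGroup p T ∧ ∀ P : Subgroup G, IsPGroup p P → T ≤ P → P ≤ L → P ≤ T

/-- `O_p(L)` as a subgroup of `G` -/
def opOf (p : ℕ) (L : Subgroup G) : Subgroup G := (Cfsg.pCore p ↥L).map L.subtype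

lemma opOf_le (p : ℕ) (L : Subgroup G) : opOf p L ≤ L := Subgroup.map_subtype_le _

lemma opOf_isPGroup (p : ℕ) (L : Subgroup G) : IsPGroup p (opOf p L) :=
  (Cfsg.Agent.H1.pCore_isPGroup p (G := ↥L)).map _

lemma le_normalizer_opOf (p : ℕ) (L : Subgroup G) :
    L ≤ Subgroup.normalizer ((opOf p L : Subgroup G) : Set G) :=
  Subgroup.le_normalizer.trans (Cfsg.Agent.H2.normalizer_le_normalizer_pCore p L)

/-- a `p`-subgroup of `L` normalized by `L` lies in `O_p(L)` -/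
lemma le_opOf {p : ℕ} {L T : Subgroup G} (hTL : T ≤ L) (hT : IsPGroup p T)
    (hn : L ≤ Subgroup.normalizer (T : Set G)) : T ≤ opOf p L := by
  have h1 : (T.subgroupOf L).Normal := (Subgroup.normal_subgroupOf_iff_le_normalizer hTL).mpr hn
  have h2 : IsPGroup p (T.subgroupOf L) :=
    hT.comap_of_injective L.subtype L.subtype_injective
  have h3 := Cfsg.Agent.H1.le_pCore h1 h2
  intro t ht
  exact Subgroup.mem_map.mpr ⟨⟨t, hTL ht⟩, h3 (Subgroup.mem_subgroupOf.mpr ht), rfl⟩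

lemma IsSylIn.opOf_le [Finite G] {p : ℕ} [Fact p.Prime] {T L : Subgroup G} (h : IsSylIn p T L) :
    opOf p L ≤ T := by
  obtain ⟨hTL, hT, hmax⟩ := h
  have hT' : IsPGroup p (T.subgroupOf L) :=
    hT.comap_of_injective L.subtype L.subtype_injective
  obtain ⟨P, hP⟩ := hT'.exists_le_sylow
  have h1 := Cfsg.Agent.H1.pCore_le_sylow P
  have h2 : (P : Subgroup L).map L.subtype ≤ T := by
    apply hmax _ (P.2.map _) _ (Subgroup.map_subtype_le _)
    intro t ht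
    exact Subgroup.mem_map.mpr ⟨⟨t, hTL ht⟩, hP (Subgroup.mem_subgroupOf.mpr ht), rfl⟩
  exact (Subgroup.map_mono h1).trans h2


section locals

variable [Finite G] {p : ℕ} [Fact p.Prime]

lemma exists_maxPLoc_ge {L : Subgroup G} (hL : IsPLoc p L) :
    ∃ M : Subgroup G, IsMaxPLoc p M ∧ L ≤ M := by
  obtain ⟨M, hM, hMmax⟩ := (wellFounded_gt (α := Subgroup G)).has_min
    {M : Subgroup G | IsPLoc p M ∧ L ≤ M} ⟨L, hL, le_rfl⟩
  refine ⟨M, ⟨hM.1, ?_⟩, hM.2⟩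
  intro L' hL' hML'
  by_contra hne
  exact hMmax L' ⟨hL', hM.2.trans hML'⟩ (lt_of_le_of_ne hML' (Ne.symm hne))

lemma IsPLoc.opOf_ne_bot {L : Subgroup G} (hL : IsPLoc p L) : opOf p L ≠ ⊥ := by
  obtain ⟨T, hT, hTne, rfl⟩ := hL
  intro h
  apply hTne
  have h1 : T ≤ opOf p (Subgroup.normalizer (T : Set G)) :=
    le_opOf Subgroup.le_normalizer hT le_rfl
  rw [h] at h1
  exact le_bot_iff.mp h1

lemma IsPLoc.ne_bot {L : Subgroup G} (hL : IsPLoc p L) : L ≠ ⊥ := by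
  intro h
  apply hL.opOf_ne_bot
  have := opOf_le p L
  rw [h] at this
  rw [h]
  exact le_bot_iff.mp this

lemma isPLoc_normalizer_opOf {L : Subgroup G} (hL : IsPLoc p L) :
    IsPLoc p (Subgroup.normalizer ((opOf p L : Subgroup G) : Set G)) :=
  ⟨opOf p L, opOf_isPGroup p L, hL.opOf_ne_bot, rfl⟩

lemma IsMaxPLoc.normalizer_opOf {M : Subgroup G} (hM : IsMaxPLoc p M) :
    Subgroup.normalizer ((opOf p M : Subgroup G) : Set G) = M :=
  hM.2 _ (isPLoc_normalizer_opOf hM.1) (le_normalizer_opOf p M)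

lemma IsPLoc.charP (hloc : Cfsg.IsOfLocalCharacteristic p G) {L : Subgroup G} (hL : IsPLoc p L) :
    Subgroup.centralizer (Cfsg.pCore p ↥L : Set ↥L) ≤ Cfsg.pCore p ↥L := by
  obtain ⟨T, hT, hTne, rfl⟩ := hL
  exact hloc.2 T hT hTne

/-- maximal `p`-locals are primitive -/
lemma IsMaxPLoc.normalizer_eq (hloc : Cfsg.IsOfLocalCharacteristic p G) {M : Subgroup G}
    (hM : IsMaxPLoc p M) (A : Subgroup G) (hAM : A ≤ M) (hAne : A ≠ ⊥)
    (hMA : M ≤ Subgroup.normalizer (A : Set G)) : Subgroup.normalizer (A : Set G) = M := by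
  by_cases hB : opOf p A = ⊥
  · exfalso
    apply hAne
    -- `A ⊓ O_p(M) = 1`
    have h1 : A ⊓ opOf p M = ⊥ := by
      have hle : A ⊓ opOf p M ≤ opOf p A := by
        apply le_opOf inf_le_left ((opOf_isPGroup p M).to_le inf_le_right)
        refine le_trans ?_ Subgroup.inf_normalizer_le_normalizer_inf
        exact le_inf Subgroup.le_normalizer (hAM.trans (le_normalizer_opOf p M))
      rw [hB] at hle
      exact le_bot_iff.mp hle
    have h2 : ⁅A, opOf p M⁆ = ⊥ := by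
      rw [eq_bot_iff, ← h1]
      apply le_inf
      · exact Subgroup.le_normalizer_iff_commutator_le_left.mp ((opOf_le p M).trans hMA)
      · exact Subgroup.le_normalizer_iff_commutator_le_right.mp
          (hAM.trans (le_normalizer_opOf p M))
    have h3 : A ≤ Subgroup.centralizer ((opOf p M : Subgroup G) : Set G) :=
      Subgroup.commutator_eq_bot_iff_le_centralizer.mp h2
    have hchar := hM.1.charP hloc
    rw [eq_bot_iff, ← h1]
    intro a ha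
    refine ⟨ha, ?_⟩
    have h4 : (⟨a, hAM ha⟩ : M) ∈ Subgroup.centralizer (Cfsg.pCore p ↥M : Set ↥M) := by
      rw [Subgroup.mem_centralizer_iff]
      intro y hy
      apply Subtype.ext
      have hy' : (y : G) ∈ opOf p M := Subgroup.mem_map.mpr ⟨y, hy, rfl⟩
      exact Subgroup.mem_centralizer_iff.mp (h3 ha) (y : G) hy'
    exact Subgroup.mem_map.mpr ⟨_, hchar h4, rfl⟩
  · have hloc' : IsPLoc p (Subgroup.normalizer ((opOf p A : Subgroup G) : Set G)) :=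
      ⟨opOf p A, opOf_isPGroup p A, hB, rfl⟩
    have h1 : Subgroup.normalizer (A : Set G) ≤
        Subgroup.normalizer ((opOf p A : Subgroup G) : Set G) :=
      Cfsg.Agent.H2.normalizer_le_normalizer_pCore p A
    have h2 := hM.2 _ hloc' (hMA.trans h1)
    exact le_antisymm (h2 ▸ h1) hMA

lemma IsMaxPLoc.normalizer_self (hloc : Cfsg.IsOfLocalCharacteristic p G) {M : Subgroup G}
    (hM : IsMaxPLoc p M) : Subgroup.normalizer (M : Set G) = M :=
  hM.normalizer_eq hloc M le_rfl hM.1.ne_bot Subgroup.le_normalizer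

lemma IsMaxPLoc.ne_top (hOp : Cfsg.pCore p G = ⊥) {M : Subgroup G} (hM : IsMaxPLoc p M) :
    M ≠ ⊤ := by
  intro h
  have h1 := hM.normalizer_opOf
  rw [h] at h1
  have h2 : (opOf p (⊤ : Subgroup G)).Normal := Subgroup.normalizer_eq_top_iff.mp h1
  have h3 := Cfsg.Agent.H1.le_pCore h2 (opOf_isPGroup p ⊤)
  rw [hOp] at h3
  exact (h ▸ hM.1.opOf_ne_bot) (le_bot_iff.mp h3)

lemma IsMaxPLoc.dvd_card {M : Subgroup G} (hM : IsMaxPLoc p M) : p ∣ Nat.card M := by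
  have hp : p.Prime := Fact.out
  have h1 : opOf p M ≠ ⊥ := hM.1.opOf_ne_bot
  obtain ⟨n, hn⟩ := IsPGroup.iff_card.mp (opOf_isPGroup p M)
  have h2 : Nat.card (opOf p M) ∣ Nat.card M := Subgroup.card_dvd_of_le (opOf_le p M)
  rcases Nat.eq_zero_or_pos n with h0 | hpos
  · exfalso
    rw [h0, pow_zero] at hn
    exact h1 (Subgroup.card_eq_one.mp hn)
  · rw [hn] at h2
    exact (dvd_pow_self p hpos.ne').trans h2

/-- two distinct maximal `p`-locals satisfy the primitive pair condition -/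
lemma primitive_of_maxPLoc (hloc : Cfsg.IsOfLocalCharacteristic p G) {M₁ M₂ : Subgroup G}
    (h₁ : IsMaxPLoc p M₁) (h₂ : IsMaxPLoc p M₂) :
    ∀ A : Subgroup G, A ≠ ⊥ → A ≤ M₁ ⊓ M₂ →
      (M₁ ≤ Subgroup.normalizer (A : Set G) → M₂ ⊓ Subgroup.normalizer (A : Set G) = M₁ ⊓ M₂) ∧
      (M₂ ≤ Subgroup.normalizer (A : Set G) → M₁ ⊓ Subgroup.normalizer (A : Set G) = M₁ ⊓ M₂) := by
  intro A hAne hA
  constructor
  · intro h
    rw [h₁.normalizer_eq hloc A (hA.trans inf_le_left) hAne h, inf_comm]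
  · intro h
    rw [h₂.normalizer_eq hloc A (hA.trans inf_le_right) hAne h]

end locals


section conj

open Cfsg.Agent.H2.MaxMax Cfsg.Agent.H2.TwoConj

variable {p : ℕ}

lemma isPGroup_cj (g : G) {T : Subgroup G} (hT : IsPGroup p T) : IsPGroup p (MaxMax.cj g T) :=
  hT.map _

lemma IsPLoc.conj (g : G) {L : Subgroup G} (hL : IsPLoc p L) : IsPLoc p (MaxMax.cj g L) := by
  obtain ⟨T, hT, hTne, rfl⟩ := hL
  refine ⟨MaxMax.cj g T, isPGroup_cj g hT, ?_, ?_⟩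
  · intro h
    apply hTne
    exact (Subgroup.map_eq_bot_iff_of_injective T (f := (MulAut.conj g).toMonoidHom) (MulAut.conj g).injective).mp h
  · exact Subgroup.map_equiv_normalizer_eq T (MulAut.conj g)

lemma cj_inv_cj (g : G) (L : Subgroup G) : MaxMax.cj g⁻¹ (MaxMax.cj g L) = L := by
  rw [cj_cj, inv_mul_cancel, cj_one]

lemma cj_cj_inv (g : G) (L : Subgroup G) : MaxMax.cj g (MaxMax.cj g⁻¹ L) = L := by
  rw [cj_cj, mul_inv_cancel, cj_one]

lemma IsMaxPLoc.conj (g : G) {M : Subgroup G} (hM : IsMaxPLoc p M) : IsMaxPLoc p (MaxMax.cj g M) := by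
  refine ⟨hM.1.conj g, ?_⟩
  intro L hL hML
  have h1 : M ≤ MaxMax.cj g⁻¹ L := by
    have := cj_mono g⁻¹ hML
    rwa [cj_inv_cj] at this
  have h2 := hM.2 _ (hL.conj g⁻¹) h1
  rw [← h2, cj_cj_inv]

lemma IsSylIn.conj (g : G) {T L : Subgroup G} (h : IsSylIn p T L) :
    IsSylIn p (MaxMax.cj g T) (MaxMax.cj g L) := by
  obtain ⟨hTL, hT, hmax⟩ := h
  refine ⟨cj_mono g hTL, isPGroup_cj g hT, ?_⟩
  intro P hP hTP hPL
  have h1 : T ≤ MaxMax.cj g⁻¹ P := by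
    have := cj_mono g⁻¹ hTP
    rwa [cj_inv_cj] at this
  have h2 : MaxMax.cj g⁻¹ P ≤ L := by
    have := cj_mono g⁻¹ hPL
    rwa [cj_inv_cj] at this
  have h3 := hmax _ (isPGroup_cj g⁻¹ hP) h1 h2
  have := cj_mono g h3
  rwa [cj_cj_inv] at this

end conj


section main

open Cfsg.Agent.H2.MaxMax Cfsg.Agent.H2.TwoConj

variable [Finite G] {p : ℕ} [Fact p.Prime]

/-- the conclusion: a primitive pair of characteristic `p` -/
def HasPair (p : ℕ) (G : Type*) [Group G] : Prop :=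
  ∃ M₁ M₂ : Subgroup G, M₁ ≠ M₂ ∧
    (∀ A : Subgroup G, A ≠ ⊥ → A ≤ M₁ ⊓ M₂ →
      (M₁ ≤ Subgroup.normalizer (A : Set G) → M₂ ⊓ Subgroup.normalizer (A : Set G) = M₁ ⊓ M₂) ∧
      (M₂ ≤ Subgroup.normalizer (A : Set G) → M₁ ⊓ Subgroup.normalizer (A : Set G) = M₁ ⊓ M₂)) ∧
    Subgroup.centralizer (Cfsg.pCore p ↥M₁ : Set ↥M₁) ≤ Cfsg.pCore p ↥M₁ ∧
    Subgroup.centralizer (Cfsg.pCore p ↥M₂ : Set ↥M₂) ≤ Cfsg.pCore p ↥M₂ ∧
    (Cfsg.pCore p ↥M₁).map M₁.subtype ⊔ (Cfsg.pCore p ↥M₂).map M₂.subtype ≤ M₁ ⊓ M₂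

lemma hasPair_of (hloc : Cfsg.IsOfLocalCharacteristic p G) {M₁ M₂ : Subgroup G}
    (h₁ : IsMaxPLoc p M₁) (h₂ : IsMaxPLoc p M₂) (hne : M₁ ≠ M₂)
    (hO : opOf p M₁ ⊔ opOf p M₂ ≤ M₁ ⊓ M₂) : HasPair p G :=
  ⟨M₁, M₂, hne, primitive_of_maxPLoc hloc h₁ h₂, h₁.1.charP hloc, h₂.1.charP hloc, hO⟩

/-- admissible triples -/
def Adm (p : ℕ) (M₁ M₂ T : Subgroup G) : Prop :=
  IsMaxPLoc p M₁ ∧ IsMaxPLoc p M₂ ∧ M₁ ≠ M₂ ∧ IsPGroup p T ∧ T ≠ ⊥ ∧ T ≤ M₁ ⊓ M₂

lemma Adm.symm {M₁ M₂ T : Subgroup G} (h : Adm p M₁ M₂ T) : Adm p M₂ M₁ T :=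
  ⟨h.2.1, h.1, h.2.2.1.symm, h.2.2.2.1, h.2.2.2.2.1, by rw [inf_comm]; exact h.2.2.2.2.2⟩

lemma card_lt_of_lt' {T T₂ : Subgroup G} (h : T < T₂) : Nat.card T < Nat.card T₂ := by
  by_contra hc
  push Not at hc
  exact h.ne (Subgroup.eq_of_le_of_card_ge h.le hc)

/-- if `T` is not a maximal `p`-subgroup of `M₁` then `N_G(T) ≤ M₁`, witnessed by `t₀` -/
lemma normalizer_le_of_not_sylIn {M₁ M₂ T : Subgroup G} (hx : Adm p M₁ M₂ T)
    (hmax : ∀ M₁' M₂' T' : Subgroup G, Adm p M₁' M₂' T' → Nat.card T' ≤ Nat.card T)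
    (hns : ¬ IsSylIn p T M₁) :
    ∃ t₀ : G, t₀ ∈ M₁ ∧ t₀ ∈ Subgroup.normalizer (T : Set G) ∧ t₀ ∉ T ∧
      IsPGroup p (T ⊔ Subgroup.zpowers t₀ : Subgroup G) ∧
      Subgroup.normalizer (T : Set G) ≤ M₁ := by
  obtain ⟨h₁, h₂, hne, hT, hTne, hTle⟩ := hx
  have hTM₁ : T ≤ M₁ := hTle.trans inf_le_left
  unfold IsSylIn at hns
  push Not at hns
  obtain ⟨P, hP, hTP, hPM, hPT⟩ := hns hTM₁ hT
  -- normalizer condition in `P`
  have hnil : Group.IsNilpotent P := hP.isNilpotent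
  have hlt : T.subgroupOf P < ⊤ := by
    rw [lt_top_iff_ne_top]
    intro h
    exact hPT (Subgroup.subgroupOf_eq_top.mp h)
  have hnc := normalizerCondition_of_isNilpotent (G := P) (T.subgroupOf P) hlt
  obtain ⟨x, hxn, hxT⟩ := SetLike.exists_of_lt hnc
  have hxT' : (x : G) ∉ T := fun h => hxT (Subgroup.mem_subgroupOf.mpr h)
  have hxN : (x : G) ∈ Subgroup.normalizer (T : Set G) := by
    rw [Subgroup.mem_normalizer_iff]
    intro t
    have h1 := Subgroup.mem_normalizer_iff.mp hxn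
    constructor
    · intro ht
      have := (h1 ⟨t, hTP ht⟩).mp (Subgroup.mem_subgroupOf.mpr ht)
      exact Subgroup.mem_subgroupOf.mp this
    · intro ht
      have htP : t ∈ P := by
        have h2 : (x : G)⁻¹ * ((x : G) * t * (x : G)⁻¹) * (x : G) = t := by group
        rw [← h2]
        exact P.mul_mem (P.mul_mem (P.inv_mem x.2) (hTP ht)) x.2
      have := (h1 ⟨t, htP⟩).mpr (Subgroup.mem_subgroupOf.mpr ht)
      exact Subgroup.mem_subgroupOf.mp this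
  have hT₂P : T ⊔ Subgroup.zpowers (x : G) ≤ P :=
    sup_le hTP (by rw [Subgroup.zpowers_le]; exact x.2)
  have hT₂ : IsPGroup p (T ⊔ Subgroup.zpowers (x : G) : Subgroup G) := hP.to_le hT₂P
  have hlt₂ : T < T ⊔ Subgroup.zpowers (x : G) := by
    apply lt_of_le_of_ne le_sup_left
    intro h
    apply hxT'
    rw [h]
    exact (le_sup_right : Subgroup.zpowers (x : G) ≤ _) (Subgroup.mem_zpowers _)
  refine ⟨x, hPM x.2, hxN, hxT', hT₂, ?_⟩
  -- the maximal `p`-local containing `N_G(T)`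
  obtain ⟨M₃, hM₃, hNM₃⟩ := exists_maxPLoc_ge (p := p) ⟨T, hT, hTne, rfl⟩
  by_cases h31 : M₃ = M₁
  · rw [← h31]; exact hNM₃
  · exfalso
    have hT₂le : T ⊔ Subgroup.zpowers (x : G) ≤ M₁ ⊓ M₃ := by
      apply le_inf (hT₂P.trans hPM)
      refine le_trans ?_ hNM₃
      exact sup_le Subgroup.le_normalizer (by rw [Subgroup.zpowers_le]; exact hxN)
    have hadm : Adm p M₁ M₃ (T ⊔ Subgroup.zpowers (x : G)) :=
      ⟨h₁, hM₃, Ne.symm h31, hT₂, fun h => hTne (le_bot_iff.mp (h ▸ le_sup_left)), hT₂le⟩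
    exact absurd (hmax _ _ _ hadm) (not_le.mpr (card_lt_of_lt' hlt₂))

/-- the key step -/
lemma hasPair_of_not_sylIn (hloc : Cfsg.IsOfLocalCharacteristic p G) {M₁ M₂ T : Subgroup G}
    (hx : Adm p M₁ M₂ T)
    (hmax : ∀ M₁' M₂' T' : Subgroup G, Adm p M₁' M₂' T' → Nat.card T' ≤ Nat.card T)
    (hns : ¬ IsSylIn p T M₁) : HasPair p G := by
  obtain ⟨t₀, ht₀M, ht₀N, ht₀T, hT₂, hNM₁⟩ := normalizer_le_of_not_sylIn hx hmax hns
  obtain ⟨h₁, h₂, hne, hT, hTne, hTle⟩ := hx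
  have hlt₂ : T < T ⊔ Subgroup.zpowers t₀ := by
    apply lt_of_le_of_ne le_sup_left
    intro h
    apply ht₀T
    rw [h]
    exact (le_sup_right : Subgroup.zpowers t₀ ≤ _) (Subgroup.mem_zpowers _)
  have hT₂N : T ⊔ Subgroup.zpowers t₀ ≤ Subgroup.normalizer (T : Set G) :=
    sup_le Subgroup.le_normalizer (by rw [Subgroup.zpowers_le]; exact ht₀N)
  -- `t₀ ∉ M₂`
  have ht₀M₂ : t₀ ∉ M₂ := by
    intro h
    have hle : T ⊔ Subgroup.zpowers t₀ ≤ M₁ ⊓ M₂ :=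
      sup_le hTle (by rw [Subgroup.zpowers_le]; exact ⟨ht₀M, h⟩)
    have hadm : Adm p M₁ M₂ (T ⊔ Subgroup.zpowers t₀) :=
      ⟨h₁, h₂, hne, hT₂, fun h => hTne (le_bot_iff.mp (h ▸ le_sup_left)), hle⟩
    exact absurd (hmax _ _ _ hadm) (not_le.mpr (card_lt_of_lt' hlt₂))
  -- `T` is a maximal `p`-subgroup of `M₂`
  have hsyl : IsSylIn p T M₂ := by
    by_contra hns₂
    obtain ⟨-, -, -, -, -, hNM₂⟩ :=
      normalizer_le_of_not_sylIn (Adm.symm ⟨h₁, h₂, hne, hT, hTne, hTle⟩) hmax hns₂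
    exact ht₀M₂ (hNM₂ ht₀N)
  have hne' : MaxMax.cj t₀ M₂ ≠ M₂ := by
    intro h
    have h3 : t₀ ∈ Subgroup.normalizer (M₂ : Set G) := mem_normalizer_iff_cj.mpr h
    rw [h₂.normalizer_self hloc] at h3
    exact ht₀M₂ h3
  have hsyl' : IsSylIn p T (MaxMax.cj t₀ M₂) := by
    have := hsyl.conj t₀
    rwa [cj_of_mem_normalizer ht₀N] at this
  apply hasPair_of hloc h₂ (h₂.conj t₀) (Ne.symm hne')
  exact (sup_le hsyl.opOf_le hsyl'.opOf_le).trans (le_inf hsyl.1 hsyl'.1)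

theorem main (hloc : Cfsg.IsOfLocalCharacteristic p G) (hOp : Cfsg.pCore p G = ⊥) :
    HasPair p G ∨
    (∀ M : Subgroup G,
      (∃ T : Subgroup G, IsPGroup p T ∧ T ≠ ⊥ ∧ M = Subgroup.normalizer (T : Set G)) →
      (∀ L : Subgroup G,
        (∃ T : Subgroup G, IsPGroup p T ∧ T ≠ ⊥ ∧ L = Subgroup.normalizer (T : Set G)) →
        M ≤ L → L = M) →
      M ≠ ⊤ ∧ p ∣ Nat.card M ∧
        ∀ g : G, g ∉ M → ¬ p ∣ Nat.card ↥(M ⊓ M.map (MulAut.conj g).toMonoidHom)) := by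
  have hp : p.Prime := Fact.out
  by_contra hcon
  push Not at hcon
  obtain ⟨hnoPair, M, hMloc, hMmax, hM⟩ := hcon
  have hMmaxloc : IsMaxPLoc p M := ⟨hMloc, hMmax⟩
  obtain ⟨g, hgM, hdvd⟩ := hM (hMmaxloc.ne_top hOp) hMmaxloc.dvd_card
  -- a subgroup of order `p` in `M ⊓ M^g`
  obtain ⟨x, hx⟩ := exists_prime_orderOf_dvd_card' (G := ↥(M ⊓ MaxMax.cj g M)) p hdvd
  have hxo : orderOf (x : G) = p := by rw [Subgroup.orderOf_coe]; exact hx
  have hT₀ : IsPGroup p (Subgroup.zpowers (x : G)) := by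
    apply IsPGroup.of_card (n := 1)
    rw [Nat.card_zpowers, hxo, pow_one]
  have hT₀ne : Subgroup.zpowers (x : G) ≠ ⊥ := by
    intro h
    rw [Subgroup.zpowers_eq_bot] at h
    rw [h, orderOf_one] at hxo
    exact hp.one_lt.ne hxo
  have hne : M ≠ MaxMax.cj g M := by
    intro h
    have h3 : g ∈ Subgroup.normalizer (M : Set G) := mem_normalizer_iff_cj.mpr h.symm
    rw [hMmaxloc.normalizer_self hloc] at h3
    exact hgM h3
  have hadm₀ : Adm p M (MaxMax.cj g M) (Subgroup.zpowers (x : G)) :=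
    ⟨hMmaxloc, hMmaxloc.conj g, hne, hT₀, hT₀ne, by rw [Subgroup.zpowers_le]; exact x.2⟩
  -- choose an admissible triple of maximal order
  obtain ⟨S, hS⟩ : ∃ S : Set ℕ, S = {n : ℕ | ∃ M₁ M₂ T : Subgroup G, Adm p M₁ M₂ T ∧
    Nat.card T = n} := ⟨_, rfl⟩
  have hSne : S.Nonempty := ⟨_, by rw [hS]; exact ⟨_, _, _, hadm₀, rfl⟩⟩
  have hSbdd : BddAbove S := by
    refine ⟨Nat.card G, ?_⟩
    intro n hn
    rw [hS] at hn
    obtain ⟨M₁, M₂, T, -, rfl⟩ := hn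
    exact Subgroup.card_le_card_group T
  have hmem := Nat.sSup_mem hSne hSbdd
  obtain ⟨m, hm⟩ : ∃ m : ℕ, m = sSup S := ⟨_, rfl⟩
  rw [← hm] at hmem
  have hmem' := hmem
  rw [hS] at hmem'
  obtain ⟨M₁, M₂, T, hadm, hcard⟩ := hmem'
  have hmax : ∀ M₁' M₂' T' : Subgroup G, Adm p M₁' M₂' T' → Nat.card T' ≤ Nat.card T := by
    intro M₁' M₂' T' h'
    rw [hcard, hm]
    apply le_csSup hSbdd
    rw [hS]
    exact ⟨_, _, _, h', rfl⟩
  apply hnoPair
  by_cases hs₁ : IsSylIn p T M₁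
  · by_cases hs₂ : IsSylIn p T M₂
    · apply hasPair_of hloc hadm.1 hadm.2.1 hadm.2.2.1
      exact (sup_le hs₁.opOf_le hs₂.opOf_le).trans hadm.2.2.2.2.2
    · exact hasPair_of_not_sylIn hloc hadm.symm hmax hs₂
  · exact hasPair_of_not_sylIn hloc hadm hmax hs₁

end main

end Cfsg.Agent.H2.PrimPair
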