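import Mathlib
import Cfsg.Prelude.Def_Blocks
import Cfsg.Prelude.Def_Local
import Cfsg.Agent.H2.PrincHeight
import Cfsg.Agent.Lib.helper3.Cyclo
import Cfsg.Agent.Lib.helper3.GalFix2
import Cfsg.Agent.Lib.helper3.DefectOrder4
import Cfsg.Agent.Lib.helper3.Irr8
import Cfsg.Agent.Lib.helper3.NormalSupp
import Cfsg.Agent.Lib.Helper4.CharExtra

/-!
# The principal block and the quotient by `O_{p'}(G)`
-/

set_option autoImplicit false

namespace Cfsg.Agent.H2.PrincQuot

open Cfsg Cfsg.Agent.Lib.helper3.Irr Cfsg.Agent.Lib.helper3.Block Cfsg.Agent.Lib.helper3.LocalM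
open Cfsg.Agent.Lib.helper3.CharBasic Cfsg.Agent.Lib.helper3.Cyclo Cfsg.Agent.Lib.helper3.GalFix
open Cfsg.Agent.Lib.helper3.Central Cfsg.Agent.Lib.helper3.GalPow
open scoped ComplexConjugate

variable {G : Type*} [Group G] [Fintype G]

/-- Character values and their conjugates lift to the cyclotomic field, compatibly with the Galois
action. -/
theorem exists_lifts (χ : IrrCharacter G) (x : G) :
    ∃ a b : CyclotomicField (Nat.card G) ℚ,
      IsIntegral ℤ a ∧ IsIntegral ℤ b ∧
      ∀ (σ : CyclotomicField (Nat.card G) ℚ ≃ₐ[ℚ] CyclotomicField (Nat.card G) ℚ) (t : ℕ),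
        σ (zetaK (Nat.card G)) = zetaK (Nat.card G) ^ t →
        emb (Nat.card G) (σ a) * emb (Nat.card G) (σ b)
          = (χ : G → ℂ) (x ^ t) * conj ((χ : G → ℂ) (x ^ t)) := by
  obtain ⟨d, ρ, -, hρ⟩ := χ.2
  have hn : ∀ g : G, g ^ Nat.card G = 1 := fun g => pow_card_eq_one'
  obtain ⟨a, ha, -, ha2⟩ := exists_cyclo_lift (Nat.card G) hn ρ x
  obtain ⟨b, hb, -, hb2⟩ := exists_cyclo_lift (Nat.card G) hn ρ x⁻¹
  refine ⟨a, b, ha, hb, ?_⟩
  intro σ t hσ
  rw [ha2 σ t hσ, hb2 σ t hσ, inv_pow, character_inv, hρ]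

/-- The power map on irreducible characters is injective. -/
theorem powIrr_injective (t : ℕ) (ht : t.Coprime (Nat.card G)) :
    Function.Injective (powIrr t ht : IrrCharacter G → IrrCharacter G) := by
  intro χ ψ h
  apply Subtype.ext
  funext g
  obtain ⟨m, hm⟩ := exists_pow_eq_self_of_coprime
    (Nat.Coprime.coprime_dvd_right (orderOf_dvd_natCard g) ht)
  have h1 := congrArg (fun φ : IrrCharacter G => (φ : G → ℂ) (g ^ m)) h
  simp only [powIrr_apply] at h1
  rw [← pow_mul, mul_comm, pow_mul, hm] at h1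
  exact h1

open Classical in
/-- The sum of `|χ(x)|²` over a set of irreducible characters stable under the power maps is a
rational integer. -/
theorem exists_int_sum_mul_conj (S : Set (IrrCharacter G))
    (hS : ∀ (t : ℕ) (ht : t.Coprime (Nat.card G)) (χ : IrrCharacter G), χ ∈ S → powIrr t ht χ ∈ S)
    (x : G) :
    ∃ m : ℤ, ∑ χ ∈ Finset.univ.filter (fun χ : IrrCharacter G => χ ∈ S),
      (χ : G → ℂ) x * conj ((χ : G → ℂ) x) = (m : ℂ) := by
  choose a b ha hb hab using fun χ : IrrCharacter G => exists_lifts χ x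
  set Bf := Finset.univ.filter (fun χ : IrrCharacter G => χ ∈ S) with hBf
  set s : CyclotomicField (Nat.card G) ℚ := ∑ χ ∈ Bf, a χ * b χ with hs
  have hone : ∀ (σ : CyclotomicField (Nat.card G) ℚ ≃ₐ[ℚ] CyclotomicField (Nat.card G) ℚ),
      σ (zetaK (Nat.card G)) = zetaK (Nat.card G) ^ 1 → 
      emb (Nat.card G) (σ s) = ∑ χ ∈ Bf, (χ : G → ℂ) x * conj ((χ : G → ℂ) x) := by
    intro σ hσ
    rw [hs, map_sum, map_sum]
    apply Finset.sum_congr rfl
    intro χ _
    rw [map_mul, map_mul, hab χ σ 1 hσ, pow_one]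
  have hemb : emb (Nat.card G) s = ∑ χ ∈ Bf, (χ : G → ℂ) x * conj ((χ : G → ℂ) x) := by
    have := hone AlgEquiv.refl (by simp)
    simpa using this
  have hfix : ∀ σ : CyclotomicField (Nat.card G) ℚ ≃ₐ[ℚ] CyclotomicField (Nat.card G) ℚ,
      σ s = s := by
    intro σ
    obtain ⟨t, ht, hσ⟩ := aut_zeta (Nat.card G) σ
    apply emb_injective (Nat.card G)
    rw [hemb, hs, map_sum, map_sum]
    have h1 : ∀ χ ∈ Bf, emb (Nat.card G) (σ (a χ * b χ))
        = (fun ψ : IrrCharacter G => (ψ : G → ℂ) x * conj ((ψ : G → ℂ) x)) (powIrr t ht χ) := by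
      intro χ _
      rw [map_mul, map_mul, hab χ σ t hσ]
      rfl
    rw [Finset.sum_congr rfl h1, ← Finset.sum_image (f := fun ψ : IrrCharacter G =>
      (ψ : G → ℂ) x * conj ((ψ : G → ℂ) x)) (g := powIrr t ht)
      (fun χ _ ψ _ h => powIrr_injective t ht h)]
    congr 1
    apply Finset.eq_of_subset_of_card_le
    · intro ψ hψ
      obtain ⟨χ, hχ, rfl⟩ := Finset.mem_image.1 hψ
      rw [hBf, Finset.mem_filter] at hχ ⊢
      exact ⟨Finset.mem_univ _, hS t ht χ hχ.2⟩
    · rw [Finset.card_image_of_injective _ (powIrr_injective t ht)]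
  obtain ⟨q, hq⟩ := exists_rat_of_fixed (Nat.card G) s hfix
  have hint : IsIntegral ℤ s := by
    rw [hs]
    exact IsIntegral.sum _ (fun χ _ => (ha χ).mul (hb χ))
  rw [hq] at hint
  have hq' : IsIntegral ℤ q :=
    (isIntegral_algebraMap_iff (algebraMap ℚ (CyclotomicField (Nat.card G) ℚ)).injective).mp hint
  obtain ⟨m, hm⟩ := IsIntegrallyClosed.isIntegral_iff.mp hq'
  refine ⟨m, ?_⟩
  rw [← hemb, hq, ← hm]
  simp

open Classical in
/-- The central character of a class function as a sum over the class. -/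
theorem centralChar_eq_sum {X : Type*} [Group X] [Fintype X] (f : X → ℂ)
    (hf : IsClassFunction X f) (q : X) :
    centralChar f q = ∑ k : X, (if IsConj q k then (1 : ℂ) else 0) * (f k / f 1) := by
  have h1 : ∀ k : X, (if IsConj q k then (1 : ℂ) else 0) * (f k / f 1)
      = if IsConj q k then f q / f 1 else 0 := by
    intro k
    split_ifs with h
    · obtain ⟨c, hc⟩ := isConj_iff.1 h
      rw [one_mul, ← hc, hf q c]
    · rw [zero_mul]
  rw [Finset.sum_congr rfl (fun k _ => h1 k), ← Finset.sum_filter, Finset.sum_const,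
    card_class_eq_index, nsmul_eq_mul]
  unfold centralChar
  ring

open Classical in
/-- For a normal `p'`-subgroup `N`, a character of `G ⧸ N` whose inflation lies in the principal
block of `G` lies in the principal block of `G ⧸ N`. -/
theorem mem_principalBlock_of_inflate {p : ℕ} {M : Ideal AlgInt} (hM : IsPModular p M)
    (N : Subgroup G) [N.Normal] (hNp : (Nat.card N).Coprime p) (ψ : IrrCharacter (G ⧸ N))
    (h : (⟨inflate N ψ, isIrrCharacter_inflate N ψ.2⟩ : IrrCharacter G) ∈ principalBlock M G) :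
    ψ ∈ principalBlock M (G ⧸ N) := by
  have hMp := isPrime_of_isPModular hM
  let _ : Fintype (G ⧸ N) := Fintype.ofFinite _
  have hN0 : Nat.card N ≠ 0 := Nat.card_pos.ne'
  have hNC : (Nat.card N : ℂ) ≠ 0 := by exact_mod_cast hN0
  intro q
  obtain ⟨a, ha⟩ : ∃ a : G → ℂ, a = fun g : G =>
      if IsConj q (QuotientGroup.mk g : G ⧸ N) then (1 : ℂ) / (Nat.card N : ℂ) else 0 := ⟨_, rfl⟩
  have haloc : ∀ g, MemLocalRing M (a g) := by
    intro g
    rw [ha]
    beta_reduce
    split_ifs
    · have := memLocalRing_natCast_div hM 1 (Nat.card N) one_ne_zero hN0 (by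
        rw [Nat.factorization_eq_zero_of_not_dvd]
        · exact Nat.zero_le _
        · intro hdvd
          have := Nat.Coprime.eq_one_of_dvd hNp.symm hdvd
          exact hM.1.one_lt.ne' this)
      simpa using this
    · exact memLocalRing_of_integral isIntegral_zero
  have hac : ∀ g x : G, a (x * g * x⁻¹) = a g := by
    intro g x
    rw [ha]
    beta_reduce
    have : IsConj q ((x * g * x⁻¹ : G) : G ⧸ N) ↔ IsConj q (g : G ⧸ N) := by
      rw [QuotientGroup.mk_mul, QuotientGroup.mk_mul, QuotientGroup.mk_inv]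
      constructor
      · intro hc
        exact hc.trans (isConj_iff.mpr ⟨(x : G ⧸ N)⁻¹, by group⟩)
      · intro hc
        exact hc.trans (isConj_iff.mpr ⟨(x : G ⧸ N), rfl⟩)
    by_cases hg : IsConj q (g : G ⧸ N)
    · rw [if_pos hg, if_pos (this.mpr hg)]
    · rw [if_neg hg, if_neg (fun h => hg (this.mp h))]
  have hcong := memLocalIdeal_sum_mul_div_sub a haloc hac
    (Cfsg.Agent.Lib.helper3.PrincOnly.one G) ⟨inflate N ψ, isIrrCharacter_inflate N ψ.2⟩ h
  have hsum : ∀ f : G ⧸ N → ℂ, IsClassFunction (G ⧸ N) f →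
      ∑ g : G, a g * (inflate N f g / inflate N f 1) = centralChar f q := by
    intro f hf
    rw [centralChar_eq_sum f hf q, ha]
    have := sum_comp_mk N (fun k : G ⧸ N =>
      (if IsConj q k then (1 : ℂ) / (Nat.card N : ℂ) else 0) * (f k / f 1))
    simp only [inflate_apply, QuotientGroup.mk_one]
    rw [this, Finset.mul_sum]
    apply Finset.sum_congr rfl
    intro k _
    split_ifs
    · field_simp
    · simp
  have e1 := hsum (fun _ => (1 : ℂ)) (fun _ _ => rfl)
  have e2 := hsum (ψ : G ⧸ N → ℂ)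
    (isClassFunction_of_isCharacter (isCharacter_of_isIrrCharacter ψ.2))
  have e1' : ∑ g : G, a g * (((Cfsg.Agent.Lib.helper3.PrincOnly.one G : IrrCharacter G) : G → ℂ) g
      / ((Cfsg.Agent.Lib.helper3.PrincOnly.one G : IrrCharacter G) : G → ℂ) 1)
      = centralChar (fun _ : G ⧸ N => (1 : ℂ)) q := e1
  rw [e1', e2] at hcong
  exact hcong

/-- Inflation of irreducible characters. -/
noncomputable def infl (N : Subgroup G) [N.Normal] (ψ : IrrCharacter (G ⧸ N)) : IrrCharacter G :=
  ⟨inflate N ψ, isIrrCharacter_inflate N ψ.2⟩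

theorem infl_apply (N : Subgroup G) [N.Normal] (ψ : IrrCharacter (G ⧸ N)) (g : G) :
    (infl N ψ : G → ℂ) g = (ψ : G ⧸ N → ℂ) (g : G ⧸ N) := rfl

/-- Inflation is a bijection between the principal blocks of `G ⧸ N` and `G`, for a normal
`p'`-subgroup `N`. -/
theorem bijOn_infl {p : ℕ} {M : Ideal AlgInt} (hM : IsPModular p M)
    (N : Subgroup G) [N.Normal] (hNp : (Nat.card N).Coprime p) :
    Set.BijOn (infl N) (principalBlock M (G ⧸ N)) (principalBlock M G) := by
  refine ⟨?_, ?_, ?_⟩
  · intro ψ hψ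
    exact Cfsg.Agent.H2.PrincHeight.inflate_mem_principalBlock N ψ hψ
  · intro ψ _ ψ' _ h
    apply Subtype.ext
    apply inflate_injective N
    exact congrArg Subtype.val h
  · intro χ hχ
    obtain ⟨ψ, hψ⟩ :=
      Cfsg.Agent.H2.PrincHeight.exists_eq_inflate_of_mem_principalBlock hM N hNp χ hχ
    have hχ' : χ = infl N ψ := Subtype.ext hψ
    refine ⟨ψ, ?_, hχ'.symm⟩
    apply mem_principalBlock_of_inflate hM N hNp ψ
    have : (⟨inflate N ψ, isIrrCharacter_inflate N ψ.2⟩ : IrrCharacter G) = χ := hχ'.symm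
    rw [this]
    exact hχ

open Classical in
theorem finsum_mem_eq_sum_filter' {α β : Type*} [Fintype α] [AddCommMonoid β] (S : Set α)
    (f : α → β) : ∑ᶠ a ∈ S, f a = ∑ a ∈ Finset.univ.filter (fun a => a ∈ S), f a := by
  rw [finsum_mem_eq_finite_toFinset_sum f (Set.toFinite S)]
  apply Finset.sum_congr _ (fun _ _ => rfl)
  ext a
  simp

open Classical in
/-- The sum of `|χ(x)|²` over the principal block is a positive integer. -/
theorem exists_nat_sum_normSq {p : ℕ} {M : Ideal AlgInt} (hM : IsPModular p M) (x : G) :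
    ∃ n : ℕ, 0 < n ∧
      ∑ᶠ χ ∈ principalBlock M G, Complex.normSq ((χ : G → ℂ) x) = n := by
  have hMtop : M ≠ ⊤ := hM.2.1.ne_top
  obtain ⟨m, hm⟩ := exists_int_sum_mul_conj (principalBlock M G)
    (fun t ht χ hχ => powIrr_mem_principalBlock t ht χ hχ) x
  rw [finsum_mem_eq_sum_filter']
  have h1 : ∑ χ ∈ Finset.univ.filter (fun χ : IrrCharacter G => χ ∈ principalBlock M G),
      Complex.normSq ((χ : G → ℂ) x) = (m : ℝ) := by
    apply Complex.ofReal_injective
    rw [Complex.ofReal_intCast, ← hm, Complex.ofReal_sum]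
    apply Finset.sum_congr rfl
    intro χ _
    rw [Complex.mul_conj]
  have h2 : (1 : ℝ) ≤ ∑ χ ∈ Finset.univ.filter (fun χ : IrrCharacter G => χ ∈ principalBlock M G),
      Complex.normSq ((χ : G → ℂ) x) := by
    have hmem : Cfsg.Agent.Lib.helper3.PrincOnly.one G
        ∈ Finset.univ.filter (fun χ : IrrCharacter G => χ ∈ principalBlock M G) := by
      rw [Finset.mem_filter]
      exact ⟨Finset.mem_univ _, sameBlock_refl hMtop _⟩
    have := Finset.single_le_sum (f := fun χ : IrrCharacter G => Complex.normSq ((χ : G → ℂ) x))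
      (fun χ _ => Complex.normSq_nonneg _) hmem
    have h3 : Complex.normSq (((Cfsg.Agent.Lib.helper3.PrincOnly.one G : IrrCharacter G) : G → ℂ) x)
        = 1 := by
      show Complex.normSq (1 : ℂ) = 1
      simp
    rw [h3] at this
    exact this
  rw [h1] at h2 ⊢
  have h3 : (1 : ℤ) ≤ m := by exact_mod_cast h2
  refine ⟨m.toNat, by omega, ?_⟩
  have : ((m.toNat : ℕ) : ℤ) = m := Int.toNat_of_nonneg (by omega)
  have h4 : ((m.toNat : ℕ) : ℝ) = ((m.toNat : ℤ) : ℝ) := by push_cast; rfl
  rw [h4, this]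

/-- The principal block sums of `G` and of `G ⧸ N` agree. -/
theorem finsum_principalBlock_eq {p : ℕ} {M : Ideal AlgInt} (hM : IsPModular p M)
    (N : Subgroup G) [N.Normal] (hNp : (Nat.card N).Coprime p) {β : Type*} [AddCommMonoid β]
    (f : IrrCharacter G → β) :
    ∑ᶠ χ ∈ principalBlock M G, f χ = ∑ᶠ ψ ∈ principalBlock M (G ⧸ N), f (infl N ψ) :=
  (finsum_mem_eq_of_bijOn (infl N) (bijOn_infl hM N hNp) (fun _ _ => rfl)).symm

open Classical in
/-- The principal block sum of `|ψ(x)|²` is at most the order of the centralizer. -/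
theorem finsum_normSq_le {M : Ideal AlgInt} (x : G) :
    ∑ᶠ χ ∈ principalBlock M G, Complex.normSq ((χ : G → ℂ) x)
      ≤ (Nat.card ↥(Subgroup.centralizer ({x} : Set G)) : ℝ) := by
  rw [finsum_mem_eq_sum_filter',
    ← Cfsg.Agent.Lib.Helper4.CharExtra.sum_norm_sq_eq_card_centralizer x]
  calc ∑ χ ∈ Finset.univ.filter (fun χ : IrrCharacter G => χ ∈ principalBlock M G),
        Complex.normSq ((χ : G → ℂ) x)
      ≤ ∑ χ : IrrCharacter G, Complex.normSq ((χ : G → ℂ) x) :=
        Finset.sum_le_sum_of_subset_of_nonneg (Finset.filter_subset _ _)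
          (fun χ _ _ => Complex.normSq_nonneg _)
    _ = ∑ χ : IrrCharacter G, ‖(χ : G → ℂ) x‖ ^ 2 := by
        apply Finset.sum_congr rfl
        intro χ _
        rw [Complex.normSq_eq_norm_sq]

/-- The sum of the squares of the degrees is the group order, in `ℕ`. -/
theorem sum_charDegree_sq : ∑ χ : IrrCharacter G, charDegree (χ : G → ℂ) ^ 2 = Nat.card G := by
  have h := sum_sq_degree (G := G)
  have h2 : ((∑ χ : IrrCharacter G, charDegree (χ : G → ℂ) ^ 2 : ℕ) : ℂ) = (Nat.card G : ℂ) := by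
    rw [← h]
    push_cast
    apply Finset.sum_congr rfl
    intro χ _
    rw [Cfsg.Agent.Lib.Helper4.Codegree.charDegree_cast (isCharacter_of_isIrrCharacter χ.2)]
  exact_mod_cast h2

open Classical in
/-- The principal block accounts for the whole group order exactly when it is the only block. -/
theorem finsum_charDegree_sq_eq_iff {p : ℕ} {M : Ideal AlgInt} (hM : IsPModular p M) :
    (∑ᶠ χ ∈ principalBlock M G, charDegree (χ : G → ℂ) ^ 2) = Nat.card G
      ↔ ∀ B : Set (IrrCharacter G), IsPBlock M B → B = principalBlock M G := by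
  have hMp := isPrime_of_isPModular hM
  have hMtop : M ≠ ⊤ := hM.2.1.ne_top
  rw [finsum_mem_eq_sum_filter']
  have hsplit := Finset.sum_filter_add_sum_filter_not (Finset.univ : Finset (IrrCharacter G))
    (fun χ : IrrCharacter G => χ ∈ principalBlock M G)
    (fun χ => charDegree (χ : G → ℂ) ^ 2)
  rw [sum_charDegree_sq] at hsplit
  have hpB : IsPBlock M (principalBlock M G) :=
    ⟨Cfsg.Agent.Lib.helper3.PrincOnly.one G, rfl⟩
  constructor
  · intro h B hB
    have hzero : ∑ χ ∈ Finset.univ.filter (fun χ : IrrCharacter G => ¬ χ ∈ principalBlock M G),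
        charDegree (χ : G → ℂ) ^ 2 = 0 := by omega
    obtain ⟨χ₀, rfl⟩ := hB
    have hχ₀ : χ₀ ∈ principalBlock M G := by
      by_contra hcon
      have hmem : χ₀ ∈ Finset.univ.filter (fun χ : IrrCharacter G => ¬ χ ∈ principalBlock M G) := by
        rw [Finset.mem_filter]
        exact ⟨Finset.mem_univ _, hcon⟩
      have := (Finset.sum_eq_zero_iff.1 hzero) χ₀ hmem
      have hpos := Cfsg.Agent.Lib.Helper4.Codegree.charDegree_pos χ₀.2
      have : charDegree (χ₀ : G → ℂ) = 0 := by
        rcases Nat.eq_zero_or_pos (charDegree (χ₀ : G → ℂ)) with h0 | h0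
        · exact h0
        · exact absurd this (pow_pos h0 2).ne'
      omega
    exact block_eq_of_mem ⟨χ₀, rfl⟩ hpB χ₀ (sameBlock_refl hMtop _) hχ₀
  · intro h
    have hall : ∀ χ : IrrCharacter G, χ ∈ principalBlock M G := by
      intro χ
      have := h (blockOf M (χ : G → ℂ)) ⟨χ, rfl⟩
      rw [← this]
      exact sameBlock_refl hMtop _
    have hempty : Finset.univ.filter (fun χ : IrrCharacter G => ¬ χ ∈ principalBlock M G) = ∅ := by
      rw [Finset.filter_eq_empty_iff]
      intro χ _ hcon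
      exact hcon (hall χ)
    rw [hempty, Finset.sum_empty, add_zero] at hsplit
    exact hsplit

end Cfsg.Agent.H2.PrincQuot
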