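import Mathlib
import Cfsg.Agent.H2.PronormalB

/-!
# Overgroups of Sylow subgroups in an extension: translation to subgroup and quotient types (helper2)
-/

set_option autoImplicit false
set_option linter.unusedSectionVars false
set_option linter.style.haveILetI false
set_option linter.deprecated false

namespace Cfsg.Agent.H2.Prn

open Cfsg.Agent.H2

variable {G : Type*} [Group G] [Finite G] {p : ℕ} [Fact p.Prime]

/-- **C1** -/
theorem hA'_of (A : Subgroup G) (PA : Sylow p ↥A)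
    (hA : ∀ K : Subgroup ↥A, (∃ P : Sylow p ↥A, (P : Subgroup ↥A) ≤ K) → Cfsg.IsPronormal K) :
    ∀ L : Subgroup G, L ≤ A → TT A PA ≤ L → ∀ a ∈ A, ∃ b ∈ L ⊔ cj a L, cj a L = cj b L := by
  intro L hLA hTL
  have hPK : (PA : Subgroup ↥A) ≤ L.subgroupOf A := by
    intro x hx
    rw [Subgroup.mem_subgroupOf]
    exact hTL ⟨x, hx, rfl⟩
  exact (pronormal_subgroupOf_iff A L hLA).1 (hA _ ⟨PA, hPK⟩)

/-- **C2** -/
theorem hQ'_of (A : Subgroup G) [hAn : A.Normal] (S : Sylow p G)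
    (hQ : ∀ K : Subgroup (G ⧸ A), (∃ P : Sylow p (G ⧸ A), (P : Subgroup (G ⧸ A)) ≤ K) →
      Cfsg.IsPronormal K)
    (hii : ∀ K : Subgroup G, (∃ P : Sylow p G, (P : Subgroup G) ≤ K) →
      (Subgroup.normalizer (K : Set G)).map (QuotientGroup.mk' A) =
        Subgroup.normalizer ((K.map (QuotientGroup.mk' A) : Subgroup (G ⧸ A)) : Set (G ⧸ A))) :
    ∀ K : Subgroup G, (S : Subgroup G) ≤ K → ∀ g : G, ∃ x ∈ K ⊔ cj g K, ∃ a ∈ A,
      ∃ n ∈ Subgroup.normalizer (K : Set G), g = x * a * n := by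
  intro K hSK g
  have hsurj := QuotientGroup.mk'_surjective A
  have hP : ((S.mapSurjective hsurj : Sylow p (G ⧸ A)) : Subgroup (G ⧸ A)) ≤
      K.map (QuotientGroup.mk' A) := by
    rw [Sylow.coe_mapSurjective]
    exact Subgroup.map_mono hSK
  have hprn := hQ _ ⟨_, hP⟩
  rw [prn_iff] at hprn
  obtain ⟨y, hy, hye⟩ := hprn (QuotientGroup.mk' A g)
  rw [← map_cj, ← Subgroup.map_sup] at hy
  obtain ⟨x, hx, rfl⟩ := hy
  have h1 : QuotientGroup.mk' A (x⁻¹ * g) ∈
      Subgroup.normalizer ((K.map (QuotientGroup.mk' A) : Subgroup (G ⧸ A)) : Set (G ⧸ A)) := by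
    rw [← cj_eq_self_iff, map_mul, cj_mul, hye, map_inv, cj_inv_cj]
  rw [← hii K ⟨S, hSK⟩] at h1
  obtain ⟨n, hn, hne⟩ := h1
  refine ⟨x, hx, x⁻¹ * g * n⁻¹, ?_, n, hn, by group⟩
  rw [← QuotientGroup.eq_one_iff]
  have : ((x⁻¹ * g * n⁻¹ : G) : G ⧸ A) = QuotientGroup.mk' A (x⁻¹ * g) * (QuotientGroup.mk' A n)⁻¹ := by
    simp
  rw [this, hne, mul_inv_cancel]

section normalizerT

variable (A : Subgroup G) [hAn : A.Normal] (PA : Sylow p ↥A)
  [hTn : ((TT A PA).subgroupOf (Subgroup.normalizer (TT A PA : Set G))).Normal]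

/-- **C3** -/
theorem hi'_of (S : Sylow p G) (hTS : TT A PA ≤ S)
    (hi : ∀ K : Subgroup (↥(Subgroup.normalizer (TT A PA : Set G)) ⧸
        (TT A PA).subgroupOf (Subgroup.normalizer (TT A PA : Set G))),
      (∃ P : Sylow p (↥(Subgroup.normalizer (TT A PA : Set G)) ⧸
        (TT A PA).subgroupOf (Subgroup.normalizer (TT A PA : Set G))),
          (P : Subgroup _) ≤ K) → Cfsg.IsPronormal K) :
    ∀ L : Subgroup G, (S : Subgroup G) ≤ L → L ≤ Subgroup.normalizer (TT A PA : Set G) →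
      ∀ g ∈ Subgroup.normalizer (TT A PA : Set G), ∃ d ∈ L ⊔ cj g L, cj g L = cj d L := by
  intro L hSL hLM
  set M := Subgroup.normalizer (TT A PA : Set G) with hM
  have hSM : (S : Subgroup G) ≤ M := hSL.trans hLM
  have hsurj := QuotientGroup.mk'_surjective ((TT A PA).subgroupOf M)
  have hP : (((S.subtype hSM).mapSurjective hsurj :
      Sylow p (↥M ⧸ (TT A PA).subgroupOf M)) : Subgroup _) ≤
      (L.subgroupOf M).map (QuotientGroup.mk' ((TT A PA).subgroupOf M)) := by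
    rw [Sylow.coe_mapSurjective]
    apply Subgroup.map_mono
    rw [Sylow.coe_subtype]
    intro x hx
    rw [Subgroup.mem_subgroupOf] at hx ⊢
    exact hSL hx
  have hprn := hi _ ⟨_, hP⟩
  have hker : (QuotientGroup.mk' ((TT A PA).subgroupOf M)).ker ≤ L.subgroupOf M := by
    rw [QuotientGroup.ker_mk']
    intro x hx
    rw [Subgroup.mem_subgroupOf] at hx ⊢
    exact hSL (hTS hx)
  have h2 := pronormal_of_map _ hker hprn
  exact (pronormal_subgroupOf_iff M L hLM).1 h2

/-- **C4** -/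
theorem hi_of (S : Sylow p G) (hTS : TT A PA ≤ S)
    (hall : ∀ K : Subgroup G, (∃ P : Sylow p G, (P : Subgroup G) ≤ K) → Cfsg.IsPronormal K) :
    ∀ K : Subgroup (↥(Subgroup.normalizer (TT A PA : Set G)) ⧸
        (TT A PA).subgroupOf (Subgroup.normalizer (TT A PA : Set G))),
      (∃ P : Sylow p (↥(Subgroup.normalizer (TT A PA : Set G)) ⧸
        (TT A PA).subgroupOf (Subgroup.normalizer (TT A PA : Set G))),
          (P : Subgroup _) ≤ K) → Cfsg.IsPronormal K := by
  intro K ⟨P, hPK⟩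
  set M := Subgroup.normalizer (TT A PA : Set G) with hM
  have hSM : (S : Subgroup G) ≤ M := sylow_le_normalizer A PA S hTS
  have hsurj := QuotientGroup.mk'_surjective ((TT A PA).subgroupOf M)
  set L' : Subgroup ↥M := K.comap (QuotientGroup.mk' ((TT A PA).subgroupOf M)) with hL'
  set L : Subgroup G := L'.map M.subtype with hL
  have hLM : L ≤ M := by
    rintro _ ⟨x, -, rfl⟩
    exact x.2
  obtain ⟨gq, hgq⟩ := MulAction.exists_smul_eq (↥M ⧸ (TT A PA).subgroupOf M)
    ((S.subtype hSM).mapSurjective hsurj) P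
  obtain ⟨g, rfl⟩ := hsurj gq
  -- a Sylow subgroup of `G` inside `L`
  have hSL : (((g : G) • S : Sylow p G) : Subgroup G) ≤ L := by
    intro y hy
    rw [mem_sylow_smul_iff] at hy
    have hyM : y ∈ M := by
      have : y = (g : G) * ((g : G)⁻¹ * y * (g : G)) * (g : G)⁻¹ := by group
      rw [this]
      exact M.mul_mem (M.mul_mem g.2 (hSM hy)) (M.inv_mem g.2)
    refine ⟨⟨y, hyM⟩, ?_, rfl⟩
    rw [SetLike.mem_coe, hL', Subgroup.mem_comap]
    apply hPK
    rw [← hgq]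
    show (QuotientGroup.mk' ((TT A PA).subgroupOf M)) ⟨y, hyM⟩ ∈
      ((QuotientGroup.mk' ((TT A PA).subgroupOf M) g •
        (S.subtype hSM).mapSurjective hsurj : Sylow p _) : Subgroup _)
    rw [mem_sylow_smul_iff, Sylow.coe_mapSurjective]
    refine ⟨⟨(g : G)⁻¹ * y * (g : G), hSM hy⟩, ?_, ?_⟩
    · rw [SetLike.mem_coe, Sylow.coe_subtype, Subgroup.mem_subgroupOf]
      exact hy
    · rw [← map_inv, ← map_mul, ← map_mul]
      congr 1
  have hprn := hall L ⟨_, hSL⟩
  have h1 : Cfsg.IsPronormal (L.subgroupOf M) := (pronormal_subgroupOf_iff M L hLM).2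
    (fun g hg => (prn_iff L).1 hprn g)
  have h2 : L.subgroupOf M = L' := Subgroup.comap_map_eq_self_of_injective M.subtype_injective L'
  rw [h2] at h1
  have h3 := pronormal_map (QuotientGroup.mk' ((TT A PA).subgroupOf M)) hsurj h1
  rw [hL', Subgroup.map_comap_eq_self_of_surjective hsurj] at h3
  exact h3

end normalizerT

end Cfsg.Agent.H2.Prn
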