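import Mathlib
import Cfsg.Agent.H2.PronormalA

/-!
# Overgroups of self-normalizing Sylow subgroups (helper2)
-/

set_option autoImplicit false
set_option linter.unusedSectionVars false
set_option linter.style.haveILetI false
set_option linter.deprecated false

namespace Cfsg.Agent.H2.Prn

open Cfsg.Agent.H2

variable {G : Type*} [Group G] [Finite G] {p : ℕ} [Fact p.Prime]

/-- an overgroup of a self-normalizing Sylow subgroup is self-normalizing -/
theorem normalizer_eq_of_self_normalizing_sylow (P : Sylow p G)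
    (hP : Subgroup.normalizer ((P : Subgroup G) : Set G) = P) (K : Subgroup G)
    (hPK : (P : Subgroup G) ≤ K) : Subgroup.normalizer (K : Set G) = K := by
  apply le_antisymm _ Subgroup.le_normalizer
  intro n hn
  have hnK : cj n K = K := (cj_eq_self_iff _ _).2 hn
  have h1 : cj n (P : Subgroup G) ≤ K := by
    rw [← hnK]; exact cj_mono n hPK
  have hY : IsPGroup p (cj n (P : Subgroup G)) := P.2.map _
  obtain ⟨k, hk, hle⟩ := exists_conj_le_sylow_of_le P K hPK _ hY h1
  have h2 : cj (k * n) (P : Subgroup G) ≤ P := by rw [cj_mul]; exact hle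
  have h3 : cj (k * n) (P : Subgroup G) = P := map_conj_eq_of_le _ _ h2
  rw [cj_eq_self_iff, hP] at h3
  have e : n = k⁻¹ * (k * n) := by group
  rw [e]
  exact K.mul_mem (K.inv_mem hk) (hPK h3)

/-- an overgroup of a self-normalizing Sylow subgroup is pronormal -/
theorem pronormal_of_self_normalizing_sylow (P : Sylow p G)
    (hP : Subgroup.normalizer ((P : Subgroup G) : Set G) = P) (K : Subgroup G)
    (hPK : (P : Subgroup G) ≤ K) : Cfsg.IsPronormal K := by
  rw [prn_iff]
  intro g
  set J := K ⊔ cj g K with hJ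
  have h1 : cj g (P : Subgroup G) ≤ J := (cj_mono g hPK).trans le_sup_right
  have hY : IsPGroup p (cj g (P : Subgroup G)) := P.2.map _
  obtain ⟨k, hk, hle⟩ := exists_conj_le_sylow_of_le P J (hPK.trans le_sup_left) _ hY h1
  have h2 : cj (k * g) (P : Subgroup G) ≤ P := by rw [cj_mul]; exact hle
  have h3 : cj (k * g) (P : Subgroup G) = P := map_conj_eq_of_le _ _ h2
  rw [cj_eq_self_iff, hP] at h3
  have hgJ : g ∈ J := by
    have e : g = k⁻¹ * (k * g) := by group
    rw [e]
    exact J.mul_mem (J.inv_mem hk) ((hPK.trans le_sup_left) h3)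
  exact ⟨g, hgJ, rfl⟩

end Cfsg.Agent.H2.Prn
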