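import Mathlib

/-!
# Centralizers of involutions in groups with quasi-dihedral or wreathed Sylow 2-subgroups:
generic tools (helper2)
-/

set_option autoImplicit false
set_option linter.style.haveILetI false
set_option linter.unusedSectionVars false
set_option linter.unusedVariables false

namespace Cfsg.Agent.H2.QGrp

/-- the additive embedding `ZMod 4 → ZMod (2 * 2 ^ m)`, multiplication by `2 ^ (m - 1)` -/
noncomputable def quatShift (m : ℕ) (hm : 1 ≤ m) : ZMod (2 * 2) →+ ZMod (2 * 2 ^ m) :=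
  ZMod.lift (2 * 2) ⟨zmultiplesHom (ZMod (2 * 2 ^ m)) ((2 ^ (m - 1) : ℕ) : ZMod (2 * 2 ^ m)), by
    rw [zmultiplesHom_apply]
    have h1 : ((2 * 2 : ℕ) : ℤ) • ((2 ^ (m - 1) : ℕ) : ZMod (2 * 2 ^ m))
        = ((2 * 2 * 2 ^ (m - 1) : ℕ) : ZMod (2 * 2 ^ m)) := by
      push_cast
      simp [zsmul_eq_mul]
    rw [h1, ZMod.natCast_eq_zero_iff]
    have : 2 * 2 * 2 ^ (m - 1) = 2 * 2 ^ m := by
      have : m = (m - 1) + 1 := by omega
      conv_rhs => rw [this, pow_succ]
      ring
    rw [this]⟩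

theorem quatShift_natCast (m : ℕ) (hm : 1 ≤ m) (k : ℕ) :
    quatShift m hm (k : ZMod (2 * 2)) = ((k * 2 ^ (m - 1) : ℕ) : ZMod (2 * 2 ^ m)) := by
  unfold quatShift
  have : ((k : ZMod (2 * 2))) = ((k : ℤ) : ZMod (2 * 2)) := by push_cast; rfl
  rw [this, ZMod.lift_coe]
  simp [zmultiplesHom_apply]


theorem quatShift_two (m : ℕ) (hm : 1 ≤ m) :
    quatShift m hm ((2 : ℕ) : ZMod (2 * 2)) = ((2 ^ m : ℕ) : ZMod (2 * 2 ^ m)) := by
  rw [quatShift_natCast]
  congr 1
  have : m = (m - 1) + 1 := by omega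
  conv_rhs => rw [this, pow_succ]
  ring

theorem quatShift_injective (m : ℕ) (hm : 1 ≤ m) : Function.Injective (quatShift m hm) := by
  rw [injective_iff_map_eq_zero]
  intro i hi
  have h1 : i = ((ZMod.val i : ℕ) : ZMod (2 * 2)) := (ZMod.natCast_zmod_val i).symm
  rw [h1, quatShift_natCast, ZMod.natCast_eq_zero_iff] at hi
  have h2 : 2 * 2 ^ m = 4 * 2 ^ (m - 1) := by
    have : m = (m - 1) + 1 := by omega
    conv_lhs => rw [this, pow_succ]
    ring
  rw [h2] at hi
  have h3 : 4 ∣ ZMod.val i := by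
    have := Nat.dvd_of_mul_dvd_mul_right (by positivity) hi
    exact this
  have h4 : ZMod.val i < 4 := ZMod.val_lt i
  have h5 : ZMod.val i = 0 := by omega
  rw [h1, h5]; simp

/-- the embedding of the quaternion group of order `8` in a generalized quaternion group -/
noncomputable def quatEmbed (m : ℕ) (hm : 1 ≤ m) : QuaternionGroup 2 →* QuaternionGroup (2 ^ m) :=
  MonoidHom.mk' (fun q => match q with
    | QuaternionGroup.a i => QuaternionGroup.a (quatShift m hm i)
    | QuaternionGroup.xa i => QuaternionGroup.xa (quatShift m hm i)) (by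
    rintro (i | i) (j | j)
    · show QuaternionGroup.a (quatShift m hm (i + j)) = QuaternionGroup.a _ * QuaternionGroup.a _
      rw [QuaternionGroup.a_mul_a, map_add]
    · show QuaternionGroup.xa (quatShift m hm (j - i)) = QuaternionGroup.a _ * QuaternionGroup.xa _
      rw [QuaternionGroup.a_mul_xa, map_sub]
    · show QuaternionGroup.xa (quatShift m hm (i + j)) = QuaternionGroup.xa _ * QuaternionGroup.a _
      rw [QuaternionGroup.xa_mul_a, map_add]
    · show QuaternionGroup.a (quatShift m hm (((2 : ℕ) : ZMod (2 * 2)) + j - i))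
        = QuaternionGroup.xa _ * QuaternionGroup.xa _
      rw [QuaternionGroup.xa_mul_xa, map_sub, map_add, quatShift_two])

theorem quatEmbed_injective (m : ℕ) (hm : 1 ≤ m) : Function.Injective (quatEmbed m hm) := by
  rintro (i | i) (j | j) hij
  · have h1 : QuaternionGroup.a (quatShift m hm i) = QuaternionGroup.a (quatShift m hm j) := hij
    rw [QuaternionGroup.a.injEq] at h1
    rw [quatShift_injective m hm h1]
  · have h1 : QuaternionGroup.a (quatShift m hm i) = QuaternionGroup.xa (quatShift m hm j) := hij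
    exact absurd h1 (by simp)
  · have h1 : QuaternionGroup.xa (quatShift m hm i) = QuaternionGroup.a (quatShift m hm j) := hij
    exact absurd h1 (by simp)
  · have h1 : QuaternionGroup.xa (quatShift m hm i) = QuaternionGroup.xa (quatShift m hm j) := hij
    rw [QuaternionGroup.xa.injEq] at h1
    rw [quatShift_injective m hm h1]

/-- a generalized quaternion group contains a quaternion group of order `8` -/
theorem exists_quat_sub {X : Type*} [Group X] (m : ℕ) (hm : 1 ≤ m)
    (e : X ≃* QuaternionGroup (2 ^ m)) : ∃ Q : Subgroup X, Nonempty (↥Q ≃* QuaternionGroup 2) := by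
  refine ⟨(e.symm.toMonoidHom.comp (quatEmbed m hm)).range, ⟨(MonoidHom.ofInjective ?_).symm⟩⟩
  exact e.symm.injective.comp (quatEmbed_injective m hm)


section generic

variable {G : Type*} [Group G]

/-- a normal subgroup whose index is a nontrivial power of two lies in a subgroup of index two -/
theorem exists_index_two_of_normal [Finite G] (K : Subgroup G) [K.Normal] (a : ℕ) (ha : 1 ≤ a)
    (hK : K.index = 2 ^ a) : ∃ H : Subgroup G, H.index = 2 := by
  haveI : Fact (Nat.Prime 2) := ⟨Nat.prime_two⟩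
  have hcard : Nat.card (G ⧸ K) = 2 ^ a := by rw [← Subgroup.index_eq_card, hK]
  obtain ⟨H', hH'⟩ := Sylow.exists_subgroup_card_pow_prime (G := G ⧸ K) 2 (n := a - 1)
    (by rw [hcard]; exact pow_dvd_pow 2 (by omega))
  refine ⟨H'.comap (QuotientGroup.mk' K), ?_⟩
  rw [Subgroup.index_comap_of_surjective H' (QuotientGroup.mk'_surjective K)]
  have h1 := H'.card_mul_index
  rw [hH', hcard] at h1
  have h2 : 2 ^ a = 2 ^ (a - 1) * 2 := by
    conv_lhs => rw [show a = (a - 1) + 1 by omega, pow_succ]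
  rw [h2] at h1
  exact Nat.eq_of_mul_eq_mul_left (by positivity) h1

/-- a group with a normal 2-complement and nontrivial Sylow 2-subgroups has a subgroup of index
two -/
theorem exists_index_two_of_complement [Finite G] (S : Sylow 2 G) (hS : Nat.card S ≠ 1)
    (N : Subgroup G) [N.Normal] (P : Sylow 2 G) (hN : N.IsComplement' (P : Subgroup G)) :
    ∃ H : Subgroup G, H.index = 2 := by
  haveI : Fact (Nat.Prime 2) := ⟨Nat.prime_two⟩
  have h1 : N.index = Nat.card P := hN.symm.index_eq_card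
  obtain ⟨k, hk⟩ := (IsPGroup.iff_card.1 P.isPGroup')
  have h2 : Nat.card P = Nat.card S := Sylow.card_eq_multiplicity P ▸ (Sylow.card_eq_multiplicity S).symm
  have hk1 : 1 ≤ k := by
    by_contra hcon
    have : k = 0 := by omega
    rw [this, pow_zero] at hk
    exact hS (h2 ▸ hk)
  exact exists_index_two_of_normal N k hk1 (by rw [h1, hk])

/-- the centre of a subgroup, as a subgroup of the ambient group -/
def ZcS (H : Subgroup G) : Subgroup G := (Subgroup.center ↥H).map H.subtype

theorem mem_ZcS_iff (H : Subgroup G) (a : G) :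
    a ∈ ZcS H ↔ a ∈ H ∧ ∀ b ∈ H, b * a = a * b := by
  unfold ZcS
  constructor
  · rintro ⟨a', ha', rfl⟩
    refine ⟨a'.2, fun b hb => ?_⟩
    have := Subgroup.mem_center_iff.1 ha' ⟨b, hb⟩
    exact congrArg Subtype.val this
  · rintro ⟨haH, hcomm⟩
    refine ⟨⟨a, haH⟩, ?_, rfl⟩
    show (⟨a, haH⟩ : ↥H) ∈ Subgroup.center ↥H
    rw [Subgroup.mem_center_iff]
    intro b
    exact Subtype.ext (hcomm b b.2)

theorem ZcS_le (H : Subgroup G) : ZcS H ≤ H := fun a ha => ((mem_ZcS_iff H a).1 ha).1

/-- the centre of `H`, viewed inside a subgroup `L ≥ H` -/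
theorem ZcS_subgroupOf_map (H L : Subgroup G) (hHL : H ≤ L) :
    (ZcS (H.subgroupOf L)).map L.subtype = ZcS H := by
  ext a
  constructor
  · rintro ⟨a', ha'', rfl⟩
    have ha' : a' ∈ ZcS (H.subgroupOf L) := ha''
    rw [mem_ZcS_iff] at ha' ⊢
    refine ⟨Subgroup.mem_subgroupOf.1 ha'.1, fun b hb => ?_⟩
    have := ha'.2 ⟨b, hHL hb⟩ (Subgroup.mem_subgroupOf.2 hb)
    exact congrArg Subtype.val this
  · intro ha
    rw [mem_ZcS_iff] at ha
    refine ⟨⟨a, hHL ha.1⟩, ?_, rfl⟩
    show (⟨a, hHL ha.1⟩ : ↥L) ∈ ZcS (H.subgroupOf L)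
    rw [mem_ZcS_iff]
    refine ⟨Subgroup.mem_subgroupOf.2 ha.1, fun b hb => ?_⟩
    exact Subtype.ext (ha.2 b (Subgroup.mem_subgroupOf.1 hb))

end generic

end Cfsg.Agent.H2.QGrp
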