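import Mathlib
import Cfsg.Agent.H2.QGrp1
import Cfsg.Agent.Lib.Lead.Conj

/-!
# Centralizers of involutions in groups with quasi-dihedral or wreathed Sylow 2-subgroups:
transport to a subgroup (helper2)
-/

set_option autoImplicit false
set_option linter.style.haveILetI false
set_option linter.unusedSectionVars false
set_option linter.unusedVariables false

namespace Cfsg.Agent.H2.QGrp

variable {G : Type*} [Group G] [Finite G]

theorem map_normalizer (L : Subgroup G) (V' : Subgroup ↥L)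
    (hN : Subgroup.normalizer ((V'.map L.subtype : Subgroup G) : Set G) ≤ L) :
    (Subgroup.normalizer (V' : Set ↥L)).map L.subtype
      = Subgroup.normalizer ((V'.map L.subtype : Subgroup G) : Set G) := by
  ext g
  constructor
  · rintro ⟨g', hg', rfl⟩
    apply Cfsg.Agent.Lib.Lead.Conj.mem_normalizer_of_conj_mem
    rintro _ ⟨r', hr', rfl⟩
    exact ⟨g' * r' * g'⁻¹, ((Subgroup.mem_normalizer_iff.1 hg') r').1 hr', rfl⟩
  · intro hg
    refine ⟨⟨g, hN hg⟩, ?_, rfl⟩
    apply Cfsg.Agent.Lib.Lead.Conj.mem_normalizer_of_conj_mem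
    intro r' hr'
    obtain ⟨w', hw', hw⟩ := ((Subgroup.mem_normalizer_iff.1 hg) (r' : G)).1 ⟨r', hr', rfl⟩
    have : w' = ⟨g, hN hg⟩ * r' * ⟨g, hN hg⟩⁻¹ := Subtype.ext hw
    rwa [← this]

theorem map_centralizer (L : Subgroup G) (V' : Subgroup ↥L)
    (hC : Subgroup.centralizer ((V'.map L.subtype : Subgroup G) : Set G) ≤ L) :
    (Subgroup.centralizer (V' : Set ↥L)).map L.subtype
      = Subgroup.centralizer ((V'.map L.subtype : Subgroup G) : Set G) := by
  ext g
  constructor
  · rintro ⟨g', hg'', rfl⟩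
    have hg' : g' ∈ Subgroup.centralizer (V' : Set ↥L) := hg''
    rw [Subgroup.mem_centralizer_iff] at hg' ⊢
    rintro _ ⟨v', hv', rfl⟩
    exact congrArg Subtype.val (hg' v' hv')
  · intro hg
    refine ⟨⟨g, hC hg⟩, ?_, rfl⟩
    rw [Subgroup.mem_centralizer_iff] at hg
    show (⟨g, hC hg⟩ : ↥L) ∈ Subgroup.centralizer (V' : Set ↥L)
    rw [Subgroup.mem_centralizer_iff]
    intro v' hv'
    exact Subtype.ext (hg (v' : G) ⟨v', hv', rfl⟩)

/-- the local index `|N(V) : V C(V)|` computed in a subgroup containing `N(V)` -/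
theorem relIndex_transport (L : Subgroup G) (V' : Subgroup ↥L)
    (hN : Subgroup.normalizer ((V'.map L.subtype : Subgroup G) : Set G) ≤ L) :
    (V' ⊔ Subgroup.centralizer (V' : Set ↥L)).relIndex (Subgroup.normalizer (V' : Set ↥L))
      = ((V'.map L.subtype) ⊔ Subgroup.centralizer ((V'.map L.subtype : Subgroup G) : Set G)).relIndex
        (Subgroup.normalizer ((V'.map L.subtype : Subgroup G) : Set G)) := by
  have hC : Subgroup.centralizer ((V'.map L.subtype : Subgroup G) : Set G) ≤ L :=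
    (Subgroup.centralizer_le_normalizer _).trans hN
  rw [← Subgroup.relIndex_map_map_of_injective _ _ (Subgroup.subtype_injective L),
    Subgroup.map_sup, map_centralizer L V' hC, map_normalizer L V' hN]

/-- a Sylow 2-subgroup having a given conjugate of a central element in its centre -/
theorem exists_sylow_center (S : Sylow 2 G) (ζ : G) (hζ : ζ ∈ ZcS (S : Subgroup G)) (g : G) :
    ∃ S₁ : Sylow 2 G, g * ζ * g⁻¹ ∈ ZcS (S₁ : Subgroup G) := by
  refine ⟨g • S, ?_⟩
  have hmem : ∀ a : G, a ∈ ((g • S : Sylow 2 G) : Subgroup G) ↔ g⁻¹ * a * g ∈ (S : Subgroup G) := by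
    intro a
    rw [Sylow.coe_subgroup_smul, Subgroup.mem_pointwise_smul_iff_inv_smul_mem, MulAut.smul_def,
      MulAut.conj_inv_apply]
  rw [mem_ZcS_iff] at hζ ⊢
  constructor
  · rw [hmem]
    have e : g⁻¹ * (g * ζ * g⁻¹) * g = ζ := by group
    rw [e]; exact hζ.1
  · intro b hb
    have h1 := hζ.2 _ ((hmem b).1 hb)
    calc b * (g * ζ * g⁻¹) = g * ((g⁻¹ * b * g) * ζ) * g⁻¹ := by group
      _ = g * (ζ * (g⁻¹ * b * g)) * g⁻¹ := by rw [h1]
      _ = g * ζ * g⁻¹ * b := by group

/-- a Sylow subgroup with `x` in its centre lies in the centralizer of `x` -/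
theorem le_centralizer_of_mem_ZcS (S₁ : Sylow 2 G) (x : G) (hx : x ∈ ZcS (S₁ : Subgroup G)) :
    (S₁ : Subgroup G) ≤ Subgroup.centralizer ({x} : Set G) := by
  intro b hb
  rw [Subgroup.mem_centralizer_singleton_iff]
  exact ((mem_ZcS_iff _ _).1 hx).2 b hb

end Cfsg.Agent.H2.QGrp
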