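import Mathlib
import Cfsg.Prelude.Def_CaseTheorems
import Cfsg.Agent.Lib.Lead.Wreathed
import Cfsg.Agent.Lib.Lead.OmegaFaithful

/-!
# Wreathed 2-groups: computations for self-centralizing subgroups (helper2)

Ring facts in `ZMod (2 ^ n)`, element computations in the normal form of `Lead.Wreathed`, and two
general lemmas on automorphisms of odd order of 2-groups.
-/

set_option autoImplicit false
set_option linter.style.haveILetI false

namespace Cfsg.Agent.H2.WrSC

open Cfsg.Agent.Lead.QD (P c d)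
open Cfsg.Agent.Lead.Wr

section ring

variable {n : ℕ}

theorem two_d (hn : 2 ≤ n) : 2 * d n = c n := by
  unfold d c
  have h : ((2 : ℕ) : ZMod (2 ^ n)) * ((2 ^ (n - 2) : ℕ) : ZMod (2 ^ n))
      = ((2 ^ (n - 1) : ℕ) : ZMod (2 ^ n)) := by
    rw [← Nat.cast_mul, ← pow_succ']
    congr 2
    omega
  simpa using h

theorem two_c (hn : 2 ≤ n) : 2 * c n = 0 := two_c' (by omega)

theorem c_ne (hn : 2 ≤ n) : c n ≠ 0 := c_ne' (by omega)

theorem four_d (hn : 2 ≤ n) : 4 * d n = 0 := by
  have : (4 : ZMod (2 ^ n)) * d n = 2 * (2 * d n) := by ring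
  rw [this, two_d hn, two_c hn]

theorem c_add_c (hn : 2 ≤ n) : c n + c n = 0 := by
  rw [← two_mul, two_c hn]

theorem neg_c (hn : 2 ≤ n) : -c n = c n := by
  rw [neg_eq_iff_add_eq_zero, c_add_c hn]

theorem two_mul_eq_zero (hn : 2 ≤ n) (i : ZMod (2 ^ n)) : 2 * i = 0 ↔ i = 0 ∨ i = c n :=
  two_mul_eq_zero' (by omega) i

/-- `c` is even. -/
theorem c_even (hn : 2 ≤ n) : c n = 2 * d n := (two_d hn).symm

/-- `1` is not even. -/
theorem one_ne_two_mul (hn : 2 ≤ n) (k : ZMod (2 ^ n)) : (1 : ZMod (2 ^ n)) ≠ 2 * k := by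
  intro h
  have h1 : c n * 1 = c n * (2 * k) := by rw [← h]
  rw [mul_one, ← mul_assoc, mul_comm (c n) 2, two_c hn, zero_mul] at h1
  exact c_ne hn h1

/-- odd elements are not even -/
theorem odd_ne_even (hn : 2 ≤ n) (k l : ZMod (2 ^ n)) : 2 * k + 1 ≠ 2 * l := by
  intro h
  apply one_ne_two_mul hn (l - k)
  have : (1 : ZMod (2 ^ n)) = 2 * l - 2 * k := by rw [← h]; ring
  rw [this]; ring

end ring

section elements

variable {S : Type*} [Group S] {n : ℕ} {x y z : S}

theorem zA_inv (h : WDat n x y z) (p q : ZMod (2 ^ n)) :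
    (z * A n x y p q)⁻¹ = z * A n x y (-q) (-p) := by
  symm
  apply eq_inv_of_mul_eq_one_left
  rw [zA_mul_zA h, neg_add_cancel, neg_add_cancel, A_zero]

theorem zA_sq (h : WDat n x y z) (p q : ZMod (2 ^ n)) :
    (z * A n x y p q) * (z * A n x y p q) = A n x y (p + q) (p + q) := by
  rw [zA_mul_zA h, add_comm q p]

theorem A_sq (h : WDat n x y z) (a b : ZMod (2 ^ n)) :
    A n x y a b * A n x y a b = A n x y (2 * a) (2 * b) := by
  rw [A_mul h, two_mul, two_mul]

theorem A_eq_one_iff (h : WDat n x y z) (a b : ZMod (2 ^ n)) :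
    A n x y a b = 1 ↔ a = 0 ∧ b = 0 := by
  constructor
  · exact A_eq_one h
  · rintro ⟨rfl, rfl⟩; exact A_zero

theorem zA_ne_one (h : WDat n x y z) (p q : ZMod (2 ^ n)) : z * A n x y p q ≠ 1 := by
  intro h1
  have := z_ne_A h p q 0 0
  rw [A_zero] at this
  exact this h1

theorem zA_inj (h : WDat n x y z) {p q p' q' : ZMod (2 ^ n)}
    (hpq : z * A n x y p q = z * A n x y p' q') : p = p' ∧ q = q' :=
  A_inj h (mul_left_cancel hpq)

/-- `A a b` commutes with `z A p q` only when `a = b`. -/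
theorem comm_A_zA (h : WDat n x y z) (a b p q : ZMod (2 ^ n))
    (hc : A n x y a b * (z * A n x y p q) = (z * A n x y p q) * A n x y a b) : a = b := by
  rw [A_mul_zA h, zA_mul_A h] at hc
  obtain ⟨h1, -⟩ := zA_inj h hc
  have : b = a := by
    have h2 : b + p = a + p := by rw [h1, add_comm]
    exact add_right_cancel h2
  exact this.symm

theorem comm_A_zA' (h : WDat n x y z) (a p q : ZMod (2 ^ n)) :
    A n x y a a * (z * A n x y p q) = (z * A n x y p q) * A n x y a a := by
  rw [A_mul_zA h, zA_mul_A h, add_comm a p, add_comm a q]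

/-- conjugation of `z A i j` by `A a b` -/
theorem conj_zA_by_A (h : WDat n x y z) (a b i j : ZMod (2 ^ n)) :
    A n x y a b * (z * A n x y i j) * (A n x y a b)⁻¹ = z * A n x y (i + b - a) (j + a - b) := by
  rw [A_inv h, A_mul_zA h, zA_mul_A h]
  congr 2 <;> ring

/-- conjugation of `A a b` by `z A p q` -/
theorem conj_A_by_zA (h : WDat n x y z) (a b p q : ZMod (2 ^ n)) :
    (z * A n x y p q) * A n x y a b * (z * A n x y p q)⁻¹ = A n x y b a := by
  rw [zA_inv h, zA_mul_A h, zA_mul_zA h]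
  congr 1 <;> ring

/-- conjugation of `z A i j` by `z A p q` -/
theorem conj_zA_by_zA (h : WDat n x y z) (i j p q : ZMod (2 ^ n)) :
    (z * A n x y p q) * (z * A n x y i j) * (z * A n x y p q)⁻¹
      = z * A n x y (p + j - q) (q + i - p) := by
  rw [zA_inv h, zA_mul_zA h, A_mul_zA h]
  congr 2 <;> ring

/-- `(z A p q)⁻¹ (z A p' q')` -/
theorem zA_inv_mul_zA (h : WDat n x y z) (p q p' q' : ZMod (2 ^ n)) :
    (z * A n x y p q)⁻¹ * (z * A n x y p' q') = A n x y (p' - p) (q' - q) := by
  rw [zA_inv h, zA_mul_zA h]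
  congr 1 <;> ring

/-- the centre -/
theorem mem_center_iff [Finite S] (h : WDat n x y z) (s : S) :
    s ∈ Subgroup.center S ↔ ∃ a, s = A n x y a a := by
  constructor
  · intro hs
    rw [Subgroup.mem_center_iff] at hs
    rcases mem_cases h s with ⟨a, b, rfl⟩ | ⟨p, q, rfl⟩
    · have h1 := hs (z * A n x y 0 0)
      have := comm_A_zA h a b 0 0 h1.symm
      exact ⟨a, by rw [this]⟩
    · exfalso
      have h1 := hs (A n x y 1 0)
      have := comm_A_zA h 1 0 p q h1
      have hne : (1 : ZMod (2 ^ n)) ≠ 0 := by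
        haveI : Fact (1 < 2 ^ n) := ⟨by
          have h2 : 2 ^ n ≥ 2 ^ 1 := Nat.pow_le_pow_right (by norm_num) (by have := h.hn; omega)
          omega⟩
        exact one_ne_zero
      exact hne this
  · rintro ⟨a, rfl⟩
    rw [Subgroup.mem_center_iff]
    intro g
    rcases mem_cases h g with ⟨a', b', rfl⟩ | ⟨p, q, rfl⟩
    · rw [A_mul h, A_mul h, add_comm a' a, add_comm b' a]
    · exact (comm_A_zA' h a p q).symm

end elements

section automorphisms

variable {X : Type*} [Group X]

/-- an automorphism of odd order which swaps two elements fixes them -/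
theorem eq_of_swap (α : MulAut X) (hα : (orderOf α).Coprime 2) {u v : X} (huv : α u = v)
    (hvu : α v = u) : u = v := by
  have hodd : Odd (orderOf α) := (Nat.coprime_two_right).1 hα
  obtain ⟨m, hm⟩ := hodd
  have h2 : ∀ k : ℕ, (α ^ (2 * k)) v = v := by
    intro k
    induction k with
    | zero => simp
    | succ k ih =>
      rw [mul_add, mul_one, pow_add, MulAut.mul_apply, pow_two, MulAut.mul_apply, hvu, huv, ih]
  have h3 : (α ^ orderOf α) u = v := by
    rw [hm, pow_succ, MulAut.mul_apply, huv, h2]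
  rw [pow_orderOf_eq_one, MulAut.one_apply] at h3
  exact h3

/-- an automorphism of odd order of a 2-group which maps an abelian subgroup into itself and fixes its
involutions fixes it elementwise -/
theorem fixes_abelian (α : MulAut X) (hα : (orderOf α).Coprime 2)
    (hX : ∀ g : X, ∃ j : ℕ, g ^ 2 ^ j = 1) (Y : Subgroup X)
    (hYab : ∀ a ∈ Y, ∀ b ∈ Y, a * b = b * a) (hYinv : ∀ g ∈ Y, α g ∈ Y)
    (hinv : ∀ g ∈ Y, g * g = 1 → α g = g) : ∀ g ∈ Y, α g = g := by
  have key : ∀ k : ℕ, ∀ g ∈ Y, g ^ 2 ^ k = 1 → α g = g := by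
    intro k
    induction k with
    | zero =>
      intro g _ hg
      rw [pow_zero, pow_one] at hg
      rw [hg, map_one]
    | succ k ih =>
      intro g hg hgk
      have hgg : g * g ∈ Y := Y.mul_mem hg hg
      have h1 : α (g * g) = g * g := by
        apply ih _ hgg
        rw [← pow_two, ← pow_mul, ← pow_succ']
        exact hgk
      have hd : g⁻¹ * α g ∈ Y := Y.mul_mem (Y.inv_mem hg) (hYinv g hg)
      have hdd : (g⁻¹ * α g) * (g⁻¹ * α g) = 1 := by
        have hc := hYab _ (hYinv g hg) _ (Y.inv_mem hg)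
        calc (g⁻¹ * α g) * (g⁻¹ * α g) = g⁻¹ * (α g * g⁻¹) * α g := by group
          _ = g⁻¹ * (g⁻¹ * α g) * α g := by rw [hc]
          _ = (g * g)⁻¹ * (α g * α g) := by group
          _ = (g * g)⁻¹ * α (g * g) := by rw [map_mul]
          _ = 1 := by rw [h1, inv_mul_cancel]
      have hfix := hinv _ hd hdd
      haveI : Fact (Nat.Prime 2) := ⟨Nat.prime_two⟩
      have hx : α g = g * (g⁻¹ * α g) := by group
      have := Cfsg.Agent.Lib.Lead.OmegaFaithful.eq_one_of_step (p := 2) α hα hx hfix (j := 1)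
        (by rw [pow_one, pow_two]; exact hdd)
      rw [this, mul_one] at hx
      exact hx
  intro g hg
  obtain ⟨j, hj⟩ := hX g
  exact key j g hg hj

/-- an automorphism of odd order of a 2-group fixing a subgroup elementwise and acting trivially
modulo that subgroup is trivial -/
theorem fixes_of_fixes_mod (α : MulAut X) (hα : (orderOf α).Coprime 2)
    (hX : ∀ g : X, ∃ j : ℕ, g ^ 2 ^ j = 1) (Y : Subgroup X) (hY : ∀ g ∈ Y, α g = g)
    (g : X) (hg : g⁻¹ * α g ∈ Y) : α g = g := by
  haveI : Fact (Nat.Prime 2) := ⟨Nat.prime_two⟩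
  have hx : α g = g * (g⁻¹ * α g) := by group
  obtain ⟨j, hj⟩ := hX (g⁻¹ * α g)
  have := Cfsg.Agent.Lib.Lead.OmegaFaithful.eq_one_of_step (p := 2) α hα hx (hY _ hg) hj
  rw [this, mul_one] at hx
  exact hx

end automorphisms

end Cfsg.Agent.H2.WrSC
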