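import Mathlib
import Cfsg.Agent.H2.WrSC1

/-!
# Wreathed 2-groups: automorphisms of odd order of self-centralizing subgroups (helper2)
-/

set_option autoImplicit false
set_option linter.style.haveILetI false
set_option linter.unusedSectionVars false
set_option linter.unusedVariables false

namespace Cfsg.Agent.H2.WrSC

open Cfsg.Agent.Lead.QD (P c d)
open Cfsg.Agent.Lead.Wr

variable {S : Type*} [Group S] [Finite S] {n : ℕ} {x y z : S}

/-- the elements of a subgroup of a wreathed group are 2-elements -/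
theorem two_elt (h : WDat n x y z) (X : Subgroup S) (g : X) : ∃ j : ℕ, g ^ 2 ^ j = 1 := by
  refine ⟨2 * n + 1, ?_⟩
  apply Subtype.ext
  rw [Subgroup.coe_pow, Subgroup.coe_one, ← h.card]
  exact pow_card_eq_one'

/-- a self-centralizing subgroup contains the centre -/
theorem Z_le (h : WDat n x y z) (X : Subgroup S) (hC : Subgroup.centralizer (X : Set S) ≤ X)
    (a : ZMod (2 ^ n)) : A n x y a a ∈ X :=
  hC (Subgroup.center_le_centralizer _ ((mem_center_iff h _).2 ⟨a, rfl⟩))

/-- pairs in `{0, c}` with distinct coordinates -/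
theorem pair_cases (hn : 2 ≤ n) {a b a' b' : ZMod (2 ^ n)} (ha : 2 * a = 0) (hb : 2 * b = 0)
    (hab : a ≠ b) (ha' : 2 * a' = 0) (hb' : 2 * b' = 0) (hab' : a' ≠ b') :
    (a' = a ∧ b' = b) ∨ (a' = b ∧ b' = a) := by
  rcases (two_mul_eq_zero hn a).1 ha with rfl | rfl <;>
  rcases (two_mul_eq_zero hn b).1 hb with rfl | rfl <;>
  rcases (two_mul_eq_zero hn a').1 ha' with rfl | rfl <;>
  rcases (two_mul_eq_zero hn b').1 hb' with rfl | rfl <;>
  first
  | exact absurd rfl hab
  | exact absurd rfl hab'
  | exact Or.inl ⟨rfl, rfl⟩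
  | exact Or.inr ⟨rfl, rfl⟩

section aut

variable (h : WDat n x y z) (X : Subgroup S) (hC : Subgroup.centralizer (X : Set S) ≤ X)
  (α : MulAut X) (hα : (orderOf α).Coprime 2)

include h hC in
/-- in the nonabelian case, the central elements of `X` lie in the centre of `S` -/
theorem central_mem (w : X) (i j : ZMod (2 ^ n)) (hw : (w : S) = z * A n x y i j)
    (g₀ : X) (a₀ b₀ : ZMod (2 ^ n)) (hg₀ : (g₀ : S) = A n x y a₀ b₀) (hne : a₀ ≠ b₀)
    (g : X) (hg : ∀ k : X, g * k = k * g) : ∃ a, (g : S) = A n x y a a := by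
  rcases mem_cases h (g : S) with ⟨a, b, hab⟩ | ⟨p, q, hpq⟩
  · have h1 := congrArg Subtype.val (hg w)
    rw [Subgroup.coe_mul, Subgroup.coe_mul, hab, hw] at h1
    have := comm_A_zA h a b i j h1
    exact ⟨a, by rw [hab, this]⟩
  · exfalso
    have h1 := congrArg Subtype.val (hg g₀)
    rw [Subgroup.coe_mul, Subgroup.coe_mul, hpq, hg₀] at h1
    exact hne (comm_A_zA h a₀ b₀ p q h1.symm)

/-- automorphisms preserve central elements -/
theorem central_map (β : MulAut X) (g : X) (hg : ∀ k : X, g * k = k * g) (k : X) :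
    β g * k = k * β g := by
  have h1 : k = β (β.symm k) := (β.apply_symm_apply k).symm
  rw [h1, ← map_mul, ← map_mul, hg]

include h hC in
/-- elements of the centre of `S` are central in `X` -/
theorem central_of_Z (g : X) (a : ZMod (2 ^ n)) (hg : (g : S) = A n x y a a) (k : X) :
    g * k = k * g := by
  apply Subtype.ext
  rw [Subgroup.coe_mul, Subgroup.coe_mul]
  have : (g : S) ∈ Subgroup.center S := (mem_center_iff h _).2 ⟨a, hg⟩
  exact (Subgroup.mem_center_iff.1 this (k : S)).symm

include h hC hα in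
/-- in the nonabelian case, the central involution is fixed -/
theorem zeta_fixed (w : X) (i j : ZMod (2 ^ n)) (hw : (w : S) = z * A n x y i j)
    (g₀ : X) (a₀ b₀ : ZMod (2 ^ n)) (hg₀ : (g₀ : S) = A n x y a₀ b₀) (hne : a₀ ≠ b₀) :
    α ⟨A n x y (c n) (c n), Z_le h X hC (c n)⟩ = ⟨A n x y (c n) (c n), Z_le h X hC (c n)⟩ := by
  set ζ : X := ⟨A n x y (c n) (c n), Z_le h X hC (c n)⟩ with hζ
  have hcen : ∀ k : X, α ζ * k = k * α ζ :=
    central_map X α ζ (central_of_Z h X hC ζ (c n) rfl)
  obtain ⟨a, ha⟩ := central_mem h X hC w i j hw g₀ a₀ b₀ hg₀ hne (α ζ) hcen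
  have hsq : ζ * ζ = 1 := by
    apply Subtype.ext
    rw [Subgroup.coe_mul, Subgroup.coe_one]
    show A n x y (c n) (c n) * A n x y (c n) (c n) = 1
    rw [A_sq h, two_c h.hn, A_zero]
  have hsq' : α ζ * α ζ = 1 := by rw [← map_mul, hsq, map_one]
  have h1 := congrArg Subtype.val hsq'
  rw [Subgroup.coe_mul, Subgroup.coe_one, ha, A_sq h] at h1
  obtain ⟨h2, -⟩ := A_eq_one h h1
  rcases (two_mul_eq_zero h.hn a).1 h2 with rfl | rfl
  · exfalso
    have : α ζ = 1 := by
      apply Subtype.ext
      rw [ha, A_zero, Subgroup.coe_one]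
    have h3 : ζ = 1 := by
      have := congrArg α.symm this
      rwa [MulEquiv.symm_apply_apply, map_one] at this
    have h4 := congrArg Subtype.val h3
    rw [Subgroup.coe_one] at h4
    exact c_ne h.hn (A_eq_one h h4).1
  · apply Subtype.ext
    rw [ha]

include h hC hα in
/-- **common ending**: in the nonabelian case, an automorphism of odd order mapping `X ∩ U` into `U`
is trivial -/
theorem trivial_of_inv (w : X) (i j : ZMod (2 ^ n)) (hw : (w : S) = z * A n x y i j)
    (g₀ : X) (a₀ b₀ : ZMod (2 ^ n)) (hg₀ : (g₀ : S) = A n x y a₀ b₀) (hne : a₀ ≠ b₀)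
    (H : ∀ g : X, (∃ a b, (g : S) = A n x y a b) → ∃ a' b', ((α g : X) : S) = A n x y a' b') :
    ∀ g : X, α g = g := by
  have hn := h.hn
  set ζ : X := ⟨A n x y (c n) (c n), Z_le h X hC (c n)⟩ with hζ
  have hζfix : α ζ = ζ := zeta_fixed h X hC α hα w i j hw g₀ a₀ b₀ hg₀ hne
  have hinj : ∀ {u v : X}, α u = α v → u = v := fun {u v} huv => α.injective huv
  -- squares
  have hsq : ∀ (g : X) (a b : ZMod (2 ^ n)), (g : S) = A n x y a b → g * g = 1 →
      2 * a = 0 ∧ 2 * b = 0 := by
    intro g a b hg hgg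
    have h1 := congrArg Subtype.val hgg
    rw [Subgroup.coe_mul, Subgroup.coe_one, hg, A_sq h] at h1
    exact A_eq_one h h1
  -- the image of an involution with distinct coordinates has distinct coordinates
  have hdist : ∀ (g : X) (a b : ZMod (2 ^ n)), (g : S) = A n x y a b → g * g = 1 → a ≠ b →
      ∃ a' b', ((α g : X) : S) = A n x y a' b' ∧ 2 * a' = 0 ∧ 2 * b' = 0 ∧ a' ≠ b' := by
    intro g a b hg hgg hab
    obtain ⟨a', b', hg'⟩ := H g ⟨a, b, hg⟩
    have hgg' : α g * α g = 1 := by rw [← map_mul, hgg, map_one]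
    obtain ⟨h1, h2⟩ := hsq (α g) a' b' hg' hgg'
    refine ⟨a', b', hg', h1, h2, ?_⟩
    rintro rfl
    rcases (two_mul_eq_zero hn a').1 h1 with rfl | rfl
    · have : α g = α 1 := by
        apply Subtype.ext
        rw [hg', map_one, A_zero, Subgroup.coe_one]
      have h3 := congrArg Subtype.val (hinj this)
      rw [hg, Subgroup.coe_one] at h3
      obtain ⟨rfl, rfl⟩ := A_eq_one h h3
      exact hab rfl
    · have : α g = α ζ := by
        rw [hζfix]
        apply Subtype.ext
        rw [hg']
      have h3 := congrArg Subtype.val (hinj this)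
      rw [hg] at h3
      obtain ⟨rfl, rfl⟩ := A_inj h h3
      exact hab rfl
  -- involutions of `X ∩ U` are fixed
  have hinvfix : ∀ (g : X) (a b : ZMod (2 ^ n)), (g : S) = A n x y a b → g * g = 1 → α g = g := by
    intro g a b hg hgg
    obtain ⟨h2a, h2b⟩ := hsq g a b hg hgg
    by_cases hab : a = b
    · subst hab
      rcases (two_mul_eq_zero hn a).1 h2a with rfl | rfl
      · have : g = 1 := by
          apply Subtype.ext
          rw [hg, A_zero, Subgroup.coe_one]
        rw [this, map_one]
      · have : g = ζ := Subtype.ext hg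
        rw [this, hζfix]
    · obtain ⟨a', b', hg', h2a', h2b', hab'⟩ := hdist g a b hg hgg hab
      rcases pair_cases hn h2a h2b hab h2a' h2b' hab' with ⟨rfl, rfl⟩ | ⟨rfl, rfl⟩
      · apply Subtype.ext
        rw [hg', hg]
      · exfalso
        have hvv : α g * α g = 1 := by rw [← map_mul, hgg, map_one]
        obtain ⟨a'', b'', hg'', h2a'', h2b'', hab''⟩ := hdist (α g) a' b' hg' hvv hab'
        rcases pair_cases hn h2a' h2b' hab' h2a'' h2b'' hab'' with ⟨rfl, rfl⟩ | ⟨rfl, rfl⟩
        · have : α (α g) = α g := by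
            apply Subtype.ext
            rw [hg'', hg']
          have h3 := congrArg Subtype.val (hinj this)
          rw [hg', hg] at h3
          exact hab (A_inj h h3).2
        · have hback : α (α g) = g := by
            apply Subtype.ext
            rw [hg'', hg]
          have := eq_of_swap α hα rfl hback
          have h3 := congrArg Subtype.val this
          rw [hg', hg] at h3
          exact hab (A_inj h h3).1
  -- `X ∩ U` is fixed
  have hY : ∀ g ∈ (U h).subgroupOf X, α g = g := by
    apply fixes_abelian α hα (two_elt h X) ((U h).subgroupOf X)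
    · intro a ha b hb
      rw [Subgroup.mem_subgroupOf] at ha hb
      obtain ⟨a1, a2, ha'⟩ := ha
      obtain ⟨b1, b2, hb'⟩ := hb
      apply Subtype.ext
      rw [Subgroup.coe_mul, Subgroup.coe_mul, ha', hb', A_mul h, A_mul h, add_comm a1, add_comm a2]
    · intro g hg
      rw [Subgroup.mem_subgroupOf] at hg ⊢
      obtain ⟨a, b, hab⟩ := hg
      obtain ⟨a', b', hab'⟩ := H g ⟨a, b, hab⟩
      exact ⟨a', b', hab'⟩
    · intro g hg hgg
      rw [Subgroup.mem_subgroupOf] at hg
      obtain ⟨a, b, hab⟩ := hg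
      exact hinvfix g a b hab hgg
  intro g
  rcases mem_cases h (g : S) with ⟨a, b, hab⟩ | ⟨p, q, hpq⟩
  · exact hY g (by rw [Subgroup.mem_subgroupOf]; exact ⟨a, b, hab⟩)
  · apply fixes_of_fixes_mod α hα (two_elt h X) ((U h).subgroupOf X) hY
    rcases mem_cases h ((α g : X) : S) with ⟨a, b, hab⟩ | ⟨p', q', hpq'⟩
    · exfalso
      have h1 : α (α g) = α g := hY (α g) (by rw [Subgroup.mem_subgroupOf]; exact ⟨a, b, hab⟩)
      have h2 := congrArg Subtype.val (hinj h1)
      rw [hab, hpq] at h2
      exact z_ne_A h p q a b h2.symm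
    · rw [Subgroup.mem_subgroupOf, Subgroup.coe_mul, Subgroup.coe_inv, hpq, hpq',
        zA_inv_mul_zA h]
      exact ⟨_, _, rfl⟩

include h hC hα in
/-- **case (i)**: `X ∩ U` contains an element whose square is not central -/
theorem case_i (w : X) (i j : ZMod (2 ^ n)) (hw : (w : S) = z * A n x y i j)
    (g₀ : X) (a₀ b₀ : ZMod (2 ^ n)) (hg₀ : (g₀ : S) = A n x y a₀ b₀) (hne : 2 * a₀ ≠ 2 * b₀) :
    ∀ g : X, α g = g := by
  have hne' : a₀ ≠ b₀ := fun hab => hne (by rw [hab])
  apply trivial_of_inv h X hC α hα w i j hw g₀ a₀ b₀ hg₀ hne'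
  -- the image of `g₀` lies in `U`, with distinct coordinates
  have hcenback : ∀ g : X, (∀ k : X, α g * k = k * α g) → ∀ k : X, g * k = k * g := by
    intro g hg k
    have := central_map X α.symm (α g) hg k
    rwa [MulEquiv.symm_apply_apply] at this
  have himg : ∃ a' b', ((α g₀ : X) : S) = A n x y a' b' ∧ a' ≠ b' := by
    rcases mem_cases h ((α g₀ : X) : S) with ⟨a', b', hab'⟩ | ⟨p, q, hpq⟩
    · refine ⟨a', b', hab', ?_⟩
      rintro rfl
      have hcen := hcenback g₀ (central_of_Z h X hC (α g₀) a' hab')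
      obtain ⟨e, he⟩ := central_mem h X hC w i j hw g₀ a₀ b₀ hg₀ hne' g₀ hcen
      rw [hg₀] at he
      exact hne' (by rw [(A_inj h he).1, (A_inj h he).2])
    · exfalso
      have hsq : ((α (g₀ * g₀) : X) : S) = A n x y (p + q) (p + q) := by
        rw [map_mul, Subgroup.coe_mul, hpq, zA_sq h]
      have hcen := hcenback (g₀ * g₀) (central_of_Z h X hC (α (g₀ * g₀)) (p + q) hsq)
      obtain ⟨e, he⟩ := central_mem h X hC w i j hw g₀ a₀ b₀ hg₀ hne' (g₀ * g₀) hcen
      rw [Subgroup.coe_mul, hg₀, A_sq h] at he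
      exact hne (by rw [(A_inj h he).1, (A_inj h he).2])
  obtain ⟨a', b', hab', hne''⟩ := himg
  rintro g ⟨a, b, hab⟩
  rcases mem_cases h ((α g : X) : S) with ⟨a1, b1, h1⟩ | ⟨p, q, hpq⟩
  · exact ⟨a1, b1, h1⟩
  · exfalso
    have hcomm : g * g₀ = g₀ * g := by
      apply Subtype.ext
      rw [Subgroup.coe_mul, Subgroup.coe_mul, hab, hg₀, A_mul h, A_mul h, add_comm a, add_comm b]
    have h2 : α g * α g₀ = α g₀ * α g := by rw [← map_mul, ← map_mul, hcomm]
    have h3 := congrArg Subtype.val h2
    rw [Subgroup.coe_mul, Subgroup.coe_mul, hpq, hab'] at h3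
    exact hne'' (comm_A_zA h a' b' p q h3.symm)

include h hC hα in
/-- **case (ii), odd**: the squares of the elements of `X ∩ U` are central, `X ∩ U` is not central, and
the elements of `X` outside `U` have squares generating the centre -/
theorem case_ii_odd (w : X) (i j : ZMod (2 ^ n)) (hw : (w : S) = z * A n x y i j)
    (hodd : ∃ k, i + j = 2 * k + 1)
    (hall : ∀ (g : X) (a b : ZMod (2 ^ n)), (g : S) = A n x y a b → 2 * a = 2 * b)
    (g₀ : X) (a₀ b₀ : ZMod (2 ^ n)) (hg₀ : (g₀ : S) = A n x y a₀ b₀) (hne : a₀ ≠ b₀) :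
    ∀ g : X, α g = g := by
  have hn := h.hn
  apply trivial_of_inv h X hC α hα w i j hw g₀ a₀ b₀ hg₀ hne
  -- parity of the elements outside `U`
  have hpar : ∀ (g : X) (p q : ZMod (2 ^ n)), (g : S) = z * A n x y p q → p + q ≠ 0 := by
    intro g p q hg h0
    have h1 : ((w⁻¹ * g : X) : S) = A n x y (p - i) (q - j) := by
      rw [Subgroup.coe_mul, Subgroup.coe_inv, hw, hg, zA_inv_mul_zA h]
    have h2 := hall _ _ _ h1
    obtain ⟨k, hk⟩ := hodd
    -- p + q = (i + j) + 2 (q - j) + (2 (p - i) - 2 (q - j)) / ... use c-multiplication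
    have h3 : c n * (p + q) = c n * (i + j) := by
      have e : p + q = (i + j) + ((p - i) - (q - j)) + 2 * (q - j) := by ring
      have h4 : c n * ((p - i) - (q - j)) = 0 := by
        have h5 : 2 * ((p - i) - (q - j)) = 0 := by rw [mul_sub, h2, sub_self]
        rcases (two_mul_eq_zero hn _).1 h5 with h6 | h6
        · rw [h6, mul_zero]
        · rw [h6, c_even hn, ← mul_assoc, mul_comm (2 * d n) 2, ← mul_assoc]
          have : (2 : ZMod (2 ^ n)) * 2 * d n = 4 * d n := by ring
          rw [this, four_d hn, zero_mul]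
      have h7 : c n * (2 * (q - j)) = 0 := by
        rw [← mul_assoc, mul_comm (c n) 2, two_c hn, zero_mul]
      rw [e, mul_add, mul_add, h4, h7, add_zero, add_zero]
    rw [h0, mul_zero, hk, mul_add, mul_one, ← mul_assoc, mul_comm (c n) 2, two_c hn, zero_mul,
      zero_add] at h3
    exact c_ne hn h3.symm
  rintro g ⟨a, b, hab⟩
  -- `g = u * ζ` with `u` an involution or trivial and `ζ` central
  have h2 := hall g a b hab
  set ζ : X := ⟨A n x y b b, Z_le h X hC b⟩ with hζ
  have hζcen : ∀ k : X, α ζ * k = k * α ζ := central_map X α ζ (central_of_Z h X hC ζ b rfl)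
  obtain ⟨e, he⟩ := central_mem h X hC w i j hw g₀ a₀ b₀ hg₀ hne (α ζ) hζcen
  have hu : ((g * ζ⁻¹ : X) : S) = A n x y (a - b) 0 := by
    rw [Subgroup.coe_mul, Subgroup.coe_inv, hab]
    show A n x y a b * (A n x y b b)⁻¹ = _
    rw [A_inv h, A_mul h]
    congr 1 <;> ring
  have huu : (g * ζ⁻¹) * (g * ζ⁻¹) = 1 := by
    apply Subtype.ext
    rw [Subgroup.coe_mul, hu, A_sq h, Subgroup.coe_one, mul_zero, mul_sub, h2, sub_self, A_zero]
  have hαu : α (g * ζ⁻¹) * α (g * ζ⁻¹) = 1 := by rw [← map_mul, huu, map_one]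
  have hαuU : ∃ a1 b1, ((α (g * ζ⁻¹) : X) : S) = A n x y a1 b1 := by
    rcases mem_cases h ((α (g * ζ⁻¹) : X) : S) with ⟨a1, b1, h1⟩ | ⟨p, q, hpq⟩
    · exact ⟨a1, b1, h1⟩
    · exfalso
      have h3 := congrArg Subtype.val hαu
      rw [Subgroup.coe_mul, Subgroup.coe_one, hpq, zA_sq h] at h3
      exact hpar _ p q hpq (A_eq_one h h3).1
  obtain ⟨a1, b1, h1⟩ := hαuU
  have hg : g = (g * ζ⁻¹) * ζ := by group
  refine ⟨a1 + e, b1 + e, ?_⟩
  rw [hg, map_mul, Subgroup.coe_mul, h1, he, A_mul h]

include h hC hα in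
/-- **case (iii)**: `X ∩ U` is the centre of `S` -/
theorem case_iii (w : X) (i j : ZMod (2 ^ n)) (hw : (w : S) = z * A n x y i j)
    (hall : ∀ (g : X) (a b : ZMod (2 ^ n)), (g : S) = A n x y a b → a = b) :
    ∀ g : X, α g = g := by
  have hn := h.hn
  have hinj : ∀ {u v : X}, α u = α v → u = v := fun {u v} huv => α.injective huv
  -- the elements outside `U`
  have hout : ∀ (g : X) (p q : ZMod (2 ^ n)), (g : S) = z * A n x y p q → p - q = i - j := by
    intro g p q hg
    have h1 : ((w⁻¹ * g : X) : S) = A n x y (p - i) (q - j) := by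
      rw [Subgroup.coe_mul, Subgroup.coe_inv, hw, hg, zA_inv_mul_zA h]
    have h2 := hall _ _ _ h1
    have : p - q = (p - i) - (q - j) + (i - j) := by ring
    rw [this, h2, sub_self, zero_add]
  -- `X` is abelian
  have hab : ∀ a ∈ (⊤ : Subgroup X), ∀ b ∈ (⊤ : Subgroup X), a * b = b * a := by
    intro a _ b _
    apply Subtype.ext
    rw [Subgroup.coe_mul, Subgroup.coe_mul]
    rcases mem_cases h (a : S) with ⟨a1, a2, ha⟩ | ⟨p, q, ha⟩ <;>
    rcases mem_cases h (b : S) with ⟨b1, b2, hb⟩ | ⟨p', q', hb⟩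
    · rw [ha, hb, A_mul h, A_mul h, add_comm a1, add_comm a2]
    · have := hall a a1 a2 ha
      subst this
      rw [ha, hb]
      exact comm_A_zA' h a1 p' q'
    · have := hall b b1 b2 hb
      subst this
      rw [ha, hb]
      exact (comm_A_zA' h b1 p q).symm
    · have e1 := hout a p q ha
      have e2 := hout b p' q' hb
      rw [ha, hb, zA_mul_zA h, zA_mul_zA h]
      have e3 : q + p' = q' + p := by
        have : q + p' - (q' + p) = (p' - q') - (p - q) := by ring
        have h0 : q + p' - (q' + p) = 0 := by rw [this, e1, e2, sub_self]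
        exact sub_eq_zero.1 h0
      have e4 : p + q' = p' + q := by
        have : p + q' - (p' + q) = (p - q) - (p' - q') := by ring
        have h0 : p + q' - (p' + q) = 0 := by rw [this, e1, e2, sub_self]
        exact sub_eq_zero.1 h0
      rw [e3, e4]
  -- squares lie in the centre
  have hsqZ : ∀ g : X, ∃ e, ((g * g : X) : S) = A n x y e e := by
    intro g
    rcases mem_cases h (g : S) with ⟨a1, a2, ha⟩ | ⟨p, q, ha⟩
    · have := hall g a1 a2 ha
      subst this
      exact ⟨2 * a1, by rw [Subgroup.coe_mul, ha, A_sq h]⟩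
    · exact ⟨p + q, by rw [Subgroup.coe_mul, ha, zA_sq h]⟩
  set ζ : X := ⟨A n x y (c n) (c n), Z_le h X hC (c n)⟩ with hζ
  have hζζ : ζ * ζ = 1 := by
    apply Subtype.ext
    rw [Subgroup.coe_mul, Subgroup.coe_one]
    show A n x y (c n) (c n) * A n x y (c n) (c n) = 1
    rw [A_sq h, two_c hn, A_zero]
  have hζne : ζ ≠ 1 := by
    intro h1
    have h2 := congrArg Subtype.val h1
    rw [Subgroup.coe_one] at h2
    exact c_ne hn (A_eq_one h h2).1
  -- `ζ` is a square, so its image is an involution in the centre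
  have hζfix : α ζ = ζ := by
    set η : X := ⟨A n x y (d n) (d n), Z_le h X hC (d n)⟩ with hη
    have hηη : η * η = ζ := by
      apply Subtype.ext
      rw [Subgroup.coe_mul]
      show A n x y (d n) (d n) * A n x y (d n) (d n) = A n x y (c n) (c n)
      rw [A_sq h, two_d hn]
    obtain ⟨e, he⟩ := hsqZ (α η)
    rw [← map_mul, hηη] at he
    have h1 : α ζ * α ζ = 1 := by rw [← map_mul, hζζ, map_one]
    have h2 := congrArg Subtype.val h1
    rw [Subgroup.coe_mul, Subgroup.coe_one, he, A_sq h] at h2
    rcases (two_mul_eq_zero hn e).1 (A_eq_one h h2).1 with rfl | rfl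
    · exfalso
      have : α ζ = α 1 := by
        apply Subtype.ext
        rw [he, map_one, A_zero, Subgroup.coe_one]
      exact hζne (hinj this)
    · exact Subtype.ext he
  -- all involutions are fixed
  have hinvfix : ∀ g ∈ (⊤ : Subgroup X), g * g = 1 → α g = g := by
    intro g _ hgg
    rcases mem_cases h (g : S) with ⟨a1, a2, ha⟩ | ⟨p, q, ha⟩
    · have := hall g a1 a2 ha
      subst this
      have h2 := congrArg Subtype.val hgg
      rw [Subgroup.coe_mul, Subgroup.coe_one, ha, A_sq h] at h2
      rcases (two_mul_eq_zero hn a1).1 (A_eq_one h h2).1 with rfl | rfl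
      · have : g = 1 := by
          apply Subtype.ext
          rw [ha, A_zero, Subgroup.coe_one]
        rw [this, map_one]
      · have : g = ζ := Subtype.ext ha
        rw [this, hζfix]
    · -- `g = z A p q` with `p + q = 0`
      have h2 := congrArg Subtype.val hgg
      rw [Subgroup.coe_mul, Subgroup.coe_one, ha, zA_sq h] at h2
      have hpq0 : p + q = 0 := (A_eq_one h h2).1
      have hpq1 := hout g p q ha
      -- the image
      have hgg' : α g * α g = 1 := by rw [← map_mul, hgg, map_one]
      rcases mem_cases h ((α g : X) : S) with ⟨a1, a2, ha'⟩ | ⟨p', q', ha'⟩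
      · exfalso
        have := hall (α g) a1 a2 ha'
        subst this
        have h3 := congrArg Subtype.val hgg'
        rw [Subgroup.coe_mul, Subgroup.coe_one, ha', A_sq h] at h3
        rcases (two_mul_eq_zero hn a1).1 (A_eq_one h h3).1 with rfl | rfl
        · have : α g = α 1 := by
            apply Subtype.ext
            rw [ha', map_one, A_zero, Subgroup.coe_one]
          have h4 := congrArg Subtype.val (hinj this)
          rw [ha, Subgroup.coe_one] at h4
          exact zA_ne_one h p q h4
        · have : α g = α ζ := by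
            rw [hζfix]
            exact Subtype.ext ha'
          have h4 := congrArg Subtype.val (hinj this)
          rw [ha] at h4
          exact z_ne_A h p q _ _ h4
      · have h3 := congrArg Subtype.val hgg'
        rw [Subgroup.coe_mul, Subgroup.coe_one, ha', zA_sq h] at h3
        have hpq0' : p' + q' = 0 := (A_eq_one h h3).1
        have hpq1' := hout (α g) p' q' ha'
        have h2p : 2 * (p' - p) = 0 := by
          have : 2 * (p' - p) = (p' + q') - (p + q) + ((p' - q') - (p - q)) := by ring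
          rw [this, hpq0, hpq0', hpq1, hpq1']
          ring
        have hq : q' - q = -(p' - p) := by
          have : q' - q = (p' + q') - (p + q) - (p' - p) := by ring
          rw [this, hpq0, hpq0']
          ring
        rcases (two_mul_eq_zero hn _).1 h2p with h5 | h5
        · apply Subtype.ext
          have e1 : p' = p := sub_eq_zero.1 h5
          have e2 : q' = q := by
            rw [h5, neg_zero] at hq
            exact sub_eq_zero.1 hq
          rw [ha', ha, e1, e2]
        · -- `α g = g * ζ`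
          have e1 : α g = g * ζ := by
            apply Subtype.ext
            rw [Subgroup.coe_mul, ha', ha]
            show z * A n x y p' q' = z * A n x y p q * A n x y (c n) (c n)
            rw [zA_mul_A h]
            have e2 : p' = p + c n := by rw [← h5]; ring
            have e3 : q' = q + c n := by
              have : q' = q + (q' - q) := by ring
              rw [this, hq, h5, neg_c hn]
            rw [e2, e3]
          have e4 : α (g * ζ) = g := by
            rw [map_mul, e1, hζfix, mul_assoc, hζζ, mul_one]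
          have e5 := eq_of_swap α hα e1 e4
          exfalso
          apply hζne
          have : g * 1 = g * ζ := by rw [mul_one]; exact e5
          exact (mul_left_cancel this).symm
  intro g
  exact fixes_abelian α hα (two_elt h X) ⊤ hab (fun _ _ => Subgroup.mem_top _) hinvfix g
    (Subgroup.mem_top _)

end aut

end Cfsg.Agent.H2.WrSC
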