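import Mathlib
import Cfsg.Agent.H2.WrSC2
import Cfsg.Agent.H2.UniqueOrderP
import Cfsg.Agent.Lib.Lead.QDFusion

/-!
# Wreathed 2-groups: classification of the self-centralizing subgroups with an automorphism of odd
order (helper2)
-/

set_option autoImplicit false
set_option linter.style.haveILetI false
set_option linter.unusedSectionVars false
set_option linter.unusedVariables false

namespace Cfsg.Agent.H2.WrSC

open Cfsg.Agent.Lead.QD (P c d)
open Cfsg.Agent.Lead.Wr

variable {S : Type*} [Group S] [Finite S] {n : ℕ} {x y z : S}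

/-- the subgroups `Q Z(S)`, as sets -/
def Wset (n : ℕ) (x y z : S) (δ : ZMod (2 ^ n)) : Set S :=
  {s | (∃ a b, s = A n x y a b ∧ 2 * (a - b) = 0) ∨ (∃ p q, s = z * A n x y p q ∧ 2 * (p - q) = δ)}

theorem A_mem_Wset (h : WDat n x y z) (δ a b : ZMod (2 ^ n)) :
    A n x y a b ∈ Wset n x y z δ ↔ 2 * (a - b) = 0 := by
  constructor
  · rintro (⟨a', b', hab, h2⟩ | ⟨p, q, hpq, -⟩)
    · obtain ⟨rfl, rfl⟩ := A_inj h hab
      exact h2
    · exact absurd hpq.symm (z_ne_A h p q a b)
  · intro h2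
    exact Or.inl ⟨a, b, rfl, h2⟩

theorem zA_mem_Wset (h : WDat n x y z) (δ p q : ZMod (2 ^ n)) :
    z * A n x y p q ∈ Wset n x y z δ ↔ 2 * (p - q) = δ := by
  constructor
  · rintro (⟨a', b', hab, -⟩ | ⟨p', q', hpq, h2⟩)
    · exact absurd hab (z_ne_A h p q a' b')
    · obtain ⟨rfl, rfl⟩ := zA_inj h hpq
      exact h2
  · intro h2
    exact Or.inr ⟨p, q, rfl, h2⟩

/-- an automorphism of odd order from a non-2-group of automorphisms -/
theorem exists_odd_aut (X : Subgroup S) (hA : ¬ IsPGroup 2 (MulAut X)) :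
    ∃ α : MulAut X, (orderOf α).Coprime 2 ∧ α ≠ 1 := by
  unfold IsPGroup at hA
  push Not at hA
  obtain ⟨β, hβ⟩ := hA
  have hm : orderOf β ≠ 0 := (orderOf_pos β).ne'
  obtain ⟨e, r, hr, hmr⟩ := Nat.exists_eq_two_pow_mul_odd hm
  refine ⟨β ^ 2 ^ e, ?_, hβ e⟩
  rw [orderOf_pow' β (by positivity), hmr]
  have : (2 ^ e * r).gcd (2 ^ e) = 2 ^ e := Nat.gcd_eq_right (dvd_mul_right _ _)
  rw [this, Nat.mul_div_cancel_left _ (by positivity)]
  exact Nat.coprime_two_right.2 hr

/-- **classification** -/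
theorem classify (h : WDat n x y z) (X : Subgroup S)
    (hC : Subgroup.centralizer (X : Set S) ≤ X) (hA : ¬ IsPGroup 2 (MulAut X)) :
    X = U h ∨ ∃ σ : ZMod (2 ^ n), (X : Set S) = Wset n x y z (4 * σ) := by
  have hn := h.hn
  obtain ⟨α, hα, hα1⟩ := exists_odd_aut X hA
  have hnontriv : ¬ ∀ g : X, α g = g := by
    intro hall
    apply hα1
    ext g
    rw [hall g]
    rfl
  by_cases hXU : X ≤ U h
  · left
    apply le_antisymm hXU
    refine le_trans ?_ hC
    intro u hu
    rw [Subgroup.mem_centralizer_iff]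
    intro k hk
    obtain ⟨a, b, rfl⟩ := hu
    obtain ⟨a', b', rfl⟩ := hXU hk
    rw [A_mul h, A_mul h, add_comm a, add_comm b]
  right
  obtain ⟨w₀, hw₀X, hw₀U⟩ := SetLike.not_le_iff_exists.1 hXU
  obtain ⟨i, j, hw⟩ : ∃ i j, w₀ = z * A n x y i j := by
    rcases mem_cases h w₀ with ⟨a, b, hab⟩ | ⟨p, q, hpq⟩
    · exact absurd ⟨a, b, hab⟩ hw₀U
    · exact ⟨p, q, hpq⟩
  set w : X := ⟨w₀, hw₀X⟩ with hwdef
  have hwS : (w : S) = z * A n x y i j := hw
  by_cases h1 : ∃ (g₀ : X) (a₀ b₀ : ZMod (2 ^ n)), (g₀ : S) = A n x y a₀ b₀ ∧ 2 * a₀ ≠ 2 * b₀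
  · obtain ⟨g₀, a₀, b₀, hg₀, hne⟩ := h1
    exact absurd (case_i h X hC α hα w i j hwS g₀ a₀ b₀ hg₀ hne) hnontriv
  push Not at h1
  by_cases h2 : ∃ (g₀ : X) (a₀ b₀ : ZMod (2 ^ n)), (g₀ : S) = A n x y a₀ b₀ ∧ a₀ ≠ b₀
  · obtain ⟨g₀, a₀, b₀, hg₀, hne⟩ := h2
    rcases Cfsg.Agent.Lead.QD.even_or_odd (i + j) with ⟨k, hk⟩ | hodd
    · refine ⟨k - j, ?_⟩
      have hδ : 4 * (k - j) = 2 * (i - j) := by
        have : 2 * (i - j) = 2 * (i + j) - 4 * j := by ring
        rw [this, hk]; ring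
      -- `A c 0 ∈ X`
      have hc0 : A n x y (c n) 0 ∈ X := by
        have h3 := h1 g₀ a₀ b₀ hg₀
        have h4 : 2 * (a₀ - b₀) = 0 := by rw [mul_sub, h3, sub_self]
        rcases (two_mul_eq_zero hn _).1 h4 with h5 | h5
        · exact absurd (sub_eq_zero.1 h5) hne
        · have : A n x y (c n) 0 = (g₀ : S) * A n x y (-b₀) (-b₀) := by
            rw [hg₀, A_mul h, add_neg_cancel, ← sub_eq_add_neg, h5]
          rw [this]
          exact X.mul_mem g₀.2 (Z_le h X hC _)
      have hAmem : ∀ a b : ZMod (2 ^ n), 2 * (a - b) = 0 → A n x y a b ∈ X := by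
        intro a b hab
        rcases (two_mul_eq_zero hn _).1 hab with h5 | h5
        · have : a = b := sub_eq_zero.1 h5
          rw [this]
          exact Z_le h X hC b
        · have : A n x y a b = A n x y (c n) 0 * A n x y b b := by
            rw [A_mul h, zero_add, ← h5]
            congr 1; ring
          rw [this]
          exact X.mul_mem hc0 (Z_le h X hC b)
      ext s
      rw [SetLike.mem_coe]
      rcases mem_cases h s with ⟨a, b, rfl⟩ | ⟨p, q, rfl⟩
      · rw [A_mem_Wset h]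
        constructor
        · intro hs
          have := h1 ⟨_, hs⟩ a b rfl
          rw [mul_sub, this, sub_self]
        · exact hAmem a b
      · rw [zA_mem_Wset h, hδ]
        constructor
        · intro hs
          have h3 : ((w⁻¹ * ⟨_, hs⟩ : X) : S) = A n x y (p - i) (q - j) := by
            rw [Subgroup.coe_mul, Subgroup.coe_inv, hwS, zA_inv_mul_zA h]
          have h4 := h1 _ _ _ h3
          have : 2 * (p - q) = 2 * (p - i) - 2 * (q - j) + 2 * (i - j) := by ring
          rw [this, h4, sub_self, zero_add]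
        · intro hs
          have h3 : z * A n x y p q = (w : S) * A n x y (p - i) (q - j) := by
            rw [hwS, zA_mul_A h]
            congr 2 <;> ring
          rw [h3]
          apply X.mul_mem w.2
          apply hAmem
          have : 2 * (p - i - (q - j)) = 2 * (p - q) - 2 * (i - j) := by ring
          rw [this, hs, sub_self]
    · exact absurd (case_ii_odd h X hC α hα w i j hwS hodd
        (fun g a b hg => h1 g a b hg) g₀ a₀ b₀ hg₀ hne) hnontriv
  · push Not at h2
    exact absurd (case_iii h X hC α hα w i j hwS h2) hnontriv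

end Cfsg.Agent.H2.WrSC
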