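import Mathlib
import Cfsg.Agent.H2.WrSC3

/-!
# Wreathed 2-groups: the subgroups `Q Z(S)` (helper2)
-/

set_option autoImplicit false
set_option linter.style.haveILetI false
set_option linter.unusedSectionVars false
set_option linter.unusedVariables false

namespace Cfsg.Agent.H2.WrSC

open Cfsg.Agent.Lead.QD (P c d)
open Cfsg.Agent.Lead.Wr

variable {S : Type*} [Group S] [Finite S] {n : ℕ} {x y z : S}

section W

variable (h : WDat n x y z) (X : Subgroup S) (σ : ZMod (2 ^ n))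
  (hX : (X : Set S) = Wset n x y z (4 * σ))

include h hX in
theorem A_mem_X (a b : ZMod (2 ^ n)) : A n x y a b ∈ X ↔ 2 * (a - b) = 0 := by
  rw [← SetLike.mem_coe, hX, A_mem_Wset h]

include h hX in
theorem zA_mem_X (p q : ZMod (2 ^ n)) : z * A n x y p q ∈ X ↔ 2 * (p - q) = 4 * σ := by
  rw [← SetLike.mem_coe, hX, zA_mem_Wset h]

include h hX in
/-- the normalizer has index two -/
theorem relIndex_normalizer : X.relIndex (Subgroup.normalizer (X : Set S)) = 2 := by
  have hn := h.hn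
  -- `g = A d 0` normalizes `X`
  have hgN : A n x y (d n) 0 ∈ Subgroup.normalizer (X : Set S) := by
    rw [Subgroup.mem_normalizer_iff]
    intro s
    rcases mem_cases h s with ⟨a, b, rfl⟩ | ⟨p, q, rfl⟩
    · have : A n x y (d n) 0 * A n x y a b * (A n x y (d n) 0)⁻¹ = A n x y a b := by
        rw [A_inv h, A_mul h, A_mul h]
        congr 1 <;> ring
      rw [this]
    · rw [conj_zA_by_A h, zA_mem_X h X σ hX, zA_mem_X h X σ hX]
      have : 2 * (p + 0 - d n - (q + d n - 0)) = 2 * (p - q) - 4 * d n := by ring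
      rw [this, four_d hn, sub_zero]
  have hgX : A n x y (d n) 0 ∉ X := by
    rw [A_mem_X h X σ hX, sub_zero, two_d hn]
    exact c_ne hn
  have hle : X.relIndex (Subgroup.normalizer (X : Set S)) ≤ 2 := by
    apply Cfsg.Agent.Lead.QD.relIndex_le_two X _ (A n x y (d n) 0) hgN
    intro k hk
    rw [Subgroup.mem_normalizer_iff] at hk
    -- `w = z A (2σ) 0 ∈ X`
    have hwX : z * A n x y (2 * σ) 0 ∈ X := by
      rw [zA_mem_X h X σ hX]; ring
    rcases mem_cases h k with ⟨a, b, rfl⟩ | ⟨p, q, rfl⟩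
    · have h1 := (hk _).1 hwX
      rw [conj_zA_by_A h, zA_mem_X h X σ hX] at h1
      have h2 : 4 * (b - a) = 0 := by
        have : 4 * (b - a) = 2 * (2 * σ + b - a - (0 + a - b)) - 4 * σ := by ring
        rw [this, h1, sub_self]
      have h3 : 2 * (2 * (a - b)) = 0 := by
        have : 2 * (2 * (a - b)) = -(4 * (b - a)) := by ring
        rw [this, h2, neg_zero]
      rcases (two_mul_eq_zero hn _).1 h3 with h4 | h4
      · left
        rw [A_mem_X h X σ hX]
        exact h4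
      · right
        rw [A_inv h, A_mul h, A_mem_X h X σ hX]
        have : 2 * (-d n + a - (-0 + b)) = 2 * (a - b) - 2 * d n := by ring
        rw [this, h4, two_d hn, sub_self]
    · have h1 := (hk _).1 hwX
      rw [conj_zA_by_zA h, zA_mem_X h X σ hX] at h1
      have h3 : 2 * (2 * (p - q) - 4 * σ) = 0 := by
        have : 2 * (2 * (p - q) - 4 * σ) = 2 * (p + 0 - q - (q + 2 * σ - p)) - 4 * σ := by ring
        rw [this, h1, sub_self]
      rcases (two_mul_eq_zero hn _).1 h3 with h4 | h4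
      · left
        rw [zA_mem_X h X σ hX]
        exact sub_eq_zero.1 h4
      · right
        rw [A_inv h, A_mul_zA h, zA_mem_X h X σ hX]
        have : 2 * (-0 + p - (-d n + q)) = (2 * (p - q) - 4 * σ) + 2 * d n + 4 * σ := by ring
        rw [this, h4, two_d hn, c_add_c hn, zero_add]
  have hne1 : X.relIndex (Subgroup.normalizer (X : Set S)) ≠ 1 := by
    intro h1
    rw [Subgroup.relIndex_eq_one] at h1
    exact hgX (h1 hgN)
  have hne0 : X.relIndex (Subgroup.normalizer (X : Set S)) ≠ 0 := by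
    unfold Subgroup.relIndex
    exact Subgroup.index_ne_zero_of_finite
  omega

include h hX in
/-- `X` is not commutative -/
theorem not_comm : ¬ IsMulCommutative X := by
  have hn := h.hn
  intro hc
  have h1 : A n x y (c n) 0 ∈ X := by
    rw [A_mem_X h X σ hX, sub_zero, two_c hn]
  have h2 : z * A n x y (2 * σ) 0 ∈ X := by
    rw [zA_mem_X h X σ hX]; ring
  have h3 := hc.is_comm.comm ⟨_, h1⟩ ⟨_, h2⟩
  have h4 := congrArg Subtype.val h3
  rw [Subgroup.coe_mul, Subgroup.coe_mul] at h4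
  exact c_ne hn (comm_A_zA h _ _ _ _ h4)

include h hX in
/-- `X = Q Z(S)` for a quaternion subgroup `Q` -/
theorem exists_quat : ∃ Q : Subgroup S, Nonempty (Q ≃* QuaternionGroup 2) ∧
    X = Q ⊔ Subgroup.center S := by
  have hn := h.hn
  set q₁ : S := A n x y (d n) (-d n) with hq₁
  set q₂ : S := z * A n x y (d n + σ) (d n - σ) with hq₂
  have hq₁sq : q₁ * q₁ = A n x y (c n) (c n) := by
    rw [hq₁, A_sq h, mul_neg, two_d hn, neg_c hn]
  have hq₁4 : q₁ ^ (2 * 2) = 1 := by
    rw [pow_mul, pow_two q₁, hq₁sq, pow_two, A_sq h, two_c hn, A_zero]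
  have hq₂sq : q₂ * q₂ = q₁ ^ 2 := by
    rw [pow_two, hq₁sq, hq₂, zA_sq h]
    have : d n + σ + (d n - σ) = 2 * d n := by ring
    rw [this, two_d hn]
  have hq₁inv : q₁⁻¹ = A n x y (-d n) (d n) := by
    rw [hq₁, A_inv h, neg_neg]
  have hcomm : q₁ * q₂ = q₂ * q₁⁻¹ := by
    have := conj_A_by_zA h (d n) (-d n) (d n + σ) (d n - σ)
    rw [← hq₁, ← hq₂, ← hq₁inv] at this
    calc q₁ * q₂ = q₂ * (q₂⁻¹ * (q₁ * q₂)) := by group
      _ = q₂ * q₁⁻¹ := by
          congr 1
          have h5 : q₁ = q₂⁻¹ * q₁⁻¹ * q₂ := by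
            calc q₁ = q₂⁻¹ * (q₂ * q₁ * q₂⁻¹) * q₂ := by group
              _ = q₂⁻¹ * q₁⁻¹ * q₂ := by rw [this]
          calc q₂⁻¹ * (q₁ * q₂) = (q₂⁻¹ * q₁ * q₂) := by group
            _ = (q₂⁻¹ * q₁⁻¹ * q₂)⁻¹ := by group
            _ = q₁⁻¹ := by rw [← h5]
  obtain ⟨f, hfa, hfxa⟩ := Cfsg.Agent.H2.UOP.quatHom 2 q₁ q₂ hq₁4 hq₂sq hcomm
  have hord : orderOf q₁ = 2 * 2 := by
    haveI : Fact (Nat.Prime 2) := ⟨Nat.prime_two⟩
    have := orderOf_eq_prime_pow (x := q₁) (n := 1) (p := 2) (by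
      rw [pow_one, pow_two, hq₁sq]
      intro h1
      exact c_ne hn (A_eq_one h h1).1) (by
      have : (2 : ℕ) ^ (1 + 1) = 2 * 2 := by norm_num
      rw [this]
      exact hq₁4)
    rw [this]
    norm_num
  have hq₂U : q₂ ∉ Subgroup.zpowers q₁ := by
    intro hmem
    have hle : Subgroup.zpowers q₁ ≤ U h := by
      rw [Subgroup.zpowers_le]
      exact A_mem_U h _ _
    obtain ⟨a, b, hab⟩ := hle hmem
    exact z_ne_A h _ _ _ _ hab
  have hinj := Cfsg.Agent.H2.UOP.quatHom_injective 2 q₁ q₂ f hfa hfxa hord hq₂U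
  have hq₁X : q₁ ∈ X := by
    rw [hq₁, A_mem_X h X σ hX]
    have : 2 * (d n - -d n) = 4 * d n := by ring
    rw [this, four_d hn]
  have hq₂X : q₂ ∈ X := by
    rw [hq₂, zA_mem_X h X σ hX]; ring
  have hq₁f : q₁ ∈ f.range := ⟨QuaternionGroup.a 1, by
    rw [hfa]
    have : (1 : ZMod (2 * 2)).val = 1 := rfl
    rw [this, pow_one]⟩
  have hq₂f : q₂ ∈ f.range := ⟨QuaternionGroup.xa 0, by
    rw [hfxa, ZMod.val_zero, pow_zero, mul_one]⟩
  refine ⟨f.range, ⟨(MonoidHom.ofInjective hinj).symm⟩, ?_⟩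
  apply le_antisymm
  · -- `X ≤ Q Z(S)`
    have hZ : ∀ a : ZMod (2 ^ n), A n x y a a ∈ f.range ⊔ Subgroup.center S := fun a =>
      (le_sup_right : Subgroup.center S ≤ _) ((mem_center_iff h _).2 ⟨a, rfl⟩)
    have hq₁' : q₁ ∈ f.range ⊔ Subgroup.center S := (le_sup_left : f.range ≤ _) hq₁f
    have hq₂' : q₂ ∈ f.range ⊔ Subgroup.center S := (le_sup_left : f.range ≤ _) hq₂f
    have hA : ∀ a b : ZMod (2 ^ n), 2 * (a - b) = 0 →
        A n x y a b ∈ f.range ⊔ Subgroup.center S := by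
      intro a b hab
      rcases (two_mul_eq_zero hn _).1 hab with h5 | h5
      · have : a = b := sub_eq_zero.1 h5
        rw [this]
        exact hZ b
      · have : A n x y a b = q₁ * A n x y (d n + b) (d n + b) := by
          rw [hq₁, A_mul h]
          congr 1
          · have : a = (a - b) + b := by ring
            rw [this, h5, ← two_d hn]; ring
          · ring
        rw [this]
        exact Subgroup.mul_mem _ hq₁' (hZ _)
    intro s hs
    rcases mem_cases h s with ⟨a, b, rfl⟩ | ⟨p, q, rfl⟩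
    · exact hA a b ((A_mem_X h X σ hX a b).1 hs)
    · have h1 := (zA_mem_X h X σ hX p q).1 hs
      have : z * A n x y p q = q₂ * A n x y (p - d n - σ) (q - d n + σ) := by
        rw [hq₂, zA_mul_A h]
        congr 2 <;> ring
      rw [this]
      apply Subgroup.mul_mem _ hq₂'
      apply hA
      have : 2 * (p - d n - σ - (q - d n + σ)) = 2 * (p - q) - 4 * σ := by ring
      rw [this, h1, sub_self]
  · apply sup_le
    · rintro _ ⟨g, rfl⟩
      rcases g with i | i
      · rw [hfa]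
        exact X.pow_mem hq₁X _
      · rw [hfxa]
        exact X.mul_mem hq₂X (X.pow_mem hq₁X _)
    · intro s hs
      obtain ⟨a, rfl⟩ := (mem_center_iff h s).1 hs
      rw [A_mem_X h X σ hX, sub_self, mul_zero]

end W

/-- any two subgroups of type `Q Z(S)` are conjugate -/
theorem conj_W (h : WDat n x y z) (X X' : Subgroup S) (σ σ' : ZMod (2 ^ n))
    (hX : (X : Set S) = Wset n x y z (4 * σ)) (hX' : (X' : Set S) = Wset n x y z (4 * σ')) :
    ∃ s : S, X.map (MulAut.conj s).toMonoidHom = X' := by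
  have key : ∀ (Y Y' : Subgroup S) (τ τ' : ZMod (2 ^ n)), (Y : Set S) = Wset n x y z (4 * τ) →
      (Y' : Set S) = Wset n x y z (4 * τ') → ∀ s ∈ Y,
      A n x y 0 (τ' - τ) * s * (A n x y 0 (τ' - τ))⁻¹ ∈ Y' := by
    intro Y Y' τ τ' hY hY' s hs
    rcases mem_cases h s with ⟨a, b, rfl⟩ | ⟨p, q, rfl⟩
    · have : A n x y 0 (τ' - τ) * A n x y a b * (A n x y 0 (τ' - τ))⁻¹ = A n x y a b := by
        rw [A_inv h, A_mul h, A_mul h]
        congr 1 <;> ring
      rw [this, A_mem_X h Y' τ' hY']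
      exact (A_mem_X h Y τ hY a b).1 hs
    · rw [conj_zA_by_A h, zA_mem_X h Y' τ' hY']
      have h1 := (zA_mem_X h Y τ hY p q).1 hs
      have : 2 * (p + (τ' - τ) - 0 - (q + 0 - (τ' - τ))) = 2 * (p - q) + 4 * τ' - 4 * τ := by ring
      rw [this, h1]; ring
  refine ⟨A n x y 0 (σ' - σ), ?_⟩
  ext t
  rw [Subgroup.mem_map]
  constructor
  · rintro ⟨s, hs, rfl⟩
    exact key X X' σ σ' hX hX' s hs
  · intro ht
    refine ⟨(A n x y 0 (σ' - σ))⁻¹ * t * A n x y 0 (σ' - σ), ?_, ?_⟩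
    · have := key X' X σ' σ hX' hX t ht
      have e : A n x y 0 (σ - σ') = (A n x y 0 (σ' - σ))⁻¹ := by
        rw [A_inv h]
        congr 1 <;> ring
      rw [e, inv_inv] at this
      exact this
    · show A n x y 0 (σ' - σ) * ((A n x y 0 (σ' - σ))⁻¹ * t * A n x y 0 (σ' - σ)) *
        (A n x y 0 (σ' - σ))⁻¹ = t
      group

end Cfsg.Agent.H2.WrSC
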