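import Mathlib
import Cfsg.Agent.H2.WrSC4

/-!
# Wreathed Sylow 2-subgroups: general lemmas for the local indices (helper2)
-/

set_option autoImplicit false
set_option linter.style.haveILetI false
set_option linter.unusedSectionVars false
set_option linter.unusedVariables false

namespace Cfsg.Agent.H2.WrAmb

open Cfsg.Agent.Lead.QD (P c d)
open Cfsg.Agent.Lead.Wr
open Cfsg.Agent.H2.WrSC

section automorphisms

variable {X : Type*} [Group X]

/-- an automorphism of odd order which maps an abelian 2-subgroup into itself and fixes its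
involutions fixes it elementwise -/
theorem fixes_abelian' (α : MulAut X) (hα : (orderOf α).Coprime 2) (Y : Subgroup X)
    (hY2 : ∀ g ∈ Y, ∃ j : ℕ, g ^ 2 ^ j = 1)
    (hYab : ∀ a ∈ Y, ∀ b ∈ Y, a * b = b * a) (hYinv : ∀ g ∈ Y, α g ∈ Y)
    (hinv : ∀ g ∈ Y, g * g = 1 → α g = g) : ∀ g ∈ Y, α g = g := by
  have key : ∀ k : ℕ, ∀ g ∈ Y, g ^ 2 ^ k = 1 → α g = g := by
    intro k
    induction k with
    | zero =>
      intro g _ hg
      rw [pow_zero, pow_one] at hg
      rw [hg, map_one]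
    | succ k ih =>
      intro g hg hgk
      have hgg : g * g ∈ Y := Y.mul_mem hg hg
      have h1 : α (g * g) = g * g := by
        apply ih _ hgg
        rw [← pow_two, ← pow_mul, ← pow_succ']
        exact hgk
      have hd : g⁻¹ * α g ∈ Y := Y.mul_mem (Y.inv_mem hg) (hYinv g hg)
      have hdd : (g⁻¹ * α g) * (g⁻¹ * α g) = 1 := by
        have hc := hYab _ (hYinv g hg) _ (Y.inv_mem hg)
        calc (g⁻¹ * α g) * (g⁻¹ * α g) = g⁻¹ * (α g * g⁻¹) * α g := by group
          _ = g⁻¹ * (g⁻¹ * α g) * α g := by rw [hc]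
          _ = (g * g)⁻¹ * (α g * α g) := by group
          _ = (g * g)⁻¹ * α (g * g) := by rw [map_mul]
          _ = 1 := by rw [h1, inv_mul_cancel]
      have hfix := hinv _ hd hdd
      haveI : Fact (Nat.Prime 2) := ⟨Nat.prime_two⟩
      have hx : α g = g * (g⁻¹ * α g) := by group
      have := Cfsg.Agent.Lib.Lead.OmegaFaithful.eq_one_of_step (p := 2) α hα hx hfix (j := 1)
        (by rw [pow_one, pow_two]; exact hdd)
      rw [this, mul_one] at hx
      exact hx
  intro g hg
  obtain ⟨j, hj⟩ := hY2 g hg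
  exact key j g hg hj

/-- an automorphism of odd order fixing a 2-subgroup elementwise and acting trivially
modulo that subgroup on an element fixes the element -/
theorem fixes_of_fixes_mod' (α : MulAut X) (hα : (orderOf α).Coprime 2) (Y : Subgroup X)
    (hY2 : ∀ g ∈ Y, ∃ j : ℕ, g ^ 2 ^ j = 1) (hY : ∀ g ∈ Y, α g = g)
    (g : X) (hg : g⁻¹ * α g ∈ Y) : α g = g := by
  haveI : Fact (Nat.Prime 2) := ⟨Nat.prime_two⟩
  have hx : α g = g * (g⁻¹ * α g) := by group
  obtain ⟨j, hj⟩ := hY2 _ hg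
  have := Cfsg.Agent.Lib.Lead.OmegaFaithful.eq_one_of_step (p := 2) α hα hx (hY _ hg) hj
  rw [this, mul_one] at hx
  exact hx

end automorphisms

section index

variable {Γ : Type*} [Group Γ] [Finite Γ]

/-- a power of every element has odd order -/
theorem exists_pow_coprime (g : Γ) : ∃ e : ℕ, (orderOf (g ^ 2 ^ e)).Coprime 2 := by
  have hm : orderOf g ≠ 0 := (orderOf_pos g).ne'
  obtain ⟨e, r, hr, hmr⟩ := Nat.exists_eq_two_pow_mul_odd hm
  refine ⟨e, ?_⟩
  rw [orderOf_pow' g (by positivity), hmr]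
  have : (2 ^ e * r).gcd (2 ^ e) = 2 ^ e := Nat.gcd_eq_right (dvd_mul_right _ _)
  rw [this, Nat.mul_div_cancel_left _ (by positivity)]
  exact Nat.coprime_two_right.2 hr

/-- if all elements of odd order of `L` lie in `H`, the index is a power of two -/
theorem exists_relIndex_eq_two_pow (H L : Subgroup Γ) [hn : (H.subgroupOf L).Normal]
    (hodd : ∀ g ∈ L, (orderOf g).Coprime 2 → g ∈ H) : ∃ k : ℕ, H.relIndex L = 2 ^ k := by
  haveI : Fact (Nat.Prime 2) := ⟨Nat.prime_two⟩
  have hp : IsPGroup 2 (↥L ⧸ H.subgroupOf L) := by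
    intro q
    induction q using QuotientGroup.induction_on with
    | H g =>
      obtain ⟨e, he⟩ := exists_pow_coprime (g : Γ)
      refine ⟨e, ?_⟩
      rw [← QuotientGroup.mk_pow, QuotientGroup.eq_one_iff, Subgroup.mem_subgroupOf,
        Subgroup.coe_pow]
      exact hodd _ (L.pow_mem g.2 _) he
  obtain ⟨k, hk⟩ := IsPGroup.iff_card.mp hp
  exact ⟨k, by rw [Subgroup.relIndex, Subgroup.index_eq_card]; exact hk⟩

/-- arithmetic of the two indices -/
theorem two_or_six {m k : ℕ} (h1 : m ∣ 2 ^ k * 6) (h2 : 2 ∣ m) (h4 : ¬ 4 ∣ m) :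
    m = 2 ∨ m = 6 := by
  obtain ⟨r, rfl⟩ := h2
  have hodd : ¬ 2 ∣ r := by
    rintro ⟨s, rfl⟩
    exact h4 ⟨s, by ring⟩
  have hcop : Nat.Coprime r (2 ^ (k + 1)) := by
    apply Nat.Coprime.pow_right
    rw [Nat.coprime_comm, Nat.Prime.coprime_iff_not_dvd Nat.prime_two]
    exact hodd
  have h3 : r ∣ 2 ^ (k + 1) * 3 := by
    have : 2 ^ (k + 1) * 3 = 2 ^ k * 6 := by ring
    rw [this]
    exact (dvd_mul_left r 2).trans h1
  have h5 : r ∣ 3 := hcop.dvd_of_dvd_mul_left h3
  have h6 : r ≤ 3 := Nat.le_of_dvd (by norm_num) h5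
  interval_cases r
  · simp at h5
  · left; rfl
  · exact absurd (dvd_refl 2) hodd
  · right; rfl

/-- the order of a Sylow subgroup is the full power -/
theorem not_dvd_card_of_sylow {G : Type*} [Group G] [Finite G] (S : Sylow 2 G) (k : ℕ)
    (hk : Nat.card S = 2 ^ k) : ¬ 2 ^ (k + 1) ∣ Nat.card G := by
  haveI : Fact (Nat.Prime 2) := ⟨Nat.prime_two⟩
  have h1 := S.card_eq_multiplicity
  rw [hk] at h1
  have h2 := Nat.pow_right_injective (le_refl 2) h1
  rw [h2]
  exact Nat.pow_succ_factorization_not_dvd Nat.card_pos.ne' Nat.prime_two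

end index

end Cfsg.Agent.H2.WrAmb
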