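import Mathlib
import Cfsg.Agent.H2.WrAmb1

/-!
# Wreathed 2-groups: the subgroups `Q Z(S)` again (helper2)

`Wsub h σ` is the subgroup with carrier `Wset n x y z (4 σ)`; every quaternion subgroup `Q` of order 8
has `Q Z(S)` of this form; the centralizer of such a subgroup is the centre.
-/

set_option autoImplicit false
set_option linter.style.haveILetI false
set_option linter.unusedSectionVars false
set_option linter.unusedVariables false

namespace Cfsg.Agent.H2.WrAmb

open Cfsg.Agent.Lead.QD (P c d)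
open Cfsg.Agent.Lead.Wr
open Cfsg.Agent.H2.WrSC

variable {S : Type*} [Group S] [Finite S] {n : ℕ} {x y z : S}

/-- the subgroup with carrier `Wset (4 σ)` -/
def Wsub (h : WDat n x y z) (σ : ZMod (2 ^ n)) : Subgroup S where
  carrier := Wset n x y z (4 * σ)
  one_mem' := by
    have : (1 : S) = A n x y 0 0 := A_zero.symm
    rw [this]
    exact (A_mem_Wset h _ 0 0).2 (by ring)
  mul_mem' := by
    intro s t hs ht
    rcases mem_cases h s with ⟨a, b, rfl⟩ | ⟨p, q, rfl⟩ <;>
      rcases mem_cases h t with ⟨a', b', rfl⟩ | ⟨p', q', rfl⟩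
    · have h1 := (A_mem_Wset h _ _ _).1 hs
      have h2 := (A_mem_Wset h _ _ _).1 ht
      rw [A_mul h]
      exact (A_mem_Wset h _ _ _).2 (by linear_combination h1 + h2)
    · have h1 := (A_mem_Wset h _ _ _).1 hs
      have h2 := (zA_mem_Wset h _ _ _).1 ht
      rw [A_mul_zA h]
      exact (zA_mem_Wset h _ _ _).2 (by linear_combination -h1 + h2)
    · have h1 := (zA_mem_Wset h _ _ _).1 hs
      have h2 := (A_mem_Wset h _ _ _).1 ht
      rw [zA_mul_A h]
      exact (zA_mem_Wset h _ _ _).2 (by linear_combination h1 + h2)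
    · have h1 := (zA_mem_Wset h _ _ _).1 hs
      have h2 := (zA_mem_Wset h _ _ _).1 ht
      rw [zA_mul_zA h]
      exact (A_mem_Wset h _ _ _).2 (by linear_combination -h1 + h2)
  inv_mem' := by
    intro s hs
    rcases mem_cases h s with ⟨a, b, rfl⟩ | ⟨p, q, rfl⟩
    · have h1 := (A_mem_Wset h _ _ _).1 hs
      rw [A_inv h]
      exact (A_mem_Wset h _ _ _).2 (by linear_combination -h1)
    · have h1 := (zA_mem_Wset h _ _ _).1 hs
      rw [zA_inv h]
      exact (zA_mem_Wset h _ _ _).2 (by linear_combination h1)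

theorem coe_Wsub (h : WDat n x y z) (σ : ZMod (2 ^ n)) :
    ((Wsub h σ : Subgroup S) : Set S) = Wset n x y z (4 * σ) := rfl

theorem A_mem_Wsub (h : WDat n x y z) (σ a b : ZMod (2 ^ n)) :
    A n x y a b ∈ Wsub h σ ↔ 2 * (a - b) = 0 := A_mem_X h _ σ (coe_Wsub h σ) a b

theorem zA_mem_Wsub (h : WDat n x y z) (σ p q : ZMod (2 ^ n)) :
    z * A n x y p q ∈ Wsub h σ ↔ 2 * (p - q) = 4 * σ := zA_mem_X h _ σ (coe_Wsub h σ) p q

theorem center_le_Wsub (h : WDat n x y z) (σ : ZMod (2 ^ n)) : Subgroup.center S ≤ Wsub h σ := by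
  intro s hs
  obtain ⟨a, rfl⟩ := (mem_center_iff h s).1 hs
  rw [A_mem_Wsub, sub_self, mul_zero]

/-- the centralizer of a subgroup `Q Z(S)` is the centre -/
theorem centralizer_W (h : WDat n x y z) (X : Subgroup S) (σ : ZMod (2 ^ n))
    (hX : (X : Set S) = Wset n x y z (4 * σ)) :
    Subgroup.centralizer (X : Set S) = Subgroup.center S := by
  have hn := h.hn
  apply le_antisymm
  · intro s hs
    rw [Subgroup.mem_centralizer_iff] at hs
    have h1 : A n x y (c n) 0 ∈ X := by
      rw [A_mem_X h X σ hX, sub_zero, two_c hn]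
    have h2 : z * A n x y (2 * σ) 0 ∈ X := by
      rw [zA_mem_X h X σ hX]; ring
    rcases mem_cases h s with ⟨a, b, rfl⟩ | ⟨p, q, rfl⟩
    · have h3 := hs _ h2
      have := comm_A_zA h a b _ _ h3.symm
      rw [mem_center_iff h]
      exact ⟨a, by rw [this]⟩
    · exfalso
      have h3 := hs _ h1
      exact c_ne hn (comm_A_zA h _ _ _ _ h3)
  · exact Subgroup.center_le_centralizer _

/-- the core computation: a quaternion pair `u = A a b`, `v = z A p q` -/
theorem quat_core (h : WDat n x y z) (a b p q : ZMod (2 ^ n))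
    (h1 : A n x y a b * A n x y a b = (z * A n x y p q) * (z * A n x y p q))
    (h2 : A n x y a b * A n x y a b ≠ 1)
    (h3 : (z * A n x y p q) * A n x y a b * (z * A n x y p q)⁻¹ = (A n x y a b)⁻¹) :
    A n x y a b ∈ Wsub h (-q) ∧ z * A n x y p q ∈ Wsub h (-q) ∧
      ∀ s ∈ Wsub h (-q), s ∈ Subgroup.closure {A n x y a b, z * A n x y p q} ⊔ Subgroup.center S := by
  have hn := h.hn
  rw [conj_A_by_zA h, A_inv h] at h3
  obtain ⟨hb, ha⟩ := A_inj h h3
  -- `b = -a`
  subst hb
  rw [A_sq h, zA_sq h] at h1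
  obtain ⟨h4, h5⟩ := A_inj h h1
  -- `2 a = p + q`, `-2 a = p + q`
  have h4a : 4 * a = 0 := by linear_combination h4 - h5
  have h2a : 2 * a = c n := by
    have h6 : 2 * (2 * a) = 0 := by linear_combination h4a
    rcases (two_mul_eq_zero hn (2 * a)).1 h6 with h7 | h7
    · exfalso
      apply h2
      rw [A_sq h, mul_neg, h7, neg_zero, A_zero]
    · exact h7
  have huW : A n x y a (-a) ∈ Wsub h (-q) := by
    rw [A_mem_Wsub]; linear_combination h4a
  have hvW : z * A n x y p q ∈ Wsub h (-q) := by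
    rw [zA_mem_Wsub]; linear_combination -2 * h4 + h4a
  refine ⟨huW, hvW, ?_⟩
  set L := Subgroup.closure {A n x y a (-a), z * A n x y p q} ⊔ Subgroup.center S with hL
  have huL : A n x y a (-a) ∈ L :=
    (le_sup_left : _ ≤ L) (Subgroup.subset_closure (Set.mem_insert _ _))
  have hvL : z * A n x y p q ∈ L :=
    (le_sup_left : _ ≤ L) (Subgroup.subset_closure (Set.mem_insert_of_mem _ rfl))
  have hcL : ∀ e : ZMod (2 ^ n), A n x y e e ∈ L := fun e =>
    (le_sup_right : _ ≤ L) ((mem_center_iff h _).2 ⟨e, rfl⟩)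
  have hAL : ∀ a' b' : ZMod (2 ^ n), 2 * (a' - b') = 0 → A n x y a' b' ∈ L := by
    intro a' b' hab
    rcases (two_mul_eq_zero hn (a' - b')).1 hab with h7 | h7
    · have : a' = b' := sub_eq_zero.1 h7
      rw [this]; exact hcL b'
    · have e : A n x y a' b' = A n x y (a' - a) (a' - a) * A n x y a (-a) := by
        rw [A_mul h]
        congr 1
        · ring
        · linear_combination -h7 + h2a
      rw [e]
      exact L.mul_mem (hcL _) huL
  intro s hs
  rcases mem_cases h s with ⟨a', b', rfl⟩ | ⟨p', q', rfl⟩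
  · exact hAL a' b' ((A_mem_Wsub h _ _ _).1 hs)
  · have h7 := (zA_mem_Wsub h _ _ _).1 hs
    have e : z * A n x y p' q' = (z * A n x y p q) * ((z * A n x y p q)⁻¹ * (z * A n x y p' q')) := by
      group
    rw [e, zA_inv_mul_zA h]
    apply L.mul_mem hvL
    apply hAL
    linear_combination h7 + 2 * h4 - h4a

/-- a quaternion pair with `u ∈ U`, `v ∉ U` -/
theorem quat_pair (h : WDat n x y z) (u v : S) (hu : u ∈ U h) (hv : v ∉ U h)
    (h1 : u * u = v * v) (h2 : u * u ≠ 1) (h3 : v * u * v⁻¹ = u⁻¹) :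
    ∃ σ, u ∈ Wsub h σ ∧ v ∈ Wsub h σ ∧
      ∀ s ∈ Wsub h σ, s ∈ Subgroup.closure {u, v} ⊔ Subgroup.center S := by
  obtain ⟨a, b, rfl⟩ := hu
  obtain ⟨p, q, rfl⟩ : ∃ p q, v = z * A n x y p q := by
    rcases mem_cases h v with ⟨a', b', hab⟩ | hab
    · exact absurd ⟨a', b', hab⟩ hv
    · exact hab
  exact ⟨-q, quat_core h a b p q h1 h2 h3⟩

/-- the relations of a quaternion pair -/
def QRel {X : Type*} [Group X] (u v : X) : Prop :=
  u * u = v * v ∧ u * u ≠ 1 ∧ v * u * v⁻¹ = u⁻¹

theorem qrel_one : QRel (QuaternionGroup.a 1 : QuaternionGroup 2) (QuaternionGroup.xa 0) := by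
  unfold QRel; decide

theorem qrel_two : QRel (QuaternionGroup.xa 0 : QuaternionGroup 2) (QuaternionGroup.a 1) := by
  unfold QRel; decide

theorem qrel_three : QRel ((QuaternionGroup.a 1 : QuaternionGroup 2) * QuaternionGroup.xa 0)
    (QuaternionGroup.xa 0) := by
  unfold QRel; decide

theorem quat_span : ∀ g : QuaternionGroup 2, ∃ i j : Fin 4,
    g = (QuaternionGroup.a 1) ^ (i : ℕ) * (QuaternionGroup.xa 0) ^ (j : ℕ) := by
  decide

theorem QRel.map {X Y : Type*} [Group X] [Group Y] (f : X →* Y) (hf : Function.Injective f)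
    {u v : X} (huv : QRel u v) : QRel (f u) (f v) := by
  obtain ⟨h1, h2, h3⟩ := huv
  refine ⟨by rw [← map_mul, ← map_mul, h1], ?_, by rw [← map_inv, ← map_mul, ← map_mul, h3, map_inv]⟩
  intro h4
  apply h2
  apply hf
  rw [map_mul, h4, map_one]

/-- **every** quaternion subgroup `Q` has `Q Z(S)` of the form `Wsub` -/
theorem exists_sigma_of_quat (h : WDat n x y z) (Q₀ : Subgroup S) (e : Q₀ ≃* QuaternionGroup 2) :
    ∃ σ, Q₀ ⊔ Subgroup.center S = Wsub h σ := by
  set f : QuaternionGroup 2 →* S := Q₀.subtype.comp e.symm.toMonoidHom with hf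
  have hfinj : Function.Injective f := by
    intro g g' hgg
    have : (e.symm g : S) = e.symm g' := hgg
    exact e.symm.injective (Subtype.ext this)
  have hfmem : ∀ g, f g ∈ Q₀ := fun g => (e.symm g).2
  set u := f (QuaternionGroup.a 1) with hu
  set v := f (QuaternionGroup.xa 0) with hv
  have hspan : ∀ s ∈ Q₀, ∃ i j : ℕ, s = u ^ i * v ^ j := by
    intro s hs
    obtain ⟨i, j, hij⟩ := quat_span (e ⟨s, hs⟩)
    refine ⟨i, j, ?_⟩
    have h1 : f (e ⟨s, hs⟩) = s := by
      simp [hf]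
    rw [← h1, hij, map_mul, map_pow, map_pow]
  have r1 : QRel u v := qrel_one.map f hfinj
  have r2 : QRel v u := qrel_two.map f hfinj
  have r3 : QRel (u * v) v := by
    have := qrel_three.map f hfinj
    rwa [map_mul] at this
  -- the main claim
  have main : ∀ u' v' : S, u' ∈ Q₀ → v' ∈ Q₀ → u' ∈ U h → v' ∉ U h → QRel u' v' →
      (∀ σ, u' ∈ Wsub h σ → v' ∈ Wsub h σ → u ∈ Wsub h σ ∧ v ∈ Wsub h σ) →
      ∃ σ, Q₀ ⊔ Subgroup.center S = Wsub h σ := by
    intro u' v' hu'Q hv'Q hu' hv' hrel hgen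
    obtain ⟨σ, h1, h2, h3⟩ := quat_pair h u' v' hu' hv' hrel.1 hrel.2.1 hrel.2.2
    refine ⟨σ, le_antisymm (sup_le ?_ (center_le_Wsub h σ)) ?_⟩
    · intro s hs
      obtain ⟨i, j, rfl⟩ := hspan s hs
      obtain ⟨h4, h5⟩ := hgen σ h1 h2
      exact (Wsub h σ).mul_mem ((Wsub h σ).pow_mem h4 _) ((Wsub h σ).pow_mem h5 _)
    · intro s hs
      have h4 := h3 s hs
      have hle : Subgroup.closure {u', v'} ⊔ Subgroup.center S ≤ Q₀ ⊔ Subgroup.center S := by
        apply sup_le_sup_right
        rw [Subgroup.closure_le]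
        rintro t (rfl | rfl)
        · exact hu'Q
        · exact hv'Q
      exact hle h4
  by_cases huU : u ∈ U h
  · by_cases hvU : v ∈ U h
    · exfalso
      -- both in `U`: they commute
      obtain ⟨a, b, hab⟩ := huU
      obtain ⟨a', b', hab'⟩ := hvU
      have h3 := r1.2.2
      have hc : v * u = u * v := by rw [hab, hab', A_comm h]
      rw [hc, mul_inv_cancel_right] at h3
      apply r1.2.1
      nth_rewrite 2 [h3]
      exact mul_inv_cancel u
    · exact main u v (hfmem _) (hfmem _) huU hvU r1 (fun σ h1 h2 => ⟨h1, h2⟩)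
  · by_cases hvU : v ∈ U h
    · exact main v u (hfmem _) (hfmem _) hvU huU r2 (fun σ h1 h2 => ⟨h2, h1⟩)
    · -- both outside `U`
      have huvU : u * v ∈ U h := by
        obtain ⟨p, q, hpq⟩ : ∃ p q, u = z * A n x y p q := by
          rcases mem_cases h u with ⟨a', b', hab⟩ | hab
          · exact absurd ⟨a', b', hab⟩ huU
          · exact hab
        obtain ⟨p', q', hpq'⟩ : ∃ p q, v = z * A n x y p q := by
          rcases mem_cases h v with ⟨a', b', hab⟩ | hab
          · exact absurd ⟨a', b', hab⟩ hvU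
          · exact hab
        rw [hpq, hpq', zA_mul_zA h]
        exact A_mem_U h _ _
      refine main (u * v) v (Q₀.mul_mem (hfmem _) (hfmem _)) (hfmem _) huvU hvU r3 ?_
      intro σ h1 h2
      refine ⟨?_, h2⟩
      have : u = (u * v) * v⁻¹ := by group
      rw [this]
      exact (Wsub h σ).mul_mem h1 ((Wsub h σ).inv_mem h2)

/-- the centralizer of a quaternion subgroup is the centre -/
theorem centralizer_quat (h : WDat n x y z) (Q₀ : Subgroup S) (e : Q₀ ≃* QuaternionGroup 2) :
    Subgroup.centralizer (Q₀ : Set S) = Subgroup.center S := by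
  obtain ⟨σ, hσ⟩ := exists_sigma_of_quat h Q₀ e
  apply le_antisymm
  · rw [← centralizer_W h (Wsub h σ) σ (coe_Wsub h σ), ← hσ]
    intro s hs
    rw [Subgroup.mem_centralizer_iff] at hs ⊢
    have hle : Q₀ ⊔ Subgroup.center S ≤ Subgroup.centralizer {s} := by
      apply sup_le
      · intro q hq
        rw [Subgroup.mem_centralizer_singleton_iff]
        first | exact hs q hq | exact (hs q hq).symm
      · intro q hq
        rw [Subgroup.mem_centralizer_singleton_iff]
        first | exact (Subgroup.mem_center_iff.1 hq s).symm | exact (Subgroup.mem_center_iff.1 hq s)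
    intro t ht
    have := hle ht
    rw [Subgroup.mem_centralizer_singleton_iff] at this
    first | exact this.symm | exact this
  · exact Subgroup.center_le_centralizer _

/-- the order of the centre -/
theorem card_center (h : WDat n x y z) : Nat.card (Subgroup.center S) = 2 ^ n := by
  have hbij : Function.Bijective (fun a : ZMod (2 ^ n) =>
      (⟨A n x y a a, (mem_center_iff h _).2 ⟨a, rfl⟩⟩ : Subgroup.center S)) := by
    constructor
    · intro a b hab
      have := congrArg Subtype.val hab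
      exact (A_inj h this).1
    · rintro ⟨s, hs⟩
      obtain ⟨a, rfl⟩ := (mem_center_iff h s).1 hs
      exact ⟨a, rfl⟩
  rw [← Nat.card_congr (Equiv.ofBijective _ hbij), Nat.card_eq_fintype_card, ZMod.card]

/-- the centre has index four in `Q Z(S)` -/
theorem relIndex_center_W (h : WDat n x y z) (σ : ZMod (2 ^ n)) :
    (Subgroup.center S).relIndex (Wsub h σ) = 4 := by
  have hn := h.hn
  set W₀ := Wsub h σ ⊓ U h with hW₀
  have hmemW₀ : ∀ a b : ZMod (2 ^ n), A n x y a b ∈ W₀ ↔ 2 * (a - b) = 0 := by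
    intro a b
    rw [hW₀, Subgroup.mem_inf, A_mem_Wsub]
    exact ⟨fun h1 => h1.1, fun h1 => ⟨h1, A_mem_U h a b⟩⟩
  have hzW₀ : ∀ p q : ZMod (2 ^ n), z * A n x y p q ∉ W₀ := by
    intro p q hpq
    exact zA_not_mem_U h p q hpq.2
  have h1 : (Subgroup.center S).relIndex W₀ = 2 := by
    rw [Subgroup.relIndex_eq_two_iff]
    refine ⟨A n x y (c n) 0, (hmemW₀ _ _).2 (by rw [sub_zero, two_c hn]), ?_⟩
    intro b hb
    rcases mem_cases h b with ⟨a', b', rfl⟩ | ⟨p, q, rfl⟩
    · have h2 := (hmemW₀ _ _).1 hb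
      rw [A_mul h, mem_center_iff h, mem_center_iff h]
      rcases (two_mul_eq_zero hn _).1 h2 with h3 | h3
      · right
        refine ⟨⟨a', by rw [sub_eq_zero.1 h3]⟩, ?_⟩
        rintro ⟨e, he⟩
        obtain ⟨h4, h5⟩ := A_inj h he
        apply c_ne hn
        linear_combination h4 - h5 - h3
      · left
        refine ⟨⟨b', ?_⟩, ?_⟩
        · congr 1
          · linear_combination h3 + c_add_c hn
          · ring
        · rintro ⟨e, he⟩
          obtain ⟨h4, h5⟩ := A_inj h he
          apply c_ne hn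
          linear_combination -h3 + h4 - h5
    · exact absurd hb (hzW₀ p q)
  have h2 : W₀.relIndex (Wsub h σ) = 2 := by
    rw [Subgroup.relIndex_eq_two_iff]
    refine ⟨z * A n x y (2 * σ) 0, (zA_mem_Wsub h _ _ _).2 (by ring), ?_⟩
    intro b hb
    rcases mem_cases h b with ⟨a', b', rfl⟩ | ⟨p, q, rfl⟩
    · right
      refine ⟨(hmemW₀ _ _).2 ((A_mem_Wsub h _ _ _).1 hb), ?_⟩
      rw [A_mul_zA h]
      exact hzW₀ _ _
    · left
      refine ⟨?_, hzW₀ p q⟩
      have h3 := (zA_mem_Wsub h _ _ _).1 hb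
      rw [zA_mul_zA h, hmemW₀]
      linear_combination -h3
  have hle1 : Subgroup.center S ≤ W₀ := by
    intro s hs
    obtain ⟨a, rfl⟩ := (mem_center_iff h s).1 hs
    rw [hmemW₀, sub_self, mul_zero]
  have := Subgroup.relIndex_mul_relIndex _ _ _ hle1 (inf_le_left : W₀ ≤ Wsub h σ)
  rw [h1, h2] at this
  exact this.symm

/-- `A d 0` normalizes `Q Z(S)` but does not lie in it -/
theorem Ad_mem_normalizer (h : WDat n x y z) (σ : ZMod (2 ^ n)) :
    A n x y (d n) 0 ∈ Subgroup.normalizer ((Wsub h σ : Subgroup S) : Set S) := by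
  have hn := h.hn
  rw [Subgroup.mem_normalizer_iff]
  intro s
  rcases mem_cases h s with ⟨a, b, rfl⟩ | ⟨p, q, rfl⟩
  · have : A n x y (d n) 0 * A n x y a b * (A n x y (d n) 0)⁻¹ = A n x y a b := by
      rw [A_inv h, A_mul h, A_mul h]
      congr 1 <;> ring
    rw [this]
  · rw [conj_zA_by_A h, zA_mem_Wsub, zA_mem_Wsub]
    have : 2 * (p + 0 - d n - (q + d n - 0)) = 2 * (p - q) - 4 * d n := by ring
    rw [this, four_d hn, sub_zero]

theorem Ad_not_mem (h : WDat n x y z) (σ : ZMod (2 ^ n)) : A n x y (d n) 0 ∉ Wsub h σ := by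
  have hn := h.hn
  rw [A_mem_Wsub, sub_zero, two_d hn]
  exact c_ne hn

theorem Ad_sq_mem (h : WDat n x y z) (σ : ZMod (2 ^ n)) :
    A n x y (d n) 0 * A n x y (d n) 0 ∈ Wsub h σ := by
  have hn := h.hn
  rw [A_sq h, A_mem_Wsub, mul_zero, sub_zero, two_d hn, two_c hn]

/-- squares in `Q Z(S)` are central -/
theorem sq_mem_center (h : WDat n x y z) (σ : ZMod (2 ^ n)) (s : S) (hs : s ∈ Wsub h σ) :
    s * s ∈ Subgroup.center S := by
  rcases mem_cases h s with ⟨a, b, rfl⟩ | ⟨p, q, rfl⟩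
  · have h1 := (A_mem_Wsub h _ _ _).1 hs
    rw [A_sq h, mem_center_iff h]
    refine ⟨2 * a, ?_⟩
    congr 1
    linear_combination -h1
  · rw [zA_sq h, mem_center_iff h]
    exact ⟨_, rfl⟩

/-- the involutions of the centre -/
theorem center_invol (h : WDat n x y z) (s : S) (hs : s ∈ Subgroup.center S) (h2 : s * s = 1)
    (h1 : s ≠ 1) : s = A n x y (c n) (c n) := by
  have hn := h.hn
  obtain ⟨a, rfl⟩ := (mem_center_iff h s).1 hs
  rw [A_sq h] at h2
  obtain ⟨h3, -⟩ := A_eq_one h h2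
  rcases (two_mul_eq_zero hn a).1 h3 with rfl | rfl
  · exact absurd A_zero h1
  · rfl

end Cfsg.Agent.H2.WrAmb
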