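import Mathlib
import Cfsg.Agent.H2.WrAmb2
import Cfsg.Agent.Lib.Lead.QDSylow

/-!
# Wreathed Sylow 2-subgroups: the index `|N(U) : C(U)|` (helper2)
-/

set_option autoImplicit false
set_option linter.style.haveILetI false
set_option linter.unusedSectionVars false
set_option linter.unusedVariables false

namespace Cfsg.Agent.H2.WrAmb

open Cfsg.Agent.Lead.QD (P c d)
open Cfsg.Agent.Lead.Wr
open Cfsg.Agent.H2.WrSC

variable {G : Type*} [Group G] [Finite G]

theorem card_mul_relIndex {D N : Subgroup G} (hDN : D ≤ N) :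
    Nat.card D * D.relIndex N = Nat.card N := by
  have := Subgroup.card_mul_index (D.subgroupOf N)
  rwa [Nat.card_congr (Subgroup.subgroupOfEquivOfLe hDN).toEquiv] at this

/-- transport of centralizers -/
theorem mem_centralizer_subgroupOf (S H : Subgroup G) (hH : H ≤ S) (t : S) :
    t ∈ Subgroup.centralizer ((H.subgroupOf S : Subgroup S) : Set S) ↔
      (t : G) ∈ Subgroup.centralizer (H : Set G) := by
  rw [Subgroup.mem_centralizer_iff, Subgroup.mem_centralizer_iff]
  constructor
  · intro h1 g hg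
    have := h1 ⟨g, hH hg⟩ (by rw [SetLike.mem_coe, Subgroup.mem_subgroupOf]; exact hg)
    exact congrArg Subtype.val this
  · intro h1 s hs
    rw [SetLike.mem_coe, Subgroup.mem_subgroupOf] at hs
    exact Subtype.ext (h1 _ hs)

/-- transport of normalizers -/
theorem mem_normalizer_subgroupOf (S H : Subgroup G) (hH : H ≤ S) (t : S) :
    t ∈ Subgroup.normalizer ((H.subgroupOf S : Subgroup S) : Set S) ↔
      (t : G) ∈ Subgroup.normalizer (H : Set G) := by
  rw [← Subgroup.subgroupOf_normalizer_eq hH, Subgroup.mem_subgroupOf]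

/-- elements of a Sylow 2-subgroup have 2-power order -/
theorem two_elt_of_mem (S : Sylow 2 G) (g : G) (hg : g ∈ (S : Subgroup G)) :
    ∃ j : ℕ, g ^ 2 ^ j = 1 := by
  obtain ⟨k, hk⟩ := S.isPGroup' ⟨g, hg⟩
  exact ⟨k, by simpa using congrArg Subtype.val hk⟩

theorem isKleinFour_of_mulEquiv {A B : Type*} [Group A] [Group B] (e : A ≃* B) (hA : IsKleinFour A) :
    IsKleinFour B where
  card_four := by rw [← Nat.card_congr e.toEquiv]; exact hA.card_four
  exponent_two := by rw [← Monoid.exponent_eq_of_mulEquiv e]; exact hA.exponent_two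

/-- the index is not divisible by four -/
theorem not_four_dvd_U (S : Sylow 2 G) (k : ℕ) (hS : Nat.card S = 2 ^ (k + 1)) (U : Subgroup G)
    (hUab : IsMulCommutative U) (hUcard : Nat.card U = 2 ^ k) :
    ¬ 4 ∣ (Subgroup.centralizer (U : Set G)).relIndex (Subgroup.normalizer (U : Set G)) := by
  intro h4
  have hUC : U ≤ Subgroup.centralizer (U : Set G) :=
    Subgroup.le_centralizer_iff_isMulCommutative.mpr hUab
  have h1 := card_mul_relIndex (Subgroup.centralizer_le_normalizer (U : Set G))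
  have h2 : 2 ^ k ∣ Nat.card (Subgroup.centralizer (U : Set G)) := by
    rw [← hUcard]; exact Subgroup.card_dvd_of_le hUC
  have h3 : 2 ^ k * 4 ∣ Nat.card (Subgroup.normalizer (U : Set G)) := by
    rw [← h1]; exact Nat.mul_dvd_mul h2 h4
  have h5 : 2 ^ (k + 1 + 1) ∣ Nat.card G := by
    have : 2 ^ (k + 1 + 1) = 2 ^ k * 4 := by ring
    rw [this]
    exact h3.trans (Subgroup.card_subgroup_dvd_card _)
  exact not_dvd_card_of_sylow S (k + 1) hS h5

section U

variable (S : Sylow 2 G) {n : ℕ} {x y z : ↥(S : Subgroup G)} (h : WDat n x y z)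
  (U : Subgroup G) (hUS : U ≤ (S : Subgroup G)) (hU₀ : U.subgroupOf (S : Subgroup G) = Cfsg.Agent.Lead.Wr.U h)

include hUS hU₀ in
theorem mem_U_amb (g : G) : g ∈ U ↔ ∃ a b, g = ((A n x y a b : ↥(S : Subgroup G)) : G) := by
  constructor
  · intro hg
    have h1 : (⟨g, hUS hg⟩ : ↥(S : Subgroup G)) ∈ U.subgroupOf (S : Subgroup G) := by
      rw [Subgroup.mem_subgroupOf]; exact hg
    rw [hU₀] at h1
    obtain ⟨a, b, hab⟩ := h1
    exact ⟨a, b, congrArg Subtype.val hab⟩
  · rintro ⟨a, b, rfl⟩
    have h1 : A n x y a b ∈ U.subgroupOf (S : Subgroup G) := by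
      rw [hU₀]; exact A_mem_U h a b
    exact Subgroup.mem_subgroupOf.1 h1

include hUS hU₀ in
theorem S_le_normalizer_U : (S : Subgroup G) ≤ Subgroup.normalizer (U : Set G) := by
  have hidx := index_U h
  have hnorm : (Cfsg.Agent.Lead.Wr.U h).Normal := Subgroup.normal_of_index_eq_two hidx
  rw [← hU₀] at hnorm
  exact (Subgroup.normal_subgroupOf_iff_le_normalizer hUS).1 hnorm

include hUS hU₀ in
/-- the index is even -/
theorem two_dvd_U :
    2 ∣ (Subgroup.centralizer (U : Set G)).relIndex (Subgroup.normalizer (U : Set G)) := by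
  have hn := h.hn
  apply Cfsg.Agent.Lead.QD.two_dvd_relIndex_of _ _ ((z : ↥(S : Subgroup G)) : G)
  · exact S_le_normalizer_U S h U hUS hU₀ z.2
  · have : ((z : ↥(S : Subgroup G)) : G) * z = 1 := by
      have := congrArg Subtype.val (z_mul_z h)
      simpa using this
    rw [this]; exact Subgroup.one_mem _
  · intro hz
    rw [Subgroup.mem_centralizer_iff] at hz
    have h1 := hz _ ((mem_U_amb S h U hUS hU₀ _).2 ⟨c n, 0, rfl⟩)
    have h2 : A n x y (c n) 0 * (z * A n x y 0 0) = (z * A n x y 0 0) * A n x y (c n) 0 := by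
      rw [A_zero, mul_one]
      exact Subtype.ext h1
    exact c_ne hn (comm_A_zA h _ _ _ _ h2)

include hUS hU₀ in
/-- up to a power of two, the index divides six -/
theorem U_dvd (hUab : IsMulCommutative U) :
    ∃ k : ℕ, (Subgroup.centralizer (U : Set G)).relIndex (Subgroup.normalizer (U : Set G))
      ∣ 2 ^ k * 6 := by
  have hn := h.hn
  set Tk : Subgroup G := (T n x y).map (S : Subgroup G).subtype with hTk
  have hmemT : ∀ g, g ∈ Tk ↔ g ∈ U ∧ g * g = 1 := by
    intro g
    constructor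
    · rintro ⟨t, ht, rfl⟩
      obtain ⟨i, j, rfl, hi, hj⟩ := (mem_T h t).1 ht
      refine ⟨(mem_U_amb S h U hUS hU₀ _).2 ⟨i, j, rfl⟩, ?_⟩
      have : A n x y i j * A n x y i j = 1 := by
        rw [A_sq h, hi, hj, A_zero]
      simpa using congrArg Subtype.val this
    · rintro ⟨hg, hgg⟩
      obtain ⟨a, b, rfl⟩ := (mem_U_amb S h U hUS hU₀ g).1 hg
      refine ⟨A n x y a b, ?_, rfl⟩
      have h1 : A n x y a b * A n x y a b = 1 := Subtype.ext (by simpa using hgg)
      rw [A_sq h] at h1
      obtain ⟨h2, h3⟩ := A_eq_one h h1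
      exact (mem_T h _).2 ⟨a, b, rfl, h2, h3⟩
  have hTU : Tk ≤ U := fun g hg => ((hmemT g).1 hg).1
  have hNT : Subgroup.normalizer (U : Set G) ≤ Subgroup.normalizer (Tk : Set G) := by
    intro g hg
    apply Subgroup.mem_normalizer_fintype
    intro t ht
    rw [SetLike.mem_coe, hmemT] at ht ⊢
    refine ⟨((Subgroup.mem_normalizer_iff.1 hg) t).1 ht.1, ?_⟩
    calc g * t * g⁻¹ * (g * t * g⁻¹) = g * (t * t) * g⁻¹ := by group
      _ = 1 := by rw [ht.2]; group
  have hK4 : IsKleinFour ↥Tk :=
    isKleinFour_of_mulEquiv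
      (Subgroup.equivMapOfInjective (T n x y) (S : Subgroup G).subtype
        (S : Subgroup G).subtype_injective) (isKleinFour_T h)
  have h1 : (Subgroup.centralizer (Tk : Set G)).relIndex (Subgroup.normalizer (U : Set G)) ∣ 6 :=
    (Cfsg.Agent.Lead.QD.relIndex_centralizer_dvd Tk _ hNT).trans
      (Cfsg.Agent.S0992.card_mulAut_dvd_six ↥Tk)
  set N := Subgroup.normalizer (U : Set G) with hN
  set C := Subgroup.centralizer (U : Set G) with hC
  set C₁ := Subgroup.centralizer (Tk : Set G) ⊓ N with hC₁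
  have hCC₁ : C ≤ C₁ :=
    le_inf (Subgroup.centralizer_le hTU) (Subgroup.centralizer_le_normalizer _)
  have h2 := Subgroup.relIndex_mul_relIndex C C₁ N hCC₁ inf_le_right
  have h3 : C₁.relIndex N ∣ 6 := by
    rw [hC₁, Subgroup.inf_relIndex_right]; exact h1
  have hNnorm : N ≤ Subgroup.normalizer (C : Set G) := by
    have : (C.subgroupOf N).Normal := Subgroup.normal_subgroupOf_centralizer_normalizer _
    exact (Subgroup.normal_subgroupOf_iff_le_normalizer
      (Subgroup.centralizer_le_normalizer _)).1 this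
  haveI : (C.subgroupOf C₁).Normal :=
    Subgroup.normal_subgroupOf_of_le_normalizer (inf_le_right.trans hNnorm)
  obtain ⟨k, hk⟩ := exists_relIndex_eq_two_pow C C₁ (by
    intro g hg hodd
    have hgN : g ∈ N := hg.2
    have hgT : g ∈ Subgroup.centralizer (Tk : Set G) := hg.1
    have hα : (orderOf (MulAut.conj g)).Coprime 2 :=
      Nat.Coprime.coprime_dvd_left (orderOf_map_dvd (MulAut.conj : G →* MulAut G) g) hodd
    have hfix := fixes_abelian' (MulAut.conj g) hα U
      (fun u hu => two_elt_of_mem S u (hUS hu))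
      (fun a ha b hb => congrArg Subtype.val (hUab.is_comm.comm ⟨a, ha⟩ ⟨b, hb⟩))
      (fun u hu => by
        rw [MulAut.conj_apply]
        exact ((Subgroup.mem_normalizer_iff.1 hgN) u).1 hu)
      (fun u hu huu => by
        rw [MulAut.conj_apply]
        have := (Subgroup.mem_centralizer_iff.1 hgT) u ((hmemT u).2 ⟨hu, huu⟩)
        rw [← this]; group)
    rw [hC, Subgroup.mem_centralizer_iff]
    intro u hu
    have := hfix u hu
    rw [MulAut.conj_apply] at this
    calc u * g = (g * u * g⁻¹) * g := by rw [this]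
      _ = g * u := by group)
  refine ⟨k, ?_⟩
  rw [← h2, hk]
  exact Nat.mul_dvd_mul_left _ h3

include hUS hU₀ in
/-- **the index `|N(U) : C(U)|` is two or six** -/
theorem U_index (hUab : IsMulCommutative U) (hScard : Nat.card S = 2 ^ (2 * n + 1))
    (hUcard : Nat.card U = 2 ^ (2 * n)) :
    (Subgroup.centralizer (U : Set G)).relIndex (Subgroup.normalizer (U : Set G)) = 2 ∨
      (Subgroup.centralizer (U : Set G)).relIndex (Subgroup.normalizer (U : Set G)) = 6 := by
  obtain ⟨k, hk⟩ := U_dvd S h U hUS hU₀ hUab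
  exact two_or_six hk (two_dvd_U S h U hUS hU₀) (not_four_dvd_U S (2 * n) hScard U hUab hUcard)

end U

end Cfsg.Agent.H2.WrAmb
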