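import Mathlib
import Cfsg.Agent.H2.WrAmb3

/-!
# Wreathed Sylow 2-subgroups: the index `|N(V) : V C(V)|` for `V = Q Z(S)` (helper2)
-/

set_option autoImplicit false
set_option linter.style.haveILetI false
set_option linter.unusedSectionVars false
set_option linter.unusedVariables false

namespace Cfsg.Agent.H2.WrAmb

open Cfsg.Agent.Lead.QD (P c d)
open Cfsg.Agent.Lead.Wr
open Cfsg.Agent.H2.WrSC

variable {G : Type*} [Group G] [Finite G]

/-- the centre of the Sylow subgroup, in the ambient group -/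
def Zc (S : Sylow 2 G) : Subgroup G :=
  (Subgroup.center ↥(S : Subgroup G)).map (S : Subgroup G).subtype

theorem Zc_le (S : Sylow 2 G) : Zc S ≤ (S : Subgroup G) := by
  rintro _ ⟨t, -, rfl⟩
  exact t.2

theorem Zc_subgroupOf (S : Sylow 2 G) :
    (Zc S).subgroupOf (S : Subgroup G) = Subgroup.center ↥(S : Subgroup G) := by
  unfold Zc Subgroup.subgroupOf
  exact Subgroup.comap_map_eq_self_of_injective (S : Subgroup G).subtype_injective _

theorem coe_mem_Zc (S : Sylow 2 G) (t : ↥(S : Subgroup G)) :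
    (t : G) ∈ Zc S ↔ t ∈ Subgroup.center ↥(S : Subgroup G) := by
  rw [← Zc_subgroupOf S, Subgroup.mem_subgroupOf]

theorem Zc_le_centralizer (S : Sylow 2 G) (H : Subgroup G) (hH : H ≤ (S : Subgroup G)) :
    Zc S ≤ Subgroup.centralizer (H : Set G) := by
  rintro _ ⟨t, ht, rfl⟩
  rw [Subgroup.mem_centralizer_iff]
  intro g hg
  have := Subgroup.mem_center_iff.1 ht ⟨g, hH hg⟩
  exact congrArg Subtype.val this

section V

variable (S : Sylow 2 G) {n : ℕ} {x y z : ↥(S : Subgroup G)} (h : WDat n x y z)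
  (V : Subgroup G) (hVS : V ≤ (S : Subgroup G)) (σ : ZMod (2 ^ n))
  (hV₀ : V.subgroupOf (S : Subgroup G) = Wsub h σ)

include hV₀ in
theorem coe_mem_V (t : ↥(S : Subgroup G)) : (t : G) ∈ V ↔ t ∈ Wsub h σ := by
  rw [← hV₀, Subgroup.mem_subgroupOf]

include hV₀ in
theorem Zc_le_V : Zc S ≤ V := by
  rintro _ ⟨t, ht, rfl⟩
  exact (coe_mem_V S h V σ hV₀ t).2 (center_le_Wsub h σ ht)

include hVS hV₀ in
theorem mem_Zc_iff (s : G) :
    s ∈ Zc S ↔ s ∈ V ∧ s ∈ Subgroup.centralizer (V : Set G) := by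
  constructor
  · intro hs
    exact ⟨Zc_le_V S h V σ hV₀ hs, Zc_le_centralizer S V hVS hs⟩
  · rintro ⟨hsV, hsC⟩
    have h1 : (⟨s, hVS hsV⟩ : ↥(S : Subgroup G)) ∈
        Subgroup.centralizer ((V.subgroupOf (S : Subgroup G) : Subgroup ↥(S : Subgroup G)) :
          Set ↥(S : Subgroup G)) := by
      rw [mem_centralizer_subgroupOf _ _ hVS]; exact hsC
    rw [hV₀, centralizer_W h (Wsub h σ) σ (coe_Wsub h σ)] at h1
    exact (coe_mem_Zc S ⟨s, hVS hsV⟩).2 h1

include hVS hV₀ in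
/-- the index is even -/
theorem two_dvd_V :
    2 ∣ (V ⊔ Subgroup.centralizer (V : Set G)).relIndex (Subgroup.normalizer (V : Set G)) := by
  have hn := h.hn
  haveI := Cfsg.Agent.Lead.QD.sup_centralizer_normal V
  apply Cfsg.Agent.Lead.QD.two_dvd_relIndex_of _ _ ((A n x y (d n) 0 : ↥(S : Subgroup G)) : G)
  · rw [← mem_normalizer_subgroupOf _ _ hVS, hV₀]
    exact Ad_mem_normalizer h σ
  · apply (le_sup_left : V ≤ V ⊔ Subgroup.centralizer (V : Set G))
    have := (coe_mem_V S h V σ hV₀ _).2 (Ad_sq_mem h σ)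
    simpa using this
  · intro hcon
    obtain ⟨v, hv, c', hc', he⟩ := Cfsg.Agent.Lead.QD.mem_sup_centralizer V _ hcon
    have hc'S : c' ∈ (S : Subgroup G) := by
      have : c' = v⁻¹ * ((A n x y (d n) 0 : ↥(S : Subgroup G)) : G) := by rw [he]; group
      rw [this]
      exact Subgroup.mul_mem _ (Subgroup.inv_mem _ (hVS hv)) (A n x y (d n) 0).2
    have h1 : (⟨c', hc'S⟩ : ↥(S : Subgroup G)) ∈
        Subgroup.centralizer ((V.subgroupOf (S : Subgroup G) : Subgroup ↥(S : Subgroup G)) :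
          Set ↥(S : Subgroup G)) := by
      rw [mem_centralizer_subgroupOf _ _ hVS]; exact hc'
    rw [hV₀, centralizer_W h (Wsub h σ) σ (coe_Wsub h σ)] at h1
    have h2 : c' ∈ V := (coe_mem_V S h V σ hV₀ ⟨c', hc'S⟩).2 (center_le_Wsub h σ h1)
    have h3 : ((A n x y (d n) 0 : ↥(S : Subgroup G)) : G) ∈ V := by
      rw [he]; exact V.mul_mem hv h2
    exact Ad_not_mem h σ ((coe_mem_V S h V σ hV₀ _).1 h3)

include hVS hV₀ in
/-- the index is not divisible by four, given the normalizers in the Sylow subgroups -/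
theorem not_four_dvd_V
    (hsyl : ∀ S' : Sylow 2 G, V ≤ (S' : Subgroup G) →
      V.relIndex (Subgroup.normalizer (V : Set G) ⊓ (S' : Subgroup G)) = 2) :
    ¬ 4 ∣ (V ⊔ Subgroup.centralizer (V : Set G)).relIndex (Subgroup.normalizer (V : Set G)) := by
  intro h4
  haveI : Fact (Nat.Prime 2) := ⟨Nat.prime_two⟩
  set N := Subgroup.normalizer (V : Set G) with hN
  set K := V ⊔ Subgroup.centralizer (V : Set G) with hK
  have hKN : K ≤ N := sup_le Subgroup.le_normalizer (Subgroup.centralizer_le_normalizer _)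
  have hVp : IsPGroup 2 ↥V := S.isPGroup'.to_le hVS
  have hVNp : IsPGroup 2 ↥(V.subgroupOf N) :=
    hVp.of_equiv (Subgroup.subgroupOfEquivOfLe (Subgroup.le_normalizer : V ≤ N)).symm
  obtain ⟨R, hR⟩ := hVNp.exists_le_sylow
  set R' : Subgroup G := (R : Subgroup ↥N).map N.subtype with hR'
  have hR'p : IsPGroup 2 ↥R' :=
    R.isPGroup'.of_equiv (Subgroup.equivMapOfInjective _ N.subtype N.subtype_injective)
  obtain ⟨S', hS'⟩ := hR'p.exists_le_sylow
  have hVR' : V ≤ R' := by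
    intro v hv
    refine ⟨⟨v, Subgroup.le_normalizer hv⟩, hR ?_, rfl⟩
    rw [Subgroup.mem_subgroupOf]; exact hv
  have hR'N : R' ≤ N := by
    rintro _ ⟨t, -, rfl⟩
    exact t.2
  have h2 := hsyl S' (hVR'.trans hS')
  have h3 := Subgroup.relIndex_mul_relIndex V R' (N ⊓ (S' : Subgroup G)) hVR' (le_inf hR'N hS')
  rw [h2] at h3
  have h5 : Nat.card ↥R' ∣ Nat.card ↥V * 2 := by
    rw [← card_mul_relIndex hVR']
    exact Nat.mul_dvd_mul_left _ (Dvd.intro _ h3)
  have h6 : Nat.card ↥R' = Nat.card ↥(R : Subgroup ↥N) :=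
    (Nat.card_congr (Subgroup.equivMapOfInjective _ N.subtype N.subtype_injective).toEquiv).symm
  have h7 : Nat.card ↥(R : Subgroup ↥N) * (R : Subgroup ↥N).index = Nat.card ↥N :=
    (R : Subgroup ↥N).card_mul_index
  have h8 : ¬ 2 ∣ (R : Subgroup ↥N).index := R.not_dvd_index
  obtain ⟨j, hj⟩ := IsPGroup.iff_card.mp hVp
  have h9 : Nat.card ↥V * 4 ∣ Nat.card ↥N := by
    rw [← card_mul_relIndex hKN]
    exact Nat.mul_dvd_mul (Subgroup.card_dvd_of_le le_sup_left) h4
  rw [← h7, hj] at h9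
  have h10 : (2 ^ j * 4).Coprime (R : Subgroup ↥N).index := by
    have : 2 ^ j * 4 = 2 ^ (j + 2) := by ring
    rw [this]
    apply Nat.Coprime.pow_left
    rw [Nat.Prime.coprime_iff_not_dvd Nat.prime_two]
    exact h8
  have h11 := h10.dvd_of_dvd_mul_right h9
  rw [← h6] at h11
  have h12 := h11.trans h5
  rw [hj] at h12
  have h13 : 2 ^ (j + 2) ∣ 2 ^ (j + 1) := by
    have e1 : 2 ^ j * 4 = 2 ^ (j + 2) := by ring
    have e2 : 2 ^ j * 2 = 2 ^ (j + 1) := by ring
    rwa [e1, e2] at h12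
  have := (Nat.pow_dvd_pow_iff_le_right (by norm_num : 1 < 2)).1 h13
  omega

end V

end Cfsg.Agent.H2.WrAmb
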