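import Mathlib
import Cfsg.Agent.H2.WrAmb4

/-!
# Wreathed Sylow 2-subgroups: the odd part of `|N(V) : V C(V)|` divides three (helper2)
-/

set_option autoImplicit false
set_option linter.style.haveILetI false
set_option linter.unusedSectionVars false
set_option linter.unusedVariables false

namespace Cfsg.Agent.H2.WrAmb

open Cfsg.Agent.Lead.QD (P c d)
open Cfsg.Agent.Lead.Wr
open Cfsg.Agent.H2.WrSC

variable {G : Type*} [Group G] [Finite G]

section general

variable {X : Type*} [Group X]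

theorem conj_mul_conj (φ : MulAut X) (v : X) :
    φ * MulAut.conj v * φ⁻¹ = MulAut.conj (φ v) := by
  ext w
  simp [MulAut.conj_apply]

theorem range_conj_normal : (MulAut.conj : X →* MulAut X).range.Normal := ⟨by
  rintro _ ⟨v, rfl⟩ φ
  exact ⟨φ v, (conj_mul_conj φ v).symm⟩⟩

theorem isKleinFour_of_card_of_sq (hc : Nat.card X = 4) (hsq : ∀ g : X, g ^ 2 = 1) :
    IsKleinFour X where
  card_four := hc
  exponent_two := by
    have h1 : Monoid.exponent X ∣ 2 := Monoid.exponent_dvd_of_forall_pow_eq_one hsq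
    rcases (Nat.dvd_prime Nat.prime_two).1 h1 with h2 | h2
    · exfalso
      rw [Monoid.exp_eq_one_iff] at h2
      have := Nat.card_eq_one_iff_unique.2 ⟨h2, ⟨1⟩⟩
      omega
    · exact h2

end general

section V

variable (S : Sylow 2 G) {n : ℕ} {x y z : ↥(S : Subgroup G)} (h : WDat n x y z)
  (V : Subgroup G) (hVS : V ≤ (S : Subgroup G)) (σ : ZMod (2 ^ n))
  (hV₀ : V.subgroupOf (S : Subgroup G) = Wsub h σ)

include hVS hV₀ in
/-- the kernel of the conjugation action of `V` on itself is `Z(S)` -/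
theorem conj_eq_one_iff (v : ↥V) : (MulAut.conj v : MulAut ↥V) = 1 ↔ (v : G) ∈ Zc S := by
  rw [mem_Zc_iff S h V hVS σ hV₀]
  constructor
  · intro hv
    refine ⟨v.2, ?_⟩
    rw [Subgroup.mem_centralizer_iff]
    intro w hw
    have := DFunLike.congr_fun hv ⟨w, hw⟩
    rw [MulAut.conj_apply, MulAut.one_apply] at this
    have h2 : (v : G) * w * (v : G)⁻¹ = w := by simpa using congrArg Subtype.val this
    calc w * v = ((v : G) * w * (v : G)⁻¹) * v := by rw [h2]
      _ = v * w := by group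
  · rintro ⟨-, hvC⟩
    ext w
    rw [Subgroup.mem_centralizer_iff] at hvC
    have := hvC w w.2
    rw [MulAut.conj_apply, MulAut.one_apply]
    simp only [Subgroup.coe_mul, Subgroup.coe_inv]
    rw [← this]; group

include hVS hV₀ in
/-- squares of elements of `V` are in `Z(S)` -/
theorem sq_mem_Zc (v : G) (hv : v ∈ V) : v * v ∈ Zc S := by
  have h1 : (⟨v, hVS hv⟩ : ↥(S : Subgroup G)) ∈ Wsub h σ := (coe_mem_V S h V σ hV₀ _).1 hv
  have h2 := sq_mem_center h σ _ h1
  exact (coe_mem_Zc S _).2 h2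

include hVS hV₀ in
/-- the group of inner automorphisms of `V` is a four-group -/
theorem isKleinFour_inn : IsKleinFour ↥(MulAut.conj : ↥V →* MulAut ↥V).range := by
  apply isKleinFour_of_card_of_sq
  · rw [← Subgroup.index_ker]
    have hker : (MulAut.conj : ↥V →* MulAut ↥V).ker = (Zc S).subgroupOf V := by
      ext v
      rw [MonoidHom.mem_ker, conj_eq_one_iff S h V hVS σ hV₀, Subgroup.mem_subgroupOf]
    rw [hker]
    change (Zc S).relIndex V = 4
    rw [← Subgroup.relIndex_subgroupOf hVS, Zc_subgroupOf, hV₀]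
    exact relIndex_center_W h σ
  · rintro ⟨_, v, rfl⟩
    apply Subtype.ext
    rw [Subgroup.coe_pow, ← map_pow, Subgroup.coe_one, conj_eq_one_iff S h V hVS σ hV₀, pow_two]
    exact sq_mem_Zc S h V hVS σ hV₀ _ v.2

include hVS hV₀ in
/-- conjugation by elements of the normalizer maps `Z(S)` to itself -/
theorem conj_mem_Zc (g : G) (hg : g ∈ Subgroup.normalizer (V : Set G)) (s : G) (hs : s ∈ Zc S) :
    g * s * g⁻¹ ∈ Zc S := by
  rw [mem_Zc_iff S h V hVS σ hV₀] at hs ⊢
  obtain ⟨hsV, hsC⟩ := hs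
  refine ⟨((Subgroup.mem_normalizer_iff.1 hg) s).1 hsV, ?_⟩
  rw [Subgroup.mem_centralizer_iff] at hsC ⊢
  intro v hv
  have hv' : g⁻¹ * v * g ∈ V := by
    have := ((Subgroup.mem_normalizer_iff.1 (Subgroup.inv_mem _ hg)) v).1 hv
    simpa using this
  have := hsC _ hv'
  calc v * (g * s * g⁻¹) = g * ((g⁻¹ * v * g) * s) * g⁻¹ := by group
    _ = g * (s * (g⁻¹ * v * g)) * g⁻¹ := by rw [this]
    _ = g * s * g⁻¹ * v := by group

include hVS hV₀ in
/-- elements of odd order of the normalizer centralize `Z(S)` -/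
theorem odd_fixes_Zc (g : G) (hg : g ∈ Subgroup.normalizer (V : Set G))
    (hodd : (orderOf g).Coprime 2) : ∀ s ∈ Zc S, MulAut.conj g s = s := by
  have hn := h.hn
  have hα : (orderOf (MulAut.conj g)).Coprime 2 :=
    Nat.Coprime.coprime_dvd_left (orderOf_map_dvd (MulAut.conj : G →* MulAut G) g) hodd
  apply fixes_abelian' (MulAut.conj g) hα (Zc S)
  · intro s hs
    exact two_elt_of_mem S s (Zc_le S hs)
  · intro a ha b hb
    have := Zc_le_centralizer S (Zc S) (Zc_le S) hb
    rw [Subgroup.mem_centralizer_iff] at this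
    exact this a ha
  · intro s hs
    rw [MulAut.conj_apply]
    exact conj_mem_Zc S h V hVS σ hV₀ g hg s hs
  · intro s hs hss
    rw [MulAut.conj_apply]
    by_cases hs1 : s = 1
    · rw [hs1]; group
    · have key : ∀ s' ∈ Zc S, s' * s' = 1 → s' ≠ 1 →
          s' = ((A n x y (c n) (c n) : ↥(S : Subgroup G)) : G) := by
        rintro _ ⟨t, ht, rfl⟩ h1 h2
        have h3 : t * t = 1 := Subtype.ext (by simpa using h1)
        have h4 : t ≠ 1 := by
          rintro rfl
          exact h2 rfl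
        rw [center_invol h t ht h3 h4]
        rfl
      rw [key s hs hss hs1]
      have h5 := conj_mem_Zc S h V hVS σ hV₀ g hg s hs
      have h6 : (g * s * g⁻¹) * (g * s * g⁻¹) = 1 := by
        calc (g * s * g⁻¹) * (g * s * g⁻¹) = g * (s * s) * g⁻¹ := by group
          _ = 1 := by rw [hss]; group
      have h7 : g * s * g⁻¹ ≠ 1 := by
        intro h8
        apply hs1
        calc s = g⁻¹ * (g * s * g⁻¹) * g := by group
          _ = 1 := by rw [h8]; group
      rw [← key s hs hss hs1]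
      rw [key _ h5 h6 h7, ← key s hs hss hs1]

include hVS hV₀ in
/-- up to a power of two, the index divides six -/
theorem V_dvd :
    ∃ k : ℕ, (V ⊔ Subgroup.centralizer (V : Set G)).relIndex (Subgroup.normalizer (V : Set G))
      ∣ 2 ^ k * 6 := by
  have hn := h.hn
  set N := Subgroup.normalizer (V : Set G) with hN
  set K := V ⊔ Subgroup.centralizer (V : Set G) with hK
  haveI hInorm : (MulAut.conj : ↥V →* MulAut ↥V).range.Normal := range_conj_normal
  haveI hK4 : IsKleinFour ↥(MulAut.conj : ↥V →* MulAut ↥V).range := isKleinFour_inn S h V hVS σ hV₀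
  let ψ : ↥N →* MulAut ↥V := Subgroup.normalizerMonoidHom V
  let ρ : ↥N →* MulAut ↥(MulAut.conj : ↥V →* MulAut ↥V).range :=
    (MulAut.conjNormal (H := (MulAut.conj : ↥V →* MulAut ↥V).range)).comp ψ
  set K₁ : Subgroup ↥N := ρ.ker with hK₁
  have h1 : K₁.index ∣ 6 := by
    rw [hK₁, Subgroup.index_ker]
    exact (Subgroup.card_subgroup_dvd_card _).trans (Cfsg.Agent.S0992.card_mulAut_dvd_six _)
  set Kn : Subgroup ↥N := K.subgroupOf N with hKn
  haveI hKnn : Kn.Normal := Cfsg.Agent.Lead.QD.sup_centralizer_normal V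
  have h2 : Kn.index ∣ (Kn ⊓ K₁).index := Subgroup.index_dvd_of_le inf_le_left
  have h3 : (Kn ⊓ K₁).relIndex K₁ * K₁.index = (Kn ⊓ K₁).index :=
    Subgroup.relIndex_mul_index inf_le_right
  rw [Subgroup.inf_relIndex_right] at h3
  obtain ⟨k, hk⟩ := exists_relIndex_eq_two_pow Kn K₁ (by
    intro g hg hodd
    rw [hKn, Subgroup.mem_subgroupOf]
    apply (le_sup_right : Subgroup.centralizer (V : Set G) ≤ K)
    have hgN : (g : G) ∈ N := g.2
    have hodd' : (orderOf (g : G)).Coprime 2 := by rwa [Subgroup.orderOf_coe]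
    have hα : (orderOf (MulAut.conj (g : G))).Coprime 2 :=
      Nat.Coprime.coprime_dvd_left (orderOf_map_dvd (MulAut.conj : G →* MulAut G) (g : G)) hodd'
    have hρ : ρ g = 1 := MonoidHom.mem_ker.1 hg
    have key : ∀ v : ↥V, (MulAut.conj (ψ g v) : MulAut ↥V) = MulAut.conj v := by
      intro v
      have h4 := DFunLike.congr_fun hρ ⟨MulAut.conj v, v, rfl⟩
      have h5 := congrArg Subtype.val h4
      rw [MulAut.one_apply] at h5
      change ((MulAut.conjNormal (ψ g) ⟨MulAut.conj v, v, rfl⟩ :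
        ↥(MulAut.conj : ↥V →* MulAut ↥V).range) : MulAut ↥V) = MulAut.conj v at h5
      rw [MulAut.conjNormal_apply, conj_mul_conj] at h5
      exact h5
    have hmod : ∀ v ∈ V, v⁻¹ * MulAut.conj (g : G) v ∈ Zc S := by
      intro v hv
      have h4 : (MulAut.conj ((⟨v, hv⟩ : ↥V)⁻¹ * ψ g ⟨v, hv⟩) : MulAut ↥V) = 1 := by
        rw [map_mul, key, map_inv, inv_mul_cancel]
      rw [conj_eq_one_iff S h V hVS σ hV₀] at h4
      exact h4
    have hZ := odd_fixes_Zc S h V hVS σ hV₀ (g : G) hgN hodd'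
    rw [Subgroup.mem_centralizer_iff]
    intro v hv
    have := fixes_of_fixes_mod' (MulAut.conj (g : G)) hα (Zc S)
      (fun s hs => two_elt_of_mem S s (Zc_le S hs)) hZ v (hmod v hv)
    rw [MulAut.conj_apply] at this
    calc v * (g : G) = ((g : G) * v * (g : G)⁻¹) * g := by rw [this]
      _ = g * v := by group)
  refine ⟨k, ?_⟩
  change Kn.index ∣ 2 ^ k * 6
  rw [hk] at h3
  rw [← h3] at h2
  exact h2.trans (Nat.mul_dvd_mul_left _ h1)

include hVS hV₀ in
/-- **the index `|N(V) : V C(V)|` is two or six** -/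
theorem V_index
    (hsyl : ∀ S' : Sylow 2 G, V ≤ (S' : Subgroup G) →
      V.relIndex (Subgroup.normalizer (V : Set G) ⊓ (S' : Subgroup G)) = 2) :
    (V ⊔ Subgroup.centralizer (V : Set G)).relIndex (Subgroup.normalizer (V : Set G)) = 2 ∨
      (V ⊔ Subgroup.centralizer (V : Set G)).relIndex (Subgroup.normalizer (V : Set G)) = 6 := by
  obtain ⟨k, hk⟩ := V_dvd S h V hVS σ hV₀
  exact two_or_six hk (two_dvd_V S h V hVS σ hV₀) (not_four_dvd_V S h V hVS σ hV₀ hsyl)

end V

end Cfsg.Agent.H2.WrAmb
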