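import Mathlib
import Cfsg.Agent.H2.WrAmb5

/-!
# Wreathed Sylow 2-subgroups: the two local indices (helper2)
-/

set_option autoImplicit false
set_option linter.style.haveILetI false
set_option linter.unusedSectionVars false
set_option linter.unusedVariables false

namespace Cfsg.Agent.H2.WrAmb

open Cfsg.Agent.Lead.QD (P c d)
open Cfsg.Agent.Lead.Wr
open Cfsg.Agent.H2.WrSC

variable {G : Type*} [Group G] [Finite G]

theorem isWreathed_of_mulEquiv {A B : Type*} [Group A] [Group B] (e : A ≃* B)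
    (hA : Cfsg.IsWreathed A) : Cfsg.IsWreathed B := by
  obtain ⟨n, hn, hcard, x, y, z, hx, hxy, hdis, hz, hzx⟩ := hA
  refine ⟨n, hn, by rw [← Nat.card_congr e.toEquiv]; exact hcard, e x, e y, e z, ?_, ?_, ?_, ?_, ?_⟩
  · rw [MulEquiv.orderOf_eq]; exact hx
  · rw [← map_mul, ← map_mul, hxy]
  · have h1 : Subgroup.zpowers (e x) = (Subgroup.zpowers x).map e.toMonoidHom := by
      rw [MonoidHom.map_zpowers]; rfl
    have h2 : Subgroup.zpowers (e y) = (Subgroup.zpowers y).map e.toMonoidHom := by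
      rw [MonoidHom.map_zpowers]; rfl
    rw [h1, h2, ← Subgroup.map_inf _ _ _ e.injective, hdis, Subgroup.map_bot]
  · rw [MulEquiv.orderOf_eq]; exact hz
  · rw [← map_inv, ← map_mul, ← map_mul, hzx]

/-- data with the right `n` -/
theorem exists_dat' {S : Type*} [Group S] [Finite S] (hS : Cfsg.IsWreathed S) (n : ℕ)
    (hn : Nat.card S = 2 ^ (2 * n + 1)) : ∃ x y z : S, WDat n x y z := by
  obtain ⟨n', x, y, z, h⟩ := exists_dat hS
  have hnn : n' = n := by
    have h1 := h.card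
    rw [hn] at h1
    have h2 := Nat.pow_right_injective (le_refl 2) h1
    omega
  subst hnn
  exact ⟨x, y, z, h⟩

/-- in every Sylow 2-subgroup containing `V = Q Z(S)`, the normalizer of `V` has index two -/
theorem relIndex_normalizer_sylow (S : Sylow 2 G) (hS : Cfsg.IsWreathed ↥(S : Subgroup G)) (n : ℕ)
    (hn : Nat.card S = 2 ^ (2 * n + 1)) (Q : Subgroup G) (hQS : Q ≤ (S : Subgroup G))
    (eQ : Q ≃* QuaternionGroup 2) (S' : Sylow 2 G) (hVS' : Q ⊔ Zc S ≤ (S' : Subgroup G)) :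
    (Q ⊔ Zc S).relIndex (Subgroup.normalizer ((Q ⊔ Zc S : Subgroup G) : Set G) ⊓ (S' : Subgroup G))
      = 2 := by
  haveI : Fact (Nat.Prime 2) := ⟨Nat.prime_two⟩
  obtain ⟨x, y, z, h⟩ := exists_dat' hS n hn
  obtain ⟨g, rfl⟩ := MulAction.exists_smul_eq G S S'
  have hS' : Cfsg.IsWreathed ↥((g • S : Sylow 2 G) : Subgroup G) :=
    isWreathed_of_mulEquiv (Sylow.equivSMul S g) hS
  have hn' : Nat.card ↥((g • S : Sylow 2 G) : Subgroup G) = 2 ^ (2 * n + 1) := by
    rw [← Nat.card_congr (Sylow.equivSMul S g).toEquiv]; exact hn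
  obtain ⟨x', y', z', h'⟩ := exists_dat' hS' n hn'
  set S' : Sylow 2 G := g • S with hS'def
  have hQS' : Q ≤ (S' : Subgroup G) := le_sup_left.trans hVS'
  have hZS' : Zc S ≤ (S' : Subgroup G) := le_sup_right.trans hVS'
  set Q' := Q.subgroupOf (S' : Subgroup G) with hQ'
  let e' : Q' ≃* QuaternionGroup 2 := (Subgroup.subgroupOfEquivOfLe hQS').trans eQ
  have hcent := centralizer_quat h' Q' e'
  set Z' := (Zc S).subgroupOf (S' : Subgroup G) with hZ'
  have hZ'le : Z' ≤ Subgroup.center ↥(S' : Subgroup G) := by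
    rw [← hcent]
    intro t ht
    rw [hQ', mem_centralizer_subgroupOf _ _ hQS']
    exact Zc_le_centralizer S Q hQS (Subgroup.mem_subgroupOf.1 ht)
  have hZ'card : Nat.card ↥Z' = 2 ^ n := by
    rw [Nat.card_congr (Subgroup.subgroupOfEquivOfLe hZS').toEquiv]
    unfold Zc
    rw [← Nat.card_congr (Subgroup.equivMapOfInjective _ (S : Subgroup G).subtype
      (S : Subgroup G).subtype_injective).toEquiv]
    exact card_center h
  have hZ'eq : Z' = Subgroup.center ↥(S' : Subgroup G) := by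
    apply Subgroup.eq_of_le_of_card_ge hZ'le
    rw [hZ'card, card_center h']
  obtain ⟨σ', hσ'⟩ := exists_sigma_of_quat h' Q' e'
  have hV₀' : (Q ⊔ Zc S).subgroupOf (S' : Subgroup G) = Wsub h' σ' := by
    rw [Subgroup.subgroupOf_sup hQS' hZS', ← hZ', hZ'eq, ← hQ', hσ']
  have h2 := relIndex_normalizer h' (Wsub h' σ') σ' (coe_Wsub h' σ')
  have e1 : (Subgroup.normalizer ((Q ⊔ Zc S : Subgroup G) : Set G) ⊓ (S' : Subgroup G)).subgroupOf
      (S' : Subgroup G) = Subgroup.normalizer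
        (((Q ⊔ Zc S).subgroupOf (S' : Subgroup G) : Subgroup ↥(S' : Subgroup G)) :
          Set ↥(S' : Subgroup G)) := by
    rw [Subgroup.inf_subgroupOf_right, Subgroup.subgroupOf_normalizer_eq hVS']
  rw [← Subgroup.relIndex_subgroupOf (inf_le_right :
    Subgroup.normalizer ((Q ⊔ Zc S : Subgroup G) : Set G) ⊓ (S' : Subgroup G) ≤ (S' : Subgroup G)),
    e1, hV₀']
  exact h2

/-- the set-up: the data, `U` and `V` in normal form -/
theorem setup (S : Sylow 2 G) (hS : Cfsg.IsWreathed ↥(S : Subgroup G)) (n : ℕ)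
    (hn : Nat.card S = 2 ^ (2 * n + 1)) (U : Subgroup G) (hUS : U ≤ (S : Subgroup G))
    (hUab : IsMulCommutative U) (hUcard : Nat.card U = 2 ^ (2 * n)) (Q : Subgroup G)
    (hQS : Q ≤ (S : Subgroup G)) (eQ : Q ≃* QuaternionGroup 2) :
    ∃ (x y z : ↥(S : Subgroup G)) (h : WDat n x y z) (σ : ZMod (2 ^ n)),
      U.subgroupOf (S : Subgroup G) = Cfsg.Agent.Lead.Wr.U h ∧
      (Q ⊔ Zc S).subgroupOf (S : Subgroup G) = Wsub h σ := by
  obtain ⟨x, y, z, h⟩ := exists_dat' hS n hn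
  have hU₀ : U.subgroupOf (S : Subgroup G) = Cfsg.Agent.Lead.Wr.U h := by
    apply unique_U h
    · refine ⟨⟨fun a b => ?_⟩⟩
      have ha : ((a : ↥(S : Subgroup G)) : G) ∈ U := Subgroup.mem_subgroupOf.1 a.2
      have hb : ((b : ↥(S : Subgroup G)) : G) ∈ U := Subgroup.mem_subgroupOf.1 b.2
      have := congrArg Subtype.val (hUab.is_comm.comm ⟨_, ha⟩ ⟨_, hb⟩)
      exact Subtype.ext (Subtype.ext this)
    · rw [Nat.card_congr (Subgroup.subgroupOfEquivOfLe hUS).toEquiv]; exact hUcard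
  let e₀ : Q.subgroupOf (S : Subgroup G) ≃* QuaternionGroup 2 :=
    (Subgroup.subgroupOfEquivOfLe hQS).trans eQ
  obtain ⟨σ, hσ⟩ := exists_sigma_of_quat h (Q.subgroupOf (S : Subgroup G)) e₀
  refine ⟨x, y, z, h, σ, hU₀, ?_⟩
  rw [Subgroup.subgroupOf_sup hQS (Zc_le S), Zc_subgroupOf, hσ]

/-- **the local indices** -/
theorem local_indices (S : Sylow 2 G) (hS : Cfsg.IsWreathed ↥(S : Subgroup G)) (n : ℕ)
    (hn : Nat.card S = 2 ^ (2 * n + 1)) (U : Subgroup G) (hUS : U ≤ (S : Subgroup G))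
    (hUab : IsMulCommutative U) (hUcard : Nat.card U = 2 ^ (2 * n)) (Q : Subgroup G)
    (hQS : Q ≤ (S : Subgroup G)) (eQ : Q ≃* QuaternionGroup 2) :
    ((Subgroup.centralizer (U : Set G)).relIndex (Subgroup.normalizer (U : Set G)) = 2 ∨
      (Subgroup.centralizer (U : Set G)).relIndex (Subgroup.normalizer (U : Set G)) = 6) ∧
    ((Q ⊔ Zc S ⊔ Subgroup.centralizer ((Q ⊔ Zc S : Subgroup G) : Set G)).relIndex
        (Subgroup.normalizer ((Q ⊔ Zc S : Subgroup G) : Set G)) = 2 ∨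
      (Q ⊔ Zc S ⊔ Subgroup.centralizer ((Q ⊔ Zc S : Subgroup G) : Set G)).relIndex
        (Subgroup.normalizer ((Q ⊔ Zc S : Subgroup G) : Set G)) = 6) := by
  obtain ⟨x, y, z, h, σ, hU₀, hV₀⟩ := setup S hS n hn U hUS hUab hUcard Q hQS eQ
  refine ⟨U_index S h U hUS hU₀ hUab hn hUcard, ?_⟩
  exact V_index S h (Q ⊔ Zc S) (sup_le hQS (Zc_le S)) σ hV₀
    (fun S' hS' => relIndex_normalizer_sylow S hS n hn Q hQS eQ S' hS')

end Cfsg.Agent.H2.WrAmb
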