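import Mathlib
import Cfsg.Agent.H2.WrAmb6
import Cfsg.Agent.Lib.Lead.Frobenius
import Cfsg.Agent.Lib.Lead.QDClasses

/-!
# Wreathed Sylow 2-subgroups: fusion of involutions (helper2)
-/

set_option autoImplicit false
set_option linter.style.haveILetI false
set_option linter.unusedSectionVars false
set_option linter.unusedVariables false

namespace Cfsg.Agent.H2.WrAmb

open Cfsg.Agent.Lead.QD (P c d)
open Cfsg.Agent.Lead.Wr
open Cfsg.Agent.H2.WrSC
open Cfsg.Agent.H9.KleinGeneral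

variable {G : Type*} [Group G] [Finite G]

theorem six_ne_two_pow (k : ℕ) : (6 : ℕ) ≠ 2 ^ k := by
  intro h6
  have h3 : 3 ∣ 2 ^ k := by rw [← h6]; norm_num
  have := Nat.Prime.dvd_of_dvd_pow Nat.prime_three h3
  omega

/-- if the index is six, some element of odd order of `N` lies outside `H` -/
theorem exists_odd_of_six (H N : Subgroup G) [hn : (H.subgroupOf N).Normal]
    (h6 : H.relIndex N = 6) : ∃ θ ∈ N, (orderOf θ).Coprime 2 ∧ θ ∉ H := by
  by_contra hcon
  push Not at hcon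
  obtain ⟨k, hk⟩ := exists_relIndex_eq_two_pow H N hcon
  rw [h6] at hk
  exact six_ne_two_pow k hk

/-- commutators lie in subgroups of index two -/
theorem comm_mem_of_index_two (M : Subgroup G) (hM : M.index = 2) (g u : G) :
    g * u * g⁻¹ * u⁻¹ ∈ M := by
  have h1 := Subgroup.mul_mem_iff_of_index_two hM (a := g * u * g⁻¹) (b := u⁻¹)
  have h2 := Subgroup.mul_mem_iff_of_index_two hM (a := g * u) (b := g⁻¹)
  have h3 := Subgroup.mul_mem_iff_of_index_two hM (a := g) (b := u)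
  rw [h1, h2, h3, M.inv_mem_iff, M.inv_mem_iff]
  tauto

/-- a nontrivial 2-element has a power which is an involution -/
theorem exists_pow_invol (w : G) (hw : ∃ j : ℕ, w ^ 2 ^ j = 1) (hw1 : w ≠ 1) :
    ∃ e : ℕ, w ^ e ≠ 1 ∧ (w ^ e) * (w ^ e) = 1 := by
  obtain ⟨j, hj⟩ := hw
  obtain ⟨k, hk, hkk⟩ := (Nat.dvd_prime_pow Nat.prime_two).1 (orderOf_dvd_of_pow_eq_one hj)
  have hk0 : k ≠ 0 := by
    rintro rfl
    rw [pow_zero, orderOf_eq_one_iff] at hkk
    exact hw1 hkk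
  refine ⟨2 ^ (k - 1), ?_, ?_⟩
  · apply pow_ne_one_of_lt_orderOf (by positivity)
    rw [hkk]
    exact Nat.pow_lt_pow_right (by norm_num) (by omega)
  · rw [← pow_add, ← two_mul, ← pow_succ']
    have : k - 1 + 1 = k := by omega
    rw [this, ← hkk, pow_orderOf_eq_one]

section U

variable (S : Sylow 2 G) {n : ℕ} {x y z : ↥(S : Subgroup G)} (h : WDat n x y z)
  (U : Subgroup G) (hUS : U ≤ (S : Subgroup G))
  (hU₀ : U.subgroupOf (S : Subgroup G) = Cfsg.Agent.Lead.Wr.U h)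

/-- the four-group `Ω₁(U)` in the ambient group -/
def Tk (S : Sylow 2 G) (n : ℕ) (x y : ↥(S : Subgroup G)) : Subgroup G :=
  (T n x y).map (S : Subgroup G).subtype

include hUS hU₀ in
theorem mem_Tk_iff (g : G) : g ∈ Tk S n x y ↔ g ∈ U ∧ g * g = 1 := by
  constructor
  · rintro ⟨t, ht, rfl⟩
    obtain ⟨i, j, rfl, hi, hj⟩ := (mem_T h t).1 ht
    refine ⟨(mem_U_amb S h U hUS hU₀ _).2 ⟨i, j, rfl⟩, ?_⟩
    have : A n x y i j * A n x y i j = 1 := by
      rw [A_sq h, hi, hj, A_zero]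
    simpa using congrArg Subtype.val this
  · rintro ⟨hg, hgg⟩
    obtain ⟨a, b, rfl⟩ := (mem_U_amb S h U hUS hU₀ g).1 hg
    refine ⟨A n x y a b, ?_, rfl⟩
    have h1 : A n x y a b * A n x y a b = 1 := Subtype.ext (by simpa using hgg)
    rw [A_sq h] at h1
    obtain ⟨h2, h3⟩ := A_eq_one h h1
    exact (mem_T h _).2 ⟨a, b, rfl, h2, h3⟩

include h in
theorem isKleinFour_Tk : IsKleinFour ↥(Tk S n x y) :=
  isKleinFour_of_mulEquiv
    (Subgroup.equivMapOfInjective (T n x y) (S : Subgroup G).subtype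
      (S : Subgroup G).subtype_injective) (isKleinFour_T h)

include hUS hU₀ in
theorem conj_mem_Tk (g : G) (hg : g ∈ Subgroup.normalizer (U : Set G)) (t : G)
    (ht : t ∈ Tk S n x y) : g * t * g⁻¹ ∈ Tk S n x y := by
  rw [mem_Tk_iff S h U hUS hU₀] at ht ⊢
  refine ⟨((Subgroup.mem_normalizer_iff.1 hg) t).1 ht.1, ?_⟩
  calc g * t * g⁻¹ * (g * t * g⁻¹) = g * (t * t) * g⁻¹ := by group
    _ = 1 := by rw [ht.2]; group

include hUS hU₀ in
/-- an element of odd order of `N(U)` fixing an involution of `U` centralizes `U` -/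
theorem odd_fix_invol (hUab : IsMulCommutative U) (θ : G)
    (hθ : θ ∈ Subgroup.normalizer (U : Set G)) (hodd : (orderOf θ).Coprime 2)
    (t : G) (htU : t ∈ U) (htt : t * t = 1) (ht1 : t ≠ 1) (hfix : θ * t * θ⁻¹ = t) :
    θ ∈ Subgroup.centralizer (U : Set G) := by
  have hα : (orderOf (MulAut.conj θ)).Coprime 2 :=
    Nat.Coprime.coprime_dvd_left (orderOf_map_dvd (MulAut.conj : G →* MulAut G) θ) hodd
  haveI hK4 : IsKleinFour ↥(Tk S n x y) := isKleinFour_Tk S h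
  have htT : t ∈ Tk S n x y := (mem_Tk_iff S h U hUS hU₀ t).2 ⟨htU, htt⟩
  have hinj : ∀ a b : G, θ * a * θ⁻¹ = θ * b * θ⁻¹ → a = b := by
    intro a b hab
    have : θ⁻¹ * (θ * a * θ⁻¹) * θ = θ⁻¹ * (θ * b * θ⁻¹) * θ := by rw [hab]
    simpa [mul_assoc] using this
  have hfixT : ∀ i ∈ Tk S n x y, θ * i * θ⁻¹ = i := by
    intro i hi
    by_cases hi1 : i = 1
    · rw [hi1]; group
    by_cases hit : i = t
    · rw [hit]; exact hfix
    obtain ⟨-, hii, hcomm, hmem⟩ := klein_elems (Tk S n x y) t i htT hi ht1 hi1 (Ne.symm hit)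
    have h1 := conj_mem_Tk S h U hUS hU₀ θ hθ i hi
    rcases (hmem _).1 h1 with h2 | h2 | h2 | h2
    · exfalso
      apply hi1
      apply hinj
      rw [h2]; group
    · exfalso
      apply hit
      apply hinj
      rw [h2, hfix]
    · exact h2
    · exfalso
      -- `θ` swaps `i` and `t i`
      have h3 : θ * (t * i) * θ⁻¹ = i := by
        calc θ * (t * i) * θ⁻¹ = (θ * t * θ⁻¹) * (θ * i * θ⁻¹) := by group
          _ = t * (t * i) := by rw [hfix, h2]
          _ = i := by rw [← mul_assoc, htt, one_mul]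
      have h4 := eq_of_swap (MulAut.conj θ) hα (u := i) (v := t * i)
        (by rw [MulAut.conj_apply]; exact h2) (by rw [MulAut.conj_apply]; exact h3)
      apply ht1
      have : t * i = 1 * i := by rw [one_mul]; exact h4.symm
      exact mul_right_cancel this
  have hfixU := fixes_abelian' (MulAut.conj θ) hα U
    (fun u hu => two_elt_of_mem S u (hUS hu))
    (fun a ha b hb => congrArg Subtype.val (hUab.is_comm.comm ⟨a, ha⟩ ⟨b, hb⟩))
    (fun u hu => by
      rw [MulAut.conj_apply]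
      exact ((Subgroup.mem_normalizer_iff.1 hθ) u).1 hu)
    (fun u hu huu => by
      rw [MulAut.conj_apply]
      exact hfixT u ((mem_Tk_iff S h U hUS hU₀ u).2 ⟨hu, huu⟩))
  rw [Subgroup.mem_centralizer_iff]
  intro u hu
  have := hfixU u hu
  rw [MulAut.conj_apply] at this
  calc u * θ = (θ * u * θ⁻¹) * θ := by rw [this]
    _ = θ * u := by group

include hUS hU₀ in
/-- if `|N(U) : C(U)| = 6`, the central involution is fused to `A c 0` -/
theorem fuse_zeta (hUab : IsMulCommutative U)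
    (h₁ : (Subgroup.centralizer (U : Set G)).relIndex (Subgroup.normalizer (U : Set G)) = 6) :
    ∃ g : G, g * ((A n x y (c n) (c n) : ↥(S : Subgroup G)) : G) * g⁻¹
      = ((A n x y (c n) 0 : ↥(S : Subgroup G)) : G) := by
  have hn := h.hn
  obtain ⟨θ, hθ, hodd, hθC⟩ := exists_odd_of_six _ _ h₁
  haveI hK4 : IsKleinFour ↥(Tk S n x y) := isKleinFour_Tk S h
  have hmemA : ∀ i j : ZMod (2 ^ n), 2 * i = 0 → 2 * j = 0 →
      ((A n x y i j : ↥(S : Subgroup G)) : G) ∈ Tk S n x y := fun i j hi hj =>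
    ⟨A n x y i j, (mem_T h _).2 ⟨i, j, rfl, hi, hj⟩, rfl⟩
  have hne1 : ∀ i j : ZMod (2 ^ n), (i ≠ 0 ∨ j ≠ 0) →
      ((A n x y i j : ↥(S : Subgroup G)) : G) ≠ 1 := by
    intro i j hij h1
    have : A n x y i j = 1 := Subtype.ext h1
    exact A_ne_one h hij this
  have hζT := hmemA (c n) (c n) (two_c hn) (two_c hn)
  have ht₁T := hmemA (c n) 0 (two_c hn) (mul_zero _)
  have hζ1 := hne1 (c n) (c n) (Or.inl (c_ne hn))
  have ht₁1 := hne1 (c n) 0 (Or.inl (c_ne hn))
  have hζt₁ : ((A n x y (c n) (c n) : ↥(S : Subgroup G)) : G)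
      ≠ ((A n x y (c n) 0 : ↥(S : Subgroup G)) : G) := by
    intro heq
    have : A n x y (c n) (c n) = A n x y (c n) 0 := Subtype.ext heq
    exact c_ne hn (A_inj h this).2
  obtain ⟨hζζ, -, -, hmem⟩ := klein_elems (Tk S n x y) _ _ hζT ht₁T hζ1 ht₁1 hζt₁
  have hζU := ((mem_Tk_iff S h U hUS hU₀ _).1 hζT).1
  have h1 := conj_mem_Tk S h U hUS hU₀ θ hθ _ hζT
  rcases (hmem _).1 h1 with h2 | h2 | h2 | h2
  · exfalso
    apply hζ1
    have : θ⁻¹ * (θ * ((A n x y (c n) (c n) : ↥(S : Subgroup G)) : G) * θ⁻¹) * θ = 1 := by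
      rw [h2]; group
    simpa [mul_assoc] using this
  · exfalso
    exact hθC (odd_fix_invol S h U hUS hU₀ hUab θ hθ hodd _ hζU hζζ hζ1 h2)
  · exact ⟨θ, h2⟩
  · refine ⟨(z : G) * θ, ?_⟩
    have h3 : z * (A n x y (c n) (c n) * A n x y (c n) 0) * z⁻¹ = A n x y (c n) 0 := by
      rw [A_mul h, conj_A h, c_add_c hn, add_zero]
    have h4 := congrArg Subtype.val h3
    simp only [Subgroup.coe_mul, Subgroup.coe_inv] at h4
    calc (z : G) * θ * ((A n x y (c n) (c n) : ↥(S : Subgroup G)) : G) * ((z : G) * θ)⁻¹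
        = (z : G) * (θ * ((A n x y (c n) (c n) : ↥(S : Subgroup G)) : G) * θ⁻¹) * (z : G)⁻¹ := by
          group
      _ = ((A n x y (c n) 0 : ↥(S : Subgroup G)) : G) := by rw [h2]; exact h4

include hUS hU₀ in
/-- if `|N(U) : C(U)| = 6`, every subgroup of index two contains `U` -/
theorem U_le_of_index_two (hUab : IsMulCommutative U)
    (h₁ : (Subgroup.centralizer (U : Set G)).relIndex (Subgroup.normalizer (U : Set G)) = 6)
    (M : Subgroup G) (hM : M.index = 2) : U ≤ M := by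
  obtain ⟨θ, hθ, hodd, hθC⟩ := exists_odd_of_six _ _ h₁
  have hconjU : ∀ u ∈ U, θ * u * θ⁻¹ ∈ U := fun u hu =>
    ((Subgroup.mem_normalizer_iff.1 hθ) u).1 hu
  have hcomm : ∀ a ∈ U, ∀ b ∈ U, a * b = b * a := fun a ha b hb =>
    congrArg Subtype.val (hUab.is_comm.comm ⟨a, ha⟩ ⟨b, hb⟩)
  -- fixed points are trivial
  have hfp : ∀ w ∈ U, θ * w * θ⁻¹ = w → w = 1 := by
    intro w hw hfix
    by_contra hw1
    obtain ⟨e, he1, hee⟩ := exists_pow_invol w (two_elt_of_mem S w (hUS hw)) hw1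
    apply hθC
    apply odd_fix_invol S h U hUS hU₀ hUab θ hθ hodd (w ^ e) (U.pow_mem hw e) hee he1
    rw [← conj_pow, hfix]
  let δ : ↥U → ↥U := fun u => ⟨θ * u * θ⁻¹ * (u : G)⁻¹, U.mul_mem (hconjU u u.2) (U.inv_mem u.2)⟩
  have hδinj : Function.Injective δ := by
    intro u u' huu
    have h1 : θ * u * θ⁻¹ * (u : G)⁻¹ = θ * u' * θ⁻¹ * (u' : G)⁻¹ := congrArg Subtype.val huu
    have h2 : θ * ((u' : G)⁻¹ * u) * θ⁻¹ = (u' : G)⁻¹ * u := by
      have h3 : θ * ((u' : G)⁻¹ * u) * θ⁻¹ = (θ * u' * θ⁻¹)⁻¹ * (θ * u * θ⁻¹) := by group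
      rw [h3]
      have h4 : θ * u * θ⁻¹ = θ * u' * θ⁻¹ * (u' : G)⁻¹ * u := by
        rw [← h1]; group
      rw [h4]
      group
    have h5 := hfp _ (U.mul_mem (U.inv_mem u'.2) u.2) h2
    apply Subtype.ext
    calc (u : G) = u' * ((u' : G)⁻¹ * u) := by group
      _ = u' := by rw [h5, mul_one]
  have hδsurj : Function.Surjective δ := Finite.injective_iff_surjective.1 hδinj
  intro u hu
  obtain ⟨u', hu'⟩ := hδsurj ⟨u, hu⟩
  have : θ * u' * θ⁻¹ * (u' : G)⁻¹ = u := congrArg Subtype.val hu'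
  rw [← this]
  exact comm_mem_of_index_two M hM θ u'

end U

end Cfsg.Agent.H2.WrAmb
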