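import Mathlib
import Cfsg.Agent.H2.WrFus1

/-!
# Wreathed Sylow 2-subgroups: fusion in `V = Q Z(S)` and the involutions (helper2)
-/

set_option autoImplicit false
set_option linter.style.haveILetI false
set_option linter.unusedSectionVars false
set_option linter.unusedVariables false

namespace Cfsg.Agent.H2.WrAmb

open Cfsg.Agent.Lead.QD (P c d)
open Cfsg.Agent.Lead.Wr
open Cfsg.Agent.H2.WrSC
open Cfsg.Agent.H9.KleinGeneral

variable {G : Type*} [Group G] [Finite G]

section invol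

variable {T : Type*} [Group T] [Finite T] {n : ℕ} {x y z : T}

/-- the involutions of a wreathed group, up to conjugacy -/
theorem invol_S (h : WDat n x y z) (t : T) (ht2 : t * t = 1) (ht1 : t ≠ 1) :
    ∃ s : T, s * t * s⁻¹ = A n x y (c n) (c n) ∨ s * t * s⁻¹ = A n x y (c n) 0 ∨
      s * t * s⁻¹ = z := by
  have hn := h.hn
  rcases mem_cases h t with ⟨a, b, rfl⟩ | ⟨p, q, rfl⟩
  · rw [A_sq h] at ht2
    obtain ⟨h2, h3⟩ := A_eq_one h ht2
    rcases (two_mul_eq_zero hn a).1 h2 with rfl | rfl <;>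
      rcases (two_mul_eq_zero hn b).1 h3 with rfl | rfl
    · exact absurd A_zero ht1
    · exact ⟨z, Or.inr (Or.inl (conj_A h _ _))⟩
    · exact ⟨1, Or.inr (Or.inl (by group))⟩
    · exact ⟨1, Or.inl (by group)⟩
  · rw [zA_sq h] at ht2
    obtain ⟨h2, -⟩ := A_eq_one h ht2
    have hq : q = -p := by linear_combination h2
    subst hq
    refine ⟨A n x y p 0, Or.inr (Or.inr ?_)⟩
    rw [conj_zA_by_A h]
    have e1 : p + 0 - p = (0 : ZMod (2 ^ n)) := by ring
    have e2 : -p + p - 0 = (0 : ZMod (2 ^ n)) := by ring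
    rw [e1, e2, A_zero, mul_one]

end invol

section ambient

variable (S : Sylow 2 G) {n : ℕ} {x y z : ↥(S : Subgroup G)} (h : WDat n x y z)

include h in
/-- every involution of `G` is conjugate to one of three -/
theorem invol_G (t : G) (ht : orderOf t = 2) :
    (∃ g : G, g * t * g⁻¹ = ((A n x y (c n) (c n) : ↥(S : Subgroup G)) : G)) ∨
    (∃ g : G, g * t * g⁻¹ = ((A n x y (c n) 0 : ↥(S : Subgroup G)) : G)) ∨
    (∃ g : G, g * t * g⁻¹ = ((z : ↥(S : Subgroup G)) : G)) := by
  haveI : Fact (Nat.Prime 2) := ⟨Nat.prime_two⟩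
  have hR : IsPGroup 2 ↥(Subgroup.zpowers t) := by
    apply IsPGroup.of_card (n := 1)
    rw [Nat.card_zpowers, ht, pow_one]
  obtain ⟨g, hg⟩ := Cfsg.Agent.Lib.Lead.Frobenius.exists_conj_mem_sylow S hR
  have hgt := hg t (Subgroup.mem_zpowers t)
  have htt : t * t = 1 := by
    have := pow_orderOf_eq_one t
    rwa [ht, pow_two] at this
  have ht1 : t ≠ 1 := by
    rintro rfl
    rw [orderOf_one] at ht
    omega
  have h1 : (⟨g * t * g⁻¹, hgt⟩ : ↥(S : Subgroup G)) * ⟨g * t * g⁻¹, hgt⟩ = 1 := by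
    apply Subtype.ext
    show g * t * g⁻¹ * (g * t * g⁻¹) = 1
    calc g * t * g⁻¹ * (g * t * g⁻¹) = g * (t * t) * g⁻¹ := by group
      _ = 1 := by rw [htt]; group
  have h2 : (⟨g * t * g⁻¹, hgt⟩ : ↥(S : Subgroup G)) ≠ 1 := by
    intro h3
    apply ht1
    have h4 : g * t * g⁻¹ = 1 := congrArg Subtype.val h3
    calc t = g⁻¹ * (g * t * g⁻¹) * g := by group
      _ = 1 := by rw [h4]; group
  obtain ⟨s, hs⟩ := invol_S h _ h1 h2
  have key : ∀ r : ↥(S : Subgroup G), s * ⟨g * t * g⁻¹, hgt⟩ * s⁻¹ = r →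
      ∃ g' : G, g' * t * g'⁻¹ = (r : G) := by
    intro r hr
    refine ⟨(s : G) * g, ?_⟩
    have := congrArg Subtype.val hr
    simp only [Subgroup.coe_mul, Subgroup.coe_inv] at this
    rw [← this]
    group
  rcases hs with hs | hs | hs
  · exact Or.inl (key _ hs)
  · exact Or.inr (Or.inl (key _ hs))
  · exact Or.inr (Or.inr (key _ hs))

end ambient

section V

variable (S : Sylow 2 G) {n : ℕ} {x y z : ↥(S : Subgroup G)} (h : WDat n x y z)
  (V : Subgroup G) (hVS : V ≤ (S : Subgroup G)) (σ : ZMod (2 ^ n))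
  (hV₀ : V.subgroupOf (S : Subgroup G) = Wsub h σ)

include hVS hV₀ in
/-- an element of odd order of `N(V)` fixing `A c 0` centralizes `V` -/
theorem odd_fix_t1 (φ : G) (hφ : φ ∈ Subgroup.normalizer (V : Set G))
    (hodd : (orderOf φ).Coprime 2)
    (hfix : φ * ((A n x y (c n) 0 : ↥(S : Subgroup G)) : G) * φ⁻¹
      = ((A n x y (c n) 0 : ↥(S : Subgroup G)) : G)) :
    φ ∈ Subgroup.centralizer (V : Set G) := by
  have hn := h.hn
  have hα : (orderOf (MulAut.conj φ)).Coprime 2 :=
    Nat.Coprime.coprime_dvd_left (orderOf_map_dvd (MulAut.conj : G →* MulAut G) φ) hodd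
  have hZfix := odd_fixes_Zc S h V hVS σ hV₀ φ hφ hodd
  set Um : Subgroup G := (Cfsg.Agent.Lead.Wr.U h).map (S : Subgroup G).subtype with hUm
  have hUmem : ∀ t : ↥(S : Subgroup G), (t : G) ∈ Um ↔ t ∈ Cfsg.Agent.Lead.Wr.U h := by
    intro t
    constructor
    · rintro ⟨t', ht', he⟩
      have : t' = t := Subtype.ext he
      rwa [← this]
    · intro ht
      exact ⟨t, ht, rfl⟩
  set Y : Subgroup G := V ⊓ Um with hY
  -- `φ` fixes `Y` elementwise
  have hYfix : ∀ g ∈ Y, MulAut.conj φ g = g := by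
    rintro g ⟨hgV, t, ht, rfl⟩
    obtain ⟨a, b, rfl⟩ := ht
    have hab := (A_mem_Wsub h σ a b).1 ((coe_mem_V S h V σ hV₀ _).1 hgV)
    rcases (two_mul_eq_zero hn _).1 hab with h3 | h3
    · have : a = b := sub_eq_zero.1 h3
      subst this
      apply hZfix
      exact (coe_mem_Zc S _).2 ((mem_center_iff h _).2 ⟨a, rfl⟩)
    · have e : A n x y a b = A n x y b b * A n x y (c n) 0 := by
        rw [A_mul h]
        congr 1
        · linear_combination h3
        · ring
      have hb : MulAut.conj φ ((A n x y b b : ↥(S : Subgroup G)) : G) = (A n x y b b : ↥(S : Subgroup G)) := by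
        apply hZfix
        exact (coe_mem_Zc S _).2 ((mem_center_iff h _).2 ⟨b, rfl⟩)
      have hc : MulAut.conj φ ((A n x y (c n) 0 : ↥(S : Subgroup G)) : G)
          = (A n x y (c n) 0 : ↥(S : Subgroup G)) := by
        rw [MulAut.conj_apply]; exact hfix
      show MulAut.conj φ ((S : Subgroup G).subtype (A n x y a b)) = (S : Subgroup G).subtype (A n x y a b)
      rw [e, map_mul, map_mul]
      show MulAut.conj φ ((A n x y b b : ↥(S : Subgroup G)) : G) *
        MulAut.conj φ ((A n x y (c n) 0 : ↥(S : Subgroup G)) : G) = _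
      rw [hb, hc]
      rfl
  have hY2 : ∀ g ∈ Y, ∃ j : ℕ, g ^ 2 ^ j = 1 := fun g hg => two_elt_of_mem S g (hVS hg.1)
  rw [Subgroup.mem_centralizer_iff]
  intro v hv
  have hφv : φ * v * φ⁻¹ ∈ V := ((Subgroup.mem_normalizer_iff.1 hφ) v).1 hv
  have hmod : v⁻¹ * MulAut.conj φ v ∈ Y := by
    rw [MulAut.conj_apply]
    refine ⟨V.mul_mem (V.inv_mem hv) hφv, ?_⟩
    by_cases hvU : v ∈ Um
    · have := hYfix v ⟨hv, hvU⟩
      rw [MulAut.conj_apply] at this
      rw [this, inv_mul_cancel]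
      exact Um.one_mem
    · by_cases hφU : φ * v * φ⁻¹ ∈ Um
      · exfalso
        apply hvU
        have h4 := hYfix _ ⟨hφv, hφU⟩
        rw [MulAut.conj_apply] at h4
        have h5 : φ * v * φ⁻¹ = v := by
          have : φ⁻¹ * (φ * (φ * v * φ⁻¹) * φ⁻¹) * φ = φ⁻¹ * (φ * v * φ⁻¹) * φ := by rw [h4]
          simpa [mul_assoc] using this
        rw [← h5]; exact hφU
      · -- both outside `U`
        have key : ∀ g : G, g ∈ (S : Subgroup G) → g ∉ Um →
            ∃ p q, g = ((z * A n x y p q : ↥(S : Subgroup G)) : G) := by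
          intro g hgS hgU
          rcases mem_cases h (⟨g, hgS⟩ : ↥(S : Subgroup G)) with ⟨a, b, hab⟩ | ⟨p, q, hpq⟩
          · exfalso
            apply hgU
            have := (hUmem ⟨g, hgS⟩).2 (hab ▸ A_mem_U h a b)
            exact this
          · exact ⟨p, q, congrArg Subtype.val hpq⟩
        obtain ⟨p, q, hpq⟩ := key v (hVS hv) hvU
        obtain ⟨p', q', hpq'⟩ := key _ (hVS hφv) hφU
        rw [hpq', hpq]
        have := zA_inv_mul_zA h p q p' q'
        have h6 := congrArg Subtype.val this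
        simp only [Subgroup.coe_mul, Subgroup.coe_inv] at h6
        simp only [Subgroup.coe_mul]
        rw [h6]
        exact (hUmem _).2 (A_mem_U h _ _)
  have := fixes_of_fixes_mod' (MulAut.conj φ) hα Y hY2 hYfix v hmod
  rw [MulAut.conj_apply] at this
  calc v * φ = (φ * v * φ⁻¹) * φ := by rw [this]
    _ = φ * v := by group

include hVS hV₀ in
/-- if `|N(V) : V C(V)| = 6`, the involution `A c 0` is fused to `z` -/
theorem fuse_t1
    (h₂ : (V ⊔ Subgroup.centralizer (V : Set G)).relIndex (Subgroup.normalizer (V : Set G)) = 6) :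
    ∃ g : G, g * ((A n x y (c n) 0 : ↥(S : Subgroup G)) : G) * g⁻¹ = ((z : ↥(S : Subgroup G)) : G) := by
  have hn := h.hn
  haveI := Cfsg.Agent.Lead.QD.sup_centralizer_normal V
  obtain ⟨φ, hφ, hodd, hφK⟩ := exists_odd_of_six _ _ h₂
  have hα : (orderOf (MulAut.conj φ)).Coprime 2 :=
    Nat.Coprime.coprime_dvd_left (orderOf_map_dvd (MulAut.conj : G →* MulAut G) φ) hodd
  have hZfix := odd_fixes_Zc S h V hVS σ hV₀ φ hφ hodd
  have ht₁V : ((A n x y (c n) 0 : ↥(S : Subgroup G)) : G) ∈ V := by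
    rw [coe_mem_V S h V σ hV₀, A_mem_Wsub, sub_zero, two_c hn]
  have hwV : φ * ((A n x y (c n) 0 : ↥(S : Subgroup G)) : G) * φ⁻¹ ∈ V :=
    ((Subgroup.mem_normalizer_iff.1 hφ) _).1 ht₁V
  have ht₁sq : A n x y (c n) 0 * A n x y (c n) 0 = 1 := by
    rw [A_sq h, two_c hn, mul_zero, A_zero]
  obtain ⟨τ, hτ⟩ : ∃ τ : ↥(S : Subgroup G),
      (τ : G) = φ * ((A n x y (c n) 0 : ↥(S : Subgroup G)) : G) * φ⁻¹ := ⟨⟨_, hVS hwV⟩, rfl⟩
  have hτW : τ ∈ Wsub h σ := by
    rw [← coe_mem_V S h V σ hV₀, hτ]; exact hwV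
  have hττ : τ * τ = 1 := by
    apply Subtype.ext
    rw [Subgroup.coe_mul, hτ]
    have := congrArg Subtype.val ht₁sq
    simp only [Subgroup.coe_mul, Subgroup.coe_one] at this
    calc φ * ((A n x y (c n) 0 : ↥(S : Subgroup G)) : G) * φ⁻¹ *
          (φ * ((A n x y (c n) 0 : ↥(S : Subgroup G)) : G) * φ⁻¹)
        = φ * (((A n x y (c n) 0 : ↥(S : Subgroup G)) : G) *
            ((A n x y (c n) 0 : ↥(S : Subgroup G)) : G)) * φ⁻¹ := by group
      _ = 1 := by rw [this]; group
  rcases mem_cases h τ with ⟨a, b, hab⟩ | ⟨p, q, hpq⟩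
  · exfalso
    rw [hab] at hττ hτW hτ
    rw [A_sq h] at hττ
    obtain ⟨h2, h3⟩ := A_eq_one h hττ
    have hfix : φ * ((A n x y (c n) 0 : ↥(S : Subgroup G)) : G) * φ⁻¹
        = ((A n x y (c n) 0 : ↥(S : Subgroup G)) : G) := by
      rcases (two_mul_eq_zero hn a).1 h2 with rfl | rfl <;>
        rcases (two_mul_eq_zero hn b).1 h3 with rfl | rfl
      · exfalso
        rw [A_zero] at hτ
        have h4 : ((A n x y (c n) 0 : ↥(S : Subgroup G)) : G) = 1 := by
          have : φ⁻¹ * (φ * ((A n x y (c n) 0 : ↥(S : Subgroup G)) : G) * φ⁻¹) * φ = 1 := by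
            rw [← hτ]; simp
          simpa [mul_assoc] using this
        have h5 : A n x y (c n) 0 = 1 := Subtype.ext h4
        exact c_ne hn (A_eq_one h h5).1
      · exfalso
        -- `φ` swaps `A c 0` and `A 0 c`
        have hζ : MulAut.conj φ ((A n x y (c n) (c n) : ↥(S : Subgroup G)) : G)
            = (A n x y (c n) (c n) : ↥(S : Subgroup G)) := by
          apply hZfix
          exact (coe_mem_Zc S _).2 ((mem_center_iff h _).2 ⟨c n, rfl⟩)
        have e1 : A n x y 0 (c n) = A n x y (c n) 0 * A n x y (c n) (c n) := by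
          rw [A_mul h, c_add_c hn, zero_add]
        have e2 : A n x y (c n) 0 = A n x y 0 (c n) * A n x y (c n) (c n) := by
          rw [A_mul h, c_add_c hn, zero_add]
        have h4 : MulAut.conj φ ((A n x y (c n) 0 : ↥(S : Subgroup G)) : G)
            = (A n x y 0 (c n) : ↥(S : Subgroup G)) := by
          rw [MulAut.conj_apply]; exact hτ.symm
        have h5 : MulAut.conj φ ((A n x y 0 (c n) : ↥(S : Subgroup G)) : G)
            = (A n x y (c n) 0 : ↥(S : Subgroup G)) := by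
          have e1' := congrArg Subtype.val e1
          have e2' := congrArg Subtype.val e2
          simp only [Subgroup.coe_mul] at e1' e2'
          rw [e1', map_mul, h4, hζ, ← e2']
        have h6 := eq_of_swap (MulAut.conj φ) hα h4 h5
        have h7 : A n x y (c n) 0 = A n x y 0 (c n) := Subtype.ext h6
        exact c_ne hn (A_inj h h7).1
      · exact hτ.symm
      · exfalso
        -- central: then `A c 0` would be central
        have h4 : (((A n x y (c n) (c n) : ↥(S : Subgroup G)) : G)) ∈ Zc S :=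
          (coe_mem_Zc S _).2 ((mem_center_iff h _).2 ⟨c n, rfl⟩)
        have h5 := conj_mem_Zc S h V hVS σ hV₀ φ⁻¹ (Subgroup.inv_mem _ hφ) _ h4
        rw [hτ] at h5
        have h6 : ((A n x y (c n) 0 : ↥(S : Subgroup G)) : G) ∈ Zc S := by
          have e : φ⁻¹ * (φ * ((A n x y (c n) 0 : ↥(S : Subgroup G)) : G) * φ⁻¹) * φ⁻¹⁻¹
              = ((A n x y (c n) 0 : ↥(S : Subgroup G)) : G) := by group
          rwa [e] at h5
        rw [coe_mem_Zc, mem_center_iff h] at h6
        obtain ⟨e, he⟩ := h6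
        obtain ⟨h7, h8⟩ := A_inj h he
        apply c_ne hn
        rw [h7, ← h8]
    exact hφK ((le_sup_right : Subgroup.centralizer (V : Set G) ≤ _)
      (odd_fix_t1 S h V hVS σ hV₀ φ hφ hodd hfix))
  · rw [hpq, zA_sq h] at hττ
    obtain ⟨h2, -⟩ := A_eq_one h hττ
    have hq : q = -p := by linear_combination h2
    subst hq
    refine ⟨((A n x y p 0 : ↥(S : Subgroup G)) : G) * φ, ?_⟩
    have h3 : A n x y p 0 * (z * A n x y p (-p)) * (A n x y p 0)⁻¹ = z := by
      rw [conj_zA_by_A h]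
      have e1 : p + 0 - p = (0 : ZMod (2 ^ n)) := by ring
      have e2 : -p + p - 0 = (0 : ZMod (2 ^ n)) := by ring
      rw [e1, e2, A_zero, mul_one]
    have h4 := congrArg Subtype.val h3
    rw [← hpq] at h4
    simp only [Subgroup.coe_mul, Subgroup.coe_inv] at h4
    rw [hτ] at h4
    rw [← h4]
    group

end V

end Cfsg.Agent.H2.WrAmb
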