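import Mathlib
import Cfsg.Agent.H2.WrFus2

/-!
# Wreathed Sylow 2-subgroups: the case `(6, 6)` (helper2)
-/

set_option autoImplicit false
set_option linter.style.haveILetI false
set_option linter.unusedSectionVars false
set_option linter.unusedVariables false

namespace Cfsg.Agent.H2.WrAmb

open Cfsg.Agent.Lead.QD (P c d)
open Cfsg.Agent.Lead.Wr
open Cfsg.Agent.H2.WrSC

variable {G : Type*} [Group G] [Finite G]

section

variable (S : Sylow 2 G) {n : ℕ} {x y z : ↥(S : Subgroup G)} (h : WDat n x y z)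

include h in
theorem orderOf_zeta : orderOf ((A n x y (c n) (c n) : ↥(S : Subgroup G)) : G) = 2 := by
  have hn := h.hn
  rw [Subgroup.orderOf_coe]
  apply orderOf_eq_prime
  · rw [pow_two, A_sq h, two_c hn, A_zero]
  · exact A_ne_one h (Or.inl (c_ne hn))

include h in
theorem orderOf_t1 : orderOf ((A n x y (c n) 0 : ↥(S : Subgroup G)) : G) = 2 := by
  have hn := h.hn
  rw [Subgroup.orderOf_coe]
  apply orderOf_eq_prime
  · rw [pow_two, A_sq h, two_c hn, mul_zero, A_zero]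
  · exact A_ne_one h (Or.inl (c_ne hn))

include h in
theorem orderOf_zG : orderOf ((z : ↥(S : Subgroup G)) : G) = 2 := by
  rw [Subgroup.orderOf_coe]; exact h.oz

include h in
/-- a subgroup containing `U` and `z` contains `S` -/
theorem S_le_of (U M : Subgroup G) (hUS : U ≤ (S : Subgroup G))
    (hU₀ : U.subgroupOf (S : Subgroup G) = Cfsg.Agent.Lead.Wr.U h) (hUM : U ≤ M)
    (hz : ((z : ↥(S : Subgroup G)) : G) ∈ M) : (S : Subgroup G) ≤ M := by
  intro s hs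
  rcases mem_cases h (⟨s, hs⟩ : ↥(S : Subgroup G)) with ⟨a, b, hab⟩ | ⟨p, q, hpq⟩
  · apply hUM
    exact (mem_U_amb S h U hUS hU₀ s).2 ⟨a, b, congrArg Subtype.val hab⟩
  · have h1 := congrArg Subtype.val hpq
    simp only [Subgroup.coe_mul] at h1
    have h2 : s = (z : G) * ((A n x y p q : ↥(S : Subgroup G)) : G) := h1
    rw [h2]
    exact M.mul_mem hz (hUM ((mem_U_amb S h U hUS hU₀ _).2 ⟨p, q, rfl⟩))

/-- a Sylow 2-subgroup is not contained in a subgroup of index two -/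
theorem not_S_le (M : Subgroup G) (hM : M.index = 2) : ¬ (S : Subgroup G) ≤ M := by
  intro hle
  haveI : Fact (Nat.Prime 2) := ⟨Nat.prime_two⟩
  have h1 := Subgroup.index_dvd_of_le hle
  rw [hM] at h1
  exact S.not_dvd_index h1

end

/-- **the case `(6, 6)`**: no subgroup of index two, one class of involutions -/
theorem simple_case (S : Sylow 2 G) (hS : Cfsg.IsWreathed ↥(S : Subgroup G)) (n : ℕ)
    (hn : Nat.card S = 2 ^ (2 * n + 1)) (U : Subgroup G) (hUS : U ≤ (S : Subgroup G))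
    (hUab : IsMulCommutative U) (hUcard : Nat.card U = 2 ^ (2 * n)) (Q : Subgroup G)
    (hQS : Q ≤ (S : Subgroup G)) (eQ : Q ≃* QuaternionGroup 2)
    (h₁ : (Subgroup.centralizer (U : Set G)).relIndex (Subgroup.normalizer (U : Set G)) = 6)
    (h₂ : (Q ⊔ Zc S ⊔ Subgroup.centralizer ((Q ⊔ Zc S : Subgroup G) : Set G)).relIndex
        (Subgroup.normalizer ((Q ⊔ Zc S : Subgroup G) : Set G)) = 6) :
    (∀ H : Subgroup G, H.index ≠ 2) ∧
      Nat.card {C : ConjClasses G // ∃ t : G, orderOf t = 2 ∧ ConjClasses.mk t = C} = 1 := by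
  obtain ⟨x, y, z, h, σ, hU₀, hV₀⟩ := setup S hS n hn U hUS hUab hUcard Q hQS eQ
  have hVS : Q ⊔ Zc S ≤ (S : Subgroup G) := sup_le hQS (Zc_le S)
  obtain ⟨g₁, hg₁⟩ := fuse_zeta S h U hUS hU₀ hUab h₁
  obtain ⟨g₂, hg₂⟩ := fuse_t1 S h (Q ⊔ Zc S) hVS σ hV₀ h₂
  constructor
  · intro M hM
    have hUM := U_le_of_index_two S h U hUS hU₀ hUab h₁ M hM
    haveI hMn : M.Normal := Subgroup.normal_of_index_eq_two hM
    have ht₁ : ((A n x y (Cfsg.Agent.Lead.QD.c n) 0 : ↥(S : Subgroup G)) : G) ∈ M :=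
      hUM ((mem_U_amb S h U hUS hU₀ _).2 ⟨_, _, rfl⟩)
    have hz : ((z : ↥(S : Subgroup G)) : G) ∈ M := by
      rw [← hg₂]
      exact hMn.conj_mem _ ht₁ g₂
    exact not_S_le S M hM (S_le_of S h U M hUS hU₀ hUM hz)
  · apply Cfsg.Agent.Lead.QD.card_classes_one 2 _ (orderOf_zeta S h)
    intro t ht
    rcases invol_G S h t ht with ⟨g, hg⟩ | ⟨g, hg⟩ | ⟨g, hg⟩
    · exact ⟨g, hg⟩
    · refine ⟨g₁⁻¹ * g, ?_⟩
      have e : g * t * g⁻¹ = g₁ * ((A n x y (Cfsg.Agent.Lead.QD.c n) (Cfsg.Agent.Lead.QD.c n) :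
          ↥(S : Subgroup G)) : G) * g₁⁻¹ := by rw [hg, hg₁]
      have e2 : g₁⁻¹ * g * t * (g₁⁻¹ * g)⁻¹ = g₁⁻¹ * (g * t * g⁻¹) * g₁ := by group
      rw [e2, e]
      group
    · refine ⟨g₁⁻¹ * g₂⁻¹ * g, ?_⟩
      have e : g * t * g⁻¹ = g₂ * (g₁ * ((A n x y (Cfsg.Agent.Lead.QD.c n)
          (Cfsg.Agent.Lead.QD.c n) : ↥(S : Subgroup G)) : G) * g₁⁻¹) * g₂⁻¹ := by
        rw [hg, hg₁, hg₂]
      have e2 : g₁⁻¹ * g₂⁻¹ * g * t * (g₁⁻¹ * g₂⁻¹ * g)⁻¹
          = g₁⁻¹ * (g₂⁻¹ * (g * t * g⁻¹) * g₂) * g₁ := by group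
      rw [e2, e]
      group

end Cfsg.Agent.H2.WrAmb
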