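import Mathlib
import Cfsg.Agent.H2.WrFus3
import Cfsg.Agent.Lib.Lead.AlperinGoldschmidt
import Cfsg.Agent.Lib.Lead.CentricControl

/-!
# Wreathed Sylow 2-subgroups: the Alperin–Goldschmidt family (helper2)
-/

set_option autoImplicit false
set_option linter.style.haveILetI false
set_option linter.unusedSectionVars false
set_option linter.unusedVariables false

namespace Cfsg.Agent.H2.WrAmb

open Cfsg.Agent.Lead.QD (P c d)
open Cfsg.Agent.Lead.Wr
open Cfsg.Agent.H2.WrSC
open Cfsg.Agent.Lib.Lead.AlperinGoldschmidt Cfsg.Agent.Lib.Lead.ConjFamily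

universe u

variable {G : Type u} [Group G] [Finite G]

/-- induction along the Alperin–Goldschmidt resolution -/
theorem ag_induction {p : ℕ} [hp : Fact p.Prime] (S : Sylow p G) (R : G → G → Prop)
    (hrefl : ∀ a, R a a) (htrans : ∀ a b c, R a b → R b c → R a c)
    (hstep : ∀ X : Subgroup G, CR S X → ∀ n ∈ Subgroup.normalizer (X : Set G), ∀ a ∈ X,
      R a (n⁻¹ * a * n))
    (a : G) (ha : a ∈ (S : Subgroup G)) (g : G) (hg : g⁻¹ * a * g ∈ (S : Subgroup G)) :
    R a (g⁻¹ * a * g) := by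
  have hA : ({a} : Set G) ⊆ ((S : Subgroup G) : Set G) := by
    rintro _ rfl; exact ha
  have hrc : rc g ({a} : Set G) ⊆ ((S : Subgroup G) : Set G) := by
    rintro _ ⟨b, rfl, rfl⟩
    exact hg
  obtain ⟨c', hc', l, hgl, hdec⟩ := alperin_goldschmidt S {a} g hA hrc
  have key : ∀ (l : List (Subgroup G × G)) (b : G), DecL {U | CR S U} l {b} →
      R b ((prodL l)⁻¹ * b * prodL l) := by
    intro l
    induction l with
    | nil =>
      intro b _
      rw [prodL_nil]
      simpa using hrefl b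
    | cons e l ih =>
      obtain ⟨T, x⟩ := e
      rintro b ⟨hT, hx, hbT, hdec⟩
      have hrcb : rc x ({b} : Set G) = {x⁻¹ * b * x} := by
        unfold rc
        rw [Set.image_singleton]
      rw [hrcb] at hdec
      have h1 := ih _ hdec
      have h2 := hstep T hT x hx b (hbT rfl)
      have h3 := htrans _ _ _ h2 h1
      rw [prodL_cons]
      have e : (x * prodL l)⁻¹ * b * (x * prodL l) = (prodL l)⁻¹ * (x⁻¹ * b * x) * prodL l := by
        group
      rw [e]
      exact h3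
  have h1 := key l a hdec
  have hc : c'⁻¹ * a * c' = a := by
    have := (Subgroup.mem_centralizer_iff.1 hc') a rfl
    rw [mul_assoc, this]; group
  have e : g⁻¹ * a * g = (prodL l)⁻¹ * a * prodL l := by
    rw [hgl]
    calc (c' * prodL l)⁻¹ * a * (c' * prodL l) = (prodL l)⁻¹ * (c'⁻¹ * a * c') * prodL l := by
          group
      _ = _ := by rw [hc]
  rw [e]
  exact h1

/-- three classes of elements of order `k` -/
theorem card_classes_three (k : ℕ) (a0 b0 c0 : G) (ha0 : orderOf a0 = k) (hb0 : orderOf b0 = k)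
    (hc0 : orderOf c0 = k) (hab : ∀ g : G, g * a0 * g⁻¹ ≠ b0) (hac : ∀ g : G, g * a0 * g⁻¹ ≠ c0)
    (hbc : ∀ g : G, g * b0 * g⁻¹ ≠ c0)
    (hall : ∀ t : G, orderOf t = k →
      (∃ g, g * t * g⁻¹ = a0) ∨ (∃ g, g * t * g⁻¹ = b0) ∨ (∃ g, g * t * g⁻¹ = c0)) :
    Nat.card {C : ConjClasses G // ∃ t : G, orderOf t = k ∧ ConjClasses.mk t = C} = 3 := by
  change Nat.card ↥({C | ∃ t : G, orderOf t = k ∧ ConjClasses.mk t = C} : Set (ConjClasses G)) = 3
  rw [Nat.card_coe_set_eq, Set.ncard_eq_three]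
  have hne : ∀ a b : G, (∀ g : G, g * a * g⁻¹ ≠ b) → ConjClasses.mk a ≠ ConjClasses.mk b := by
    intro a b hab h1
    rw [ConjClasses.mk_eq_mk_iff_isConj, isConj_iff] at h1
    obtain ⟨g, hg⟩ := h1
    exact hab g hg
  refine ⟨ConjClasses.mk a0, ConjClasses.mk b0, ConjClasses.mk c0, hne _ _ hab, hne _ _ hac,
    hne _ _ hbc, ?_⟩
  ext C
  simp only [Set.mem_setOf_eq, Set.mem_insert_iff, Set.mem_singleton_iff]
  constructor
  · rintro ⟨t, ht, rfl⟩
    rcases hall t ht with ⟨g, hg⟩ | ⟨g, hg⟩ | ⟨g, hg⟩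
    · left
      rw [ConjClasses.mk_eq_mk_iff_isConj, isConj_iff]; exact ⟨g, hg⟩
    · right; left
      rw [ConjClasses.mk_eq_mk_iff_isConj, isConj_iff]; exact ⟨g, hg⟩
    · right; right
      rw [ConjClasses.mk_eq_mk_iff_isConj, isConj_iff]; exact ⟨g, hg⟩
  · rintro (rfl | rfl | rfl)
    · exact ⟨a0, ha0, rfl⟩
    · exact ⟨b0, hb0, rfl⟩
    · exact ⟨c0, hc0, rfl⟩

section wreathed

variable (S : Sylow 2 G) {n : ℕ} {x y z : ↥(S : Subgroup G)} (h : WDat n x y z)

include h in
/-- the members of the Alperin–Goldschmidt family -/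
theorem CR_classify (X : Subgroup G) (hX : CR S X) :
    X = (S : Subgroup G) ∨ X.subgroupOf (S : Subgroup G) = Cfsg.Agent.Lead.Wr.U h ∨
      ∃ σ' : ZMod (2 ^ n), X.subgroupOf (S : Subgroup G) = Wsub h σ' := by
  haveI : Fact (Nat.Prime 2) := ⟨Nat.prime_two⟩
  have hXS : X ≤ (S : Subgroup G) := hX.1.1
  by_cases hXeq : X = (S : Subgroup G)
  · exact Or.inl hXeq
  right
  set X₀ := X.subgroupOf (S : Subgroup G) with hX₀
  have hcen : (S : Subgroup G) ⊓ Subgroup.centralizer (X : Set G) ≤ X := by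
    apply hX.2
    refine ⟨Subgroup.centralizer_le_normalizer _,
      fun n hn => Cfsg.Agent.Lib.Lead.CentricControl.cj_centralizer_of_mem_normalizer hn,
      fun k hk => ⟨0, by simpa using hk⟩⟩
  have hC : Subgroup.centralizer (X₀ : Set ↥(S : Subgroup G)) ≤ X₀ := by
    intro t ht
    rw [hX₀, mem_centralizer_subgroupOf _ _ hXS] at ht
    rw [hX₀, Subgroup.mem_subgroupOf]
    exact hcen ⟨t.2, ht⟩
  have hA : ¬ IsPGroup 2 (MulAut X₀) := by
    intro hp
    have hpX : IsPGroup 2 (MulAut ↥X) :=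
      hp.of_equiv (MulAut.congr (Subgroup.subgroupOfEquivOfLe hXS))
    -- elements of odd order of the normalizer centralize `X`
    have hodd : ∀ g ∈ Subgroup.normalizer (X : Set G), (orderOf g).Coprime 2 →
        g ∈ Subgroup.centralizer (X : Set G) := by
      intro g hg hgo
      have h1 : orderOf (X.normalizerMonoidHom ⟨g, hg⟩) ∣ orderOf g := by
        have := orderOf_map_dvd X.normalizerMonoidHom (⟨g, hg⟩ : ↥(Subgroup.normalizer (X : Set G)))
        rwa [Subgroup.orderOf_mk] at this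
      obtain ⟨k, hk⟩ := hpX (X.normalizerMonoidHom ⟨g, hg⟩)
      have h2 : orderOf (X.normalizerMonoidHom ⟨g, hg⟩) ∣ 2 ^ k := orderOf_dvd_of_pow_eq_one hk
      have h3 : orderOf (X.normalizerMonoidHom ⟨g, hg⟩) = 1 := by
        have h4 : (orderOf (X.normalizerMonoidHom ⟨g, hg⟩)).Coprime (2 ^ k) :=
          (Nat.Coprime.coprime_dvd_left h1 hgo).pow_right k
        exact Nat.Coprime.eq_one_of_dvd h4 h2
      rw [orderOf_eq_one_iff, ← MonoidHom.mem_ker, Subgroup.normalizerMonoidHom_ker,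
        Subgroup.mem_subgroupOf] at h3
      exact h3
    have hpm : PModC 2 X (Subgroup.normalizer (X : Set G)) := by
      refine ⟨le_rfl, fun n hn => Cfsg.Agent.S1965.cj_eq_of_mem_normalizer
        (Subgroup.le_normalizer hn), fun k hk => ?_⟩
      obtain ⟨e, he⟩ := exists_pow_coprime k
      exact ⟨e, hodd _ (Subgroup.pow_mem _ hk _) he⟩
    have hNS : (S : Subgroup G) ⊓ Subgroup.normalizer (X : Set G) ≤ X := hX.2 _ hpm
    have hlt : X₀ < ⊤ := by
      rw [lt_top_iff_ne_top]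
      intro htop
      apply hXeq
      exact le_antisymm hXS (Subgroup.subgroupOf_eq_top.1 htop)
    haveI : Group.IsNilpotent ↥(S : Subgroup G) := S.isPGroup'.isNilpotent
    have hnc := Group.normalizerCondition_of_isNilpotent (G := ↥(S : Subgroup G)) X₀ hlt
    obtain ⟨t, htN, htX⟩ := SetLike.exists_of_lt hnc
    apply htX
    rw [hX₀, mem_normalizer_subgroupOf _ _ hXS] at htN
    rw [hX₀, Subgroup.mem_subgroupOf]
    exact hNS ⟨t.2, htN⟩
  rcases classify h X₀ hC hA with h1 | ⟨σ', h1⟩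
  · exact Or.inl h1
  · exact Or.inr ⟨σ', SetLike.coe_injective (h1.trans (coe_Wsub h σ').symm)⟩

end wreathed

end Cfsg.Agent.H2.WrAmb
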