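import Mathlib
import Cfsg.Agent.H2.WrCR1
import Cfsg.Agent.Lib.Lead.LocalControl

/-!
# Wreathed Sylow 2-subgroups: local control (helper2)
-/

set_option autoImplicit false
set_option linter.style.haveILetI false
set_option linter.unusedSectionVars false
set_option linter.unusedVariables false

namespace Cfsg.Agent.H2.WrAmb

open Cfsg.Agent.Lead.QD (P c d)
open Cfsg.Agent.Lead.Wr
open Cfsg.Agent.H2.WrSC
open Cfsg.Agent.Lib.Lead.AlperinGoldschmidt Cfsg.Agent.Lib.Lead.ConjFamily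

universe u

variable {G : Type u} [Group G] [Finite G]

section U

variable (S : Sylow 2 G) {n : ℕ} {x y z : ↥(S : Subgroup G)} (h : WDat n x y z)
  (U : Subgroup G) (hUS : U ≤ (S : Subgroup G))
  (hU₀ : U.subgroupOf (S : Subgroup G) = Cfsg.Agent.Lead.Wr.U h)

include hUS hU₀ in
theorem z_not_mem_U : ((z : ↥(S : Subgroup G)) : G) ∉ U := by
  intro hz
  obtain ⟨a, b, hab⟩ := (mem_U_amb S h U hUS hU₀ _).1 hz
  have : z = A n x y a b := Subtype.ext hab
  exact Cfsg.Agent.Lead.Wr.z_not_mem_U h (this ▸ A_mem_U h a b)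

include hUS hU₀ in
theorem z_not_mem_centralizer_U :
    ((z : ↥(S : Subgroup G)) : G) ∉ Subgroup.centralizer (U : Set G) := by
  have hn := h.hn
  intro hz
  rw [Subgroup.mem_centralizer_iff] at hz
  have h1 := hz _ ((mem_U_amb S h U hUS hU₀ _).2 ⟨c n, 0, rfl⟩)
  have h2 : A n x y (c n) 0 * (z * A n x y 0 0) = (z * A n x y 0 0) * A n x y (c n) 0 := by
    rw [A_zero, mul_one]
    exact Subtype.ext h1
  exact c_ne hn (comm_A_zA h _ _ _ _ h2)

include hUS hU₀ in
/-- elements of `S` outside `U` -/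
theorem exists_zA_of_not_mem (g : G) (hgS : g ∈ (S : Subgroup G)) (hgU : g ∉ U) :
    ∃ p q, g = ((z * A n x y p q : ↥(S : Subgroup G)) : G) := by
  rcases mem_cases h (⟨g, hgS⟩ : ↥(S : Subgroup G)) with ⟨a, b, hab⟩ | ⟨p, q, hpq⟩
  · exfalso
    apply hgU
    exact (mem_U_amb S h U hUS hU₀ g).2 ⟨a, b, congrArg Subtype.val hab⟩
  · exact ⟨p, q, congrArg Subtype.val hpq⟩

include hUS hU₀ in
/-- elements of odd order of `N(S)` centralize `S` -/
theorem odd_centralizes_S (hUab : IsMulCommutative U) (g : G)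
    (hg : g ∈ Subgroup.normalizer ((S : Subgroup G) : Set G)) (hodd : (orderOf g).Coprime 2) :
    g ∈ Subgroup.centralizer ((S : Subgroup G) : Set G) := by
  have hn := h.hn
  have hα : (orderOf (MulAut.conj g)).Coprime 2 :=
    Nat.Coprime.coprime_dvd_left (orderOf_map_dvd (MulAut.conj : G →* MulAut G) g) hodd
  have hgS : ∀ s ∈ (S : Subgroup G), g * s * g⁻¹ ∈ (S : Subgroup G) := fun s hs =>
    ((Subgroup.mem_normalizer_iff.1 hg) s).1 hs
  -- `g` normalizes `U`
  set U' : Subgroup G := U.map (MulAut.conj g).toMonoidHom with hU'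
  have hU'S : U' ≤ (S : Subgroup G) := by
    rintro _ ⟨u, hu, rfl⟩
    exact hgS u (hUS hu)
  have hU'₀ : U'.subgroupOf (S : Subgroup G) = Cfsg.Agent.Lead.Wr.U h := by
    apply unique_U h
    · refine ⟨⟨fun a b => ?_⟩⟩
      obtain ⟨u, hu, hau⟩ := Subgroup.mem_subgroupOf.1 a.2
      obtain ⟨u', hu', hbu⟩ := Subgroup.mem_subgroupOf.1 b.2
      have hc : u * u' = u' * u := congrArg Subtype.val (hUab.is_comm.comm ⟨u, hu⟩ ⟨u', hu'⟩)
      apply Subtype.ext
      apply Subtype.ext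
      show ((a : ↥(S : Subgroup G)) : G) * ((b : ↥(S : Subgroup G)) : G)
        = ((b : ↥(S : Subgroup G)) : G) * ((a : ↥(S : Subgroup G)) : G)
      rw [← hau, ← hbu]
      show g * u * g⁻¹ * (g * u' * g⁻¹) = g * u' * g⁻¹ * (g * u * g⁻¹)
      calc g * u * g⁻¹ * (g * u' * g⁻¹) = g * (u * u') * g⁻¹ := by group
        _ = g * (u' * u) * g⁻¹ := by rw [hc]
        _ = g * u' * g⁻¹ * (g * u * g⁻¹) := by group
    · rw [Nat.card_congr (Subgroup.subgroupOfEquivOfLe hU'S).toEquiv, hU',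
        Cfsg.Agent.Lib.Lead.Conj.card_map_conj,
        ← Nat.card_congr (Subgroup.subgroupOfEquivOfLe hUS).toEquiv, hU₀]
      exact card_U h
  have hgU : ∀ u ∈ U, g * u * g⁻¹ ∈ U := by
    intro u hu
    have h1 : g * u * g⁻¹ ∈ U' := ⟨u, hu, rfl⟩
    have h2 : (⟨g * u * g⁻¹, hU'S h1⟩ : ↥(S : Subgroup G)) ∈ U'.subgroupOf (S : Subgroup G) := by
      rw [Subgroup.mem_subgroupOf]; exact h1
    rw [hU'₀, ← hU₀, Subgroup.mem_subgroupOf] at h2
    exact h2
  have hgN : g ∈ Subgroup.normalizer (U : Set G) := Subgroup.mem_normalizer_fintype hgU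
  -- `g` fixes the central involution
  have hζU : ((A n x y (c n) (c n) : ↥(S : Subgroup G)) : G) ∈ U :=
    (mem_U_amb S h U hUS hU₀ _).2 ⟨_, _, rfl⟩
  have hζζ : ((A n x y (c n) (c n) : ↥(S : Subgroup G)) : G)
      * ((A n x y (c n) (c n) : ↥(S : Subgroup G)) : G) = 1 := by
    have : A n x y (c n) (c n) * A n x y (c n) (c n) = 1 := by
      rw [A_sq h, two_c hn, A_zero]
    simpa using congrArg Subtype.val this
  have hζ1 : ((A n x y (c n) (c n) : ↥(S : Subgroup G)) : G) ≠ 1 := by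
    intro h1
    have : A n x y (c n) (c n) = 1 := Subtype.ext h1
    exact A_ne_one h (Or.inl (c_ne hn)) this
  have hfix : g * ((A n x y (c n) (c n) : ↥(S : Subgroup G)) : G) * g⁻¹
      = ((A n x y (c n) (c n) : ↥(S : Subgroup G)) : G) := by
    have hmemS := hgS _ (A n x y (c n) (c n)).2
    have hcen : (⟨_, hmemS⟩ : ↥(S : Subgroup G)) ∈ Subgroup.center ↥(S : Subgroup G) := by
      rw [Subgroup.mem_center_iff]
      intro s
      apply Subtype.ext
      show (s : G) * (g * ((A n x y (c n) (c n) : ↥(S : Subgroup G)) : G) * g⁻¹)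
        = g * ((A n x y (c n) (c n) : ↥(S : Subgroup G)) : G) * g⁻¹ * s
      have hs' : g⁻¹ * s * g ∈ (S : Subgroup G) := by
        have := ((Subgroup.mem_normalizer_iff.1 (Subgroup.inv_mem _ hg)) s).1 s.2
        simpa using this
      have hc : (⟨g⁻¹ * s * g, hs'⟩ : ↥(S : Subgroup G)) * A n x y (c n) (c n)
          = A n x y (c n) (c n) * ⟨g⁻¹ * s * g, hs'⟩ :=
        Subgroup.mem_center_iff.1 ((mem_center_iff h _).2 ⟨c n, rfl⟩) _
      have hc' := congrArg Subtype.val hc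
      simp only [Subgroup.coe_mul] at hc'
      calc (s : G) * (g * ((A n x y (c n) (c n) : ↥(S : Subgroup G)) : G) * g⁻¹)
          = g * ((g⁻¹ * s * g) * ((A n x y (c n) (c n) : ↥(S : Subgroup G)) : G)) * g⁻¹ := by
            group
        _ = g * (((A n x y (c n) (c n) : ↥(S : Subgroup G)) : G) * (g⁻¹ * s * g)) * g⁻¹ := by
            rw [hc']
        _ = g * ((A n x y (c n) (c n) : ↥(S : Subgroup G)) : G) * g⁻¹ * s := by group
    have h2 : (⟨_, hmemS⟩ : ↥(S : Subgroup G)) * ⟨_, hmemS⟩ = 1 := by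
      apply Subtype.ext
      show g * ((A n x y (c n) (c n) : ↥(S : Subgroup G)) : G) * g⁻¹
        * (g * ((A n x y (c n) (c n) : ↥(S : Subgroup G)) : G) * g⁻¹) = 1
      calc g * ((A n x y (c n) (c n) : ↥(S : Subgroup G)) : G) * g⁻¹
            * (g * ((A n x y (c n) (c n) : ↥(S : Subgroup G)) : G) * g⁻¹)
          = g * (((A n x y (c n) (c n) : ↥(S : Subgroup G)) : G)
            * ((A n x y (c n) (c n) : ↥(S : Subgroup G)) : G)) * g⁻¹ := by group
        _ = 1 := by rw [hζζ]; group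
    have h3 : (⟨_, hmemS⟩ : ↥(S : Subgroup G)) ≠ 1 := by
      intro h4
      apply hζ1
      have h5 : g * ((A n x y (c n) (c n) : ↥(S : Subgroup G)) : G) * g⁻¹ = 1 :=
        congrArg Subtype.val h4
      calc ((A n x y (c n) (c n) : ↥(S : Subgroup G)) : G)
          = g⁻¹ * (g * ((A n x y (c n) (c n) : ↥(S : Subgroup G)) : G) * g⁻¹) * g := by group
        _ = 1 := by rw [h5]; group
    exact congrArg Subtype.val (center_invol h _ hcen h2 h3)
  have hgC := odd_fix_invol S h U hUS hU₀ hUab g hgN hodd _ hζU hζζ hζ1 hfix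
  have hUfix : ∀ u ∈ U, MulAut.conj g u = u := by
    intro u hu
    rw [MulAut.conj_apply]
    have := (Subgroup.mem_centralizer_iff.1 hgC) u hu
    rw [← this]; group
  rw [Subgroup.mem_centralizer_iff]
  intro s hs
  have hmod : s⁻¹ * MulAut.conj g s ∈ U := by
    rw [MulAut.conj_apply]
    by_cases hsU : s ∈ U
    · have := hUfix s hsU
      rw [MulAut.conj_apply] at this
      rw [this, inv_mul_cancel]; exact U.one_mem
    · by_cases hgsU : g * s * g⁻¹ ∈ U
      · exfalso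
        apply hsU
        have := ((Subgroup.mem_normalizer_iff.1 (Subgroup.inv_mem _ hgN)) _).1 hgsU
        have e : g⁻¹ * (g * s * g⁻¹) * g⁻¹⁻¹ = s := by group
        rwa [e] at this
      · obtain ⟨p, q, hpq⟩ := exists_zA_of_not_mem S h U hUS hU₀ s hs hsU
        obtain ⟨p', q', hpq'⟩ := exists_zA_of_not_mem S h U hUS hU₀ _ (hgS s hs) hgsU
        rw [hpq', hpq]
        have h6 := congrArg Subtype.val (zA_inv_mul_zA h p q p' q')
        simp only [Subgroup.coe_mul, Subgroup.coe_inv] at h6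
        simp only [Subgroup.coe_mul]
        rw [h6]
        exact (mem_U_amb S h U hUS hU₀ _).2 ⟨_, _, rfl⟩
  have := fixes_of_fixes_mod' (MulAut.conj g) hα U
    (fun u hu => two_elt_of_mem S u (hUS hu)) hUfix s hmod
  rw [MulAut.conj_apply] at this
  calc s * g = (g * s * g⁻¹) * g := by rw [this]
    _ = g * s := by group

include hUS hU₀ in
/-- local control at `S` -/
theorem lc_S (hUab : IsMulCommutative U) (k : G)
    (hk : k ∈ Subgroup.normalizer ((S : Subgroup G) : Set G)) :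
    ∃ s ∈ (S : Subgroup G), ∀ a ∈ (S : Subgroup G), k⁻¹ * a * k = s⁻¹ * a * s := by
  haveI : Fact (Nat.Prime 2) := ⟨Nat.prime_two⟩
  obtain ⟨s, hs, hsa⟩ := Cfsg.Agent.Lib.Lead.LocalControl.normalizer_decomp S (mem_F0_self S)
    (fun g hg hodd => odd_centralizes_S S h U hUS hU₀ hUab g hg hodd) hk
  exact ⟨s, hs.1, hsa⟩

include hUS hU₀ in
/-- local control at `U` when `|N(U) : C(U)| = 2` -/
theorem lc_U
    (h₁ : (Subgroup.centralizer (U : Set G)).relIndex (Subgroup.normalizer (U : Set G)) = 2)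
    (k : G) (hk : k ∈ Subgroup.normalizer (U : Set G)) :
    ∃ s ∈ (S : Subgroup G), ∀ a ∈ U, k⁻¹ * a * k = s⁻¹ * a * s := by
  have hzN : ((z : ↥(S : Subgroup G)) : G) ∈ Subgroup.normalizer (U : Set G) :=
    S_le_normalizer_U S h U hUS hU₀ z.2
  rcases Cfsg.Agent.Lead.QD.mem_or_of_relIndex_two _ _ h₁ _ hzN
    (z_not_mem_centralizer_U S h U hUS hU₀) k hk with hc | hc
  · refine ⟨1, Subgroup.one_mem _, fun a ha => ?_⟩
    have := (Subgroup.mem_centralizer_iff.1 hc) a ha
    rw [mul_assoc, this]; group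
  · refine ⟨z, z.2, fun a ha => ?_⟩
    have hza : ((z : ↥(S : Subgroup G)) : G)⁻¹ * a * z ∈ U := by
      have := ((Subgroup.mem_normalizer_iff.1 (Subgroup.inv_mem _ hzN)) a).1 ha
      simpa using this
    have := (Subgroup.mem_centralizer_iff.1 hc) _ hza
    calc k⁻¹ * a * k
        = (((z : ↥(S : Subgroup G)) : G)⁻¹ * k)⁻¹ *
          ((((z : ↥(S : Subgroup G)) : G)⁻¹ * a * z) * (((z : ↥(S : Subgroup G)) : G)⁻¹ * k)) := by
          group
      _ = (((z : ↥(S : Subgroup G)) : G)⁻¹ * k)⁻¹ *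
          ((((z : ↥(S : Subgroup G)) : G)⁻¹ * k) * (((z : ↥(S : Subgroup G)) : G)⁻¹ * a * z)) := by
          rw [this]
      _ = ((z : ↥(S : Subgroup G)) : G)⁻¹ * a * z := by group

end U

end Cfsg.Agent.H2.WrAmb
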