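import Mathlib
import Cfsg.Agent.H2.WrCR2

/-!
# Wreathed Sylow 2-subgroups: the case `(2, 2)` (helper2)
-/

set_option autoImplicit false
set_option linter.style.haveILetI false
set_option linter.unusedSectionVars false
set_option linter.unusedVariables false

namespace Cfsg.Agent.H2.WrAmb

open Cfsg.Agent.Lead.QD (P c d)
open Cfsg.Agent.Lead.Wr
open Cfsg.Agent.H2.WrSC
open Cfsg.Agent.Lib.Lead.AlperinGoldschmidt Cfsg.Agent.Lib.Lead.ConjFamily

universe u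

variable {G : Type u} [Group G] [Finite G]

section V

variable (S : Sylow 2 G) {n : ℕ} {x y z : ↥(S : Subgroup G)} (h : WDat n x y z)
  (V : Subgroup G) (hVS : V ≤ (S : Subgroup G)) (σ : ZMod (2 ^ n))
  (hV₀ : V.subgroupOf (S : Subgroup G) = Wsub h σ)

include hVS hV₀ in
theorem Ad_mem_normalizer_V :
    ((A n x y (d n) 0 : ↥(S : Subgroup G)) : G) ∈ Subgroup.normalizer (V : Set G) := by
  rw [← mem_normalizer_subgroupOf _ _ hVS, hV₀]
  exact Ad_mem_normalizer h σ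

include hVS hV₀ in
theorem Ad_not_mem_K :
    ((A n x y (d n) 0 : ↥(S : Subgroup G)) : G) ∉ V ⊔ Subgroup.centralizer (V : Set G) := by
  intro hcon
  obtain ⟨v, hv, c', hc', he⟩ := Cfsg.Agent.Lead.QD.mem_sup_centralizer V _ hcon
  have hc'S : c' ∈ (S : Subgroup G) := by
    have : c' = v⁻¹ * ((A n x y (d n) 0 : ↥(S : Subgroup G)) : G) := by rw [he]; group
    rw [this]
    exact Subgroup.mul_mem _ (Subgroup.inv_mem _ (hVS hv)) (A n x y (d n) 0).2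
  have h1 : (⟨c', hc'S⟩ : ↥(S : Subgroup G)) ∈
      Subgroup.centralizer ((V.subgroupOf (S : Subgroup G) : Subgroup ↥(S : Subgroup G)) :
        Set ↥(S : Subgroup G)) := by
    rw [mem_centralizer_subgroupOf _ _ hVS]; exact hc'
  rw [hV₀, centralizer_W h (Wsub h σ) σ (coe_Wsub h σ)] at h1
  have h2 : c' ∈ V := (coe_mem_V S h V σ hV₀ ⟨c', hc'S⟩).2 (center_le_Wsub h σ h1)
  have h3 : ((A n x y (d n) 0 : ↥(S : Subgroup G)) : G) ∈ V := by
    rw [he]; exact V.mul_mem hv h2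
  exact Ad_not_mem h σ ((coe_mem_V S h V σ hV₀ _).1 h3)

include hVS hV₀ in
/-- local control at `V` when `|N(V) : V C(V)| = 2` -/
theorem lc_V
    (h₂ : (V ⊔ Subgroup.centralizer (V : Set G)).relIndex (Subgroup.normalizer (V : Set G)) = 2)
    (k : G) (hk : k ∈ Subgroup.normalizer (V : Set G)) :
    ∃ s ∈ (S : Subgroup G), ∀ a ∈ V, k⁻¹ * a * k = s⁻¹ * a * s := by
  have haN := Ad_mem_normalizer_V S h V hVS σ hV₀
  -- elements of `V C(V)`
  have key : ∀ k' ∈ V ⊔ Subgroup.centralizer (V : Set G),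
      ∃ v ∈ V, ∀ a ∈ V, k'⁻¹ * a * k' = v⁻¹ * a * v := by
    intro k' hk'
    obtain ⟨v, hv, c', hc', he⟩ := Cfsg.Agent.Lead.QD.mem_sup_centralizer V _ hk'
    refine ⟨v, hv, fun a ha => ?_⟩
    have hva : v⁻¹ * a * v ∈ V := V.mul_mem (V.mul_mem (V.inv_mem hv) ha) hv
    have := (Subgroup.mem_centralizer_iff.1 hc') _ hva
    rw [he]
    calc (v * c')⁻¹ * a * (v * c') = c'⁻¹ * ((v⁻¹ * a * v) * c') := by group
      _ = c'⁻¹ * (c' * (v⁻¹ * a * v)) := by rw [this]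
      _ = v⁻¹ * a * v := by group
  rcases Cfsg.Agent.Lead.QD.mem_or_of_relIndex_two _ _ h₂ _ haN
    (Ad_not_mem_K S h V hVS σ hV₀) k hk with hc | hc
  · obtain ⟨v, hv, hva⟩ := key k hc
    exact ⟨v, hVS hv, hva⟩
  · obtain ⟨v, hv, hva⟩ := key _ hc
    refine ⟨((A n x y (d n) 0 : ↥(S : Subgroup G)) : G) * v,
      Subgroup.mul_mem _ (A n x y (d n) 0).2 (hVS hv), fun a ha => ?_⟩
    have haa : ((A n x y (d n) 0 : ↥(S : Subgroup G)) : G)⁻¹ * a *
        ((A n x y (d n) 0 : ↥(S : Subgroup G)) : G) ∈ V := by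
      have := ((Subgroup.mem_normalizer_iff.1 (Subgroup.inv_mem _ haN)) a).1 ha
      simpa using this
    have := hva _ haa
    calc k⁻¹ * a * k
        = (((A n x y (d n) 0 : ↥(S : Subgroup G)) : G)⁻¹ * k)⁻¹ *
          (((A n x y (d n) 0 : ↥(S : Subgroup G)) : G)⁻¹ * a *
            ((A n x y (d n) 0 : ↥(S : Subgroup G)) : G)) *
          (((A n x y (d n) 0 : ↥(S : Subgroup G)) : G)⁻¹ * k) := by group
      _ = v⁻¹ * (((A n x y (d n) 0 : ↥(S : Subgroup G)) : G)⁻¹ * a *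
            ((A n x y (d n) 0 : ↥(S : Subgroup G)) : G)) * v := this
      _ = (((A n x y (d n) 0 : ↥(S : Subgroup G)) : G) * v)⁻¹ * a *
          (((A n x y (d n) 0 : ↥(S : Subgroup G)) : G) * v) := by group

include hVS hV₀ in
/-- local control at every subgroup of type `Q Z(S)` when `|N(V) : V C(V)| = 2` -/
theorem lc_W
    (h₂ : (V ⊔ Subgroup.centralizer (V : Set G)).relIndex (Subgroup.normalizer (V : Set G)) = 2)
    (X : Subgroup G) (hXS : X ≤ (S : Subgroup G)) (σ' : ZMod (2 ^ n))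
    (hX₀ : X.subgroupOf (S : Subgroup G) = Wsub h σ')
    (k : G) (hk : k ∈ Subgroup.normalizer (X : Set G)) :
    ∃ s ∈ (S : Subgroup G), ∀ a ∈ X, k⁻¹ * a * k = s⁻¹ * a * s := by
  obtain ⟨s, hs⟩ := conj_W h (Wsub h σ) (Wsub h σ') σ σ' (coe_Wsub h σ) (coe_Wsub h σ')
  -- `X = s V s⁻¹`
  have hXV : ∀ a : G, a ∈ X ↔ ((s : ↥(S : Subgroup G)) : G)⁻¹ * a * s ∈ V := by
    intro a
    constructor
    · intro ha
      have h1 : (⟨a, hXS ha⟩ : ↥(S : Subgroup G)) ∈ Wsub h σ' := by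
        rw [← hX₀, Subgroup.mem_subgroupOf]; exact ha
      rw [← hs] at h1
      obtain ⟨v, hv, hva⟩ := h1
      have h2 : ((v : ↥(S : Subgroup G)) : G) ∈ V := (coe_mem_V S h V σ hV₀ v).2 hv
      have h3 : (s : G) * v * (s : G)⁻¹ = a := by
        have := congrArg Subtype.val hva
        simpa [MulAut.conj_apply] using this
      rw [← h3]
      have e : ((s : ↥(S : Subgroup G)) : G)⁻¹ * ((s : G) * v * (s : G)⁻¹) * s = v := by group
      rw [e]; exact h2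
    · intro ha
      have h1 : (⟨_, hVS ha⟩ : ↥(S : Subgroup G)) ∈ Wsub h σ := (coe_mem_V S h V σ hV₀ _).1 ha
      have h2 : (MulAut.conj s) (⟨_, hVS ha⟩ : ↥(S : Subgroup G)) ∈ Wsub h σ' := by
        rw [← hs]; exact ⟨_, h1, rfl⟩
      rw [← hX₀, Subgroup.mem_subgroupOf, MulAut.conj_apply] at h2
      have e : ((s * (⟨((s : ↥(S : Subgroup G)) : G)⁻¹ * a * s, hVS ha⟩ : ↥(S : Subgroup G)) * s⁻¹ :
          ↥(S : Subgroup G)) : G) = a := by
        simp only [Subgroup.coe_mul, Subgroup.coe_inv]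
        group
      rwa [e] at h2
  have hk' : ((s : ↥(S : Subgroup G)) : G)⁻¹ * k * s ∈ Subgroup.normalizer (V : Set G) := by
    apply Subgroup.mem_normalizer_fintype
    intro v hv
    have h1 : (s : G) * v * (s : G)⁻¹ ∈ X := by
      rw [hXV]
      have e : ((s : ↥(S : Subgroup G)) : G)⁻¹ * ((s : G) * v * (s : G)⁻¹) * s = v := by group
      rw [e]; exact hv
    have h2 := ((Subgroup.mem_normalizer_iff.1 hk) _).1 h1
    rw [hXV] at h2
    have e : ((s : ↥(S : Subgroup G)) : G)⁻¹ * k * s * v * (((s : ↥(S : Subgroup G)) : G)⁻¹ * k * s)⁻¹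
        = ((s : ↥(S : Subgroup G)) : G)⁻¹ * (k * ((s : G) * v * (s : G)⁻¹) * k⁻¹) * s := by group
    rw [e]; exact h2
  obtain ⟨r, hr, hra⟩ := lc_V S h V hVS σ hV₀ h₂ _ hk'
  refine ⟨(s : G) * r * (s : G)⁻¹,
    Subgroup.mul_mem _ (Subgroup.mul_mem _ s.2 hr) (Subgroup.inv_mem _ s.2), fun a ha => ?_⟩
  have h1 := hra _ ((hXV a).1 ha)
  calc k⁻¹ * a * k
      = (s : G) * ((((s : ↥(S : Subgroup G)) : G)⁻¹ * k * s)⁻¹ *
          (((s : ↥(S : Subgroup G)) : G)⁻¹ * a * s) *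
          (((s : ↥(S : Subgroup G)) : G)⁻¹ * k * s)) * (s : G)⁻¹ := by group
    _ = (s : G) * (r⁻¹ * (((s : ↥(S : Subgroup G)) : G)⁻¹ * a * s) * r) * (s : G)⁻¹ := by rw [h1]
    _ = ((s : G) * r * (s : G)⁻¹)⁻¹ * a * ((s : G) * r * (s : G)⁻¹) := by group

end V

/-- **the case `(2, 2)`**: `S` controls fusion -/
theorem controls_of_two_two (S : Sylow 2 G) (hS : Cfsg.IsWreathed ↥(S : Subgroup G)) (n : ℕ)
    (hn : Nat.card S = 2 ^ (2 * n + 1)) (U : Subgroup G) (hUS : U ≤ (S : Subgroup G))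
    (hUab : IsMulCommutative U) (hUcard : Nat.card U = 2 ^ (2 * n)) (Q : Subgroup G)
    (hQS : Q ≤ (S : Subgroup G)) (eQ : Q ≃* QuaternionGroup 2)
    (h₁ : (Subgroup.centralizer (U : Set G)).relIndex (Subgroup.normalizer (U : Set G)) = 2)
    (h₂ : (Q ⊔ Zc S ⊔ Subgroup.centralizer ((Q ⊔ Zc S : Subgroup G) : Set G)).relIndex
        (Subgroup.normalizer ((Q ⊔ Zc S : Subgroup G) : Set G)) = 2) :
    Cfsg.Agent.Lib.Lead.Frobenius.Controls (S : Subgroup G) := by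
  haveI : Fact (Nat.Prime 2) := ⟨Nat.prime_two⟩
  obtain ⟨x, y, z, h, σ, hU₀, hV₀⟩ := setup S hS n hn U hUS hUab hUcard Q hQS eQ
  have hVS : Q ⊔ Zc S ≤ (S : Subgroup G) := sup_le hQS (Zc_le S)
  intro a ha g hg
  have key := ag_induction S (fun a b => ∃ s ∈ (S : Subgroup G), b = s⁻¹ * a * s)
    (fun a => ⟨1, Subgroup.one_mem _, by group⟩)
    (fun a b c' ⟨s₁, hs₁, h1⟩ ⟨s₂, hs₂, h2⟩ =>
      ⟨s₁ * s₂, Subgroup.mul_mem _ hs₁ hs₂, by rw [h2, h1]; group⟩)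
    (fun X hX k hk a ha => by
      rcases CR_classify S h X hX with rfl | hXU | ⟨σ', hXW⟩
      · obtain ⟨s, hs, hsa⟩ := lc_S S h U hUS hU₀ hUab k hk
        exact ⟨s, hs, hsa a ha⟩
      · have hXeq : X = U := by
          rw [← Subgroup.map_subgroupOf_eq_of_le hX.1.1, ← Subgroup.map_subgroupOf_eq_of_le hUS,
            hXU, hU₀]
        subst hXeq
        obtain ⟨s, hs, hsa⟩ := lc_U S h X hUS hU₀ h₁ k hk
        exact ⟨s, hs, hsa a ha⟩
      · obtain ⟨s, hs, hsa⟩ := lc_W S h (Q ⊔ Zc S) hVS σ hV₀ h₂ X hX.1.1 σ' hXW k hk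
        exact ⟨s, hs, hsa a ha⟩)
    a ha g⁻¹ (by rw [inv_inv]; exact hg)
  obtain ⟨s, hs, hsa⟩ := key
  rw [inv_inv] at hsa
  exact ⟨s⁻¹, Subgroup.inv_mem _ hs, by rw [inv_inv]; exact hsa.symm⟩

/-- **the case `(2, 2)`** -/
theorem nilpotent_case (S : Sylow 2 G) (hS : Cfsg.IsWreathed ↥(S : Subgroup G)) (n : ℕ)
    (hn : Nat.card S = 2 ^ (2 * n + 1)) (U : Subgroup G) (hUS : U ≤ (S : Subgroup G))
    (hUab : IsMulCommutative U) (hUcard : Nat.card U = 2 ^ (2 * n)) (Q : Subgroup G)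
    (hQS : Q ≤ (S : Subgroup G)) (eQ : Q ≃* QuaternionGroup 2)
    (h₁ : (Subgroup.centralizer (U : Set G)).relIndex (Subgroup.normalizer (U : Set G)) = 2)
    (h₂ : (Q ⊔ Zc S ⊔ Subgroup.centralizer ((Q ⊔ Zc S : Subgroup G) : Set G)).relIndex
        (Subgroup.normalizer ((Q ⊔ Zc S : Subgroup G) : Set G)) = 2) :
    Cfsg.HasNormalPComplement 2 G ∧
      Nat.card {C : ConjClasses G // ∃ t : G, orderOf t = 2 ∧ ConjClasses.mk t = C} = 3 := by
  haveI : Fact (Nat.Prime 2) := ⟨Nat.prime_two⟩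
  have hctl := controls_of_two_two S hS n hn U hUS hUab hUcard Q hQS eQ h₁ h₂
  refine ⟨Cfsg.Agent.Lib.Lead.Frobenius.hasNormalPComplement_of_controls S hctl, ?_⟩
  obtain ⟨x, y, z, h, σ, hU₀, hV₀⟩ := setup S hS n hn U hUS hUab hUcard Q hQS eQ
  have hnn := h.hn
  have hζU : ((A n x y (Cfsg.Agent.Lead.QD.c n) (Cfsg.Agent.Lead.QD.c n) : ↥(S : Subgroup G)) : G)
      ∈ U := (mem_U_amb S h U hUS hU₀ _).2 ⟨_, _, rfl⟩
  have ht₁U : ((A n x y (Cfsg.Agent.Lead.QD.c n) 0 : ↥(S : Subgroup G)) : G) ∈ U :=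
    (mem_U_amb S h U hUS hU₀ _).2 ⟨_, _, rfl⟩
  have hzU := z_not_mem_U S h U hUS hU₀
  have hSN := S_le_normalizer_U S h U hUS hU₀
  -- conjugates of the central involution in `S`
  have hζc : ∀ s ∈ (S : Subgroup G),
      s * ((A n x y (Cfsg.Agent.Lead.QD.c n) (Cfsg.Agent.Lead.QD.c n) : ↥(S : Subgroup G)) : G) * s⁻¹
      = ((A n x y (Cfsg.Agent.Lead.QD.c n) (Cfsg.Agent.Lead.QD.c n) : ↥(S : Subgroup G)) : G) := by
    intro s hs
    have h1 := Subgroup.mem_center_iff.1 ((mem_center_iff h _).2 ⟨Cfsg.Agent.Lead.QD.c n, rfl⟩)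
      (⟨s, hs⟩ : ↥(S : Subgroup G))
    have h2 := congrArg Subtype.val h1
    simp only [Subgroup.coe_mul] at h2
    rw [h2]; group
  apply card_classes_three 2 _ _ _ (orderOf_zeta S h) (orderOf_t1 S h) (orderOf_zG S h)
  · intro g hg
    obtain ⟨s, hs, hsa⟩ := hctl _ (hUS hζU) g (by rw [hg]; exact hUS ht₁U)
    rw [hζc s hs, hg] at hsa
    have : A n x y (Cfsg.Agent.Lead.QD.c n) (Cfsg.Agent.Lead.QD.c n)
        = A n x y (Cfsg.Agent.Lead.QD.c n) 0 := Subtype.ext hsa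
    exact c_ne hnn (A_inj h this).2
  · intro g hg
    obtain ⟨s, hs, hsa⟩ := hctl _ (hUS hζU) g (by rw [hg]; exact z.2)
    rw [hζc s hs, hg] at hsa
    apply hzU
    rw [← hsa]; exact hζU
  · intro g hg
    obtain ⟨s, hs, hsa⟩ := hctl _ (hUS ht₁U) g (by rw [hg]; exact z.2)
    apply hzU
    rw [← hg, ← hsa]
    exact ((Subgroup.mem_normalizer_iff.1 (hSN hs)) _).1 ht₁U
  · exact invol_G S h

end Cfsg.Agent.H2.WrAmb
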