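import Mathlib
import Cfsg.Agent.H2.WrCR3
import Cfsg.Agent.Lib.Lead.TransferIndexTwo

/-!
# Wreathed Sylow 2-subgroups: the case `(6, 2)` (helper2)
-/

set_option autoImplicit false
set_option linter.style.haveILetI false
set_option linter.unusedSectionVars false
set_option linter.unusedVariables false

namespace Cfsg.Agent.H2.WrAmb

open Cfsg.Agent.Lead.QD (P c d)
open Cfsg.Agent.Lead.Wr
open Cfsg.Agent.H2.WrSC
open Cfsg.Agent.Lib.Lead.AlperinGoldschmidt Cfsg.Agent.Lib.Lead.ConjFamily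

universe u

variable {G : Type u} [Group G] [Finite G]

/-- elements of odd order lie in every subgroup of index two -/
theorem mem_of_odd_of_index_two (M : Subgroup G) (hM : M.index = 2) (θ : G)
    (hodd : (orderOf θ).Coprime 2) : θ ∈ M := by
  have hodd' : Odd (orderOf θ) := Nat.coprime_two_right.1 hodd
  obtain ⟨k, hk⟩ := hodd'
  have h1 : θ = (θ ^ 2) ^ (k + 1) * (θ ^ orderOf θ)⁻¹ := by
    rw [hk, ← pow_mul]
    have : 2 * (k + 1) = (2 * k + 1) + 1 := by ring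
    rw [this, pow_succ]
    group
  rw [h1, pow_orderOf_eq_one, inv_one, mul_one]
  exact M.pow_mem (Subgroup.sq_mem_of_index_two hM θ) _

section U

variable (S : Sylow 2 G) {n : ℕ} {x y z : ↥(S : Subgroup G)} (h : WDat n x y z)
  (U : Subgroup G) (hUS : U ≤ (S : Subgroup G))
  (hU₀ : U.subgroupOf (S : Subgroup G) = Cfsg.Agent.Lead.Wr.U h)

include hUS hU₀ in
/-- every element of `U` is a commutator with an element of odd order acting nontrivially -/
theorem exists_comm_eq (hUab : IsMulCommutative U) (θ : G)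
    (hθ : θ ∈ Subgroup.normalizer (U : Set G)) (hodd : (orderOf θ).Coprime 2)
    (hθC : θ ∉ Subgroup.centralizer (U : Set G)) :
    ∀ u ∈ U, ∃ u' ∈ U, θ * u' * θ⁻¹ * u'⁻¹ = u := by
  have hconjU : ∀ u ∈ U, θ * u * θ⁻¹ ∈ U := fun u hu =>
    ((Subgroup.mem_normalizer_iff.1 hθ) u).1 hu
  have hfp : ∀ w ∈ U, θ * w * θ⁻¹ = w → w = 1 := by
    intro w hw hfix
    by_contra hw1
    obtain ⟨e, he1, hee⟩ := exists_pow_invol w (two_elt_of_mem S w (hUS hw)) hw1
    apply hθC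
    apply odd_fix_invol S h U hUS hU₀ hUab θ hθ hodd (w ^ e) (U.pow_mem hw e) hee he1
    rw [← conj_pow, hfix]
  let δ : ↥U → ↥U := fun u => ⟨θ * u * θ⁻¹ * (u : G)⁻¹, U.mul_mem (hconjU u u.2) (U.inv_mem u.2)⟩
  have hδinj : Function.Injective δ := by
    intro u u' huu
    have h1 : θ * u * θ⁻¹ * (u : G)⁻¹ = θ * u' * θ⁻¹ * (u' : G)⁻¹ := congrArg Subtype.val huu
    have h2 : θ * ((u' : G)⁻¹ * u) * θ⁻¹ = (u' : G)⁻¹ * u := by
      have h3 : θ * ((u' : G)⁻¹ * u) * θ⁻¹ = (θ * u' * θ⁻¹)⁻¹ * (θ * u * θ⁻¹) := by group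
      rw [h3]
      have h4 : θ * u * θ⁻¹ = θ * u' * θ⁻¹ * (u' : G)⁻¹ * u := by
        rw [← h1]; group
      rw [h4]
      group
    have h5 := hfp _ (U.mul_mem (U.inv_mem u'.2) u.2) h2
    apply Subtype.ext
    calc (u : G) = u' * ((u' : G)⁻¹ * u) := by group
      _ = u' := by rw [h5, mul_one]
  have hδsurj : Function.Surjective δ := Finite.injective_iff_surjective.1 hδinj
  intro u hu
  obtain ⟨u', hu'⟩ := hδsurj ⟨u, hu⟩
  exact ⟨u', u'.2, congrArg Subtype.val hu'⟩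

include hUS hU₀ in
theorem relIndex_U_S : U.relIndex (S : Subgroup G) = 2 := by
  unfold Subgroup.relIndex
  rw [hU₀]
  exact index_U h

end U

/-- **the case `(6, 2)`** -/
theorem abelian_case (S : Sylow 2 G) (hS : Cfsg.IsWreathed ↥(S : Subgroup G)) (n : ℕ)
    (hn : Nat.card S = 2 ^ (2 * n + 1)) (U : Subgroup G) (hUS : U ≤ (S : Subgroup G))
    (hUab : IsMulCommutative U) (hUcard : Nat.card U = 2 ^ (2 * n)) (Q : Subgroup G)
    (hQS : Q ≤ (S : Subgroup G)) (eQ : Q ≃* QuaternionGroup 2)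
    (h₁ : (Subgroup.centralizer (U : Set G)).relIndex (Subgroup.normalizer (U : Set G)) = 6)
    (h₂ : (Q ⊔ Zc S ⊔ Subgroup.centralizer ((Q ⊔ Zc S : Subgroup G) : Set G)).relIndex
        (Subgroup.normalizer ((Q ⊔ Zc S : Subgroup G) : Set G)) = 2) :
    (∃ K : Subgroup G, K.Normal ∧ K.index = 2 ∧ U ≤ K ∧ (∀ H : Subgroup ↥K, H.index ≠ 2)) ∧
      Nat.card {C : ConjClasses G // ∃ t : G, orderOf t = 2 ∧ ConjClasses.mk t = C} = 2 := by
  haveI : Fact (Nat.Prime 2) := ⟨Nat.prime_two⟩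
  obtain ⟨x, y, z, h, σ, hU₀, hV₀⟩ := setup S hS n hn U hUS hUab hUcard Q hQS eQ
  have hVS : Q ⊔ Zc S ≤ (S : Subgroup G) := sup_le hQS (Zc_le S)
  have hSN := S_le_normalizer_U S h U hUS hU₀
  -- `U` and its complement in `S` are closed under fusion
  have hcl : ∀ s ∈ (S : Subgroup G), ∀ g : G, g⁻¹ * s * g ∈ (S : Subgroup G) →
      (g⁻¹ * s * g ∈ U ↔ s ∈ U) := by
    intro a ha g hg
    have hconjS : ∀ s ∈ (S : Subgroup G), ∀ a : G, (s⁻¹ * a * s ∈ U ↔ a ∈ U) := by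
      intro s hs a
      have h1 := (Subgroup.mem_normalizer_iff.1 (hSN (Subgroup.inv_mem _ hs))) a
      rw [inv_inv] at h1
      exact h1.symm
    exact ag_induction S (fun a b => (b ∈ U ↔ a ∈ U))
      (fun a => Iff.rfl)
      (fun a b c' h1 h2 => h2.trans h1)
      (fun X hX k hk a ha => by
        rcases CR_classify S h X hX with rfl | hXU | ⟨σ', hXW⟩
        · obtain ⟨s, hs, hsa⟩ := lc_S S h U hUS hU₀ hUab k hk
          rw [hsa a ha]
          exact hconjS s hs a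
        · have hXeq : X = U := by
            rw [← Subgroup.map_subgroupOf_eq_of_le hX.1.1,
              ← Subgroup.map_subgroupOf_eq_of_le hUS, hXU, hU₀]
          subst hXeq
          have h1 := ((Subgroup.mem_normalizer_iff.1 (Subgroup.inv_mem _ hk)) a).1 ha
          rw [inv_inv] at h1
          exact ⟨fun _ => ha, fun _ => h1⟩
        · obtain ⟨s, hs, hsa⟩ := lc_W S h (Q ⊔ Zc S) hVS σ hV₀ h₂ X hX.1.1 σ' hXW k hk
          rw [hsa a ha]
          exact hconjS s hs a)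
      a ha g hg
  obtain ⟨M, hMn, hM2, hMS⟩ := Cfsg.Agent.Lead.Transfer2.transfer_index_two S U hUS
    (relIndex_U_S S h U hUS hU₀) hcl
  have hUM : U ≤ M := fun u hu => (hMS u (hUS hu)).2 hu
  obtain ⟨θ, hθ, hodd, hθC⟩ := exists_odd_of_six _ _ h₁
  have hθM : θ ∈ M := mem_of_odd_of_index_two M hM2 θ hodd
  constructor
  · refine ⟨M, hMn, hM2, hUM, ?_⟩
    intro H hH
    -- `U ≤ H`
    have hUH : ∀ u (hu : u ∈ U), (⟨u, hUM hu⟩ : ↥M) ∈ H := by
      intro u hu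
      obtain ⟨u', hu', he⟩ := exists_comm_eq S h U hUS hU₀ hUab θ hθ hodd hθC u hu
      have := comm_mem_of_index_two H hH (⟨θ, hθM⟩ : ↥M) ⟨u', hUM hu'⟩
      have e : (⟨θ, hθM⟩ : ↥M) * ⟨u', hUM hu'⟩ * (⟨θ, hθM⟩ : ↥M)⁻¹ * (⟨u', hUM hu'⟩ : ↥M)⁻¹
          = ⟨u, hUM hu⟩ := Subtype.ext he
      rwa [e] at this
    have hcard1 : Nat.card ↥U ∣ Nat.card ↥H := by
      have hle : (U.subgroupOf M) ≤ H := by
        intro m hm
        exact hUH _ (Subgroup.mem_subgroupOf.1 hm)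
      have := Subgroup.card_dvd_of_le hle
      rwa [Nat.card_congr (Subgroup.subgroupOfEquivOfLe hUM).toEquiv] at this
    have hcard2 : Nat.card ↥H * 2 = Nat.card ↥M := by
      rw [← hH]; exact H.card_mul_index
    have hcard3 : Nat.card ↥M * 2 = Nat.card G := by
      rw [← hM2]; exact M.card_mul_index
    have h4 : 2 ^ (2 * n + 1 + 1) ∣ Nat.card G := by
      rw [← hcard3, ← hcard2]
      have e : 2 ^ (2 * n + 1 + 1) = 2 ^ (2 * n) * 2 * 2 := by ring
      rw [e, ← hUcard]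
      exact Nat.mul_dvd_mul_right (Nat.mul_dvd_mul_right hcard1 2) 2
    exact not_dvd_card_of_sylow S (2 * n + 1) hn h4
  · obtain ⟨g₁, hg₁⟩ := fuse_zeta S h U hUS hU₀ hUab h₁
    have hζU : ((A n x y (Cfsg.Agent.Lead.QD.c n) (Cfsg.Agent.Lead.QD.c n) : ↥(S : Subgroup G)) : G)
        ∈ U := (mem_U_amb S h U hUS hU₀ _).2 ⟨_, _, rfl⟩
    apply Cfsg.Agent.Lead.QD.card_classes_two 2 _ _ (orderOf_zeta S h) (orderOf_zG S h)
    · intro g hg
      have h1 : ((z : ↥(S : Subgroup G)) : G) ∈ M := by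
        rw [← hg]
        exact hMn.conj_mem _ (hUM hζU) g
      exact z_not_mem_U S h U hUS hU₀ ((hMS _ z.2).1 h1)
    · intro t ht
      rcases invol_G S h t ht with ⟨g, hg⟩ | ⟨g, hg⟩ | ⟨g, hg⟩
      · exact Or.inl ⟨g, hg⟩
      · left
        refine ⟨g₁⁻¹ * g, ?_⟩
        have e : g * t * g⁻¹ = g₁ * ((A n x y (Cfsg.Agent.Lead.QD.c n) (Cfsg.Agent.Lead.QD.c n) :
            ↥(S : Subgroup G)) : G) * g₁⁻¹ := by rw [hg, hg₁]
        have e2 : g₁⁻¹ * g * t * (g₁⁻¹ * g)⁻¹ = g₁⁻¹ * (g * t * g⁻¹) * g₁ := by group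
        rw [e2, e]
        group
      · exact Or.inr ⟨g, hg⟩

end Cfsg.Agent.H2.WrAmb
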