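import Mathlib
import Cfsg.Agent.H2.WrAmb2
import Cfsg.Agent.H2.UniqueOrderP

/-!
# Wreathed 2-groups: the "determinant" and its kernel, a generalized quaternion group (helper2)
-/

set_option autoImplicit false
set_option linter.style.haveILetI false
set_option linter.unusedSectionVars false
set_option linter.unusedVariables false

namespace Cfsg.Agent.H2.WrAmb

open Cfsg.Agent.Lead.QD (P c d)
open Cfsg.Agent.Lead.Wr
open Cfsg.Agent.H2.WrSC

universe u

variable {S : Type u} [Group S] [Finite S] {n : ℕ} {x y z : S}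

open Classical in
/-- the "determinant" as a function -/
noncomputable def lamFun (h : WDat n x y z) (s : S) : ZMod (2 ^ n) :=
  if hs : ∃ a b, s = A n x y a b then hs.choose + hs.choose_spec.choose
  else if hs' : ∃ p q, s = z * A n x y p q then hs'.choose + hs'.choose_spec.choose + c n else 0

theorem lamFun_A (h : WDat n x y z) (a b : ZMod (2 ^ n)) : lamFun h (A n x y a b) = a + b := by
  have hs : ∃ a' b', A n x y a b = A n x y a' b' := ⟨a, b, rfl⟩
  unfold lamFun
  rw [dif_pos hs]
  obtain ⟨h1, h2⟩ := A_inj h hs.choose_spec.choose_spec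
  exact (congrArg₂ (· + ·) h1 h2).symm

theorem lamFun_zA (h : WDat n x y z) (p q : ZMod (2 ^ n)) :
    lamFun h (z * A n x y p q) = p + q + c n := by
  have hs : ¬ ∃ a' b', z * A n x y p q = A n x y a' b' := by
    rintro ⟨a', b', hab⟩
    exact z_ne_A h p q a' b' hab
  have hs' : ∃ p' q', z * A n x y p q = z * A n x y p' q' := ⟨p, q, rfl⟩
  unfold lamFun
  rw [dif_neg hs, dif_pos hs']
  obtain ⟨h1, h2⟩ := zA_inj h hs'.choose_spec.choose_spec
  exact congrArg (· + c n) (congrArg₂ (· + ·) h1 h2).symm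

/-- the "determinant" -/
noncomputable def lam (h : WDat n x y z) : S →* Multiplicative (ZMod (2 ^ n)) :=
  MonoidHom.mk' (fun s => Multiplicative.ofAdd (lamFun h s)) (by
    have hn := h.hn
    intro s t
    rw [← ofAdd_add]
    congr 1
    rcases mem_cases h s with ⟨a, b, rfl⟩ | ⟨p, q, rfl⟩ <;>
      rcases mem_cases h t with ⟨a', b', rfl⟩ | ⟨p', q', rfl⟩
    · rw [A_mul h, lamFun_A, lamFun_A, lamFun_A]; ring
    · rw [A_mul_zA h, lamFun_A, lamFun_zA, lamFun_zA]; ring
    · rw [zA_mul_A h, lamFun_A, lamFun_zA, lamFun_zA]; ring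
    · rw [zA_mul_zA h, lamFun_A, lamFun_zA, lamFun_zA]
      linear_combination -(c_add_c hn))

theorem lam_A (h : WDat n x y z) (a b : ZMod (2 ^ n)) :
    lam h (A n x y a b) = Multiplicative.ofAdd (a + b) := by
  show Multiplicative.ofAdd (lamFun h (A n x y a b)) = _
  rw [lamFun_A]

theorem lam_zA (h : WDat n x y z) (p q : ZMod (2 ^ n)) :
    lam h (z * A n x y p q) = Multiplicative.ofAdd (p + q + c n) := by
  show Multiplicative.ofAdd (lamFun h (z * A n x y p q)) = _
  rw [lamFun_zA]

/-- the kernel of the determinant -/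
noncomputable def S0 (h : WDat n x y z) : Subgroup S := (lam h).ker

theorem A_mem_S0 (h : WDat n x y z) (a b : ZMod (2 ^ n)) : A n x y a b ∈ S0 h ↔ a + b = 0 := by
  unfold S0
  rw [MonoidHom.mem_ker, lam_A]
  exact ofAdd_eq_one

theorem zA_mem_S0 (h : WDat n x y z) (p q : ZMod (2 ^ n)) :
    z * A n x y p q ∈ S0 h ↔ p + q = c n := by
  have hn := h.hn
  unfold S0
  rw [MonoidHom.mem_ker, lam_zA]
  rw [ofAdd_eq_one]
  constructor
  · intro h1
    linear_combination h1 - c_add_c hn
  · intro h1
    linear_combination h1 + c_add_c hn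

theorem lam_surjective (h : WDat n x y z) : Function.Surjective (lam h) := by
  intro a
  refine ⟨A n x y (Multiplicative.toAdd a) 0, ?_⟩
  rw [lam_A, add_zero]
  rfl

theorem card_S0 (h : WDat n x y z) : Nat.card (S0 h) = 2 ^ (n + 1) := by
  have h1 := (S0 h).card_mul_index
  have h2 : (S0 h).index = 2 ^ n := by
    unfold S0
    rw [Subgroup.index_ker, MonoidHom.range_eq_top.2 (lam_surjective h), Subgroup.card_top]
    have : Nat.card (Multiplicative (ZMod (2 ^ n))) = Nat.card (ZMod (2 ^ n)) :=
      Nat.card_congr Multiplicative.toAdd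
    rw [this, Nat.card_eq_fintype_card, ZMod.card]
  rw [h2, h.card] at h1
  have e : 2 ^ (2 * n + 1) = 2 ^ (n + 1) * 2 ^ n := by
    rw [← pow_add]; congr 1; omega
  rw [e] at h1
  exact Nat.eq_of_mul_eq_mul_right (by positivity) h1

/-- the only involution of the kernel -/
theorem S0_invol (h : WDat n x y z) (s : S) (hs : s ∈ S0 h) (hss : s * s = 1) (hs1 : s ≠ 1) :
    s = A n x y (c n) (c n) := by
  have hn := h.hn
  rcases mem_cases h s with ⟨a, b, rfl⟩ | ⟨p, q, rfl⟩
  · rw [A_mem_S0] at hs
    rw [A_sq h] at hss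
    obtain ⟨h2, h3⟩ := A_eq_one h hss
    rcases (two_mul_eq_zero hn a).1 h2 with rfl | rfl
    · exfalso
      apply hs1
      have : b = 0 := by linear_combination hs
      rw [this]; exact A_zero
    · have : b = c n := by linear_combination hs - c_add_c hn
      rw [this]
  · exfalso
    rw [zA_mem_S0] at hs
    rw [zA_sq h, hs] at hss
    exact c_ne hn (A_eq_one h hss).1

/-- the kernel is a generalized quaternion group -/
theorem S0_quat (h : WDat n x y z) :
    ∃ m : ℕ, 1 ≤ m ∧ Nonempty (↥(S0 h) ≃* QuaternionGroup (2 ^ m)) := by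
  have hn := h.hn
  haveI : Fact (Nat.Prime 2) := ⟨Nat.prime_two⟩
  have hp : IsPGroup 2 ↥(S0 h) := IsPGroup.of_card (card_S0 h)
  have hζ : A n x y (c n) (c n) ∈ S0 h := by rw [A_mem_S0]; exact c_add_c hn
  have hζ1 : A n x y (c n) (c n) ≠ 1 := A_ne_one h (Or.inl (c_ne hn))
  have huniq : ∀ H K : Subgroup ↥(S0 h), Nat.card H = 2 → Nat.card K = 2 → H = K := by
    have key : ∀ H : Subgroup ↥(S0 h), Nat.card H = 2 →
        H = Subgroup.zpowers (⟨A n x y (c n) (c n), hζ⟩ : ↥(S0 h)) := by
      intro H hH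
      have hne : H ≠ ⊥ := by
        intro hb
        rw [hb, Subgroup.card_bot] at hH
        omega
      obtain ⟨t, ht1⟩ := (Subgroup.ne_bot_iff_exists_ne_one).1 hne
      have ht2 : t ^ 2 = 1 := by
        have := pow_card_eq_one' (G := ↥H) (x := t)
        rwa [hH] at this
      have ht2' : ((t : ↥(S0 h)) : S) * ((t : ↥(S0 h)) : S) = 1 := by
        have := congrArg (fun w : ↥H => ((w : ↥(S0 h)) : S)) ht2
        simpa [pow_two] using this
      have ht1' : ((t : ↥(S0 h)) : S) ≠ 1 := by
        intro h1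
        apply ht1
        apply Subtype.ext
        apply Subtype.ext
        exact h1
      have hteq := S0_invol h _ (t : ↥(S0 h)).2 ht2' ht1'
      symm
      apply Subgroup.eq_of_le_of_card_ge
      · rw [Subgroup.zpowers_le]
        have : (⟨A n x y (c n) (c n), hζ⟩ : ↥(S0 h)) = (t : ↥(S0 h)) := Subtype.ext hteq.symm
        rw [this]; exact t.2
      · rw [hH, Nat.card_zpowers]
        have : orderOf (⟨A n x y (c n) (c n), hζ⟩ : ↥(S0 h)) = 2 := by
          apply orderOf_eq_prime
          · apply Subtype.ext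
            rw [Subgroup.coe_pow, pow_two]
            show A n x y (c n) (c n) * A n x y (c n) (c n) = 1
            rw [A_sq h, two_c hn, A_zero]
          · intro h1
            exact hζ1 (congrArg Subtype.val h1)
        rw [this]
    intro H K hH hK
    rw [key H hH, key K hK]
  rcases Cfsg.Agent.H2.UOP.main 2 hp huniq with hcyc | ⟨-, m, ⟨e⟩⟩
  · exfalso
    -- not commutative
    have hu : A n x y (d n) (-d n) ∈ S0 h := by rw [A_mem_S0]; ring
    have hv : z * A n x y 0 (c n) ∈ S0 h := by rw [zA_mem_S0]; ring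
    haveI := hcyc
    have hcomm := IsCyclic.isMulCommutative (α := ↥(S0 h))
    have h1 := hcomm.is_comm.comm (⟨_, hu⟩ : ↥(S0 h)) ⟨_, hv⟩
    have h2 : A n x y (d n) (-d n) * (z * A n x y 0 (c n))
        = (z * A n x y 0 (c n)) * A n x y (d n) (-d n) := congrArg Subtype.val h1
    have h3 := comm_A_zA h _ _ _ _ h2
    apply c_ne hn
    rw [← two_d hn]
    linear_combination h3
  · refine ⟨m, ?_, ⟨e⟩⟩
    have h1 : Nat.card ↥(S0 h) = Nat.card (QuaternionGroup (2 ^ m)) := Nat.card_congr e.toEquiv
    rw [card_S0 h, Nat.card_eq_fintype_card, QuaternionGroup.card] at h1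
    by_contra hm
    have hm0 : m = 0 := by omega
    subst hm0
    have h2 : 2 ^ (n + 1) ≥ 2 ^ 3 := Nat.pow_le_pow_right (by norm_num) (by omega)
    omega

section W

variable (h : WDat n x y z) (σ : ZMod (2 ^ n))

/-- characterization of the elements of `Q Z(S)` in the kernel -/
theorem mem_S0_iff_of_mem_Wsub (s : S) (hs : s ∈ Wsub h σ) :
    s ∈ S0 h ↔ (s ^ 4 = 1 ∧ (s ∈ Subgroup.center S ↔ s * s = 1)) := by
  have hn := h.hn
  have e4 : ∀ t : S, t ^ 4 = (t * t) * (t * t) := fun t => by
    rw [show 4 = 2 + 2 from rfl, pow_add, pow_two]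
  rcases mem_cases h s with ⟨a, b, rfl⟩ | ⟨p, q, rfl⟩
  · have hab := (A_mem_Wsub h σ a b).1 hs
    rw [A_mem_S0, e4, A_sq h, A_sq h, mem_center_iff h, A_eq_one_iff h, A_eq_one_iff h]
    constructor
    · intro h1
      have hb : b = -a := by linear_combination h1
      subst hb
      have h4a : 4 * a = 0 := by linear_combination hab
      refine ⟨⟨by linear_combination h4a, by linear_combination -h4a⟩, ?_, ?_⟩
      · rintro ⟨e, he⟩
        obtain ⟨h2, h3⟩ := A_inj h he
        have : 2 * a = 0 := by linear_combination h2 - h3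
        exact ⟨this, by linear_combination -this⟩
      · rintro ⟨h2, -⟩
        refine ⟨a, ?_⟩
        congr 1
        linear_combination -h2
    · rintro ⟨⟨h4a, h4b⟩, hiff⟩
      rcases (two_mul_eq_zero hn _).1 hab with h3 | h3
      · have hab' : a = b := sub_eq_zero.1 h3
        subst hab'
        have := (hiff.1 ⟨a, rfl⟩).1
        linear_combination this
      · have h2ab : 2 * a = 2 * b := by linear_combination hab
        have h2a : 2 * a ≠ 0 := by
          intro h5
          have h6 : 2 * b = 0 := by rw [← h2ab]; exact h5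
          obtain ⟨e, he⟩ := hiff.2 ⟨h5, h6⟩
          obtain ⟨h7, h8⟩ := A_inj h he
          apply c_ne hn
          linear_combination -h3 + h7 - h8
        have h2a' : 2 * a = c n := by
          rcases (two_mul_eq_zero hn (2 * a)).1 (by linear_combination h4a) with h5 | h5
          · exact absurd h5 h2a
          · exact h5
        linear_combination h2a' - h3
  · have hpq := (zA_mem_Wsub h σ p q).1 hs
    rw [zA_mem_S0, e4, zA_sq h, A_sq h, mem_center_iff h, A_eq_one_iff h, A_eq_one_iff h]
    have hnc : ¬ ∃ a, z * A n x y p q = A n x y a a := by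
      rintro ⟨a, ha⟩
      exact z_ne_A h p q a a ha
    constructor
    · intro h1
      refine ⟨⟨by rw [h1]; exact two_c hn, by rw [h1]; exact two_c hn⟩, ?_, ?_⟩
      · intro h2; exact absurd h2 hnc
      · rintro ⟨h2, -⟩
        rw [h1] at h2
        exact absurd h2 (c_ne hn)
    · rintro ⟨⟨h2, -⟩, hiff⟩
      rcases (two_mul_eq_zero hn _).1 h2 with h3 | h3
      · exact absurd (hiff.2 ⟨h3, h3⟩) hnc
      · exact h3

/-- every element of `Q Z(S)` is the product of an element in the kernel and a central element -/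
theorem exists_mul_of_mem_Wsub (s : S) (hs : s ∈ Wsub h σ) :
    ∃ q ∈ Wsub h σ, q ∈ S0 h ∧ ∃ ζ ∈ Subgroup.center S, s = q * ζ := by
  have hn := h.hn
  rcases mem_cases h s with ⟨a, b, rfl⟩ | ⟨p, q, rfl⟩
  · have hab := (A_mem_Wsub h σ a b).1 hs
    obtain ⟨e, he⟩ : ∃ e, 2 * e = a + b := by
      rcases (two_mul_eq_zero hn _).1 hab with h3 | h3
      · exact ⟨b, by linear_combination -h3⟩
      · exact ⟨b + d n, by linear_combination -h3 + two_d hn⟩
    refine ⟨A n x y (a - e) (b - e), ?_, ?_, A n x y e e, (mem_center_iff h _).2 ⟨e, rfl⟩, ?_⟩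
    · rw [A_mem_Wsub]; linear_combination hab
    · rw [A_mem_S0]; linear_combination -he
    · rw [A_mul h]; congr 1 <;> ring
  · have hpq := (zA_mem_Wsub h σ p q).1 hs
    obtain ⟨e, he⟩ : ∃ e, 2 * e = p + q + c n := by
      have h2 : 2 * (p - q - 2 * σ) = 0 := by linear_combination hpq
      rcases (two_mul_eq_zero hn _).1 h2 with h3 | h3
      · exact ⟨q + σ + d n, by linear_combination -h3 + two_d hn⟩
      · exact ⟨q + σ, by linear_combination -h3 - c_add_c hn⟩
    refine ⟨z * A n x y (p - e) (q - e), ?_, ?_, A n x y e e, (mem_center_iff h _).2 ⟨e, rfl⟩, ?_⟩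
    · rw [zA_mem_Wsub]; linear_combination hpq
    · rw [zA_mem_S0]; linear_combination -he - c_add_c hn
    · rw [zA_mul_A h]; congr 2 <;> ring

end W

end Cfsg.Agent.H2.WrAmb
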