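import Mathlib
import Cfsg.Agent.H2.WrQ1
import Cfsg.Agent.H2.WrCR4

/-!
# Wreathed Sylow 2-subgroups: the normalizer of `V = Q Z(S)` when `|N(V) : V C(V)| = 6` (helper2)
-/

set_option autoImplicit false
set_option linter.style.haveILetI false
set_option linter.unusedSectionVars false
set_option linter.unusedVariables false

namespace Cfsg.Agent.H2.WrAmb

open Cfsg.Agent.Lead.QD (P c d)
open Cfsg.Agent.Lead.Wr
open Cfsg.Agent.H2.WrSC

universe u

variable {G : Type u} [Group G] [Finite G]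

/-- an automorphism of odd order of a four-group fixing a nonidentity element is trivial -/
theorem klein_odd_fix {I : Type*} [Group I] [IsKleinFour I] (α : MulAut I)
    (hα : (orderOf α).Coprime 2) (i : I) (hi1 : i ≠ 1) (hfix : α i = i) : ∀ j : I, α j = j := by
  intro j
  by_cases hj1 : j = 1
  · rw [hj1, map_one]
  by_cases hji : j = i
  · rw [hji]; exact hfix
  have h1 : α j ≠ 1 := by
    intro h2
    apply hj1
    apply α.injective
    rw [h2, map_one]
  have h2 : α j ≠ i := by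
    intro h3
    apply hji
    apply α.injective
    rw [h3, hfix]
  by_contra h3
  have h4 : α j = i * j := IsKleinFour.eq_mul_of_ne_all hi1 hj1 (Ne.symm hji) h1 h2 h3
  have h5 : α (i * j) = j := by
    rw [map_mul, hfix, h4, ← mul_assoc, IsKleinFour.mul_self, one_mul]
  have h6 := eq_of_swap α hα h4 h5
  apply hi1
  have : 1 * j = i * j := by rw [one_mul]; exact h6
  exact (mul_right_cancel this).symm

section V

variable (S : Sylow 2 G) {n : ℕ} {x y z : ↥(S : Subgroup G)} (h : WDat n x y z)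
  (V : Subgroup G) (hVS : V ≤ (S : Subgroup G)) (σ : ZMod (2 ^ n))
  (hV₀ : V.subgroupOf (S : Subgroup G) = Wsub h σ)

include hVS hV₀ in
/-- an element of odd order of `N(V)` acting trivially on `V / Z(S)` centralizes `V` -/
theorem odd_mem_centralizer_of_mod (g : G) (hg : g ∈ Subgroup.normalizer (V : Set G))
    (hodd : (orderOf g).Coprime 2) (hmod : ∀ v ∈ V, v⁻¹ * (g * v * g⁻¹) ∈ Zc S) :
    g ∈ Subgroup.centralizer (V : Set G) := by
  have hα : (orderOf (MulAut.conj g)).Coprime 2 :=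
    Nat.Coprime.coprime_dvd_left (orderOf_map_dvd (MulAut.conj : G →* MulAut G) g) hodd
  have hZ := odd_fixes_Zc S h V hVS σ hV₀ g hg hodd
  rw [Subgroup.mem_centralizer_iff]
  intro v hv
  have := fixes_of_fixes_mod' (MulAut.conj g) hα (Zc S)
    (fun s hs => two_elt_of_mem S s (Zc_le S hs)) hZ v (by rw [MulAut.conj_apply]; exact hmod v hv)
  rw [MulAut.conj_apply] at this
  calc v * g = (g * v * g⁻¹) * g := by rw [this]
    _ = g * v := by group

include hVS hV₀ in
/-- an element of odd order of `N(V)` fixing a noncentral element of `V` centralizes `V` -/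
theorem odd_fix_noncentral (φ : G) (hφ : φ ∈ Subgroup.normalizer (V : Set G))
    (hodd : (orderOf φ).Coprime 2) (w : G) (hwV : w ∈ V) (hwZ : w ∉ Zc S)
    (hfix : φ * w * φ⁻¹ = w) : φ ∈ Subgroup.centralizer (V : Set G) := by
  haveI hInorm : (MulAut.conj : ↥V →* MulAut ↥V).range.Normal := range_conj_normal
  haveI hK4 : IsKleinFour ↥(MulAut.conj : ↥V →* MulAut ↥V).range := isKleinFour_inn S h V hVS σ hV₀
  let ψ : ↥(Subgroup.normalizer (V : Set G)) →* MulAut ↥V := Subgroup.normalizerMonoidHom V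
  let ρ : ↥(Subgroup.normalizer (V : Set G)) →* MulAut ↥(MulAut.conj : ↥V →* MulAut ↥V).range :=
    (MulAut.conjNormal (H := (MulAut.conj : ↥V →* MulAut ↥V).range)).comp ψ
  have hα : (orderOf (ρ ⟨φ, hφ⟩)).Coprime 2 := by
    have h1 := orderOf_map_dvd ρ (⟨φ, hφ⟩ : ↥(Subgroup.normalizer (V : Set G)))
    rw [Subgroup.orderOf_mk] at h1
    exact Nat.Coprime.coprime_dvd_left h1 hodd
  have hψ : ∀ v : ↥V, ((ψ ⟨φ, hφ⟩ v : ↥V) : G) = φ * v * φ⁻¹ := fun v => rfl
  have hρ : ∀ v : ↥V, ((ρ ⟨φ, hφ⟩ ⟨MulAut.conj v, v, rfl⟩ :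
      ↥(MulAut.conj : ↥V →* MulAut ↥V).range) : MulAut ↥V) = MulAut.conj (ψ ⟨φ, hφ⟩ v) := by
    intro v
    change ((MulAut.conjNormal (ψ ⟨φ, hφ⟩) ⟨MulAut.conj v, v, rfl⟩ :
      ↥(MulAut.conj : ↥V →* MulAut ↥V).range) : MulAut ↥V) = _
    rw [MulAut.conjNormal_apply, conj_mul_conj]
  have hi1 : (⟨MulAut.conj (⟨w, hwV⟩ : ↥V), ⟨w, hwV⟩, rfl⟩ :
      ↥(MulAut.conj : ↥V →* MulAut ↥V).range) ≠ 1 := by
    intro h1
    have h2 : (MulAut.conj (⟨w, hwV⟩ : ↥V) : MulAut ↥V) = 1 := congrArg Subtype.val h1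
    rw [conj_eq_one_iff S h V hVS σ hV₀] at h2
    exact hwZ h2
  have hfixi : ρ ⟨φ, hφ⟩ ⟨MulAut.conj (⟨w, hwV⟩ : ↥V), ⟨w, hwV⟩, rfl⟩
      = ⟨MulAut.conj (⟨w, hwV⟩ : ↥V), ⟨w, hwV⟩, rfl⟩ := by
    apply Subtype.ext
    rw [hρ]
    congr 1
    apply Subtype.ext
    rw [hψ]
    exact hfix
  have hall := klein_odd_fix (ρ ⟨φ, hφ⟩) hα _ hi1 hfixi
  apply odd_mem_centralizer_of_mod S h V hVS σ hV₀ φ hφ hodd
  intro v hv
  have h1 := congrArg Subtype.val (hall ⟨MulAut.conj (⟨v, hv⟩ : ↥V), ⟨v, hv⟩, rfl⟩)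
  rw [hρ] at h1
  have h2 : (MulAut.conj ((⟨v, hv⟩ : ↥V)⁻¹ * ψ ⟨φ, hφ⟩ ⟨v, hv⟩) : MulAut ↥V) = 1 := by
    rw [map_mul, h1, map_inv, inv_mul_cancel]
  rw [conj_eq_one_iff S h V hVS σ hV₀] at h2
  exact h2

include hVS hV₀ in
theorem mem_normalizer_Zc (g : G) (hg : g ∈ Subgroup.normalizer (V : Set G)) :
    g ∈ Subgroup.normalizer ((Zc S : Subgroup G) : Set G) :=
  Subgroup.mem_normalizer_fintype (fun s hs => conj_mem_Zc S h V hVS σ hV₀ g hg s hs)

include hVS hV₀ in
/-- if `|N(V) : V C(V)| = 6`, the normalizer of `V` centralizes `Z(S)` -/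
theorem normalizer_V_le_centralizer_Zc
    (h₂ : (V ⊔ Subgroup.centralizer (V : Set G)).relIndex (Subgroup.normalizer (V : Set G)) = 6) :
    Subgroup.normalizer (V : Set G) ≤ Subgroup.centralizer ((Zc S : Subgroup G) : Set G) := by
  set N := Subgroup.normalizer (V : Set G) with hN
  set K := V ⊔ Subgroup.centralizer (V : Set G) with hK
  set CZ := Subgroup.centralizer ((Zc S : Subgroup G) : Set G) with hCZ
  have hKN : K ≤ N := sup_le Subgroup.le_normalizer (Subgroup.centralizer_le_normalizer _)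
  have hKCZ : K ≤ CZ := by
    apply sup_le
    · rw [hCZ, Subgroup.le_centralizer_iff]
      exact Zc_le_centralizer S V hVS
    · exact Subgroup.centralizer_le (Zc_le_V S h V σ hV₀)
  haveI hKn : (K.subgroupOf N).Normal := Cfsg.Agent.Lead.QD.sup_centralizer_normal V
  have hNK : N ≤ Subgroup.normalizer (K : Set G) :=
    (Subgroup.normal_subgroupOf_iff_le_normalizer hKN).1 hKn
  set N₁ := CZ ⊓ N with hN₁
  haveI : (K.subgroupOf N₁).Normal :=
    Subgroup.normal_subgroupOf_of_le_normalizer (inf_le_right.trans hNK)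
  have haN := Ad_mem_normalizer_V S h V hVS σ hV₀
  have h1 : 2 ∣ K.relIndex N₁ := by
    apply Cfsg.Agent.Lead.QD.two_dvd_relIndex_of _ _ ((A n x y (d n) 0 : ↥(S : Subgroup G)) : G)
    · refine ⟨?_, haN⟩
      show ((A n x y (d n) 0 : ↥(S : Subgroup G)) : G) ∈ Subgroup.centralizer ((Zc S : Subgroup G) : Set G)
      rw [Subgroup.mem_centralizer_iff]
      intro s hs
      have := Zc_le_centralizer S (S : Subgroup G) le_rfl hs
      rw [Subgroup.mem_centralizer_iff] at this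
      exact (this _ (A n x y (d n) 0).2).symm
    · apply (le_sup_left : V ≤ K)
      have := (coe_mem_V S h V σ hV₀ _).2 (Ad_sq_mem h σ)
      simpa using this
    · exact Ad_not_mem_K S h V hVS σ hV₀
  have h2 := Subgroup.relIndex_mul_relIndex K N₁ N (le_inf hKCZ hKN) inf_le_right
  rw [h₂] at h2
  haveI : (CZ.subgroupOf N).Normal := by
    apply Subgroup.normal_subgroupOf_of_le_normalizer
    intro g hg
    have hgZ := mem_normalizer_Zc S h V hVS σ hV₀ g hg
    apply Subgroup.mem_normalizer_fintype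
    intro c' hc'
    exact Cfsg.Agent.Lib.Lead.CentricControl.conj_mem_centralizer_of_mem_normalizer hgZ hc'
  obtain ⟨k, hk⟩ := exists_relIndex_eq_two_pow CZ N (by
    intro g hg hodd
    have hZ := odd_fixes_Zc S h V hVS σ hV₀ g hg hodd
    rw [hCZ, Subgroup.mem_centralizer_iff]
    intro s hs
    have := hZ s hs
    rw [MulAut.conj_apply] at this
    calc s * g = (g * s * g⁻¹) * g := by rw [this]
      _ = g * s := by group)
  rw [hN₁, Subgroup.inf_relIndex_right, hk] at h2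
  have hk0 : k = 0 := by
    by_contra hk0
    obtain ⟨k', rfl⟩ := Nat.exists_eq_succ_of_ne_zero hk0
    obtain ⟨r, hr⟩ := h1
    rw [hr, pow_succ] at h2
    have : r * 2 ^ k' * 4 = 6 := by rw [← h2]; ring
    omega
  rw [hk0, pow_zero] at hk
  exact Subgroup.relIndex_eq_one.1 hk

end V

end Cfsg.Agent.H2.WrAmb
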