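import Mathlib
import Cfsg.Agent.H2.WrQ2

/-!
# Wreathed Sylow 2-subgroups, case `(2, 6)`: the centre is weakly closed and the determinant is
invariant under fusion (helper2)
-/

set_option autoImplicit false
set_option linter.style.haveILetI false
set_option linter.unusedSectionVars false
set_option linter.unusedVariables false

namespace Cfsg.Agent.H2.WrAmb

open Cfsg.Agent.Lead.QD (P c d)
open Cfsg.Agent.Lead.Wr
open Cfsg.Agent.H2.WrSC
open Cfsg.Agent.Lib.Lead.AlperinGoldschmidt Cfsg.Agent.Lib.Lead.ConjFamily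

universe u

variable {G : Type u} [Group G] [Finite G]

section V

variable (S : Sylow 2 G) {n : ℕ} {x y z : ↥(S : Subgroup G)} (h : WDat n x y z)
  (V : Subgroup G) (hVS : V ≤ (S : Subgroup G)) (σ : ZMod (2 ^ n))
  (hV₀ : V.subgroupOf (S : Subgroup G) = Wsub h σ)

include hVS hV₀ in
/-- every subgroup of type `Q Z(S)` is conjugate to `V` under `S` -/
theorem exists_conj_V (X : Subgroup G) (hXS : X ≤ (S : Subgroup G)) (σ' : ZMod (2 ^ n))
    (hX₀ : X.subgroupOf (S : Subgroup G) = Wsub h σ') :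
    ∃ s ∈ (S : Subgroup G), ∀ a : G, a ∈ X ↔ s⁻¹ * a * s ∈ V := by
  obtain ⟨s, hs⟩ := conj_W h (Wsub h σ) (Wsub h σ') σ σ' (coe_Wsub h σ) (coe_Wsub h σ')
  refine ⟨s, s.2, ?_⟩
  intro a
  constructor
  · intro ha
    have h1 : (⟨a, hXS ha⟩ : ↥(S : Subgroup G)) ∈ Wsub h σ' := by
      rw [← hX₀, Subgroup.mem_subgroupOf]; exact ha
    rw [← hs] at h1
    obtain ⟨v, hv, hva⟩ := h1
    have h2 : ((v : ↥(S : Subgroup G)) : G) ∈ V := (coe_mem_V S h V σ hV₀ v).2 hv
    have h3 : (s : G) * v * (s : G)⁻¹ = a := by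
      have := congrArg Subtype.val hva
      simpa [MulAut.conj_apply] using this
    rw [← h3]
    have e : ((s : ↥(S : Subgroup G)) : G)⁻¹ * ((s : G) * v * (s : G)⁻¹) * s = v := by group
    rw [e]; exact h2
  · intro ha
    have h1 : (⟨_, hVS ha⟩ : ↥(S : Subgroup G)) ∈ Wsub h σ := (coe_mem_V S h V σ hV₀ _).1 ha
    have h2 : (MulAut.conj s) (⟨_, hVS ha⟩ : ↥(S : Subgroup G)) ∈ Wsub h σ' := by
      rw [← hs]; exact ⟨_, h1, rfl⟩
    rw [← hX₀, Subgroup.mem_subgroupOf, MulAut.conj_apply] at h2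
    have e : ((s * (⟨((s : ↥(S : Subgroup G)) : G)⁻¹ * a * s, hVS ha⟩ : ↥(S : Subgroup G)) * s⁻¹ :
        ↥(S : Subgroup G)) : G) = a := by
      simp only [Subgroup.coe_mul, Subgroup.coe_inv]
      group
    rwa [e] at h2

/-- conjugate subgroups have conjugate normalizers -/
theorem conj_mem_normalizer_of (X V : Subgroup G) (s : G)
    (hXV : ∀ a : G, a ∈ X ↔ s⁻¹ * a * s ∈ V) (k : G)
    (hk : k ∈ Subgroup.normalizer (X : Set G)) :
    s⁻¹ * k * s ∈ Subgroup.normalizer (V : Set G) := by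
  apply Subgroup.mem_normalizer_fintype
  intro v hv
  have h1 : s * v * s⁻¹ ∈ X := by
    rw [hXV]
    have e : s⁻¹ * (s * v * s⁻¹) * s = v := by group
    rw [e]; exact hv
  have h2 := ((Subgroup.mem_normalizer_iff.1 hk) _).1 h1
  rw [hXV] at h2
  have e : s⁻¹ * k * s * v * (s⁻¹ * k * s)⁻¹ = s⁻¹ * (k * (s * v * s⁻¹) * k⁻¹) * s := by group
  rw [e]; exact h2

theorem conj_mem_normalizer_of' (X V : Subgroup G) (s : G)
    (hXV : ∀ a : G, a ∈ X ↔ s⁻¹ * a * s ∈ V) (k : G)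
    (hk : k ∈ Subgroup.normalizer (V : Set G)) :
    s * k * s⁻¹ ∈ Subgroup.normalizer (X : Set G) := by
  apply Subgroup.mem_normalizer_fintype
  intro a ha
  rw [SetLike.mem_coe, hXV] at ha ⊢
  have h2 := ((Subgroup.mem_normalizer_iff.1 hk) _).1 ha
  have e : s⁻¹ * (s * k * s⁻¹ * a * (s * k * s⁻¹)⁻¹) * s = k * (s⁻¹ * a * s) * k⁻¹ := by group
  rw [e]; exact h2

include hVS hV₀ in
/-- if `|N(V) : V C(V)| = 6`, the normalizer of every subgroup of type `Q Z(S)` centralizes `Z(S)` -/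
theorem normalizer_W_le_centralizer_Zc
    (h₂ : (V ⊔ Subgroup.centralizer (V : Set G)).relIndex (Subgroup.normalizer (V : Set G)) = 6)
    (X : Subgroup G) (hXS : X ≤ (S : Subgroup G)) (σ' : ZMod (2 ^ n))
    (hX₀ : X.subgroupOf (S : Subgroup G) = Wsub h σ') :
    Subgroup.normalizer (X : Set G) ≤ Subgroup.centralizer ((Zc S : Subgroup G) : Set G) := by
  obtain ⟨s, hs, hXV⟩ := exists_conj_V S h V hVS σ hV₀ X hXS σ' hX₀
  intro k hk
  have h1 := normalizer_V_le_centralizer_Zc S h V hVS σ hV₀ h₂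
    (conj_mem_normalizer_of X V s hXV k hk)
  rw [Subgroup.mem_centralizer_iff] at h1 ⊢
  intro a ha
  have h2 := Zc_le_centralizer S (S : Subgroup G) le_rfl ha
  rw [Subgroup.mem_centralizer_iff] at h2
  have h3 : s * a = a * s := (h2 s hs)
  have h4 := h1 a ha
  -- `a (s⁻¹ k s) = (s⁻¹ k s) a` and `a` commutes with `s`
  have h5 : s⁻¹ * a = a * s⁻¹ := by
    calc s⁻¹ * a = s⁻¹ * (a * s) * s⁻¹ := by group
      _ = s⁻¹ * (s * a) * s⁻¹ := by rw [h3]
      _ = a * s⁻¹ := by group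
  calc a * k = s * (a * (s⁻¹ * k * s)) * s⁻¹ := by
        rw [← mul_assoc a, ← mul_assoc a, ← h5]; group
    _ = s * ((s⁻¹ * k * s) * a) * s⁻¹ := by rw [h4]
    _ = k * (s * a * s⁻¹) := by group
    _ = k * a := by rw [h3]; group

include hVS hV₀ in
/-- an element of odd order of the normalizer acting nontrivially, for every subgroup of type
`Q Z(S)` -/
theorem exists_odd_W
    (h₂ : (V ⊔ Subgroup.centralizer (V : Set G)).relIndex (Subgroup.normalizer (V : Set G)) = 6)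
    (X : Subgroup G) (hXS : X ≤ (S : Subgroup G)) (σ' : ZMod (2 ^ n))
    (hX₀ : X.subgroupOf (S : Subgroup G) = Wsub h σ') :
    ∃ φ ∈ Subgroup.normalizer (X : Set G), (orderOf φ).Coprime 2 ∧
      φ ∉ Subgroup.centralizer (X : Set G) := by
  obtain ⟨s, hs, hXV⟩ := exists_conj_V S h V hVS σ hV₀ X hXS σ' hX₀
  haveI := Cfsg.Agent.Lead.QD.sup_centralizer_normal V
  obtain ⟨φ, hφ, hodd, hφK⟩ := exists_odd_of_six _ _ h₂
  refine ⟨s * φ * s⁻¹, conj_mem_normalizer_of' X V s hXV φ hφ, ?_, ?_⟩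
  · rw [Cfsg.Agent.Lib.Lead.Conj.orderOf_conj]; exact hodd
  · intro hcon
    apply hφK
    apply (le_sup_right : Subgroup.centralizer (V : Set G) ≤ _)
    rw [Subgroup.mem_centralizer_iff] at hcon ⊢
    intro v hv
    have h1 : s * v * s⁻¹ ∈ X := by
      rw [hXV]
      have e : s⁻¹ * (s * v * s⁻¹) * s = v := by group
      rw [e]; exact hv
    have h2 := hcon _ h1
    calc v * φ = s⁻¹ * ((s * v * s⁻¹) * (s * φ * s⁻¹)) * s := by group
      _ = s⁻¹ * ((s * φ * s⁻¹) * (s * v * s⁻¹)) * s := by rw [h2]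
      _ = φ * v := by group

end V

end Cfsg.Agent.H2.WrAmb
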