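import Mathlib
import Cfsg.Agent.H2.WrQ3

/-!
# Wreathed Sylow 2-subgroups, case `(2, 6)`: fusion invariance (helper2)
-/

set_option autoImplicit false
set_option linter.style.haveILetI false
set_option linter.unusedSectionVars false
set_option linter.unusedVariables false

namespace Cfsg.Agent.H2.WrAmb

open Cfsg.Agent.Lead.QD (P c d)
open Cfsg.Agent.Lead.Wr
open Cfsg.Agent.H2.WrSC
open Cfsg.Agent.Lib.Lead.AlperinGoldschmidt Cfsg.Agent.Lib.Lead.ConjFamily

universe u

variable {G : Type u} [Group G] [Finite G]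

open Classical in
/-- the determinant on the ambient group (trivial outside `S`) -/
noncomputable def lamG (S : Sylow 2 G) {n : ℕ} {x y z : ↥(S : Subgroup G)} (h : WDat n x y z)
    (g : G) : Multiplicative (ZMod (2 ^ n)) :=
  if hg : g ∈ (S : Subgroup G) then lam h ⟨g, hg⟩ else 1

theorem lamG_of_mem (S : Sylow 2 G) {n : ℕ} {x y z : ↥(S : Subgroup G)} (h : WDat n x y z)
    (g : G) (hg : g ∈ (S : Subgroup G)) : lamG S h g = lam h ⟨g, hg⟩ := by
  unfold lamG
  rw [dif_pos hg]

theorem lamG_conj_S (S : Sylow 2 G) {n : ℕ} {x y z : ↥(S : Subgroup G)} (h : WDat n x y z)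
    (a s : G) (ha : a ∈ (S : Subgroup G)) (hs : s ∈ (S : Subgroup G)) :
    lamG S h (s⁻¹ * a * s) = lamG S h a := by
  have hmem : s⁻¹ * a * s ∈ (S : Subgroup G) :=
    Subgroup.mul_mem _ (Subgroup.mul_mem _ (Subgroup.inv_mem _ hs) ha) hs
  rw [lamG_of_mem S h _ hmem, lamG_of_mem S h _ ha]
  have e : (⟨s⁻¹ * a * s, hmem⟩ : ↥(S : Subgroup G))
      = (⟨s, hs⟩ : ↥(S : Subgroup G))⁻¹ * ⟨a, ha⟩ * ⟨s, hs⟩ := rfl
  rw [e, map_mul, map_mul, map_inv, mul_comm, ← mul_assoc, mul_inv_cancel, one_mul]

section case26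

variable (S : Sylow 2 G) {n : ℕ} {x y z : ↥(S : Subgroup G)} (h : WDat n x y z)
  (U : Subgroup G) (hUS : U ≤ (S : Subgroup G))
  (hU₀ : U.subgroupOf (S : Subgroup G) = Cfsg.Agent.Lead.Wr.U h) (hUab : IsMulCommutative U)
  (V : Subgroup G) (hVS : V ≤ (S : Subgroup G)) (σ : ZMod (2 ^ n))
  (hV₀ : V.subgroupOf (S : Subgroup G) = Wsub h σ)
  (h₁ : (Subgroup.centralizer (U : Set G)).relIndex (Subgroup.normalizer (U : Set G)) = 2)
  (h₂ : (V ⊔ Subgroup.centralizer (V : Set G)).relIndex (Subgroup.normalizer (V : Set G)) = 6)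

theorem conj_central (a : G) (ha : a ∈ Zc S) (s : G) (hs : s ∈ (S : Subgroup G)) :
    s⁻¹ * a * s = a := by
  have h2 := Zc_le_centralizer S (S : Subgroup G) le_rfl ha
  rw [Subgroup.mem_centralizer_iff] at h2
  have h3 : s * a = a * s := h2 s hs
  calc s⁻¹ * a * s = s⁻¹ * (a * s) := by group
    _ = s⁻¹ * (s * a) := by rw [h3]
    _ = a := by group

include hUS hU₀ hUab hVS hV₀ h₁ h₂ in
/-- in the case `(2, 6)` a central element of `S` is not fused to any other element of `S` -/
theorem conj_Zc_eq (a : G) (ha : a ∈ Zc S) (g : G) (hg : g⁻¹ * a * g ∈ (S : Subgroup G)) :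
    g⁻¹ * a * g = a := by
  haveI : Fact (Nat.Prime 2) := ⟨Nat.prime_two⟩
  have key := ag_induction S (fun a b => a ∈ Zc S → b = a) (fun a _ => rfl)
    (fun a b c' h1 h2 ha => by
      have hb := h1 ha
      rw [h2 (hb ▸ ha), hb])
    (fun X hX k hk a haX haZ => by
      rcases CR_classify S h X hX with rfl | hXU | ⟨σ', hXW⟩
      · obtain ⟨s, hs, hsa⟩ := lc_S S h U hUS hU₀ hUab k hk
        rw [hsa a haX]
        exact conj_central S a haZ s hs
      · have hXeq : X = U := by
          rw [← Subgroup.map_subgroupOf_eq_of_le hX.1.1,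
            ← Subgroup.map_subgroupOf_eq_of_le hUS, hXU, hU₀]
        subst hXeq
        obtain ⟨s, hs, hsa⟩ := lc_U S h X hUS hU₀ h₁ k hk
        rw [hsa a haX]
        exact conj_central S a haZ s hs
      · have hkC := normalizer_W_le_centralizer_Zc S h V hVS σ hV₀ h₂ X hX.1.1 σ' hXW hk
        have := (Subgroup.mem_centralizer_iff.1 hkC) a haZ
        rw [mul_assoc, this]; group)
    a (Zc_le S ha) g hg
  exact key ha

include hUS hU₀ hUab hVS hV₀ h₁ h₂ in
/-- in the case `(2, 6)` the determinant is invariant under fusion -/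
theorem lamG_inv (a : G) (ha : a ∈ (S : Subgroup G)) (g : G)
    (hg : g⁻¹ * a * g ∈ (S : Subgroup G)) : lamG S h (g⁻¹ * a * g) = lamG S h a := by
  haveI : Fact (Nat.Prime 2) := ⟨Nat.prime_two⟩
  exact ag_induction S (fun a b => lamG S h b = lamG S h a) (fun a => rfl)
    (fun a b c' h1 h2 => h2.trans h1)
    (fun X hX k hk a haX => by
      rcases CR_classify S h X hX with rfl | hXU | ⟨σ', hXW⟩
      · obtain ⟨s, hs, hsa⟩ := lc_S S h U hUS hU₀ hUab k hk
        rw [hsa a haX]
        exact lamG_conj_S S h a s haX hs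
      · have hXeq : X = U := by
          rw [← Subgroup.map_subgroupOf_eq_of_le hX.1.1,
            ← Subgroup.map_subgroupOf_eq_of_le hUS, hXU, hU₀]
        subst hXeq
        obtain ⟨s, hs, hsa⟩ := lc_U S h X hUS hU₀ h₁ k hk
        rw [hsa a haX]
        exact lamG_conj_S S h a s (hUS haX) hs
      · have hXS : X ≤ (S : Subgroup G) := hX.1.1
        have hkC := normalizer_W_le_centralizer_Zc S h V hVS σ hV₀ h₂ X hXS σ' hXW hk
        have hkfix : ∀ ζ ∈ Zc S, k⁻¹ * ζ * k = ζ := by
          intro ζ hζ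
          have := (Subgroup.mem_centralizer_iff.1 hkC) ζ hζ
          rw [mul_assoc, this]; group
        have hkX : ∀ b ∈ X, k⁻¹ * b * k ∈ X := by
          intro b hb
          have := ((Subgroup.mem_normalizer_iff.1 (Subgroup.inv_mem _ hk)) b).1 hb
          rwa [inv_inv] at this
        have haW : (⟨a, hXS haX⟩ : ↥(S : Subgroup G)) ∈ Wsub h σ' :=
          (coe_mem_V S h X σ' hXW _).1 haX
        obtain ⟨q, hqW, hqS0, ζ, hζ, hqa⟩ := exists_mul_of_mem_Wsub h σ' _ haW
        have hqX : (q : G) ∈ X := (coe_mem_V S h X σ' hXW q).2 hqW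
        have hζZ : (ζ : G) ∈ Zc S := (coe_mem_Zc S ζ).2 hζ
        have haq : a = (q : G) * (ζ : G) := congrArg Subtype.val hqa
        have hq'X := hkX _ hqX
        have hq'W : (⟨k⁻¹ * (q : G) * k, hXS hq'X⟩ : ↥(S : Subgroup G)) ∈ Wsub h σ' :=
          (coe_mem_V S h X σ' hXW _).1 hq'X
        obtain ⟨hq4, hqiff⟩ := (mem_S0_iff_of_mem_Wsub h σ' q hqW).1 hqS0
        have hq'S0 : (⟨k⁻¹ * (q : G) * k, hXS hq'X⟩ : ↥(S : Subgroup G)) ∈ S0 h := by
          rw [mem_S0_iff_of_mem_Wsub h σ' _ hq'W]
          constructor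
          · apply Subtype.ext
            rw [Subgroup.coe_pow]
            show (k⁻¹ * (q : G) * k) ^ 4 = 1
            have h4 : (q : G) ^ 4 = 1 := by
              have := congrArg Subtype.val hq4
              simpa using this
            have e : (k⁻¹ * (q : G) * k) ^ 4 = k⁻¹ * (q : G) ^ 4 * k := by
              have := conj_pow (a := k⁻¹) (b := (q : G)) (i := 4)
              rw [inv_inv] at this
              exact this
            rw [e, h4]; group
          · rw [← coe_mem_Zc S] at *
            constructor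
            · intro h5
              have h5' : k⁻¹ * (q : G) * k ∈ Zc S := h5
              have h6 : (q : G) ∈ Zc S := by
                have h7 : k⁻¹ * (k⁻¹ * (q : G) * k) * k = k⁻¹ * (q : G) * k := hkfix _ h5'
                have h8 : (q : G) = k⁻¹ * (q : G) * k := by
                  calc (q : G) = k * (k⁻¹ * (q : G) * k) * k⁻¹ := by group
                    _ = k * (k⁻¹ * (k⁻¹ * (q : G) * k) * k) * k⁻¹ := by rw [h7]
                    _ = k⁻¹ * (q : G) * k := by group
                rw [h8]; exact h5'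
              have h9 := hqiff.1 h6
              apply Subtype.ext
              show k⁻¹ * (q : G) * k * (k⁻¹ * (q : G) * k) = 1
              have h10 : (q : G) * (q : G) = 1 := by
                have := congrArg Subtype.val h9
                simpa using this
              calc k⁻¹ * (q : G) * k * (k⁻¹ * (q : G) * k) = k⁻¹ * ((q : G) * (q : G)) * k := by
                    group
                _ = 1 := by rw [h10]; group
            · intro h5
              have h10 : (q : G) * (q : G) = 1 := by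
                have h11 : k⁻¹ * (q : G) * k * (k⁻¹ * (q : G) * k) = 1 := congrArg Subtype.val h5
                calc (q : G) * (q : G) = k * (k⁻¹ * (q : G) * k * (k⁻¹ * (q : G) * k)) * k⁻¹ := by
                      group
                  _ = 1 := by rw [h11]; group
              have h6 : (q : G) ∈ Zc S := hqiff.2 (Subtype.ext (by simpa using h10))
              show k⁻¹ * (q : G) * k ∈ Zc S
              rw [hkfix _ h6]; exact h6
        have e1 : k⁻¹ * a * k = (k⁻¹ * (q : G) * k) * (ζ : G) := by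
          rw [haq]
          calc k⁻¹ * ((q : G) * (ζ : G)) * k = (k⁻¹ * (q : G) * k) * (k⁻¹ * (ζ : G) * k) := by
                group
            _ = _ := by rw [hkfix _ hζZ]
        have hmem1 : k⁻¹ * a * k ∈ (S : Subgroup G) := hXS (hkX a haX)
        rw [lamG_of_mem S h _ hmem1, lamG_of_mem S h _ (hXS haX)]
        have e2 : (⟨k⁻¹ * a * k, hmem1⟩ : ↥(S : Subgroup G))
            = ⟨k⁻¹ * (q : G) * k, hXS hq'X⟩ * ζ := Subtype.ext e1
        have e3 : (⟨a, hXS haX⟩ : ↥(S : Subgroup G)) = q * ζ := hqa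
        rw [e2, e3, map_mul, map_mul]
        have h12 : lam h ⟨k⁻¹ * (q : G) * k, hXS hq'X⟩ = 1 := hq'S0
        have h13 : lam h q = 1 := hqS0
        rw [h12, h13])
    a ha g hg

end case26

end Cfsg.Agent.H2.WrAmb
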