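import Mathlib
import Cfsg.Agent.H2.WrQ4

/-!
# Wreathed Sylow 2-subgroups, case `(2, 6)`: the transfer of the determinant (helper2)
-/

set_option autoImplicit false
set_option linter.style.haveILetI false
set_option linter.unusedSectionVars false
set_option linter.unusedVariables false

namespace Cfsg.Agent.H2.WrAmb

open Cfsg.Agent.Lead.QD (P c d)
open Cfsg.Agent.Lead.Wr
open Cfsg.Agent.H2.WrSC
open Cfsg.Agent.Lib.Lead.AlperinGoldschmidt Cfsg.Agent.Lib.Lead.ConjFamily
open MulAction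

universe u v

/-- the transfer of a fusion-invariant homomorphism of a Sylow subgroup into a commutative group
is the `|G : P|`-th power -/
theorem transfer_eq_pow_index {G : Type u} [Group G] [Finite G] {p : ℕ} (P : Sylow p G)
    {A : Type v} [CommGroup A] (ϕ : ↥(P : Subgroup G) →* A)
    (hinv : ∀ (s : G) (hs : s ∈ (P : Subgroup G)) (g : G) (hg : g⁻¹ * s * g ∈ (P : Subgroup G)),
      ϕ ⟨g⁻¹ * s * g, hg⟩ = ϕ ⟨s, hs⟩)
    (s : G) (hs : s ∈ (P : Subgroup G)) :
    MonoidHom.transfer ϕ s = ϕ ⟨s, hs⟩ ^ (P : Subgroup G).index := by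
  classical
  have : Fintype (Quotient (orbitRel (Subgroup.zpowers s) (G ⧸ (P : Subgroup G)))) :=
    Fintype.ofFinite _
  have hV := MonoidHom.transfer_eq_prod_quotient_orbitRel_zpowers_quot (H := (P : Subgroup G)) ϕ s
  have hsum := Subgroup.index_eq_sum_minimalPeriod (P : Subgroup G) s
  have hfac : ∀ q : Quotient (orbitRel (Subgroup.zpowers s) (G ⧸ (P : Subgroup G))),
      ϕ ⟨q.out.out⁻¹ * s ^ Function.minimalPeriod (s • ·) q.out * q.out.out,
        QuotientGroup.out_conj_pow_minimalPeriod_mem (P : Subgroup G) s q.out⟩ =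
      (ϕ ⟨s, hs⟩) ^ Function.minimalPeriod (s • ·) q.out := by
    intro q
    have hmem := QuotientGroup.out_conj_pow_minimalPeriod_mem (P : Subgroup G) s q.out
    have hpow : s ^ Function.minimalPeriod (s • ·) q.out ∈ (P : Subgroup G) :=
      Subgroup.pow_mem _ hs _
    rw [hinv _ hpow q.out.out hmem, ← map_pow]
    rfl
  rw [Finset.prod_congr rfl (fun q _ => hfac q), Finset.prod_pow_eq_pow_sum, ← hsum] at hV
  exact hV

variable {G : Type u} [Group G] [Finite G]

section case26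

variable (S : Sylow 2 G) {n : ℕ} {x y z : ↥(S : Subgroup G)} (h : WDat n x y z)
  (U : Subgroup G) (hUS : U ≤ (S : Subgroup G))
  (hU₀ : U.subgroupOf (S : Subgroup G) = Cfsg.Agent.Lead.Wr.U h) (hUab : IsMulCommutative U)
  (V : Subgroup G) (hVS : V ≤ (S : Subgroup G)) (σ : ZMod (2 ^ n))
  (hV₀ : V.subgroupOf (S : Subgroup G) = Wsub h σ)
  (h₁ : (Subgroup.centralizer (U : Set G)).relIndex (Subgroup.normalizer (U : Set G)) = 2)
  (h₂ : (V ⊔ Subgroup.centralizer (V : Set G)).relIndex (Subgroup.normalizer (V : Set G)) = 6)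

/-- the kernel of the transfer of the determinant -/
noncomputable def Kq : Subgroup G := (MonoidHom.transfer (lam h)).ker

instance Kq_normal : (Kq S h).Normal := MonoidHom.normal_ker _

theorem card_mult : Nat.card (Multiplicative (ZMod (2 ^ n))) = 2 ^ n := by
  have : Nat.card (Multiplicative (ZMod (2 ^ n))) = Nat.card (ZMod (2 ^ n)) :=
    Nat.card_congr Multiplicative.toAdd
  rw [this, Nat.card_eq_fintype_card, ZMod.card]

theorem coprime_mult :
    (Nat.card (Multiplicative (ZMod (2 ^ n)))).Coprime (S : Subgroup G).index := by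
  haveI : Fact (Nat.Prime 2) := ⟨Nat.prime_two⟩
  rw [card_mult]
  apply Nat.Coprime.pow_left
  rw [Nat.Prime.coprime_iff_not_dvd Nat.prime_two]
  exact S.not_dvd_index

theorem pow_index_eq_one_iff (t : Multiplicative (ZMod (2 ^ n))) :
    t ^ (S : Subgroup G).index = 1 ↔ t = 1 := by
  constructor
  · intro h1
    apply (powCoprime (coprime_mult S (n := n))).injective
    show t ^ (S : Subgroup G).index = 1 ^ (S : Subgroup G).index
    rw [h1, one_pow]
  · rintro rfl
    exact one_pow _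

include hUS hU₀ hUab hVS hV₀ h₁ h₂ in
theorem transfer_lam (s : G) (hs : s ∈ (S : Subgroup G)) :
    MonoidHom.transfer (lam h) s = lam h ⟨s, hs⟩ ^ (S : Subgroup G).index :=
  transfer_eq_pow_index S (lam h) (fun s hs g hg => by
    have := lamG_inv S h U hUS hU₀ hUab V hVS σ hV₀ h₁ h₂ s hs g hg
    rwa [lamG_of_mem S h _ hg, lamG_of_mem S h _ hs] at this) s hs

include hUS hU₀ hUab hVS hV₀ h₁ h₂ in
theorem mem_Kq_iff (s : G) (hs : s ∈ (S : Subgroup G)) :
    s ∈ Kq S h ↔ (⟨s, hs⟩ : ↥(S : Subgroup G)) ∈ S0 h := by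
  unfold Kq S0
  rw [MonoidHom.mem_ker, MonoidHom.mem_ker,
    transfer_lam S h U hUS hU₀ hUab V hVS σ hV₀ h₁ h₂ s hs, pow_index_eq_one_iff]

include hUS hU₀ hUab hVS hV₀ h₁ h₂ in
theorem index_Kq : (Kq S h).index = 2 ^ n := by
  unfold Kq
  have hsurj : Function.Surjective (MonoidHom.transfer (lam h)) := by
    intro t
    obtain ⟨t', ht'⟩ := (powCoprime (coprime_mult S (n := n))).surjective t
    obtain ⟨s, hs⟩ := lam_surjective h t'
    refine ⟨(s : G), ?_⟩
    rw [transfer_lam S h U hUS hU₀ hUab V hVS σ hV₀ h₁ h₂ (s : G) s.2, Subtype.coe_eta, hs]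
    exact ht'
  rw [Subgroup.index_ker, MonoidHom.range_eq_top.2 hsurj, Subgroup.card_top, card_mult]

/-- the kernel of the determinant as a subgroup of `G` -/
noncomputable def S0G : Subgroup G := (S0 h).map (S : Subgroup G).subtype

theorem S0G_le : S0G S h ≤ (S : Subgroup G) := Subgroup.map_subtype_le _

theorem coe_mem_S0G (s : ↥(S : Subgroup G)) : (s : G) ∈ S0G S h ↔ s ∈ S0 h := by
  unfold S0G
  constructor
  · rintro ⟨s', hs', he⟩
    have : s' = s := Subtype.ext he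
    rwa [← this]
  · intro hs
    exact ⟨s, hs, rfl⟩

include hUS hU₀ hUab hVS hV₀ h₁ h₂ in
theorem S0G_le_Kq : S0G S h ≤ Kq S h := by
  rintro _ ⟨s, hs, rfl⟩
  exact (mem_Kq_iff S h U hUS hU₀ hUab V hVS σ hV₀ h₁ h₂ _ s.2).2 hs

theorem S0G_relIndex : (S0G S h).relIndex (S : Subgroup G) = 2 ^ n := by
  have h1 : (S0G S h).subgroupOf (S : Subgroup G) = S0 h := by
    ext s
    rw [Subgroup.mem_subgroupOf]
    exact coe_mem_S0G S h s
  unfold Subgroup.relIndex
  rw [h1]
  unfold S0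
  rw [Subgroup.index_ker, MonoidHom.range_eq_top.2 (lam_surjective h), Subgroup.card_top,
    card_mult]

include hUS hU₀ hUab hVS hV₀ h₁ h₂ in
theorem S0G_relIndex_Kq : ¬ 2 ∣ (S0G S h).relIndex (Kq S h) := by
  haveI : Fact (Nat.Prime 2) := ⟨Nat.prime_two⟩
  have hle := S0G_le_Kq S h U hUS hU₀ hUab V hVS σ hV₀ h₁ h₂
  have h1 := Subgroup.relIndex_mul_index hle
  have h2 := Subgroup.relIndex_mul_index (S0G_le S h)
  rw [index_Kq S h U hUS hU₀ hUab V hVS σ hV₀ h₁ h₂] at h1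
  rw [S0G_relIndex] at h2
  have h3 : (S0G S h).relIndex (Kq S h) = (S : Subgroup G).index := by
    have h4 : (S0G S h).relIndex (Kq S h) * 2 ^ n = (S : Subgroup G).index * 2 ^ n := by
      rw [h1, ← h2, mul_comm]
    exact Nat.eq_of_mul_eq_mul_right (by positivity) h4
  rw [h3]
  exact S.not_dvd_index

include hUS hU₀ hUab hVS hV₀ h₁ h₂ in
/-- the Sylow 2-subgroups of the kernel are generalized quaternion -/
theorem sylow_Kq (P' : Sylow 2 ↥(Kq S h)) :
    ∃ m : ℕ, 1 ≤ m ∧ Nonempty (↥(P' : Subgroup ↥(Kq S h)) ≃* QuaternionGroup (2 ^ m)) := by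
  haveI : Fact (Nat.Prime 2) := ⟨Nat.prime_two⟩
  have hle := S0G_le_Kq S h U hUS hU₀ hUab V hVS σ hV₀ h₁ h₂
  have hodd := S0G_relIndex_Kq S h U hUS hU₀ hUab V hVS σ hV₀ h₁ h₂
  obtain ⟨m, hm, ⟨e⟩⟩ := S0_quat h
  refine ⟨m, hm, ?_⟩
  have hp : IsPGroup 2 ((S0G S h).subgroupOf (Kq S h)) :=
    (IsPGroup.to_le S.isPGroup' (S0G_le S h)).comap_subtype
  let R' : Sylow 2 ↥(Kq S h) := hp.toSylow hodd
  have e1 : ↥(P' : Subgroup ↥(Kq S h)) ≃* ↥(R' : Subgroup ↥(Kq S h)) := Sylow.equiv P' R'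
  have e2 : ↥(R' : Subgroup ↥(Kq S h)) ≃* ↥(S0G S h) := Subgroup.subgroupOfEquivOfLe hle
  have e3 : ↥(S0 h) ≃* ↥(S0G S h) :=
    Subgroup.equivMapOfInjective (S0 h) (S : Subgroup G).subtype Subtype.val_injective
  exact ⟨(e1.trans e2).trans (e3.symm.trans e)⟩

end case26

end Cfsg.Agent.H2.WrAmb
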