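import Mathlib
import Cfsg.Agent.H2.WrQ5

/-!
# Wreathed Sylow 2-subgroups, case `(2, 6)`: the kernel has no subgroup of index two (helper2)
-/

set_option autoImplicit false
set_option linter.style.haveILetI false
set_option linter.unusedSectionVars false
set_option linter.unusedVariables false

namespace Cfsg.Agent.H2.WrAmb

open Cfsg.Agent.Lead.QD (P c d)
open Cfsg.Agent.Lead.Wr
open Cfsg.Agent.H2.WrSC
open Cfsg.Agent.Lib.Lead.AlperinGoldschmidt Cfsg.Agent.Lib.Lead.ConjFamily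

universe u

variable {G : Type u} [Group G] [Finite G]

/-- an element of odd order lies in every normal subgroup whose index is a power of two -/
theorem odd_mem_of_index_two_pow (K : Subgroup G) [K.Normal] (k : ℕ) (hK : K.index = 2 ^ k)
    (φ : G) (hodd : (orderOf φ).Coprime 2) : φ ∈ K := by
  have h1 := K.pow_index_mem φ
  rw [hK] at h1
  have h2 : (2 ^ k).Coprime (orderOf φ) := (Nat.Coprime.pow_right k hodd).symm
  obtain ⟨m, hm⟩ := exists_pow_eq_self_of_coprime h2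
  rw [← hm]
  exact K.pow_mem h1 m

section V

variable (S : Sylow 2 G) {n : ℕ} {x y z : ↥(S : Subgroup G)} (h : WDat n x y z)
  (V : Subgroup G) (hVS : V ≤ (S : Subgroup G)) (σ : ZMod (2 ^ n))
  (hV₀ : V.subgroupOf (S : Subgroup G) = Wsub h σ)

include hVS hV₀ in
theorem conj_eq_conj_iff (a b : ↥V) :
    (MulAut.conj a : MulAut ↥V) = MulAut.conj b ↔ (a : G)⁻¹ * (b : G) ∈ Zc S := by
  have h1 := conj_eq_one_iff S h V hVS σ hV₀ (a⁻¹ * b)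
  rw [map_mul, map_inv, inv_mul_eq_one] at h1
  exact h1

include hVS hV₀ in
/-- an element of odd order of `N(V)` fixing a noncentral element of `V` modulo `Z(S)`
centralizes `V` -/
theorem odd_fix_mod (φ : G) (hφ : φ ∈ Subgroup.normalizer (V : Set G))
    (hodd : (orderOf φ).Coprime 2) (w : G) (hwV : w ∈ V) (hwZ : w ∉ Zc S)
    (hfix : w⁻¹ * (φ * w * φ⁻¹) ∈ Zc S) : φ ∈ Subgroup.centralizer (V : Set G) := by
  haveI hInorm : (MulAut.conj : ↥V →* MulAut ↥V).range.Normal := range_conj_normal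
  haveI hK4 : IsKleinFour ↥(MulAut.conj : ↥V →* MulAut ↥V).range := isKleinFour_inn S h V hVS σ hV₀
  let ψ : ↥(Subgroup.normalizer (V : Set G)) →* MulAut ↥V := Subgroup.normalizerMonoidHom V
  let ρ : ↥(Subgroup.normalizer (V : Set G)) →* MulAut ↥(MulAut.conj : ↥V →* MulAut ↥V).range :=
    (MulAut.conjNormal (H := (MulAut.conj : ↥V →* MulAut ↥V).range)).comp ψ
  have hα : (orderOf (ρ ⟨φ, hφ⟩)).Coprime 2 := by
    have h1 := orderOf_map_dvd ρ (⟨φ, hφ⟩ : ↥(Subgroup.normalizer (V : Set G)))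
    rw [Subgroup.orderOf_mk] at h1
    exact Nat.Coprime.coprime_dvd_left h1 hodd
  have hψ : ∀ v : ↥V, ((ψ ⟨φ, hφ⟩ v : ↥V) : G) = φ * v * φ⁻¹ := fun v => rfl
  have hρ : ∀ v : ↥V, ((ρ ⟨φ, hφ⟩ ⟨MulAut.conj v, v, rfl⟩ :
      ↥(MulAut.conj : ↥V →* MulAut ↥V).range) : MulAut ↥V) = MulAut.conj (ψ ⟨φ, hφ⟩ v) := by
    intro v
    change ((MulAut.conjNormal (ψ ⟨φ, hφ⟩) ⟨MulAut.conj v, v, rfl⟩ :
      ↥(MulAut.conj : ↥V →* MulAut ↥V).range) : MulAut ↥V) = _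
    rw [MulAut.conjNormal_apply, conj_mul_conj]
  have hi1 : (⟨MulAut.conj (⟨w, hwV⟩ : ↥V), ⟨w, hwV⟩, rfl⟩ :
      ↥(MulAut.conj : ↥V →* MulAut ↥V).range) ≠ 1 := by
    intro h1
    have h2 : (MulAut.conj (⟨w, hwV⟩ : ↥V) : MulAut ↥V) = 1 := congrArg Subtype.val h1
    rw [conj_eq_one_iff S h V hVS σ hV₀] at h2
    exact hwZ h2
  have hfixi : ρ ⟨φ, hφ⟩ ⟨MulAut.conj (⟨w, hwV⟩ : ↥V), ⟨w, hwV⟩, rfl⟩
      = ⟨MulAut.conj (⟨w, hwV⟩ : ↥V), ⟨w, hwV⟩, rfl⟩ := by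
    apply Subtype.ext
    rw [hρ]
    symm
    rw [conj_eq_conj_iff S h V hVS σ hV₀, hψ]
    exact hfix
  have hall := klein_odd_fix (ρ ⟨φ, hφ⟩) hα _ hi1 hfixi
  apply odd_mem_centralizer_of_mod S h V hVS σ hV₀ φ hφ hodd
  intro v hv
  have h1 := congrArg Subtype.val (hall ⟨MulAut.conj (⟨v, hv⟩ : ↥V), ⟨v, hv⟩, rfl⟩)
  rw [hρ] at h1
  have h2 : (MulAut.conj ((⟨v, hv⟩ : ↥V)⁻¹ * ψ ⟨φ, hφ⟩ ⟨v, hv⟩) : MulAut ↥V) = 1 := by
    rw [map_mul, h1, map_inv, inv_mul_cancel]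
  rw [conj_eq_one_iff S h V hVS σ hV₀] at h2
  exact h2

include hVS hV₀ in
/-- `V / Z(S)` is a four-group -/
theorem klein_cover (w t t' : G) (hw : w ∈ V) (ht : t ∈ V) (ht' : t' ∈ V) (hwZ : w ∉ Zc S)
    (htZ : t ∉ Zc S) (hwt : w⁻¹ * t ∉ Zc S) :
    t' ∈ Zc S ∨ t⁻¹ * t' ∈ Zc S ∨ w⁻¹ * t' ∈ Zc S ∨ (w * t)⁻¹ * t' ∈ Zc S := by
  haveI hK4 : IsKleinFour ↥(MulAut.conj : ↥V →* MulAut ↥V).range := isKleinFour_inn S h V hVS σ hV₀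
  let π : ↥V → ↥(MulAut.conj : ↥V →* MulAut ↥V).range := fun v => ⟨MulAut.conj v, v, rfl⟩
  have hπ1 : ∀ v : ↥V, π v = 1 ↔ (v : G) ∈ Zc S := by
    intro v
    rw [← conj_eq_one_iff S h V hVS σ hV₀ v]
    constructor
    · intro h1; exact congrArg Subtype.val h1
    · intro h1; exact Subtype.ext h1
  have hπe : ∀ a b : ↥V, π a = π b ↔ (a : G)⁻¹ * (b : G) ∈ Zc S := by
    intro a b
    rw [← conj_eq_conj_iff S h V hVS σ hV₀ a b]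
    constructor
    · intro h1; exact congrArg Subtype.val h1
    · intro h1; exact Subtype.ext h1
  have hπm : ∀ a b : ↥V, π (a * b) = π a * π b := by
    intro a b
    apply Subtype.ext
    show (MulAut.conj (a * b) : MulAut ↥V) = MulAut.conj a * MulAut.conj b
    rw [map_mul]
  by_cases h1 : π ⟨t', ht'⟩ = 1
  · left; exact (hπ1 _).1 h1
  by_cases h2 : π ⟨t', ht'⟩ = π ⟨t, ht⟩
  · right; left; exact (hπe ⟨t, ht⟩ ⟨t', ht'⟩).1 h2.symm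
  by_cases h3 : π ⟨t', ht'⟩ = π ⟨w, hw⟩
  · right; right; left; exact (hπe ⟨w, hw⟩ ⟨t', ht'⟩).1 h3.symm
  right; right; right
  have hw1 : π ⟨w, hw⟩ ≠ 1 := fun h4 => hwZ ((hπ1 _).1 h4)
  have ht1 : π ⟨t, ht⟩ ≠ 1 := fun h4 => htZ ((hπ1 _).1 h4)
  have hwt' : π ⟨w, hw⟩ ≠ π ⟨t, ht⟩ := fun h4 => hwt ((hπe ⟨w, hw⟩ ⟨t, ht⟩).1 h4)
  have h4 : π ⟨t', ht'⟩ = π ⟨w, hw⟩ * π ⟨t, ht⟩ :=
    IsKleinFour.eq_mul_of_ne_all hw1 ht1 hwt' h1 h3 h2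
  rw [← hπm] at h4
  exact (hπe (⟨w, hw⟩ * ⟨t, ht⟩) ⟨t', ht'⟩).1 h4.symm

include hVS hV₀ in
/-- the main step: noncentral elements of a `φ`-invariant subgroup of `V` lie in every
"subgroup of index two" -/
theorem noncentral_mem_of_index_two (K M : Subgroup G)
    (hconj : ∀ k ∈ K, ∀ m ∈ M, k * m * k⁻¹ ∈ M)
    (hidx : ∀ a ∈ K, ∀ b ∈ K, (a * b ∈ M ↔ (a ∈ M ↔ b ∈ M)))
    (φ : G) (hφ : φ ∈ Subgroup.normalizer (V : Set G)) (hodd : (orderOf φ).Coprime 2)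
    (hφC : φ ∉ Subgroup.centralizer (V : Set G)) (hφK : φ ∈ K)
    (Qs : Subgroup G) (hQV : Qs ≤ V) (hQK : Qs ≤ K) (hQφ : ∀ q ∈ Qs, φ * q * φ⁻¹ ∈ Qs)
    (hQZ : ∀ q ∈ Qs, q ∈ Zc S → q ∈ M) (w : G) (hw : w ∈ Qs) (hwZ : w ∉ Zc S) : w ∈ M := by
  by_contra hwM
  have hφi : φ⁻¹ ∈ Subgroup.normalizer (V : Set G) := Subgroup.inv_mem _ hφ
  have hback : ∀ a : G, φ * a * φ⁻¹ ∈ Zc S → a ∈ Zc S := by
    intro a ha
    have := conj_mem_Zc S h V hVS σ hV₀ φ⁻¹ hφi _ ha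
    rw [inv_inv] at this
    have e : φ⁻¹ * (φ * a * φ⁻¹) * φ = a := by group
    rwa [e] at this
  have hw'Q : φ * w * φ⁻¹ ∈ Qs := hQφ w hw
  have hw'M : φ * w * φ⁻¹ ∉ M := by
    intro hcon
    have := hconj φ⁻¹ (K.inv_mem hφK) _ hcon
    rw [inv_inv] at this
    have e : φ⁻¹ * (φ * w * φ⁻¹) * φ = w := by group
    rw [e] at this
    exact hwM this
  have hwiM : w⁻¹ ∉ M := fun hcon => hwM (by simpa using M.inv_mem hcon)
  have htQ : w⁻¹ * (φ * w * φ⁻¹) ∈ Qs := Qs.mul_mem (Qs.inv_mem hw) hw'Q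
  have htM : w⁻¹ * (φ * w * φ⁻¹) ∈ M := by
    rw [hidx _ (K.inv_mem (hQK hw)) _ (hQK hw'Q)]
    exact ⟨fun h1 => absurd h1 hwiM, fun h1 => absurd h1 hw'M⟩
  have htZ : w⁻¹ * (φ * w * φ⁻¹) ∉ Zc S := fun hcon =>
    hφC (odd_fix_mod S h V hVS σ hV₀ φ hφ hodd w (hQV hw) hwZ hcon)
  have hwtZ : w⁻¹ * (w⁻¹ * (φ * w * φ⁻¹)) ∉ Zc S := by
    intro hcon
    have h1 := sq_mem_Zc S h V hVS σ hV₀ w (hQV hw)
    have h2 := (Zc S).mul_mem h1 hcon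
    have e : w * w * (w⁻¹ * (w⁻¹ * (φ * w * φ⁻¹))) = φ * w * φ⁻¹ := by group
    rw [e] at h2
    exact hwZ (hback w h2)
  set t := w⁻¹ * (φ * w * φ⁻¹) with ht
  have ht'Q : φ * t * φ⁻¹ ∈ Qs := hQφ t htQ
  have ht'M : φ * t * φ⁻¹ ∈ M := hconj φ hφK t htM
  rcases klein_cover S h V hVS σ hV₀ w t (φ * t * φ⁻¹) (hQV hw) (hQV htQ) (hQV ht'Q) hwZ htZ hwtZ
    with h1 | h1 | h1 | h1
  · exact htZ (hback t h1)
  · exact hφC (odd_fix_mod S h V hVS σ hV₀ φ hφ hodd t (hQV htQ) htZ h1)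
  · have h2 := hQZ _ (Qs.mul_mem (Qs.inv_mem hw) ht'Q) h1
    have h3 := M.mul_mem h2 (M.inv_mem ht'M)
    have e : w⁻¹ * (φ * t * φ⁻¹) * (φ * t * φ⁻¹)⁻¹ = w⁻¹ := by group
    rw [e] at h3
    exact hwiM h3
  · have h2 := hQZ _ (Qs.mul_mem (Qs.inv_mem (Qs.mul_mem hw htQ)) ht'Q) h1
    have h3 := M.mul_mem h2 (M.inv_mem ht'M)
    have e : (w * t)⁻¹ * (φ * t * φ⁻¹) * (φ * t * φ⁻¹)⁻¹ = (w * t)⁻¹ := by group
    rw [e] at h3
    have h4 : w * t ∈ M := by simpa using M.inv_mem h3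
    have h5 := M.mul_mem h4 (M.inv_mem htM)
    rw [mul_inv_cancel_right] at h5
    exact hwM h5

end V

end Cfsg.Agent.H2.WrAmb
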