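import Mathlib
import Cfsg.Agent.H2.WrQ6

/-!
# Wreathed Sylow 2-subgroups, case `(2, 6)`: the kernel has no subgroup of index two, II
(helper2)
-/

set_option autoImplicit false
set_option linter.style.haveILetI false
set_option linter.unusedSectionVars false
set_option linter.unusedVariables false

namespace Cfsg.Agent.H2.WrAmb

open Cfsg.Agent.Lead.QD (P c d)
open Cfsg.Agent.Lead.Wr
open Cfsg.Agent.H2.WrSC
open Cfsg.Agent.Lib.Lead.AlperinGoldschmidt Cfsg.Agent.Lib.Lead.ConjFamily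

universe u

variable {G : Type u} [Group G] [Finite G]

section case26

variable (S : Sylow 2 G) {n : ℕ} {x y z : ↥(S : Subgroup G)} (h : WDat n x y z)
  (U : Subgroup G) (hUS : U ≤ (S : Subgroup G))
  (hU₀ : U.subgroupOf (S : Subgroup G) = Cfsg.Agent.Lead.Wr.U h) (hUab : IsMulCommutative U)
  (V : Subgroup G) (hVS : V ≤ (S : Subgroup G)) (σ : ZMod (2 ^ n))
  (hV₀ : V.subgroupOf (S : Subgroup G) = Wsub h σ)
  (h₁ : (Subgroup.centralizer (U : Set G)).relIndex (Subgroup.normalizer (U : Set G)) = 2)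
  (h₂ : (V ⊔ Subgroup.centralizer (V : Set G)).relIndex (Subgroup.normalizer (V : Set G)) = 6)

/-- the subgroups of type `Q Z(S)` as subgroups of `G` -/
noncomputable def WG (p : ZMod (2 ^ n)) : Subgroup G := (Wsub h p).map (S : Subgroup G).subtype

theorem WG_le (p : ZMod (2 ^ n)) : WG S h p ≤ (S : Subgroup G) := Subgroup.map_subtype_le _

theorem WG_subgroupOf (p : ZMod (2 ^ n)) : (WG S h p).subgroupOf (S : Subgroup G) = Wsub h p :=
  Subgroup.comap_map_eq_self_of_injective (Subgroup.subtype_injective _) _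

include hUS hU₀ hUab hVS hV₀ h₁ h₂ in
theorem S0G_le_of_index_two (M : Subgroup G)
    (hconj : ∀ k ∈ Kq S h, ∀ m ∈ M, k * m * k⁻¹ ∈ M)
    (hidx : ∀ a ∈ Kq S h, ∀ b ∈ Kq S h, (a * b ∈ M ↔ (a ∈ M ↔ b ∈ M))) : S0G S h ≤ M := by
  have hn := h.hn
  have hmemK : ∀ s : ↥(S : Subgroup G), (s : G) ∈ Kq S h ↔ s ∈ S0 h := fun s =>
    mem_Kq_iff S h U hUS hU₀ hUab V hVS σ hV₀ h₁ h₂ (s : G) s.2
  have hidxK := index_Kq S h U hUS hU₀ hUab V hVS σ hV₀ h₁ h₂
  -- the central involution lies in `M`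
  have huK : ((A n x y (d n) (-d n) : ↥(S : Subgroup G)) : G) ∈ Kq S h := by
    rw [hmemK, A_mem_S0]; ring
  have hζM : ((A n x y (c n) (c n) : ↥(S : Subgroup G)) : G) ∈ M := by
    have e : ((A n x y (c n) (c n) : ↥(S : Subgroup G)) : G)
        = ((A n x y (d n) (-d n) : ↥(S : Subgroup G)) : G) * (A n x y (d n) (-d n) : ↥(S : Subgroup G)) := by
      rw [← Subgroup.coe_mul, A_sq h]
      congr 2
      · exact (two_d hn).symm
      · rw [mul_neg, two_d hn]
        linear_combination c_add_c hn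
    rw [e, hidx _ huK _ huK]
  have hv : ∀ p : ZMod (2 ^ n), ((z * A n x y p (c n - p) : ↥(S : Subgroup G)) : G) ∈ M := by
    intro p
    obtain ⟨φ, hφN, hodd, hφC⟩ := exists_odd_W S h V hVS σ hV₀ h₂ (WG S h p) (WG_le S h p) p
      (WG_subgroupOf S h p)
    have hφK : φ ∈ Kq S h := odd_mem_of_index_two_pow (Kq S h) n hidxK φ hodd
    apply noncentral_mem_of_index_two S h (WG S h p) (WG_le S h p) p (WG_subgroupOf S h p)
      (Kq S h) M hconj hidx φ hφN hodd hφC hφK (WG S h p ⊓ Kq S h) inf_le_left inf_le_right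
    · intro q hq
      refine ⟨?_, (Kq_normal S h).conj_mem q hq.2 φ⟩
      exact ((Subgroup.mem_normalizer_iff.1 hφN) q).1 hq.1
    · intro q hq hqZ
      obtain ⟨s, hs, rfl⟩ := hqZ
      obtain ⟨e, rfl⟩ := (mem_center_iff h s).1 hs
      have h1 := (hmemK _).1 hq.2
      rw [A_mem_S0] at h1
      rcases (two_mul_eq_zero hn e).1 (by linear_combination h1) with rfl | rfl
      · rw [A_zero]; exact M.one_mem
      · exact hζM
    · refine ⟨?_, ?_⟩
      · show ((z * A n x y p (c n - p) : ↥(S : Subgroup G)) : G) ∈ WG S h p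
        rw [← Subgroup.mem_subgroupOf, WG_subgroupOf, zA_mem_Wsub]
        linear_combination (-1 : ZMod (2 ^ n)) * c_add_c hn
      · show ((z * A n x y p (c n - p) : ↥(S : Subgroup G)) : G) ∈ Kq S h
        rw [hmemK, zA_mem_S0]; ring
    · intro hcon
      rw [coe_mem_Zc, mem_center_iff h] at hcon
      obtain ⟨a, ha⟩ := hcon
      exact z_ne_A h _ _ _ _ ha
  rintro _ ⟨s, hs', rfl⟩
  have hs : s ∈ S0 h := hs'
  clear hs'
  rcases mem_cases h s with ⟨a, b, rfl⟩ | ⟨p, q, rfl⟩
  · rw [A_mem_S0] at hs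
    have hb : b = -a := by linear_combination hs
    subst hb
    have e : (A n x y a (-a) : ↥(S : Subgroup G))
        = (z * A n x y 0 (c n - 0)) * (z * A n x y (a + c n) (c n - (a + c n))) := by
      rw [zA_mul_zA h]
      congr 1
      · linear_combination -(c_add_c hn)
      · ring
    rw [e]
    exact M.mul_mem (hv 0) (hv _)
  · rw [zA_mem_S0] at hs
    have hq : q = c n - p := by linear_combination hs
    subst hq
    exact hv p

include hUS hU₀ hUab hVS hV₀ h₁ h₂ in
/-- the kernel has no subgroup of index two -/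
theorem no_index_two_Kq (H : Subgroup ↥(Kq S h)) : H.index ≠ 2 := by
  intro hH
  haveI hHn : H.Normal := Subgroup.normal_of_index_eq_two hH
  have hodd := S0G_relIndex_Kq S h U hUS hU₀ hUab V hVS σ hV₀ h₁ h₂
  have hle : (S0G S h).subgroupOf (Kq S h) ≤ H := by
    have h1 := S0G_le_of_index_two S h U hUS hU₀ hUab V hVS σ hV₀ h₁ h₂
      (H.map (Kq S h).subtype) (by
        rintro k hk _ ⟨m, hm, rfl⟩
        exact ⟨⟨k, hk⟩ * m * ⟨k, hk⟩⁻¹, hHn.conj_mem m hm _, rfl⟩) (by
        intro a ha b hb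
        have h2 := Subgroup.mul_mem_iff_of_index_two hH (a := ⟨a, ha⟩) (b := ⟨b, hb⟩)
        have h3 : ∀ (t : G) (ht : t ∈ Kq S h),
            t ∈ H.map (Kq S h).subtype ↔ (⟨t, ht⟩ : ↥(Kq S h)) ∈ H := by
          intro t ht
          constructor
          · rintro ⟨t', ht', he⟩
            have : t' = ⟨t, ht⟩ := Subtype.ext he
            rwa [← this]
          · intro ht'
            exact ⟨⟨t, ht⟩, ht', rfl⟩
        rw [h3 a ha, h3 b hb, h3 (a * b) ((Kq S h).mul_mem ha hb)]
        exact h2)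
    intro r hr
    rw [Subgroup.mem_subgroupOf] at hr
    obtain ⟨r', hr', he⟩ := h1 hr
    have : r' = r := Subtype.ext he
    rwa [← this]
  have := Subgroup.index_dvd_of_le hle
  rw [hH] at this
  exact hodd this

end case26

end Cfsg.Agent.H2.WrAmb
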