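import Mathlib
import Cfsg.Agent.H2.WrQ7
import Cfsg.Agent.H2.WrFus3

/-!
# Wreathed Sylow 2-subgroups: the case `(2, 6)` (helper2)
-/

set_option autoImplicit false
set_option linter.style.haveILetI false
set_option linter.unusedSectionVars false
set_option linter.unusedVariables false

namespace Cfsg.Agent.H2.WrAmb

open Cfsg.Agent.Lead.QD (P c d)
open Cfsg.Agent.Lead.Wr
open Cfsg.Agent.H2.WrSC

universe u

variable {G : Type u} [Group G] [Finite G]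

/-- **the case `(2, 6)`** -/
theorem quat_case (S : Sylow 2 G) (hS : Cfsg.IsWreathed ↥(S : Subgroup G)) (n : ℕ)
    (hn : Nat.card S = 2 ^ (2 * n + 1)) (U : Subgroup G) (hUS : U ≤ (S : Subgroup G))
    (hUab : IsMulCommutative U) (hUcard : Nat.card U = 2 ^ (2 * n)) (Q : Subgroup G)
    (hQS : Q ≤ (S : Subgroup G)) (eQ : Q ≃* QuaternionGroup 2)
    (h₁ : (Subgroup.centralizer (U : Set G)).relIndex (Subgroup.normalizer (U : Set G)) = 2)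
    (h₂ : (Q ⊔ Zc S ⊔ Subgroup.centralizer ((Q ⊔ Zc S : Subgroup G) : Set G)).relIndex
        (Subgroup.normalizer ((Q ⊔ Zc S : Subgroup G) : Set G)) = 6) :
    (∃ K : Subgroup G, K.Normal ∧ K.index = 2 ^ n ∧
      (∀ P' : Sylow 2 ↥K, ∃ m : ℕ, 1 ≤ m ∧
        Nonempty ((P' : Subgroup ↥K) ≃* QuaternionGroup (2 ^ m))) ∧
      (∀ H : Subgroup ↥K, H.index ≠ 2)) ∧
    (∀ Z₀ : Subgroup G, Z₀ ≤ Zc S → Cfsg.IsWeaklyClosed Z₀ (S : Subgroup G)) ∧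
      Nat.card {C : ConjClasses G // ∃ t : G, orderOf t = 2 ∧ ConjClasses.mk t = C} = 2 := by
  obtain ⟨x, y, z, h, σ, hU₀, hV₀⟩ := setup S hS n hn U hUS hUab hUcard Q hQS eQ
  have hVS : Q ⊔ Zc S ≤ (S : Subgroup G) := sup_le hQS (Zc_le S)
  have hnn := h.hn
  have hfix : ∀ a ∈ Zc S, ∀ g : G, g * a * g⁻¹ ∈ (S : Subgroup G) → g * a * g⁻¹ = a := by
    intro a ha g hg
    have := conj_Zc_eq S h U hUS hU₀ hUab (Q ⊔ Zc S) hVS σ hV₀ h₁ h₂ a ha g⁻¹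
      (by rw [inv_inv]; exact hg)
    rwa [inv_inv] at this
  refine ⟨⟨Kq S h, Kq_normal S h, index_Kq S h U hUS hU₀ hUab (Q ⊔ Zc S) hVS σ hV₀ h₁ h₂,
    sylow_Kq S h U hUS hU₀ hUab (Q ⊔ Zc S) hVS σ hV₀ h₁ h₂,
    no_index_two_Kq S h U hUS hU₀ hUab (Q ⊔ Zc S) hVS σ hV₀ h₁ h₂⟩, ?_, ?_⟩
  · intro Z₀ hZ₀
    refine ⟨hZ₀.trans (Zc_le S), ?_⟩
    intro g hg
    apply Cfsg.Agent.Lib.Lead.Conj.map_conj_eq_of_le
    rintro _ ⟨w, hw, rfl⟩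
    have h1 : g * w * g⁻¹ ∈ (S : Subgroup G) := hg ⟨w, hw, rfl⟩
    show g * w * g⁻¹ ∈ Z₀
    rw [hfix w (hZ₀ hw) g h1]
    exact hw
  · obtain ⟨g₂, hg₂⟩ := fuse_t1 S h (Q ⊔ Zc S) hVS σ hV₀ h₂
    apply Cfsg.Agent.Lead.QD.card_classes_two 2 _ _ (orderOf_zeta S h) (orderOf_t1 S h)
    · intro g hg
      have hζ : ((A n x y (c n) (c n) : ↥(S : Subgroup G)) : G) ∈ Zc S :=
        (coe_mem_Zc S _).2 ((mem_center_iff h _).2 ⟨c n, rfl⟩)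
      have h1 := hfix _ hζ g (by rw [hg]; exact (A n x y (c n) 0 : ↥(S : Subgroup G)).2)
      rw [hg] at h1
      have h2 := A_inj h (Subtype.ext h1)
      exact c_ne hnn h2.2.symm
    · intro t ht
      rcases invol_G S h t ht with ⟨g, hg⟩ | ⟨g, hg⟩ | ⟨g, hg⟩
      · left; exact ⟨g, hg⟩
      · right; exact ⟨g, hg⟩
      · right
        refine ⟨g₂⁻¹ * g, ?_⟩
        have e2 : g₂⁻¹ * g * t * (g₂⁻¹ * g)⁻¹ = g₂⁻¹ * (g * t * g⁻¹) * g₂ := by group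
        rw [e2, hg, ← hg₂]
        group

end Cfsg.Agent.H2.WrAmb
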