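import Mathlib
import Cfsg.Agent.H2.QGrp2
import Cfsg.Agent.H2.WrQ8
import Cfsg.Agent.H2.WrCR4

/-!
# Centralizers of involutions in groups with wreathed Sylow 2-subgroups, I (helper2)
-/

set_option autoImplicit false
set_option linter.style.haveILetI false
set_option linter.unusedSectionVars false
set_option linter.unusedVariables false

namespace Cfsg.Agent.H2.QGrp

open Cfsg.Agent.Lead.QD (P c d)
open Cfsg.Agent.Lead.Wr
open Cfsg.Agent.H2.WrSC
open Cfsg.Agent.H2.WrAmb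

universe u

/-- a subgroup isomorphic to a generalized quaternion group contains a quaternion group of
order `8` -/
theorem exists_quat_sub_of_le {Γ : Type*} [Group Γ] (H : Subgroup Γ) (m : ℕ) (hm : 1 ≤ m)
    (e : ↥H ≃* QuaternionGroup (2 ^ m)) :
    ∃ Q : Subgroup Γ, Q ≤ H ∧ Nonempty (↥Q ≃* QuaternionGroup 2) := by
  obtain ⟨Q₀, ⟨e₀⟩⟩ := exists_quat_sub m hm e
  refine ⟨Q₀.map H.subtype, Subgroup.map_subtype_le _, ⟨?_⟩⟩
  exact (Subgroup.equivMapOfInjective Q₀ H.subtype (Subgroup.subtype_injective H)).symm.trans e₀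

theorem map_isMulCommutative {Γ Δ : Type*} [Group Γ] [Group Δ] (f : Γ →* Δ) (H : Subgroup Γ)
    (hH : IsMulCommutative ↥H) : IsMulCommutative ↥(H.map f) := by
  refine ⟨⟨?_⟩⟩
  rintro ⟨_, a, ha, rfl⟩ ⟨_, b, hb, rfl⟩
  apply Subtype.ext
  show f a * f b = f b * f a
  have := congrArg Subtype.val (hH.is_comm.comm ⟨a, ha⟩ ⟨b, hb⟩)
  simp only [Subgroup.coe_mul] at this
  rw [← map_mul, ← map_mul, this]

theorem card_map_of_injective {Γ Δ : Type*} [Group Γ] [Group Δ] (f : Γ →* Δ)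
    (hf : Function.Injective f) (H : Subgroup Γ) : Nat.card ↥(H.map f) = Nat.card ↥H :=
  (Nat.card_congr (Subgroup.equivMapOfInjective H f hf).toEquiv).symm

variable {G : Type u} [Group G] [Finite G]

/-- the commutative subgroup of index two and a quaternion subgroup of a wreathed Sylow
2-subgroup -/
theorem wr_exists_UQ (S : Sylow 2 G) (hS : Cfsg.IsWreathed ↥(S : Subgroup G)) :
    ∃ n : ℕ, 2 ≤ n ∧ Nat.card S = 2 ^ (2 * n + 1) ∧ ∃ U : Subgroup G, U ≤ (S : Subgroup G) ∧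
      IsMulCommutative U ∧ Nat.card U = 2 ^ (2 * n) ∧ ∃ Q : Subgroup G, Q ≤ (S : Subgroup G) ∧
        Nonempty (Q ≃* QuaternionGroup 2) := by
  obtain ⟨n, x, y, z, h⟩ := exists_dat hS
  refine ⟨n, h.hn, h.card, (Cfsg.Agent.Lead.Wr.U h).map (S : Subgroup G).subtype,
    Subgroup.map_subtype_le _, map_isMulCommutative _ _ (U_comm h), ?_, ?_⟩
  · rw [card_map_of_injective _ (Subgroup.subtype_injective _), card_U h]
  · obtain ⟨m, hm, ⟨e⟩⟩ := S0_quat h
    have e' : ↥(S0G S h) ≃* QuaternionGroup (2 ^ m) :=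
      (Subgroup.equivMapOfInjective (S0 h) (S : Subgroup G).subtype
        (Subgroup.subtype_injective _)).symm.trans e
    obtain ⟨Q, hQ, hQe⟩ := exists_quat_sub_of_le (S0G S h) m hm e'
    exact ⟨Q, hQ.trans (S0G_le S h), hQe⟩

/-- without subgroups of index two both local indices are `6` -/
theorem wr_six_six (S : Sylow 2 G) (hS : Cfsg.IsWreathed ↥(S : Subgroup G))
    (hG : ∀ H : Subgroup G, H.index ≠ 2) (n : ℕ)
    (hn : Nat.card S = 2 ^ (2 * n + 1)) (U : Subgroup G) (hUS : U ≤ (S : Subgroup G))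
    (hUab : IsMulCommutative U) (hUcard : Nat.card U = 2 ^ (2 * n)) (Q : Subgroup G)
    (hQS : Q ≤ (S : Subgroup G)) (eQ : Q ≃* QuaternionGroup 2) :
    (Subgroup.centralizer (U : Set G)).relIndex (Subgroup.normalizer (U : Set G)) = 6 ∧
    (Q ⊔ Zc S ⊔ Subgroup.centralizer ((Q ⊔ Zc S : Subgroup G) : Set G)).relIndex
        (Subgroup.normalizer ((Q ⊔ Zc S : Subgroup G) : Set G)) = 6 := by
  have hn1 : 1 ≤ n := by
    obtain ⟨n', hn', hcard', -⟩ := hS
    have h1 : 2 ^ (2 * n' + 1) = 2 ^ (2 * n + 1) := by rw [← hcard']; exact hn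
    have h2 := Nat.pow_right_injective (le_refl 2) h1
    omega
  have hS1 : Nat.card S ≠ 1 := by
    rw [hn]
    have : 2 ^ (2 * n + 1) = 2 * 2 ^ (2 * n) := by rw [pow_succ]; ring
    have h2 : 0 < 2 ^ (2 * n) := by positivity
    omega
  obtain ⟨h1 | h1, h2 | h2⟩ := local_indices S hS n hn U hUS hUab hUcard Q hQS eQ
  · exfalso
    obtain ⟨⟨P', N, hNn, hNc⟩, -⟩ := nilpotent_case S hS n hn U hUS hUab hUcard Q hQS eQ h1 h2
    haveI := hNn
    obtain ⟨H, hH⟩ := exists_index_two_of_complement S hS1 N P' hNc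
    exact hG H hH
  · exfalso
    obtain ⟨⟨K, hKn, hKi, -⟩, -⟩ := quat_case S hS n hn U hUS hUab hUcard Q hQS eQ h1 h2
    haveI := hKn
    obtain ⟨H, hH⟩ := exists_index_two_of_normal K n hn1 hKi
    exact hG H hH
  · exfalso
    obtain ⟨⟨K, hKn, hKi, -⟩, -⟩ := abelian_case S hS n hn U hUS hUab hUcard Q hQS eQ h1 h2
    exact hG K hKi
  · exact ⟨h1, h2⟩

/-- conjugacy from the number of classes -/
theorem conj_of_card_classes_one {Γ : Type*} [Group Γ] (k : ℕ)
    (hone : Nat.card {C : ConjClasses Γ // ∃ t : Γ, orderOf t = k ∧ ConjClasses.mk t = C} = 1)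
    (t t' : Γ) (ht : orderOf t = k) (ht' : orderOf t' = k) : ∃ g : Γ, g * t * g⁻¹ = t' := by
  rw [Nat.card_eq_one_iff_unique] at hone
  obtain ⟨hsub, -⟩ := hone
  have h1 := hsub.elim (⟨ConjClasses.mk t, t, ht, rfl⟩ :
    {C : ConjClasses Γ // ∃ t : Γ, orderOf t = k ∧ ConjClasses.mk t = C})
    ⟨ConjClasses.mk t', t', ht', rfl⟩
  have h2 : ConjClasses.mk t = ConjClasses.mk t' := congrArg Subtype.val h1
  rw [ConjClasses.mk_eq_mk_iff_isConj, isConj_iff] at h2
  exact h2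

/-- without subgroups of index two every involution is conjugate to a central involution of `S` -/
theorem wr_exists_conj_center (S : Sylow 2 G) (hS : Cfsg.IsWreathed ↥(S : Subgroup G))
    (hG : ∀ H : Subgroup G, H.index ≠ 2) (t : G) (ht : orderOf t = 2) :
    ∃ ζ ∈ ZcS (S : Subgroup G), ∃ g : G, g * ζ * g⁻¹ = t := by
  obtain ⟨n, hn2, hn, U, hUS, hUab, hUcard, Q, hQS, ⟨eQ⟩⟩ := wr_exists_UQ S hS
  obtain ⟨h₁, h₂⟩ := wr_six_six S hS hG n hn U hUS hUab hUcard Q hQS eQ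
  obtain ⟨-, hone⟩ := simple_case S hS n hn U hUS hUab hUcard Q hQS eQ h₁ h₂
  obtain ⟨x, y, z, h, σ, hU₀, hV₀⟩ := setup S hS n hn U hUS hUab hUcard Q hQS eQ
  refine ⟨((A n x y (c n) (c n) : ↥(S : Subgroup G)) : G), ?_, ?_⟩
  · exact (coe_mem_Zc S _).2 ((mem_center_iff h _).2 ⟨c n, rfl⟩)
  · exact conj_of_card_classes_one 2 hone _ t (orderOf_zeta S h) ht

end Cfsg.Agent.H2.QGrp
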