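import Mathlib
import Cfsg.Agent.H2.QGrpW1
import Cfsg.Agent.Lib.Lead.QDGlobal
import Cfsg.Agent.Lib.Lead.KleinFour
import Cfsg.Agent.S1203
import Cfsg.Agent.S1204
import Cfsg.Agent.S1205
import Cfsg.Agent.S1206
import Cfsg.Agent.S1207

/-!
# Centralizers of involutions in groups with quasi-dihedral Sylow 2-subgroups, I (helper2)
-/

set_option autoImplicit false
set_option linter.style.haveILetI false
set_option linter.unusedSectionVars false
set_option linter.unusedVariables false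

namespace Cfsg.Agent.H2.QGrp

open Cfsg.Agent.Lead.QD

universe u

theorem isQuasiDihedral_of_mulEquiv {A B : Type*} [Group A] [Group B] (e : A ≃* B)
    (hA : Cfsg.IsQuasiDihedral A) : Cfsg.IsQuasiDihedral B := by
  obtain ⟨n, hn, hcard, x, y, hx, hy, hxy⟩ := hA
  refine ⟨n, hn, by rw [← Nat.card_congr e.toEquiv]; exact hcard, e x, e y, ?_, ?_, ?_⟩
  · rw [MulEquiv.orderOf_eq]; exact hx
  · rw [MulEquiv.orderOf_eq]; exact hy
  · rw [← map_inv, ← map_mul, ← map_mul, hxy, map_pow]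

variable {G : Type u} [Group G] [Finite G]

/-- a four-subgroup and a quaternion subgroup of a quasi-dihedral Sylow 2-subgroup -/
theorem qd_exists_TQ (S : Sylow 2 G) (hS : Cfsg.IsQuasiDihedral ↥(S : Subgroup G)) :
    ∃ T : Subgroup G, T ≤ (S : Subgroup G) ∧ IsKleinFour T ∧ ∃ Q : Subgroup G,
      Q ≤ (S : Subgroup G) ∧ Nonempty (Q ≃* QuaternionGroup 2) := by
  obtain ⟨n, x, y, h⟩ := exists_dat_sub (S : Subgroup G) hS
  have hn := h.hn
  have hz2 : P n x (c n) * P n x (c n) = 1 := by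
    have := pow_orderOf_eq_one (P n x (c n))
    rwa [orderOf_z h, pow_two] at this
  have hz1 : P n x (c n) ≠ 1 := by
    intro h1
    have := orderOf_z h
    rw [h1, orderOf_one] at this
    omega
  have hy1 : y ≠ 1 := by
    intro h1
    have := h.oy
    rw [h1, orderOf_one] at this
    omega
  have hzy : P n x (c n) ≠ y := by
    intro h1
    have := y_ne_P h 0 (c n)
    rw [P_zero, mul_one] at this
    exact this h1.symm
  obtain ⟨T, hT, hzT, hyT, hTall⟩ := Cfsg.Agent.Lib.Lead.KleinFour.exists_kleinFour hz2 (y_mul_y h)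
    (z_comm h y h.yS).symm hz1 hy1 hzy
  refine ⟨T, ?_, hT, ?_⟩
  · intro t ht
    rcases hTall t ht with rfl | rfl | rfl | rfl
    · exact Subgroup.one_mem _
    · exact P_mem h _
    · exact h.yS
    · exact Subgroup.mul_mem _ (P_mem h _) h.yS
  · obtain ⟨e⟩ := Mx_c_quaternion h
    obtain ⟨Q, hQ, hQe⟩ := exists_quat_sub_of_le (Mx h (c n) (Or.inr rfl)) (n - 2) (by omega) e
    exact ⟨Q, hQ.trans (Mx_le h _ _), hQe⟩

/-- without subgroups of index two both local indices are `6` -/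
theorem qd_six_six (S : Sylow 2 G) (hS : Cfsg.IsQuasiDihedral ↥(S : Subgroup G))
    (hG : ∀ H : Subgroup G, H.index ≠ 2) (T : Subgroup G) (hT : IsKleinFour T)
    (hTS : T ≤ (S : Subgroup G)) (Q : Subgroup G) (hQS : Q ≤ (S : Subgroup G))
    (eQ : Q ≃* QuaternionGroup 2) :
    (Subgroup.centralizer (T : Set G)).relIndex (Subgroup.normalizer (T : Set G)) = 6 ∧
    (Q ⊔ Subgroup.centralizer (Q : Set G)).relIndex (Subgroup.normalizer (Q : Set G)) = 6 := by
  have hS1 : Nat.card S ≠ 1 := by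
    obtain ⟨n, hn, hcard, -⟩ := hS
    have h1 : Nat.card S = 2 ^ (n + 1) := hcard
    rw [h1, pow_succ]
    have h2 : 0 < 2 ^ n := by positivity
    omega
  obtain ⟨h1 | h1, h2 | h2⟩ := Cfsg.Agent.S1203.result S hS T hT hTS Q hQS eQ
  · exfalso
    obtain ⟨⟨P', N, hNn, hNc⟩, -⟩ := Cfsg.Agent.S1207.result S hS T hT hTS Q hQS eQ h1 h2
    haveI := hNn
    obtain ⟨H, hH⟩ := exists_index_two_of_complement S hS1 N P' hNc
    exact hG H hH
  · exfalso
    obtain ⟨⟨K, hKn, hKi, -⟩, -⟩ := Cfsg.Agent.S1205.result S hS T hT hTS Q hQS eQ h1 h2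
    exact hG K hKi
  · exfalso
    obtain ⟨⟨K, hKn, hKi, -⟩, -⟩ := Cfsg.Agent.S1206.result S hS T hT hTS Q hQS eQ h1 h2
    exact hG K hKi
  · exact ⟨h1, h2⟩

/-- without subgroups of index two every involution is conjugate to a central involution of `S` -/
theorem qd_exists_conj_center (S : Sylow 2 G) (hS : Cfsg.IsQuasiDihedral ↥(S : Subgroup G))
    (hG : ∀ H : Subgroup G, H.index ≠ 2) (t : G) (ht : orderOf t = 2) :
    ∃ ζ ∈ ZcS (S : Subgroup G), ∃ g : G, g * ζ * g⁻¹ = t := by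
  obtain ⟨T, hTS, hT, Q, hQS, ⟨eQ⟩⟩ := qd_exists_TQ S hS
  obtain ⟨h₁, h₂⟩ := qd_six_six S hS hG T hT hTS Q hQS eQ
  obtain ⟨-, hone, -⟩ := Cfsg.Agent.S1204.result S hS T hT hTS Q hQS eQ h₁ h₂
  obtain ⟨n, x, y, h⟩ := exists_dat_sub (S : Subgroup G) hS
  refine ⟨P n x (c n), ?_, ?_⟩
  · rw [mem_ZcS_iff]
    exact ⟨P_mem h _, fun b hb => z_comm h b hb⟩
  · exact conj_of_card_classes_one 2 hone _ t (orderOf_z h) ht

end Cfsg.Agent.H2.QGrp
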