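import Mathlib
import Cfsg.Agent.H2.QGrpQ1

/-!
# Centralizers of involutions in groups with quasi-dihedral Sylow 2-subgroups, II (helper2)
-/

set_option autoImplicit false
set_option linter.style.haveILetI false
set_option linter.unusedSectionVars false
set_option linter.unusedVariables false

namespace Cfsg.Agent.H2.QGrp

open Cfsg.Agent.Lead.QD

universe u

variable {G : Type u} [Group G] [Finite G]

/-- the trivial subgroup is weakly closed -/
theorem isWeaklyClosed_bot {Γ : Type u} [Group Γ] (R : Subgroup Γ) :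
    Cfsg.IsWeaklyClosed (⊥ : Subgroup Γ) R := by
  refine ⟨bot_le, fun g _ => ?_⟩
  rw [Subgroup.map_bot]

/-- the centralizer of a central involution of a quasi-dihedral Sylow 2-subgroup, in a group
without subgroups of index two -/
theorem qd_centralizer_central (S₁ : Sylow 2 G) (hS₁ : Cfsg.IsQuasiDihedral ↥(S₁ : Subgroup G))
    (hG : ∀ H : Subgroup G, H.index ≠ 2) (x : G) (hx : orderOf x = 2)
    (hxZ : x ∈ ZcS (S₁ : Subgroup G)) :
    ∃ R : Sylow 2 ↥(Subgroup.centralizer ({x} : Set G)), Nat.card R = Nat.card S₁ ∧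
      (∃ K : Subgroup ↥(Subgroup.centralizer ({x} : Set G)), K.Normal ∧ (∃ a : ℕ, K.index = 2 ^ a) ∧
        (∀ H : Subgroup ↥K, H.index ≠ 2) ∧ (∀ P' : Sylow 2 ↥K, ∃ m : ℕ, 1 ≤ m ∧
          Nonempty ((P' : Subgroup ↥K) ≃* QuaternionGroup (2 ^ m)))) ∧
      (∀ Z₀ : Subgroup ↥(Subgroup.centralizer ({x} : Set G)),
        Z₀ ≤ ((Subgroup.center (R : Subgroup ↥(Subgroup.centralizer ({x} : Set G)))).map
          (R : Subgroup ↥(Subgroup.centralizer ({x} : Set G))).subtype) →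
        Cfsg.IsWeaklyClosed Z₀ (R : Subgroup ↥(Subgroup.centralizer ({x} : Set G)))) := by
  haveI : Fact (Nat.Prime 2) := ⟨Nat.prime_two⟩
  set C := Subgroup.centralizer ({x} : Set G) with hC
  have hle : (S₁ : Subgroup G) ≤ C := le_centralizer_of_mem_ZcS S₁ x hxZ
  set R : Sylow 2 ↥C := S₁.subtype hle with hRdef
  have hRcoe : (R : Subgroup ↥C) = (S₁ : Subgroup G).subgroupOf C := rfl
  have eR : ↥(R : Subgroup ↥C) ≃* ↥(S₁ : Subgroup G) := Subgroup.subgroupOfEquivOfLe hle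
  have hR : Cfsg.IsQuasiDihedral ↥(R : Subgroup ↥C) := isQuasiDihedral_of_mulEquiv eR.symm hS₁
  have hcardR : Nat.card R = Nat.card S₁ := Nat.card_congr eR.toEquiv
  -- data in `R`
  obtain ⟨T', hT'R, hT', Q', hQ'R, ⟨eQ'⟩⟩ := qd_exists_TQ R hR
  have hmapR : ∀ A' : Subgroup ↥C, A' ≤ (R : Subgroup ↥C) →
      A'.map C.subtype ≤ (S₁ : Subgroup G) := by
    rintro A' hA' _ ⟨a', ha', rfl⟩
    exact Subgroup.mem_subgroupOf.1 (hA' ha')
  have hT₁S := hmapR T' hT'R
  have hQ₁S := hmapR Q' hQ'R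
  have hT₁ : IsKleinFour ↥(T'.map C.subtype) := Cfsg.Agent.H2.WrAmb.isKleinFour_of_mulEquiv
    (Subgroup.equivMapOfInjective T' C.subtype (Subgroup.subtype_injective C)) hT'
  have eQ₁ : ↥(Q'.map C.subtype) ≃* QuaternionGroup 2 :=
    (Subgroup.equivMapOfInjective Q' C.subtype (Subgroup.subtype_injective C)).symm.trans eQ'
  obtain ⟨h₁G, h₂G⟩ := qd_six_six S₁ hS₁ hG (T'.map C.subtype) hT₁ hT₁S (Q'.map C.subtype) hQ₁S eQ₁
  -- `x` is the involution of `Q₁`
  obtain ⟨n, x₁, y₁, hd₁⟩ := exists_dat_sub (S₁ : Subgroup G) hS₁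
  have hx1 : x ≠ 1 := by
    intro h1
    rw [h1, orderOf_one] at hx
    omega
  have hxz : x = P n x₁ (c n) := by
    rcases center_cases S₁ hd₁ x hxZ with h1 | h1
    · exact absurd h1 hx1
    · exact h1
  obtain ⟨hcQ, hexpQ, hncQ, huQ, -⟩ := quat_facts (Q'.map C.subtype) eQ₁
  obtain ⟨j, hj, hQj⟩ := quat_eq hd₁ (Q'.map C.subtype) hQ₁S hcQ hexpQ hncQ huQ
  have hxQ : x ∈ Q'.map C.subtype := by
    have h4c : 4 * c n = 0 := by
      have := two_c hd₁.hn
      linear_combination 2 * this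
    have : P n x₁ (c n) ∈ Hs n x₁ y₁ j 4 := ⟨c n, h4c, Or.inl rfl⟩
    rw [← hQj] at this
    rw [hxz]; exact this
  have hNC : Subgroup.normalizer ((Q'.map C.subtype : Subgroup G) : Set G) ≤ C := by
    intro k hk
    rw [hC, Subgroup.mem_centralizer_singleton_iff]
    have h1 : k * x * k⁻¹ ∈ Q'.map C.subtype := ((Subgroup.mem_normalizer_iff.1 hk) x).1 hxQ
    have h2 : orderOf (k * x * k⁻¹) = 2 := by
      rw [Cfsg.Agent.Lib.Lead.Conj.orderOf_conj]; exact hx
    have h3 := huQ _ h1 _ hxQ h2 hx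
    calc k * x = (k * x * k⁻¹) * k := by group
      _ = x * k := by rw [h3]
  -- the second index in `C`
  have h₂C : (Q' ⊔ Subgroup.centralizer (Q' : Set ↥C)).relIndex
      (Subgroup.normalizer (Q' : Set ↥C)) = 6 := by
    rw [relIndex_transport C Q' hNC]
    exact h₂G
  -- `x` as an element of `C`
  have hxC : x ∈ C := by
    rw [hC, Subgroup.mem_centralizer_singleton_iff]
  have hxcentral : ∀ g' : ↥C, g' * (⟨x, hxC⟩ : ↥C) * g'⁻¹ = ⟨x, hxC⟩ := by
    intro g'
    apply Subtype.ext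
    show (g' : G) * x * (g' : G)⁻¹ = x
    have := Subgroup.mem_centralizer_singleton_iff.1 g'.2
    rw [this]; group
  have hxC2 : orderOf (⟨x, hxC⟩ : ↥C) = 2 := by rw [Subgroup.orderOf_mk]; exact hx
  -- the first index in `C`
  have h₁C : (Subgroup.centralizer (T' : Set ↥C)).relIndex (Subgroup.normalizer (T' : Set ↥C))
      = 2 := by
    rcases (Cfsg.Agent.S1203.result R hR T' hT' hT'R Q' hQ'R eQ').1 with h1 | h1
    · exact h1
    · exfalso
      obtain ⟨-, hone, -⟩ := Cfsg.Agent.S1204.result R hR T' hT' hT'R Q' hQ'R eQ' h1 h₂C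
      obtain ⟨t', ht'T, ht'1, ht'x⟩ :=
        Cfsg.Agent.Lib.Lead.KleinFour.KleinFourSub.exists_ne hT' (⟨x, hxC⟩ : ↥C)
      have ht'2 : orderOf t' = 2 := by
        apply orderOf_eq_prime
        · rw [pow_two]
          exact Cfsg.Agent.Lib.Lead.KleinFour.KleinFourSub.sq_eq_one hT' ht'T
        · exact ht'1
      obtain ⟨g', hg'⟩ := conj_of_card_classes_one 2 hone (⟨x, hxC⟩ : ↥C) t' hxC2 ht'2
      rw [hxcentral g'] at hg'
      exact ht'x hg'.symm
  obtain ⟨⟨K, hKn, hKi, hKsyl, hKno⟩, hwc, -⟩ :=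
    Cfsg.Agent.S1205.result R hR T' hT' hT'R Q' hQ'R eQ' h₁C h₂C
  refine ⟨R, hcardR, ⟨K, hKn, ⟨1, by rw [hKi, pow_one]⟩, hKno, hKsyl⟩, ?_⟩
  -- subgroups of the centre
  intro Z₀ hZ₀
  obtain ⟨n', x', y', hd'⟩ := exists_dat_sub (R : Subgroup ↥C) hR
  by_cases hbot : Z₀ = ⊥
  · rw [hbot]; exact isWeaklyClosed_bot _
  · have hZeq : Z₀ = (Subgroup.center ↥(R : Subgroup ↥C)).map (R : Subgroup ↥C).subtype := by
      apply le_antisymm hZ₀
      obtain ⟨w, hw, hw1⟩ : ∃ w ∈ Z₀, w ≠ 1 := by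
        by_contra hcon
        push Not at hcon
        apply hbot
        rw [Subgroup.eq_bot_iff_forall]
        exact hcon
      have hwz : w = P n' x' (c n') := by
        rcases center_cases R hd' w (hZ₀ hw) with h1 | h1
        · exact absurd h1 hw1
        · exact h1
      intro v hv
      rcases center_cases R hd' v hv with h1 | h1
      · rw [h1]; exact Z₀.one_mem
      · rw [h1, ← hwz]; exact hw
    rw [hZeq]
    exact hwc

end Cfsg.Agent.H2.QGrp
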