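import Mathlib
import Cfsg.Agent.H2.QGrpW1

/-!
# Centralizers of involutions in groups with wreathed Sylow 2-subgroups, II (helper2)
-/

set_option autoImplicit false
set_option linter.style.haveILetI false
set_option linter.unusedSectionVars false
set_option linter.unusedVariables false

namespace Cfsg.Agent.H2.QGrp

open Cfsg.Agent.Lead.QD (P c d)
open Cfsg.Agent.Lead.Wr
open Cfsg.Agent.H2.WrSC
open Cfsg.Agent.H2.WrAmb

universe u

variable {G : Type u} [Group G] [Finite G]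

/-- the centralizer of a central involution of a wreathed Sylow 2-subgroup, in a group without
subgroups of index two -/
theorem wr_centralizer_central (S₁ : Sylow 2 G) (hS₁ : Cfsg.IsWreathed ↥(S₁ : Subgroup G))
    (hG : ∀ H : Subgroup G, H.index ≠ 2) (x : G) (hx : orderOf x = 2)
    (hxZ : x ∈ ZcS (S₁ : Subgroup G)) :
    ∃ R : Sylow 2 ↥(Subgroup.centralizer ({x} : Set G)), Nat.card R = Nat.card S₁ ∧
      (∃ K : Subgroup ↥(Subgroup.centralizer ({x} : Set G)), K.Normal ∧ (∃ a : ℕ, K.index = 2 ^ a) ∧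
        (∀ H : Subgroup ↥K, H.index ≠ 2) ∧ (∀ P' : Sylow 2 ↥K, ∃ m : ℕ, 1 ≤ m ∧
          Nonempty ((P' : Subgroup ↥K) ≃* QuaternionGroup (2 ^ m)))) ∧
      (∀ Z₀ : Subgroup ↥(Subgroup.centralizer ({x} : Set G)),
        Z₀ ≤ ((Subgroup.center (R : Subgroup ↥(Subgroup.centralizer ({x} : Set G)))).map
          (R : Subgroup ↥(Subgroup.centralizer ({x} : Set G))).subtype) →
        Cfsg.IsWeaklyClosed Z₀ (R : Subgroup ↥(Subgroup.centralizer ({x} : Set G)))) := by
  haveI : Fact (Nat.Prime 2) := ⟨Nat.prime_two⟩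
  set C := Subgroup.centralizer ({x} : Set G) with hC
  have hle : (S₁ : Subgroup G) ≤ C := le_centralizer_of_mem_ZcS S₁ x hxZ
  set R : Sylow 2 ↥C := S₁.subtype hle with hRdef
  have hRcoe : (R : Subgroup ↥C) = (S₁ : Subgroup G).subgroupOf C := rfl
  have eR : ↥(R : Subgroup ↥C) ≃* ↥(S₁ : Subgroup G) := Subgroup.subgroupOfEquivOfLe hle
  have hR : Cfsg.IsWreathed ↥(R : Subgroup ↥C) := isWreathed_of_mulEquiv eR.symm hS₁
  have hcardR : Nat.card R = Nat.card S₁ := Nat.card_congr eR.toEquiv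
  -- data in `R`
  obtain ⟨n, hn2, hn, U', hU'R, hU'ab, hU'card, Q', hQ'R, ⟨eQ'⟩⟩ := wr_exists_UQ R hR
  -- pushed forward to `G`
  have hn₁ : Nat.card S₁ = 2 ^ (2 * n + 1) := by rw [← hcardR]; exact hn
  have hmapR : ∀ A' : Subgroup ↥C, A' ≤ (R : Subgroup ↥C) →
      A'.map C.subtype ≤ (S₁ : Subgroup G) := by
    rintro A' hA' _ ⟨a', ha', rfl⟩
    exact Subgroup.mem_subgroupOf.1 (hA' ha')
  have hU₁S := hmapR U' hU'R
  have hQ₁S := hmapR Q' hQ'R
  have hU₁ab := map_isMulCommutative C.subtype U' hU'ab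
  have hU₁card : Nat.card ↥(U'.map C.subtype) = 2 ^ (2 * n) := by
    rw [card_map_of_injective _ (Subgroup.subtype_injective C)]; exact hU'card
  have eQ₁ : ↥(Q'.map C.subtype) ≃* QuaternionGroup 2 :=
    (Subgroup.equivMapOfInjective Q' C.subtype (Subgroup.subtype_injective C)).symm.trans eQ'
  obtain ⟨h₁G, h₂G⟩ := wr_six_six S₁ hS₁ hG n hn₁ (U'.map C.subtype) hU₁S hU₁ab hU₁card
    (Q'.map C.subtype) hQ₁S eQ₁
  -- `N_G(V₁) ≤ C`
  obtain ⟨x₁, y₁, z₁, hd₁, σ₁, hU₀₁, hV₀₁⟩ := setup S₁ hS₁ n hn₁ (U'.map C.subtype) hU₁S hU₁ab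
    hU₁card (Q'.map C.subtype) hQ₁S eQ₁
  have hV₁S : Q'.map C.subtype ⊔ Zc S₁ ≤ (S₁ : Subgroup G) := sup_le hQ₁S (Zc_le S₁)
  have hNC : Subgroup.normalizer ((Q'.map C.subtype ⊔ Zc S₁ : Subgroup G) : Set G) ≤ C := by
    intro k hk
    have h1 := normalizer_V_le_centralizer_Zc S₁ hd₁ _ hV₁S σ₁ hV₀₁ h₂G hk
    rw [Subgroup.mem_centralizer_iff] at h1
    rw [hC, Subgroup.mem_centralizer_singleton_iff]
    exact (h1 x hxZ).symm
  -- the second index in `C`
  have hmapV : (Q' ⊔ Zc R).map C.subtype = Q'.map C.subtype ⊔ Zc S₁ := by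
    rw [Subgroup.map_sup]
    congr 1
    exact ZcS_subgroupOf_map (S₁ : Subgroup G) C hle
  have h₂C : (Q' ⊔ Zc R ⊔ Subgroup.centralizer ((Q' ⊔ Zc R : Subgroup ↥C) : Set ↥C)).relIndex
      (Subgroup.normalizer ((Q' ⊔ Zc R : Subgroup ↥C) : Set ↥C)) = 6 := by
    rw [relIndex_transport C (Q' ⊔ Zc R) (by rw [hmapV]; exact hNC), hmapV]
    exact h₂G
  -- the first index in `C`
  have h₁C : (Subgroup.centralizer (U' : Set ↥C)).relIndex (Subgroup.normalizer (U' : Set ↥C))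
      = 2 := by
    rcases (local_indices R hR n hn U' hU'R hU'ab hU'card Q' hQ'R eQ').1 with h1 | h1
    · exact h1
    · exfalso
      obtain ⟨x', y', z', hd', σ', hU₀', hV₀'⟩ := setup R hR n hn U' hU'R hU'ab hU'card Q' hQ'R eQ'
      have hnn := hd'.hn
      obtain ⟨g', hg'⟩ := fuse_zeta R hd' U' hU'R hU₀' hU'ab h1
      -- the central involution of `R` is `x`
      have hxC : x ∈ C := by
        rw [hC, Subgroup.mem_centralizer_singleton_iff]
      have hxR : (⟨x, hxC⟩ : ↥C) ∈ (R : Subgroup ↥C) := by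
        rw [hRcoe, Subgroup.mem_subgroupOf]
        exact ZcS_le _ hxZ
      have hxcen : (⟨⟨x, hxC⟩, hxR⟩ : ↥(R : Subgroup ↥C)) ∈ Subgroup.center ↥(R : Subgroup ↥C) := by
        rw [Subgroup.mem_center_iff]
        intro b
        apply Subtype.ext
        apply Subtype.ext
        show ((b : ↥C) : G) * x = x * ((b : ↥C) : G)
        have hb : ((b : ↥C) : G) ∈ (S₁ : Subgroup G) := Subgroup.mem_subgroupOf.1 b.2
        exact ((mem_ZcS_iff _ _).1 hxZ).2 _ hb
      obtain ⟨e, he⟩ := (mem_center_iff hd' _).1 hxcen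
      have hord : orderOf (⟨⟨x, hxC⟩, hxR⟩ : ↥(R : Subgroup ↥C)) = 2 := by
        rw [Subgroup.orderOf_mk, Subgroup.orderOf_mk]; exact hx
      have he2 : 2 * e = 0 := by
        have h3 := pow_orderOf_eq_one (⟨⟨x, hxC⟩, hxR⟩ : ↥(R : Subgroup ↥C))
        rw [hord, pow_two, he, A_sq hd'] at h3
        exact (A_eq_one hd' h3).1
      have hec : e = c n := by
        rcases (two_mul_eq_zero hnn e).1 he2 with rfl | rfl
        · exfalso
          rw [A_zero] at he
          rw [he, orderOf_one] at hord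
          omega
        · rfl
      rw [hec] at he
      -- `x` is central in `C`
      have hfix : g' * ((A n x' y' (c n) (c n) : ↥(R : Subgroup ↥C)) : ↥C) * g'⁻¹
          = ((A n x' y' (c n) (c n) : ↥(R : Subgroup ↥C)) : ↥C) := by
        rw [← he]
        apply Subtype.ext
        show (g' : G) * x * (g' : G)⁻¹ = x
        have := Subgroup.mem_centralizer_singleton_iff.1 g'.2
        rw [this]; group
      rw [hfix] at hg'
      have := A_inj hd' (Subtype.ext hg')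
      exact c_ne hnn this.2
  obtain ⟨⟨K, hKn, hKi, hKsyl, hKno⟩, hwc, -⟩ := quat_case R hR n hn U' hU'R hU'ab hU'card Q' hQ'R
    eQ' h₁C h₂C
  exact ⟨R, hcardR, ⟨K, hKn, ⟨n, hKi⟩, hKno, hKsyl⟩, hwc⟩

end Cfsg.Agent.H2.QGrp
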