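import Mathlib
import Cfsg.Agent.H2.QGrpQ2
import Cfsg.Agent.H2.QGrpW2

/-!
# Centralizers of involutions in groups with quasi-dihedral or wreathed Sylow 2-subgroups
(helper2)
-/

set_option autoImplicit false
set_option linter.style.haveILetI false
set_option linter.unusedSectionVars false
set_option linter.unusedVariables false

namespace Cfsg.Agent.H2.QGrp

universe u

variable {G : Type u} [Group G] [Finite G]

/-- the centralizer of an involution in a group with quasi-dihedral or wreathed Sylow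
2-subgroups and without subgroups of index two -/
theorem centralizer_is_q_group (S : Sylow 2 G)
    (hS : Cfsg.IsQuasiDihedral ↥(S : Subgroup G) ∨ Cfsg.IsWreathed ↥(S : Subgroup G))
    (hG : ∀ H : Subgroup G, H.index ≠ 2) (x : G) (hx : orderOf x = 2) :
    ∃ R : Sylow 2 ↥(Subgroup.centralizer ({x} : Set G)), Nat.card R = Nat.card S ∧
      (∃ K : Subgroup ↥(Subgroup.centralizer ({x} : Set G)), K.Normal ∧ (∃ a : ℕ, K.index = 2 ^ a) ∧
        (∀ H : Subgroup ↥K, H.index ≠ 2) ∧ (∀ P' : Sylow 2 ↥K, ∃ m : ℕ, 1 ≤ m ∧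
          Nonempty ((P' : Subgroup ↥K) ≃* QuaternionGroup (2 ^ m)))) ∧
      (∀ Z₀ : Subgroup ↥(Subgroup.centralizer ({x} : Set G)),
        Z₀ ≤ ((Subgroup.center (R : Subgroup ↥(Subgroup.centralizer ({x} : Set G)))).map
          (R : Subgroup ↥(Subgroup.centralizer ({x} : Set G))).subtype) →
        Cfsg.IsWeaklyClosed Z₀ (R : Subgroup ↥(Subgroup.centralizer ({x} : Set G)))) := by
  haveI : Fact (Nat.Prime 2) := ⟨Nat.prime_two⟩
  rcases hS with hS | hS
  · obtain ⟨ζ, hζ, g, hg⟩ := qd_exists_conj_center S hS hG x hx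
    obtain ⟨S₁, hS₁⟩ := exists_sylow_center S ζ hζ g
    rw [hg] at hS₁
    have e : ↥(S : Subgroup G) ≃* ↥(S₁ : Subgroup G) := Sylow.equiv S S₁
    obtain ⟨R, hcard, h2, h3⟩ :=
      qd_centralizer_central S₁ (isQuasiDihedral_of_mulEquiv e hS) hG x hx hS₁
    exact ⟨R, hcard.trans (Nat.card_congr e.symm.toEquiv), h2, h3⟩
  · obtain ⟨ζ, hζ, g, hg⟩ := wr_exists_conj_center S hS hG x hx
    obtain ⟨S₁, hS₁⟩ := exists_sylow_center S ζ hζ g
    rw [hg] at hS₁
    have e : ↥(S : Subgroup G) ≃* ↥(S₁ : Subgroup G) := Sylow.equiv S S₁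
    obtain ⟨R, hcard, h2, h3⟩ :=
      wr_centralizer_central S₁ (Cfsg.Agent.H2.WrAmb.isWreathed_of_mulEquiv e hS) hG x hx hS₁
    exact ⟨R, hcard.trans (Nat.card_congr e.symm.toEquiv), h2, h3⟩

end Cfsg.Agent.H2.QGrp
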