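import Mathlib
import Cfsg.Prelude.Def_Local
import Cfsg.Agent.H2.CoprimeFactor
import Cfsg.Agent.H2.Equivariant
import Cfsg.Agent.H2.HyperplaneGen
import Cfsg.Agent.H2.PPrimeCore
import Cfsg.Agent.H2.LocalFStar
import Cfsg.Agent.Lib.Lead.PSolvable
import Cfsg.Agent.S0044
import Cfsg.Agent.S0022

/-!
`q`-constraint of solvable groups in ambient form and the `O_{q'}`-criterion under a noncyclic
coprime action (helper2).
-/

set_option autoImplicit false
open scoped commutatorElement Pointwise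

namespace Cfsg.Agent.H2.QPrimeCoprime

open Cfsg.Agent.H2.DiagComp Cfsg.Agent.H2.Transitivity Cfsg.Agent.H2.CoprimeFactor

section equivariance

variable {A B : Type*} [Group A] [Group B]

theorem pPrimePCore_map_equiv (p : ℕ) (e : A ≃* B) :
    (Cfsg.pPrimePCore p A).map e.toMonoidHom = Cfsg.pPrimePCore p B := by
  have hN : (Cfsg.pPrimeCore p A).map (e : A →* B) = Cfsg.pPrimeCore p B :=
    Cfsg.Agent.H2.pPrimeCore_map_equiv p e
  have key : ∀ x : A, e x ∈ Cfsg.pPrimePCore p B ↔ x ∈ Cfsg.pPrimePCore p A := by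
    intro x
    rw [Cfsg.Agent.Lib.Lead.PSolvable.mem_pPrimePCore_iff,
      Cfsg.Agent.Lib.Lead.PSolvable.mem_pPrimePCore_iff]
    have h1 : QuotientGroup.mk' (Cfsg.pPrimeCore p B) (e x) =
        QuotientGroup.congr (Cfsg.pPrimeCore p A) (Cfsg.pPrimeCore p B) e hN
          (QuotientGroup.mk' (Cfsg.pPrimeCore p A) x) := rfl
    rw [h1, ← Cfsg.Agent.H2.pCore_map_equiv p
      (QuotientGroup.congr (Cfsg.pPrimeCore p A) (Cfsg.pPrimeCore p B) e hN)]
    constructor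
    · rintro ⟨y, hy, hyx⟩
      have := (QuotientGroup.congr (Cfsg.pPrimeCore p A) (Cfsg.pPrimeCore p B) e hN).injective hyx
      rw [← this]; exact hy
    · intro h
      exact Subgroup.mem_map_of_mem _ h
  ext y
  constructor
  · rintro ⟨x, hx, rfl⟩
    exact (key x).2 hx
  · intro hy
    refine ⟨e.symm y, (key _).1 (by rw [e.apply_symm_apply]; exact hy), e.apply_symm_apply y⟩

theorem normalizer_le_normalizer_pPrimePCore {G : Type*} [Group G] (p : ℕ) (H : Subgroup G) :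
    Subgroup.normalizer (H : Set G) ≤
      Subgroup.normalizer (((Cfsg.pPrimePCore p H).map H.subtype : Subgroup G) : Set G) :=
  Cfsg.Agent.H2.normalizer_le_normalizer_map_subtype H _ (fun φ => pPrimePCore_map_equiv p φ)

end equivariance


section hallHigman

variable {G : Type*} [Group G] [Finite G]

/-- Hall–Higman Lemma 1.2.3 for solvable groups -/
theorem centralizer_pCore_le_of_isSolvable (q : ℕ) [Fact q.Prime] (hs : Group.IsSolvable G)
    (hO : Cfsg.pPrimeCore q G = ⊥) :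
    Subgroup.centralizer ((Cfsg.pCore q G : Subgroup G) : Set G) ≤ Cfsg.pCore q G := by
  have hq : q.Prime := Fact.out
  have hF : Cfsg.fittingSubgroup G = Cfsg.pCore q G := by
    rw [Cfsg.Agent.H1.fittingSubgroup_eq_iSup_pCore]
    apply le_antisymm
    · apply iSup_le
      intro r
      by_cases hr : (r : ℕ) = q
      · rw [hr]
      · have : Cfsg.pCore (r : ℕ) G ≤ Cfsg.pPrimeCore q G :=
          Cfsg.Agent.H1.le_pPrimeCore (Cfsg.pCore_normal _ _)
            (Cfsg.Agent.H1.pCore_coprime_of_ne hq r.2 hr)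
        rw [hO] at this
        exact this.trans bot_le
    · exact le_iSup (fun r : Nat.Primes => Cfsg.pCore (r : ℕ) G) ⟨q, hq⟩
  have := @Cfsg.Agent.S0044.result G _ _ hs
  rw [hF] at this
  exact this

end hallHigman

section ambient

variable {H : Type*} [Group H] [Finite H]

/-- elements of `O_{q',q}(K)` of order prime to `q` lie in `O_{q'}(K)` -/
theorem mem_pPrimeCore_of_coprime (q : ℕ) [Fact q.Prime] (K : Subgroup H) {x : H}
    (hx : x ∈ (Cfsg.pPrimePCore q ↥K).map K.subtype) (hord : (orderOf x).Coprime q) :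
    x ∈ (Cfsg.pPrimeCore q ↥K).map K.subtype := by
  obtain ⟨x', hx', rfl⟩ := hx
  refine ⟨x', ?_, rfl⟩
  have hx' : x' ∈ Cfsg.pPrimePCore q ↥K := hx'
  show x' ∈ Cfsg.pPrimeCore q ↥K
  rw [Cfsg.Agent.Lib.Lead.PSolvable.mem_pPrimePCore_iff] at hx'
  have hord' : (orderOf x').Coprime q := by
    rw [← Subgroup.orderOf_coe x']; exact hord
  obtain ⟨k, hk⟩ := (IsPGroup.iff_orderOf.1
    (Cfsg.Agent.H1.pCore_isPGroup (G := ↥K ⧸ Cfsg.pPrimeCore q ↥K) q))
    ⟨_, hx'⟩
  have hk' : orderOf (QuotientGroup.mk' (Cfsg.pPrimeCore q ↥K) x') = q ^ k := by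
    rw [← hk, Subgroup.orderOf_mk]
  have hdvd : orderOf (QuotientGroup.mk' (Cfsg.pPrimeCore q ↥K) x') ∣ orderOf x' :=
    orderOf_map_dvd _ x'
  have h1 : orderOf (QuotientGroup.mk' (Cfsg.pPrimeCore q ↥K) x') = 1 := by
    have hc : (q ^ k).Coprime (q ^ k) := by
      have : (orderOf x').Coprime (q ^ k) := Nat.Coprime.pow_right k hord'
      exact Nat.Coprime.coprime_dvd_left (hk' ▸ hdvd) this
    rw [hk']
    exact (Nat.coprime_self _).1 hc
  rw [orderOf_eq_one_iff] at h1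
  exact (QuotientGroup.eq_one_iff x').1 h1

/-- `q`-constraint of a solvable group, ambient form -/
theorem centralizer_syl_le (q : ℕ) [Fact q.Prime] (K : Subgroup H) (hKs : Group.IsSolvable ↥K)
    {S : Subgroup H} (hS : IsSyl q S ((Cfsg.pPrimePCore q ↥K).map K.subtype)) {c : H} (hcK : c ∈ K)
    (hc : c ∈ Subgroup.centralizer (S : Set H)) :
    c ∈ (Cfsg.pPrimePCore q ↥K).map K.subtype := by
  have hSK : S ≤ K := hS.1.trans (Cfsg.Agent.H2.map_subtype_le _ _)
  have hS'le : S.subgroupOf K ≤ Cfsg.pPrimePCore q ↥K := by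
    intro x hx
    obtain ⟨y, hy, hyx⟩ := hS.1 (Subgroup.mem_subgroupOf.1 hx)
    have : y = x := Subtype.ext hyx
    rw [← this]; exact hy
  have hcardQ : Nat.card ↥((Cfsg.pPrimePCore q ↥K).map K.subtype) =
      Nat.card ↥(Cfsg.pPrimePCore q ↥K) :=
    Subgroup.card_map_of_injective K.subtype_injective
  have hc1 : Nat.card ↥((S.subgroupOf K).subgroupOf (Cfsg.pPrimePCore q ↥K)) =
      q ^ (Nat.card ↥(Cfsg.pPrimePCore q ↥K)).factorization q := by
    rw [Nat.card_congr (Subgroup.subgroupOfEquivOfLe hS'le).toEquiv,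
      Nat.card_congr (Subgroup.subgroupOfEquivOfLe hSK).toEquiv, hS.2.2, hcardQ]
  have hmap := Cfsg.Agent.Lib.Lead.PSolvable.map_sylow_eq_pCore
    (Sylow.ofCard ((S.subgroupOf K).subgroupOf (Cfsg.pPrimePCore q ↥K)) hc1)
  rw [Sylow.coe_ofCard, Subgroup.map_subgroupOf_eq_of_le hS'le] at hmap
  refine ⟨⟨c, hcK⟩, ?_, rfl⟩
  show (⟨c, hcK⟩ : ↥K) ∈ Cfsg.pPrimePCore q ↥K
  rw [Cfsg.Agent.Lib.Lead.PSolvable.mem_pPrimePCore_iff]
  have hsq : Group.IsSolvable (↥K ⧸ Cfsg.pPrimeCore q ↥K) :=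
    Group.isSolvable_of_surjective (QuotientGroup.mk'_surjective _)
  apply centralizer_pCore_le_of_isSolvable q hsq (Cfsg.Agent.H2.pPrimeCore_quotient_eq_bot q)
  rw [← hmap, Subgroup.mem_centralizer_iff]
  rintro _ ⟨s, hs, rfl⟩
  rw [← map_mul, ← map_mul]
  congr 1
  apply Subtype.ext
  exact Subgroup.mem_centralizer_iff.1 hc _ (Subgroup.mem_subgroupOf.1 hs)

end ambient


section main

variable {H : Type*} [Group H] [Finite H]

/-- the elements of `K` commuting with `U` modulo `N` -/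
def commStab (K U N : Subgroup H) (hN : K ≤ Subgroup.normalizer (N : Set H)) : Subgroup H where
  carrier := {s | s ∈ K ∧ ∀ u ∈ U, s * u * s⁻¹ * u⁻¹ ∈ N}
  one_mem' := ⟨K.one_mem, fun u _ => by
    have : (1 : H) * u * 1⁻¹ * u⁻¹ = 1 := by group
    rw [this]; exact N.one_mem⟩
  mul_mem' := by
    rintro s t ⟨hs, hs'⟩ ⟨ht, ht'⟩
    refine ⟨K.mul_mem hs ht, fun u hu => ?_⟩
    have e : s * t * u * (s * t)⁻¹ * u⁻¹ = s * (t * u * t⁻¹ * u⁻¹) * s⁻¹ * (s * u * s⁻¹ * u⁻¹) := by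
      group
    rw [e]
    exact N.mul_mem (conj_mem_of_le_normalizer hN hs (ht' u hu)) (hs' u hu)
  inv_mem' := by
    rintro s ⟨hs, hs'⟩
    refine ⟨K.inv_mem hs, fun u hu => ?_⟩
    have e : s⁻¹ * u * s⁻¹⁻¹ * u⁻¹ = s⁻¹ * (s * u * s⁻¹ * u⁻¹)⁻¹ * s⁻¹⁻¹ := by group
    rw [e]
    exact conj_mem_of_le_normalizer hN (K.inv_mem hs) (N.inv_mem (hs' u hu))

lemma mem_commStab {K U N : Subgroup H} {hN : K ≤ Subgroup.normalizer (N : Set H)} {s : H} :
    s ∈ commStab K U N hN ↔ s ∈ K ∧ ∀ u ∈ U, s * u * s⁻¹ * u⁻¹ ∈ N := Iff.rfl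

/-- a noncyclic elementary abelian group has a subgroup of index `p` -/
lemma exists_hyperplane {p : ℕ} [Fact p.Prime] {A : Subgroup H}
    (hA : Cfsg.IsElementaryAbelian p A) (hA2 : p ^ 2 ≤ Nat.card ↥A) :
    ∃ B : Subgroup H, B ≤ A ∧ B.relIndex A = p := by
  have hp : p.Prime := Fact.out
  have hpg : IsPGroup p ↥A := Cfsg.Agent.H2.Transitivity.isPGroup_of_elementaryAbelian hA
  obtain ⟨k, hk⟩ := IsPGroup.iff_card.1 hpg
  have hk2 : 2 ≤ k := by
    rw [hk] at hA2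
    exact (Nat.pow_le_pow_iff_right hp.one_lt).1 hA2
  obtain ⟨B', hB'⟩ := Sylow.exists_subgroup_card_pow_prime (G := ↥A) p (n := k - 1)
    (by rw [hk]; exact pow_dvd_pow p (Nat.sub_le k 1))
  refine ⟨B'.map A.subtype, Cfsg.Agent.H2.map_subtype_le _ _, ?_⟩
  have e : (B'.map A.subtype).subgroupOf A = B' := by
    ext x
    rw [Subgroup.mem_subgroupOf]
    constructor
    · rintro ⟨y, hy, hyx⟩
      have : y = x := Subtype.ext hyx
      rw [← this]; exact hy
    · intro hx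
      exact ⟨x, hx, rfl⟩
  unfold Subgroup.relIndex
  rw [e]
  have h1 := B'.card_mul_index
  rw [hB', hk] at h1
  have hk' : k = (k - 1) + 1 := by omega
  have h2 : p ^ k = p ^ (k - 1) * p := by
    conv_lhs => rw [hk']
    rw [pow_succ]
  rw [h2] at h1
  exact Nat.eq_of_mul_eq_mul_left (pow_pos hp.pos _) h1


/-- **S1288**: a `q'`-subgroup `U` of the solvable `p'`-group `K` whose commutators with the fixed
points of the hyperplanes of `A` are `q'`-groups lies in `O_{q'}(K)`. -/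
theorem main (p : ℕ) [Fact p.Prime] (A K : Subgroup H) (hA : Cfsg.IsElementaryAbelian p A)
    (hA2 : p ^ 2 ≤ Nat.card ↥A) (hK : ¬ p ∣ Nat.card ↥K) (hKs : Group.IsSolvable ↥K)
    (hAK : A ≤ Subgroup.normalizer (K : Set H)) (q : ℕ) [Fact q.Prime] (U : Subgroup H)
    (hU : U ≤ K) (hUq : ¬ q ∣ Nat.card ↥U)
    (hcomm : ∀ B : Subgroup H, B ≤ A → B.relIndex A = p →
      ¬ q ∣ Nat.card ↥⁅U, K ⊓ Subgroup.centralizer (B : Set H)⁆) :
    U ≤ (Cfsg.pPrimeCore q ↥K).map K.subtype := by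
  have hp : p.Prime := Fact.out
  have hq : q.Prime := Fact.out
  have : IsMulCommutative ↥A := hA.1
  have hsolvA : Group.IsSolvable ↥A :=
    Group.isSolvable_of_comm (fun a b => IsMulCommutative.is_comm.comm a b)
  have hpg : IsPGroup p ↥A := isPGroup_of_elementaryAbelian hA
  obtain ⟨k, hk⟩ := IsPGroup.iff_card.1 hpg
  have hcop : (Nat.card ↥A).Coprime (Nat.card ↥K) := by
    rw [hk]
    exact Nat.Coprime.pow_left k ((Nat.Prime.coprime_iff_not_dvd hp).2 hK)
  obtain ⟨N, hNdef⟩ : ∃ N, N = (Cfsg.pPrimeCore q ↥K).map K.subtype := ⟨_, rfl⟩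
  obtain ⟨Q, hQdef⟩ : ∃ Q, Q = (Cfsg.pPrimePCore q ↥K).map K.subtype := ⟨_, rfl⟩
  have hNK : N ≤ K := hNdef ▸ Cfsg.Agent.H2.map_subtype_le _ _
  have hQK : Q ≤ K := hQdef ▸ Cfsg.Agent.H2.map_subtype_le _ _
  have hKN : K ≤ Subgroup.normalizer (N : Set H) := by
    rw [hNdef]; exact Cfsg.Agent.H2.le_normalizer_map_subtype_of_normal K _
  have hKQ : K ≤ Subgroup.normalizer (Q : Set H) := by
    rw [hQdef]; exact Cfsg.Agent.H2.le_normalizer_map_subtype_of_normal K _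
  have hAQ : A ≤ Subgroup.normalizer (Q : Set H) := by
    rw [hQdef]; exact hAK.trans (normalizer_le_normalizer_pPrimePCore q K)
  have hNq : (Nat.card ↥N).Coprime q := by
    rw [hNdef, Subgroup.card_map_of_injective K.subtype_injective]
    exact Cfsg.Agent.H1.pPrimeCore_coprime q
  have hcopQ : (Nat.card ↥A).Coprime (Nat.card ↥Q) :=
    Nat.Coprime.coprime_dvd_right (Subgroup.card_dvd_of_le hQK) hcop
  obtain ⟨S, hS, hAS⟩ := exists_inv_syl A Q hAQ hcopQ hsolvA q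
  have hSQ : S ≤ Q := hS.1
  have hSK : S ≤ K := hSQ.trans hQK
  have hpS : ¬ p ∣ Nat.card ↥S := fun h => hK (h.trans (Subgroup.card_dvd_of_le hSK))
  obtain ⟨B₀, hB₀A, hB₀p⟩ := exists_hyperplane hA hA2
  have hQN : ∀ x ∈ Q, (orderOf x).Coprime q → x ∈ N := by
    intro x hx hord
    rw [hNdef]
    rw [hQdef] at hx
    exact mem_pPrimeCore_of_coprime q K hx hord
  have hST : S ≤ commStab K U N hKN := by
    have hgen := Cfsg.Agent.H2.HyperGen.eq_hyperGen A S hA hpS hAS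
    rw [hgen]
    unfold Cfsg.Agent.H2.HyperGen.hyperGen
    apply iSup_le
    rintro ⟨B, hBA, hBind⟩
    obtain ⟨B₁, hB₁A, hB₁p, hB₁B⟩ :
        ∃ B₁ : Subgroup H, B₁ ≤ A ∧ B₁.relIndex A = p ∧ B₁ ≤ B := by
      have hdvd : B.relIndex A ∣ p ^ k := hk ▸ Subgroup.relIndex_dvd_card B A
      obtain ⟨j, hj, hjp⟩ := (Nat.dvd_prime_pow hp).1 hdvd
      have hj1 : j ≤ 1 := by
        by_contra hcon
        push Not at hcon
        have h1 : p ^ 2 ≤ p ^ j := Nat.pow_le_pow_right hp.pos hcon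
        have h2 : p < p ^ 2 := by
          have := hp.two_le
          nlinarith
        omega
      interval_cases j
      · refine ⟨B₀, hB₀A, hB₀p, hB₀A.trans (Subgroup.relIndex_eq_one.1 (by simpa using hjp))⟩
      · exact ⟨B, hBA, by simpa using hjp, le_rfl⟩
    intro s hs
    have hs1 : s ∈ S := hs.1
    have hs2 : s ∈ Subgroup.centralizer (B₁ : Set H) := Subgroup.centralizer_le hB₁B hs.2
    rw [mem_commStab]
    refine ⟨hSK hs1, fun u hu => ?_⟩
    have hV : s * u * s⁻¹ * u⁻¹ ∈ ⁅U, K ⊓ Subgroup.centralizer (B₁ : Set H)⁆ := by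
      rw [Subgroup.commutator_comm]
      exact Subgroup.commutator_mem_commutator (⟨hSK hs1, hs2⟩ :
        s ∈ K ⊓ Subgroup.centralizer (B₁ : Set H)) hu
    apply hQN
    · have h1 : u * s⁻¹ * u⁻¹ ∈ Q := conj_mem_of_le_normalizer hKQ (hU hu) (Q.inv_mem (hSQ hs1))
      have e : s * u * s⁻¹ * u⁻¹ = s * (u * s⁻¹ * u⁻¹) := by group
      rw [e]
      exact Q.mul_mem (hSQ hs1) h1
    · have hdvd : orderOf (s * u * s⁻¹ * u⁻¹) ∣
          Nat.card ↥⁅U, K ⊓ Subgroup.centralizer (B₁ : Set H)⁆ := by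
        have := orderOf_dvd_natCard (⟨_, hV⟩ : ↥⁅U, K ⊓ Subgroup.centralizer (B₁ : Set H)⁆)
        rwa [Subgroup.orderOf_mk] at this
      exact Nat.Coprime.coprime_dvd_left hdvd
        ((Nat.Prime.coprime_iff_not_dvd hq).2 (hcomm B₁ hB₁A hB₁p)).symm
  have hSN : S ≤ Subgroup.normalizer (N : Set H) := hSK.trans hKN
  have hSNU : S ≤ Subgroup.normalizer ((N ⊔ U : Subgroup H) : Set H) := by
    apply le_normalizer_of_conj_mem
    intro s hs
    have : N ⊔ U ≤ (N ⊔ U).comap (MulAut.conj s).toMonoidHom := by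
      refine sup_le (fun x hx => ?_) (fun u hu => ?_)
      · show s * x * s⁻¹ ∈ N ⊔ U
        exact (le_sup_left : N ≤ N ⊔ U) (conj_mem_of_le_normalizer hSN hs hx)
      · show s * u * s⁻¹ ∈ N ⊔ U
        have h1 := ((mem_commStab).1 (hST hs)).2 u hu
        have e : s * u * s⁻¹ = (s * u * s⁻¹ * u⁻¹) * u := by group
        rw [e]
        exact (N ⊔ U).mul_mem ((le_sup_left : N ≤ N ⊔ U) h1) ((le_sup_right : U ≤ N ⊔ U) hu)
    intro x hx
    exact this hx
  have hNUq : (Nat.card ↥(N ⊔ U : Subgroup H)).Coprime q := by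
    have hUN : U ≤ Subgroup.normalizer (N : Set H) := hU.trans hKN
    have h1 := Cfsg.Agent.Lib.Lead.ProdCard.card_mul_card_eq N U
    rw [← Subgroup.coe_mul_of_right_le_normalizer_left N U hUN, ← card_eq_ncard] at h1
    have hdvd : Nat.card ↥(N ⊔ U : Subgroup H) ∣ Nat.card ↥N * Nat.card ↥U := Dvd.intro _ h1.symm
    exact Nat.Coprime.coprime_dvd_left hdvd
      (Nat.Coprime.mul_left hNq ((Nat.Prime.coprime_iff_not_dvd hq).2 hUq).symm)
  obtain ⟨m, hm⟩ := IsPGroup.iff_card.1 hS.2.1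
  have hcopS : (Nat.card ↥S).Coprime (Nat.card ↥(N ⊔ U : Subgroup H)) := by
    rw [hm]
    exact Nat.Coprime.pow_left m hNUq.symm
  have hnilS : Group.IsNilpotent ↥S := hS.2.1.isNilpotent
  have hsolvS : Group.IsSolvable ↥S := inferInstance
  intro u hu
  obtain ⟨c, hc, hcN⟩ := Cfsg.Agent.S0022.result S (N ⊔ U) hSNU hcopS (Or.inl hsolvS) N le_sup_left
    (sup_le (hNK.trans hKN) (hU.trans hKN)) hSN u ((le_sup_right : U ≤ N ⊔ U) hu)
    (fun s hs => ((mem_commStab).1 (hST hs)).2 u hu)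
  have hcK : c ∈ K := (sup_le hNK hU) hc.1
  have hcQ : c ∈ Q := by
    subst hQdef
    exact centralizer_syl_le q K hKs hS hcK hc.2
  have hcN' : c ∈ N := by
    apply hQN c hcQ
    have hdvd : orderOf c ∣ Nat.card ↥(N ⊔ U : Subgroup H) := by
      have := orderOf_dvd_natCard (⟨c, hc.1⟩ : ↥(N ⊔ U : Subgroup H))
      rwa [Subgroup.orderOf_mk] at this
    exact Nat.Coprime.coprime_dvd_left hdvd hNUq
  have h1 : u⁻¹ ∈ N := by
    have e : u⁻¹ = (u⁻¹ * c) * c⁻¹ := by group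
    rw [e]
    exact N.mul_mem hcN (N.inv_mem hcN')
  have h2 := N.inv_mem h1
  rw [inv_inv] at h2
  rw [← hNdef]
  exact h2

end main

end Cfsg.Agent.H2.QPrimeCoprime
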