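import Mathlib
import Cfsg.Agent.H2.QGrp3
import Cfsg.Agent.S0219

/-!
# Groups with quasi-dihedral or wreathed Sylow 2-subgroups and no subgroup of index two:
normal subgroups of even order have odd index (helper2)
-/

set_option autoImplicit false
set_option linter.style.haveILetI false
set_option linter.unusedSectionVars false
set_option linter.unusedVariables false

namespace Cfsg.Agent.H2.QGrp

open Cfsg.Agent.Lead.QD (P c d)

universe u

variable {G : Type u} [Group G] [Finite G]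

/-- all involutions are conjugate -/
theorem one_class (S : Sylow 2 G)
    (hS : Cfsg.IsQuasiDihedral ↥(S : Subgroup G) ∨ Cfsg.IsWreathed ↥(S : Subgroup G))
    (hG : ∀ H : Subgroup G, H.index ≠ 2) (t t' : G) (ht : orderOf t = 2) (ht' : orderOf t' = 2) :
    ∃ g : G, g * t * g⁻¹ = t' := by
  rcases hS with hS | hS
  · obtain ⟨T, hTS, hT, Q, hQS, ⟨eQ⟩⟩ := qd_exists_TQ S hS
    obtain ⟨h₁, h₂⟩ := qd_six_six S hS hG T hT hTS Q hQS eQ
    obtain ⟨-, hone, -⟩ := Cfsg.Agent.S1204.result S hS T hT hTS Q hQS eQ h₁ h₂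
    exact conj_of_card_classes_one 2 hone t t' ht ht'
  · obtain ⟨n, hn2, hn, U, hUS, hUab, hUcard, Q, hQS, ⟨eQ⟩⟩ := wr_exists_UQ S hS
    obtain ⟨h₁, h₂⟩ := wr_six_six S hS hG n hn U hUS hUab hUcard Q hQS eQ
    obtain ⟨-, hone⟩ := Cfsg.Agent.H2.WrAmb.simple_case S hS n hn U hUS hUab hUcard Q hQS eQ h₁ h₂
    exact conj_of_card_classes_one 2 hone t t' ht ht'

/-- modulo a normal subgroup containing all involutions, `S` is cyclic -/
theorem exists_gen_mod (S : Sylow 2 G)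
    (hS : Cfsg.IsQuasiDihedral ↥(S : Subgroup G) ∨ Cfsg.IsWreathed ↥(S : Subgroup G))
    (M : Subgroup G) [hMn : M.Normal] (hinv : ∀ t : G, orderOf t = 2 → t ∈ M) :
    ∃ x₀ : G, ∀ s ∈ (S : Subgroup G), ∃ k : ℕ, (x₀ ^ k)⁻¹ * s ∈ M := by
  rcases hS with hS | hS
  · obtain ⟨n, x, y, h⟩ := Cfsg.Agent.Lead.QD.exists_dat_sub (S : Subgroup G) hS
    refine ⟨x, fun s hs => ?_⟩
    rcases Cfsg.Agent.Lead.QD.mem_cases h s hs with ⟨i, rfl⟩ | ⟨i, rfl⟩
    · refine ⟨i.val, ?_⟩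
      show (x ^ i.val)⁻¹ * x ^ i.val ∈ M
      rw [inv_mul_cancel]; exact M.one_mem
    · refine ⟨i.val, ?_⟩
      show (x ^ i.val)⁻¹ * (y * x ^ i.val) ∈ M
      have hy : y ∈ M := hinv y h.oy
      have := hMn.conj_mem y hy (x ^ i.val)⁻¹
      rw [inv_inv] at this
      rwa [mul_assoc] at this
  · obtain ⟨n, x, y, z, h⟩ := Cfsg.Agent.Lead.Wr.exists_dat hS
    have hzM : ((z : ↥(S : Subgroup G)) : G) ∈ M := hinv _ (by rw [Subgroup.orderOf_coe]; exact h.oz)
    have hxy : ((x : ↥(S : Subgroup G)) : G)⁻¹ * (y : G) ∈ M := by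
      have h1 : (y : G) = (z : G) * (x : G) * (z : G)⁻¹ := by
        have := congrArg Subtype.val h.conj
        simpa using this.symm
      rw [h1]
      have h2 : (x : G)⁻¹ * ((z : G) * (x : G) * (z : G)⁻¹)
          = ((x : G)⁻¹ * (z : G) * (x : G)⁻¹⁻¹) * (z : G)⁻¹ := by group
      rw [h2]
      exact M.mul_mem (hMn.conj_mem _ hzM _) (M.inv_mem hzM)
    -- powers of `y` are powers of `x` modulo `M`
    have hpow : ∀ k : ℕ, ((x : G) ^ k)⁻¹ * (y : G) ^ k ∈ M := by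
      intro k
      induction k with
      | zero => simp
      | succ k ih =>
        have e : ((x : G) ^ (k + 1))⁻¹ * (y : G) ^ (k + 1)
            = (x : G)⁻¹ * (((x : G) ^ k)⁻¹ * (y : G) ^ k) * (x : G)⁻¹⁻¹ * ((x : G)⁻¹ * (y : G)) := by
          rw [pow_succ, pow_succ]
          group
        rw [e]
        exact M.mul_mem (hMn.conj_mem _ ih _) hxy
    have hA : ∀ a b : ZMod (2 ^ n), (((x : G) ^ (a.val + b.val))⁻¹ *
        ((Cfsg.Agent.Lead.Wr.A n x y a b : ↥(S : Subgroup G)) : G)) ∈ M := by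
      intro a b
      have e1 : ((Cfsg.Agent.Lead.Wr.A n x y a b : ↥(S : Subgroup G)) : G)
          = (x : G) ^ a.val * (y : G) ^ b.val := by
        unfold Cfsg.Agent.Lead.Wr.A Cfsg.Agent.Lead.QD.P
        simp
      rw [e1, pow_add]
      have e2 : ((x : G) ^ a.val * (x : G) ^ b.val)⁻¹ * ((x : G) ^ a.val * (y : G) ^ b.val)
          = ((x : G) ^ b.val)⁻¹ * (y : G) ^ b.val := by group
      rw [e2]
      exact hpow _
    refine ⟨(x : G), fun s hs => ?_⟩
    rcases Cfsg.Agent.Lead.Wr.mem_cases h (⟨s, hs⟩ : ↥(S : Subgroup G)) with ⟨a, b, hab⟩ | ⟨a, b, hab⟩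
    · refine ⟨a.val + b.val, ?_⟩
      have : s = ((Cfsg.Agent.Lead.Wr.A n x y a b : ↥(S : Subgroup G)) : G) := congrArg Subtype.val hab
      rw [this]
      exact hA a b
    · refine ⟨a.val + b.val, ?_⟩
      have : s = (z : G) * ((Cfsg.Agent.Lead.Wr.A n x y a b : ↥(S : Subgroup G)) : G) := by
        have := congrArg Subtype.val hab
        simpa using this
      rw [this]
      have e : ((x : G) ^ (a.val + b.val))⁻¹ *
          ((z : G) * ((Cfsg.Agent.Lead.Wr.A n x y a b : ↥(S : Subgroup G)) : G))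
          = (((x : G) ^ (a.val + b.val))⁻¹ * (z : G) * ((x : G) ^ (a.val + b.val))⁻¹⁻¹) *
            (((x : G) ^ (a.val + b.val))⁻¹ *
              ((Cfsg.Agent.Lead.Wr.A n x y a b : ↥(S : Subgroup G)) : G)) := by group
      rw [e]
      exact M.mul_mem (hMn.conj_mem _ hzM _) (hA a b)

/-- **Lemma A**: a normal subgroup of even order contains every Sylow 2-subgroup -/
theorem sylow_le_of_even (S : Sylow 2 G)
    (hS : Cfsg.IsQuasiDihedral ↥(S : Subgroup G) ∨ Cfsg.IsWreathed ↥(S : Subgroup G))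
    (hG : ∀ H : Subgroup G, H.index ≠ 2) (M : Subgroup G) [hMn : M.Normal]
    (hM : 2 ∣ Nat.card M) (P' : Sylow 2 G) : (P' : Subgroup G) ≤ M := by
  haveI : Fact (Nat.Prime 2) := ⟨Nat.prime_two⟩
  obtain ⟨t₀, ht₀⟩ := exists_prime_orderOf_dvd_card' 2 hM
  have hinv : ∀ t : G, orderOf t = 2 → t ∈ M := by
    intro t ht
    obtain ⟨g, hg⟩ := one_class S hS hG (t₀ : G) t (by rw [Subgroup.orderOf_coe]; exact ht₀) ht
    rw [← hg]
    exact hMn.conj_mem _ t₀.2 g
  obtain ⟨x₀, hx₀⟩ := exists_gen_mod S hS M hinv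
  have hsurj := QuotientGroup.mk'_surjective M
  have hle : (S : Subgroup G).map (QuotientGroup.mk' M)
      ≤ Subgroup.zpowers (QuotientGroup.mk' M x₀) := by
    rintro _ ⟨s, hs, rfl⟩
    obtain ⟨k, hk⟩ := hx₀ s hs
    have h1 : (QuotientGroup.mk' M) (x₀ ^ k) = (QuotientGroup.mk' M) s :=
      QuotientGroup.eq.2 hk
    rw [← h1, map_pow]
    exact Subgroup.pow_mem _ (Subgroup.mem_zpowers _) _
  have hcyc : IsCyclic ↥((S.mapSurjective hsurj : Sylow 2 (G ⧸ M)) : Subgroup (G ⧸ M)) :=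
    Subgroup.isCyclic_of_le hle
  have hodd : Odd (Nat.card (G ⧸ M)) := by
    rw [← Nat.not_even_iff_odd]
    intro heven
    obtain ⟨H', hH'⟩ := Cfsg.Agent.S0219.result heven (S.mapSurjective hsurj) hcyc
    apply hG (H'.comap (QuotientGroup.mk' M))
    rw [Subgroup.index_comap_of_surjective H' hsurj]
    exact hH'
  intro p hp
  have h1 : orderOf ((QuotientGroup.mk' M) p) ∣ orderOf p := orderOf_map_dvd _ p
  obtain ⟨k, hk⟩ := (IsPGroup.iff_orderOf.1 P'.isPGroup') ⟨p, hp⟩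
  rw [Subgroup.orderOf_mk] at hk
  rw [hk] at h1
  have h2 : orderOf ((QuotientGroup.mk' M) p) ∣ Nat.card (G ⧸ M) := orderOf_dvd_natCard _
  have h3 : orderOf ((QuotientGroup.mk' M) p) = 1 := by
    obtain ⟨j, -, hj⟩ := (Nat.dvd_prime_pow Nat.prime_two).1 h1
    rcases Nat.eq_zero_or_pos j with rfl | hj0
    · rw [hj, pow_zero]
    · exfalso
      have h4 : 2 ∣ Nat.card (G ⧸ M) := by
        refine dvd_trans ?_ h2
        rw [hj]; exact dvd_pow_self 2 hj0.ne'
      exact (Nat.not_even_iff_odd.2 hodd) (even_iff_two_dvd.2 h4)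
  rw [orderOf_eq_one_iff] at h3
  exact (QuotientGroup.eq_one_iff p).1 h3

end Cfsg.Agent.H2.QGrp
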