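import Mathlib
import Cfsg.Agent.H2.QSimple1
import Cfsg.Agent.H2.PPrimeCore
import Cfsg.Agent.H2.IsolatedCenter
import Cfsg.Agent.H2.BSUnique

/-!
# Groups with quasi-dihedral or wreathed Sylow 2-subgroups and no subgroup of index two:
the simple normal subgroup of odd index of `G / O(G)` (helper2)
-/

set_option autoImplicit false
set_option linter.style.haveILetI false
set_option linter.unusedSectionVars false
set_option linter.unusedVariables false

namespace Cfsg.Agent.H2.QGrp

open Cfsg.Agent.Lead.QD (P c d)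

universe u

variable {G : Type u} [Group G] [Finite G]

/-- quasi-dihedral and wreathed groups are not commutative -/
theorem not_comm_sylow (S : Sylow 2 G)
    (hS : Cfsg.IsQuasiDihedral ↥(S : Subgroup G) ∨ Cfsg.IsWreathed ↥(S : Subgroup G)) :
    ∃ a ∈ (S : Subgroup G), ∃ b ∈ (S : Subgroup G), a * b ≠ b * a := by
  rcases hS with hS | hS
  · obtain ⟨n, x, y, h⟩ := Cfsg.Agent.Lead.QD.exists_dat_sub (S : Subgroup G) hS
    by_contra hcon
    push Not at hcon
    have hxZ : x ∈ (Subgroup.center ↥(S : Subgroup G)).map (S : Subgroup G).subtype := by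
      have : x ∈ ZcS (S : Subgroup G) := by
        rw [mem_ZcS_iff]
        exact ⟨h.xS, fun b hb => hcon b hb x h.xS⟩
      exact this
    have hn := h.hn
    have h8 : 2 ^ n ≥ 2 ^ 3 := Nat.pow_le_pow_right (by norm_num) hn
    rcases Cfsg.Agent.Lead.QD.center_cases S h x hxZ with h1 | h1
    · have := h.ox
      rw [h1, orderOf_one] at this
      omega
    · have := h.ox
      rw [h1, Cfsg.Agent.Lead.QD.orderOf_z h] at this
      omega
  · obtain ⟨n, x, y, z, h⟩ := Cfsg.Agent.Lead.Wr.exists_dat hS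
    refine ⟨(z : G), z.2, (x : G), x.2, ?_⟩
    intro hcon
    have h1 : z * x = x * z := Subtype.ext hcon
    have h2 : y = x := by
      rw [← h.conj, h1, mul_inv_cancel_right]
    have h3 : x ∈ Subgroup.zpowers x ⊓ Subgroup.zpowers y := by
      rw [h2]
      exact ⟨Subgroup.mem_zpowers x, Subgroup.mem_zpowers x⟩
    rw [h.dis, Subgroup.mem_bot] at h3
    exact Cfsg.Agent.Lead.Wr.x_ne_one h h3

/-- the hypotheses pass to `G / O(G)` -/
theorem quotient_good (S : Sylow 2 G)
    (hS : Cfsg.IsQuasiDihedral ↥(S : Subgroup G) ∨ Cfsg.IsWreathed ↥(S : Subgroup G))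
    (hG : ∀ H : Subgroup G, H.index ≠ 2) :
    ∃ S' : Sylow 2 (G ⧸ Cfsg.pPrimeCore 2 G),
      (Cfsg.IsQuasiDihedral ↥(S' : Subgroup (G ⧸ Cfsg.pPrimeCore 2 G)) ∨
        Cfsg.IsWreathed ↥(S' : Subgroup (G ⧸ Cfsg.pPrimeCore 2 G))) ∧
      ∀ H : Subgroup (G ⧸ Cfsg.pPrimeCore 2 G), H.index ≠ 2 := by
  haveI : Fact (Nat.Prime 2) := ⟨Nat.prime_two⟩
  have hsurj := QuotientGroup.mk'_surjective (Cfsg.pPrimeCore 2 G)
  refine ⟨S.mapSurjective hsurj, ?_, ?_⟩
  · set f : ↥(S : Subgroup G) →* G ⧸ Cfsg.pPrimeCore 2 G :=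
      (QuotientGroup.mk' (Cfsg.pPrimeCore 2 G)).comp (S : Subgroup G).subtype with hf
    have hinj : Function.Injective f := by
      rw [injective_iff_map_eq_one]
      intro a ha
      have h1 : (a : G) ∈ Cfsg.pPrimeCore 2 G := (QuotientGroup.eq_one_iff (a : G)).1 ha
      exact Subtype.ext (Cfsg.Agent.H2.IsolatedCenter.sylow_inf_core S (a : G) a.2 h1)
    have hrange : f.range = (S : Subgroup G).map (QuotientGroup.mk' (Cfsg.pPrimeCore 2 G)) := by
      rw [hf, MonoidHom.range_comp, Subgroup.range_subtype]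
    have e : ↥(S : Subgroup G) ≃*
        ↥((S.mapSurjective hsurj : Sylow 2 (G ⧸ Cfsg.pPrimeCore 2 G)) :
          Subgroup (G ⧸ Cfsg.pPrimeCore 2 G)) :=
      (MonoidHom.ofInjective hinj).trans (MulEquiv.subgroupCongr hrange)
    rcases hS with hS | hS
    · exact Or.inl (isQuasiDihedral_of_mulEquiv e hS)
    · exact Or.inr (Cfsg.Agent.H2.WrAmb.isWreathed_of_mulEquiv e hS)
  · intro H hH
    apply hG (H.comap (QuotientGroup.mk' (Cfsg.pPrimeCore 2 G)))
    rw [Subgroup.index_comap_of_surjective H hsurj]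
    exact hH

end Cfsg.Agent.H2.QGrp
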