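import Mathlib
import Cfsg.Agent.H2.QSimple2

/-!
# Groups with quasi-dihedral or wreathed Sylow 2-subgroups and no subgroup of index two:
the simple normal subgroup of odd index, II (helper2)
-/

set_option autoImplicit false
set_option linter.style.haveILetI false
set_option linter.unusedSectionVars false
set_option linter.unusedVariables false

namespace Cfsg.Agent.H2.QGrp

universe u

variable {X : Type u} [Group X] [Finite X]

/-- the subgroup generated by the squares of the elements of a normal subgroup is normal -/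
theorem squares_normal (N : Subgroup X) [hNn : N.Normal] :
    (Subgroup.closure {w : X | ∃ a ∈ N, w = a * a}).Normal := by
  constructor
  intro k hk g
  induction hk using Subgroup.closure_induction with
  | mem w hw =>
    obtain ⟨a, ha, rfl⟩ := hw
    apply Subgroup.subset_closure
    exact ⟨g * a * g⁻¹, hNn.conj_mem a ha g, by group⟩
  | one => simp
  | mul a b _ _ iha ihb =>
    have e : g * (a * b) * g⁻¹ = (g * a * g⁻¹) * (g * b * g⁻¹) := by group
    rw [e]; exact Subgroup.mul_mem _ iha ihb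
  | inv a _ iha =>
    have e : g * a⁻¹ * g⁻¹ = (g * a * g⁻¹)⁻¹ := by group
    rw [e]; exact Subgroup.inv_mem _ iha

/-- if `O(X) = 1` the normal closure of a Sylow 2-subgroup is a non-abelian simple group -/
theorem exists_simple_normal (S : Sylow 2 X)
    (hS : Cfsg.IsQuasiDihedral ↥(S : Subgroup X) ∨ Cfsg.IsWreathed ↥(S : Subgroup X))
    (hX : ∀ H : Subgroup X, H.index ≠ 2) (hO : Cfsg.pPrimeCore 2 X = ⊥) :
    ∃ L : Subgroup X, L.Normal ∧ Odd L.index ∧ IsSimpleGroup L ∧ ¬ IsMulCommutative L := by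
  haveI : Fact (Nat.Prime 2) := ⟨Nat.prime_two⟩
  set N := Subgroup.normalClosure ((S : Subgroup X) : Set X) with hN
  have hSN : (S : Subgroup X) ≤ N := Subgroup.le_normalClosure
  haveI hNn : N.Normal := Subgroup.normalClosure_normal
  obtain ⟨a, ha, b, hb, hab⟩ := not_comm_sylow S hS
  have hnc : ¬ IsMulCommutative ↥N := by
    intro hc
    apply hab
    exact congrArg Subtype.val (hc.is_comm.comm (⟨a, hSN ha⟩ : ↥N) ⟨b, hSN hb⟩)
  have hodd : Odd N.index := by
    rw [← Nat.not_even_iff_odd, even_iff_two_dvd]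
    intro h2
    exact S.not_dvd_index (h2.trans (Subgroup.index_dvd_of_le hSN))
  refine ⟨N, hNn, hodd, ?_, hnc⟩
  -- the Sylow 2-subgroup of `N`
  set SN : Sylow 2 ↥N := S.subtype hSN with hSNdef
  have eSN : ↥(SN : Subgroup ↥N) ≃* ↥(S : Subgroup X) := Subgroup.subgroupOfEquivOfLe hSN
  have hSNt : Cfsg.IsQuasiDihedral ↥(SN : Subgroup ↥N) ∨ Cfsg.IsWreathed ↥(SN : Subgroup ↥N) := by
    rcases hS with hS | hS
    · exact Or.inl (isQuasiDihedral_of_mulEquiv eSN.symm hS)
    · exact Or.inr (Cfsg.Agent.H2.WrAmb.isWreathed_of_mulEquiv eSN.symm hS)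
  -- `N` has no subgroup of index two
  have hN2 : ∀ H : Subgroup ↥N, H.index ≠ 2 := by
    intro H hH
    set K := Subgroup.closure {w : X | ∃ a ∈ N, w = a * a} with hK
    haveI hKn : K.Normal := squares_normal N
    have hKH : K ≤ H.map N.subtype := by
      rw [hK, Subgroup.closure_le]
      rintro _ ⟨a, ha, rfl⟩
      exact ⟨⟨a, ha⟩ * ⟨a, ha⟩, Subgroup.mul_self_mem_of_index_two hH _, rfl⟩
    by_cases hK2 : 2 ∣ Nat.card K
    · have h1 := sylow_le_of_even S hS hX K hK2 S
      have h2 : (SN : Subgroup ↥N) ≤ H := by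
        intro r hr
        have hr' : (r : X) ∈ (S : Subgroup X) := Subgroup.mem_subgroupOf.1 hr
        obtain ⟨r', hr'H, he⟩ := hKH (h1 hr')
        have : r' = r := Subtype.ext he
        rwa [← this]
      have h3 := Subgroup.index_dvd_of_le h2
      rw [hH] at h3
      exact SN.not_dvd_index h3
    · have hKodd : Odd (Nat.card K) := by
        rw [← Nat.not_even_iff_odd, even_iff_two_dvd]; exact hK2
      have hKbot := Cfsg.Agent.H2.BSUnique.eq_bot_of_odd hO K hKn hKodd
      have hsq : ∀ w ∈ N, w * w = 1 := by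
        intro w hw
        have : w * w ∈ K := Subgroup.subset_closure ⟨w, hw, rfl⟩
        rw [hKbot, Subgroup.mem_bot] at this
        exact this
      apply hab
      have h1 := hsq a (hSN ha)
      have h2 := hsq b (hSN hb)
      have h3 := hsq (a * b) (N.mul_mem (hSN ha) (hSN hb))
      calc a * b = a * (a * b * (a * b)) * b := by rw [h3, mul_one]
        _ = (a * a) * (b * a) * (b * b) := by group
        _ = b * a := by rw [h1, h2, one_mul, mul_one]
  -- nontrivial
  haveI : Nontrivial ↥N := by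
    refine ⟨⟨⟨a, hSN ha⟩, ⟨b, hSN hb⟩, ?_⟩⟩
    intro h1
    have : a = b := congrArg Subtype.val h1
    apply hab
    rw [this]
  refine ⟨fun M' hM' => ?_⟩
  by_cases hbot : M' = ⊥
  · exact Or.inl hbot
  right
  -- `M'` has even order
  have hM'2 : 2 ∣ Nat.card M' := by
    by_contra hcon
    apply hbot
    have hc : (Nat.card M').Coprime 2 := by
      rw [Nat.coprime_comm, Nat.Prime.coprime_iff_not_dvd Nat.prime_two]
      exact hcon
    have h1 : M' ≤ Cfsg.pPrimeCore 2 ↥N := Cfsg.Agent.H1.le_pPrimeCore hM' hc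
    have h2 := Cfsg.Agent.H2.pPrimeCore_map_subtype_le_of_isSubnormal 2 hNn.isSubnormal
    rw [hO, le_bot_iff] at h2
    have h3 : M'.map N.subtype ≤ ⊥ := by
      rw [← h2]
      exact Subgroup.map_mono h1
    rw [le_bot_iff] at h3
    exact (Subgroup.map_eq_bot_iff_of_injective _ (Subgroup.subtype_injective N)).1 h3
  have hall := sylow_le_of_even SN hSNt hN2 M' hM'2
  -- `N` is generated by the conjugates of `S`
  have hgen : Subgroup.closure (Group.conjugatesOfSet ((S : Subgroup X) : Set X))
      ≤ M'.map N.subtype := by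
    rw [Subgroup.closure_le]
    intro w hw
    rw [Group.mem_conjugatesOfSet_iff] at hw
    obtain ⟨s, hs, hsw⟩ := hw
    rw [isConj_iff] at hsw
    obtain ⟨g, hg⟩ := hsw
    have hmem : ∀ v : X, v ∈ ((g • S : Sylow 2 X) : Subgroup X) ↔ g⁻¹ * v * g ∈ (S : Subgroup X) := by
      intro v
      rw [Sylow.coe_subgroup_smul, Subgroup.mem_pointwise_smul_iff_inv_smul_mem, MulAut.smul_def,
        MulAut.conj_inv_apply]
    have hle : ((g • S : Sylow 2 X) : Subgroup X) ≤ N := by
      intro v hv
      have h1 := hNn.conj_mem _ (hSN ((hmem v).1 hv)) g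
      have e : g * (g⁻¹ * v * g) * g⁻¹ = v := by group
      rwa [e] at h1
    have hwS : w ∈ ((g • S : Sylow 2 X) : Subgroup X) := by
      rw [hmem, ← hg]
      have e : g⁻¹ * (g * s * g⁻¹) * g = s := by group
      rw [e]; exact hs
    have h1 := hall ((g • S : Sylow 2 X).subtype hle)
    have h2 : (⟨w, hle hwS⟩ : ↥N) ∈ (((g • S : Sylow 2 X).subtype hle : Sylow 2 ↥N) : Subgroup ↥N) :=
      Subgroup.mem_subgroupOf.2 hwS
    exact ⟨⟨w, hle hwS⟩, h1 h2, rfl⟩
  have hNle : N ≤ M'.map N.subtype := hgen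
  rw [eq_top_iff]
  intro r _
  obtain ⟨r', hr', he⟩ := hNle r.2
  have : r' = r := Subtype.ext he
  rwa [← this]

end Cfsg.Agent.H2.QGrp
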