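import Mathlib
import Cfsg.Prelude.Def_CaseTheorems
import Cfsg.Agent.H2.MaxClassSub
import Cfsg.Agent.H2.CyclicIndexTwo

/-!
# Quasi-dihedral (semidihedral) 2-groups

(author: helper2)
-/

set_option autoImplicit false

namespace Cfsg.Agent.H2.QuasiDih

open Cfsg.Agent.H2 Cfsg.Agent.H2.MaxClassTwo Cfsg.Agent.H2.MaxClassSub

universe u

variable {S : Type u} [Group S] [Finite S]

/-- basic data of a quasi-dihedral group: it is a `2`-group of maximal class -/
theorem exists_data (hS : Cfsg.IsQuasiDihedral S) : ∃ N : ℕ, 4 ≤ N ∧ Nat.card S = 2 ^ N ∧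
    (commutator S).index = 4 ∧ ∃ x y : S, orderOf x = 2 ^ (N - 1) ∧ orderOf y = 2 ∧
      y ∉ Subgroup.zpowers x ∧ y * x * y⁻¹ = x⁻¹ * x ^ (2 ^ (N - 2)) := by
  obtain ⟨n, hn, hcard, x, y, hx, hy, hyx⟩ := hS
  have hN3 : 3 ≤ n + 1 := by omega
  have hx' : orderOf x = 2 ^ (n + 1 - 1) := by rw [Nat.add_sub_cancel]; exact hx
  obtain ⟨z, hzdef⟩ : ∃ z : S, z = x ^ (2 ^ (n - 1)) := ⟨_, rfl⟩
  have hzz : z * z = 1 := by
    rw [hzdef, ← pow_add, ← two_mul, ← pow_succ']
    have : n - 1 + 1 = n := by omega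
    rw [this, ← hx]; exact pow_orderOf_eq_one x
  have hz1 : z ≠ 1 := by
    intro h
    rw [hzdef] at h
    have h3 := orderOf_dvd_of_pow_eq_one h
    rw [hx] at h3
    have := (Nat.pow_dvd_pow_iff_le_right (by norm_num)).mp h3
    omega
  have hzx : Commute z x := by rw [hzdef]; exact (Commute.refl x).pow_left _
  have hconj : y * x * y⁻¹ = x⁻¹ * z := by
    rw [hyx, hzdef]
    have h2 : 1 ≤ 2 ^ (n - 1) := Nat.one_le_two_pow
    have : 2 ^ (n - 1) = (2 ^ (n - 1) - 1) + 1 := by omega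
    conv_rhs => rw [this, pow_succ']
    group
  have hyA : y ∉ Subgroup.zpowers x := by
    intro h
    have h1 : y * x = x * y := zpowers_comm x y h x (Subgroup.mem_zpowers x)
    have h2 : y * x * y⁻¹ = x := by rw [h1, mul_inv_cancel_right]
    rw [hconj] at h2
    have h3 : z = x * x := by
      calc z = x * (x⁻¹ * z) := by group
        _ = x * x := by rw [h2]
    have h4 : x ^ 4 = 1 := by
      calc x ^ 4 = (x * x) * (x * x) := by
            rw [show (4 : ℕ) = 2 + 2 from rfl, pow_add, pow_two]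
        _ = 1 := by rw [← h3, hzz]
    have h5 := orderOf_dvd_of_pow_eq_one h4
    rw [hx] at h5
    have h6 : (2 : ℕ) ^ n ∣ 2 ^ 2 := by norm_num; exact h5
    have := (Nat.pow_dvd_pow_iff_le_right (by norm_num)).mp h6
    omega
  have hcomm := commutator_eq (n + 1) hN3 hcard x hx' y hyA
  obtain ⟨c, hcdef⟩ : ∃ c : S, c = y * x * y⁻¹ * x⁻¹ := ⟨_, rfl⟩
  rw [← hcdef] at hcomm
  have hc : c = z * (x ^ 2)⁻¹ := by
    rw [hcdef, hconj, pow_two]
    calc x⁻¹ * z * x⁻¹ = x⁻¹ * (z * x) * x⁻¹ * x⁻¹ := by group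
      _ = x⁻¹ * (x * z) * x⁻¹ * x⁻¹ := by rw [hzx.eq]
      _ = z * (x * x)⁻¹ := by group
  have hzc : Commute z (x ^ 2)⁻¹ := (hzx.pow_right 2).inv_right
  have hcpow : c ^ (2 ^ (n - 2)) = z⁻¹ := by
    rw [hc, hzc.mul_pow]
    have h1 : z ^ (2 ^ (n - 2)) = 1 := by
      have : n - 2 = (n - 3) + 1 := by omega
      rw [this, pow_succ', pow_mul, pow_two, hzz, one_pow]
    have h2 : ((x ^ 2)⁻¹) ^ (2 ^ (n - 2)) = z⁻¹ := by
      rw [inv_pow, ← pow_mul, ← pow_succ', hzdef]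
      congr 2
      congr 1
      omega
    rw [h1, h2, one_mul]
  have hco : orderOf c = 2 ^ (n - 2 + 1) := by
    apply orderOf_eq_prime_pow
    · rw [hcpow]
      intro h
      exact hz1 (inv_eq_one.mp h)
    · rw [pow_succ, pow_mul, hcpow, pow_two]
      calc z⁻¹ * z⁻¹ = (z * z)⁻¹ := by group
        _ = 1 := by rw [hzz, inv_one]
  have hidx : (commutator S).index = 4 := by
    have h1 := (commutator S).card_mul_index
    rw [hcomm, Nat.card_zpowers, hco, hcard, ← hcomm] at h1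
    have h2 : 2 ^ (n + 1) = 2 ^ (n - 2 + 1) * 4 := by
      have : n + 1 = (n - 2 + 1) + 2 := by omega
      conv_lhs => rw [this, pow_add]
      norm_num
    rw [h2] at h1
    exact Nat.eq_of_mul_eq_mul_left (by positivity) h1
  refine ⟨n + 1, by omega, hcard, hidx, x, y, hx', hy, hyA, ?_⟩
  rw [hconj, hzdef]
  congr 2

section data

variable (N : ℕ) (hN : 4 ≤ N) (hcard : Nat.card S = 2 ^ N) (hidx : (commutator S).index = 4)
  (x y : S) (hx : orderOf x = 2 ^ (N - 1)) (hy : orderOf y = 2)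
  (hyA : y ∉ Subgroup.zpowers x) (hconj : y * x * y⁻¹ = x⁻¹ * x ^ (2 ^ (N - 2)))

include hN hx in
theorem zz : x ^ (2 ^ (N - 2)) * x ^ (2 ^ (N - 2)) = 1 := z_sq N (by omega) x hx

include hN hx hconj in
theorem conj_sq : y * x ^ 2 * y⁻¹ = (x ^ 2)⁻¹ := by
  have hzx : Commute (x ^ (2 ^ (N - 2))) x⁻¹ := ((Commute.refl x).pow_left _).inv_right
  rw [← conj_pow, hconj, pow_two]
  calc x⁻¹ * x ^ (2 ^ (N - 2)) * (x⁻¹ * x ^ (2 ^ (N - 2)))
      = x⁻¹ * (x ^ (2 ^ (N - 2)) * x⁻¹) * x ^ (2 ^ (N - 2)) := by group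
    _ = x⁻¹ * (x⁻¹ * x ^ (2 ^ (N - 2))) * x ^ (2 ^ (N - 2)) := by rw [hzx.eq]
    _ = x⁻¹ * x⁻¹ * (x ^ (2 ^ (N - 2)) * x ^ (2 ^ (N - 2))) := by group
    _ = (x ^ 2)⁻¹ := by rw [zz N hN x hx]; group

include hy in
omit [Finite S] in
theorem yy : y * y = 1 := by
  have := pow_orderOf_eq_one y
  rw [hy, pow_two] at this
  exact this

include hN hx hy hconj in
theorem yx2_sq : (y * x ^ 2) * (y * x ^ 2) = 1 := by
  calc (y * x ^ 2) * (y * x ^ 2) = (y * x ^ 2 * y⁻¹) * (y * y) * x ^ 2 := by group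
    _ = 1 := by rw [conj_sq N hN x y hx hconj, yy y hy]; group

include hN hx hy hconj in
theorem yx_sq : (y * x) * (y * x) = (x ^ 2) ^ (2 ^ (N - 3)) := by
  have hzx : Commute (x ^ (2 ^ (N - 2))) x := (Commute.refl x).pow_left _
  have h1 : (x ^ 2) ^ (2 ^ (N - 3)) = x ^ (2 ^ (N - 2)) := by
    rw [← pow_mul, ← pow_succ']
    congr 2
    omega
  rw [h1]
  calc (y * x) * (y * x) = (y * x * y⁻¹) * (y * y) * x := by group
    _ = x⁻¹ * (x ^ (2 ^ (N - 2)) * x) := by rw [hconj, yy y hy]; group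
    _ = x⁻¹ * (x * x ^ (2 ^ (N - 2))) := by rw [hzx.eq]
    _ = _ := by group

include hN hcard hidx in
theorem sq_mem : x ^ 2 ∈ commutator S := by
  rw [pow_two]; exact sq_mem_commutator N (by omega) hcard hidx x

include hN hcard hidx hx hy hyA hconj in
/-- the dihedral maximal subgroup -/
theorem dihedral_Msub : Nonempty (↥(Msub y) ≃* DihedralGroup (2 ^ (N - 2))) := by
  have hN3 : 3 ≤ N := by omega
  have hyc : y ∉ commutator S := not_mem_commutator_of_not_mem N hN3 hcard hidx x hx y hyA y hyA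
  have hcardM : Nat.card (Msub y) = 2 * 2 ^ (N - 2) := by
    have h1 := (Msub y).card_mul_index
    rw [index_Msub N hN3 hcard hidx y hyc, hcard] at h1
    have h2 : 2 ^ N = 2 * 2 ^ (N - 2) * 2 := by
      have : N = (N - 2) + 1 + 1 := by omega
      conv_lhs => rw [this, pow_succ, pow_succ]
      ring
    omega
  have hyM : y ∈ Msub y := self_mem_Msub y
  have hx2M : x ^ 2 ∈ Msub y := commutator_le_Msub y (sq_mem N hN hcard hidx x)
  have hyx2M : y * x ^ 2 ∈ Msub y := Subgroup.mul_mem _ hyM hx2M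
  have hx2A : x ^ 2 ∈ Subgroup.zpowers x := Subgroup.pow_mem _ (Subgroup.mem_zpowers x) 2
  have hyx2 : y * x ^ 2 ≠ 1 := by
    intro h
    apply hyA
    have : y = (x ^ 2)⁻¹ := eq_inv_of_mul_eq_one_left h
    rw [this]; exact Subgroup.inv_mem _ hx2A
  have hx2o := orderOf_sq N hN3 x hx
  apply Cfsg.Agent.Lib.Helper5.DihedralRecog.dihedral_of_involutions (2 ^ (N - 2)) hcardM
    ⟨y, hyM⟩ ⟨y * x ^ 2, hyx2M⟩
  · rw [Subgroup.orderOf_mk]; exact hy
  · rw [Subgroup.orderOf_mk]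
    exact orderOf_eq_prime (by rw [pow_two]; exact yx2_sq N hN x y hx hy hconj) hyx2
  · intro h
    have h1 : y = y * x ^ 2 := congrArg Subtype.val h
    have h2 : x ^ 2 = 1 := by
      calc x ^ 2 = y⁻¹ * (y * x ^ 2) := by group
        _ = 1 := by rw [← h1]; group
    rw [← orderOf_eq_one_iff, hx2o] at h2
    have : 2 ^ 1 ≤ 2 ^ (N - 2) := Nat.pow_le_pow_right (by norm_num) (by omega)
    omega
  · have h1 : (⟨y, hyM⟩ : Msub y) * ⟨y * x ^ 2, hyx2M⟩ = ⟨x ^ 2, hx2M⟩ := by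
      apply Subtype.ext
      change y * (y * x ^ 2) = x ^ 2
      rw [← mul_assoc, yy y hy, one_mul]
    rw [h1, Subgroup.orderOf_mk, hx2o]

include hN hcard hidx hx hy hyA hconj in
/-- the quaternion maximal subgroup -/
theorem quaternion_Msub : Nonempty (↥(Msub (y * x)) ≃* QuaternionGroup (2 ^ (N - 3))) := by
  have hN3 : 3 ≤ N := by omega
  have hyxA : y * x ∉ Subgroup.zpowers x := mul_not_mem N hN3 hcard hidx x hx y hyA
  have hyxc : y * x ∉ commutator S :=
    not_mem_commutator_of_not_mem N hN3 hcard hidx x hx y hyA _ hyxA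
  have hcardM : Nat.card (Msub (y * x)) = 4 * 2 ^ (N - 3) := by
    have h1 := (Msub (y * x)).card_mul_index
    rw [index_Msub N hN3 hcard hidx _ hyxc, hcard] at h1
    have h2 : 2 ^ N = 4 * 2 ^ (N - 3) * 2 := by
      have : N = (N - 3) + 1 + 1 + 1 := by omega
      conv_lhs => rw [this, pow_succ, pow_succ, pow_succ]
      ring
    omega
  have hyxM : y * x ∈ Msub (y * x) := self_mem_Msub _
  have hx2M : x ^ 2 ∈ Msub (y * x) := commutator_le_Msub _ (sq_mem N hN hcard hidx x)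
  have hx2o := orderOf_sq N hN3 x hx
  have hx2o' : orderOf (x ^ 2) = 2 * 2 ^ (N - 3) := by
    rw [hx2o, ← pow_succ']; congr 1; omega
  haveI : NeZero (2 ^ (N - 3)) := ⟨by positivity⟩
  have h1 : (⟨x ^ 2, hx2M⟩ : Msub (y * x)) ^ (2 * 2 ^ (N - 3)) = 1 := by
    apply Subtype.ext
    rw [Subgroup.coe_pow, Subgroup.coe_one]
    change (x ^ 2) ^ (2 * 2 ^ (N - 3)) = 1
    rw [← hx2o']; exact pow_orderOf_eq_one _
  have h2 : (⟨y * x, hyxM⟩ : Msub (y * x)) * ⟨y * x, hyxM⟩ =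
      (⟨x ^ 2, hx2M⟩ : Msub (y * x)) ^ (2 ^ (N - 3)) := by
    apply Subtype.ext
    rw [Subgroup.coe_pow]
    change (y * x) * (y * x) = (x ^ 2) ^ (2 ^ (N - 3))
    exact yx_sq N hN x y hx hy hconj
  have h3 : (⟨x ^ 2, hx2M⟩ : Msub (y * x)) * ⟨y * x, hyxM⟩ =
      ⟨y * x, hyxM⟩ * (⟨x ^ 2, hx2M⟩ : Msub (y * x))⁻¹ := by
    apply Subtype.ext
    change x ^ 2 * (y * x) = (y * x) * (x ^ 2)⁻¹
    have h4 := conj_sq N hN x y hx hconj
    have h5 : y * (x ^ 2)⁻¹ * y⁻¹ = x ^ 2 := by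
      calc y * (x ^ 2)⁻¹ * y⁻¹ = (y * x ^ 2 * y⁻¹)⁻¹ := by group
        _ = x ^ 2 := by rw [h4, inv_inv]
    calc x ^ 2 * (y * x) = (y * (x ^ 2)⁻¹ * y⁻¹) * (y * x) := by rw [h5]
      _ = y * ((x ^ 2)⁻¹ * x) := by group
      _ = y * (x * (x ^ 2)⁻¹) := by
          rw [((Commute.refl x).pow_right 2).inv_right.eq]
      _ = _ := by group
  obtain ⟨f, hfa, hfxa⟩ := UOP.quatHom (2 ^ (N - 3)) _ _ h1 h2 h3
  have hinj := UOP.quatHom_injective (2 ^ (N - 3)) _ _ f hfa hfxa
    (by rw [Subgroup.orderOf_mk]; exact hx2o')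
    (by
      intro h
      obtain ⟨k, hk⟩ := Subgroup.mem_zpowers_iff.mp h
      apply hyxA
      have h6 : (x ^ 2) ^ k = y * x := by
        have := congrArg Subtype.val hk
        rw [Subgroup.coe_zpow] at this
        exact this
      rw [← h6]
      exact Subgroup.zpow_mem _ (Subgroup.pow_mem _ (Subgroup.mem_zpowers x) 2) k)
  have hbij : Function.Bijective f := by
    apply hinj.bijective_of_nat_card_le
    rw [Nat.card_eq_fintype_card (α := QuaternionGroup (2 ^ (N - 3))), QuaternionGroup.card,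
      hcardM]
  exact ⟨(MulEquiv.ofBijective f hbij).symm⟩

include hN hcard hidx hx hy hyA hconj in
/-- all involutions lie in the dihedral maximal subgroup -/
theorem involution_mem (t : S) (ht : orderOf t = 2) : t ∈ Msub y := by
  have hN3 : 3 ≤ N := by omega
  have hA2 := index_zpowers N hN3 hcard x hx
  have htt : t * t = 1 := yy t ht
  have hcz := commutator_eq_zpowers_sq N hN3 hcard hidx x hx
  rw [mem_Msub N hN3 hcard hidx]
  by_cases htA : t ∈ Subgroup.zpowers x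
  · left
    rcases CycIdxTwo.involution_zpowers N hN3 x hx t htA htt with h | h
    · rw [h]; exact Subgroup.one_mem _
    · rw [h, hcz]
      have : x ^ (2 ^ (N - 2)) = (x ^ 2) ^ (2 ^ (N - 3)) := by
        rw [← pow_mul, ← pow_succ']
        congr 2
        omega
      rw [this]
      exact Subgroup.pow_mem _ (Subgroup.mem_zpowers _) _
  · right
    have h1 : y⁻¹ * t ∈ Subgroup.zpowers x := IdxTwo.mem_of_not_mem _ hA2 hyA htA
    obtain ⟨i, hi⟩ := Submonoid.mem_powers_iff _ _ |>.mp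
      ((isOfFinOrder_of_finite x).mem_powers_iff_mem_zpowers.mpr h1)
    rw [← hi, hcz]
    have hzx : Commute (x ^ (2 ^ (N - 2))) x⁻¹ := ((Commute.refl x).pow_left _).inv_right
    have h2 : y * x ^ i * y⁻¹ = (x ^ i)⁻¹ * (x ^ (2 ^ (N - 2))) ^ i := by
      rw [← conj_pow, hconj, hzx.symm.mul_pow, inv_pow]
    have h3 : (x ^ (2 ^ (N - 2))) ^ i = 1 := by
      have h4 : t = y * x ^ i := by rw [hi]; group
      have h5 : (y * x ^ i) * (y * x ^ i) = 1 := by rw [← h4]; exact htt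
      calc (x ^ (2 ^ (N - 2))) ^ i = x ^ i * ((x ^ i)⁻¹ * (x ^ (2 ^ (N - 2))) ^ i) := by group
        _ = x ^ i * (y * x ^ i * y⁻¹) := by rw [h2]
        _ = y⁻¹ * ((y * x ^ i) * (y * x ^ i)) * y * (y * y)⁻¹ := by group
        _ = 1 := by rw [h5, yy y hy]; group
    have h6 : orderOf (x ^ (2 ^ (N - 2))) = 2 := by
      apply orderOf_eq_prime
      · rw [pow_two]; exact zz N hN x hx
      · intro h
        have h3 := orderOf_dvd_of_pow_eq_one h
        rw [hx] at h3
        have := (Nat.pow_dvd_pow_iff_le_right (by norm_num)).mp h3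
        omega
    have h7 := orderOf_dvd_of_pow_eq_one h3
    rw [h6] at h7
    obtain ⟨j, rfl⟩ := h7
    rw [pow_mul]
    exact Subgroup.pow_mem _ (Subgroup.mem_zpowers _) _

include hN hcard hidx hx hy hyA hconj in
/-- the involutions generate the dihedral maximal subgroup -/
theorem closure_involutions : Subgroup.closure {t : S | orderOf t = 2} = Msub y := by
  have hN3 : 3 ≤ N := by omega
  have hyc : y ∉ commutator S := not_mem_commutator_of_not_mem N hN3 hcard hidx x hx y hyA y hyA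
  have hle : Subgroup.closure {t : S | orderOf t = 2} ≤ Msub y := by
    rw [Subgroup.closure_le]
    intro t ht
    exact involution_mem N hN hcard hidx x y hx hy hyA hconj t ht
  apply Subgroup.eq_of_le_of_card_ge hle
  have hx2A : x ^ 2 ∈ Subgroup.zpowers x := Subgroup.pow_mem _ (Subgroup.mem_zpowers x) 2
  have hyx2 : y * x ^ 2 ≠ 1 := by
    intro h
    apply hyA
    have : y = (x ^ 2)⁻¹ := eq_inv_of_mul_eq_one_left h
    rw [this]; exact Subgroup.inv_mem _ hx2A
  have hyx2o : orderOf (y * x ^ 2) = 2 :=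
    orderOf_eq_prime (by rw [pow_two]; exact yx2_sq N hN x y hx hy hconj) hyx2
  have hx2o := orderOf_sq N hN3 x hx
  have hne : y ≠ y * x ^ 2 := by
    intro h1
    have h2 : x ^ 2 = 1 := by
      calc x ^ 2 = y⁻¹ * (y * x ^ 2) := by group
        _ = 1 := by rw [← h1]; group
    rw [← orderOf_eq_one_iff, hx2o] at h2
    have : 2 ^ 1 ≤ 2 ^ (N - 2) := Nat.pow_le_pow_right (by norm_num) (by omega)
    omega
  obtain ⟨e⟩ := Cfsg.Agent.S0206.result y (y * x ^ 2) hy hyx2o hne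
  have h1 : Nat.card (Subgroup.closure ({y, y * x ^ 2} : Set S)) = 2 * 2 ^ (N - 2) := by
    rw [Nat.card_congr e.toEquiv, DihedralGroup.nat_card]
    have : y * (y * x ^ 2) = x ^ 2 := by rw [← mul_assoc, yy y hy, one_mul]
    rw [this, hx2o]
  have h2 : Subgroup.closure ({y, y * x ^ 2} : Set S) ≤
      Subgroup.closure {t : S | orderOf t = 2} := by
    apply Subgroup.closure_mono
    rintro t (rfl | ht)
    · exact hy
    · rw [Set.mem_singleton_iff] at ht
      rw [ht]; exact hyx2o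
  have h3 := Subgroup.card_le_of_le h2
  have hcardM : Nat.card (Msub y) = 2 * 2 ^ (N - 2) := by
    have h1 := (Msub y).card_mul_index
    rw [index_Msub N hN3 hcard hidx y hyc, hcard] at h1
    have h2 : 2 ^ N = 2 * 2 ^ (N - 2) * 2 := by
      have : N = (N - 2) + 1 + 1 := by omega
      conv_lhs => rw [this, pow_succ, pow_succ]
      ring
    omega
  rw [hcardM, ← h1]
  exact h3

end data

end Cfsg.Agent.H2.QuasiDih
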