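import Mathlib

/-!
# `-1` is a sum of two squares modulo every odd number

(author: helper2)
-/

set_option autoImplicit false

namespace Cfsg.Agent.H2.STS

/-- powers of sums of two squares are sums of two squares -/
theorem pow_sq_add_sq (a b : ℤ) (n : ℕ) : ∃ X Y : ℤ, (a ^ 2 + b ^ 2) ^ n = X ^ 2 + Y ^ 2 := by
  induction n with
  | zero => exact ⟨1, 0, by norm_num⟩
  | succ n ih =>
    obtain ⟨X, Y, h⟩ := ih
    exact ⟨X * a - Y * b, X * b + Y * a, by rw [pow_succ, h]; ring⟩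

theorem prime_pow_case (p n : ℕ) (hp : p.Prime) (hn : 0 < n) (hodd : Odd (p ^ n)) :
    ∃ x y : ℕ, p ^ n ∣ x * x + y * y + 1 := by
  have : Fact p.Prime := ⟨hp⟩
  obtain ⟨a, b, k, -, -, hk⟩ := Int.exists_sq_add_sq_add_one_eq_mul p
  have h1 : ((p : ℕ) : ℤ) ∣ ((a : ℤ) ^ 2 + (b : ℤ) ^ 2) - (-1) := by
    refine ⟨(k : ℤ), ?_⟩
    have : ((a ^ 2 + b ^ 2 + 1 : ℕ) : ℤ) = ((k * p : ℕ) : ℤ) := by rw [hk]
    push_cast at this
    linarith
  have h2 := dvd_sub_pow_of_dvd_sub h1 (n - 1)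
  have hn1 : n - 1 + 1 = n := by omega
  rw [hn1] at h2
  have hpodd : Odd p := by
    rcases Nat.even_or_odd p with h | h
    · exfalso
      have : Even (p ^ n) := (Nat.even_pow.mpr ⟨h, by omega⟩)
      exact (Nat.not_even_iff_odd.mpr hodd) this
    · exact h
  have h3 : ((-1 : ℤ)) ^ p ^ (n - 1) = -1 := Odd.neg_one_pow (hpodd.pow)
  rw [h3] at h2
  obtain ⟨X, Y, hXY⟩ := pow_sq_add_sq (a : ℤ) (b : ℤ) (p ^ (n - 1))
  rw [hXY] at h2
  refine ⟨X.natAbs, Y.natAbs, ?_⟩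
  rw [← Int.natCast_dvd_natCast]
  push_cast
  rw [abs_mul_abs_self, abs_mul_abs_self]
  have : X * X + Y * Y + 1 = X ^ 2 + Y ^ 2 - -1 := by ring
  rw [this]
  exact_mod_cast h2

/-- `-1` is a sum of two squares modulo any odd number -/
theorem exists_sq_add_sq_add_one (k : ℕ) : Odd k → ∃ x y : ℕ, k ∣ x * x + y * y + 1 := by
  induction k using Nat.recOnPosPrimePosCoprime with
  | prime_pow p n hp hn => exact prime_pow_case p n hp hn
  | zero => intro h; exact absurd h (by decide)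
  | one => intro _; exact ⟨0, 0, one_dvd _⟩
  | coprime a b ha hb hab iha ihb =>
    intro hodd
    rw [Nat.odd_mul] at hodd
    obtain ⟨x₁, y₁, h1⟩ := iha hodd.1
    obtain ⟨x₂, y₂, h2⟩ := ihb hodd.2
    obtain ⟨x, hxa, hxb⟩ := Nat.chineseRemainder hab x₁ x₂
    obtain ⟨y, hya, hyb⟩ := Nat.chineseRemainder hab y₁ y₂
    refine ⟨x, y, hab.mul_dvd_of_dvd_of_dvd ?_ ?_⟩
    · have : x * x + y * y + 1 ≡ x₁ * x₁ + y₁ * y₁ + 1 [MOD a] :=
        ((hxa.mul hxa).add (hya.mul hya)).add_right 1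
      exact (Nat.modEq_zero_iff_dvd.mp (this.trans (Nat.modEq_zero_iff_dvd.mpr h1)))
    · have : x * x + y * y + 1 ≡ x₂ * x₂ + y₂ * y₂ + 1 [MOD b] :=
        ((hxb.mul hxb).add (hyb.mul hyb)).add_right 1
      exact (Nat.modEq_zero_iff_dvd.mp (this.trans (Nat.modEq_zero_iff_dvd.mpr h2)))

/-- the same in `ZMod k` -/
theorem exists_zmod (k : ℕ) (hk : Odd k) : ∃ x y : ZMod k, x * x + y * y = -1 := by
  obtain ⟨x, y, h⟩ := exists_sq_add_sq_add_one k hk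
  refine ⟨(x : ZMod k), (y : ZMod k), ?_⟩
  have h1 : ((x * x + y * y + 1 : ℕ) : ZMod k) = 0 := (ZMod.natCast_eq_zero_iff _ _).mpr h
  push_cast at h1
  exact eq_neg_of_add_eq_zero_left h1

end Cfsg.Agent.H2.STS
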