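import Mathlib
import Cfsg.Agent.H2.SumTwoSquaresMod
import Cfsg.Agent.H2.FrobeniusSemidirect
import Cfsg.Agent.H2.UniqueOrderP
import Cfsg.Agent.H1.FrobeniusCount
import Cfsg.Agent.H2.FrobKernelSquare

/-!
# Frobenius groups with complement `Q₈`: the possible kernel orders

(author: helper2)
-/

set_option autoImplicit false

namespace Cfsg.Agent.H2.QuatFrob

open Cfsg.Agent.H2

/-- `α (v₁, v₂) = (-v₂, v₁)` -/
def alphaA (k : ℕ) : (ZMod k × ZMod k) ≃+ (ZMod k × ZMod k) :=
  { toFun := fun v => (-v.2, v.1)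
    invFun := fun v => (v.2, -v.1)
    left_inv := fun v => by simp
    right_inv := fun v => by simp
    map_add' := fun v w => by
      ext
      · simp only [Prod.snd_add, Prod.fst_add, Prod.mk_add_mk]; ring
      · simp }

/-- `β (v₁, v₂) = (x v₁ + y v₂, y v₁ - x v₂)` -/
def betaA (k : ℕ) (x y : ZMod k) (h : x * x + y * y = -1) :
    (ZMod k × ZMod k) ≃+ (ZMod k × ZMod k) :=
  { toFun := fun v => (x * v.1 + y * v.2, y * v.1 - x * v.2)
    invFun := fun v => (-(x * v.1 + y * v.2), -(y * v.1 - x * v.2))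
    left_inv := fun v => by
      ext
      · simp only; linear_combination (-v.1) * h
      · simp only; linear_combination (-v.2) * h
    right_inv := fun v => by
      ext
      · simp only; linear_combination (-v.1) * h
      · simp only; linear_combination (-v.2) * h
    map_add' := fun v w => by
      ext
      · simp only [Prod.snd_add, Prod.fst_add, Prod.mk_add_mk]; ring
      · simp only [Prod.snd_add, Prod.fst_add, Prod.mk_add_mk]; ring }

/-- the kernel -/
abbrev Ker (k : ℕ) : Type := Multiplicative (ZMod k × ZMod k)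

def alpha (k : ℕ) : MulAut (Ker k) := AddEquiv.toMultiplicative (alphaA k)

def beta (k : ℕ) (x y : ZMod k) (h : x * x + y * y = -1) : MulAut (Ker k) :=
  AddEquiv.toMultiplicative (betaA k x y h)

theorem alpha_apply (k : ℕ) (v : Ker k) :
    alpha k v = Multiplicative.ofAdd (-(Multiplicative.toAdd v).2, (Multiplicative.toAdd v).1) :=
  rfl

theorem beta_apply (k : ℕ) (x y : ZMod k) (h : x * x + y * y = -1) (v : Ker k) :
    beta k x y h v = Multiplicative.ofAdd
      (x * (Multiplicative.toAdd v).1 + y * (Multiplicative.toAdd v).2,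
        y * (Multiplicative.toAdd v).1 - x * (Multiplicative.toAdd v).2) := rfl

theorem alpha_sq_apply (k : ℕ) (v : Ker k) : (alpha k ^ 2) v = v⁻¹ := by
  rw [pow_two, MulAut.mul_apply, alpha_apply, alpha_apply]
  apply Multiplicative.toAdd.injective
  ext <;> simp

theorem alpha_pow_four (k : ℕ) : alpha k ^ (2 * 2) = 1 := by
  refine MulEquiv.ext (fun v => ?_)
  rw [pow_mul, pow_two (alpha k ^ 2), MulAut.mul_apply, alpha_sq_apply, alpha_sq_apply, inv_inv]
  rfl

theorem beta_mul_beta (k : ℕ) (x y : ZMod k) (h : x * x + y * y = -1) :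
    beta k x y h * beta k x y h = alpha k ^ 2 := by
  refine MulEquiv.ext (fun v => ?_)
  rw [MulAut.mul_apply, alpha_sq_apply, beta_apply, beta_apply]
  apply Multiplicative.toAdd.injective
  ext
  · simp only [toAdd_ofAdd, toAdd_inv, Prod.fst_neg]; linear_combination (Multiplicative.toAdd v).1 * h
  · simp only [toAdd_ofAdd, toAdd_inv, Prod.snd_neg]; linear_combination (Multiplicative.toAdd v).2 * h

theorem alpha_inv_apply (k : ℕ) (v : Ker k) :
    (alpha k)⁻¹ v = Multiplicative.ofAdd ((Multiplicative.toAdd v).2, -(Multiplicative.toAdd v).1) :=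
  rfl

theorem alpha_mul_beta (k : ℕ) (x y : ZMod k) (h : x * x + y * y = -1) :
    alpha k * beta k x y h = beta k x y h * (alpha k)⁻¹ := by
  refine MulEquiv.ext (fun v => ?_)
  rw [MulAut.mul_apply, MulAut.mul_apply, alpha_inv_apply, beta_apply, beta_apply, alpha_apply]
  apply Multiplicative.toAdd.injective
  ext
  · simp only [toAdd_ofAdd]; ring
  · simp only [toAdd_ofAdd]; ring

theorem quat_cases : ∀ u : QuaternionGroup 2, u ≠ 1 →
    u = QuaternionGroup.a 2 ∨ u * u = QuaternionGroup.a 2 := by decide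

theorem eq_zero_of_add_self (k : ℕ) (hk : Odd k) (w : ZMod k) (h : w + w = 0) : w = 0 := by
  obtain ⟨m, hm⟩ := hk
  have h1 : ((k + 1 : ℕ) : ZMod k) = 1 := by
    push_cast; rw [ZMod.natCast_self, zero_add]
  have h2 : w = ((k + 1 : ℕ) : ZMod k) * w := by rw [h1, one_mul]
  have h3 : ((k + 1 : ℕ) : ZMod k) = ((m + 1 : ℕ) : ZMod k) * 2 := by
    have : k + 1 = (m + 1) * 2 := by omega
    rw [this]; push_cast; ring
  rw [h2, h3, mul_assoc, two_mul, h, mul_zero]

theorem not_comm_quat : ¬ ∀ a b : QuaternionGroup 2, a * b = b * a := by decide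

/-- existence of a Frobenius group with complement `Q₈` and kernel of order `k ^ 2` -/
theorem exists_frobenius (k : ℕ) (hk : Odd k) (hk1 : 1 < k) :
    ∃ (L : Type) (_ : Group L) (_ : Finite L) (H : Subgroup L), Cfsg.IsFrobeniusComplement H ∧
      Nonempty (H ≃* QuaternionGroup 2) ∧ Nat.card (Cfsg.frobeniusKernel H) = k * k := by
  have : NeZero k := ⟨by omega⟩
  have : Fact (1 < k) := ⟨hk1⟩
  obtain ⟨x, y, hxy⟩ := STS.exists_zmod k hk
  obtain ⟨f, hfa, hfxa⟩ := UOP.quatHom 2 (alpha k) (beta k x y hxy) (alpha_pow_four k)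
    (beta_mul_beta k x y hxy) (alpha_mul_beta k x y hxy)
  have hz : ∀ v : Ker k, f (QuaternionGroup.a 2) v = v⁻¹ := by
    intro v
    rw [hfa]
    have : (2 : ZMod (2 * 2)).val = 2 := rfl
    rw [this, alpha_sq_apply]
  have hfpf : ∀ u : QuaternionGroup 2, u ≠ 1 → ∀ v : Ker k, f u v = v → v = 1 := by
    intro u hu v huv
    have hzv : f (QuaternionGroup.a 2) v = v := by
      rcases quat_cases u hu with h | h
      · rw [← h]; exact huv
      · rw [← h, map_mul, MulAut.mul_apply, huv, huv]
    rw [hz] at hzv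
    have h0 := congrArg Multiplicative.toAdd hzv
    rw [toAdd_inv] at h0
    have h1 : Multiplicative.toAdd v + Multiplicative.toAdd v = 0 := by
      nth_rewrite 1 [← h0]; exact neg_add_cancel _
    apply Multiplicative.toAdd.injective
    ext
    · exact eq_zero_of_add_self k hk _ (congrArg Prod.fst h1)
    · exact eq_zero_of_add_self k hk _ (congrArg Prod.snd h1)
  have hF := isFrobeniusComplement_inr_range f hfpf
  have : Finite (Ker k ⋊[f] QuaternionGroup 2) :=
    Finite.of_equiv _ SemidirectProduct.equivProd.symm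
  refine ⟨Ker k ⋊[f] QuaternionGroup 2, inferInstance, inferInstance, _, hF, ?_, ?_⟩
  · exact ⟨(MonoidHom.ofInjective SemidirectProduct.inr_injective).symm⟩
  · rw [Cfsg.Agent.H1.card_frobeniusKernel _ hF]
    have h1 := Subgroup.index_mul_card (SemidirectProduct.inr : QuaternionGroup 2 →*
      Ker k ⋊[f] QuaternionGroup 2).range
    rw [SemidirectProduct.card,
      ← Nat.card_congr (MonoidHom.ofInjective (SemidirectProduct.inr_injective
        (φ := f))).toEquiv] at h1
    have h2 : Nat.card (Ker k) = k * k := by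
      rw [Nat.card_congr Multiplicative.toAdd, Nat.card_prod, Nat.card_zmod]
    rw [h2] at h1
    have h3 : 0 < Nat.card (QuaternionGroup 2) := Nat.card_pos
    exact Nat.eq_of_mul_eq_mul_right h3 h1

/-- `S4295` -/
theorem quaternion_kernel_orders (m : ℕ) :
    (∃ (L : Type) (_ : Group L) (_ : Finite L) (H : Subgroup L), Cfsg.IsFrobeniusComplement H ∧
        Nonempty (H ≃* QuaternionGroup 2) ∧ Nat.card (Cfsg.frobeniusKernel H) = m) ↔
    (Odd m ∧ IsSquare m ∧ 1 < m) := by
  constructor
  · rintro ⟨L, _, _, H, hF, ⟨e⟩, hm⟩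
    have hcard : Nat.card H = 2 ^ 3 := by
      rw [Nat.card_congr e.toEquiv, Nat.card_eq_fintype_card, QuaternionGroup.card]; norm_num
    have : Fact (Nat.Prime 2) := ⟨Nat.prime_two⟩
    have hpg : IsPGroup 2 (⊤ : Subgroup H) :=
      (IsPGroup.of_card hcard).to_subgroup _
    have hZ : ∃ (p : ℕ) (_ : Fact p.Prime) (P : Sylow p H), ¬ IsCyclic P := by
      refine ⟨2, inferInstance, hpg.toSylow (by rw [Subgroup.index_top]; norm_num), ?_⟩
      intro hcyc
      apply not_comm_quat
      intro a b
      have h1 : ∀ u v : (hpg.toSylow (by rw [Subgroup.index_top]; norm_num) : Sylow 2 H),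
          u * v = v * u := by
        intro u v
        have := hcyc
        exact IsCyclic.commGroup.mul_comm u v
      have hmem : ∀ w : H, w ∈ (hpg.toSylow (by rw [Subgroup.index_top]; norm_num) : Sylow 2 H) :=
        fun w => (IsPGroup.mem_toSylow hpg _).mpr (Subgroup.mem_top w)
      have h2 := h1 ⟨e.symm a, hmem _⟩ ⟨e.symm b, hmem _⟩
      have h3 : e.symm a * e.symm b = e.symm b * e.symm a := congrArg Subtype.val h2
      have h4 := congrArg e h3
      simpa using h4
    obtain ⟨hodd, hsq⟩ := FrobKerSq.kernel_square H hF hZ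
    rw [hm] at hodd hsq
    refine ⟨hodd, hsq, ?_⟩
    rw [← hm, Cfsg.Agent.H1.card_frobeniusKernel H hF]
    have h1 : H.index ≠ 1 := fun h => hF.2.1 (Subgroup.index_eq_one.mp h)
    have h2 : H.index ≠ 0 := Subgroup.index_ne_zero_of_finite
    omega
  · rintro ⟨hodd, ⟨k, rfl⟩, hk1⟩
    have hkodd : Odd k := (Nat.odd_mul.mp hodd).1
    have hk1' : 1 < k := by
      by_contra h
      have : k ≤ 1 := not_lt.mp h
      interval_cases k <;> simp at hk1
    exact exists_frobenius k hkodd hk1'

end Cfsg.Agent.H2.QuatFrob
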