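import Mathlib
import Cfsg.Prelude.Def_RootSubgroups

/-!
Basic theory of rank one groups (helper2).
-/

set_option autoImplicit false

namespace Cfsg.Agent.H2.RankOne

open Cfsg

variable {G : Type*} [Group G]

theorem mem_conjBy {A : Subgroup G} {g x : G} : x ∈ conjBy A g ↔ g⁻¹ * x * g ∈ A := by
  constructor
  · rintro ⟨a, ha, rfl⟩
    have : g⁻¹ * ((MulAut.conj g).toMonoidHom a) * g = a := by
      show g⁻¹ * (g * a * g⁻¹) * g = a
      group
    rw [this]; exact ha
  · intro h
    refine ⟨g⁻¹ * x * g, h, ?_⟩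
    show g * (g⁻¹ * x * g) * g⁻¹ = x
    group

theorem conjBy_one (A : Subgroup G) : conjBy A 1 = A := by
  ext x; rw [mem_conjBy]; simp

theorem conjBy_mul (A : Subgroup G) (g h : G) : conjBy (conjBy A h) g = conjBy A (g * h) := by
  ext x
  rw [mem_conjBy, mem_conjBy, mem_conjBy]
  have : h⁻¹ * (g⁻¹ * x * g) * h = (g * h)⁻¹ * x * (g * h) := by group
  rw [this]

theorem conjBy_eq_self_of_mem {A : Subgroup G} {g : G} (hg : g ∈ A) : conjBy A g = A := by
  ext x
  rw [mem_conjBy]
  constructor
  · intro h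
    have : x = g * (g⁻¹ * x * g) * g⁻¹ := by group
    rw [this]
    exact A.mul_mem (A.mul_mem hg h) (A.inv_mem hg)
  · intro h
    exact A.mul_mem (A.mul_mem (A.inv_mem hg) h) hg

theorem conjBy_eq_self_iff {A : Subgroup G} {g : G} :
    conjBy A g = A ↔ g ∈ Subgroup.normalizer (A : Set G) := by
  rw [Subgroup.mem_normalizer_iff'']
  constructor
  · intro h x
    rw [← mem_conjBy, h]
  · intro h
    ext x
    rw [mem_conjBy, ← h]

theorem conjBy_injective (g : G) : Function.Injective (fun A : Subgroup G => conjBy A g) := by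
  intro A B h
  have := congrArg (fun C => conjBy C g⁻¹) h
  simpa [conjBy_mul, conjBy_one] using this

theorem conjBy_eq_iff {A B : Subgroup G} {g : G} : conjBy A g = B ↔ A = conjBy B g⁻¹ := by
  constructor
  · intro h; rw [← h, conjBy_mul]; simp [conjBy_one]
  · intro h; rw [h, conjBy_mul]; simp [conjBy_one]

variable {A B : Subgroup G}

/-- no non-identity element of `A` normalizes `B` -/
theorem inf_normalizer_eq_bot (h : IsRankOnePair A B) :
    A ⊓ Subgroup.normalizer (B : Set G) = ⊥ := by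
  rw [eq_bot_iff]
  intro a ha
  rw [Subgroup.mem_bot]
  by_contra hne
  obtain ⟨b, hb, _, hab⟩ := h.cond_left a ha.1 hne
  have h1 : conjBy B a⁻¹ = B :=
    conjBy_eq_self_iff.2 (Subgroup.inv_mem _ ha.2)
  rw [h1] at hab
  -- A = b B b⁻¹ = B
  have h2 : A = conjBy B b := by
    rw [← hab, conjBy_mul]; simp [conjBy_one]
  rw [conjBy_eq_self_of_mem hb] at h2
  exact h.ne h2

theorem inf_normalizer_eq_bot' (h : IsRankOnePair A B) :
    B ⊓ Subgroup.normalizer (A : Set G) = ⊥ :=
  inf_normalizer_eq_bot (RankOnePair_symm h)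

theorem eq_of_conjBy_inv_eq (h : IsRankOnePair A B) {b b' : G} (hb : b ∈ B) (hb' : b' ∈ B)
    (he : conjBy A b⁻¹ = conjBy A b'⁻¹) : b = b' := by
  have h1 : conjBy A (b' * b⁻¹) = A := by
    rw [← conjBy_mul, he, conjBy_mul]; simp [conjBy_one]
  have h2 : b' * b⁻¹ ∈ B ⊓ Subgroup.normalizer (A : Set G) :=
    ⟨B.mul_mem hb' (B.inv_mem hb), conjBy_eq_self_iff.1 h1⟩
  rw [inf_normalizer_eq_bot' h, Subgroup.mem_bot] at h2
  exact (mul_inv_eq_one.1 h2).symm

theorem eq_of_conjBy_inv_eq' (h : IsRankOnePair A B) {a a' : G} (ha : a ∈ A) (ha' : a' ∈ A)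
    (he : conjBy B a⁻¹ = conjBy B a'⁻¹) : a = a' :=
  eq_of_conjBy_inv_eq (RankOnePair_symm h) ha ha' he


/-- induction principle for the join of two subgroups -/
theorem sup_induction (A B : Subgroup G) (P : G → Prop) (hA : ∀ a ∈ A, P a) (hB : ∀ b ∈ B, P b)
    (h1 : P 1) (hmul : ∀ x y, P x → P y → P (x * y)) : ∀ x ∈ A ⊔ B, P x := by
  intro x hx
  have hcl : A ⊔ B = Subgroup.closure ((A : Set G) ∪ (B : Set G)) := by
    rw [Subgroup.closure_union, Subgroup.closure_eq, Subgroup.closure_eq]
  rw [hcl] at hx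
  induction hx using Subgroup.closure_induction'' with
  | mem y hy =>
    rcases hy with hy | hy
    · exact hA y hy
    · exact hB y hy
  | inv_mem y hy =>
    rcases hy with hy | hy
    · exact hA _ (A.inv_mem hy)
    · exact hB _ (B.inv_mem hy)
  | one => exact h1
  | mul x y _ _ hx hy => exact hmul x y hx hy

theorem exists_nonidentity_left (h : IsRankOnePair A B) : ∃ a ∈ A, a ≠ 1 := by
  by_contra hcon
  push Not at hcon
  -- then B has no nonidentity elements either
  have hB : ∀ b ∈ B, b = 1 := by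
    intro b hb
    by_contra hne
    obtain ⟨a, ha, ha1, _⟩ := h.cond_right b hb hne
    exact ha1 (hcon a ha)
  apply h.ne
  ext x
  constructor
  · intro hx; rw [hcon x hx]; exact B.one_mem
  · intro hx; rw [hB x hx]; exact A.one_mem

theorem exists_nonidentity_right (h : IsRankOnePair A B) : ∃ b ∈ B, b ≠ 1 :=
  exists_nonidentity_left (RankOnePair_symm h)

/-- `B` is a conjugate of `A` under `⟨A, B⟩` -/
theorem exists_conjBy_eq_right (h : IsRankOnePair A B) : ∃ x ∈ A ⊔ B, B = conjBy A x := by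
  obtain ⟨a, ha, hne⟩ := exists_nonidentity_left h
  obtain ⟨b, hb, _, hab⟩ := h.cond_left a ha hne
  refine ⟨a * b⁻¹, Subgroup.mul_mem _ (Subgroup.mem_sup_left ha)
    (Subgroup.mem_sup_right (B.inv_mem hb)), ?_⟩
  rw [← conjBy_mul, hab, conjBy_mul]
  simp [conjBy_one]

theorem right_mem_unipotentSubgroups (h : IsRankOnePair A B) : B ∈ unipotentSubgroups A B :=
  exists_conjBy_eq_right h

theorem left_mem_unipotentSubgroups : A ∈ unipotentSubgroups A B :=
  ⟨1, Subgroup.one_mem _, (conjBy_one A).symm⟩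

theorem conjBy_mem_unipotentSubgroups {C : Subgroup G} (hC : C ∈ unipotentSubgroups A B) {x : G}
    (hx : x ∈ A ⊔ B) : conjBy C x ∈ unipotentSubgroups A B := by
  obtain ⟨y, hy, rfl⟩ := hC
  exact ⟨x * y, Subgroup.mul_mem _ hx hy, conjBy_mul A x y⟩

/-- `b A b⁻¹` is `A` or of the form `a B a⁻¹` -/
theorem conjBy_left_of_mem_right (h : IsRankOnePair A B) {b : G} (hb : b ∈ B) :
    conjBy A b = A ∨ ∃ a ∈ A, conjBy A b = conjBy B a := by
  by_cases hb1 : b = 1
  · left; rw [hb1, conjBy_one]
  · right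
    have hb1' : b⁻¹ ≠ 1 := by simpa using hb1
    obtain ⟨a, ha, _, hab⟩ := h.cond_right b⁻¹ (B.inv_mem hb) hb1'
    rw [inv_inv] at hab
    exact ⟨a⁻¹, A.inv_mem ha, hab.symm⟩

/-- the unipotent subgroups are `A` and the `A`-conjugates of `B` -/
theorem unipotentSubgroups_eq (h : IsRankOnePair A B) {C : Subgroup G}
    (hC : C ∈ unipotentSubgroups A B) : C = A ∨ ∃ a ∈ A, C = conjBy B a := by
  obtain ⟨x, hx, rfl⟩ := hC
  -- the set `S = {A} ∪ {a B a⁻¹}` is invariant
  have key : ∀ x ∈ A ⊔ B, ∀ C : Subgroup G, (C = A ∨ ∃ a ∈ A, C = conjBy B a) →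
      (conjBy C x = A ∨ ∃ a ∈ A, conjBy C x = conjBy B a) := by
    apply sup_induction A B
    · -- elements of A
      intro a' ha' C hC
      rcases hC with rfl | ⟨a, ha, rfl⟩
      · left; exact conjBy_eq_self_of_mem ha'
      · right; exact ⟨a' * a, A.mul_mem ha' ha, conjBy_mul B a' a⟩
    · -- elements of B
      intro b' hb' C hC
      rcases hC with rfl | ⟨a, ha, rfl⟩
      · exact conjBy_left_of_mem_right h hb'
      · by_cases ha1 : a = 1
        · right
          refine ⟨1, A.one_mem, ?_⟩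
          rw [ha1, conjBy_one, conjBy_eq_self_of_mem hb']
        · have ha1' : a⁻¹ ≠ 1 := by simpa using ha1
          obtain ⟨b₀, hb₀, _, hab⟩ := h.cond_left a⁻¹ (A.inv_mem ha) ha1'
          rw [inv_inv] at hab
          rw [← hab, conjBy_mul]
          exact conjBy_left_of_mem_right h (B.mul_mem hb' (B.inv_mem hb₀))
    · intro C hC
      rw [conjBy_one]; exact hC
    · intro x y hx hy C hC
      rw [← conjBy_mul]
      exact hx _ (hy C hC)
  exact key x hx A (Or.inl rfl)

theorem conjBy_right_ne_left (h : IsRankOnePair A B) {a : G} (ha : a ∈ A) : conjBy B a ≠ A := by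
  intro he
  apply h.ne
  have : B = conjBy A a⁻¹ := conjBy_eq_iff.1 he
  rw [this, conjBy_eq_self_of_mem (A.inv_mem ha)]

/-- `A` acts regularly on the unipotent subgroups different from `A` -/
theorem existsUnique_conjBy_eq (h : IsRankOnePair A B) {C D : Subgroup G}
    (hC : C ∈ unipotentSubgroups A B) (hD : D ∈ unipotentSubgroups A B) (hCA : C ≠ A) (hDA : D ≠ A) :
    ∃! a : G, a ∈ A ∧ conjBy C a = D := by
  rcases unipotentSubgroups_eq h hC with rfl | ⟨a₁, ha₁, rfl⟩
  · exact absurd rfl hCA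
  rcases unipotentSubgroups_eq h hD with rfl | ⟨a₂, ha₂, rfl⟩
  · exact absurd rfl hDA
  refine ⟨a₂ * a₁⁻¹, ⟨A.mul_mem ha₂ (A.inv_mem ha₁), ?_⟩, ?_⟩
  · rw [conjBy_mul]; simp
  · rintro a' ⟨ha', he⟩
    rw [conjBy_mul] at he
    have h1 : conjBy B (a₂⁻¹ * (a' * a₁)) = B := by
      rw [← conjBy_mul, he, conjBy_mul]; simp [conjBy_one]
    have h2 : a₂⁻¹ * (a' * a₁) ∈ A ⊓ Subgroup.normalizer (B : Set G) :=
      ⟨A.mul_mem (A.inv_mem ha₂) (A.mul_mem ha' ha₁), conjBy_eq_self_iff.1 h1⟩
    rw [inf_normalizer_eq_bot h, Subgroup.mem_bot] at h2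
    calc a' = a₂ * (a₂⁻¹ * (a' * a₁)) * a₁⁻¹ := by group
      _ = a₂ * a₁⁻¹ := by rw [h2, mul_one]

section RankOneGroup

variable {X : Type*} [Group X] {A B : Subgroup X}

/-- a normal subgroup of a rank one group `X` either satisfies `X = N A` or is central -/
theorem normal_dichotomy (h : IsRankOneGroup X A B) (N : Subgroup X) (hN : N.Normal) :
    N ⊔ A = ⊤ ∨ N ≤ Subgroup.center X := by
  by_cases hcase : ∀ n ∈ N, conjBy A n = A
  · right
    -- N normalizes B as well
    have hNB : ∀ n ∈ N, conjBy B n = B := by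
      intro n hn
      obtain ⟨x, _, hx⟩ := exists_conjBy_eq_right h.2
      have h1 : x⁻¹ * n * x ∈ N := by
        have := hN.conj_mem n hn x⁻¹
        simpa using this
      rw [hx, conjBy_mul]
      have e : n * x = x * (x⁻¹ * n * x) := by group
      rw [e, ← conjBy_mul, hcase _ h1]
    -- N centralizes A and B
    have hcomm : ∀ (C D : Subgroup X), IsRankOnePair C D → (∀ n ∈ N, conjBy C n = C) →
        (∀ n ∈ N, conjBy D n = D) → ∀ n ∈ N, ∀ c ∈ C, n * c = c * n := by
      intro C D hCD hC hD n hn c hc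
      have h1 : n * c * n⁻¹ * c⁻¹ ∈ C := by
        have : n * c * n⁻¹ ∈ conjBy C n := ⟨c, hc, rfl⟩
        rw [hC n hn] at this
        exact C.mul_mem this (C.inv_mem hc)
      have h2 : n * c * n⁻¹ * c⁻¹ ∈ N := by
        have : n * (c * n⁻¹ * c⁻¹) ∈ N := N.mul_mem hn (hN.conj_mem _ (N.inv_mem hn) c)
        have e : n * c * n⁻¹ * c⁻¹ = n * (c * n⁻¹ * c⁻¹) := by group
        rw [e]; exact this
      have h3 : n * c * n⁻¹ * c⁻¹ ∈ C ⊓ Subgroup.normalizer (D : Set X) :=
        ⟨h1, conjBy_eq_self_iff.1 (hD _ h2)⟩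
      rw [inf_normalizer_eq_bot hCD, Subgroup.mem_bot] at h3
      calc n * c = (n * c * n⁻¹ * c⁻¹) * (c * n) := by group
        _ = c * n := by rw [h3, one_mul]
    intro n hn
    rw [Subgroup.mem_center_iff]
    have hall : ∀ x ∈ A ⊔ B, x * n = n * x := by
      apply sup_induction A B
      · intro a ha; exact (hcomm A B h.2 hcase hNB n hn a ha).symm
      · intro b hb; exact (hcomm B A (RankOnePair_symm h.2) hNB hcase n hn b hb).symm
      · simp
      · intro x y hx hy
        rw [mul_assoc, hy, ← mul_assoc, hx, mul_assoc]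
    intro g
    exact hall g (by rw [h.1]; trivial)
  · left
    push Not at hcase
    obtain ⟨n, hn, hne⟩ := hcase
    have hC : conjBy A n ∈ unipotentSubgroups A B :=
      ⟨n, by rw [h.1]; trivial, rfl⟩
    obtain ⟨a, ⟨ha, hab⟩, _⟩ := existsUnique_conjBy_eq h.2 hC (right_mem_unipotentSubgroups h.2)
      hne h.2.ne.symm
    rw [conjBy_mul] at hab
    have hBle : B ≤ N ⊔ A := by
      rw [← hab]
      rintro _ ⟨c, hc, rfl⟩
      have han : a * n ∈ N ⊔ A := Subgroup.mul_mem _ (Subgroup.mem_sup_right ha) (Subgroup.mem_sup_left hn)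
      exact Subgroup.mul_mem _ (Subgroup.mul_mem _ han (Subgroup.mem_sup_right hc))
        (Subgroup.inv_mem _ han)
    rw [eq_top_iff, ← h.1]
    exact sup_le le_sup_right hBle

theorem center_ne_top (h : IsRankOneGroup X A B) : Subgroup.center X ≠ ⊤ := by
  intro htop
  obtain ⟨a, ha, hne⟩ := exists_nonidentity_left h.2
  have h2 : a ∈ A ⊓ Subgroup.normalizer (B : Set X) := by
    refine Subgroup.mem_inf.2 ⟨ha, ?_⟩
    rw [Subgroup.mem_normalizer_iff]
    intro b
    have hc : a ∈ Subgroup.center X := by rw [htop]; trivial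
    have := Subgroup.mem_center_iff.1 hc b
    have e : a * b * a⁻¹ = b := by rw [← this]; group
    rw [e]
  rw [inf_normalizer_eq_bot h.2, Subgroup.mem_bot] at h2
  exact hne h2


/-- a rank one group is not nilpotent -/
theorem not_isNilpotent (h : IsRankOneGroup X A B) : ¬ Group.IsNilpotent X := by
  intro hnil
  obtain ⟨b, hb, hb1⟩ := exists_nonidentity_right h.2
  have hbM : b ∉ Subgroup.normalizer (A : Set X) := by
    intro hbn
    have : b ∈ B ⊓ Subgroup.normalizer (A : Set X) := ⟨hb, hbn⟩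
    rw [inf_normalizer_eq_bot' h.2, Subgroup.mem_bot] at this
    exact hb1 this
  have hlt : Subgroup.normalizer (A : Set X) < ⊤ := by
    rw [lt_top_iff_ne_top]
    intro htop
    exact hbM (by rw [htop]; trivial)
  have hnc := Group.normalizerCondition_of_isNilpotent (G := X) _ hlt
  obtain ⟨g, hgN, hgM⟩ := SetLike.exists_of_lt hnc
  -- the conjugate of A by g lies in N(A) and differs from A
  have hCne : conjBy A g ≠ A := fun he => hgM (conjBy_eq_self_iff.1 he)
  have hCle : conjBy A g ≤ Subgroup.normalizer (A : Set X) := by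
    rintro _ ⟨a, ha, rfl⟩
    exact (Subgroup.mem_normalizer_iff.1 hgN a).1 (Subgroup.le_normalizer ha)
  have hC : conjBy A g ∈ unipotentSubgroups A B := ⟨g, by rw [h.1]; trivial, rfl⟩
  rcases unipotentSubgroups_eq h.2 hC with he | ⟨a, ha, he⟩
  · exact hCne he
  · have hBle : B ≤ Subgroup.normalizer (A : Set X) := by
      intro y hy
      have h1 : a * y * a⁻¹ ∈ conjBy B a := ⟨y, hy, rfl⟩
      rw [← he] at h1
      have h2 := hCle h1
      have haN : a ∈ Subgroup.normalizer (A : Set X) := Subgroup.le_normalizer ha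
      have e : y = a⁻¹ * (a * y * a⁻¹) * a := by group
      rw [e]
      exact Subgroup.mul_mem _ (Subgroup.mul_mem _ (Subgroup.inv_mem _ haN) h2) haN
    have : b ∈ B ⊓ Subgroup.normalizer (A : Set X) := ⟨hb, hBle hb⟩
    rw [inf_normalizer_eq_bot' h.2, Subgroup.mem_bot] at this
    exact hb1 this

/-- the second centre of a rank one group is its centre -/
theorem upperCentralSeries_two (h : IsRankOneGroup X A B) :
    Subgroup.upperCentralSeries X 2 = Subgroup.center X := by
  have hmono : Subgroup.center X ≤ Subgroup.upperCentralSeries X 2 := by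
    rw [← Subgroup.upperCentralSeries_one]
    exact Subgroup.upperCentralSeries_mono X (by norm_num)
  rcases normal_dichotomy h (Subgroup.upperCentralSeries X 2) inferInstance with h1 | h1
  · exfalso
    apply not_isNilpotent h
    -- the map to `(X/Z)/Z(X/Z)`
    have hker : ((QuotientGroup.mk' (Subgroup.center (X ⧸ Subgroup.center X))).comp
        (QuotientGroup.mk' (Subgroup.center X))).ker = Subgroup.upperCentralSeries X 2 := by
      have h2 := Subgroup.comap_upperCentralSeries_quotient_center (G := X) 1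
      rw [Subgroup.upperCentralSeries_one] at h2
      rw [← MonoidHom.comap_ker, QuotientGroup.ker_mk']
      exact h2
    have hA := h.2.nilpotent_left
    have hnil2 : Group.IsNilpotent ((X ⧸ Subgroup.center X) ⧸
        Subgroup.center (X ⧸ Subgroup.center X)) := by
      apply Group.nilpotent_of_surjective
        (((QuotientGroup.mk' (Subgroup.center (X ⧸ Subgroup.center X))).comp
        (QuotientGroup.mk' (Subgroup.center X))).comp A.subtype)
      intro q
      obtain ⟨y, rfl⟩ := QuotientGroup.mk'_surjective _ q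
      obtain ⟨x, rfl⟩ := QuotientGroup.mk'_surjective _ y
      have hx : x ∈ ((Subgroup.upperCentralSeries X 2 ⊔ A : Subgroup X) : Set X) := by
        rw [h1]; trivial
      rw [Subgroup.normal_mul] at hx
      obtain ⟨m, hm, a, ha, rfl⟩ := hx
      refine ⟨⟨a, ha⟩, ?_⟩
      have hm1 : ((QuotientGroup.mk' (Subgroup.center (X ⧸ Subgroup.center X))).comp
        (QuotientGroup.mk' (Subgroup.center X))) m = 1 := by
        rw [← MonoidHom.mem_ker, hker]; exact hm
      show ((QuotientGroup.mk' (Subgroup.center (X ⧸ Subgroup.center X))).comp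
        (QuotientGroup.mk' (Subgroup.center X))) a =
        ((QuotientGroup.mk' (Subgroup.center (X ⧸ Subgroup.center X))).comp
        (QuotientGroup.mk' (Subgroup.center X))) (m * a)
      rw [map_mul, hm1, one_mul]
    have hnil1 : Group.IsNilpotent (X ⧸ Subgroup.center X) :=
      Subgroup.isNilpotent_of_ker_le_center
        (QuotientGroup.mk' (Subgroup.center (X ⧸ Subgroup.center X)))
        (by rw [QuotientGroup.ker_mk'])
    exact Subgroup.isNilpotent_of_ker_le_center (QuotientGroup.mk' (Subgroup.center X))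
      (by rw [QuotientGroup.ker_mk'])
  · exact le_antisymm h1 hmono

end RankOneGroup

end Cfsg.Agent.H2.RankOne
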