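import Mathlib
import Cfsg.Prelude.Def_RootSubgroups

set_option autoImplicit false
open Cfsg

namespace Cfsg.Agent.H2.ROQ

variable {X : Type*} [Group X] {V : Type*} [AddCommGroup V] [DistribMulAction X V]

/-- quadratic action of a subgroup -/
def Quad (A : Subgroup X) (V : Type*) [AddCommGroup V] [DistribMulAction X V] : Prop :=
  ∀ a ∈ A, ∀ a' ∈ A, ∀ v : V, a' • (a • v - v) = a • v - v

lemma mem_conjBy {A : Subgroup X} {g x : X} : x ∈ conjBy A g ↔ ∃ a ∈ A, x = g * a * g⁻¹ := by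
  unfold conjBy
  rw [Subgroup.mem_map]
  constructor
  · rintro ⟨a, ha, rfl⟩
    exact ⟨a, ha, by simp [MulAut.conj_apply]⟩
  · rintro ⟨a, ha, rfl⟩
    exact ⟨a, ha, by simp [MulAut.conj_apply]⟩

/-- from the rank one relation, `B` is the conjugate of `A` under `a * b⁻¹`. -/
lemma rel_conj {A B : Subgroup X} {a b : X} (hrel : conjBy A b⁻¹ = conjBy B a⁻¹) :
    (∀ β ∈ B, ∃ α ∈ A, β = (a * b⁻¹) * α * (a * b⁻¹)⁻¹) ∧
    (∀ α ∈ A, (a * b⁻¹) * α * (a * b⁻¹)⁻¹ ∈ B) := by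
  constructor
  · intro β hβ
    have h1 : a⁻¹ * β * a⁻¹⁻¹ ∈ conjBy B a⁻¹ := mem_conjBy.2 ⟨β, hβ, rfl⟩
    rw [← hrel] at h1
    obtain ⟨α, hα, e⟩ := mem_conjBy.1 h1
    refine ⟨α, hα, ?_⟩
    have : β = a * (a⁻¹ * β * a⁻¹⁻¹) * a⁻¹ := by group
    rw [this, e]; group
  · intro α hα
    have h1 : b⁻¹ * α * b⁻¹⁻¹ ∈ conjBy A b⁻¹ := mem_conjBy.2 ⟨α, hα, rfl⟩
    rw [hrel] at h1
    obtain ⟨β, hβ, e⟩ := mem_conjBy.1 h1
    have : (a * b⁻¹) * α * (a * b⁻¹)⁻¹ = a * (b⁻¹ * α * b⁻¹⁻¹) * a⁻¹ := by group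
    rw [this, e]
    have : a * (a⁻¹ * β * a⁻¹⁻¹) * a⁻¹ = β := by group
    rw [this]; exact hβ

lemma quad_of_conj {A B : Subgroup X} (g : X) (hBA : ∀ β ∈ B, ∃ α ∈ A, β = g * α * g⁻¹)
    (hA : Quad A V) : Quad B V := by
  intro b hb b' hb' v
  obtain ⟨α, hα, rfl⟩ := hBA b hb
  obtain ⟨α', hα', rfl⟩ := hBA b' hb'
  have e1 : (g * α * g⁻¹) • v - v = g • (α • (g⁻¹ • v) - g⁻¹ • v) := by
    simp [mul_smul, smul_sub]
  rw [e1]
  have e2 : (g * α' * g⁻¹) • g • (α • g⁻¹ • v - g⁻¹ • v) = g • (α' • (α • g⁻¹ • v - g⁻¹ • v)) := by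
    simp [mul_smul]
  rw [e2, hA α hα α' hα']

lemma inv_act {A : Subgroup X} (hA : Quad A V) {a : X} (ha : a ∈ A) (v : V) :
    a⁻¹ • v - v = -(a • v - v) := by
  have h := hA a⁻¹ (A.inv_mem ha) a ha v
  rw [smul_sub, smul_inv_smul] at h
  rw [neg_sub]; exact h.symm

lemma pow_act {A : Subgroup X} (hA : Quad A V) {a : X} (ha : a ∈ A) (n : ℕ) (v : V) :
    a ^ n • v = v + n • (a • v - v) := by
  induction n with
  | zero => simp
  | succ n ih =>
    rw [pow_succ', mul_smul, ih, smul_add, smul_comm a n, hA a ha a ha v, succ_nsmul]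
    abel

/-- key identity -/
lemma key {A B : Subgroup X} (hA : Quad A V) (hB : Quad B V) {a b : X} (ha : a ∈ A) (hb : b ∈ B)
    (hrel : conjBy A b⁻¹ = conjBy B a⁻¹) {v : V} (hv : ∀ β ∈ B, β • v = v) :
    (∀ α ∈ A, α • (v + (b • (a⁻¹ • v - v) - (a⁻¹ • v - v))) = v + (b • (a⁻¹ • v - v) - (a⁻¹ • v - v))) ∧
    (∀ β ∈ B, β • (v + (b • (a⁻¹ • v - v) - (a⁻¹ • v - v))) = v + (b • (a⁻¹ • v - v) - (a⁻¹ • v - v))) := by
  set w := a⁻¹ • v - v with hw
  have h1 : ∀ α ∈ A, α • (b • (a⁻¹ • v)) = b • (a⁻¹ • v) := by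
    intro α hα
    have h2 : b⁻¹ * α * b⁻¹⁻¹ ∈ conjBy A b⁻¹ := mem_conjBy.2 ⟨α, hα, rfl⟩
    rw [hrel] at h2
    obtain ⟨β, hβ, e⟩ := mem_conjBy.1 h2
    have ea : α = b * (a⁻¹ * β * a) * b⁻¹ := by
      have : α = b * (b⁻¹ * α * b⁻¹⁻¹) * b⁻¹ := by group
      rw [this, e]; group
    rw [ea]
    simp [mul_smul, hv β hβ]
  have e2 : v + (b • w - w) = b • (a⁻¹ • v) - w := by
    have : a⁻¹ • v = v + w := by rw [hw]; abel
    rw [this, smul_add, hv b hb]; abel
  constructor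
  · intro α hα
    rw [e2, smul_sub, h1 α hα, hw, hA a⁻¹ (A.inv_mem ha) α hα v]
  · intro β hβ
    rw [smul_add, hv β hβ, hB b hb β hβ w]

lemma fix_top {A B : Subgroup X} (hAB : A ⊔ B = ⊤) {v : V} (h1 : ∀ α ∈ A, α • v = v)
    (h2 : ∀ β ∈ B, β • v = v) (x : X) : x • v = v := by
  have : A ⊔ B ≤ MulAction.stabilizer X v :=
    sup_le (fun a ha => MulAction.mem_stabilizer_iff.2 (h1 a ha))
      (fun b hb => MulAction.mem_stabilizer_iff.2 (h2 b hb))
  rw [hAB] at this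
  exact MulAction.mem_stabilizer_iff.1 (this (Subgroup.mem_top x))

/-- if every vector fixed by `B` is fixed by everything, the whole group acts quadratically -/
lemma quad_all {A B : Subgroup X} (hAB : A ⊔ B = ⊤) (hA : Quad A V) (hB : Quad B V) (g : X)
    (hBA : ∀ β ∈ B, ∃ α ∈ A, β = g * α * g⁻¹)
    (hfix : ∀ v : V, (∀ β ∈ B, β • v = v) → ∀ x : X, x • v = v) :
    ∀ (x y : X) (u : V), y • (x • u - u) = x • u - u := by
  have hfixA : ∀ u : V, (∀ α ∈ A, α • u = u) → ∀ x : X, x • u = u := by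
    intro u hu
    have h1 : ∀ β ∈ B, β • (g • u) = g • u := by
      intro β hβ
      obtain ⟨α, hα, rfl⟩ := hBA β hβ
      simp [mul_smul, hu α hα]
    have h2 := hfix (g • u) h1
    intro x
    have h3 := h2 (g * x * g⁻¹)
    have h4 : (g * x * g⁻¹) • g • u = g • (x • u) := by simp [mul_smul]
    rw [h4] at h3
    exact smul_left_cancel g h3
  let T : Subgroup X :=
    { carrier := {x | ∀ (u : V) (y : X), y • (x • u - u) = x • u - u}
      one_mem' := by intro u y; simp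
      mul_mem' := by
        intro x x' hx hx' u y
        have e : (x * x') • u - u = (x' • u - u) + (x • u - u) := by
          have := hx' u x
          rw [smul_sub] at this
          rw [mul_smul]
          have h5 : x • x' • u = x' • u - u + x • u := by
            rw [sub_eq_iff_eq_add] at this
            rw [this]
          rw [h5]; abel
        rw [e, smul_add, hx' u y, hx u y]
      inv_mem' := by
        intro x hx u y
        have := hx (x⁻¹ • u) y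
        rw [smul_inv_smul] at this
        have e : x⁻¹ • u - u = -(u - x⁻¹ • u) := by abel
        rw [e, smul_neg, this] }
  have hT : A ⊔ B ≤ T := by
    apply sup_le
    · intro a ha u y
      exact hfixA _ (fun α hα => hA a ha α hα u) y
    · intro b hb u y
      exact hfix _ (fun β hβ => hB b hb β hβ u) y
  rw [hAB] at hT
  intro x y u
  exact hT (Subgroup.mem_top x) u y

end Cfsg.Agent.H2.ROQ
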