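import Mathlib

/-!
# Monomial matrices with cyclic shifts
-/

set_option autoImplicit false
set_option linter.unusedSectionVars false
set_option linter.unusedVariables false

namespace Cfsg.Agent.H2.RedSyl

open Matrix

variable {F : Type*} [Field F] {p : ℕ} [NeZero p]

/-- the monomial matrix `e_j ↦ a_(j+k) e_(j+k)` -/
def Mm (a : Fin p → F) (k : Fin p) : Matrix (Fin p) (Fin p) F :=
  fun i j => if i = j + k then a i else 0

theorem Mm_apply (a : Fin p → F) (k : Fin p) (i j : Fin p) :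
    Mm a k i j = if i = j + k then a i else 0 := rfl

theorem Mm_mul (a b : Fin p → F) (k l : Fin p) :
    Mm a k * Mm b l = Mm (fun i => a i * b (i - k)) (l + k) := by
  ext i j
  rw [Matrix.mul_apply, Finset.sum_eq_single (i - k)]
  · rw [Mm_apply, Mm_apply, Mm_apply, if_pos (sub_add_cancel i k).symm]
    by_cases h : i = j + (l + k)
    · rw [if_pos h, if_pos]
      rw [h]; abel
    · rw [if_neg h, if_neg, mul_zero]
      intro h'
      apply h
      rw [← sub_add_cancel i k, h']; abel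
  · intro s _ hs
    rw [Mm_apply, if_neg, zero_mul]
    intro h
    apply hs
    rw [h, add_sub_cancel_right]
  · intro h
    exact absurd (Finset.mem_univ _) h

theorem Mm_one : Mm (fun _ => (1 : F)) (0 : Fin p) = 1 := by
  ext i j
  rw [Mm_apply, add_zero, Matrix.one_apply]

theorem Mm_zero_eq_diagonal (a : Fin p → F) : Mm a (0 : Fin p) = Matrix.diagonal a := by
  ext i j
  rw [Mm_apply, add_zero, Matrix.diagonal_apply]

/-- the monomial matrix as an element of `GL` -/
def mono (d : Fin p → Fˣ) (k : Fin p) : GL (Fin p) F where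
  val := Mm (fun i => (d i : F)) k
  inv := Mm (fun i => ((d (i + k))⁻¹ : Fˣ)) (-k)
  val_inv := by
    rw [Mm_mul]
    rw [← Mm_one]
    congr 1
    · funext i
      rw [sub_add_cancel, ← Units.val_mul, mul_inv_cancel, Units.val_one]
    · rw [neg_add_cancel]
  inv_val := by
    rw [Mm_mul]
    rw [← Mm_one]
    congr 1
    · funext i
      rw [sub_neg_eq_add, ← Units.val_mul, inv_mul_cancel, Units.val_one]
    · rw [add_neg_cancel]

theorem coe_mono (d : Fin p → Fˣ) (k : Fin p) :
    ((mono d k : GL (Fin p) F) : Matrix (Fin p) (Fin p) F) = Mm (fun i => (d i : F)) k := rfl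

theorem mono_mul (d e : Fin p → Fˣ) (k l : Fin p) :
    mono d k * mono e l = mono (fun i => d i * e (i - k)) (l + k) := by
  apply Units.ext
  rw [Units.val_mul, coe_mono, coe_mono, coe_mono, Mm_mul]
  congr 1

theorem mono_one : mono (fun _ => (1 : Fˣ)) (0 : Fin p) = (1 : GL (Fin p) F) := by
  apply Units.ext
  rw [coe_mono, Units.val_one]
  exact Mm_one

theorem mono_inv (d : Fin p → Fˣ) (k : Fin p) :
    (mono d k)⁻¹ = mono (fun i => (d (i + k))⁻¹) (-k) := by
  rw [inv_eq_iff_mul_eq_one, mono_mul, ← mono_one]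
  congr 1
  · funext i
    rw [sub_add_cancel, mul_inv_cancel]
  · rw [neg_add_cancel]

theorem mono_inj {d e : Fin p → Fˣ} {k l : Fin p} (h : mono d k = mono e l) : k = l ∧ d = e := by
  have h1 : ∀ i j, Mm (fun i => (d i : F)) k i j = Mm (fun i => (e i : F)) l i j := by
    intro i j
    have := congrArg (fun g : GL (Fin p) F => (g : Matrix (Fin p) (Fin p) F) i j) h
    exact this
  have hkl : k = l := by
    have h2 := h1 (0 + k) 0
    rw [Mm_apply, Mm_apply, if_pos rfl] at h2
    by_contra hne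
    rw [if_neg] at h2
    · exact (d (0 + k)).ne_zero h2
    · intro h3
      exact hne (add_left_cancel h3)
  refine ⟨hkl, ?_⟩
  funext i
  have h2 := h1 i (i - k)
  rw [Mm_apply, Mm_apply, if_pos (sub_add_cancel i k).symm, ← hkl,
    if_pos (sub_add_cancel i k).symm] at h2
  exact Units.ext h2

/-- the scalar matrix -/
theorem mono_const (c : Fˣ) :
    mono (fun _ => c) (0 : Fin p) = Matrix.GeneralLinearGroup.scalar (Fin p) c := by
  apply Units.ext
  rw [coe_mono, Mm_zero_eq_diagonal, Matrix.GeneralLinearGroup.coe_scalar, Matrix.scalar_apply]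

section Q0

variable (F p)

/-- the group `μ_p ≀ C_p` of monomial matrices -/
def Q0 : Subgroup (GL (Fin p) F) where
  carrier := {g | ∃ (d : Fin p → Fˣ) (k : Fin p), (∀ i, d i ^ p = 1) ∧ g = mono d k}
  mul_mem' := by
    rintro _ _ ⟨d, k, hd, rfl⟩ ⟨e, l, he, rfl⟩
    refine ⟨fun i => d i * e (i - k), l + k, fun i => ?_, mono_mul d e k l⟩
    rw [mul_pow, hd, he, one_mul]
  one_mem' := ⟨fun _ => 1, 0, fun _ => one_pow _, mono_one.symm⟩
  inv_mem' := by
    rintro _ ⟨d, k, hd, rfl⟩
    refine ⟨fun i => (d (i + k))⁻¹, -k, fun i => ?_, mono_inv d k⟩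
    rw [inv_pow, hd, inv_one]

variable {F p}

theorem mem_Q0 (g : GL (Fin p) F) :
    g ∈ Q0 F p ↔ ∃ (d : Fin p → Fˣ) (k : Fin p), (∀ i, d i ^ p = 1) ∧ g = mono d k := Iff.rfl

theorem mono_mem_Q0 {d : Fin p → Fˣ} {k : Fin p} (hd : ∀ i, d i ^ p = 1) : mono d k ∈ Q0 F p :=
  ⟨d, k, hd, rfl⟩

theorem pow_eq_one_of_mono_mem {d : Fin p → Fˣ} {k : Fin p} (h : mono d k ∈ Q0 F p) (i : Fin p) :
    d i ^ p = 1 := by
  obtain ⟨e, l, he, hel⟩ := h
  obtain ⟨-, rfl⟩ := mono_inj hel
  exact he i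

theorem card_Q0 [Finite F] :
    Nat.card ↥(Q0 F p) = Nat.card ↥(rootsOfUnity p F) ^ p * p := by
  let f : (Fin p → ↥(rootsOfUnity p F)) × Fin p → ↥(Q0 F p) :=
    fun x => ⟨mono (fun i => ((x.1 i : Fˣ))) x.2, mono_mem_Q0 (fun i => (mem_rootsOfUnity p _).mp (x.1 i).2)⟩
  have hf : Function.Bijective f := by
    constructor
    · rintro ⟨d, k⟩ ⟨e, l⟩ h
      have h1 := congrArg Subtype.val h
      obtain ⟨hkl, hde⟩ := mono_inj h1
      apply Prod.ext
      · funext i
        exact Subtype.ext (congrFun hde i)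
      · exact hkl
    · rintro ⟨g, d, k, hd, rfl⟩
      refine ⟨⟨fun i => ⟨d i, (mem_rootsOfUnity p _).mpr (hd i)⟩, k⟩, rfl⟩
  rw [← Nat.card_congr (Equiv.ofBijective f hf), Nat.card_prod, Nat.card_fun, Nat.card_fin]

end Q0

end Cfsg.Agent.H2.RedSyl
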