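import Mathlib
import Cfsg.Agent.H2.RedundantSylowMono
import Cfsg.Agent.H2.ConjMap

/-!
# Elements lying in two Sylow subgroups; the diagonal cases
-/

set_option autoImplicit false
set_option linter.unusedSectionVars false
set_option linter.unusedVariables false

namespace Cfsg.Agent.H2.RedSyl

open Matrix
open scoped Pointwise

section general

variable {G : Type*} [Group G] {p : ℕ} [Fact p.Prime]

/-- `x` lies in two distinct Sylow `p`-subgroups -/
def Two (p : ℕ) [Fact p.Prime] (x : G) : Prop :=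
  ∃ P₁ P₂ : Sylow p G, P₁ ≠ P₂ ∧ x ∈ P₁ ∧ x ∈ P₂

theorem mem_smul_sylow (h x : G) (P : Sylow p G) : x ∈ h • P ↔ h⁻¹ * x * h ∈ P :=
  Cfsg.Agent.H2.mem_sylow_smul_iff P h x

theorem two_conj {x : G} (h : G) (hx : Two p x) : Two p (h * x * h⁻¹) := by
  obtain ⟨P₁, P₂, hne, h1, h2⟩ := hx
  refine ⟨h • P₁, h • P₂, fun heq => hne (smul_left_cancel h heq), ?_, ?_⟩
  · rw [mem_smul_sylow]
    have : h⁻¹ * (h * x * h⁻¹) * h = x := by group
    rw [this]; exact h1
  · rw [mem_smul_sylow]
    have : h⁻¹ * (h * x * h⁻¹) * h = x := by group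
    rw [this]; exact h2

theorem two_of_ne (Q : Sylow p G) (h x w : G) (hx : x ∈ Q) (hx' : h⁻¹ * x * h ∈ Q) (hw : w ∈ Q)
    (hw' : h * w * h⁻¹ ∉ Q) : Two p x := by
  refine ⟨Q, h • Q, ?_, hx, (mem_smul_sylow h x Q).mpr hx'⟩
  intro heq
  apply hw'
  rw [heq, mem_smul_sylow]
  have : h⁻¹ * (h * w * h⁻¹) * h = w := by group
  rw [this]; exact hw

theorem two_of_mem_zpowers {x y : G} (hxy : x ∈ Subgroup.zpowers y) (hy : Two p y) : Two p x := by
  obtain ⟨P₁, P₂, hne, h1, h2⟩ := hy
  refine ⟨P₁, P₂, hne, ?_, ?_⟩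
  · exact (Subgroup.zpowers_le.mpr h1) hxy
  · exact (Subgroup.zpowers_le.mpr h2) hxy

end general

section diag

variable {F : Type*} [Field F] {p : ℕ} [NeZero p]

/-- the transvection `1 + E_ij` in `GL` -/
def tv (i j : Fin p) (hij : i ≠ j) : GL (Fin p) F where
  val := Matrix.transvection i j 1
  inv := Matrix.transvection i j (-1)
  val_inv := by
    rw [Matrix.transvection_mul_transvection_same i j hij, add_neg_cancel,
      Matrix.transvection_zero]
  inv_val := by
    rw [Matrix.transvection_mul_transvection_same i j hij, neg_add_cancel,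
      Matrix.transvection_zero]

theorem coe_tv (i j : Fin p) (hij : i ≠ j) :
    ((tv i j hij : GL (Fin p) F) : Matrix (Fin p) (Fin p) F) = Matrix.transvection i j 1 := rfl

theorem transvection_apply' (i j r s : Fin p) :
    (Matrix.transvection i j (1 : F)) r s =
      (if r = s then 1 else 0) + (if i = r ∧ j = s then 1 else 0) := by
  rw [Matrix.transvection, Matrix.add_apply, Matrix.one_apply, Matrix.single_apply]

theorem tv_commute (i j : Fin p) (hij : i ≠ j) (d : Fin p → Fˣ) (hd : d i = d j) :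
    tv i j hij * mono d 0 = mono d 0 * tv i j hij := by
  apply Units.ext
  rw [Units.val_mul, Units.val_mul, coe_mono, Mm_zero_eq_diagonal, coe_tv]
  ext r s
  rw [Matrix.mul_diagonal, Matrix.diagonal_mul, transvection_apply']
  by_cases hrs : r = s
  · subst hrs; ring
  · rw [if_neg hrs, zero_add]
    by_cases h2 : i = r ∧ j = s
    · obtain ⟨rfl, rfl⟩ := h2
      rw [if_pos ⟨rfl, rfl⟩, hd]; ring
    · rw [if_neg h2]; ring

theorem mul_transvection_apply (M : Matrix (Fin p) (Fin p) F) (i j r s : Fin p) :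
    (M * Matrix.transvection i j (1 : F)) r s = M r s + (if s = j then M r i else 0) := by
  rw [Matrix.transvection, mul_add, mul_one, Matrix.add_apply]
  congr 1
  by_cases hs : s = j
  · subst hs
    rw [if_pos rfl, Matrix.mul_single_apply_same, mul_one]
  · rw [if_neg hs, Matrix.mul_single_apply_of_ne 1 i j r s hs M]

theorem tv_conj_not_mem (ζ : Fˣ) (hζ1 : ζ ≠ 1) (i j : Fin p) (hij : i ≠ j) :
    tv i j hij * mono (Function.update (fun _ => (1 : Fˣ)) i ζ) 0 * (tv i j hij)⁻¹ ∉ Q0 F p := by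
  rintro ⟨e, l, he, hel⟩
  have h1 : tv i j hij * mono (Function.update (fun _ => (1 : Fˣ)) i ζ) 0 =
      mono e l * tv i j hij := by
    rw [← hel]; group
  have h2 := congrArg (fun g : GL (Fin p) F => (g : Matrix (Fin p) (Fin p) F)) h1
  simp only [Units.val_mul, coe_mono, coe_tv, Mm_zero_eq_diagonal] at h2
  have e1 := congrFun (congrFun h2 i) i
  have e2 := congrFun (congrFun h2 i) j
  rw [Matrix.mul_diagonal, mul_transvection_apply, transvection_apply', Mm_apply] at e1 e2
  rw [if_pos rfl, if_neg (fun h => hij h.2.symm), add_zero, one_mul, if_neg hij,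
    Function.update_self, add_zero] at e1
  rw [if_neg hij, if_pos ⟨rfl, rfl⟩, zero_add, one_mul, if_pos rfl,
    Function.update_of_ne hij.symm, Mm_apply] at e2
  by_cases hl : l = 0
  · subst hl
    rw [add_zero, if_pos rfl] at e1
    rw [add_zero, if_neg hij, zero_add, add_zero, if_pos rfl, ← e1] at e2
    exact hζ1 (Units.ext e2.symm)
  · rw [if_neg] at e1
    · exact ζ.ne_zero e1
    · intro h
      apply hl
      have : i + 0 = i + l := by rw [add_zero]; exact h
      exact (add_left_cancel this).symm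

end diag

section vand

variable {F : Type*} [Field F] {p : ℕ} [NeZero p]

/-- the cyclic shift -/
def sig : GL (Fin p) F := mono (fun _ => 1) 1

theorem sig_mem_Q0 : (sig : GL (Fin p) F) ∈ Q0 F p := mono_mem_Q0 (fun _ => one_pow _)

theorem pow_mod_eq (a : F) (h : a ^ p = 1) (m : ℕ) : a ^ (m % p) = a ^ m := by
  conv_rhs => rw [← Nat.div_add_mod m p, pow_add, pow_mul, h, one_pow, one_mul]

theorem Mm_mul_apply (a : Fin p → F) (k : Fin p) (A : Matrix (Fin p) (Fin p) F) (i j : Fin p) :
    (Mm a k * A) i j = a i * A (i - k) j := by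
  rw [Matrix.mul_apply, Finset.sum_eq_single (i - k)]
  · rw [Mm_apply, if_pos (sub_add_cancel i k).symm]
  · intro s _ hs
    rw [Mm_apply, if_neg, zero_mul]
    intro h
    apply hs
    rw [h, add_sub_cancel_right]
  · intro h
    exact absurd (Finset.mem_univ _) h

theorem mul_Mm_apply (a : Fin p → F) (k : Fin p) (A : Matrix (Fin p) (Fin p) F) (i j : Fin p) :
    (A * Mm a k) i j = A i (j + k) * a (j + k) := by
  rw [Matrix.mul_apply, Finset.sum_eq_single (j + k)]
  · rw [Mm_apply, if_pos rfl]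
  · intro s _ hs
    rw [Mm_apply, if_neg hs, mul_zero]
  · intro h
    exact absurd (Finset.mem_univ _) h

theorem vandermonde_mul_sig (v : Fin p → F) (hv : ∀ i, v i ^ p = 1) (hp : 2 ≤ p) :
    Matrix.vandermonde v * Mm (fun _ => (1 : F)) 1 = Matrix.diagonal v * Matrix.vandermonde v := by
  ext i j
  rw [mul_Mm_apply, mul_one, Matrix.diagonal_mul, Matrix.vandermonde_apply,
    Matrix.vandermonde_apply, ← pow_succ', Fin.val_add, Fin.val_one',
    Nat.mod_eq_of_lt (show 1 < p by omega), pow_mod_eq _ (hv i)]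

/-- the Vandermonde matrix in `GL` -/
noncomputable def vgl (v : Fin p → F) (hinj : Function.Injective v) : GL (Fin p) F :=
  Matrix.GeneralLinearGroup.mkOfDetNeZero (Matrix.vandermonde v)
    (Matrix.det_vandermonde_ne_zero_iff.mpr hinj)

theorem coe_vgl (v : Fin p → F) (hinj : Function.Injective v) :
    ((vgl v hinj : GL (Fin p) F) : Matrix (Fin p) (Fin p) F) = Matrix.vandermonde v := rfl

theorem vgl_mul_sig (d : Fin p → Fˣ) (hd : ∀ i, d i ^ p = 1)
    (hinj : Function.Injective (fun i => (d i : F))) (hp : 2 ≤ p) :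
    vgl _ hinj * sig = mono d 0 * vgl _ hinj := by
  apply Units.ext
  rw [Units.val_mul, Units.val_mul, coe_vgl, coe_mono, Mm_zero_eq_diagonal]
  show Matrix.vandermonde _ * Mm (fun _ => ((1 : Fˣ) : F)) 1 = _
  simp only [Units.val_one]
  apply vandermonde_mul_sig _ _ hp
  intro i
  rw [← Units.val_pow_eq_pow_val, hd, Units.val_one]

theorem vgl_conj_not_mem (ζ : Fˣ) (hζ1 : ζ ≠ 1) (hp3 : 3 ≤ p) (d : Fin p → Fˣ)
    (hinj : Function.Injective (fun i => (d i : F))) :
    vgl _ hinj * mono (Function.update (fun _ => (1 : Fˣ)) 0 ζ) 0 * (vgl _ hinj)⁻¹ ∉ Q0 F p := by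
  rintro ⟨e, l, he, hel⟩
  have h1 : vgl _ hinj * mono (Function.update (fun _ => (1 : Fˣ)) 0 ζ) 0 =
      mono e l * vgl _ hinj := by
    rw [← hel]; group
  have h2 := congrArg (fun g : GL (Fin p) F => (g : Matrix (Fin p) (Fin p) F)) h1
  simp only [Units.val_mul, coe_mono, coe_vgl, Mm_zero_eq_diagonal] at h2
  have key : ∀ j : Fin p, (d 0 : F) ^ (j : ℕ) *
      ((Function.update (fun _ => (1 : Fˣ)) 0 ζ j : Fˣ) : F) =
        (e 0 : F) * (d (0 - l) : F) ^ (j : ℕ) := by
    intro j
    have := congrFun (congrFun h2 0) j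
    rw [Matrix.mul_diagonal, Mm_mul_apply, Matrix.vandermonde_apply,
      Matrix.vandermonde_apply] at this
    exact this
  have v1 : ((Fin.ofNat p 1 : Fin p) : ℕ) = 1 := by
    rw [Fin.val_ofNat, Nat.mod_eq_of_lt (by omega)]
  have v2 : ((Fin.ofNat p 2 : Fin p) : ℕ) = 2 := by
    rw [Fin.val_ofNat, Nat.mod_eq_of_lt (by omega)]
  have n1 : (Fin.ofNat p 1 : Fin p) ≠ 0 := by
    intro h
    have := congrArg Fin.val h
    rw [v1] at this
    exact one_ne_zero this
  have n2 : (Fin.ofNat p 2 : Fin p) ≠ 0 := by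
    intro h
    have := congrArg Fin.val h
    rw [v2] at this
    exact two_ne_zero this
  have k0 := key 0
  have k1 := key (Fin.ofNat p 1 : Fin p)
  have k2 := key (Fin.ofNat p 2 : Fin p)
  rw [Function.update_self, Fin.val_zero, pow_zero, pow_zero, one_mul, mul_one] at k0
  rw [Function.update_of_ne n1, v1, pow_one, pow_one, Units.val_one, mul_one] at k1
  rw [Function.update_of_ne n2, v2, Units.val_one, mul_one] at k2
  rw [k1, ← k0, mul_pow] at k2
  have hv : ((d (0 - l) : Fˣ) : F) ^ 2 ≠ 0 := pow_ne_zero _ (d (0 - l)).ne_zero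
  have h3 : ((ζ : Fˣ) : F) ^ 2 = (ζ : F) := mul_right_cancel₀ hv k2
  have h4 : ((ζ : Fˣ) : F) = 1 := by
    have : ((ζ : Fˣ) : F) * (ζ : F) = (ζ : F) * 1 := by rw [mul_one, ← pow_two, h3]
    exact mul_left_cancel₀ ζ.ne_zero this
  exact hζ1 (Units.ext h4)

end vand

end Cfsg.Agent.H2.RedSyl
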