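import Mathlib
import Cfsg.Agent.H2.RedundantSylowA

/-!
# The non-diagonal elements of `μ_p ≀ C_p`
-/

set_option autoImplicit false
set_option linter.unusedSectionVars false
set_option linter.unusedVariables false

namespace Cfsg.Agent.H2.RedSyl

open Matrix
open scoped Pointwise

section pow

variable {F : Type*} [Field F] {p : ℕ} [NeZero p]

theorem pow_mono (d : Fin p → Fˣ) (k : Fin p) (hd : ∀ i, d i ^ p = 1) (n : ℕ) :
    ∃ c : Fin p → Fˣ, (∀ i, c i ^ p = 1) ∧ (mono d k : GL (Fin p) F) ^ n = mono c (n • k) := by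
  induction n with
  | zero => exact ⟨fun _ => 1, fun _ => one_pow _, by rw [pow_zero, zero_smul, mono_one]⟩
  | succ n ih =>
    obtain ⟨c, hc, hcn⟩ := ih
    refine ⟨fun i => c i * d (i - n • k), fun i => ?_, ?_⟩
    · rw [mul_pow, hc, hd, one_mul]
    · rw [pow_succ, hcn, mono_mul, succ_nsmul, add_comm]

theorem const_of_shift [Fact p.Prime] (c : Fin p → Fˣ) (k : Fin p) (hk : k ≠ 0)
    (hc : ∀ i, c i = c (i - k)) (i : Fin p) : c i = c 0 := by
  have htop : AddSubgroup.zmultiples k = ⊤ :=
    zmultiples_eq_top_of_prime_card (p := p) (by rw [Nat.card_eq_fintype_card, Fintype.card_fin]) hk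
  have hi : i ∈ AddSubgroup.zmultiples k := by rw [htop]; exact AddSubgroup.mem_top i
  obtain ⟨n, rfl⟩ := AddSubgroup.mem_zmultiples_iff.mp hi
  induction n using Int.induction_on with
  | zero => rw [zero_smul]
  | succ n ih =>
    rw [add_smul, one_smul, hc, add_sub_cancel_right]
    exact ih (by rw [htop]; exact AddSubgroup.mem_top _)
  | pred n ih =>
    rw [sub_smul, one_smul, ← hc]
    exact ih (by rw [htop]; exact AddSubgroup.mem_top _)

theorem exists_scalar_pow [Fact p.Prime] (d : Fin p → Fˣ) (k : Fin p) (hk : k ≠ 0)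
    (hd : ∀ i, d i ^ p = 1) :
    ∃ δ : Fˣ, δ ^ p = 1 ∧
      (mono d k : GL (Fin p) F) ^ p = Matrix.GeneralLinearGroup.scalar (Fin p) δ := by
  obtain ⟨c, hc, hcp⟩ := pow_mono d k hd p
  have hpk : p • k = 0 := by
    have := card_nsmul_eq_zero (G := Fin p) (x := k)
    rwa [Fintype.card_fin] at this
  rw [hpk] at hcp
  have hcomm : mono c 0 * mono d k = mono d k * mono c 0 := by
    rw [← hcp]
    exact pow_mul_comm' _ _
  rw [mono_mul, mono_mul] at hcomm
  obtain ⟨-, hfun⟩ := mono_inj hcomm
  have hshift : ∀ i, c i = c (i - k) := by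
    intro i
    have := congrFun hfun i
    simp only [sub_zero] at this
    rw [mul_comm] at this
    exact mul_left_cancel this
  have hconst := const_of_shift c k hk hshift
  refine ⟨c 0, hc 0, ?_⟩
  rw [hcp, ← mono_const]
  congr 1
  funext i
  exact hconst i

end pow

section oneplus

variable {F : Type*} [Field F] {p : ℕ} [NeZero p]

theorem coe_pow_eq_smul (x : GL (Fin p) F) (δ : Fˣ)
    (hx : x ^ p = Matrix.GeneralLinearGroup.scalar (Fin p) δ) :
    (x : Matrix (Fin p) (Fin p) F) ^ p = (δ : F) • (1 : Matrix (Fin p) (Fin p) F) := by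
  have := congrArg (fun g : GL (Fin p) F => (g : Matrix (Fin p) (Fin p) F)) hx
  simp only [Units.val_pow_eq_pow_val, Matrix.GeneralLinearGroup.coe_scalar,
    Matrix.scalar_apply] at this
  rw [this, Matrix.smul_one_eq_diagonal]

theorem onePlus_aux (X : Matrix (Fin p) (Fin p) F) (δ : F) (hX : X ^ p = δ • 1) (hodd : Odd p) :
    (1 + X) * ∑ i ∈ Finset.range p, (-X) ^ i = (1 + δ) • 1 ∧
    (∑ i ∈ Finset.range p, (-X) ^ i) * (1 + X) = (1 + δ) • 1 := by
  have e : (1 : Matrix (Fin p) (Fin p) F) + X = 1 - (-X) := by rw [sub_neg_eq_add]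
  have e2 : (1 : Matrix (Fin p) (Fin p) F) - (-X) ^ p = (1 + δ) • 1 := by
    rw [hodd.neg_pow, hX, sub_neg_eq_add, add_smul, one_smul]
  constructor
  · rw [e, mul_neg_geom_sum, e2]
  · rw [e, geom_sum_mul_neg, e2]

/-- the element `1 + x` -/
noncomputable def onePlus (x : GL (Fin p) F) (δ : Fˣ)
    (hx : x ^ p = Matrix.GeneralLinearGroup.scalar (Fin p) δ) (hδ : (1 : F) + δ ≠ 0)
    (hodd : Odd p) : GL (Fin p) F where
  val := 1 + (x : Matrix (Fin p) (Fin p) F)
  inv := ((1 : F) + δ)⁻¹ • ∑ i ∈ Finset.range p, (-(x : Matrix (Fin p) (Fin p) F)) ^ i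
  val_inv := by
    rw [Matrix.mul_smul, (onePlus_aux _ _ (coe_pow_eq_smul x δ hx) hodd).1, smul_smul,
      inv_mul_cancel₀ hδ, one_smul]
  inv_val := by
    rw [Matrix.smul_mul, (onePlus_aux _ _ (coe_pow_eq_smul x δ hx) hodd).2, smul_smul,
      inv_mul_cancel₀ hδ, one_smul]

theorem coe_onePlus (x : GL (Fin p) F) (δ : Fˣ)
    (hx : x ^ p = Matrix.GeneralLinearGroup.scalar (Fin p) δ) (hδ : (1 : F) + δ ≠ 0)
    (hodd : Odd p) :
    ((onePlus x δ hx hδ hodd : GL (Fin p) F) : Matrix (Fin p) (Fin p) F) =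
      1 + (x : Matrix (Fin p) (Fin p) F) := rfl

theorem onePlus_commute (x : GL (Fin p) F) (δ : Fˣ)
    (hx : x ^ p = Matrix.GeneralLinearGroup.scalar (Fin p) δ) (hδ : (1 : F) + δ ≠ 0)
    (hodd : Odd p) : onePlus x δ hx hδ hodd * x = x * onePlus x δ hx hδ hodd := by
  apply Units.ext
  rw [Units.val_mul, Units.val_mul, coe_onePlus, add_mul, mul_add, one_mul, mul_one]

theorem add_self_ne_zero (hp : p.Prime) (hp2 : p ≠ 2) (k : Fin p) (hk : k ≠ 0) : k + k ≠ 0 := by
  intro h
  apply hk
  have h1 := congrArg Fin.val h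
  rw [Fin.val_add, Fin.val_zero] at h1
  have h2 : p ∣ (k : ℕ) + (k : ℕ) := Nat.dvd_of_mod_eq_zero h1
  rw [← two_mul] at h2
  rcases hp.dvd_mul.mp h2 with h3 | h3
  · exfalso
    have := (Nat.prime_dvd_prime_iff_eq hp Nat.prime_two).mp h3
    exact hp2 this
  · apply Fin.ext
    rw [Fin.val_zero]
    exact Nat.eq_zero_of_dvd_of_lt h3 k.2

theorem one_add_Mm_apply (a : Fin p → F) (k r s : Fin p) :
    ((1 : Matrix (Fin p) (Fin p) F) + Mm a k) r s =
      (if r = s then 1 else 0) + (if r = s + k then a r else 0) := by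
  rw [Matrix.add_apply, Matrix.one_apply, Mm_apply]

theorem onePlus_conj_not_mem (hp : p.Prime) (hp2 : p ≠ 2) (ζ : Fˣ) (hζ1 : ζ ≠ 1)
    (d : Fin p → Fˣ) (k : Fin p) (hk : k ≠ 0) (δ : Fˣ)
    (hx : (mono d k : GL (Fin p) F) ^ p = Matrix.GeneralLinearGroup.scalar (Fin p) δ)
    (hδ : (1 : F) + δ ≠ 0) (hodd : Odd p) :
    onePlus (mono d k) δ hx hδ hodd * mono (Function.update (fun _ => (1 : Fˣ)) 0 ζ) 0 *
      (onePlus (mono d k) δ hx hδ hodd)⁻¹ ∉ Q0 F p := by
  rintro ⟨e, l, he, hel⟩
  have h1 : onePlus (mono d k) δ hx hδ hodd * mono (Function.update (fun _ => (1 : Fˣ)) 0 ζ) 0 =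
      mono e l * onePlus (mono d k) δ hx hδ hodd := by
    rw [← hel]; group
  have h2 := congrArg (fun g : GL (Fin p) F => (g : Matrix (Fin p) (Fin p) F)) h1
  simp only [Units.val_mul, coe_mono, coe_onePlus, Mm_zero_eq_diagonal] at h2
  have hkk := add_self_ne_zero hp hp2 k hk
  have key : ∀ r s : Fin p,
      ((if r = s then (1 : F) else 0) + (if r = s + k then (d r : F) else 0)) *
        ((Function.update (fun _ => (1 : Fˣ)) 0 ζ s : Fˣ) : F) =
      (e r : F) * ((if r - l = s then (1 : F) else 0) +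
        (if r - l = s + k then (d (r - l) : F) else 0)) := by
    intro r s
    have := congrFun (congrFun h2 r) s
    rw [Matrix.mul_diagonal, Mm_mul_apply, one_add_Mm_apply, one_add_Mm_apply] at this
    exact this
  have hne : ∀ j : Fin p, j ≠ j + k := by
    intro j h
    apply hk
    have : j + 0 = j + k := by rw [add_zero]; exact h
    exact (add_left_cancel this).symm
  by_cases hl : l = 0
  · subst hl
    have hjj : ∀ j : Fin p, ((Function.update (fun _ => (1 : Fˣ)) 0 ζ j : Fˣ) : F) = (e j : F) := by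
      intro j
      have := key j j
      rw [if_pos rfl, if_neg (hne j), add_zero, one_mul, sub_zero, if_pos rfl, if_neg (hne j),
        add_zero, mul_one] at this
      exact this
    have hjk : ∀ j : Fin p, ((Function.update (fun _ => (1 : Fˣ)) 0 ζ j : Fˣ) : F) =
        (e (j + k) : F) := by
      intro j
      have := key (j + k) j
      rw [if_neg (hne j).symm, if_pos rfl, zero_add, sub_zero, if_neg (hne j).symm, if_pos rfl,
        zero_add, mul_comm (e (j + k) : F)] at this
      exact mul_left_cancel₀ (d (j + k)).ne_zero this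
    have h3 := hjk 0
    rw [← hjj (0 + k), Function.update_self, zero_add, Function.update_of_ne hk,
      Units.val_one] at h3
    exact hζ1 (Units.ext h3)
  · by_cases hkl : k = l
    · subst hkl
      have := key 0 0
      rw [if_pos rfl, if_neg (hne 0), add_zero, one_mul, Function.update_self, if_neg, if_neg,
        add_zero, mul_zero] at this
      · exact ζ.ne_zero this
      · intro h
        apply hkk
        have h4 : (0 : Fin p) - k + k = 0 + k + k := by rw [h]
        rw [sub_add_cancel, zero_add] at h4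
        exact h4.symm
      · intro h
        apply hl
        have h4 : (0 : Fin p) - k + k = 0 + k := by rw [h]
        rw [sub_add_cancel, zero_add] at h4
        exact h4.symm
    · have := key (0 + k) 0
      rw [if_neg (hne 0).symm, if_pos rfl, zero_add, Function.update_self, if_neg, if_neg,
        add_zero, mul_zero] at this
      · exact mul_ne_zero (d (0 + k)).ne_zero ζ.ne_zero this
      · intro h
        apply hl
        have h4 : (0 : Fin p) + k - l + l = 0 + k + l := by rw [h]
        rw [sub_add_cancel] at h4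
        have h5 : (0 : Fin p) + k + 0 = 0 + k + l := by rw [add_zero]; exact h4
        exact (add_left_cancel h5).symm
      · intro h
        apply hkl
        have h4 : (0 : Fin p) + k - l + l = 0 + l := by rw [h]
        rw [sub_add_cancel] at h4
        exact add_left_cancel h4

end oneplus

end Cfsg.Agent.H2.RedSyl
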