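import Mathlib

/-!
# The `p`-part of `|GL_p(q)|` when `p ∥ q - 1`
-/

set_option autoImplicit false

namespace Cfsg.Agent.H2.RedSyl

open Matrix

theorem padicVal_term (p : ℕ) [Fact p.Prime] (hp2 : p ≠ 2) (q : ℕ) (h1 : p ∣ q - 1)
    (h2 : ¬ p ^ 2 ∣ q - 1) (hq : 2 ≤ q) (i : ℕ) (hi : i < p) :
    padicValNat p (q ^ p - q ^ i) = 1 + (if i = 0 then 1 else 0) := by
  have hp : p.Prime := Fact.out
  have hodd : Odd p := hp.odd_of_ne_two hp2
  have hpq : ¬ p ∣ q := by
    intro h
    have h3 : p ∣ q - (q - 1) := Nat.dvd_sub h h1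
    have h4 : q - (q - 1) = 1 := by omega
    rw [h4] at h3
    exact hp.one_lt.ne' (Nat.dvd_one.mp h3)
  have hv1 : padicValNat p (q - 1) = 1 := by
    have hne : q - 1 ≠ 0 := by omega
    have hle : 1 ≤ padicValNat p (q - 1) := by
      rw [← padicValNat_dvd_iff_le hne, pow_one]; exact h1
    have hlt : ¬ 2 ≤ padicValNat p (q - 1) := by
      rw [← padicValNat_dvd_iff_le hne]; exact h2
    omega
  have hsplit : q ^ p - q ^ i = q ^ i * (q ^ (p - i) - 1 ^ (p - i)) := by
    rw [one_pow, Nat.mul_sub, mul_one, ← pow_add]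
    congr 2
    omega
  have hpi : p - i ≠ 0 := by omega
  have hne1 : q ^ i ≠ 0 := pow_ne_zero _ (by omega)
  have hne2 : q ^ (p - i) - 1 ^ (p - i) ≠ 0 := by
    rw [one_pow]
    have : 1 < q ^ (p - i) := Nat.one_lt_pow hpi (by omega)
    omega
  rw [hsplit, padicValNat.mul hne1 hne2,
    padicValNat.pow_sub_pow hodd (by omega : 1 < q) h1 hpq hpi, hv1]
  have hz : padicValNat p (q ^ i) = 0 := by
    rw [padicValNat.pow]
    rw [padicValNat.eq_zero_of_not_dvd hpq, mul_zero]
  rw [hz, zero_add]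
  congr 1
  split_ifs with h0
  · rw [h0, Nat.sub_zero, padicValNat_self]
  · apply padicValNat.eq_zero_of_not_dvd
    intro hd
    have := Nat.le_of_dvd (by omega) hd
    omega

theorem factorization_card_GL {F : Type*} [Field F] [Fintype F] (p : ℕ) [Fact p.Prime]
    (hp2 : p ≠ 2) (h1 : p ∣ Fintype.card F - 1) (h2 : ¬ p ^ 2 ∣ Fintype.card F - 1) :
    (Nat.card (GL (Fin p) F)).factorization p = p + 1 := by
  have hp : p.Prime := Fact.out
  have hq : 2 ≤ Fintype.card F := Fintype.one_lt_card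
  rw [Matrix.card_GL_field, Nat.factorization_prod]
  · rw [Finsupp.finsetSum_apply]
    have hterm : ∀ i ∈ (Finset.univ : Finset (Fin p)),
        (Fintype.card F ^ p - Fintype.card F ^ (i : ℕ)).factorization p =
          1 + (if (i : ℕ) = 0 then 1 else 0) := by
      intro i _
      rw [Nat.factorization_def _ hp]
      exact padicVal_term p hp2 _ h1 h2 hq i i.2
    rw [Finset.sum_congr rfl hterm, Finset.sum_add_distrib, Finset.sum_const, Finset.card_univ,
      Fintype.card_fin, smul_eq_mul, mul_one]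
    congr 1
    have _ : NeZero p := ⟨hp.ne_zero⟩
    rw [Finset.sum_eq_single (0 : Fin p)]
    · simp
    · intro b _ hb
      rw [if_neg]
      intro h0
      exact hb (Fin.ext h0)
    · intro h
      exact absurd (Finset.mem_univ _) h
  · intro i _
    have : Fintype.card F ^ (i : ℕ) < Fintype.card F ^ p :=
      Nat.pow_lt_pow_right (by omega) i.2
    omega

end Cfsg.Agent.H2.RedSyl
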