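import Mathlib
import Cfsg.Agent.H2.RedundantSylowCard
import Cfsg.Agent.H2.RedundantSylowB
import Cfsg.Agent.H2.PGLOrderR2

/-!
# `GL_p(q)` has a redundant Sylow `p`-subgroup when `p ∥ q - 1`, `p` odd
-/

set_option autoImplicit false
set_option linter.unusedSectionVars false
set_option linter.unusedVariables false

namespace Cfsg.Agent.H2.RedSyl

open Matrix Cfsg.Agent.H2.PGLOrderR Cfsg.Agent.H2.PGLInv
open scoped Pointwise

universe u

variable {F : Type u} [Field F] [Fintype F] [DecidableEq F]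

section realize

variable {p : ℕ} [NeZero p]

theorem exists_fun_of_multiset {α : Type*} (s : Multiset α) (hs : Multiset.card s = p) :
    ∃ e : Fin p → α, Multiset.map e Finset.univ.val = s := by
  obtain ⟨l, rfl⟩ := Quot.exists_rep s
  have hlen : l.length = p := hs
  refine ⟨fun i => l.get (Fin.cast hlen.symm i), ?_⟩
  rw [Fin.univ_val_map]
  apply congrArg
  apply List.ext_getElem
  · rw [List.length_ofFn, hlen]
  · intro i h1 h2
    rw [List.getElem_ofFn]
    rfl

theorem hasSpec_diag (e : Fin p → ↥(rootsOfUnity p F)) :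
    HasSpec p (mono (fun i => ((e i : Fˣ))) 0 : GL (Fin p) F) 1
      (Multiset.map e Finset.univ.val) := by
  refine ⟨by rw [Multiset.card_map, Finset.card_val, Finset.card_univ, Fintype.card_fin], ?_⟩
  rw [coe_mono, Mm_zero_eq_diagonal, Matrix.charpoly_diagonal]
  unfold specPoly lin
  rw [Multiset.map_map, Finset.prod_eq_multiset_prod]
  apply congrArg
  apply Multiset.map_congr rfl
  intro i _
  simp only [Function.comp_apply, one_mul]

end realize

section main

variable (p : ℕ) [Fact p.Prime] [NeZero p]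

theorem coprime_char (h1 : p ∣ Fintype.card F - 1) : p.Coprime (ringChar F) := by
  have _ : CharP F (ringChar F) := ringChar.charP F
  have _ : Fact (ringChar F).Prime := ⟨CharP.char_is_prime F (ringChar F)⟩
  exact Nat.Coprime.coprime_dvd_left h1 (card_sub_one_coprime (F := F) (ringChar F))

theorem card_Q0_eq (hR : Nat.card ↥(rootsOfUnity p F) = p) : Nat.card ↥(Q0 F p) = p ^ (p + 1) := by
  rw [card_Q0, hR, pow_succ]

theorem coprime_of_mem_Q0 (h1 : p ∣ Fintype.card F - 1)
    (hR : Nat.card ↥(rootsOfUnity p F) = p) {x : GL (Fin p) F} (hx : x ∈ Q0 F p) :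
    (orderOf x).Coprime (ringChar F) := by
  have h2 := Subgroup.orderOf_dvd_natCard (Q0 F p) hx
  rw [card_Q0_eq p hR] at h2
  exact Nat.Coprime.coprime_dvd_left h2 (Nat.Coprime.pow_left _ (coprime_char p h1))

/-- diagonal elements lie in two Sylow subgroups -/
theorem two_diag (hp2 : p ≠ 2) (Q : Sylow p (GL (Fin p) F)) (hQ : ∀ x, x ∈ Q ↔ x ∈ Q0 F p)
    (ζ : Fˣ) (hζ1 : ζ ≠ 1) (hζp : ζ ^ p = 1) (d : Fin p → Fˣ) (hd : ∀ i, d i ^ p = 1) :
    Two p (mono d 0 : GL (Fin p) F) := by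
  have hp : p.Prime := Fact.out
  have hp3 : 3 ≤ p := by
    have := hp.two_le
    omega
  have hw : ∀ i₀ : Fin p, mono (Function.update (fun _ => (1 : Fˣ)) i₀ ζ) 0 ∈ Q0 F p := by
    intro i₀
    apply mono_mem_Q0
    intro i
    by_cases hi : i = i₀
    · rw [hi, Function.update_self, hζp]
    · rw [Function.update_of_ne hi, one_pow]
  by_cases hinj : Function.Injective (fun i => (d i : F))
  · apply two_of_ne Q (vgl _ hinj) (mono d 0) (mono (Function.update (fun _ => (1 : Fˣ)) 0 ζ) 0)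
    · exact (hQ _).mpr (mono_mem_Q0 hd)
    · have h3 := vgl_mul_sig d hd hinj (by omega)
      have h4 : (vgl _ hinj)⁻¹ * mono d 0 * vgl _ hinj = sig := by
        rw [mul_assoc, ← h3]; group
      rw [h4]
      exact (hQ _).mpr sig_mem_Q0
    · exact (hQ _).mpr (hw 0)
    · intro hmem
      exact vgl_conj_not_mem ζ hζ1 hp3 d hinj ((hQ _).mp hmem)
  · have hex : ∃ i j : Fin p, i ≠ j ∧ d i = d j := by
      by_contra hcon
      apply hinj
      intro i j hij
      by_contra hne
      exact hcon ⟨i, j, hne, Units.ext hij⟩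
    obtain ⟨i, j, hij, hdij⟩ := hex
    apply two_of_ne Q (tv i j hij) (mono d 0) (mono (Function.update (fun _ => (1 : Fˣ)) i ζ) 0)
    · exact (hQ _).mpr (mono_mem_Q0 hd)
    · have h3 := tv_commute i j hij d hdij
      have h4 : (tv i j hij)⁻¹ * mono d 0 * tv i j hij = mono d 0 := by
        rw [mul_assoc, ← h3]; group
      rw [h4]
      exact (hQ _).mpr (mono_mem_Q0 hd)
    · exact (hQ _).mpr (hw i)
    · intro hmem
      exact tv_conj_not_mem ζ hζ1 i j hij ((hQ _).mp hmem)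

/-- every element of `Q₀` lies in two Sylow subgroups -/
theorem two_of_mem_Q0 (hp2 : p ≠ 2) (h1 : p ∣ Fintype.card F - 1)
    (Q : Sylow p (GL (Fin p) F)) (hQ : ∀ x, x ∈ Q ↔ x ∈ Q0 F p)
    (ζ : Fˣ) (hζ : orderOf ζ = p) (hR : Nat.card ↥(rootsOfUnity p F) = p)
    (x : GL (Fin p) F) (hx : x ∈ Q0 F p) : Two p x := by
  have hp : p.Prime := Fact.out
  have _ : CharP F (ringChar F) := ringChar.charP F
  have _ : Fact (ringChar F).Prime := ⟨CharP.char_is_prime F (ringChar F)⟩
  have hζ1 : ζ ≠ 1 := by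
    rintro rfl
    rw [orderOf_one] at hζ
    exact hp.one_lt.ne hζ
  have hζp : ζ ^ p = 1 := by rw [← hζ]; exact pow_orderOf_eq_one ζ
  have hodd : Odd p := hp.odd_of_ne_two hp2
  obtain ⟨d, k, hd, rfl⟩ := hx
  by_cases hk : k = 0
  · subst hk
    exact two_diag p hp2 Q hQ ζ hζ1 hζp d hd
  · obtain ⟨δ, hδp, hδ⟩ := exists_scalar_pow d k hk hd
    by_cases hδ1 : δ = 1
    · subst hδ1
      have hpow : (mono d k : GL (Fin p) F) ^ p =
          Matrix.GeneralLinearGroup.scalar (Fin p) ((1 : Fˣ) ^ p) := by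
        rw [hδ, one_pow]
      have hcopx := coprime_of_mem_Q0 p h1 hR (mono_mem_Q0 (F := F) (k := k) hd)
      obtain ⟨s, hs⟩ := exists_hasSpec (ringChar F) p hp h1 ζ hζ (mono d k) 1 hpow hcopx
      obtain ⟨e, he⟩ := exists_fun_of_multiset s hs.1
      have hy := hasSpec_diag (F := F) e
      rw [he] at hy
      have hymem : (mono (fun i => ((e i : Fˣ))) 0 : GL (Fin p) F) ∈ Q0 F p :=
        mono_mem_Q0 (fun i => (mem_rootsOfUnity p _).mp (e i).2)
      have hcopy := coprime_of_mem_Q0 p h1 hR hymem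
      have hconj := hs.isConj p (ringChar F) hy hcopx hcopy
      rw [isConj_iff] at hconj
      obtain ⟨c, hc⟩ := hconj
      have htwo := two_diag p hp2 Q hQ ζ hζ1 hζp (fun i => ((e i : Fˣ)))
        (fun i => (mem_rootsOfUnity p _).mp (e i).2)
      have h5 := two_conj c⁻¹ htwo
      have h6 : c⁻¹ * mono (fun i => ((e i : Fˣ))) 0 * c⁻¹⁻¹ = mono d k := by
        rw [← hc]; group
      rw [h6] at h5
      exact h5
    · have h1δ : (1 : F) + δ ≠ 0 := by
        intro h
        have h2 : (δ : F) = -1 := by linear_combination h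
        have h3 : ((δ ^ p : Fˣ) : F) = 1 := by rw [hδp, Units.val_one]
        rw [Units.val_pow_eq_pow_val, h2, hodd.neg_one_pow] at h3
        apply hδ1
        apply Units.ext
        rw [h2, h3, Units.val_one]
      apply two_of_ne Q (onePlus (mono d k) δ hδ h1δ hodd) (mono d k)
        (mono (Function.update (fun _ => (1 : Fˣ)) 0 ζ) 0)
      · exact (hQ _).mpr (mono_mem_Q0 hd)
      · have h3 := onePlus_commute (mono d k) δ hδ h1δ hodd
        have h4 : (onePlus (mono d k) δ hδ h1δ hodd)⁻¹ * mono d k *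
            onePlus (mono d k) δ hδ h1δ hodd = mono d k := by
          rw [mul_assoc, ← h3]; group
        rw [h4]
        exact (hQ _).mpr (mono_mem_Q0 hd)
      · apply (hQ _).mpr
        apply mono_mem_Q0
        intro i
        by_cases hi : i = 0
        · rw [hi, Function.update_self, hζp]
        · rw [Function.update_of_ne hi, one_pow]
      · intro hmem
        exact onePlus_conj_not_mem hp hp2 ζ hζ1 d k hk δ hδ h1δ hodd ((hQ _).mp hmem)

/-- **`GL_p(q)` has a redundant Sylow `p`-subgroup** -/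
theorem redundant_sylow (hp2 : p ≠ 2) (h1 : p ∣ Fintype.card F - 1)
    (h2 : ¬ p ^ 2 ∣ Fintype.card F - 1) :
    ∃ Q : Sylow p (GL (Fin p) F), ∀ x : GL (Fin p) F,
      (∃ k : ℕ, orderOf x = p ^ k) → ∃ P : Sylow p (GL (Fin p) F), P ≠ Q ∧ x ∈ P := by
  have hp : p.Prime := Fact.out
  have _ : CharP F (ringChar F) := ringChar.charP F
  have _ : Fact (ringChar F).Prime := ⟨CharP.char_is_prime F (ringChar F)⟩
  obtain ⟨ζ, hζ, hR⟩ := exists_zeta (F := F) (ringChar F) p hp h1
  have hcard : Nat.card ↥(Q0 F p) = p ^ (Nat.card (GL (Fin p) F)).factorization p := by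
    rw [card_Q0_eq p hR, factorization_card_GL p hp2 h1 h2]
  refine ⟨Sylow.ofCard (Q0 F p) hcard, ?_⟩
  have hQ : ∀ x, x ∈ Sylow.ofCard (Q0 F p) hcard ↔ x ∈ Q0 F p := by
    intro x
    exact Iff.rfl
  intro x hx
  obtain ⟨k, hk⟩ := hx
  have hpg : IsPGroup p ↥(Subgroup.zpowers x) := by
    apply IsPGroup.of_card (n := k)
    rw [Nat.card_zpowers, hk]
  obtain ⟨P₀, hP₀⟩ := hpg.exists_le_sylow
  have hxP₀ : x ∈ P₀ := hP₀ (Subgroup.mem_zpowers x)
  by_cases hne : P₀ = Sylow.ofCard (Q0 F p) hcard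
  · have hxQ : x ∈ Q0 F p := (hQ x).mp (hne ▸ hxP₀)
    obtain ⟨P₁, P₂, h12, hx1, hx2⟩ :=
      two_of_mem_Q0 p hp2 h1 (Sylow.ofCard (Q0 F p) hcard) hQ ζ hζ hR x hxQ
    by_cases h1Q : P₁ = Sylow.ofCard (Q0 F p) hcard
    · refine ⟨P₂, ?_, hx2⟩
      intro h2Q
      exact h12 (h1Q.trans h2Q.symm)
    · exact ⟨P₁, h1Q, hx1⟩
  · exact ⟨P₀, hne, hxP₀⟩

end main

end Cfsg.Agent.H2.RedSyl
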