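import Mathlib
import Cfsg.Prelude.Def_PLocal
import Cfsg.Agent.H1.NormMap
import Cfsg.Agent.H1.PResidual
import Cfsg.Agent.H2.Layer
import Cfsg.Agent.H2.LocalFStar
import Cfsg.Agent.H2.FStarPAction2

/-!
Relative norm (transfer) `C_V(T) → C_V(R)` for `T ≤ R` acting on an abelian subgroup `V` (helper2).
-/

set_option autoImplicit false
open scoped Pointwise commutatorElement IsMulCommutative

namespace Cfsg.Agent.H2.RelNorm

open Cfsg.Agent.H1

variable {G : Type*} [Group G]

/-- the relative norm over the cosets `R/T` of an element `v` fixed by `T` -/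
theorem exists_relNorm [Finite G] (V R T : Subgroup G) (hVab : IsMulCommutative V)
    (hRV : R ≤ Subgroup.normalizer (V : Set G)) (v : V)
    (hvT : ∀ t : ↥R, (t : G) ∈ T → cjHom V R hRV t v = v) :
    ∃ w : V, (∀ r : R, cjHom V R hRV r w = w) ∧
      ((v ^ (T.subgroupOf R).index * w⁻¹ : V) : G) ∈ ⁅V, R⁆ := by
  classical
  have := Fintype.ofFinite (↥R ⧸ T.subgroupOf R)
  have hwd : ∀ a b : ↥R, (QuotientGroup.leftRel (T.subgroupOf R)) a b →
      cjHom V R hRV a v = cjHom V R hRV b v := by
    intro a b hab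
    rw [QuotientGroup.leftRel_apply] at hab
    have h1 : cjHom V R hRV (a⁻¹ * b) v = v := hvT _ (Subgroup.mem_subgroupOf.1 hab)
    calc cjHom V R hRV a v = cjHom V R hRV a (cjHom V R hRV (a⁻¹ * b) v) := by rw [h1]
      _ = cjHom V R hRV (a * (a⁻¹ * b)) v := cjHom_mul V R hRV _ _ _
      _ = cjHom V R hRV b v := by rw [mul_inv_cancel_left]
  obtain ⟨f, hf⟩ : ∃ f : ↥R ⧸ T.subgroupOf R → V,
      ∀ r : R, f (QuotientGroup.mk r) = cjHom V R hRV r v :=
    ⟨fun q => Quotient.liftOn' q (fun r => cjHom V R hRV r v) hwd, fun r => rfl⟩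
  refine ⟨∏ q, f q, ?_, ?_⟩
  · intro r
    rw [map_prod]
    apply Fintype.prod_equiv (MulAction.toPerm r)
    intro q
    induction q using QuotientGroup.induction_on with
    | H s =>
      have : (MulAction.toPerm r) (QuotientGroup.mk s : ↥R ⧸ T.subgroupOf R) =
          QuotientGroup.mk (r * s) := rfl
      rw [this, hf, hf, cjHom_mul]
  · have e : v ^ (T.subgroupOf R).index * (∏ q, f q)⁻¹ = ∏ q, (v * (f q)⁻¹) := by
      rw [Finset.prod_mul_distrib, Finset.prod_inv_distrib, Finset.prod_const, Finset.card_univ,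
        ← Nat.card_eq_fintype_card]
      rfl
    rw [e]
    have : (∏ q, (v * (f q)⁻¹)) ∈ (⁅V, R⁆ : Subgroup G).subgroupOf V := by
      apply Subgroup.prod_mem
      intro q _
      induction q using QuotientGroup.induction_on with
      | H s =>
        rw [Subgroup.mem_subgroupOf, hf]
        have : ((v * (cjHom V R hRV s v)⁻¹ : V) : G) = ⁅(v : G), (s : G)⁆ := by
          simp only [Subgroup.coe_mul, Subgroup.coe_inv, cjHom_coe, commutatorElement_def]
          group
        rw [this]
        exact Subgroup.commutator_mem_commutator v.2 s.2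
    exact Subgroup.mem_subgroupOf.mp this

/-- `V = [V, O^p(H)] C_V(O^p(H))` when `V` is generated by the `H`-conjugates of `C_V(T)`. -/
theorem main [Finite G] {p : ℕ} [Fact p.Prime] (V H : Subgroup G)
    (hV : Cfsg.IsElementaryAbelian p V) (hHV : H ≤ Subgroup.normalizer (V : Set G))
    (R : Subgroup G) (hR : R = (Cfsg.pResidual p ↥H).map H.subtype) (S : Sylow p ↥R)
    (T : Subgroup G) (hT : T = ((S : Subgroup ↥R).map R.subtype))
    (hgen : ∀ W : Subgroup G, H ≤ Subgroup.normalizer (W : Set G) →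
      (V ⊓ Subgroup.centralizer ((T : Subgroup G) : Set G)) ≤ W → V ≤ W) :
    ⁅V, R⁆ ⊔ (V ⊓ Subgroup.centralizer ((R : Subgroup G) : Set G)) = V := by
  have hpp : p.Prime := Fact.out
  have hRH : R ≤ H := by rw [hR]; exact Cfsg.Agent.H2.map_subtype_le _ _
  have hRV : R ≤ Subgroup.normalizer (V : Set G) := hRH.trans hHV
  have hHR : H ≤ Subgroup.normalizer (R : Set G) := by
    rw [hR]
    exact Cfsg.Agent.H2.le_normalizer_map_subtype_of_normal H (Cfsg.pResidual p ↥H)
  have hcomm_le : ⁅V, R⁆ ≤ V := Subgroup.le_normalizer_iff_commutator_le_left.mp hRV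
  apply le_antisymm (sup_le hcomm_le inf_le_left)
  apply hgen
  · -- `H` normalizes `[V,R] (V ∩ C(R))`
    refine le_trans ?_ (Cfsg.Agent.H2.normalizer_inf_le_normalizer_sup _ _)
    refine le_inf ?_ ?_
    · exact (le_inf hHV hHR).trans (FsAct.normalizer_inf_le_normalizer_commutator V R)
    · refine le_trans (le_inf hHV ?_) (Cfsg.Agent.H2.normalizer_inf_le_normalizer_inf _ _)
      exact hHR.trans (FsAct.normalizer_le_normalizer_centralizer R)
  · intro v hv
    obtain ⟨hvV, hvT⟩ := hv
    have hvV : v ∈ V := hvV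
    have hvT : v ∈ Subgroup.centralizer (T : Set G) := hvT
    have hTS : T.subgroupOf R = (S : Subgroup ↥R) := by
      rw [hT]
      exact Subgroup.comap_map_eq_self_of_injective (Subgroup.subtype_injective _) _
    obtain ⟨w, hw1, hw2⟩ := exists_relNorm V R T hV.1 hRV ⟨v, hvV⟩ (by
      intro t ht
      apply Subtype.ext
      rw [cjHom_coe]
      have := (Subgroup.mem_centralizer_iff.1 hvT) t ht
      show (t : G) * v * (t : G)⁻¹ = v
      rw [this]; group)
    rw [hTS] at hw2
    have hidx : ¬ p ∣ (S : Subgroup ↥R).index := S.not_dvd_index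
    -- `w ∈ C_V(R)`
    have hwC : (w : G) ∈ V ⊓ Subgroup.centralizer (R : Set G) := by
      refine ⟨w.2, ?_⟩
      show (w : G) ∈ Subgroup.centralizer (R : Set G)
      rw [Subgroup.mem_centralizer_iff]
      intro r hr
      have := congrArg Subtype.val (hw1 ⟨r, hr⟩)
      rw [cjHom_coe] at this
      show r * (w : G) = (w : G) * r
      calc r * (w : G) = (r * (w : G) * r⁻¹) * r := by group
        _ = (w : G) * r := by rw [this]
    have hvm : v ^ (S : Subgroup ↥R).index ∈
        ⁅V, R⁆ ⊔ (V ⊓ Subgroup.centralizer ((R : Subgroup G) : Set G)) := by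
      have e : v ^ (S : Subgroup ↥R).index =
          (((⟨v, hvV⟩ : V) ^ (S : Subgroup ↥R).index * w⁻¹ : V) : G) * (w : G) := by
        simp
      rw [e]
      exact mul_mem (Subgroup.mem_sup_left hw2) (Subgroup.mem_sup_right hwC)
    have hord : orderOf v ∣ p := orderOf_dvd_of_pow_eq_one (hV.2 v hvV)
    have hcop : Nat.Coprime (S : Subgroup ↥R).index (orderOf v) := by
      have : Nat.Coprime (S : Subgroup ↥R).index p :=
        ((Nat.Prime.coprime_iff_not_dvd hpp).2 hidx).symm
      exact Nat.Coprime.coprime_dvd_right hord this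
    obtain ⟨a, ha⟩ := exists_pow_eq_self_of_coprime hcop
    rw [← ha]
    exact pow_mem hvm a

end Cfsg.Agent.H2.RelNorm
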