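import Mathlib

/-!
# Orbit divisibility and the number of Sylow subgroups containing a `p`-element
(piece A of S4443)
-/

set_option autoImplicit false

namespace Cfsg.Agent.H2.RobA

open Finset

/-- if `f` is constant on orbits and every orbit meeting the support of `f` has size divisible by
`q` then `q` divides the sum of `f` -/
theorem dvd_sum_of_orbit {P X : Type*} [Group P] [MulAction P X] [Fintype X]
    (q : ℕ) (f : X → ℕ) (hf : ∀ (g : P) (x : X), f (g • x) = f x)
    (hq : ∀ x, f x ≠ 0 → q ∣ Nat.card (MulAction.orbit P x)) : q ∣ ∑ x, f x := by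
  classical
  rw [Finset.sum_partition (MulAction.orbitRel P X)]
  apply Finset.dvd_sum
  intro ω _
  induction ω using Quotient.inductionOn with
  | _ x0 =>
  have hmem : ∀ y : X, y ∈ univ.filter
      (fun y => (⟦y⟧ : Quotient (MulAction.orbitRel P X)) = ⟦x0⟧) ↔ y ∈ MulAction.orbit P x0 := by
    intro y
    rw [mem_filter, Quotient.eq]
    simp only [mem_univ, true_and]
    exact MulAction.orbitRel_apply
  have hconst : ∀ y ∈ univ.filter
      (fun y => (⟦y⟧ : Quotient (MulAction.orbitRel P X)) = ⟦x0⟧), f y = f x0 := by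
    intro y hy
    obtain ⟨g, rfl⟩ := (hmem y).1 hy
    exact hf g x0
  rw [Finset.sum_congr rfl hconst, Finset.sum_const, smul_eq_mul]
  by_cases h0 : f x0 = 0
  · rw [h0, mul_zero]; exact dvd_zero _
  · apply Dvd.dvd.mul_right
    have : Nat.card (MulAction.orbit P x0) = (univ.filter
        (fun y => (⟦y⟧ : Quotient (MulAction.orbitRel P X)) = ⟦x0⟧)).card :=
      Nat.subtype_card _ hmem
    rw [← this]
    exact hq x0 h0

/-- the number of Sylow `p`-subgroups containing a given `p`-element is `≡ 1 mod p` -/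
theorem card_sylow_mem_modEq {G : Type*} [Group G] [Finite G] (p : ℕ) [Fact p.Prime] (u : G)
    (hu : ∃ k : ℕ, orderOf u = p ^ k) : Nat.card {S' : Sylow p G // u ∈ S'} ≡ 1 [MOD p] := by
  obtain ⟨k, hk⟩ := hu
  have hP : IsPGroup p (Subgroup.zpowers u) :=
    IsPGroup.of_card (n := k) (by rw [Nat.card_zpowers, hk])
  have h1 := hP.card_modEq_card_fixedPoints (Sylow p G)
  have h2 : Nat.card (MulAction.fixedPoints (Subgroup.zpowers u) (Sylow p G)) =
      Nat.card {S' : Sylow p G // u ∈ S'} := by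
    apply Nat.card_congr
    apply Equiv.subtypeEquivRight
    intro Q
    rw [hP.sylow_mem_fixedPoints_iff, Subgroup.zpowers_le]
    rfl
  rw [h2] at h1
  exact h1.symm.trans (card_sylow_modEq_one p G)

/-- a non-`p`-element lies in no Sylow `p`-subgroup -/
theorem card_sylow_mem_eq_zero {G : Type*} [Group G] [Finite G] (p : ℕ) [Fact p.Prime] (u : G)
    (hu : ¬ ∃ k : ℕ, orderOf u = p ^ k) : Nat.card {S' : Sylow p G // u ∈ S'} = 0 := by
  haveI : IsEmpty {S' : Sylow p G // u ∈ S'} := by
    refine ⟨fun ⟨S', hS'⟩ => hu ?_⟩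
    obtain ⟨k, hk⟩ := (IsPGroup.iff_orderOf.1 S'.isPGroup') ⟨u, hS'⟩
    exact ⟨k, by rw [← hk, Subgroup.orderOf_mk]⟩
  exact Nat.card_of_isEmpty

end Cfsg.Agent.H2.RobA
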