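import Mathlib
import Cfsg.Agent.Lib.Helper4.RobDefs
import Cfsg.Agent.H9.ClassSize
import Cfsg.Agent.H2.RobA1

/-!
# Orbits of a Sylow subgroup on pairs of conjugates (piece A of S4443)
-/

set_option autoImplicit false

namespace Cfsg.Agent.H2.RobA

open Finset Cfsg.Agent.Lib.Helper4.Rob

variable {G : Type*} [Group G]

/-- pairs of group elements, carrying the conjugation action of the subgroup `S` -/
def CP (_S : Subgroup G) : Type _ := G × G

instance instMulActionCP (S : Subgroup G) : MulAction ↥S (CP S) where
  smul s yz := (((s : G) * yz.1 * (s : G)⁻¹, (s : G) * yz.2 * (s : G)⁻¹) : G × G)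
  one_smul := by
    rintro ⟨a, b⟩
    show ((((1 : ↥S) : G) * a * ((1 : ↥S) : G)⁻¹, ((1 : ↥S) : G) * b * ((1 : ↥S) : G)⁻¹) : G × G)
      = (a, b)
    simp
  mul_smul := by
    rintro s t ⟨a, b⟩
    show ((((s * t : ↥S) : G) * a * ((s * t : ↥S) : G)⁻¹,
      ((s * t : ↥S) : G) * b * ((s * t : ↥S) : G)⁻¹) : G × G) =
      ((s : G) * ((t : G) * a * (t : G)⁻¹) * (s : G)⁻¹,
        (s : G) * ((t : G) * b * (t : G)⁻¹) * (s : G)⁻¹)
    simp [mul_assoc]

theorem smul_CP (S : Subgroup G) (s : ↥S) (yz : CP S) :
    s • yz = (((s : G) * yz.1 * (s : G)⁻¹, (s : G) * yz.2 * (s : G)⁻¹) : G × G) := rfl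

instance instFintypeCP [Fintype G] (S : Subgroup G) : Fintype (CP S) :=
  inferInstanceAs (Fintype (G × G))

theorem index_centralizer_of_isConj {x y' : G} (h : IsConj x y') :
    (Subgroup.centralizer ({y'} : Set G)).index = (Subgroup.centralizer ({x} : Set G)).index := by
  rw [Cfsg.Agent.H9.ClassSize.index_centralizer_eq_card_conj,
    Cfsg.Agent.H9.ClassSize.index_centralizer_eq_card_conj]
  apply Nat.card_congr
  apply Equiv.subtypeEquivRight
  intro g
  exact ⟨fun h' => h.trans h', fun h' => h.symm.trans h'⟩

theorem orbit_dvd [Finite G] (p : ℕ) [Fact p.Prime] (S : Sylow p G) (yz : CP (S : Subgroup G)) :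
    p ^ ((Subgroup.centralizer ({yz.1} : Set G)).index.factorization p) ∣
      Nat.card (MulAction.orbit ↥(S : Subgroup G) yz) := by
  have hp := (Fact.out : p.Prime)
  set St := MulAction.stabilizer ↥(S : Subgroup G) yz with hSt
  set C := Subgroup.centralizer ({yz.1} : Set G) with hC
  have h1 : Nat.card St * St.index = Nat.card ↥(S : Subgroup G) := Subgroup.card_mul_index St
  have h2 : St.index = Nat.card (MulAction.orbit ↥(S : Subgroup G) yz) := by
    rw [hSt, MulAction.index_stabilizer, Nat.card_coe_set_eq]
  have h3 : Nat.card ↥(S : Subgroup G) = p ^ (Nat.card G).factorization p :=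
    S.card_eq_multiplicity
  obtain ⟨j, hj⟩ := (S.isPGroup'.to_subgroup St).exists_card_eq
  have hle : St.map (S : Subgroup G).subtype ≤ C := by
    rintro _ ⟨s, hs, rfl⟩
    rw [hC, Subgroup.mem_centralizer_singleton_iff]
    have h0 : s • yz = yz := MulAction.mem_stabilizer_iff.1 hs
    rw [smul_CP] at h0
    have h' : (s : G) * yz.1 * (s : G)⁻¹ = yz.1 := congrArg Prod.fst h0
    show (s : G) * yz.1 = yz.1 * (s : G)
    calc (s : G) * yz.1 = ((s : G) * yz.1 * (s : G)⁻¹) * (s : G) := by group
      _ = yz.1 * (s : G) := by rw [h']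
  have hdvd : p ^ j ∣ Nat.card C := by
    rw [← hj, ← Subgroup.card_map_of_injective (S : Subgroup G).subtype_injective]
    exact Subgroup.card_dvd_of_le hle
  have hCI : Nat.card C * C.index = Nat.card G := Subgroup.card_mul_index C
  have hCne : Nat.card C ≠ 0 := Nat.card_pos.ne'
  have hIne : C.index ≠ 0 := Subgroup.index_ne_zero_of_finite
  have hfac : (Nat.card G).factorization p =
      (Nat.card C).factorization p + C.index.factorization p := by
    rw [← hCI, Nat.factorization_mul hCne hIne]; rfl
  have hjle : j ≤ (Nat.card C).factorization p :=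
    (hp.pow_dvd_iff_le_factorization hCne).1 hdvd
  rw [← h2]
  have h4 : p ^ j * St.index = p ^ (Nat.card G).factorization p := by rw [← hj, h1, h3]
  have hja : j ≤ (Nat.card G).factorization p := by omega
  have h5 : St.index = p ^ ((Nat.card G).factorization p - j) := by
    apply Nat.eq_of_mul_eq_mul_left (pow_pos hp.pos j)
    rw [h4, ← pow_add]; congr 1; omega
  rw [h5]
  apply pow_dvd_pow
  omega

/-- sums of `S`-invariant functions supported on pairs whose first entry is conjugate to `x` are
divisible by the `p`-part of the class size of `x` -/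
theorem dvd_sum_pairs [Fintype G] (p : ℕ) [Fact p.Prime] (S : Sylow p G) (x : G)
    (f : G × G → ℕ)
    (hf : ∀ s ∈ (S : Subgroup G), ∀ yz : G × G, f (s * yz.1 * s⁻¹, s * yz.2 * s⁻¹) = f yz)
    (hsupp : ∀ yz, f yz ≠ 0 → IsConj x yz.1) :
    p ^ ((Subgroup.centralizer ({x} : Set G)).index.factorization p) ∣ ∑ yz, f yz := by
  have key := dvd_sum_of_orbit (P := ↥(S : Subgroup G)) (X := CP (S : Subgroup G))
    (p ^ ((Subgroup.centralizer ({x} : Set G)).index.factorization p)) f
    (fun s yz => hf s s.2 yz)
    (fun yz h0 => by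
      rw [← index_centralizer_of_isConj (hsupp yz h0)]
      exact orbit_dvd p S yz)
  exact key

/-- for a good element `x` the exponent `a - d` is the exponent of `p` in the class size -/
theorem ad_eq [Finite G] (p : ℕ) [Fact p.Prime] (D : Subgroup G) (x : G) (hx : Good p D x) :
    ad p D = (Subgroup.centralizer ({x} : Set G)).index.factorization p := by
  have hp := (Fact.out : p.Prime)
  obtain ⟨-, Q, hQ⟩ := hx
  have h1 : Nat.card D = p ^ (Nat.card (Subgroup.centralizer ({x} : Set G))).factorization p := by
    rw [← hQ, Subgroup.card_map_of_injective (Subgroup.subtype_injective _),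
      Q.card_eq_multiplicity]
  clear hQ Q
  set C := Subgroup.centralizer ({x} : Set G) with hC
  have h2 : (Nat.card D).factorization p = (Nat.card C).factorization p := by
    rw [h1, hp.factorization_pow, Finsupp.single_eq_same]
  have hCI : Nat.card C * C.index = Nat.card G := Subgroup.card_mul_index C
  have hCne : Nat.card C ≠ 0 := Nat.card_pos.ne'
  have hIne : C.index ≠ 0 := Subgroup.index_ne_zero_of_finite
  have hfac : (Nat.card G).factorization p =
      (Nat.card C).factorization p + C.index.factorization p := by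
    rw [← hCI, Nat.factorization_mul hCne hIne]; rfl
  unfold ad
  rw [h2, hfac]
  omega

end Cfsg.Agent.H2.RobA
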