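import Mathlib
import Cfsg.Agent.H2.RobA2

/-!
# Counting pairs of conjugates whose quotient lies in a Sylow subgroup (piece A of S4443)
-/

set_option autoImplicit false

namespace Cfsg.Agent.H2.RobA

open Finset Cfsg.Agent.Lib.Helper4.Rob
open scoped Classical

variable {G : Type*} [Group G]

theorem mem_carrier_mk_iff {x g : G} : g ∈ (ConjClasses.mk x).carrier ↔ IsConj x g := by
  rw [ConjClasses.mem_carrier_iff_mk_eq, ConjClasses.mk_eq_mk_iff_isConj, isConj_comm]

theorem isConj_conj_iff (x g a : G) : IsConj x (g * a * g⁻¹) ↔ IsConj x a := by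
  have h : IsConj a (g * a * g⁻¹) := isConj_iff.2 ⟨g, rfl⟩
  exact ⟨fun h' => h'.trans h.symm, fun h' => h'.trans h⟩

theorem mem_smul_sylow {p : ℕ} (g u : G) (P : Sylow p G) : g * u * g⁻¹ ∈ g • P ↔ u ∈ P := by
  show g * u * g⁻¹ ∈ ((g • P : Sylow p G) : Subgroup G) ↔ _
  rw [Sylow.coe_subgroup_smul, Subgroup.mem_pointwise_smul_iff_inv_smul_mem, MulAut.smul_def,
    MulAut.conj_inv_apply]
  have : g⁻¹ * (g * u * g⁻¹) * g = u := by group
  rw [this]
  rfl

/-- the number of Sylow `p`-subgroups containing `u` -/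
noncomputable def nSyl (p : ℕ) (u : G) : ℕ := Nat.card {S' : Sylow p G // u ∈ S'}

theorem nSyl_conj (p : ℕ) (s u : G) : nSyl p (s * u * s⁻¹) = nSyl p u := by
  unfold nSyl
  apply Nat.card_congr
  exact (Equiv.subtypeEquiv (MulAction.toPerm s : Sylow p G ≃ Sylow p G)
    (fun S' => (mem_smul_sylow s u S').symm)).symm

theorem nSyl_eq [Finite G] (p : ℕ) [Fact p.Prime] (u : G) :
    nSyl p u = (if (∃ k : ℕ, orderOf u = p ^ k) then 1 else 0) + p * (nSyl p u / p) := by
  have hp := (Fact.out : p.Prime)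
  by_cases hu : ∃ k : ℕ, orderOf u = p ^ k
  · rw [if_pos hu]
    have h1 : nSyl p u % p = 1 := by
      have := card_sylow_mem_modEq p u hu
      unfold Nat.ModEq at this
      rw [Nat.mod_eq_of_lt hp.one_lt] at this
      exact this
    have h2 := Nat.div_add_mod (nSyl p u) p
    omega
  · rw [if_neg hu]
    have : nSyl p u = 0 := card_sylow_mem_eq_zero p u hu
    rw [this]
    simp

theorem omega_eq_sum [Fintype G] (S : Subgroup G) (x y : G) :
    omega S x y = ∑ yz : G × G,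
      if (IsConj x yz.1 ∧ IsConj y yz.2 ∧ yz.2 * yz.1⁻¹ ∈ S) then 1 else 0 := by
  unfold omega
  rw [← Finset.card_filter]
  apply Nat.subtype_card
  intro yz
  rw [mem_filter, mem_carrier_mk_iff, mem_carrier_mk_iff]
  simp

theorem omega_conj [Finite G] (p : ℕ) [Fact p.Prime] (S S' : Sylow p G) (x y : G) :
    omega (S' : Subgroup G) x y = omega (S : Subgroup G) x y := by
  obtain ⟨g, rfl⟩ := MulAction.exists_smul_eq G S S'
  unfold omega
  apply Nat.card_congr
  refine (Equiv.subtypeEquiv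
    ((MulAut.conj g).toEquiv.prodCongr (MulAut.conj g).toEquiv) (fun yz => ?_)).symm
  simp only [Equiv.prodCongr_apply, MulEquiv.toEquiv_eq_coe, Prod.map_fst, Prod.map_snd,
    EquivLike.coe_coe, MulAut.conj_apply]
  rw [mem_carrier_mk_iff, mem_carrier_mk_iff, mem_carrier_mk_iff, mem_carrier_mk_iff,
    isConj_conj_iff, isConj_conj_iff]
  have h : g * yz.2 * g⁻¹ * (g * yz.1 * g⁻¹)⁻¹ = g * (yz.2 * yz.1⁻¹) * g⁻¹ := by group
  rw [h]
  have := mem_smul_sylow g (yz.2 * yz.1⁻¹) S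
  exact and_congr Iff.rfl (and_congr Iff.rfl this.symm)

theorem nSyl_eq_sum [Finite G] (p : ℕ) [Fact p.Prime] [Fintype (Sylow p G)] (u : G) :
    nSyl p u = ∑ S' : Sylow p G, if u ∈ S' then 1 else 0 := by
  unfold nSyl
  rw [← Finset.card_filter]
  apply Nat.subtype_card
  intro S'
  simp

/-- the double count -/
theorem card_sylow_mul_omega [Fintype G] (p : ℕ) [Fact p.Prime] (S : Sylow p G) (x y : G) :
    Nat.card (Sylow p G) * omega (S : Subgroup G) x y = ∑ yz : G × G,
      if (IsConj x yz.1 ∧ IsConj y yz.2) then nSyl p (yz.2 * yz.1⁻¹) else 0 := by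
  haveI : Fintype (Sylow p G) := Fintype.ofFinite _
  have h1 : Nat.card (Sylow p G) * omega (S : Subgroup G) x y =
      ∑ S' : Sylow p G, omega (S' : Subgroup G) x y := by
    rw [Finset.sum_congr rfl (fun S' _ => omega_conj p S S' x y), Finset.sum_const,
      Finset.card_univ, smul_eq_mul, Nat.card_eq_fintype_card]
  have h2 : ∑ S' : Sylow p G, omega (S' : Subgroup G) x y = ∑ S' : Sylow p G, ∑ yz : G × G,
      (if (IsConj x yz.1 ∧ IsConj y yz.2 ∧ yz.2 * yz.1⁻¹ ∈ (S' : Subgroup G)) then 1 else 0) :=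
    Finset.sum_congr rfl (fun S' _ => omega_eq_sum (S' : Subgroup G) x y)
  rw [h1, h2, Finset.sum_comm]
  apply Finset.sum_congr rfl
  intro yz _
  by_cases h : IsConj x yz.1 ∧ IsConj y yz.2
  · rw [if_pos h, nSyl_eq_sum]
    apply Finset.sum_congr rfl
    intro S' _
    have : (IsConj x yz.1 ∧ IsConj y yz.2 ∧ yz.2 * yz.1⁻¹ ∈ (S' : Subgroup G)) ↔
        yz.2 * yz.1⁻¹ ∈ S' := ⟨fun h' => h'.2.2, fun h' => ⟨h.1, h.2, h'⟩⟩
    rw [if_congr this rfl rfl]
  · rw [if_neg h]
    apply Finset.sum_eq_zero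
    intro S' _
    rw [if_neg]
    exact fun h' => h ⟨h'.1, h'.2.1⟩

end Cfsg.Agent.H2.RobA
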