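import Mathlib
import Cfsg.Agent.H2.RobA3

/-!
# Piece A of S4443: Robinson's numbers modulo `p`
-/

set_option autoImplicit false

namespace Cfsg.Agent.H2.RobA

open Finset Cfsg.Agent.Lib.Helper4.Rob
open scoped Classical

variable {G : Type*} [Group G]

theorem cnt_conj (p : ℕ) (g x y : G) : cnt p (g * x * g⁻¹) y = cnt p x y := by
  unfold cnt
  apply Nat.card_congr
  refine Equiv.subtypeEquiv (MulAut.conj g⁻¹).toEquiv (fun t => ?_)
  simp only [MulEquiv.toEquiv_eq_coe, EquivLike.coe_coe, MulAut.conj_apply, inv_inv]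
  have h1 : orderOf (g⁻¹ * t * g) = orderOf t := by
    have := MulEquiv.orderOf_eq (MulAut.conj g⁻¹) t
    rwa [MulAut.conj_apply, inv_inv] at this
  rw [h1]
  have h2 : IsConj (g⁻¹ * t * g * x) (t * (g * x * g⁻¹)) := by
    rw [isConj_iff]
    exact ⟨g, by group⟩
  exact and_congr Iff.rfl ⟨fun h => h.trans h2.symm, fun h => h.trans h2⟩

theorem cnt_of_isConj (p : ℕ) {x a : G} (h : IsConj x a) (y : G) : cnt p a y = cnt p x y := by
  obtain ⟨g, rfl⟩ := isConj_iff.1 h
  exact cnt_conj p g x y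

theorem card_filter_cnt [Fintype G] (p : ℕ) (a y : G) :
    ∑ b : G, (if (IsConj y b ∧ ∃ k : ℕ, orderOf (b * a⁻¹) = p ^ k) then 1 else 0) = cnt p a y := by
  rw [← Finset.card_filter]
  symm
  unfold cnt
  have e : {t : G // (∃ k : ℕ, orderOf t = p ^ k) ∧ IsConj y (t * a)} ≃
      {b : G // IsConj y b ∧ ∃ k : ℕ, orderOf (b * a⁻¹) = p ^ k} := by
    refine Equiv.subtypeEquiv (Equiv.mulRight a) (fun t => ?_)
    simp only [Equiv.coe_mulRight, mul_inv_cancel_right]
    exact and_comm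
  rw [Nat.card_congr e]
  apply Nat.subtype_card
  intro b
  simp

/-- the number of pairs of conjugates of `x`, `y` whose quotient is a `p`-element -/
theorem sum_pEl [Fintype G] (p : ℕ) (x y : G) :
    ∑ yz : G × G, (if (IsConj x yz.1 ∧ IsConj y yz.2 ∧
      ∃ k : ℕ, orderOf (yz.2 * yz.1⁻¹) = p ^ k) then 1 else 0) =
      (Subgroup.centralizer ({x} : Set G)).index * cnt p x y := by
  rw [Fintype.sum_prod_type]
  have h1 : ∀ a : G, ∑ b : G, (if (IsConj x a ∧ IsConj y b ∧
      ∃ k : ℕ, orderOf (b * a⁻¹) = p ^ k) then 1 else 0) =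
      if IsConj x a then cnt p x y else 0 := by
    intro a
    by_cases ha : IsConj x a
    · rw [if_pos ha, ← cnt_of_isConj p ha y, ← card_filter_cnt p a y]
      apply Finset.sum_congr rfl
      intro b _
      have : (IsConj x a ∧ IsConj y b ∧ ∃ k : ℕ, orderOf (b * a⁻¹) = p ^ k) ↔
          (IsConj y b ∧ ∃ k : ℕ, orderOf (b * a⁻¹) = p ^ k) := ⟨fun h => h.2, fun h => ⟨ha, h⟩⟩
      rw [if_congr this rfl rfl]
    · rw [if_neg ha]
      apply Finset.sum_eq_zero
      intro b _
      rw [if_neg]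
      exact fun h => ha h.1
  rw [Finset.sum_congr rfl (fun a _ => h1 a), ← Finset.sum_filter, Finset.sum_const, smul_eq_mul]
  congr 1
  rw [Cfsg.Agent.H9.ClassSize.index_centralizer_eq_card_conj]
  symm
  apply Nat.subtype_card
  intro a
  simp

end Cfsg.Agent.H2.RobA
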