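import Mathlib
import Cfsg.Agent.H2.RobA4

/-!
# Piece A of S4443: Robinson's numbers modulo `p` (final statement)
-/

set_option autoImplicit false

namespace Cfsg.Agent.H2.RobA

open Finset Cfsg.Agent.Lib.Helper4.Rob
open scoped Classical

variable {G : Type*} [Group G]

theorem conj_mem_iff (S : Subgroup G) {s : G} (hs : s ∈ S) (u : G) :
    s * u * s⁻¹ ∈ S ↔ u ∈ S := by
  constructor
  · intro h'
    have := S.mul_mem (S.mul_mem (S.inv_mem hs) h') hs
    convert this using 1; group
  · intro h'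
    exact S.mul_mem (S.mul_mem hs h') (S.inv_mem hs)

/-- **Piece A**: for a good `x`, `ω_S(x, y) / p^(a-d) ≡ (|x^G| / p^(a-d)) · cnt(x, y)` modulo `p` -/
theorem omega_cast' [Finite G] (p : ℕ) [Fact p.Prime] (D : Subgroup G) (S : Sylow p G) (x y : G)
    (hx : Good p D x) :
    ((omega (S : Subgroup G) x y / p ^ ad p D : ℕ) : ZMod p) =
      (((Subgroup.centralizer ({x} : Set G)).index / p ^ ad p D : ℕ) : ZMod p) *
        ((cnt p x y : ℕ) : ZMod p) := by
  haveI : Fintype G := Fintype.ofFinite G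
  have hp := (Fact.out : p.Prime)
  rw [ad_eq p D x hx]
  set I := (Subgroup.centralizer ({x} : Set G)).index with hI
  set q := p ^ I.factorization p with hq
  have hqpos : 0 < q := pow_pos hp.pos _
  have hqI : q ∣ I := Nat.ordProj_dvd I p
  have hconj : ∀ (s : G) (yz : G × G),
      s * yz.2 * s⁻¹ * (s * yz.1 * s⁻¹)⁻¹ = s * (yz.2 * yz.1⁻¹) * s⁻¹ := by
    intro s yz; group
  have hqω : q ∣ omega (S : Subgroup G) x y := by
    rw [omega_eq_sum]
    apply dvd_sum_pairs p S x
    · intro s hs yz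
      simp only
      rw [hconj]
      exact if_congr (and_congr (isConj_conj_iff _ _ _) (and_congr (isConj_conj_iff _ _ _)
        (conj_mem_iff (S : Subgroup G) hs _))) rfl rfl
    · intro yz h0
      by_contra hc
      apply h0
      rw [if_neg]
      exact fun h => hc h.1
  have hqf2 : q ∣ ∑ yz : G × G,
      (if (IsConj x yz.1 ∧ IsConj y yz.2) then nSyl p (yz.2 * yz.1⁻¹) / p else 0) := by
    apply dvd_sum_pairs p S x
    · intro s hs yz
      simp only
      rw [hconj, nSyl_conj]
      exact if_congr (and_congr (isConj_conj_iff _ _ _) (isConj_conj_iff _ _ _)) rfl rfl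
    · intro yz h0
      by_contra hc
      apply h0
      rw [if_neg]
      exact fun h => hc h.1
  have hmain : Nat.card (Sylow p G) * omega (S : Subgroup G) x y =
      I * cnt p x y + p * ∑ yz : G × G,
        (if (IsConj x yz.1 ∧ IsConj y yz.2) then nSyl p (yz.2 * yz.1⁻¹) / p else 0) := by
    rw [card_sylow_mul_omega, ← sum_pEl, Finset.mul_sum, ← Finset.sum_add_distrib]
    apply Finset.sum_congr rfl
    intro yz _
    by_cases h : IsConj x yz.1 ∧ IsConj y yz.2
    · have e := nSyl_eq p (yz.2 * yz.1⁻¹)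
      have hiff : (IsConj x yz.1 ∧ IsConj y yz.2 ∧ ∃ k : ℕ, orderOf (yz.2 * yz.1⁻¹) = p ^ k) ↔
          ∃ k : ℕ, orderOf (yz.2 * yz.1⁻¹) = p ^ k :=
        ⟨fun h' => h'.2.2, fun h' => ⟨h.1, h.2, h'⟩⟩
      rw [if_pos h, if_pos h, if_congr hiff rfl rfl]
      exact e
    · rw [if_neg h, if_neg h, if_neg (fun h' => h ⟨h'.1, h'.2.1⟩), mul_zero, add_zero]
  obtain ⟨w, hw⟩ := hqω
  obtain ⟨m, hm⟩ := hqf2
  obtain ⟨k, hk⟩ := hqI
  rw [hw, hm, hk] at hmain
  have heq : Nat.card (Sylow p G) * w = k * cnt p x y + p * m := by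
    apply Nat.eq_of_mul_eq_mul_left hqpos
    calc q * (Nat.card (Sylow p G) * w) = Nat.card (Sylow p G) * (q * w) := by ring
      _ = q * k * cnt p x y + p * (q * m) := hmain
      _ = q * (k * cnt p x y + p * m) := by ring
  rw [hw, hk, Nat.mul_div_cancel_left _ hqpos, Nat.mul_div_cancel_left _ hqpos]
  have hN : ((Nat.card (Sylow p G) : ℕ) : ZMod p) = 1 := by
    have := card_sylow_modEq_one p G
    rw [← ZMod.natCast_eq_natCast_iff] at this
    simpa using this
  have := congrArg (Nat.cast : ℕ → ZMod p) heq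
  push_cast at this
  rw [hN, one_mul] at this
  rw [this]
  simp

/-- **Piece A** in the requested form -/
theorem omega_cast [Finite G] (p : ℕ) [Fact p.Prime] (D : Subgroup G) [D.Normal]
    (_hD : IsPGroup p D) (S : Sylow p G) (x y : G) (hx : Good p D x) (_hy : Good p D y) :
    ((omega (S : Subgroup G) x y / p ^ ad p D : ℕ) : ZMod p) =
      (((Subgroup.centralizer ({x} : Set G)).index / p ^ ad p D : ℕ) : ZMod p) *
        ((cnt p x y : ℕ) : ZMod p) :=
  omega_cast' p D S x y hx

end Cfsg.Agent.H2.RobA
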