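import Mathlib
import Cfsg.Agent.H2.RobA5

/-!
# Piece A of S4443: the `p'`-part of the class size
-/

set_option autoImplicit false

namespace Cfsg.Agent.H2.RobA

open Cfsg.Agent.Lib.Helper4.Rob

variable {G : Type*} [Group G]

/-- for a good `x` the number `|x^G| / p^(a-d)` is prime to `p` -/
theorem not_dvd_index_div [Finite G] (p : ℕ) [Fact p.Prime] (D : Subgroup G) (x : G)
    (hx : Good p D x) : ¬ p ∣ (Subgroup.centralizer ({x} : Set G)).index / p ^ ad p D := by
  rw [ad_eq p D x hx]
  exact Nat.not_dvd_ordCompl (Fact.out : p.Prime) Subgroup.index_ne_zero_of_finite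

/-- for a good `x` the number `p^(a-d)` divides `|x^G|` -/
theorem pow_ad_dvd_index [Finite G] (p : ℕ) [Fact p.Prime] (D : Subgroup G) (x : G)
    (hx : Good p D x) : p ^ ad p D ∣ (Subgroup.centralizer ({x} : Set G)).index := by
  rw [ad_eq p D x hx]
  exact Nat.ordProj_dvd _ p

/-- `p^(a-d)` divides Robinson's number `ω_S(x, y)` for a good `x` -/
theorem pow_ad_dvd_omega [Finite G] (p : ℕ) [Fact p.Prime] (D : Subgroup G) (S : Sylow p G)
    (x y : G) (hx : Good p D x) : p ^ ad p D ∣ omega (S : Subgroup G) x y := by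
  classical
  haveI : Fintype G := Fintype.ofFinite G
  rw [ad_eq p D x hx, omega_eq_sum]
  apply dvd_sum_pairs p S x
  · intro s hs yz
    have hconj : s * yz.2 * s⁻¹ * (s * yz.1 * s⁻¹)⁻¹ = s * (yz.2 * yz.1⁻¹) * s⁻¹ := by group
    simp only
    rw [hconj]
    exact if_congr (and_congr (isConj_conj_iff _ _ _) (and_congr (isConj_conj_iff _ _ _)
      (conj_mem_iff (S : Subgroup G) hs _))) rfl rfl
  · intro yz h0
    by_contra hc
    apply h0
    rw [if_neg]
    exact fun h => hc h.1

end Cfsg.Agent.H2.RobA
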