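import Mathlib
import Cfsg.Agent.Lib.Helper4.RobDefs
import Cfsg.Agent.Lib.Helper4.PSepQuot

/-!
# Piece C of S4443: passing to the quotient by the normal defect group
-/

set_option autoImplicit false
set_option linter.unusedSectionVars false

namespace Cfsg.Agent.H2.RobC

open Cfsg.Agent.Lib.Helper4.Rob Cfsg.Agent.Lib.Helper4.PSepQuot

variable {G : Type*} [Group G] [Finite G]

theorem orderOf_conj_eq (g a : G) : orderOf (g * a * g⁻¹) = orderOf a := by
  have := MulEquiv.orderOf_eq (MulAut.conj g) a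
  rwa [MulAut.conj_apply] at this

theorem orderOf_of_isConj {a b : G} (h : IsConj a b) : orderOf b = orderOf a := by
  obtain ⟨g, rfl⟩ := isConj_iff.1 h
  exact orderOf_conj_eq g a

/-- the key claim: a `p`-regular element is not conjugate to `b * u` for a `p`-regular `b` and a
nontrivial `p`-element `u` commuting with `b` -/
theorem eq_one_of_isConj_mul (p : ℕ) [hp : Fact p.Prime] (a b u : G) (ha : ¬ p ∣ orderOf a)
    (hb : ¬ p ∣ orderOf b) (hu : ∃ m : ℕ, orderOf u = p ^ m) (hc : b * u = u * b)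
    (h : IsConj a (b * u)) : u = 1 := by
  obtain ⟨m, hm⟩ := hu
  have h1 : orderOf (b * u) = orderOf a := orderOf_of_isConj h
  have hcop : Nat.Coprime (orderOf b) (orderOf u) := by
    rw [hm]
    exact Nat.Coprime.pow_right m ((Nat.Prime.coprime_iff_not_dvd hp.out).2 hb).symm
  have h2 : orderOf (b * u) = orderOf b * orderOf u :=
    (show Commute b u from hc).orderOf_mul_eq_mul_orderOf_of_coprime hcop
  rcases Nat.eq_zero_or_pos m with h0 | hpos
  · rw [h0, pow_zero, orderOf_eq_one_iff] at hm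
    exact hm
  · exfalso
    apply ha
    rw [← h1, h2, hm]
    exact Dvd.dvd.mul_left (dvd_pow_self p hpos.ne') _

section

variable (p : ℕ) [hp : Fact p.Prime] (D : Subgroup G)

theorem good_le_centralizer {y : G} (hy : Good p D y) :
    D ≤ Subgroup.centralizer ({y} : Set G) := by
  obtain ⟨-, S, hS⟩ := hy
  rw [← hS]
  exact Subgroup.map_subtype_le _

theorem good_commute {y : G} (hy : Good p D y) {u : G} (hu : u ∈ D) : y * u = u * y := by
  have := good_le_centralizer p D hy hu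
  rw [Subgroup.mem_centralizer_iff] at this
  exact this y rfl

variable [hDn : D.Normal]

theorem commute_of_isConj {y w : G} (hy : Good p D y) (hw : IsConj y w) {u : G} (hu : u ∈ D) :
    w * u = u * w := by
  obtain ⟨g, rfl⟩ := isConj_iff.1 hw
  have hu' : g⁻¹ * u * g ∈ D := by
    have := hDn.conj_mem u hu g⁻¹
    rwa [inv_inv] at this
  have h := good_commute p D hy hu'
  calc g * y * g⁻¹ * u = g * (y * (g⁻¹ * u * g)) * g⁻¹ := by group
    _ = g * ((g⁻¹ * u * g) * y) * g⁻¹ := by rw [h]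
    _ = u * (g * y * g⁻¹) := by group

/-- a conjugate of a `p`-regular `x` in the coset `w D`, `w` conjugate to the good `y`, is `w` -/
theorem eq_one_of_conj_eq (hDp : IsPGroup p D) {x y w : G} (hx : ¬ p ∣ orderOf x)
    (hy : Good p D y) (hw : IsConj y w) (g u : G) (hu : u ∈ D) (h : g * x * g⁻¹ = w * u) :
    u = 1 := by
  apply eq_one_of_isConj_mul p x w u hx
  · rw [orderOf_of_isConj hw]; exact hy.1
  · exact exists_orderOf_eq_of_mem p D hDp u hu
  · exact commute_of_isConj p D hy hw hu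
  · exact isConj_iff.2 ⟨g, h⟩

theorem conj_eq_of_mk_conj_eq (hDp : IsPGroup p D) {x y : G} (hx : ¬ p ∣ orderOf x)
    (hy : Good p D y) (c : G)
    (h : (c : G ⧸ D) * (x : G ⧸ D) * (c : G ⧸ D)⁻¹ = (y : G ⧸ D)) : c * x * c⁻¹ = y := by
  have h1 : ((c * x * c⁻¹ : G) : G ⧸ D) = (y : G ⧸ D) := by
    rw [QuotientGroup.mk_mul, QuotientGroup.mk_mul, QuotientGroup.mk_inv]
    exact h
  have h2 : y⁻¹ * (c * x * c⁻¹) ∈ D := QuotientGroup.eq.mp h1.symm
  have h3 : c * x * c⁻¹ = y * (y⁻¹ * (c * x * c⁻¹)) := by group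
  have h4 := eq_one_of_conj_eq p D hDp hx hy (IsConj.refl y) c _ h2 h3
  rw [h4, mul_one] at h3
  exact h3

/-- **piece C (iii)** -/
theorem isConj_of_isConj_quot (hD : IsPGroup p D) (x y : G) (hx : Good p D x) (hy : Good p D y)
    (h : IsConj (x : G ⧸ D) (y : G ⧸ D)) : IsConj x y := by
  obtain ⟨c', hc'⟩ := isConj_iff.mp h
  obtain ⟨c, rfl⟩ := QuotientGroup.mk_surjective c'
  exact isConj_iff.mpr ⟨c, conj_eq_of_mk_conj_eq p D hD hx.1 hy c hc'⟩

/-- **piece C (ii)** -/
theorem not_dvd_card_centralizer_quot (hD : IsPGroup p D) (y : G) (hy : Good p D y) :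
    ¬ p ∣ Nat.card ↥(Subgroup.centralizer ({(y : G ⧸ D)} : Set (G ⧸ D))) := by
  intro hdvd
  obtain ⟨z', hz'⟩ := exists_prime_orderOf_dvd_card' p hdvd
  obtain ⟨z, hzq⟩ := QuotientGroup.mk_surjective (z' : G ⧸ D)
  have hz'c : (z' : G ⧸ D) * (y : G ⧸ D) = (y : G ⧸ D) * (z' : G ⧸ D) := by
    have := z'.2
    rw [Subgroup.mem_centralizer_iff] at this
    exact (this _ rfl).symm
  have hzc : z * y * z⁻¹ = y := by
    apply conj_eq_of_mk_conj_eq p D hD hy.1 hy z
    rw [hzq, hz'c, mul_inv_cancel_right]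
  have hzC : z ∈ Subgroup.centralizer ({y} : Set G) := by
    rw [Subgroup.mem_centralizer_iff]
    intro h hh
    rw [Set.mem_singleton_iff] at hh
    rw [hh]
    have : y * z = z * y * z⁻¹ * z := by rw [hzc]
    rw [this]; group
  have hzo : orderOf (z : G ⧸ D) = p := by
    rw [hzq, Subgroup.orderOf_coe]; exact hz'
  have hzD : z ∉ D := by
    intro h
    have : (z : G ⧸ D) = 1 := (QuotientGroup.eq_one_iff z).mpr h
    rw [this, orderOf_one] at hzo
    exact hp.out.one_lt.ne hzo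
  have hzpD : z ^ p ∈ D := by
    rw [← QuotientGroup.eq_one_iff, QuotientGroup.mk_pow, ← hzo]
    exact pow_orderOf_eq_one _
  obtain ⟨m, hm⟩ := exists_orderOf_eq_of_mem p D hD _ hzpD
  have hzm : z ^ (p ^ (m + 1)) = 1 := by
    rw [pow_succ, mul_comm, pow_mul, ← hm]
    exact pow_orderOf_eq_one _
  have hzP : IsPGroup p (Subgroup.zpowers z) := by
    obtain ⟨n, hn⟩ := exists_orderOf_eq_of_pow p z (m + 1) hzm
    apply IsPGroup.of_card (n := n)
    rw [Nat.card_zpowers, hn]
  have hQp : IsPGroup p (D ⊔ Subgroup.zpowers z : Subgroup G) :=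
    IsPGroup.to_sup_of_normal_left hD hzP
  have hDC := good_le_centralizer p D hy
  have hQC : (D ⊔ Subgroup.zpowers z : Subgroup G) ≤ Subgroup.centralizer ({y} : Set G) := by
    apply sup_le hDC
    rw [Subgroup.zpowers_le]
    exact hzC
  obtain ⟨-, S, hS⟩ := hy
  have hSQ : (S : Subgroup ↥(Subgroup.centralizer ({y} : Set G))) ≤
      (D ⊔ Subgroup.zpowers z : Subgroup G).subgroupOf (Subgroup.centralizer ({y} : Set G)) := by
    intro s hs
    rw [Subgroup.mem_subgroupOf]
    apply (le_sup_left : D ≤ D ⊔ Subgroup.zpowers z)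
    rw [← hS]
    exact Subgroup.mem_map_of_mem _ hs
  have hQp' : IsPGroup p ((D ⊔ Subgroup.zpowers z : Subgroup G).subgroupOf
      (Subgroup.centralizer ({y} : Set G))) :=
    hQp.comap_subtype
  have hEq := S.is_maximal' hQp' hSQ
  have hzS : (⟨z, hzC⟩ : ↥(Subgroup.centralizer ({y} : Set G))) ∈
      (S : Subgroup ↥(Subgroup.centralizer ({y} : Set G))) := by
    rw [← hEq, Subgroup.mem_subgroupOf]
    exact (le_sup_right : Subgroup.zpowers z ≤ D ⊔ Subgroup.zpowers z) (Subgroup.mem_zpowers z)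
  apply hzD
  rw [← hS]
  exact ⟨⟨z, hzC⟩, hzS, rfl⟩

end

end Cfsg.Agent.H2.RobC
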