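import Mathlib
import Cfsg.Agent.H2.RobC1

/-!
# Piece C (i) of S4443: the count `cnt` in the quotient by the normal defect group
-/

set_option autoImplicit false
set_option linter.unusedSectionVars false

namespace Cfsg.Agent.H2.RobC

open Cfsg.Agent.Lib.Helper4.Rob Cfsg.Agent.Lib.Helper4.PSepQuot

variable {G : Type*} [Group G] [Finite G]

variable (p : ℕ) [hp : Fact p.Prime] (D : Subgroup G) [hDn : D.Normal]

/-- images of `p`-elements are `p`-elements -/
theorem isPEl_mk {t : G} (ht : ∃ k : ℕ, orderOf t = p ^ k) :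
    ∃ k : ℕ, orderOf (t : G ⧸ D) = p ^ k := by
  obtain ⟨k, hk⟩ := ht
  have h1 : orderOf (t : G ⧸ D) ∣ p ^ k := by
    rw [← hk]
    exact orderOf_map_dvd (QuotientGroup.mk' D) t
  obtain ⟨j, -, hj⟩ := (Nat.dvd_prime_pow hp.out).mp h1
  exact ⟨j, hj⟩

/-- preimages of `p`-elements are `p`-elements -/
theorem isPEl_of_mk (hD : IsPGroup p D) {t : G} (ht : ∃ k : ℕ, orderOf (t : G ⧸ D) = p ^ k) :
    ∃ k : ℕ, orderOf t = p ^ k := by
  obtain ⟨k, hk⟩ := ht
  have htD : t ^ (p ^ k) ∈ D := by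
    rw [← QuotientGroup.eq_one_iff, QuotientGroup.mk_pow, ← hk]
    exact pow_orderOf_eq_one _
  obtain ⟨m, hm⟩ := exists_orderOf_eq_of_mem p D hD _ htD
  have htm : t ^ (p ^ (k + m)) = 1 := by
    rw [pow_add, pow_mul, ← hm]
    exact pow_orderOf_eq_one _
  exact exists_orderOf_eq_of_pow p t (k + m) htm

/-- **piece C (i)** -/
theorem cnt_quot (hD : IsPGroup p D) (x y : G) (_hx : Good p D x) (hy : Good p D y) :
    cnt p (x : G ⧸ D) (y : G ⧸ D) = cnt p x y := by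
  unfold cnt
  symm
  let f : {t : G // (∃ k : ℕ, orderOf t = p ^ k) ∧ IsConj y (t * x)} →
      {t : G ⧸ D // (∃ k : ℕ, orderOf t = p ^ k) ∧ IsConj (y : G ⧸ D) (t * (x : G ⧸ D))} :=
    fun t => ⟨((t : G) : G ⧸ D), isPEl_mk p D t.2.1, by
      have := MonoidHom.map_isConj (QuotientGroup.mk' D) t.2.2
      simpa using this⟩
  have hfinj : Function.Injective f := by
    rintro ⟨t, ht1, ht2⟩ ⟨t', ht1', ht2'⟩ h
    have h' : ((t : G) : G ⧸ D) = ((t' : G) : G ⧸ D) := congrArg Subtype.val h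
    apply Subtype.ext
    show t = t'
    -- `t' = t * u` with `u ∈ D`
    have hu : t⁻¹ * t' ∈ D := QuotientGroup.eq.mp h'
    -- `t' * x = (t * x) * (x⁻¹ * u * x)`
    set w := t * x with hw
    have hu' : x⁻¹ * (t⁻¹ * t') * x ∈ D := by
      have := hDn.conj_mem _ hu x⁻¹
      rwa [inv_inv] at this
    have e : t' * x = w * (x⁻¹ * (t⁻¹ * t') * x) := by rw [hw]; group
    obtain ⟨g, hg⟩ := isConj_iff.1 ht2'
    have h1 := eq_one_of_conj_eq p D hD hy.1 hy ht2 g _ hu' (hg.trans e)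
    have h2 : t⁻¹ * t' = 1 := by
      have : t⁻¹ * t' = x * (x⁻¹ * (t⁻¹ * t') * x) * x⁻¹ := by group
      rw [this, h1]; group
    exact (inv_mul_eq_one.1 h2)
  have hfsurj : Function.Surjective f := by
    rintro ⟨t', ht1', ht2'⟩
    obtain ⟨c', hc'⟩ := isConj_iff.1 ht2'
    obtain ⟨c, rfl⟩ := QuotientGroup.mk_surjective c'
    set w := c * y * c⁻¹ with hw
    have hwq : ((w : G) : G ⧸ D) = t' * (x : G ⧸ D) := by
      rw [hw, QuotientGroup.mk_mul, QuotientGroup.mk_mul, QuotientGroup.mk_inv]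
      exact hc'
    have htq : (((w * x⁻¹ : G)) : G ⧸ D) = t' := by
      rw [QuotientGroup.mk_mul, QuotientGroup.mk_inv, hwq, mul_inv_cancel_right]
    refine ⟨⟨w * x⁻¹, isPEl_of_mk p D hD (by rw [htq]; exact ht1'), ?_⟩, ?_⟩
    · rw [inv_mul_cancel_right]
      exact isConj_iff.2 ⟨c, rfl⟩
    · apply Subtype.ext
      exact htq
  exact Nat.card_congr (Equiv.ofBijective f ⟨hfinj, hfsurj⟩)

end Cfsg.Agent.H2.RobC
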