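import Mathlib
import Cfsg.Prelude.Def_RootSubgroups
import Cfsg.Agent.H1.Cores
import Cfsg.Agent.H1.InvolOdd

/-! Root involutions (Timmesfeld): the key local lemma on four-groups `{1, a, c, ac} ⊆ D ∪ {1}`
and the components of the graph of odd-order products (helper2). -/

set_option autoImplicit false
set_option linter.unusedSectionVars false

namespace Cfsg.Agent.H2.RootInv

open Cfsg

variable {G : Type*} [Group G] {D : Set G}

theorem mul_self_of_mem (hD : IsRootInvolutionSet D) {d : G} (hd : d ∈ D) : d * d = 1 := by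
  have := hD.orderOf_eq d hd
  rw [← pow_two, ← this, pow_orderOf_eq_one]

theorem inv_eq_of_mem (hD : IsRootInvolutionSet D) {d : G} (hd : d ∈ D) : d⁻¹ = d :=
  inv_eq_of_mul_eq_one_left (mul_self_of_mem hD hd)

theorem ne_one_of_mem (hD : IsRootInvolutionSet D) {d : G} (hd : d ∈ D) : d ≠ 1 := by
  intro h
  have := hD.orderOf_eq d hd
  rw [h, orderOf_one] at this
  omega

theorem conj_mem' (hD : IsRootInvolutionSet D) {d e : G} (hd : d ∈ D) (he : e ∈ D) :
    e * d * e ∈ D := by
  have := hD.conj_mem d hd e
  rwa [inv_eq_of_mem hD he] at this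


/-- two involutions whose product squares to one commute -/
theorem comm_of_sq {u v : G} (hu : u * u = 1) (hv : v * v = 1) (h : (u * v) * (u * v) = 1) :
    u * v = v * u := by
  have h1 : u * v = (u * v)⁻¹ := eq_inv_of_mul_eq_one_left h
  rw [mul_inv_rev, inv_eq_of_mul_eq_one_left hv, inv_eq_of_mul_eq_one_left hu] at h1
  exact h1

/-- an element of odd order whose `2^k`-th power is trivial is trivial -/
theorem eq_one_of_odd_of_pow {y : G} (hy : Odd (orderOf y)) {k : ℕ} (h : y ^ (2 ^ k) = 1) : y = 1 := by
  have h1 : orderOf y ∣ 2 ^ k := orderOf_dvd_of_pow_eq_one h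
  have hcop : Nat.Coprime (orderOf y) (2 ^ k) := by
    apply Nat.Coprime.pow_right
    exact Nat.coprime_two_right.mpr hy
  have : orderOf y = 1 := Nat.Coprime.eq_one_of_dvd hcop h1
  exact orderOf_eq_one_iff.mp this

/-- the product of two members of `D` is never `c * y` with `c` an involution commuting with the
nontrivial element `y` of odd order -/
theorem pair_false (hD : IsRootInvolutionSet D) {u v c y : G} (hu : u ∈ D) (hv : v ∈ D)
    (huv : u * v = c * y) (hc2 : c * c = 1) (hc1 : c ≠ 1) (hcy : c * y = y * c)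
    (hy : Odd (orderOf y)) (hy1 : y ≠ 1) : False := by
  have hoc : orderOf c = 2 := by
    apply orderOf_eq_prime
    · rw [pow_two]; exact hc2
    · exact hc1
  have hcop : Nat.Coprime (orderOf c) (orderOf y) := by
    rw [hoc]; exact Nat.coprime_two_left.mpr hy
  have hord : orderOf (c * y) = 2 * orderOf y := by
    have := Commute.orderOf_mul_eq_mul_orderOf_of_coprime (show Commute c y from hcy) hcop
    rw [this, hoc]
  have hn1 : orderOf y ≠ 1 := fun h => hy1 (orderOf_eq_one_iff.mp h)
  obtain ⟨k, hk⟩ := hy
  rcases hD.pair u hu v hv with h | h | h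
  · have h2 : (u * v) ^ 2 = 1 := by
      rw [pow_two]
      calc u * v * (u * v) = u * (v * u) * v := by group
        _ = u * (u * v) * v := by rw [h]
        _ = (u * u) * (v * v) := by group
        _ = 1 := by rw [mul_self_of_mem hD hu, mul_self_of_mem hD hv, one_mul]
    have := orderOf_dvd_of_pow_eq_one h2
    rw [huv, hord] at this
    have := Nat.le_of_dvd (by norm_num) this
    omega
  · rw [huv, hord] at h
    obtain ⟨j, hj⟩ := h
    omega
  · rw [huv, hord] at h
    omega

/-- for `z` a product of two members of `D`: `z ^ 4 = 1` or `z` is nontrivial of odd order -/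
theorem pow_four_or_odd (hD : IsRootInvolutionSet D) {u v : G} (hu : u ∈ D) (hv : v ∈ D) :
    (u * v) ^ 4 = 1 ∨ (Odd (orderOf (u * v)) ∧ u * v ≠ 1) := by
  rcases hD.pair u hu v hv with h | h | h
  · left
    have h2 : (u * v) ^ 2 = 1 := by
      rw [pow_two]
      calc u * v * (u * v) = u * (v * u) * v := by group
        _ = u * (u * v) * v := by rw [h]
        _ = (u * u) * (v * v) := by group
        _ = 1 := by rw [mul_self_of_mem hD hu, mul_self_of_mem hD hv, one_mul]
    rw [show 4 = 2 * 2 from rfl, pow_mul, h2, one_pow]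
  · by_cases h1 : u * v = 1
    · left; rw [h1, one_pow]
    · right; exact ⟨h, h1⟩
  · left
    rw [← h.1, pow_orderOf_eq_one]

/-- **Key lemma.** If `a, c, a c ∈ D` with `a c = c a` and `e ∈ D` has `o(a e)` odd, `≠ 1`, then
`o(c e)` is odd or `o(a c e)` is odd. -/
theorem key (hD : IsRootInvolutionSet D) {a c e : G} (ha : a ∈ D) (hc : c ∈ D) (he : e ∈ D)
    (hac : a * c = c * a) (hd : a * c ∈ D) (hae : Odd (orderOf (a * e))) (hae1 : a * e ≠ 1) :
    Odd (orderOf (c * e)) ∨ Odd (orderOf (a * c * e)) := by
  have haa := mul_self_of_mem hD ha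
  have hcc := mul_self_of_mem hD hc
  have hee := mul_self_of_mem hD he
  have hc1 := ne_one_of_mem hD hc
  -- `d = a * c`
  obtain ⟨d, hd_def⟩ : ∃ d, d = a * c := ⟨_, rfl⟩
  rw [← hd_def] at hd ⊢
  have hdd := mul_self_of_mem hD hd
  have hd1 := ne_one_of_mem hD hd
  have hda : d * a = a * d := by
    rw [hd_def]
    calc a * c * a = a * (c * a) := by group
      _ = a * (a * c) := by rw [hac]
  have hdc : d * c = c * d := by
    rw [hd_def]
    calc a * c * c = (c * a) * c := by rw [hac]
      _ = c * (a * c) := by group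
  have hadc : a * d = c := by
    rw [hd_def]
    calc a * (a * c) = (a * a) * c := by group
      _ = c := by rw [haa, one_mul]
  have hdc_a : d * c = a := by
    rw [hd_def]
    calc a * c * c = a * (c * c) := by group
      _ = a := by rw [hcc, mul_one]
  rcases hD.pair c hc e he with hce | hce | hce
  · -- `c e = e c`: then `d e = c (a e)` has order `2 m`
    exfalso
    apply pair_false hD hd he (c := c) (y := a * e) _ hcc hc1 _ hae hae1
    · rw [hd_def, hac]; group
    · calc c * (a * e) = (c * a) * e := by group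
        _ = (a * c) * e := by rw [hac]
        _ = a * (c * e) := by group
        _ = a * (e * c) := by rw [hce]
        _ = a * e * c := by group
  · left; exact hce
  rcases hD.pair d hd e he with hde | hde | hde
  · -- `d e = e d`: then `c e = d (a e)` has order `2 m`
    exfalso
    apply pair_false hD hc he (c := d) (y := a * e) _ hdd hd1 _ hae hae1
    · rw [← hadc, ← hda]; group
    · calc d * (a * e) = (d * a) * e := by group
        _ = (a * d) * e := by rw [hda]
        _ = a * (d * e) := by group
        _ = a * (e * d) := by rw [hde]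
        _ = a * e * d := by group
  · right; exact hde
  -- both products have order 4
  exfalso
  obtain ⟨hce4, hf⟩ := hce
  obtain ⟨hde4, hg⟩ := hde
  set c' := e * c * e with hc'_def
  set d' := e * d * e with hd'_def
  have hc'D : c' ∈ D := conj_mem' hD hc he
  have hd'D : d' ∈ D := conj_mem' hD hd he
  have hf_eq : (c * e) ^ 2 = c * c' := by rw [pow_two, hc'_def]; group
  have hg_eq : (d * e) ^ 2 = d * d' := by rw [pow_two, hd'_def]; group
  have hc'c' := mul_self_of_mem hD hc'D
  have hd'd' := mul_self_of_mem hD hd'D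
  -- `c c' = c' c`
  have hcc' : c * c' = c' * c := by
    have h4 : (c * e) ^ 4 = 1 := by rw [← hce4, pow_orderOf_eq_one]
    have h5 : (c * c') * (c * c') = 1 := by
      rw [← hf_eq, ← pow_two, ← pow_mul]; exact h4
    exact comm_of_sq hcc hc'c' h5
  have hdd' : d * d' = d' * d := by
    have h4 : (d * e) ^ 4 = 1 := by rw [← hde4, pow_orderOf_eq_one]
    have h5 : (d * d') * (d * d') = 1 := by
      rw [← hg_eq, ← pow_two, ← pow_mul]; exact h4
    exact comm_of_sq hdd hd'd' h5
  have hcd : c * d = d * c := hdc.symm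
  have hc'd' : c' * d' = d' * c' := by
    rw [hc'_def, hd'_def]
    calc e * c * e * (e * d * e) = e * c * (e * e) * d * e := by group
      _ = e * (c * d) * e := by rw [hee]; group
      _ = e * (d * c) * e := by rw [hcd]
      _ = e * d * (e * e) * c * e := by rw [hee]; group
      _ = e * d * e * (e * c * e) := by group
  -- `x = c d'`, `y = d c'` commute and `(a e)^2 = x y`
  have hxy : (c * d') * (d * c') = (d * c') * (c * d') := by
    calc c * d' * (d * c') = c * (d' * d) * c' := by group
      _ = c * (d * d') * c' := by rw [hdd']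
      _ = (c * d) * (d' * c') := by group
      _ = (d * c) * (c' * d') := by rw [hcd, hc'd']
      _ = d * (c * c') * d' := by group
      _ = d * (c' * c) * d' := by rw [hcc']
      _ = (d * c') * (c * d') := by group
  have hsig : (a * e) ^ 2 = (c * d') * (d * c') := by
    rw [pow_two]
    calc a * e * (a * e) = a * (e * a * e) := by group
      _ = (d * c) * (e * (d * c) * e) := by rw [hdc_a]
      _ = (d * c) * (e * d * (e * e) * c * e) := by rw [hee]; group
      _ = (d * c) * ((e * d * e) * (e * c * e)) := by group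
      _ = (c * d) * (d' * c') := by rw [hcd]
      _ = c * (d * d') * c' := by group
      _ = c * (d' * d) * c' := by rw [hdd']
      _ = (c * d') * (d * c') := by group
  rcases pow_four_or_odd hD hd hc'D with hy | hy
  · rcases pow_four_or_odd hD hc hd'D with hx | hx
    · -- `(a e)^8 = 1`
      have h8 : (a * e) ^ (2 ^ 3) = 1 := by
        rw [show 2 ^ 3 = 2 * 4 from rfl, pow_mul, hsig, (show Commute (c * d') (d * c') from hxy).mul_pow,
          hx, hy, one_mul]
      exact hae1 (eq_one_of_odd_of_pow hae h8)
    · -- `x` odd: `c * g = d * x`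
      apply pair_false hD hc hg (c := d) (y := c * d') _ hdd hd1 _ hx.1 hx.2
      · rw [hg_eq]
        calc c * (d * d') = (c * d) * d' := by group
          _ = (d * c) * d' := by rw [hcd]
          _ = d * (c * d') := by group
      · calc d * (c * d') = (d * c) * d' := by group
          _ = (c * d) * d' := by rw [hcd]
          _ = c * (d * d') := by group
          _ = c * (d' * d) := by rw [hdd']
          _ = c * d' * d := by group
  · -- `y` odd: `d * f = c * y`
    apply pair_false hD hd hf (c := c) (y := d * c') _ hcc hc1 _ hy.1 hy.2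
    · rw [hf_eq]
      calc d * (c * c') = (d * c) * c' := by group
        _ = (c * d) * c' := by rw [hcd]
        _ = c * (d * c') := by group
    · calc c * (d * c') = (c * d) * c' := by group
        _ = (d * c) * c' := by rw [hcd]
        _ = d * (c * c') := by group
        _ = d * (c' * c) := by rw [hcc']
        _ = d * c' * c := by group

/-! ### the graph of odd-order products -/

theorem oddAdj_symm (hD : IsRootInvolutionSet D) {a b : G} (h : OddAdj D a b) : OddAdj D b a := by
  obtain ⟨ha, hb, hne, hodd⟩ := h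
  refine ⟨hb, ha, hne.symm, ?_⟩
  have : b * a = (a * b)⁻¹ := by
    rw [mul_inv_rev, inv_eq_of_mem hD ha, inv_eq_of_mem hD hb]
  rw [this, orderOf_inv]
  exact hodd

theorem reach_symm (hD : IsRootInvolutionSet D) {a b : G}
    (h : Relation.ReflTransGen (OddAdj D) a b) : Relation.ReflTransGen (OddAdj D) b a := by
  induction h with
  | refl => exact Relation.ReflTransGen.refl
  | tail _ hbc ih => exact Relation.ReflTransGen.head (oddAdj_symm hD hbc) ih

theorem mul_ne_one_of_oddAdj (hD : IsRootInvolutionSet D) {a e : G} (h : OddAdj D a e) :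
    a * e ≠ 1 := by
  intro h1
  apply h.2.2.1
  have := eq_inv_of_mul_eq_one_left h1
  rwa [inv_eq_of_mem hD h.2.1] at this

/-- `a` and `e` do not commute if `o(a e)` is odd and `a ≠ e` -/
theorem not_comm_of_oddAdj (hD : IsRootInvolutionSet D) {a e : G} (h : OddAdj D a e) :
    a * e ≠ e * a := by
  intro hc
  have h2 : (a * e) ^ 2 ^ 1 = 1 := by
    rw [pow_one, pow_two]
    calc a * e * (a * e) = a * (e * a) * e := by group
      _ = a * (a * e) * e := by rw [hc]
      _ = (a * a) * (e * e) := by group
      _ = 1 := by rw [mul_self_of_mem hD h.1, mul_self_of_mem hD h.2.1, one_mul]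
  exact mul_ne_one_of_oddAdj hD h (eq_one_of_odd_of_pow h.2.2.2 h2)

/-- a non-isolated `a` with a product partner `c`: `c` or `c a` is joined to each neighbour of `a` -/
theorem oddAdj_of_partner (hD : IsRootInvolutionSet D) {a c e : G} (hae : OddAdj D a e)
    (hc : c ∈ productPartners D a) : OddAdj D c e ∨ OddAdj D (c * a) e := by
  obtain ⟨⟨hcD, hca, hne⟩, hcaD⟩ := hc
  have ha := hae.1
  have he := hae.2.1
  have hnc := not_comm_of_oddAdj hD hae
  have hac : a * c = c * a := hca.symm
  have hd : a * c ∈ D := by rw [hac]; exact hcaD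
  rcases key hD ha hcD he hac hd hae.2.2.2 (mul_ne_one_of_oddAdj hD hae) with h | h
  · left
    refine ⟨hcD, he, ?_, h⟩
    intro hce
    apply hnc
    rw [← hce]; exact hac
  · right
    refine ⟨hcaD, he, ?_, ?_⟩
    · intro hce
      apply hnc
      rw [← hce]
      calc a * (c * a) = a * (a * c) := by rw [hac]
        _ = (a * a) * c := by group
        _ = c := by rw [mul_self_of_mem hD ha, one_mul]
        _ = c * (a * a) := by rw [mul_self_of_mem hD ha, mul_one]
        _ = c * a * a := by group
    · rw [← hac]; exact h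

theorem reach_of_partner (hD : IsRootInvolutionSet D) {a c e : G} (hae : OddAdj D a e)
    (hc : c ∈ productPartners D a) :
    Relation.ReflTransGen (OddAdj D) a c ∨ Relation.ReflTransGen (OddAdj D) a (c * a) := by
  rcases oddAdj_of_partner hD hae hc with h | h
  · left
    exact (Relation.ReflTransGen.single hae).tail (oddAdj_symm hD h)
  · right
    exact (Relation.ReflTransGen.single hae).tail (oddAdj_symm hD h)

/-- a member of a component with more than one member has a neighbour -/
theorem exists_oddAdj_of_component {a : G}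
    (h : ∃ a' ∈ elemComponentOf (OddAdj D) D a, a' ≠ a) : ∃ e, OddAdj D a e := by
  obtain ⟨a', ha', hne⟩ := h
  rcases Relation.ReflTransGen.cases_head ha'.2 with h1 | ⟨e, he, _⟩
  · exact absurd h1.symm hne
  · exact ⟨e, he⟩

/-- a non-isolated member of `D` has a neighbour -/
theorem exists_oddAdj_of_not_isolated (hD : IsRootInvolutionSet D) {c : G} (hc : c ∈ D)
    (h : ¬ IsIsolatedElem (OddAdj D) D c) : ∃ e, OddAdj D c e := by
  by_contra hno
  push Not at hno
  apply h
  refine ⟨hc, fun b => ⟨hno b, fun hb => hno b (oddAdj_symm hD hb)⟩⟩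

/-- **(3)** product partners of a non-isolated `a` lie in the component of `a` or are isolated -/
theorem partner_mem (hD : IsRootInvolutionSet D) {a c e : G} (hae : OddAdj D a e)
    (hc : c ∈ productPartners D a) :
    c ∈ elemComponentOf (OddAdj D) D a ∨ IsIsolatedElem (OddAdj D) D c := by
  by_cases hiso : IsIsolatedElem (OddAdj D) D c
  · right; exact hiso
  left
  have hcD : c ∈ D := hc.1.1
  refine ⟨hcD, ?_⟩
  by_contra hnr
  obtain ⟨e', he'⟩ := exists_oddAdj_of_not_isolated hD hcD hiso
  have ha : a ∈ productPartners D c := by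
    obtain ⟨⟨_, hca, hne⟩, hcaD⟩ := hc
    refine ⟨⟨hae.1, hca.symm, hne.symm⟩, ?_⟩
    rw [← hca]; exact hcaD
  have hca : c * a = a * c := hc.1.2.1
  rcases reach_of_partner hD hae hc with h1 | h1
  · exact hnr h1
  rcases reach_of_partner hD he' ha with h2 | h2
  · exact hnr (reach_symm hD h2)
  · rw [← hca] at h2
    exact hnr (h1.trans (reach_symm hD h2))

theorem isolated_conj (hD : IsRootInvolutionSet D) {w : G} (hw : IsIsolatedElem (OddAdj D) D w)
    (g : G) : IsIsolatedElem (OddAdj D) D (g * w * g⁻¹) := by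
  refine ⟨hD.conj_mem w hw.1 g, ?_⟩
  have key : ∀ b, ¬ OddAdj D (g * w * g⁻¹) b := by
    intro b hb
    apply (hw.2 (g⁻¹ * b * g)).1
    refine ⟨hw.1, ?_, ?_, ?_⟩
    · have := hD.conj_mem b hb.2.1 g⁻¹
      rwa [inv_inv] at this
    · intro h
      apply hb.2.2.1
      rw [h]; group
    · have e1 : w * (g⁻¹ * b * g) = g⁻¹ * (g * w * g⁻¹ * b) * g := by group
      have e2 : g⁻¹ * (g * w * g⁻¹ * b) * g = (MulAut.conj g⁻¹) (g * w * g⁻¹ * b) := by
        rw [MulAut.conj_apply, inv_inv]
      rw [e1, e2, MulEquiv.orderOf_eq]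
      exact hb.2.2.2
  intro b
  exact ⟨key b, fun hb => key b (oddAdj_symm hD hb)⟩

/-- **(1)** the isolated vertices lie in `O₂(G)` -/
theorem isolated_mem_pCore [Finite G] (hD : IsRootInvolutionSet D) {w : G}
    (hw : IsIsolatedElem (OddAdj D) D w) : w ∈ Cfsg.pCore 2 G := by
  by_contra hnot
  have hO : ∀ N : Subgroup G, N.Normal → IsPGroup 2 N → w ∉ N := by
    intro N hN hp hwN
    exact hnot (Cfsg.Agent.H1.le_pCore hN hp hwN)
  obtain ⟨h, h1, hodd, hinv⟩ := Cfsg.Agent.H1.invol_inverts_odd w (hD.orderOf_eq w hw.1) hO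
  -- `w' = h w h⁻¹` is joined to `w`
  apply (hw.2 (h * w * h⁻¹)).1
  have hww : w * w = 1 := mul_self_of_mem hD hw.1
  have hwinv : w⁻¹ = w := inv_eq_of_mem hD hw.1
  have hprod : w * (h * w * h⁻¹) = h⁻¹ * h⁻¹ := by
    calc w * (h * w * h⁻¹) = (w * h * w⁻¹) * h⁻¹ := by rw [hwinv]; group
      _ = h⁻¹ * h⁻¹ := by rw [hinv]
  have hodd2 : Odd (orderOf (h⁻¹ * h⁻¹)) := by
    have : h⁻¹ * h⁻¹ = (h⁻¹) ^ 2 := (pow_two _).symm
    rw [this]
    have hd : orderOf (h⁻¹ ^ 2) ∣ orderOf h := by
      rw [← orderOf_inv h]
      exact orderOf_pow_dvd 2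
    exact Odd.of_dvd_nat hodd hd
  have hne1 : h⁻¹ * h⁻¹ ≠ 1 := by
    intro h2
    apply h1
    have h3 : h ^ 2 ^ 1 = 1 := by
      rw [pow_one, pow_two]
      have : (h * h)⁻¹ = 1 := by rw [mul_inv_rev]; exact h2
      exact inv_eq_one.mp this
    exact eq_one_of_odd_of_pow hodd h3
  refine ⟨hw.1, hD.conj_mem w hw.1 h, ?_, ?_⟩
  · intro heq
    apply hne1
    rw [← hprod, ← heq, hww]
  · rw [hprod]; exact hodd2

end Cfsg.Agent.H2.RootInv
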