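import Mathlib
import Cfsg.Prelude.Def_RootSubgroups
import Cfsg.Agent.H2.RootInvA

/-! Root involutions with connected odd graph: `D` is a conjugacy class; normal subgroups containing
a nontrivial odd product `d e` (helper2). -/

set_option autoImplicit false
set_option linter.unusedSectionVars false

namespace Cfsg.Agent.H2.RootInv

open Cfsg

variable {G : Type*} [Group G] {D : Set G}

theorem pow_mul_comm_invol (a b : G) (j : ℕ) : (a * b) ^ j * a = a * (b * a) ^ j := by
  induction j with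
  | zero => simp
  | succ j ih =>
    calc (a * b) ^ (j + 1) * a = (a * b) ^ j * a * (b * a) := by rw [pow_succ]; group
      _ = a * (b * a) ^ j * (b * a) := by rw [ih]
      _ = a * (b * a) ^ (j + 1) := by rw [pow_succ]; group

/-- members of `D` joined in the odd graph are conjugate -/
theorem conj_of_oddAdj (hD : IsRootInvolutionSet D) {a b : G} (h : OddAdj D a b) :
    ∃ g : G, b = g * a * g⁻¹ := by
  obtain ⟨ha, hb, _, k, hk⟩ := h
  have haa := mul_self_of_mem hD ha
  have hbb := mul_self_of_mem hD hb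
  have hinv : (a * b)⁻¹ = b * a := by
    rw [mul_inv_rev, inv_eq_of_mem hD ha, inv_eq_of_mem hD hb]
  have h1 : (a * b) ^ (2 * k + 1) = 1 := by rw [← hk, pow_orderOf_eq_one]
  have h2 : (a * b) ^ (2 * k) = b * a := by
    rw [← hinv]
    apply eq_inv_of_mul_eq_one_left
    rw [← pow_succ]; exact h1
  refine ⟨(a * b) ^ k, ?_⟩
  have h3 : ((a * b) ^ k)⁻¹ = (b * a) ^ k := by rw [← inv_pow, hinv]
  rw [h3]
  calc b = (b * a) * a := by
        calc b = b * (a * a) := by rw [haa, mul_one]
          _ = (b * a) * a := by group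
    _ = (a * b) ^ (2 * k) * a := by rw [h2]
    _ = (a * b) ^ k * ((a * b) ^ k * a) := by rw [two_mul, pow_add]; group
    _ = (a * b) ^ k * (a * (b * a) ^ k) := by rw [pow_mul_comm_invol]
    _ = (a * b) ^ k * a * (b * a) ^ k := by group

theorem conj_of_reach (hD : IsRootInvolutionSet D) {a b : G}
    (h : Relation.ReflTransGen (OddAdj D) a b) : ∃ g : G, b = g * a * g⁻¹ := by
  induction h with
  | refl => exact ⟨1, by group⟩
  | tail _ hbc ih =>
    obtain ⟨g, hg⟩ := ih
    obtain ⟨g', hg'⟩ := conj_of_oddAdj hD hbc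
    refine ⟨g' * g, ?_⟩
    rw [hg', hg]; group

/-- (P1) -/
theorem conj_of_connected (hD : IsRootInvolutionSet D) (hc : IsConnectedSet (OddAdj D) D)
    {a b : G} (ha : a ∈ D) (hb : b ∈ D) : ∃ g : G, b = g * a * g⁻¹ :=
  conj_of_reach hD (hc a ha b hb)

/-- an element of odd order whose square lies in a subgroup lies in it -/
theorem mem_of_sq_mem_of_odd (N : Subgroup G) {u : G} (h : u * u ∈ N) (hodd : Odd (orderOf u)) :
    u ∈ N := by
  obtain ⟨j, hj⟩ := hodd
  have h1 : u = (u * u) ^ (j + 1) := by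
    have h2 : u ^ (2 * j + 1) = 1 := by rw [← hj, pow_orderOf_eq_one]
    calc u = u ^ (2 * j + 1) * u := by rw [h2, one_mul]
      _ = u ^ (2 * (j + 1)) := by rw [← pow_succ]; ring_nf
      _ = (u * u) ^ (j + 1) := by rw [pow_mul, pow_two]
  rw [h1]
  exact N.pow_mem h _

/-- a normal subgroup meeting `D` is everything (connected odd graph) -/
theorem eq_top_of_mem (hD : IsRootInvolutionSet D) (hc : IsConnectedSet (OddAdj D) D)
    (N : Subgroup G) [hN : N.Normal] {y : G} (hy : y ∈ D) (hyN : y ∈ N) : N = ⊤ := by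
  rw [eq_top_iff, ← hD.generates, Subgroup.closure_le]
  intro x hx
  obtain ⟨g, hg⟩ := conj_of_connected hD hc hy hx
  rw [hg]
  exact hN.conj_mem y hyN g

/-- (P3) a normal subgroup containing a nontrivial odd-order product `d e` (`d, e ∈ D`) is `G` -/
theorem eq_top_of_odd (hD : IsRootInvolutionSet D) (hc : IsConnectedSet (OddAdj D) D)
    (hDD : (D ∩ commutingProducts D).Nonempty) (N : Subgroup G) [hN : N.Normal] {d e : G}
    (hd : d ∈ D) (he : e ∈ D) (hde : d * e ∈ N) (hodd : Odd (orderOf (d * e))) (hne : d * e ≠ 1) :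
    N = ⊤ := by
  obtain ⟨x, hxD, a0, ha0, b0, hb0, hab0, _, hx_eq⟩ := hDD
  obtain ⟨g, hg⟩ := conj_of_connected hD hc ha0 hd
  have hcD : g * b0 * g⁻¹ ∈ D := hD.conj_mem b0 hb0 g
  have hdd := mul_self_of_mem hD hd
  obtain ⟨c, hc_def⟩ : ∃ c, c = g * b0 * g⁻¹ := ⟨_, rfl⟩
  rw [← hc_def] at hcD
  have hcc := mul_self_of_mem hD hcD
  have hdc : d * c = c * d := by
    rw [hg, hc_def]
    calc g * a0 * g⁻¹ * (g * b0 * g⁻¹) = g * (a0 * b0) * g⁻¹ := by group
      _ = g * (b0 * a0) * g⁻¹ := by rw [hab0]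
      _ = g * b0 * g⁻¹ * (g * a0 * g⁻¹) := by group
  have hdcD : d * c ∈ D := by
    have : d * c = g * x * g⁻¹ := by
      rw [hg, hc_def, hx_eq]; group
    rw [this]
    exact hD.conj_mem x hxD g
  have hdcdc := mul_self_of_mem hD hdcD
  have het : e = d * (d * e) := by
    calc e = (d * d) * e := by rw [hdd, one_mul]
      _ = d * (d * e) := by group
  rcases key hD hd hcD he hdc hdcD hodd hne with h | h
  · -- `c e` odd
    have hsq : (c * e) * (c * e) ∈ N := by
      have e1 : (c * e) * (c * e) = ((d * c) * (d * e) * (d * c)⁻¹) * (d * e) := by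
        have : (d * c)⁻¹ = d * c := inv_eq_of_mul_eq_one_left hdcdc
        rw [this]
        calc c * e * (c * e) = c * ((d * d) * e) * (c * ((d * d) * e)) := by rw [hdd, one_mul]
          _ = (c * d) * (d * e) * (c * d) * (d * e) := by group
          _ = (d * c) * (d * e) * (d * c) * (d * e) := by rw [hdc]
      rw [e1]
      exact N.mul_mem (hN.conj_mem _ hde _) hde
    have hmem : c * e ∈ N := mem_of_sq_mem_of_odd N hsq h
    have hcd : d * c ∈ N := by
      have e1 : d * c = (c * e) * (d * e)⁻¹ := by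
        rw [hdc]
        calc c * d = c * d * ((d * e) * (d * e)⁻¹) := by rw [mul_inv_cancel, mul_one]
          _ = c * ((d * d) * e) * (d * e)⁻¹ := by group
          _ = c * e * (d * e)⁻¹ := by rw [hdd, one_mul]
      rw [e1]
      exact N.mul_mem hmem (N.inv_mem hde)
    exact eq_top_of_mem hD hc N hdcD hcd
  · -- `d c e` odd
    have e0 : d * c * e = c * (d * e) := by
      calc d * c * e = c * d * e := by rw [hdc]
        _ = c * (d * e) := by group
    rw [e0] at h
    have hsq : (c * (d * e)) * (c * (d * e)) ∈ N := by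
      have e1 : (c * (d * e)) * (c * (d * e)) = (c * (d * e) * c⁻¹) * (d * e) := by
        rw [inv_eq_of_mul_eq_one_left hcc]; group
      rw [e1]
      exact N.mul_mem (hN.conj_mem _ hde _) hde
    have hmem : c * (d * e) ∈ N := mem_of_sq_mem_of_odd N hsq h
    have hcN : c ∈ N := by
      have e1 : c = (c * (d * e)) * (d * e)⁻¹ := by group
      rw [e1]
      exact N.mul_mem hmem (N.inv_mem hde)
    exact eq_top_of_mem hD hc N hcD hcN

/-- (P5a) in a commutative quotient an odd-order product of two members of `D` dies -/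
theorem mul_mem_of_comm_quotient (hD : IsRootInvolutionSet D) (M : Subgroup G) [M.Normal]
    (hcomm : ∀ x y : G ⧸ M, x * y = y * x) {a e : G} (ha : a ∈ D) (he : e ∈ D)
    (hodd : Odd (orderOf (a * e))) : a * e ∈ M := by
  apply mem_of_sq_mem_of_odd M _ hodd
  rw [← QuotientGroup.eq_one_iff]
  have h1 : ((a * e * (a * e) : G) : G ⧸ M) = (a : G ⧸ M) * (e : G ⧸ M) * ((a : G ⧸ M) * (e : G ⧸ M)) := by
    simp [QuotientGroup.mk_mul]
  rw [h1]
  calc (a : G ⧸ M) * (e : G ⧸ M) * ((a : G ⧸ M) * (e : G ⧸ M))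
      = (a : G ⧸ M) * ((e : G ⧸ M) * (a : G ⧸ M)) * (e : G ⧸ M) := by group
    _ = (a : G ⧸ M) * ((a : G ⧸ M) * (e : G ⧸ M)) * (e : G ⧸ M) := by rw [hcomm (e : G ⧸ M)]
    _ = ((a * a : G) : G ⧸ M) * ((e * e : G) : G ⧸ M) := by
      rw [QuotientGroup.mk_mul, QuotientGroup.mk_mul]; group
    _ = 1 := by rw [mul_self_of_mem hD ha, mul_self_of_mem hD he]; simp

/-- an odd edge exists when `D ∩ D² ≠ ∅` and the odd graph is connected -/
theorem exists_oddAdj (hD : IsRootInvolutionSet D) (hc : IsConnectedSet (OddAdj D) D)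
    (hDD : (D ∩ commutingProducts D).Nonempty) : ∃ a e, OddAdj D a e := by
  obtain ⟨x, _, a, ha, b, hb, hab, hne, _⟩ := hDD
  have hne' : a ≠ b := by
    intro h
    apply hne
    rw [← h]; exact mul_self_of_mem hD ha
  rcases Relation.ReflTransGen.cases_head (hc a ha b hb) with h | ⟨e, he, _⟩
  · exact absurd h hne'
  · exact ⟨a, e, he⟩

end Cfsg.Agent.H2.RootInv
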