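import Mathlib
import Cfsg.Prelude.Def_RootSubgroups
import Cfsg.Prelude.Def_QuasithinSetup
import Cfsg.Agent.H1.Subnormalizer
import Cfsg.Agent.H1.InvolOdd
import Cfsg.Agent.H2.RootInvA

/-! Root involutions: a normal subgroup with no nontrivial odd product `d * d^n` lies in
`O_{2,Z}(G)` (Baer–Suzuki) (helper2; adapted from helper9's `H9/TT3Fit`). -/

set_option autoImplicit false
set_option linter.unusedSectionVars false
set_option linter.style.haveILetI false

namespace Cfsg.Agent.H2.RootInv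

open Cfsg
open scoped Pointwise

section

variable {G : Type*} [Group G] [Finite G]

/-- an involution `d` none of whose products `d * (k d k⁻¹)`, `k ∈ K` normal, is nontrivial of odd
order: the commutators with `K` lie in `O₂(G)` -/
theorem mul_conj_mem_pCore_two_of_no_odd (K : Subgroup G) [hKn : K.Normal] (d : G)
    (hd : orderOf d = 2)
    (h : ∀ k ∈ K, ¬ (Odd (orderOf (d * (k * d * k⁻¹))) ∧ d * (k * d * k⁻¹) ≠ 1)) :
    ∀ k ∈ K, d * (k * d * k⁻¹) ∈ Cfsg.pCore 2 G := by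
  have hd2 : d * d = 1 := by rw [← pow_two, ← hd]; exact pow_orderOf_eq_one d
  have hdi : d⁻¹ = d := inv_eq_of_mul_eq_one_left hd2
  set L := Subgroup.zpowers d ⊔ K with hL
  have hKL : K ≤ L := le_sup_right
  have hdL : d ∈ L := Subgroup.mem_sup_left (Subgroup.mem_zpowers d)
  set dL : ↥L := ⟨d, hdL⟩ with hdLdef
  have horder : orderOf dL = 2 := by
    rw [Subgroup.orderOf_mk]
    exact hd
  have hpn : (Cfsg.pCore 2 ↥L).Normal := Cfsg.Agent.H1.pCore_normal 2
  -- `dL ∈ O₂(L)` by Baer–Suzuki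
  have hdcore : dL ∈ Cfsg.pCore 2 ↥L := by
    by_contra hnot
    have hO : ∀ N : Subgroup ↥L, N.Normal → IsPGroup 2 N → dL ∉ N := by
      intro N hN hp hmem
      exact hnot (Cfsg.Agent.H1.le_pCore hN hp hmem)
    obtain ⟨x, hx1, hxodd, hxinv⟩ := Cfsg.Agent.H1.invol_inverts_odd dL horder hO
    -- `x = z k`
    have hxL : (x : G) ∈ Subgroup.zpowers d ⊔ K := x.2
    rw [← SetLike.mem_coe, Subgroup.mul_normal, Set.mem_mul] at hxL
    obtain ⟨z, hz, k, hk, hzk⟩ := hxL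
    have hzd : z * d = d * z := by
      obtain ⟨i, rfl⟩ := Subgroup.mem_zpowers_iff.1 hz
      exact ((Commute.refl d).zpow_left i).eq
    have hk' : z * k * z⁻¹ ∈ K := hKn.conj_mem k hk z
    have hconj : (z * k * z⁻¹) * d * (z * k * z⁻¹)⁻¹ = (x : G) * d * (x : G)⁻¹ := by
      rw [← hzk]
      have e1 : z * k * z⁻¹ * d * (z * k * z⁻¹)⁻¹ = z * k * (z⁻¹ * d * z) * k⁻¹ * z⁻¹ := by group
      have e2 : z⁻¹ * d * z = d := by rw [mul_assoc, ← hzd, ← mul_assoc, inv_mul_cancel, one_mul]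
      rw [e1, e2]
      group
    have hxinv' : d * (x : G) * d⁻¹ = (x : G)⁻¹ := by
      have := congrArg Subtype.val hxinv
      simpa using this
    have hprod : d * ((x : G) * d * (x : G)⁻¹) = (x : G)⁻¹ * (x : G)⁻¹ := by
      calc d * ((x : G) * d * (x : G)⁻¹) = (d * (x : G) * d⁻¹) * (x : G)⁻¹ := by rw [hdi]; group
        _ = (x : G)⁻¹ * (x : G)⁻¹ := by rw [hxinv']
    have hxodd' : Odd (orderOf (x : G)) := by rw [Subgroup.orderOf_coe]; exact hxodd
    have hx1' : (x : G) ≠ 1 := fun hh => hx1 (Subtype.ext hh)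
    apply h (z * k * z⁻¹) hk'
    rw [hconj, hprod]
    constructor
    · have e : (x : G)⁻¹ * (x : G)⁻¹ = ((x : G)⁻¹) ^ 2 := (pow_two _).symm
      rw [e]
      have hdv : orderOf (((x : G)⁻¹) ^ 2) ∣ orderOf (x : G) := by
        rw [← orderOf_inv (x : G)]
        exact orderOf_pow_dvd 2
      exact Odd.of_dvd_nat hxodd' hdv
    · intro h2
      apply hx1'
      have h3 : (x : G) ^ 2 ^ 1 = 1 := by
        rw [pow_one, pow_two]
        have : ((x : G) * (x : G))⁻¹ = 1 := by rw [mul_inv_rev]; exact h2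
        exact inv_eq_one.mp this
      exact eq_one_of_odd_of_pow hxodd' h3
  intro k hk
  have hwL : k * d * k⁻¹ ∈ L := L.mul_mem (L.mul_mem (hKL hk) hdL) (L.inv_mem (hKL hk))
  set wL : ↥L := ⟨k * d * k⁻¹, hwL⟩ with hwLdef
  have hwcore : wL ∈ Cfsg.pCore 2 ↥L := by
    have : wL = ⟨k, hKL hk⟩ * dL * ⟨k, hKL hk⟩⁻¹ := rfl
    rw [this]
    exact hpn.conj_mem dL hdcore _
  have hres : dL * wL ∈ Cfsg.pCore 2 ↥L := (Cfsg.pCore 2 ↥L).mul_mem hdcore hwcore
  have hxK : d * (k * d * k⁻¹) ∈ K := by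
    have : d * (k * d * k⁻¹) = (d * k * d⁻¹) * k⁻¹ := by rw [hdi]; group
    rw [this]
    exact K.mul_mem (hKn.conj_mem k hk d) (K.inv_mem hk)
  set T := (Cfsg.pCore 2 ↥L).map L.subtype ⊓ K with hTdef
  have hxT : d * (k * d * k⁻¹) ∈ T := ⟨⟨dL * wL, hres, rfl⟩, hxK⟩
  have hT2 : IsPGroup 2 T :=
    ((Cfsg.Agent.H1.pCore_isPGroup (G := ↥L) 2).map L.subtype).to_le inf_le_left
  have hTn : (T.subgroupOf K).Normal := by
    constructor
    intro n hn g
    rw [Subgroup.mem_subgroupOf] at hn ⊢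
    obtain ⟨⟨m, hm, hmn⟩, -⟩ := hn
    refine ⟨?_, ?_⟩
    · refine ⟨⟨(g : G), hKL g.2⟩ * m * ⟨(g : G), hKL g.2⟩⁻¹, hpn.conj_mem m hm _, ?_⟩
      show (g : G) * (m : G) * (g : G)⁻¹ = ((g * n * g⁻¹ : ↥K) : G)
      have : (m : G) = (n : G) := hmn
      rw [this]
      rfl
    · exact (g * n * g⁻¹).2
  have hsub : T.IsSubnormal := Subgroup.IsSubnormal.step T K inf_le_right hKn.isSubnormal hTn
  have : Fact (Nat.Prime 2) := ⟨Nat.prime_two⟩
  exact Cfsg.Agent.H1.le_pCore_of_isSubnormal hsub hT2 hxT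

/-- (P2) a normal subgroup `N` such that no `d * (n d n⁻¹)` (`d ∈ D`, `n ∈ N`) is nontrivial of odd
order lies in `O_{2,Z}(G)` -/
theorem le_twoZCore_of_no_odd {D : Set G} (hD : IsRootInvolutionSet D) (N : Subgroup G) [N.Normal]
    (h : ∀ d ∈ D, ∀ n ∈ N, ¬ (Odd (orderOf (d * (n * d * n⁻¹))) ∧ d * (n * d * n⁻¹) ≠ 1)) :
    N ≤ twoZCore G := by
  intro n hn
  show (QuotientGroup.mk' (pCore 2 G)) n ∈ Subgroup.center (G ⧸ pCore 2 G)
  rw [Subgroup.mem_center_iff]
  intro y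
  obtain ⟨y, rfl⟩ := QuotientGroup.mk_surjective y
  -- the centralizer of the image of `n` contains the image of `D`
  have hy : y ∈ (Subgroup.centralizer
      ({(QuotientGroup.mk' (pCore 2 G)) n} : Set (G ⧸ pCore 2 G))).comap
        (QuotientGroup.mk' (pCore 2 G)) := by
    have htop : Subgroup.closure D ≤ (Subgroup.centralizer
        ({(QuotientGroup.mk' (pCore 2 G)) n} : Set (G ⧸ pCore 2 G))).comap
          (QuotientGroup.mk' (pCore 2 G)) := by
      rw [Subgroup.closure_le]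
      intro d hd
      show (QuotientGroup.mk' (pCore 2 G)) d ∈ Subgroup.centralizer _
      rw [Subgroup.mem_centralizer_iff]
      intro m hm
      rw [Set.mem_singleton_iff] at hm
      rw [hm]
      have hmem := mul_conj_mem_pCore_two_of_no_odd N d (hD.orderOf_eq d hd) (h d hd) n hn
      have hdi : d⁻¹ = d := inv_eq_of_mem hD hd
      -- `(d n)⁻¹ * (n d) ∈ O₂(G)`... use `d * (n d n⁻¹) ∈ O₂`
      have e : ((d * (n * d * n⁻¹) : G) : G ⧸ pCore 2 G) = 1 :=
        (QuotientGroup.eq_one_iff _).mpr hmem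
      have e2 : ((d : G) : G ⧸ pCore 2 G) * ((n : G) : G ⧸ pCore 2 G) * ((d : G) : G ⧸ pCore 2 G)
          * ((n : G) : G ⧸ pCore 2 G)⁻¹ = 1 := by
        rw [← e]
        simp only [QuotientGroup.mk_mul, QuotientGroup.mk_inv]
        group
      have hdd : ((d : G) : G ⧸ pCore 2 G) * ((d : G) : G ⧸ pCore 2 G) = 1 := by
        rw [← QuotientGroup.mk_mul, mul_self_of_mem hD hd]; rfl
      show ((n : G) : G ⧸ pCore 2 G) * ((d : G) : G ⧸ pCore 2 G)
        = ((d : G) : G ⧸ pCore 2 G) * ((n : G) : G ⧸ pCore 2 G)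
      generalize ((d : G) : G ⧸ pCore 2 G) = dd at *
      generalize ((n : G) : G ⧸ pCore 2 G) = nn at *
      calc nn * dd = (dd * dd) * nn * dd * (nn⁻¹ * nn) := by rw [hdd]; group
        _ = dd * (dd * nn * dd * nn⁻¹) * nn := by group
        _ = dd * nn := by rw [e2, mul_one]
    apply htop
    rw [hD.generates]
    exact Subgroup.mem_top y
  have hy' : (QuotientGroup.mk' (pCore 2 G)) y ∈ Subgroup.centralizer
      ({(QuotientGroup.mk' (pCore 2 G)) n} : Set (G ⧸ pCore 2 G)) := hy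
  rw [Subgroup.mem_centralizer_iff] at hy'
  exact (hy' _ rfl).symm

end

end Cfsg.Agent.H2.RootInv
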