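import Mathlib
import Cfsg.Prelude.Def_RootSubgroups
import Cfsg.Agent.H2.RankOne

/-!
Basic theory of sets of abstract root subgroups (helper2).
-/

set_option autoImplicit false

namespace Cfsg.Agent.H2.RootSub

open Cfsg Cfsg.Agent.H2.RankOne
open scoped commutatorElement

variable {G : Type*} [Group G] {A B : Subgroup G}

/-- in a rank one pair no non-identity `a ∈ A` has all its commutators with `B` centralizing `B` -/
theorem false_of_commutator_centralizes (h : IsRankOnePair A B) {a : G} (ha : a ∈ A) (ha1 : a ≠ 1)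
    (hc : ∀ b ∈ B, ∀ b' ∈ B, (a * b * a⁻¹ * b⁻¹) * b' = b' * (a * b * a⁻¹ * b⁻¹)) : False := by
  -- `a B a⁻¹ ≤ N(B)`
  have h1 : ∀ y ∈ conjBy B a, y ∈ Subgroup.normalizer (B : Set G) := by
    intro y hy
    rw [mem_conjBy] at hy
    have e : y = (a * (a⁻¹ * y * a) * a⁻¹ * (a⁻¹ * y * a)⁻¹) * (a⁻¹ * y * a) := by group
    rw [e]
    apply Subgroup.mul_mem
    · apply Subgroup.centralizer_le_normalizer
      rw [Subgroup.mem_centralizer_iff]
      intro b' hb'
      exact (hc _ hy b' hb').symm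
    · exact Subgroup.le_normalizer hy
  have ha1' : a⁻¹ ≠ 1 := by simpa using ha1
  obtain ⟨c, hc0, _, hac⟩ := h.cond_left a⁻¹ (A.inv_mem ha) ha1'
  rw [inv_inv] at hac
  -- `A ≤ N(B)`
  have h2 : a ∈ Subgroup.normalizer (B : Set G) := by
    have h3 : c⁻¹ * a * c ∈ conjBy A c⁻¹ := by
      rw [mem_conjBy]
      have e : (c⁻¹)⁻¹ * (c⁻¹ * a * c) * c⁻¹ = a := by group
      rw [e]; exact ha
    rw [hac] at h3
    have h4 := h1 _ h3
    have hcN : c ∈ Subgroup.normalizer (B : Set G) := Subgroup.le_normalizer hc0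
    have e : a = c * (c⁻¹ * a * c) * c⁻¹ := by group
    rw [e]
    exact Subgroup.mul_mem _ (Subgroup.mul_mem _ hcN h4) (Subgroup.inv_mem _ hcN)
  have : a ∈ A ⊓ Subgroup.normalizer (B : Set G) := ⟨ha, h2⟩
  rw [inf_normalizer_eq_bot h, Subgroup.mem_bot] at this
  exact ha1 this

/-- If `(A, B)` and `(D, B)` are rank one pairs and non-identity `y ∈ D`, `a ∈ A` act in the same way
on `B`, then `D` is a unipotent subgroup of `⟨A, B⟩`. -/
theorem eq_or_conj_of_same_action (h : IsRankOnePair A B) {D : Subgroup G} (hD : IsRankOnePair D B)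
    {y a : G} (hy : y ∈ D) (hy1 : y ≠ 1) (ha : a ∈ A) (ha1 : a ≠ 1)
    (hya : conjBy B y⁻¹ = conjBy B a⁻¹) : D = A ∨ ∃ a' ∈ A, D = conjBy B a' := by
  obtain ⟨b', hb', _, h1⟩ := hD.cond_left y hy hy1
  obtain ⟨b, hb, _, h2⟩ := h.cond_left a ha ha1
  have h3 : D = conjBy A (b' * b⁻¹) := by
    rw [← conjBy_mul, h2, ← hya, ← h1, conjBy_mul]
    simp [conjBy_one]
  apply unipotentSubgroups_eq h
  exact ⟨b' * b⁻¹, Subgroup.mem_sup_right (B.mul_mem hb' (B.inv_mem hb)), h3⟩

variable {S : Set (Subgroup G)}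

theorem commutatorCase_centralizes {D B : Subgroup G} (h : RootCommutatorCase S D B) {y : G} (hy : y ∈ D)
    {b b' : G} (hb : b ∈ B) (hb' : b' ∈ B) :
    (y * b * y⁻¹ * b⁻¹) * b' = b' * (y * b * y⁻¹ * b⁻¹) :=
  h.2.1 _ (Subgroup.commutator_mem_commutator hy hb) _ (Subgroup.mem_sup_right hb')

/-- a member of `S` with a rank one partner meets every other member trivially -/
theorem eq_of_inf_ne_bot (hS : IsRootSubgroupSet S) {A C B : Subgroup G} (hA : A ∈ S) (hC : C ∈ S)
    (hAC : IsRankOnePair A C) (hB : B ∈ S) {x : G} (hxA : x ∈ A) (hxB : x ∈ B) (hx1 : x ≠ 1) :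
    A = B := by
  have hxN : x ∉ Subgroup.normalizer (C : Set G) := by
    intro hxN
    have : x ∈ A ⊓ Subgroup.normalizer (C : Set G) := ⟨hxA, hxN⟩
    rw [inf_normalizer_eq_bot hAC, Subgroup.mem_bot] at this
    exact hx1 this
  rcases hS.pair B hB C hC with h | h | h
  · -- `B` commutes with `C`
    exfalso
    apply hxN
    apply Subgroup.centralizer_le_normalizer
    rw [Subgroup.mem_centralizer_iff]
    intro c hc
    have h1 : ⁅x, c⁆ ∈ ⁅B, C⁆ := Subgroup.commutator_mem_commutator hxB hc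
    rw [h, Subgroup.mem_bot, commutatorElement_eq_one_iff_mul_comm] at h1
    exact h1.symm
  · -- rank one pair
    rcases eq_or_conj_of_same_action hAC h hxB hx1 hxA hx1 rfl with h1 | ⟨a', ha', h1⟩
    · exact h1.symm
    · exfalso
      apply hxN
      apply Subgroup.le_normalizer
      rw [h1, mem_conjBy] at hxB
      have := hS.commutative A hA
      have e : a'⁻¹ * x * a' = x := by
        have h2 : (⟨a', ha'⟩ : A) * ⟨x, hxA⟩ = ⟨x, hxA⟩ * ⟨a', ha'⟩ :=
          isMulCommutative_iff.1 this _ _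
        have h3 : a' * x = x * a' := congrArg Subtype.val h2
        rw [mul_assoc, ← h3]; group
      rw [e] at hxB
      exact hxB
  · exfalso
    exact false_of_commutator_centralizes hAC hxA hx1
      (fun b hb b' hb' => commutatorCase_centralizes h hxB hb hb')

/-- a non-isolated member has a rank one partner -/
theorem exists_partner_of_not_isolated {A : Subgroup G} (hAS : A ∈ S)
    (hA : ¬ IsIsolatedIn (FAdj S) S A) : ∃ C ∈ S, IsRankOnePair A C := by
  by_contra hcon
  apply hA
  refine ⟨hAS, fun B => ⟨?_, ?_⟩⟩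
  · rintro ⟨_, hB, h⟩
    exact hcon ⟨B, hB, h⟩
  · rintro ⟨hB, _, h⟩
    exact hcon ⟨B, hB, RankOnePair_symm h⟩

theorem inf_eq_bot_or_eq (hS : IsRootSubgroupSet S) {A C : Subgroup G} (hA : A ∈ S) (hC : C ∈ S)
    (hAC : IsRankOnePair A C) {B : Subgroup G} (hB : B ∈ S) : A ⊓ B = ⊥ ∨ A = B := by
  by_cases h : A ⊓ B = ⊥
  · exact Or.inl h
  · right
    rw [Subgroup.eq_bot_iff_forall] at h
    push Not at h
    obtain ⟨x, hx, hx1⟩ := h
    exact eq_of_inf_ne_bot hS hA hC hAC hB hx.1 hx.2 hx1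

/-- if `z ≠ 1` centralizes the rank one group `⟨A, B⟩`, no `z a` with `1 ≠ a ∈ A` is a root element -/
theorem mul_notMem_rootElements (hS : IsRootSubgroupSet S) {A B : Subgroup G} (hA : A ∈ S) (hB : B ∈ S)
    (hAB : IsRankOnePair A B) {z : G}
    (hz : z ∈ Subgroup.centralizer ((A ⊔ B : Subgroup G) : Set G)) (hz1 : z ≠ 1) :
    ∀ a ∈ A, a ≠ 1 → z * a ∉ rootElements S := by
  rintro a ha ha1 ⟨hy1, D, hD, hyD⟩
  rw [Subgroup.mem_centralizer_iff] at hz
  have hzA : ∀ a' ∈ A, a' * z = z * a' := fun a' ha' => hz a' (Subgroup.mem_sup_left ha')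
  have hzB : ∀ b ∈ B, b * z = z * b := fun b hb => hz b (Subgroup.mem_sup_right hb)
  have hzN : z ∈ Subgroup.normalizer (B : Set G) := by
    apply Subgroup.centralizer_le_normalizer
    rw [Subgroup.mem_centralizer_iff]
    exact hzB
  have haN : a ∉ Subgroup.normalizer (B : Set G) := by
    intro haN
    have : a ∈ A ⊓ Subgroup.normalizer (B : Set G) := ⟨ha, haN⟩
    rw [inf_normalizer_eq_bot hAB, Subgroup.mem_bot] at this
    exact ha1 this
  rcases hS.pair D hD B hB with h | h | h
  · -- `D` commutes with `B`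
    apply haN
    apply Subgroup.centralizer_le_normalizer
    rw [Subgroup.mem_centralizer_iff]
    intro b hb
    have h1 : ⁅z * a, b⁆ ∈ ⁅D, B⁆ := Subgroup.commutator_mem_commutator hyD hb
    rw [h, Subgroup.mem_bot, commutatorElement_eq_one_iff_mul_comm] at h1
    have h2 := hzB b hb
    -- z a b = b z a = z b a
    have h3 : z * (a * b) = z * (b * a) := by
      rw [← mul_assoc, h1, ← mul_assoc, h2, mul_assoc]
    exact (mul_left_cancel h3).symm
  · -- rank one pair
    have hya : conjBy B (z * a)⁻¹ = conjBy B a⁻¹ := by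
      rw [mul_inv_rev, ← conjBy_mul, conjBy_eq_self_iff.2 (Subgroup.inv_mem _ hzN)]
    rcases eq_or_conj_of_same_action hAB h hyD hy1 ha ha1 hya with h1 | ⟨a', ha', h1⟩
    · rw [h1] at hyD
      have hzA' : z ∈ A := by
        have := A.mul_mem hyD (A.inv_mem ha)
        simpa using this
      have : z ∈ A ⊓ Subgroup.normalizer (B : Set G) := ⟨hzA', hzN⟩
      rw [inf_normalizer_eq_bot hAB, Subgroup.mem_bot] at this
      exact hz1 this
    · apply haN
      rw [h1, mem_conjBy] at hyD
      have hcomm := hS.commutative A hA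
      have e1 : a' * a = a * a' := by
        have h2 : (⟨a', ha'⟩ : A) * ⟨a, ha⟩ = ⟨a, ha⟩ * ⟨a', ha'⟩ :=
          isMulCommutative_iff.1 hcomm _ _
        exact congrArg Subtype.val h2
      have e : a'⁻¹ * (z * a) * a' = z * a := by
        have h3 := hzA a' ha'
        calc a'⁻¹ * (z * a) * a' = a'⁻¹ * (z * (a * a')) := by group
          _ = a'⁻¹ * (z * (a' * a)) := by rw [e1]
          _ = a'⁻¹ * ((z * a') * a) := by group
          _ = a'⁻¹ * ((a' * z) * a) := by rw [h3]
          _ = z * a := by group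
      rw [e] at hyD
      have h4 : z * a ∈ Subgroup.normalizer (B : Set G) := Subgroup.le_normalizer hyD
      have := Subgroup.mul_mem _ (Subgroup.inv_mem _ hzN) h4
      simpa using this
  · -- commutator case
    apply false_of_commutator_centralizes hAB ha ha1
    intro b hb b' hb'
    have h1 := commutatorCase_centralizes h hyD hb hb'
    have h2 : z * a * b * (z * a)⁻¹ * b⁻¹ = a * b * a⁻¹ * b⁻¹ := by
      have h3 : (a * b * a⁻¹) * z = z * (a * b * a⁻¹) :=
        hz _ (Subgroup.mul_mem _ (Subgroup.mul_mem _ (Subgroup.mem_sup_left ha)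
          (Subgroup.mem_sup_right hb)) (Subgroup.mem_sup_left (A.inv_mem ha)))
      calc z * a * b * (z * a)⁻¹ * b⁻¹ = (z * (a * b * a⁻¹)) * z⁻¹ * b⁻¹ := by group
        _ = ((a * b * a⁻¹) * z) * z⁻¹ * b⁻¹ := by rw [h3]
        _ = a * b * a⁻¹ * b⁻¹ := by group
    rw [h2] at h1
    exact h1

/-- a member of `S` inside a rank one group `⟨C, D⟩` is never in the commutator case with `C` -/
theorem not_commutatorCase_of_le (hS : IsRootSubgroupSet S) {A C D : Subgroup G} (hC : C ∈ S)
    (hD : D ∈ S) (hCD : IsRankOnePair C D) (hle : A ≤ C ⊔ D) : ¬ RootCommutatorCase S A C := by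
  intro h
  -- `A` normalizes `C`
  have hAN : ∀ a ∈ A, a ∈ Subgroup.normalizer (C : Set G) := by
    intro a ha
    rw [← conjBy_eq_self_iff]
    have h1 : ∀ y ∈ conjBy C a, y ∈ Subgroup.normalizer (C : Set G) := by
      intro y hy
      rw [mem_conjBy] at hy
      have e : y = (a * (a⁻¹ * y * a) * a⁻¹ * (a⁻¹ * y * a)⁻¹) * (a⁻¹ * y * a) := by group
      rw [e]
      apply Subgroup.mul_mem
      · apply Subgroup.centralizer_le_normalizer
        rw [Subgroup.mem_centralizer_iff]
        intro c' hc'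
        exact (commutatorCase_centralizes h ha hy hc').symm
      · exact Subgroup.le_normalizer hy
    have h2 : conjBy C a ∈ unipotentSubgroups C D := ⟨a, hle ha, rfl⟩
    rcases unipotentSubgroups_eq hCD h2 with h3 | ⟨c, hc, h3⟩
    · exact h3
    · exfalso
      obtain ⟨d, hd, hd1⟩ := exists_nonidentity_right hCD
      have h4 : c * d * c⁻¹ ∈ conjBy D c := by
        rw [mem_conjBy]
        have e1 : c⁻¹ * (c * d * c⁻¹) * c = d := by group
        rw [e1]; exact hd
      rw [← h3] at h4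
      have h5 := h1 _ h4
      have hcN : c ∈ Subgroup.normalizer (C : Set G) := Subgroup.le_normalizer hc
      have h6 : d ∈ Subgroup.normalizer (C : Set G) := by
        have e2 : d = c⁻¹ * (c * d * c⁻¹) * c := by group
        rw [e2]
        exact Subgroup.mul_mem _ (Subgroup.mul_mem _ (Subgroup.inv_mem _ hcN) h5) hcN
      have : d ∈ D ⊓ Subgroup.normalizer (C : Set G) := ⟨hd, h6⟩
      rw [inf_normalizer_eq_bot' hCD, Subgroup.mem_bot] at this
      exact hd1 this
  have hF : ⁅A, C⁆ ≤ C := by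
    rw [Subgroup.commutator_le]
    intro a ha c hc
    rw [commutatorElement_def]
    have h1 := hAN a ha
    rw [Subgroup.mem_normalizer_iff] at h1
    exact C.mul_mem ((h1 c).1 hc) (C.inv_mem hc)
  have hFbot : ⁅A, C⁆ ≠ ⊥ := hS.ne_bot _ h.1
  rcases inf_eq_bot_or_eq hS hC hD hCD h.1 with h1 | h1
  · rw [inf_eq_right.2 hF] at h1
    exact hFbot h1
  · apply hFbot
    rw [Subgroup.commutator_eq_bot_iff_le_centralizer]
    intro a ha
    rw [Subgroup.mem_centralizer_iff]
    intro c hc
    have hc' : c ∈ ⁅A, C⁆ := by rw [← h1]; exact hc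
    exact h.2.1 c hc' a (Subgroup.mem_sup_left ha)

/-- a member of `S` with a rank one partner, both inside a rank one group `⟨C, D⟩`, is one of its
unipotent subgroups -/
theorem mem_unipotentSubgroups_of_le (hS : IsRootSubgroupSet S) {A B C D : Subgroup G} (hA : A ∈ S)
    (hAB : IsRankOnePair A B) (hC : C ∈ S) (hD : D ∈ S) (hCD : IsRankOnePair C D)
    (hle : A ⊔ B ≤ C ⊔ D) : A ∈ unipotentSubgroups C D := by
  have hAle : A ≤ C ⊔ D := le_trans le_sup_left hle
  have step1 : ∀ E ∈ unipotentSubgroups C D, E ≤ C ⊔ D → IsRankOnePair A E →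
      A ∈ unipotentSubgroups C D := by
    intro E hE hEle hAE
    obtain ⟨a, ha, ha1⟩ := exists_nonidentity_left hAE
    obtain ⟨e, he, _, hae⟩ := hAE.cond_left a ha ha1
    have h1 : A = conjBy E (e * a⁻¹) := by
      rw [← conjBy_mul, ← hae, conjBy_mul]; simp [conjBy_one]
    rw [h1]
    exact conjBy_mem_unipotentSubgroups hE
      (Subgroup.mul_mem _ (hEle he) (Subgroup.inv_mem _ (hAle ha)))
  rcases hS.pair A hA C hC with h1 | h1 | h1
  · rcases hS.pair A hA D hD with h2 | h2 | h2
    · exfalso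
      obtain ⟨a, ha, ha1⟩ := exists_nonidentity_left hAB
      rw [Subgroup.commutator_eq_bot_iff_le_centralizer, Subgroup.le_centralizer_iff] at h1 h2
      have h3 : B ≤ Subgroup.centralizer (A : Set G) :=
        le_trans (le_trans le_sup_right hle) (sup_le h1 h2)
      rw [Subgroup.le_centralizer_iff] at h3
      have : a ∈ A ⊓ Subgroup.normalizer (B : Set G) :=
        ⟨ha, (Subgroup.centralizer_le_normalizer (B : Set G)) (h3 ha)⟩
      rw [inf_normalizer_eq_bot hAB, Subgroup.mem_bot] at this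
      exact ha1 this
    · exact step1 D (right_mem_unipotentSubgroups hCD) le_sup_right h2
    · exfalso
      exact not_commutatorCase_of_le hS hD hC (RankOnePair_symm hCD) (by rw [sup_comm]; exact hAle) h2
  · exact step1 C left_mem_unipotentSubgroups le_sup_left h1
  · exfalso
    exact not_commutatorCase_of_le hS hC hD hCD hAle h1

/-- two different unipotent subgroups of a rank one group generate it -/
theorem sup_eq_of_mem_unipotentSubgroups {A B C D : Subgroup G} (hCD : IsRankOnePair C D)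
    (hA : A ∈ unipotentSubgroups C D) (hB : B ∈ unipotentSubgroups C D) (hne : A ≠ B) :
    ∃ g ∈ C ⊔ D, A = conjBy C g ∧ B = conjBy D g ∧ A ⊔ B = C ⊔ D := by
  obtain ⟨y, hy, hAy⟩ := hA
  have hB' : conjBy B y⁻¹ ∈ unipotentSubgroups C D :=
    conjBy_mem_unipotentSubgroups hB (Subgroup.inv_mem _ hy)
  rcases unipotentSubgroups_eq hCD hB' with h1 | ⟨c, hc, h1⟩
  · exfalso
    apply hne
    rw [hAy, ← h1, conjBy_mul]; simp [conjBy_one]
  · have hyc : y * c ∈ C ⊔ D := Subgroup.mul_mem _ hy (Subgroup.mem_sup_left hc)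
    have hA2 : A = conjBy C (y * c) := by
      rw [← conjBy_mul, conjBy_eq_self_of_mem hc]; exact hAy
    have hB2 : B = conjBy D (y * c) := by
      rw [← conjBy_mul, ← h1, conjBy_mul]; simp [conjBy_one]
    refine ⟨y * c, hyc, hA2, hB2, ?_⟩
    rw [hA2, hB2]
    show Subgroup.map _ C ⊔ Subgroup.map _ D = C ⊔ D
    rw [← Subgroup.map_sup]
    exact conjBy_eq_self_of_mem hyc

end Cfsg.Agent.H2.RootSub
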