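import Mathlib
import Cfsg.Prelude.Def_RootSubgroups
import Cfsg.Agent.H2.RankOne
import Cfsg.Agent.H2.RootSub

/-!
Sets of abstract root subgroups: the commutator case (helper2).
-/

set_option autoImplicit false

namespace Cfsg.Agent.H2.RootSub

open Cfsg Cfsg.Agent.H2.RankOne
open scoped commutatorElement Pointwise

variable {G : Type*} [Group G]

theorem conj_commutatorElement_left (a a' b : G) :
    a * ⁅a', b⁆ * a⁻¹ = ⁅a * a', b⁆ * ⁅a, b⁆⁻¹ := by
  simp only [commutatorElement_def]; group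

theorem conjBy_commutator_le_of_mem_left {A B : Subgroup G} {a : G} (ha : a ∈ A) :
    conjBy ⁅A, B⁆ a ≤ ⁅A, B⁆ := by
  show Subgroup.map _ _ ≤ _
  rw [Subgroup.map_le_iff_le_comap, Subgroup.commutator_le]
  intro a' ha' b hb
  rw [Subgroup.mem_comap]
  show a * ⁅a', b⁆ * a⁻¹ ∈ _
  rw [conj_commutatorElement_left]
  exact Subgroup.mul_mem _ (Subgroup.commutator_mem_commutator (A.mul_mem ha ha') hb)
    (Subgroup.inv_mem _ (Subgroup.commutator_mem_commutator ha hb))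

theorem conjBy_commutator_of_mem_left {A B : Subgroup G} {a : G} (ha : a ∈ A) :
    conjBy ⁅A, B⁆ a = ⁅A, B⁆ := by
  apply le_antisymm (conjBy_commutator_le_of_mem_left ha)
  have h1 := conjBy_commutator_le_of_mem_left (B := B) (A.inv_mem ha)
  intro x hx
  rw [mem_conjBy]
  apply h1
  rw [mem_conjBy]
  have e : (a⁻¹)⁻¹ * (a⁻¹ * x * a) * a⁻¹ = x := by group
  rw [e]; exact hx

theorem conjBy_commutator_of_mem_right {A B : Subgroup G} {b : G} (hb : b ∈ B) :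
    conjBy ⁅A, B⁆ b = ⁅A, B⁆ := by
  rw [Subgroup.commutator_comm]
  exact conjBy_commutator_of_mem_left hb

theorem commutator_le_sup (A B : Subgroup G) : ⁅A, B⁆ ≤ A ⊔ B := by
  rw [Subgroup.commutator_le]
  intro a ha b hb
  rw [commutatorElement_def]
  exact Subgroup.mul_mem _ (Subgroup.mul_mem _ (Subgroup.mul_mem _ (Subgroup.mem_sup_left ha)
    (Subgroup.mem_sup_right hb)) (Subgroup.mem_sup_left (A.inv_mem ha)))
    (Subgroup.mem_sup_right (B.inv_mem hb))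

variable {S : Set (Subgroup G)}

/-- a subgroup normalized by `A` cannot form a rank one pair with `A` -/
theorem not_rankOnePair_of_normalized {C A : Subgroup G} (hn : ∀ a ∈ A, conjBy C a = C) :
    ¬ IsRankOnePair C A := by
  intro h
  obtain ⟨c, hc, hc1⟩ := exists_nonidentity_left h
  obtain ⟨a, ha, _, hca⟩ := h.cond_left c hc hc1
  rw [hn _ (A.inv_mem ha)] at hca
  have h1 : A = conjBy C (c⁻¹)⁻¹ := conjBy_eq_iff.1 hca.symm
  rw [inv_inv, conjBy_eq_self_of_mem hc] at h1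
  exact h.ne h1.symm

/-- if `⁅A, B⁆ ∈ S` then `A`, `B` are in the commutator case -/
theorem commutatorCase_of_commutator_mem (hS : IsRootSubgroupSet S) {A B : Subgroup G} (hA : A ∈ S)
    (hB : B ∈ S) (hC : ⁅A, B⁆ ∈ S) : RootCommutatorCase S A B := by
  rcases hS.pair A hA B hB with h | h | h
  · exact absurd h (hS.ne_bot _ hC)
  · exfalso
    have hCA : ⁅⁅A, B⁆, A⁆ = ⊥ := by
      rcases hS.pair _ hC A hA with h1 | h1 | h1
      · exact h1
      · exact absurd h1 (not_rankOnePair_of_normalized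
          (fun a ha => conjBy_commutator_of_mem_left ha))
      · exact absurd h1 (not_commutatorCase_of_le hS hA hB h (commutator_le_sup A B))
    have hCB : ⁅⁅A, B⁆, B⁆ = ⊥ := by
      rcases hS.pair _ hC B hB with h1 | h1 | h1
      · exact h1
      · exact absurd h1 (not_rankOnePair_of_normalized
          (fun b hb => conjBy_commutator_of_mem_right hb))
      · refine absurd h1 (not_commutatorCase_of_le hS hB hA (RankOnePair_symm h) ?_)
        rw [sup_comm]; exact commutator_le_sup A B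
    obtain ⟨a, ha, ha1⟩ := exists_nonidentity_left h
    apply false_of_commutator_centralizes h ha ha1
    intro b hb b' hb'
    have h1 : ⁅a * b * a⁻¹ * b⁻¹, b'⁆ ∈ ⁅⁅A, B⁆, B⁆ :=
      Subgroup.commutator_mem_commutator (Subgroup.commutator_mem_commutator ha hb) hb'
    rw [hCB, Subgroup.mem_bot, commutatorElement_eq_one_iff_mul_comm] at h1
    exact h1
  · exact h

/-- a conjugate of a non-isolated member meets every other member trivially -/
theorem conjBy_eq_of_inf_ne_bot (hS : IsRootSubgroupSet S) {A D E : Subgroup G} (hA : A ∈ S)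
    (hD : D ∈ S) (hAD : IsRankOnePair A D) (hE : E ∈ S) {g x : G} (hxA : x ∈ conjBy A g)
    (hxE : x ∈ E) (hx1 : x ≠ 1) : conjBy A g = E := by
  rw [mem_conjBy] at hxA
  have h1 : g⁻¹ * x * g ∈ conjBy E g⁻¹ := by
    rw [mem_conjBy]
    have e : (g⁻¹)⁻¹ * (g⁻¹ * x * g) * g⁻¹ = x := by group
    rw [e]; exact hxE
  have h2 : g⁻¹ * x * g ≠ 1 := by
    intro h
    apply hx1
    have e : x = g * (g⁻¹ * x * g) * g⁻¹ := by group
    rw [e, h]; group
  have h3 := eq_of_inf_ne_bot hS hA hD hAD (hS.conj_mem E hE g⁻¹) hxA h1 h2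
  rw [h3, conjBy_mul]
  simp [conjBy_one]

theorem commutatorCase_ne {A B : Subgroup G} (hS : IsRootSubgroupSet S)
    (h : RootCommutatorCase S A B) : A ≠ ⁅A, B⁆ := by
  intro hAC
  apply hS.ne_bot _ h.1
  rw [Subgroup.commutator_eq_bot_iff_le_centralizer]
  intro a' ha'
  rw [Subgroup.mem_centralizer_iff]
  intro b' hb'
  have ha'' : a' ∈ ⁅A, B⁆ := by rw [← hAC]; exact ha'
  exact (h.2.1 a' ha'' b' (Subgroup.mem_sup_right hb')).symm

/-- in the commutator case with `A` non-isolated, no non-identity elements of `A` and `B` commute -/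
theorem commutatorCase_not_commute (hS : IsRootSubgroupSet S) {A D B : Subgroup G} (hA : A ∈ S)
    (hD : D ∈ S) (hAD : IsRankOnePair A D) (h : RootCommutatorCase S A B) {a b : G}
    (ha : a ∈ A) (ha1 : a ≠ 1) (hb : b ∈ B) (hb1 : b ≠ 1) : a * b ≠ b * a := by
  intro hab
  have h1 : a ∈ conjBy A b := by
    rw [mem_conjBy]
    have e : b⁻¹ * a * b = a := by rw [mul_assoc, hab]; group
    rw [e]; exact ha
  have h2 : A = conjBy A b := eq_of_inf_ne_bot hS hA hD hAD (hS.conj_mem A hA b) ha h1 ha1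
  have hbN : b ∈ Subgroup.normalizer (A : Set G) := conjBy_eq_self_iff.1 h2.symm
  have hCA : ⁅A, B⁆ ≤ A := by
    rw [← h.2.2.2 b hb hb1, Subgroup.closure_le]
    rintro _ ⟨a', ha', rfl⟩
    show a' * b * a'⁻¹ * b⁻¹ ∈ A
    have h3 : b * a'⁻¹ * b⁻¹ ∈ A := (Subgroup.mem_normalizer_iff.1 hbN a'⁻¹).1 (A.inv_mem ha')
    have e : a' * b * a'⁻¹ * b⁻¹ = a' * (b * a'⁻¹ * b⁻¹) := by group
    rw [e]
    exact A.mul_mem ha' h3
  obtain ⟨c, hc1⟩ := (Subgroup.ne_bot_iff_exists_ne_one.1 (hS.ne_bot _ h.1))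
  have hc' : (c : G) ≠ 1 := fun hh => hc1 (Subtype.ext hh)
  exact commutatorCase_ne hS h (eq_of_inf_ne_bot hS hA hD hAD h.1 (hCA c.2) c.2 hc')

theorem comm_mem {A B : Subgroup G} {a b : G} (ha : a ∈ A) (hb : b ∈ B) :
    a⁻¹ * b⁻¹ * a * b ∈ ⁅A, B⁆ := by
  have := Subgroup.commutator_mem_commutator (A.inv_mem ha) (B.inv_mem hb)
  rw [commutatorElement_def, inv_inv, inv_inv] at this
  exact this

theorem comm_mul {A B : Subgroup G} (h : RootCommutatorCase S A B) {a b b' : G} (ha : a ∈ A)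
    (hb : b ∈ B) (hb' : b' ∈ B) :
    a⁻¹ * (b * b')⁻¹ * a * (b * b') = (a⁻¹ * b⁻¹ * a * b) * (a⁻¹ * b'⁻¹ * a * b') := by
  have hc := comm_mem ha hb
  have hc' := comm_mem ha hb'
  have h1 : (a⁻¹ * b⁻¹ * a * b) * b' = b' * (a⁻¹ * b⁻¹ * a * b) :=
    h.2.1 _ hc _ (Subgroup.mem_sup_right hb')
  have h2 : (a⁻¹ * b⁻¹ * a * b) * (a⁻¹ * b'⁻¹ * a * b') = (a⁻¹ * b'⁻¹ * a * b') * (a⁻¹ * b⁻¹ * a * b) :=
    h.2.1 _ hc _ (commutator_le_sup A B hc')
  rw [h2]
  calc a⁻¹ * (b * b')⁻¹ * a * (b * b') = a⁻¹ * b'⁻¹ * a * ((a⁻¹ * b⁻¹ * a * b) * b') := by group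
    _ = a⁻¹ * b'⁻¹ * a * (b' * (a⁻¹ * b⁻¹ * a * b)) := by rw [h1]
    _ = (a⁻¹ * b'⁻¹ * a * b') * (a⁻¹ * b⁻¹ * a * b) := by group

/-- for non-identity `a ∈ A` the map `b ↦ a⁻¹ b⁻¹ a b` is an isomorphism `B ≃ ⁅A, B⁆` -/
theorem exists_commEquiv (hS : IsRootSubgroupSet S) {A D B : Subgroup G} (hA : A ∈ S)
    (hD : D ∈ S) (hAD : IsRankOnePair A D) (h : RootCommutatorCase S A B) {a : G}
    (ha : a ∈ A) (ha1 : a ≠ 1) :
    ∃ φ : ↥B ≃* ↥⁅A, B⁆, ∀ b : ↥B, (φ b : G) = a⁻¹ * (b : G)⁻¹ * a * b := by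
  let f : ↥B →* ↥⁅A, B⁆ := MonoidHom.mk' (fun b => ⟨a⁻¹ * (b : G)⁻¹ * a * b, comm_mem ha b.2⟩)
    (fun b b' => Subtype.ext (comm_mul h ha b.2 b'.2))
  have hf : ∀ b : ↥B, (f b : G) = a⁻¹ * (b : G)⁻¹ * a * b := fun b => rfl
  have hinj : Function.Injective f := by
    rw [injective_iff_map_eq_one]
    intro b hb
    by_contra hb1
    have h1 : a⁻¹ * (b : G)⁻¹ * a * b = 1 := by
      rw [← hf, hb]; rfl
    have hb1' : (b : G) ≠ 1 := fun hh => hb1 (Subtype.ext hh)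
    apply commutatorCase_not_commute hS hA hD hAD h ha ha1 b.2 hb1'
    calc a * (b : G) = (b : G) * a * (a⁻¹ * (b : G)⁻¹ * a * b) := by group
      _ = b * a := by rw [h1, mul_one]
  have hsurj : Function.Surjective f := by
    rintro ⟨c, hc⟩
    have ha1' : a⁻¹ ≠ 1 := by simpa using ha1
    have hcl := h.2.2.1 a⁻¹ (A.inv_mem ha) ha1'
    have hle : Subgroup.closure ((fun b => a⁻¹ * b * a⁻¹⁻¹ * b⁻¹) '' (B : Set G)) ≤
        ((⁅A, B⁆).subtype.comp f).range := by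
      rw [Subgroup.closure_le]
      rintro _ ⟨b, hb, rfl⟩
      refine ⟨⟨b⁻¹, B.inv_mem hb⟩, ?_⟩
      show a⁻¹ * (b⁻¹)⁻¹ * a * b⁻¹ = a⁻¹ * b * (a⁻¹)⁻¹ * b⁻¹
      rw [inv_inv, inv_inv]
    rw [← hcl] at hc
    obtain ⟨b, hb⟩ := hle hc
    exact ⟨b, Subtype.ext hb⟩
  exact ⟨MulEquiv.ofBijective f ⟨hinj, hsurj⟩, fun b => rfl⟩

theorem comm_injective (hS : IsRootSubgroupSet S) {A D B : Subgroup G} (hA : A ∈ S)
    (hD : D ∈ S) (hAD : IsRankOnePair A D) (h : RootCommutatorCase S A B) {a : G}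
    (ha : a ∈ A) (ha1 : a ≠ 1) {b b' : G} (hb : b ∈ B) (hb' : b' ∈ B)
    (he : a⁻¹ * b⁻¹ * a * b = a⁻¹ * b'⁻¹ * a * b') : b = b' := by
  obtain ⟨φ, hφ⟩ := exists_commEquiv hS hA hD hAD h ha ha1
  have h1 : φ ⟨b, hb⟩ = φ ⟨b', hb'⟩ := by
    apply Subtype.ext
    rw [hφ, hφ]; exact he
  exact congrArg Subtype.val (φ.injective h1)

theorem comm_surjective (hS : IsRootSubgroupSet S) {A D B : Subgroup G} (hA : A ∈ S)
    (hD : D ∈ S) (hAD : IsRankOnePair A D) (h : RootCommutatorCase S A B) {a : G}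
    (ha : a ∈ A) (ha1 : a ≠ 1) {c : G} (hc : c ∈ ⁅A, B⁆) :
    ∃ b ∈ B, a⁻¹ * b⁻¹ * a * b = c := by
  obtain ⟨φ, hφ⟩ := exists_commEquiv hS hA hD hAD h ha ha1
  obtain ⟨b, hb⟩ := φ.surjective ⟨c, hc⟩
  refine ⟨b, b.2, ?_⟩
  rw [← hφ, hb]

theorem conjBy_le_sup_commutator {A B : Subgroup G} {b : G} (hb : b ∈ B) :
    conjBy A b ≤ A ⊔ ⁅A, B⁆ := by
  intro x hx
  rw [mem_conjBy] at hx
  have h1 : ⁅b, b⁻¹ * x * b⁆ ∈ ⁅A, B⁆ := by
    rw [Subgroup.commutator_comm]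
    exact Subgroup.commutator_mem_commutator hb hx
  have e : x = ⁅b, b⁻¹ * x * b⁆ * (b⁻¹ * x * b) := by
    rw [commutatorElement_def]; group
  rw [e]
  exact Subgroup.mul_mem _ (Subgroup.mem_sup_right h1) (Subgroup.mem_sup_left hx)

theorem mem_sup_commutator {A B : Subgroup G} (h : RootCommutatorCase S A B) {x : G}
    (hx : x ∈ A ⊔ ⁅A, B⁆) : ∃ a' ∈ A, ∃ c ∈ ⁅A, B⁆, x = a' * c := by
  have hle : A ≤ Subgroup.normalizer ((⁅A, B⁆ : Subgroup G) : Set G) := by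
    intro a' ha'
    apply Subgroup.centralizer_le_normalizer
    rw [Subgroup.mem_centralizer_iff]
    intro c hc
    exact h.2.1 c hc a' (Subgroup.mem_sup_left ha')
  have h1 : x ∈ ((A ⊔ ⁅A, B⁆ : Subgroup G) : Set G) := hx
  rw [Subgroup.coe_mul_of_left_le_normalizer_right A _ hle, Set.mem_mul] at h1
  obtain ⟨a', ha', c, hc, rfl⟩ := h1
  exact ⟨a', ha', c, hc, rfl⟩

/-- `a' c` with `1 ≠ a' ∈ A`, `c ∈ ⁅A, B⁆` is a `B`-conjugate of `a'` -/
theorem mul_eq_conj (hS : IsRootSubgroupSet S) {A D B : Subgroup G} (hA : A ∈ S)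
    (hD : D ∈ S) (hAD : IsRankOnePair A D) (h : RootCommutatorCase S A B) {a' c : G}
    (ha' : a' ∈ A) (ha'1 : a' ≠ 1) (hc : c ∈ ⁅A, B⁆) : ∃ b ∈ B, a' * c = b⁻¹ * a' * b := by
  obtain ⟨b, hb, hbc⟩ := comm_surjective hS hA hD hAD h ha' ha'1 hc
  refine ⟨b, hb, ?_⟩
  rw [← hbc]; group

theorem mul_mem_rootElements (hS : IsRootSubgroupSet S) {A D B : Subgroup G} (hA : A ∈ S)
    (hD : D ∈ S) (hAD : IsRankOnePair A D) (h : RootCommutatorCase S A B) {a' c : G}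
    (ha' : a' ∈ A) (ha'1 : a' ≠ 1) (hc : c ∈ ⁅A, B⁆) :
    ∃ b ∈ B, a' * c ∈ conjBy A b⁻¹ ∧ a' * c ≠ 1 := by
  obtain ⟨b, hb, hbc⟩ := mul_eq_conj hS hA hD hAD h ha' ha'1 hc
  refine ⟨b, hb, ?_, ?_⟩
  · rw [mem_conjBy, hbc]
    have e : (b⁻¹)⁻¹ * (b⁻¹ * a' * b) * b⁻¹ = a' := by group
    rw [e]; exact ha'
  · rw [hbc]
    intro hh
    apply ha'1
    have e : a' = b * (b⁻¹ * a' * b) * b⁻¹ := by group
    rw [e, hh]; group

/-- a member of `S` inside `⁅A, B⁆` does not commute with a rank one partner of `A` -/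
theorem commutator_partner_ne_bot (hS : IsRootSubgroupSet S) {A D B : Subgroup G} (hA : A ∈ S)
    (hD : D ∈ S) (hAD : IsRankOnePair A D) (h : RootCommutatorCase S A B) {E : Subgroup G}
    (hE : E ∈ S) (hle : E ≤ ⁅A, B⁆) : ⁅D, E⁆ ≠ ⊥ := by
  intro hbot
  obtain ⟨e, he1⟩ := (Subgroup.ne_bot_iff_exists_ne_one.1 (hS.ne_bot _ hE))
  have he1' : (e : G) ≠ 1 := fun hh => he1 (Subtype.ext hh)
  obtain ⟨a, ha, ha1⟩ := exists_nonidentity_left hAD
  have hcent : (e : G) ∈ Subgroup.centralizer ((A ⊔ D : Subgroup G) : Set G) := by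
    have h1 : A ≤ Subgroup.centralizer {(e : G)} := by
      intro a' ha'
      rw [Subgroup.mem_centralizer_iff]
      intro w hw
      rw [Set.mem_singleton_iff] at hw
      subst hw
      exact h.2.1 _ (hle e.2) a' (Subgroup.mem_sup_left ha')
    have h2 : D ≤ Subgroup.centralizer {(e : G)} := by
      intro d hd
      rw [Subgroup.mem_centralizer_iff]
      intro w hw
      rw [Set.mem_singleton_iff] at hw
      subst hw
      have h3 : ⁅d, (e : G)⁆ ∈ ⁅D, E⁆ := Subgroup.commutator_mem_commutator hd e.2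
      rw [hbot, Subgroup.mem_bot, commutatorElement_eq_one_iff_mul_comm] at h3
      exact h3.symm
    rw [Subgroup.mem_centralizer_iff]
    intro w hw
    have := (sup_le h1 h2) hw
    rw [Subgroup.mem_centralizer_iff] at this
    exact (this _ rfl).symm
  apply mul_notMem_rootElements hS hA hD hAD hcent he1' a ha ha1
  have hcomm : (e : G) * a = a * e := h.2.1 _ (hle e.2) a (Subgroup.mem_sup_left ha)
  rw [hcomm]
  obtain ⟨b, hb, h1, h2⟩ := mul_mem_rootElements hS hA hD hAD h ha ha1 (hle e.2)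
  exact ⟨h2, _, hS.conj_mem A hA b⁻¹, h1⟩

/-- a member of `S` inside `⁅A, B⁆` is `⁅A, B⁆` -/
theorem eq_commutator_of_le (hS : IsRootSubgroupSet S) {A D B : Subgroup G} (hA : A ∈ S)
    (hD : D ∈ S) (hAD : IsRankOnePair A D) (h : RootCommutatorCase S A B) {E : Subgroup G}
    (hE : E ∈ S) (hle : E ≤ ⁅A, B⁆) : E = ⁅A, B⁆ := by
  obtain ⟨e, he1⟩ := (Subgroup.ne_bot_iff_exists_ne_one.1 (hS.ne_bot _ hE))
  have he1' : (e : G) ≠ 1 := fun hh => he1 (Subtype.ext hh)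
  have hDA := RankOnePair_symm hAD
  rcases hS.pair D hD E hE with h1 | h1 | h1
  · exact absurd h1 (commutator_partner_ne_bot hS hA hD hAD h hE hle)
  · exact eq_of_inf_ne_bot hS hE hD (RankOnePair_symm h1) h.1 e.2 (hle e.2) he1'
  rcases hS.pair D hD _ h.1 with h2 | h2 | h2
  · exact absurd h2 (commutator_partner_ne_bot hS hA hD hAD h h.1 le_rfl)
  · exact (eq_of_inf_ne_bot hS h.1 hD (RankOnePair_symm h2) hE (hle e.2) e.2 he1').symm
  have heq : ⁅D, E⁆ = ⁅D, ⁅A, B⁆⁆ := by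
    rw [← h1.2.2.2 e e.2 he1', ← h2.2.2.2 e (hle e.2) he1']
  apply le_antisymm hle
  intro c hc
  obtain ⟨d, hd, hd1⟩ := exists_nonidentity_right hAD
  have h3 : d⁻¹ * c⁻¹ * d * c ∈ ⁅D, E⁆ := by
    rw [heq]; exact comm_mem hd hc
  obtain ⟨e', he', h4⟩ := comm_surjective hS hD hA hDA h1 hd hd1 h3
  have h5 := comm_injective hS hD hA hDA h2 hd hd1 (hle he') hc h4
  rw [← h5]; exact he'

/-- the members of `S` inside `A ⁅A, B⁆` -/
theorem membersIn_sup_commutator (hS : IsRootSubgroupSet S) {A D B : Subgroup G} (hA : A ∈ S)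
    (hD : D ∈ S) (hAD : IsRankOnePair A D) (h : RootCommutatorCase S A B) :
    membersIn S (A ⊔ ⁅A, B⁆) = (fun b : G => conjBy A b) '' (B : Set G) ∪ {⁅A, B⁆} := by
  ext E
  constructor
  · rintro ⟨hE, hle⟩
    by_cases hcase : ∃ a' ∈ A, ∃ c ∈ ⁅A, B⁆, a' ≠ 1 ∧ a' * c ∈ E
    · left
      obtain ⟨a', ha', c, hc, ha'1, hmem⟩ := hcase
      obtain ⟨b, hb, h1, h2⟩ := mul_mem_rootElements hS hA hD hAD h ha' ha'1 hc
      exact ⟨b⁻¹, B.inv_mem hb, conjBy_eq_of_inf_ne_bot hS hA hD hAD hE h1 hmem h2⟩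
    · right
      rw [Set.mem_singleton_iff]
      apply eq_commutator_of_le hS hA hD hAD h hE
      intro x hx
      obtain ⟨a', ha', c, hc, rfl⟩ := mem_sup_commutator h (hle hx)
      by_cases ha'1 : a' = 1
      · rw [ha'1, one_mul]; exact hc
      · exact absurd ⟨a', ha', c, hc, ha'1, hx⟩ hcase
  · rintro (⟨b, hb, rfl⟩ | hE)
    · exact ⟨hS.conj_mem A hA b, conjBy_le_sup_commutator hb⟩
    · rw [Set.mem_singleton_iff] at hE
      rw [hE]
      exact ⟨h.1, le_sup_right⟩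

/-- the members of `S` inside `A ⁅A, B⁆` partition it -/
theorem isSubgroupPartition_sup_commutator (hS : IsRootSubgroupSet S) {A D B : Subgroup G}
    (hA : A ∈ S) (hD : D ∈ S) (hAD : IsRankOnePair A D) (h : RootCommutatorCase S A B) :
    IsSubgroupPartition (A ⊔ ⁅A, B⁆) (membersIn S (A ⊔ ⁅A, B⁆)) := by
  refine ⟨fun E hE => hE.2, ?_, ?_⟩
  · intro x hx hx1
    obtain ⟨a', ha', c, hc, rfl⟩ := mem_sup_commutator h hx
    by_cases ha'1 : a' = 1
    · refine ⟨⁅A, B⁆, ⟨h.1, le_sup_right⟩, ?_⟩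
      rw [ha'1, one_mul]; exact hc
    · obtain ⟨b, hb, h1, _⟩ := mul_mem_rootElements hS hA hD hAD h ha' ha'1 hc
      exact ⟨_, ⟨hS.conj_mem A hA b⁻¹, conjBy_le_sup_commutator (B.inv_mem hb)⟩, h1⟩
  · intro E hE E' hE' hne
    rw [membersIn_sup_commutator hS hA hD hAD h] at hE hE'
    rw [Subgroup.eq_bot_iff_forall]
    intro x hx
    by_contra hx1
    apply hne
    rcases hE with ⟨b, hb, rfl⟩ | hE
    · exact conjBy_eq_of_inf_ne_bot hS hA hD hAD
        (by rcases hE' with ⟨b', hb', rfl⟩ | hE'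
            · exact hS.conj_mem A hA b'
            · rw [Set.mem_singleton_iff] at hE'; rw [hE']; exact h.1) hx.1 hx.2 hx1
    · rcases hE' with ⟨b', hb', rfl⟩ | hE'
      · rw [Set.mem_singleton_iff] at hE
        refine (conjBy_eq_of_inf_ne_bot hS hA hD hAD ?_ hx.2 hx.1 hx1).symm
        rw [hE]; exact h.1
      · rw [Set.mem_singleton_iff] at hE hE'
        rw [hE, hE']

end Cfsg.Agent.H2.RootSub
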