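import Mathlib
import Cfsg.Prelude.Def_RootSubgroups
import Cfsg.Agent.H2.RankOne
import Cfsg.Agent.H2.RootSub
import Cfsg.Agent.H2.RootSub2

/-!
Sets of abstract root subgroups: the graph of rank one pairs (helper2).
-/

set_option autoImplicit false

namespace Cfsg.Agent.H2.RootSub

open Cfsg Cfsg.Agent.H2.RankOne
open scoped commutatorElement Pointwise

variable {G : Type*} [Group G]

theorem conj_mem_conjBy {A : Subgroup G} {a : G} (ha : a ∈ A) (g : G) : g * a * g⁻¹ ∈ conjBy A g := by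
  rw [mem_conjBy]
  have e : g⁻¹ * (g * a * g⁻¹) * g = a := by group
  rw [e]; exact ha

theorem rankOneCondition_conjBy {A B : Subgroup G} (h : RankOneCondition A B) (g : G) :
    RankOneCondition (conjBy A g) (conjBy B g) := by
  intro x hx hx1
  rw [mem_conjBy] at hx
  have hx1' : g⁻¹ * x * g ≠ 1 := by
    intro hh
    apply hx1
    have e : x = g * (g⁻¹ * x * g) * g⁻¹ := by group
    rw [e, hh]; group
  obtain ⟨b, hb, hb1, hab⟩ := h _ hx hx1'
  refine ⟨g * b * g⁻¹, conj_mem_conjBy hb g, ?_, ?_⟩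
  · intro hh
    apply hb1
    have e : b = g⁻¹ * (g * b * g⁻¹) * g := by group
    rw [e, hh]; group
  · rw [conjBy_mul, conjBy_mul]
    have e1 : (g * b * g⁻¹)⁻¹ * g = g * b⁻¹ := by group
    have e2 : x⁻¹ * g = g * (g⁻¹ * x * g)⁻¹ := by group
    rw [e1, e2, ← conjBy_mul, ← conjBy_mul, hab]

theorem isNilpotent_conjBy {A : Subgroup G} (h : Group.IsNilpotent A) (g : G) :
    Group.IsNilpotent ↥(conjBy A g) :=
  Group.nilpotent_of_mulEquiv (A.equivMapOfInjective (MulAut.conj g).toMonoidHom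
    (MulAut.conj g).injective)

theorem isRankOnePair_conjBy {A B : Subgroup G} (h : IsRankOnePair A B) (g : G) :
    IsRankOnePair (conjBy A g) (conjBy B g) where
  ne := fun hh => h.ne (conjBy_injective g hh)
  nilpotent_left := isNilpotent_conjBy h.nilpotent_left g
  nilpotent_right := isNilpotent_conjBy h.nilpotent_right g
  cond_left := rankOneCondition_conjBy h.cond_left g
  cond_right := rankOneCondition_conjBy h.cond_right g

variable {S : Set (Subgroup G)}

theorem fAdj_symm {A B : Subgroup G} (h : FAdj S A B) : FAdj S B A :=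
  ⟨h.2.1, h.1, RankOnePair_symm h.2.2⟩

theorem reach_symm {A B : Subgroup G} (h : Relation.ReflTransGen (FAdj S) A B) :
    Relation.ReflTransGen (FAdj S) B A := by
  induction h with
  | refl => exact Relation.ReflTransGen.refl
  | tail _ hbc ih => exact Relation.ReflTransGen.head (fAdj_symm hbc) ih

theorem componentOf_eq_of_reach {A B : Subgroup G} (h : Relation.ReflTransGen (FAdj S) A B) :
    componentOf (FAdj S) S A = componentOf (FAdj S) S B := by
  ext E
  constructor
  · rintro ⟨hE, h1⟩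
    exact ⟨hE, (reach_symm h).trans h1⟩
  · rintro ⟨hE, h1⟩
    exact ⟨hE, h.trans h1⟩

theorem exists_partner_of_component {A : Subgroup G}
    (hA2 : ∃ A' ∈ componentOf (FAdj S) S A, A' ≠ A) : ∃ D ∈ S, IsRankOnePair A D := by
  obtain ⟨A', ⟨_, h1⟩, hne⟩ := hA2
  rcases Relation.ReflTransGen.cases_head h1 with h2 | ⟨D, h2, _⟩
  · exact absurd h2.symm hne
  · exact ⟨D, h2.2.1, h2.2.2⟩

theorem fAdj_conjBy (hS : IsRootSubgroupSet S) {A B : Subgroup G} (h : FAdj S A B) (g : G) :
    FAdj S (conjBy A g) (conjBy B g) :=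
  ⟨hS.conj_mem A h.1 g, hS.conj_mem B h.2.1 g, isRankOnePair_conjBy h.2.2 g⟩

theorem reach_conjBy (hS : IsRootSubgroupSet S) {A B : Subgroup G}
    (h : Relation.ReflTransGen (FAdj S) A B) (g : G) :
    Relation.ReflTransGen (FAdj S) (conjBy A g) (conjBy B g) := by
  induction h with
  | refl => exact Relation.ReflTransGen.refl
  | tail _ hbc ih => exact Relation.ReflTransGen.tail ih (fAdj_conjBy hS hbc g)

/-- a line partner of `A` does not commute with a rank one partner of `A` -/
theorem linePartner_not_commute (hS : IsRootSubgroupSet S) {A D B : Subgroup G} (hA : A ∈ S)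
    (hD : D ∈ S) (hAD : IsRankOnePair A D) (hB : B ∈ linePartners S A) : ⁅D, B⁆ ≠ ⊥ := by
  intro hbot
  obtain ⟨⟨hBS, hBA, hcomm⟩, hpart⟩ := hB
  obtain ⟨b, hb1⟩ := (Subgroup.ne_bot_iff_exists_ne_one.1 (hS.ne_bot _ hBS))
  have hb1' : (b : G) ≠ 1 := fun hh => hb1 (Subtype.ext hh)
  obtain ⟨a, ha, ha1⟩ := exists_nonidentity_left hAD
  have hcent : (b : G) ∈ Subgroup.centralizer ((A ⊔ D : Subgroup G) : Set G) := by
    have h1 : A ≤ Subgroup.centralizer {(b : G)} := by
      intro a' ha'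
      rw [Subgroup.mem_centralizer_iff]
      intro w hw
      rw [Set.mem_singleton_iff] at hw
      subst hw
      have h3 : ⁅a', (b : G)⁆ ∈ ⁅A, B⁆ := Subgroup.commutator_mem_commutator ha' b.2
      rw [hcomm, Subgroup.mem_bot, commutatorElement_eq_one_iff_mul_comm] at h3
      exact h3.symm
    have h2 : D ≤ Subgroup.centralizer {(b : G)} := by
      intro d hd
      rw [Subgroup.mem_centralizer_iff]
      intro w hw
      rw [Set.mem_singleton_iff] at hw
      subst hw
      have h3 : ⁅d, (b : G)⁆ ∈ ⁅D, B⁆ := Subgroup.commutator_mem_commutator hd b.2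
      rw [hbot, Subgroup.mem_bot, commutatorElement_eq_one_iff_mul_comm] at h3
      exact h3.symm
    rw [Subgroup.mem_centralizer_iff]
    intro w hw
    have := (sup_le h1 h2) hw
    rw [Subgroup.mem_centralizer_iff] at this
    exact (this _ rfl).symm
  apply mul_notMem_rootElements hS hA hD hAD hcent hb1' a ha ha1
  have hne : (b : G) * a ≠ 1 := by
    intro hh
    apply hBA
    have h1 : (b : G) = a⁻¹ := eq_inv_of_mul_eq_one_left hh
    have h2 : (b : G) ∈ A := by rw [h1]; exact A.inv_mem ha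
    exact (eq_of_inf_ne_bot hS hA hD hAD hBS h2 b.2 hb1').symm
  obtain ⟨E, hE, hmem⟩ := hpart.2.1 _ (Subgroup.mul_mem _ (Subgroup.mem_sup_right b.2)
    (Subgroup.mem_sup_left ha)) hne
  exact ⟨hne, E, hE.1, hmem⟩

theorem exists_ne_one_of_mem (hS : IsRootSubgroupSet S) {B : Subgroup G} (hB : B ∈ S) :
    ∃ b ∈ B, b ≠ 1 := by
  obtain ⟨b₀, hb₀⟩ := (Subgroup.ne_bot_iff_exists_ne_one.1 (hS.ne_bot _ hB))
  exact ⟨b₀, b₀.2, fun hh => hb₀ (Subtype.ext hh)⟩

theorem linePartners_symm {A B : Subgroup G} (hA : A ∈ S) (hB : B ∈ linePartners S A) :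
    A ∈ linePartners S B := by
  obtain ⟨⟨hBS, hBA, hcomm⟩, hpart⟩ := hB
  refine ⟨⟨hA, hBA.symm, ?_⟩, ?_⟩
  · rw [Subgroup.commutator_comm]; exact hcomm
  · rw [sup_comm]; exact hpart

theorem commute_of_commutator_eq_bot {A B : Subgroup G} (h : ⁅A, B⁆ = ⊥) {a b : G} (ha : a ∈ A)
    (hb : b ∈ B) : a * b = b * a := by
  have h3 : ⁅a, b⁆ ∈ ⁅A, B⁆ := Subgroup.commutator_mem_commutator ha hb
  rw [h, Subgroup.mem_bot, commutatorElement_eq_one_iff_mul_comm] at h3
  exact h3

/-- main step towards: line partners lie in the same component -/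
theorem exists_commutator_eq_of_linePartner (hS : IsRootSubgroupSet S) {A D B B₁ : Subgroup G}
    (hA : A ∈ S) (hD : D ∈ S) (hAD : IsRankOnePair A D) (hB : B ∈ linePartners S A)
    (hB₁ : B₁ ∈ S) (hBB₁ : IsRankOnePair B B₁)
    (hnr : ¬ Relation.ReflTransGen (FAdj S) A B) :
    ∃ F ∈ S, ⁅D, F⁆ = ⊥ ∧ RootCommutatorCase S A F ∧ ⁅A, F⁆ = B := by
  have hB' := hB
  obtain ⟨⟨hBS, hBA, hcomm⟩, hpart⟩ := hB'
  have hDA := RankOnePair_symm hAD
  rcases hS.pair D hD B hBS with h | h | h
  · exact absurd h (linePartner_not_commute hS hA hD hAD hB)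
  · exfalso
    apply hnr
    exact (Relation.ReflTransGen.single ⟨hA, hD, hAD⟩).tail ⟨hD, hBS, h⟩
  -- the commutator case: `F = ⁅D, B⁆`
  have hF := h.1
  obtain ⟨a, ha, ha1⟩ := exists_nonidentity_left hAD
  obtain ⟨d, hd, hd1, had⟩ := hAD.cond_left a ha ha1
  obtain ⟨b, hb, hb1⟩ := exists_ne_one_of_mem hS hBS
  have hf : b⁻¹ * d⁻¹ * b * d ∈ ⁅D, B⁆ := by
    rw [Subgroup.commutator_comm]; exact comm_mem hb hd
  have hbf : d⁻¹ * b * d = b * (b⁻¹ * d⁻¹ * b * d) := by group
  have hab : a * b = b * a := commute_of_commutator_eq_bot hcomm ha hb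
  -- `y = a (d⁻¹ b d) a⁻¹` centralizes `D`
  have hy : ∀ d' ∈ D, (a * (d⁻¹ * b * d) * a⁻¹) * d' = d' * (a * (d⁻¹ * b * d) * a⁻¹) := by
    intro d' hd'
    have h1 : a⁻¹ * d' * a ∈ conjBy D a⁻¹ := by
      rw [mem_conjBy]
      have e : (a⁻¹)⁻¹ * (a⁻¹ * d' * a) * a⁻¹ = d' := by group
      rw [e]; exact hd'
    rw [← had, mem_conjBy] at h1
    have h2 := commute_of_commutator_eq_bot hcomm h1 hb
    have e1 : d' = a * d⁻¹ * ((d⁻¹)⁻¹ * (a⁻¹ * d' * a) * d⁻¹) * d * a⁻¹ := by group
    rw [e1]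
    generalize (d⁻¹)⁻¹ * (a⁻¹ * d' * a) * d⁻¹ = a' at h2
    calc a * (d⁻¹ * b * d) * a⁻¹ * (a * d⁻¹ * a' * d * a⁻¹)
        = a * d⁻¹ * (b * a') * d * a⁻¹ := by group
      _ = a * d⁻¹ * (a' * b) * d * a⁻¹ := by rw [h2]
      _ = a * d⁻¹ * a' * d * a⁻¹ * (a * (d⁻¹ * b * d) * a⁻¹) := by group
  have hfD : ∀ d' ∈ D, (b⁻¹ * d⁻¹ * b * d) * d' = d' * (b⁻¹ * d⁻¹ * b * d) :=
    fun d' hd' => h.2.1 _ hf d' (Subgroup.mem_sup_left hd')
  have hfb : (b⁻¹ * d⁻¹ * b * d) * b = b * (b⁻¹ * d⁻¹ * b * d) :=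
    h.2.1 _ hf b (Subgroup.mem_sup_right hb)
  have hdb : d * b ≠ b * d := commutatorCase_not_commute hS hD hA hDA h hd hd1 hb hb1
  rcases hS.pair A hA _ hF with h' | h' | h'
  · -- `⁅A, F⁆ = ⊥`
    exfalso
    apply hdb
    have haf := commute_of_commutator_eq_bot h' ha hf
    have hyD : b * (b⁻¹ * d⁻¹ * b * d) ∈ Subgroup.centralizer (D : Set G) := by
      rw [Subgroup.mem_centralizer_iff]
      intro d' hd'
      have := hy d' hd'
      rw [hbf] at this
      have e : a * (b * (b⁻¹ * d⁻¹ * b * d)) * a⁻¹ = b * (b⁻¹ * d⁻¹ * b * d) := by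
        calc a * (b * (b⁻¹ * d⁻¹ * b * d)) * a⁻¹
            = (a * b) * (b⁻¹ * d⁻¹ * b * d) * a⁻¹ := by group
          _ = (b * a) * (b⁻¹ * d⁻¹ * b * d) * a⁻¹ := by rw [hab]
          _ = b * (a * (b⁻¹ * d⁻¹ * b * d)) * a⁻¹ := by group
          _ = b * ((b⁻¹ * d⁻¹ * b * d) * a) * a⁻¹ := by rw [haf]
          _ = b * (b⁻¹ * d⁻¹ * b * d) := by group
      rw [e] at this
      exact this.symm
    have hfD' : (b⁻¹ * d⁻¹ * b * d) ∈ Subgroup.centralizer (D : Set G) := by
      rw [Subgroup.mem_centralizer_iff]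
      intro d' hd'
      exact (hfD d' hd').symm
    have hbD : b ∈ Subgroup.centralizer (D : Set G) := by
      have := Subgroup.mul_mem _ hyD (Subgroup.inv_mem _ hfD')
      rwa [mul_inv_cancel_right] at this
    rw [Subgroup.mem_centralizer_iff] at hbD
    exact hbD d hd
  · -- `(A, F)` rank one
    exfalso
    have hBD : RootCommutatorCase S B D :=
      commutatorCase_of_commutator_mem hS hBS hD (by rw [Subgroup.commutator_comm]; exact hF)
    have hpart' := isSubgroupPartition_sup_commutator hS hBS hB₁ hBB₁ hBD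
    have hline : B ∈ linePartners S ⁅D, B⁆ := by
      rw [Subgroup.commutator_comm D B]
      refine ⟨⟨hBS, commutatorCase_ne hS hBD, ?_⟩, ?_⟩
      · rw [Subgroup.commutator_eq_bot_iff_le_centralizer]
        intro c hc
        rw [Subgroup.mem_centralizer_iff]
        intro b' hb'
        exact (hBD.2.1 c hc b' (Subgroup.mem_sup_left hb')).symm
      · rw [sup_comm]; exact hpart'
    exact linePartner_not_commute hS hF hA (RankOnePair_symm h') hline hcomm
  · -- commutator case, `E = ⁅A, F⁆`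
    have he : (b⁻¹ * d⁻¹ * b * d)⁻¹ * a * (b⁻¹ * d⁻¹ * b * d) * a⁻¹ ∈ ⁅A, ⁅D, B⁆⁆ := by
      rw [Subgroup.commutator_comm]
      have := comm_mem hf (A.inv_mem ha)
      rwa [inv_inv] at this
    generalize hfdef : b⁻¹ * d⁻¹ * b * d = f at *
    generalize hedef : f⁻¹ * a * f * a⁻¹ = e at *
    have hafe : a * f * a⁻¹ = f * e := by rw [← hedef]; group
    have heA : ∀ a' ∈ A, e * a' = a' * e := fun a' ha' => h'.2.1 e he a' (Subgroup.mem_sup_left ha')
    -- `z = b e` centralizes `A ⊔ D`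
    have hzD : b * e ∈ Subgroup.centralizer (D : Set G) := by
      have hyD : a * (d⁻¹ * b * d) * a⁻¹ ∈ Subgroup.centralizer (D : Set G) := by
        rw [Subgroup.mem_centralizer_iff]
        intro d' hd'
        exact (hy d' hd').symm
      have hfD' : f ∈ Subgroup.centralizer (D : Set G) := by
        rw [Subgroup.mem_centralizer_iff]
        intro d' hd'
        exact (hfD d' hd').symm
      have e1 : a * (d⁻¹ * b * d) * a⁻¹ = f * (b * e) := by
        rw [hbf]
        calc a * (b * f) * a⁻¹ = (a * b) * a⁻¹ * (a * f * a⁻¹) := by group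
          _ = (b * a) * a⁻¹ * (f * e) := by rw [hab, hafe]
          _ = (b * f) * e := by group
          _ = (f * b) * e := by rw [hfb]
          _ = f * (b * e) := by group
      rw [e1] at hyD
      have := Subgroup.mul_mem _ (Subgroup.inv_mem _ hfD') hyD
      rwa [inv_mul_cancel_left] at this
    by_cases hz : b * e = 1
    · -- `B = ⁅A, F⁆`
      have heb : e = b⁻¹ := (eq_inv_of_mul_eq_one_right hz)
      have heB : e ∈ B := by rw [heb]; exact B.inv_mem hb
      have he1 : e ≠ 1 := by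
        rw [heb]; simpa using hb1
      refine ⟨_, hF, ?_, h', (eq_of_inf_ne_bot hS hBS hB₁ hBB₁ h'.1 heB he he1).symm⟩
      rw [Subgroup.commutator_eq_bot_iff_le_centralizer]
      intro d' hd'
      rw [Subgroup.mem_centralizer_iff]
      intro c hc
      exact h.2.1 c hc d' (Subgroup.mem_sup_left hd')
    · exfalso
      have hcent : b * e ∈ Subgroup.centralizer ((A ⊔ D : Subgroup G) : Set G) := by
        have h1 : A ≤ Subgroup.centralizer {b * e} := by
          intro a' ha'
          rw [Subgroup.mem_centralizer_iff]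
          intro w hw
          rw [Set.mem_singleton_iff] at hw
          subst hw
          have h2 := commute_of_commutator_eq_bot hcomm ha' hb
          rw [mul_assoc, heA a' ha', ← mul_assoc, ← h2, mul_assoc]
        have h2 : D ≤ Subgroup.centralizer {b * e} := by
          intro d' hd'
          rw [Subgroup.mem_centralizer_iff]
          intro w hw
          rw [Set.mem_singleton_iff] at hw
          subst hw
          rw [Subgroup.mem_centralizer_iff] at hzD
          exact (hzD d' hd').symm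
        rw [Subgroup.mem_centralizer_iff]
        intro w hw
        have := (sup_le h1 h2) hw
        rw [Subgroup.mem_centralizer_iff] at this
        exact (this _ rfl).symm
      apply mul_notMem_rootElements hS hA hD hAD hcent hz a ha ha1
      obtain ⟨f', hf', hconj⟩ := mul_eq_conj hS hA hD hAD h' ha ha1 he
      have hf'b : f' * b = b * f' := h.2.1 f' hf' b (Subgroup.mem_sup_right hb)
      have hba1 : b * a ≠ 1 := by
        intro hh
        apply hBA
        have h1 : b = a⁻¹ := eq_inv_of_mul_eq_one_left hh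
        have h2 : b ∈ A := by rw [h1]; exact A.inv_mem ha
        exact (eq_of_inf_ne_bot hS hA hD hAD hBS h2 hb hb1).symm
      obtain ⟨E, hE, hmem⟩ := hpart.2.1 _ (Subgroup.mul_mem _ (Subgroup.mem_sup_right hb)
        (Subgroup.mem_sup_left ha)) hba1
      have hf'b' : b * f'⁻¹ = f'⁻¹ * b := by
        calc b * f'⁻¹ = f'⁻¹ * (f' * b) * f'⁻¹ := by group
          _ = f'⁻¹ * (b * f') * f'⁻¹ := by rw [hf'b]
          _ = f'⁻¹ * b := by group
      have hza : b * e * a = f'⁻¹ * (b * a) * f' := by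
        calc b * e * a = b * (e * a) := by group
          _ = b * (a * e) := by rw [heA a ha]
          _ = b * (f'⁻¹ * a * f') := by rw [hconj]
          _ = (b * f'⁻¹) * a * f' := by group
          _ = (f'⁻¹ * b) * a * f' := by rw [hf'b']
          _ = f'⁻¹ * (b * a) * f' := by group
      refine ⟨?_, conjBy E f'⁻¹, hS.conj_mem E hE.1 f'⁻¹, ?_⟩
      · rw [hza]
        intro hh
        apply hba1
        have e2 : b * a = f' * (f'⁻¹ * (b * a) * f') * f'⁻¹ := by group
        rw [e2, hh]; group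
      · rw [mem_conjBy, hza]
        have e2 : (f'⁻¹)⁻¹ * (f'⁻¹ * (b * a) * f') * f'⁻¹ = b * a := by group
        rw [e2]; exact hmem

/-- in the situation of the main step, the other members of `S` inside `A B` are reachable from `A` -/
theorem reach_of_mem_membersIn (hS : IsRootSubgroupSet S) {A D B F : Subgroup G}
    (hA : A ∈ S) (hD : D ∈ S) (hAD : IsRankOnePair A D) (hDF : ⁅D, F⁆ = ⊥)
    (hAF : RootCommutatorCase S A F) (hAFB : ⁅A, F⁆ = B) {E : Subgroup G}
    (hE : E ∈ membersIn S (A ⊔ B)) (hEB : E ≠ B) : Relation.ReflTransGen (FAdj S) A E := by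
  rw [← hAFB, membersIn_sup_commutator hS hA hD hAD hAF] at hE
  rcases hE with ⟨f, hf, rfl⟩ | hE
  · have hfN : f ∈ Subgroup.normalizer (D : Set G) := by
      apply Subgroup.centralizer_le_normalizer
      rw [Subgroup.mem_centralizer_iff]
      intro d' hd'
      exact commute_of_commutator_eq_bot hDF hd' hf
    have h1 : IsRankOnePair D (conjBy A f) := by
      have := isRankOnePair_conjBy (RankOnePair_symm hAD) f
      rwa [conjBy_eq_self_iff.2 hfN] at this
    exact (Relation.ReflTransGen.single ⟨hA, hD, hAD⟩).tail ⟨hD, hS.conj_mem A hA f, h1⟩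
  · rw [Set.mem_singleton_iff, hAFB] at hE
    exact absurd hE hEB

/-- a line partner of `A` lies in the connected component of `A` in the graph of rank one pairs, if
both are not isolated -/
theorem reach_of_linePartner (hS : IsRootSubgroupSet S) {A D B B₁ : Subgroup G}
    (hA : A ∈ S) (hD : D ∈ S) (hAD : IsRankOnePair A D) (hB : B ∈ linePartners S A)
    (hB₁ : B₁ ∈ S) (hBB₁ : IsRankOnePair B B₁) : Relation.ReflTransGen (FAdj S) A B := by
  by_contra hnr
  have hBS : B ∈ S := hB.1.1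
  have hBA : B ≠ A := hB.1.2.1
  have hcomm : ⁅A, B⁆ = ⊥ := hB.1.2.2
  obtain ⟨F, hF, hDF, hAF, hAFB⟩ :=
    exists_commutator_eq_of_linePartner hS hA hD hAD hB hB₁ hBB₁ hnr
  have hA' := linePartners_symm hA hB
  obtain ⟨F', hF', hDF', hAF', hAFB'⟩ :=
    exists_commutator_eq_of_linePartner hS hBS hB₁ hBB₁ hA' hD hAD (fun hh => hnr (reach_symm hh))
  obtain ⟨a, ha, ha1⟩ := exists_nonidentity_left hAD
  obtain ⟨b, hb, hb1⟩ := exists_nonidentity_left hBB₁
  have hab1 : a * b ≠ 1 := by
    intro hh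
    apply hBA
    have h1 : a = b⁻¹ := eq_inv_of_mul_eq_one_left hh
    have h2 : a ∈ B := by rw [h1]; exact B.inv_mem hb
    exact (eq_of_inf_ne_bot hS hA hD hAD hBS ha h2 ha1).symm
  obtain ⟨E, hE, hmem⟩ := hB.2.2.1 _ (Subgroup.mul_mem _ (Subgroup.mem_sup_left ha)
    (Subgroup.mem_sup_right hb)) hab1
  have hEB : E ≠ B := by
    intro hh
    rw [hh] at hmem
    apply hBA
    have h2 : a ∈ B := by
      have := B.mul_mem hmem (B.inv_mem hb)
      rwa [mul_inv_cancel_right] at this
    exact (eq_of_inf_ne_bot hS hA hD hAD hBS ha h2 ha1).symm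
  have hEA : E ≠ A := by
    intro hh
    rw [hh] at hmem
    apply hBA
    have h2 : b ∈ A := by
      have := A.mul_mem (A.inv_mem ha) hmem
      rwa [inv_mul_cancel_left] at this
    exact (eq_of_inf_ne_bot hS hA hD hAD hBS h2 hb hb1).symm
  have h1 := reach_of_mem_membersIn hS hA hD hAD hDF hAF hAFB hE hEB
  have hE' : E ∈ membersIn S (B ⊔ A) := by rw [sup_comm]; exact hE
  have h2 := reach_of_mem_membersIn hS hBS hB₁ hBB₁ hDF' hAF' hAFB' hE' hEA
  exact hnr (h1.trans (reach_symm h2))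

end Cfsg.Agent.H2.RootSub
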