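import Mathlib
import Cfsg.Prelude.Def_RootSubgroups
import Cfsg.Agent.H2.RankOne
import Cfsg.Agent.H2.RootSub
import Cfsg.Agent.H2.RootSub2
import Cfsg.Agent.H2.RootSub3

/-!
Sets of abstract root subgroups: connectedness of the graph of rank one pairs (helper2).
-/

set_option autoImplicit false

namespace Cfsg.Agent.H2.RootSub

open Cfsg Cfsg.Agent.H2.RankOne
open scoped commutatorElement Pointwise

variable {G : Type*} [Group G] {S : Set (Subgroup G)}

theorem mem_linePartners_commutator (hS : IsRootSubgroupSet S) {A D B : Subgroup G} (hA : A ∈ S)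
    (hD : D ∈ S) (hAD : IsRankOnePair A D) (h : RootCommutatorCase S A B) :
    A ∈ linePartners S ⁅A, B⁆ := by
  refine ⟨⟨hA, commutatorCase_ne hS h, ?_⟩, ?_⟩
  · rw [Subgroup.commutator_eq_bot_iff_le_centralizer]
    intro c hc
    rw [Subgroup.mem_centralizer_iff]
    intro a ha
    exact (h.2.1 c hc a (Subgroup.mem_sup_left ha)).symm
  · rw [sup_comm]; exact isSubgroupPartition_sup_commutator hS hA hD hAD h

theorem commutator_conjBy_of_mem_right {A B : Subgroup G} {b : G} (hb : b ∈ B) :
    ⁅conjBy A b, B⁆ = ⁅A, B⁆ := by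
  have h1 : ⁅conjBy A b, conjBy B b⁆ = conjBy ⁅A, B⁆ b := (Subgroup.map_commutator A B _).symm
  rw [conjBy_eq_self_of_mem hb, conjBy_commutator_of_mem_right hb] at h1
  exact h1

/-- conjugating by an element of a member of `S` stays inside the connected component -/
theorem reach_conjBy_of_mem (hS : IsRootSubgroupSet S)
    (hpart : ∀ A ∈ S, ∃ D ∈ S, IsRankOnePair A D) {A B : Subgroup G} (hA : A ∈ S) (hB : B ∈ S)
    {b : G} (hb : b ∈ B) : Relation.ReflTransGen (FAdj S) A (conjBy A b) := by
  rcases hS.pair A hA B hB with h | h | h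
  · have hbN : b ∈ Subgroup.normalizer (A : Set G) := by
      apply Subgroup.centralizer_le_normalizer
      rw [Subgroup.mem_centralizer_iff]
      intro a ha
      exact commute_of_commutator_eq_bot h ha hb
    rw [conjBy_eq_self_iff.2 hbN]
  · have h1 : IsRankOnePair B (conjBy A b) := by
      have := isRankOnePair_conjBy (RankOnePair_symm h) b
      rwa [conjBy_eq_self_of_mem hb] at this
    exact (Relation.ReflTransGen.single ⟨hA, hB, h⟩).tail ⟨hB, hS.conj_mem A hA b, h1⟩
  · obtain ⟨D, hD, hAD⟩ := hpart A hA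
    obtain ⟨C₁, hC₁, hCC₁⟩ := hpart _ h.1
    have hA' : conjBy A b ∈ S := hS.conj_mem A hA b
    have hAD' := isRankOnePair_conjBy hAD b
    have h' : RootCommutatorCase S (conjBy A b) B := by
      apply commutatorCase_of_commutator_mem hS hA' hB
      rw [commutator_conjBy_of_mem_right hb]; exact h.1
    have hl1 := mem_linePartners_commutator hS hA hD hAD h
    have hl2 := mem_linePartners_commutator hS hA' (hS.conj_mem D hD b) hAD' h'
    rw [commutator_conjBy_of_mem_right hb] at hl2
    have r1 := reach_of_linePartner hS h.1 hC₁ hCC₁ hl1 hD hAD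
    have r2 := reach_of_linePartner hS h.1 hC₁ hCC₁ hl2 (hS.conj_mem D hD b) hAD'
    exact (reach_symm r1).trans r2

/-- the elements stabilizing every connected component -/
def componentStabilizer (S : Set (Subgroup G)) (hS : IsRootSubgroupSet S) : Subgroup G where
  carrier := {g | ∀ A ∈ S, Relation.ReflTransGen (FAdj S) A (conjBy A g)}
  one_mem' := by
    intro A _
    rw [conjBy_one]
  mul_mem' := by
    intro g h hg hh A hA
    rw [← conjBy_mul]
    exact (hh A hA).trans (hg _ (hS.conj_mem A hA h))
  inv_mem' := by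
    intro g hg A hA
    have := hg _ (hS.conj_mem A hA g⁻¹)
    rw [conjBy_mul, mul_inv_cancel, conjBy_one] at this
    exact reach_symm this

theorem componentStabilizer_eq_top (hS : IsRootSubgroupSet S)
    (hpart : ∀ A ∈ S, ∃ D ∈ S, IsRankOnePair A D) : componentStabilizer S hS = ⊤ := by
  rw [eq_top_iff, ← hS.generates]
  apply iSup₂_le
  intro B hB b hb A hA
  exact reach_conjBy_of_mem hS hpart hA hB hb

theorem reach_conjBy_of_forall_partner (hS : IsRootSubgroupSet S)
    (hpart : ∀ A ∈ S, ∃ D ∈ S, IsRankOnePair A D) {A : Subgroup G} (hA : A ∈ S) (g : G) :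
    Relation.ReflTransGen (FAdj S) A (conjBy A g) := by
  have : g ∈ componentStabilizer S hS := by
    rw [componentStabilizer_eq_top hS hpart]; trivial
  exact this A hA

end Cfsg.Agent.H2.RootSub
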