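import Mathlib
import Cfsg.Prelude.Def_RootSubgroups
import Cfsg.Agent.H2.RankOne
import Cfsg.Agent.H2.RootSub
import Cfsg.Agent.H2.RootSub2
import Cfsg.Agent.H2.RootSub3

/-!
Sets of abstract root subgroups: the configuration `C = ⁅A, B⁆`, `A = ⁅C, D⁆` (helper2).
-/

set_option autoImplicit false

namespace Cfsg.Agent.H2.RootSub

open Cfsg Cfsg.Agent.H2.RankOne
open scoped commutatorElement Pointwise

variable {G : Type*} [Group G] {S : Set (Subgroup G)}

/-- surjectivity of the commutator map, without any rank one partner -/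
theorem comm_surjective' {A B : Subgroup G} (h : RootCommutatorCase S A B) {a : G}
    (ha : a ∈ A) (ha1 : a ≠ 1) {c : G} (hc : c ∈ ⁅A, B⁆) :
    ∃ b ∈ B, a⁻¹ * b⁻¹ * a * b = c := by
  let f : ↥B →* ↥⁅A, B⁆ := MonoidHom.mk' (fun b => ⟨a⁻¹ * (b : G)⁻¹ * a * b, comm_mem ha b.2⟩)
    (fun b b' => Subtype.ext (comm_mul h ha b.2 b'.2))
  have ha1' : a⁻¹ ≠ 1 := by simpa using ha1
  have hcl := h.2.2.1 a⁻¹ (A.inv_mem ha) ha1'
  have hle : Subgroup.closure ((fun b => a⁻¹ * b * a⁻¹⁻¹ * b⁻¹) '' (B : Set G)) ≤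
      ((⁅A, B⁆).subtype.comp f).range := by
    rw [Subgroup.closure_le]
    rintro _ ⟨b, hb, rfl⟩
    refine ⟨⟨b⁻¹, B.inv_mem hb⟩, ?_⟩
    show a⁻¹ * (b⁻¹)⁻¹ * a * b⁻¹ = a⁻¹ * b * (a⁻¹)⁻¹ * b⁻¹
    rw [inv_inv, inv_inv]
  rw [← hcl] at hc
  obtain ⟨b, hb⟩ := hle hc
  exact ⟨b, b.2, hb⟩

theorem commute_of_isMulCommutative {A : Subgroup G} (h : IsMulCommutative A) {x y : G} (hx : x ∈ A)
    (hy : y ∈ A) : x * y = y * x := by
  have h2 : (⟨x, hx⟩ : A) * ⟨y, hy⟩ = ⟨y, hy⟩ * ⟨x, hx⟩ := isMulCommutative_iff.1 h _ _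
  exact congrArg Subtype.val h2

/-- the configuration `C = ⁅A, B⁆`, `A = ⁅C, D⁆` of members of `S` -/
structure Quad (S : Set (Subgroup G)) (A B C D : Subgroup G) : Prop where
  hA : A ∈ S
  hB : B ∈ S
  hC : C ∈ S
  hD : D ∈ S
  hAB : ⁅A, B⁆ = C
  hCD : ⁅C, D⁆ = A

namespace Quad

variable {A B C D : Subgroup G}

theorem symm (q : Quad S A B C D) : Quad S C D A B :=
  ⟨q.hC, q.hD, q.hA, q.hB, q.hCD, q.hAB⟩

theorem rcc (q : Quad S A B C D) (hS : IsRootSubgroupSet S) : RootCommutatorCase S A B :=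
  commutatorCase_of_commutator_mem hS q.hA q.hB (by rw [q.hAB]; exact q.hC)

theorem rcc' (q : Quad S A B C D) (hS : IsRootSubgroupSet S) : RootCommutatorCase S B A :=
  commutatorCase_of_commutator_mem hS q.hB q.hA (by rw [Subgroup.commutator_comm, q.hAB]; exact q.hC)

theorem central (q : Quad S A B C D) (hS : IsRootSubgroupSet S) {c x : G} (hc : c ∈ C)
    (hx : x ∈ A ⊔ B) : c * x = x * c :=
  (q.rcc hS).2.1 c (by rw [q.hAB]; exact hc) x hx

theorem comm_CA (q : Quad S A B C D) (hS : IsRootSubgroupSet S) {c a : G} (hc : c ∈ C)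
    (ha : a ∈ A) : c * a = a * c := q.central hS hc (Subgroup.mem_sup_left ha)

theorem comm_CB (q : Quad S A B C D) (hS : IsRootSubgroupSet S) {c b : G} (hc : c ∈ C)
    (hb : b ∈ B) : c * b = b * c := q.central hS hc (Subgroup.mem_sup_right hb)

theorem comm_AD (q : Quad S A B C D) (hS : IsRootSubgroupSet S) {a d : G} (ha : a ∈ A)
    (hd : d ∈ D) : a * d = d * a := q.symm.comm_CB hS ha hd

theorem gen_left (q : Quad S A B C D) (hS : IsRootSubgroupSet S) {a : G} (ha : a ∈ A) (ha1 : a ≠ 1) :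
    Subgroup.closure ((fun b : G => a * b * a⁻¹ * b⁻¹) '' (B : Set G)) = C := by
  rw [(q.rcc hS).2.2.1 a ha ha1, q.hAB]

theorem gen_right (q : Quad S A B C D) (hS : IsRootSubgroupSet S) {b : G} (hb : b ∈ B) (hb1 : b ≠ 1) :
    Subgroup.closure ((fun a : G => a * b * a⁻¹ * b⁻¹) '' (A : Set G)) = C := by
  rw [(q.rcc hS).2.2.2 b hb hb1, q.hAB]

theorem exists_not_commute_left (q : Quad S A B C D) (hS : IsRootSubgroupSet S) {a : G} (ha : a ∈ A)
    (ha1 : a ≠ 1) : ∃ b ∈ B, a * b ≠ b * a := by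
  by_contra hcon
  push Not at hcon
  apply hS.ne_bot C q.hC
  rw [← q.gen_left hS ha ha1, Subgroup.closure_eq_bot_iff]
  rintro _ ⟨b, hb, rfl⟩
  rw [Set.mem_singleton_iff]
  show a * b * a⁻¹ * b⁻¹ = 1
  rw [hcon b hb]; group

theorem exists_not_commute_right (q : Quad S A B C D) (hS : IsRootSubgroupSet S) {b : G} (hb : b ∈ B)
    (hb1 : b ≠ 1) : ∃ a ∈ A, a * b ≠ b * a := by
  by_contra hcon
  push Not at hcon
  apply hS.ne_bot C q.hC
  rw [← q.gen_right hS hb hb1, Subgroup.closure_eq_bot_iff]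
  rintro _ ⟨a, ha, rfl⟩
  rw [Set.mem_singleton_iff]
  show a * b * a⁻¹ * b⁻¹ = 1
  rw [hcon a ha]; group

theorem eq_one_of_mem_of_mem (q : Quad S A B C D) (hS : IsRootSubgroupSet S) {x : G} (hxA : x ∈ A)
    (hxC : x ∈ C) : x = 1 := by
  by_contra hx1
  obtain ⟨b, hb, hne⟩ := q.exists_not_commute_left hS hxA hx1
  exact hne (q.comm_CB hS hxC hb)

theorem mem_sup (q : Quad S A B C D) (hS : IsRootSubgroupSet S) {x : G} (hx : x ∈ A ⊔ C) :
    ∃ a ∈ A, ∃ c ∈ C, x = a * c := by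
  have := mem_sup_commutator (q.rcc hS) (x := x) (by rw [q.hAB]; exact hx)
  rw [q.hAB] at this
  exact this

/-- `C_N(B) = C` for `N = A C` -/
theorem mem_of_centralizes (q : Quad S A B C D) (hS : IsRootSubgroupSet S) {x : G} (hx : x ∈ A ⊔ C)
    (hcomm : ∀ b ∈ B, x * b = b * x) : x ∈ C := by
  obtain ⟨a, ha, c, hc, rfl⟩ := q.mem_sup hS hx
  have ha1 : a = 1 := by
    by_contra ha1
    obtain ⟨b, hb, hne⟩ := q.exists_not_commute_left hS ha ha1
    apply hne
    have h1 := hcomm b hb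
    have h2 := q.comm_CB hS hc hb
    calc a * b = a * (b * c) * c⁻¹ := by group
      _ = a * (c * b) * c⁻¹ := by rw [h2]
      _ = (a * c * b) * c⁻¹ := by group
      _ = (b * (a * c)) * c⁻¹ := by rw [h1]
      _ = b * a := by group
  rw [ha1, one_mul]; exact hc

theorem conjBy_C_of_mem (q : Quad S A B C D) (hS : IsRootSubgroupSet S) {b : G} (hb : b ∈ B) :
    conjBy C b = C := by
  rw [conjBy_eq_self_iff]
  apply Subgroup.centralizer_le_normalizer
  rw [Subgroup.mem_centralizer_iff]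
  intro c hc
  exact q.comm_CB hS hc hb

theorem conjBy_A_of_mem (q : Quad S A B C D) (hS : IsRootSubgroupSet S) {d : G} (hd : d ∈ D) :
    conjBy A d = A := q.symm.conjBy_C_of_mem hS hd

theorem conjBy_A_le (q : Quad S A B C D) {b : G} (hb : b ∈ B) : conjBy A b ≤ A ⊔ C := by
  have := conjBy_le_sup_commutator (A := A) hb
  rwa [q.hAB] at this

theorem conjBy_N_le (q : Quad S A B C D) (hS : IsRootSubgroupSet S) {b : G} (hb : b ∈ B) :
    conjBy (A ⊔ C) b ≤ A ⊔ C := by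
  show Subgroup.map _ (A ⊔ C) ≤ _
  rw [Subgroup.map_sup]
  apply sup_le (q.conjBy_A_le hb)
  have : conjBy C b = C := q.conjBy_C_of_mem hS hb
  exact le_trans (le_of_eq this) le_sup_right

theorem conjBy_N_of_mem_B (q : Quad S A B C D) (hS : IsRootSubgroupSet S) {b : G} (hb : b ∈ B) :
    conjBy (A ⊔ C) b = A ⊔ C := by
  apply le_antisymm (q.conjBy_N_le hS hb)
  have h1 := q.conjBy_N_le hS (B.inv_mem hb)
  intro x hx
  rw [mem_conjBy]
  apply h1
  rw [mem_conjBy]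
  have e : (b⁻¹)⁻¹ * (b⁻¹ * x * b) * b⁻¹ = x := by group
  rw [e]; exact hx

theorem conjBy_N_of_mem_D (q : Quad S A B C D) (hS : IsRootSubgroupSet S) {d : G} (hd : d ∈ D) :
    conjBy (A ⊔ C) d = A ⊔ C := by
  have := q.symm.conjBy_N_of_mem_B hS hd
  rwa [sup_comm] at this

theorem conjBy_N (q : Quad S A B C D) (hS : IsRootSubgroupSet S) {x : G} (hx : x ∈ B ⊔ D) :
    conjBy (A ⊔ C) x = A ⊔ C := by
  rw [conjBy_eq_self_iff]
  have h1 : B ≤ Subgroup.normalizer ((A ⊔ C : Subgroup G) : Set G) :=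
    fun b hb => conjBy_eq_self_iff.1 (q.conjBy_N_of_mem_B hS hb)
  have h2 : D ≤ Subgroup.normalizer ((A ⊔ C : Subgroup G) : Set G) :=
    fun d hd => conjBy_eq_self_iff.1 (q.conjBy_N_of_mem_D hS hd)
  exact (sup_le h1 h2) hx

theorem commutator_ne_bot (q : Quad S A B C D) (hS : IsRootSubgroupSet S) : ⁅B, D⁆ ≠ ⊥ := by
  intro hbot
  obtain ⟨c, hc, hc1⟩ := exists_ne_one_of_mem hS q.hC
  obtain ⟨d, hd, hne⟩ := q.symm.exists_not_commute_left hS hc hc1
  apply hne
  have h1 : A ≤ Subgroup.centralizer {d} := by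
    intro a ha
    rw [Subgroup.mem_centralizer_iff]
    intro w hw
    rw [Set.mem_singleton_iff] at hw
    subst hw
    exact (q.comm_AD hS ha hd).symm
  have h2 : B ≤ Subgroup.centralizer {d} := by
    intro b hb
    rw [Subgroup.mem_centralizer_iff]
    intro w hw
    rw [Set.mem_singleton_iff] at hw
    subst hw
    exact (commute_of_commutator_eq_bot hbot hb hd).symm
  have h3 : c ∈ A ⊔ B := by
    have := commutator_le_sup A B
    rw [q.hAB] at this
    exact this hc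
  have := (sup_le h1 h2) h3
  rw [Subgroup.mem_centralizer_iff] at this
  exact (this d rfl).symm

theorem not_rcc (q : Quad S A B C D) (hS : IsRootSubgroupSet S) : ¬ RootCommutatorCase S B D := by
  intro h3
  obtain ⟨b, hb, hb1⟩ := exists_ne_one_of_mem hS q.hB
  have hDcomm := hS.commutative D q.hD
  have hBA := q.rcc' hS
  have hBAC : ⁅B, A⁆ = C := by rw [Subgroup.commutator_comm, q.hAB]
  have claim : ∀ c ∈ C, ∀ d ∈ D, (c⁻¹ * d * c * d⁻¹) * b = b * (c⁻¹ * d * c * d⁻¹) := by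
    intro c hc d hd
    obtain ⟨a, ha, hac⟩ := comm_surjective' hBA hb hb1 (c := c) (by rw [hBAC]; exact hc)
    -- `y = d (b⁻¹ a⁻¹ b) d⁻¹`
    have hyN : d * (b⁻¹ * a⁻¹ * b) * d⁻¹ ∈ A ⊔ C := by
      have h1 : b⁻¹ * a⁻¹ * b ∈ A ⊔ C := by
        apply q.conjBy_A_le (B.inv_mem hb)
        rw [mem_conjBy]
        have e : (b⁻¹)⁻¹ * (b⁻¹ * a⁻¹ * b) * b⁻¹ = a⁻¹ := by group
        rw [e]; exact A.inv_mem ha
      have h2 := conj_mem_conjBy h1 d
      rwa [q.conjBy_N_of_mem_D hS hd] at h2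
    have hbyN : b * (d * (b⁻¹ * a⁻¹ * b) * d⁻¹) * b⁻¹ ∈ C ⊔ A := by
      have h2 := conj_mem_conjBy hyN b
      rw [q.conjBy_N_of_mem_B hS hb] at h2
      rw [sup_comm]; exact h2
    have hbyA : b * (d * (b⁻¹ * a⁻¹ * b) * d⁻¹) * b⁻¹ ∈ A := by
      apply q.symm.mem_of_centralizes hS hbyN
      intro d'' hd''
      -- `b⁻¹ d'' b = d'' e''`
      have he'' : d''⁻¹ * b⁻¹ * d'' * b ∈ ⁅B, D⁆ := by
        rw [Subgroup.commutator_comm]; exact comm_mem hd'' hb
      have hed : (d''⁻¹ * b⁻¹ * d'' * b) * d = d * (d''⁻¹ * b⁻¹ * d'' * b) :=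
        h3.2.1 _ he'' d (Subgroup.mem_sup_right hd)
      have hdd : d * d'' = d'' * d := commute_of_isMulCommutative hDcomm hd hd''
      have had : a⁻¹ * d'' = d'' * a⁻¹ := q.comm_AD hS (A.inv_mem ha) hd''
      have hu : b⁻¹ * d'' * b = d'' * (d''⁻¹ * b⁻¹ * d'' * b) := by group
      have hud : Commute (b⁻¹ * d'' * b) d := by
        show (b⁻¹ * d'' * b) * d = d * (b⁻¹ * d'' * b)
        rw [hu]
        generalize d''⁻¹ * b⁻¹ * d'' * b = e'' at hed he''
        rw [mul_assoc, hed, ← mul_assoc, ← hdd, mul_assoc]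
      have huw : Commute (b⁻¹ * d'' * b) (b⁻¹ * a⁻¹ * b) := by
        show (b⁻¹ * d'' * b) * (b⁻¹ * a⁻¹ * b) = (b⁻¹ * a⁻¹ * b) * (b⁻¹ * d'' * b)
        calc (b⁻¹ * d'' * b) * (b⁻¹ * a⁻¹ * b) = b⁻¹ * (d'' * a⁻¹) * b := by group
          _ = b⁻¹ * (a⁻¹ * d'') * b := by rw [had]
          _ = (b⁻¹ * a⁻¹ * b) * (b⁻¹ * d'' * b) := by group
      have hc3 : Commute (b⁻¹ * d'' * b) (d * (b⁻¹ * a⁻¹ * b) * d⁻¹) :=
        (hud.mul_right huw).mul_right hud.inv_right
      calc b * (d * (b⁻¹ * a⁻¹ * b) * d⁻¹) * b⁻¹ * d''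
          = b * ((d * (b⁻¹ * a⁻¹ * b) * d⁻¹) * (b⁻¹ * d'' * b)) * b⁻¹ := by group
        _ = b * ((b⁻¹ * d'' * b) * (d * (b⁻¹ * a⁻¹ * b) * d⁻¹)) * b⁻¹ := by rw [hc3.eq]
        _ = d'' * (b * (d * (b⁻¹ * a⁻¹ * b) * d⁻¹) * b⁻¹) := by group
    -- decompose `y` in two ways
    have ha' : (b * (d * (b⁻¹ * a⁻¹ * b) * d⁻¹) * b⁻¹)⁻¹ ∈ A := A.inv_mem hbyA
    generalize ha'def : (b * (d * (b⁻¹ * a⁻¹ * b) * d⁻¹) * b⁻¹)⁻¹ = a' at ha'
    have hy1 : d * (b⁻¹ * a⁻¹ * b) * d⁻¹ = (b⁻¹ * a'⁻¹ * b * a') * a'⁻¹ := by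
      rw [← ha'def]; group
    have hc' : b⁻¹ * a'⁻¹ * b * a' ∈ C := by
      rw [← hBAC]; exact comm_mem hb ha'
    have ha₁ : c⁻¹ * d * c * d⁻¹ ∈ A := by
      rw [← q.hCD]
      have := Subgroup.commutator_mem_commutator (C.inv_mem hc) hd
      rwa [commutatorElement_def, inv_inv] at this
    have hy2 : d * (b⁻¹ * a⁻¹ * b) * d⁻¹ = c * (c⁻¹ * d * c * d⁻¹) * a⁻¹ := by
      have h1 : b⁻¹ * a⁻¹ * b = c * a⁻¹ := by rw [← hac]; group
      have h2 : a⁻¹ * d⁻¹ = d⁻¹ * a⁻¹ := q.comm_AD hS (A.inv_mem ha) (D.inv_mem hd)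
      rw [h1]
      calc d * (c * a⁻¹) * d⁻¹ = d * c * (a⁻¹ * d⁻¹) := by group
        _ = d * c * (d⁻¹ * a⁻¹) := by rw [h2]
        _ = c * (c⁻¹ * d * c * d⁻¹) * a⁻¹ := by group
    generalize c⁻¹ * d * c * d⁻¹ = a₁ at ha₁ hy2 ⊢
    generalize hc'def : b⁻¹ * a'⁻¹ * b * a' = c' at hc' hy1
    have hz : c'⁻¹ * c = a'⁻¹ * a * a₁⁻¹ := by
      have h1 : c * a₁ * a⁻¹ = c' * a'⁻¹ := by rw [← hy2, hy1]
      calc c'⁻¹ * c = c'⁻¹ * (c * a₁ * a⁻¹) * a * a₁⁻¹ := by group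
        _ = c'⁻¹ * (c' * a'⁻¹) * a * a₁⁻¹ := by rw [h1]
        _ = a'⁻¹ * a * a₁⁻¹ := by group
    have hz1 : c'⁻¹ * c = 1 := by
      apply q.eq_one_of_mem_of_mem hS
      · rw [hz]
        exact A.mul_mem (A.mul_mem (A.inv_mem ha') ha) (A.inv_mem ha₁)
      · exact C.mul_mem (C.inv_mem hc') hc
    have hcc' : c' = c := by
      have := mul_eq_one_iff_eq_inv.1 hz1
      exact inv_injective this
    have haa' : a' = a * a₁⁻¹ := by
      rw [hz1] at hz
      have h1 : a'⁻¹ * (a * a₁⁻¹) = 1 := by rw [hz, mul_assoc]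
      have := mul_eq_one_iff_eq_inv.1 h1
      exact inv_injective this
    have hmul := comm_mul hBA hb ha (A.inv_mem ha₁)
    rw [← haa', hc'def, hcc', hac, inv_inv] at hmul
    -- `c = c * (b⁻¹ a₁ b a₁⁻¹)`
    have h1 : b⁻¹ * a₁ * b * a₁⁻¹ = 1 := by
      have := mul_left_cancel (a := c) (b := 1) (c := b⁻¹ * a₁ * b * a₁⁻¹) (by rw [mul_one]; exact hmul)
      exact this.symm
    calc a₁ * b = b * (b⁻¹ * a₁ * b * a₁⁻¹) * a₁ := by group
      _ = b * a₁ := by rw [h1, mul_one]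
  obtain ⟨a, ha, hne⟩ := q.exists_not_commute_right hS hb hb1
  apply hne
  have hle : A ≤ Subgroup.centralizer {b} := by
    rw [← q.hCD, Subgroup.commutator_le]
    intro c hc d hd
    rw [Subgroup.mem_centralizer_iff]
    intro w hw
    rw [Set.mem_singleton_iff] at hw
    subst hw
    have := claim c⁻¹ (C.inv_mem hc) d hd
    rw [inv_inv] at this
    rw [commutatorElement_def]
    exact this.symm
  have := hle ha
  rw [Subgroup.mem_centralizer_iff] at this
  exact (this b rfl).symm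

theorem rankOne (q : Quad S A B C D) (hS : IsRootSubgroupSet S) : IsRankOnePair B D := by
  rcases hS.pair B q.hB D q.hD with h | h | h
  · exact absurd h (q.commutator_ne_bot hS)
  · exact h
  · exact absurd h (q.not_rcc hS)

/-- `g C g⁻¹ = C_N(g B g⁻¹)` for `g` normalizing `N = A C` -/
theorem mem_conjBy_C_iff (q : Quad S A B C D) (hS : IsRootSubgroupSet S) {g : G}
    (hg : conjBy (A ⊔ C) g = A ⊔ C) {x : G} :
    x ∈ conjBy C g ↔ x ∈ A ⊔ C ∧ ∀ y ∈ conjBy B g, x * y = y * x := by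
  constructor
  · intro hx
    constructor
    · rw [← hg]
      exact Subgroup.map_mono (le_sup_right : C ≤ A ⊔ C) hx
    · intro y hy
      rw [mem_conjBy] at hx hy
      have h1 := q.comm_CB hS hx hy
      calc x * y = g * ((g⁻¹ * x * g) * (g⁻¹ * y * g)) * g⁻¹ := by group
        _ = g * ((g⁻¹ * y * g) * (g⁻¹ * x * g)) * g⁻¹ := by rw [h1]
        _ = y * x := by group
  · rintro ⟨hxN, hcomm⟩
    rw [mem_conjBy]
    apply q.mem_of_centralizes hS
    · rw [← hg, mem_conjBy] at hxN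
      exact hxN
    · intro b hb
      have h1 := hcomm _ (conj_mem_conjBy hb g)
      calc g⁻¹ * x * g * b = g⁻¹ * (x * (g * b * g⁻¹)) * g := by group
        _ = g⁻¹ * ((g * b * g⁻¹) * x) * g := by rw [h1]
        _ = b * (g⁻¹ * x * g) := by group

theorem mem_conjBy_A_iff (q : Quad S A B C D) (hS : IsRootSubgroupSet S) {g : G}
    (hg : conjBy (A ⊔ C) g = A ⊔ C) {x : G} :
    x ∈ conjBy A g ↔ x ∈ A ⊔ C ∧ ∀ y ∈ conjBy D g, x * y = y * x := by
  have := q.symm.mem_conjBy_C_iff hS (g := g) (x := x) (by rw [sup_comm]; exact hg)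
  rwa [sup_comm] at this

theorem conj_eq_of_conj_eq (q : Quad S A B C D) (hS : IsRootSubgroupSet S) {b d : G} (hb : b ∈ B)
    (hd : d ∈ D) (h : conjBy B d⁻¹ = conjBy D b⁻¹) : conjBy C d⁻¹ = conjBy A b⁻¹ := by
  ext x
  rw [q.mem_conjBy_C_iff hS (q.conjBy_N_of_mem_D hS (D.inv_mem hd)),
    q.mem_conjBy_A_iff hS (q.conjBy_N_of_mem_B hS (B.inv_mem hb)), h]

theorem exists_conjBy_eq_of_mem_B (q : Quad S A B C D) (hS : IsRootSubgroupSet S) {b : G}
    (hb : b ∈ B) (hb1 : b ≠ 1) : ∃ d ∈ D, d ≠ 1 ∧ conjBy A b = conjBy C d := by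
  have hb1' : b⁻¹ ≠ 1 := by simpa using hb1
  obtain ⟨d, hd, hd1, h⟩ := (q.rankOne hS).cond_left b⁻¹ (B.inv_mem hb) hb1'
  have := q.conj_eq_of_conj_eq hS (B.inv_mem hb) hd h
  rw [inv_inv] at this
  exact ⟨d⁻¹, D.inv_mem hd, by simpa using hd1, this.symm⟩

theorem exists_conjBy_eq_of_mem_D (q : Quad S A B C D) (hS : IsRootSubgroupSet S) {d : G}
    (hd : d ∈ D) (hd1 : d ≠ 1) : ∃ b ∈ B, b ≠ 1 ∧ conjBy C d = conjBy A b :=
  q.symm.exists_conjBy_eq_of_mem_B hS hd hd1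

/-- the set `A^B ∪ {C}` -/
def orbitSet (A B C : Subgroup G) : Set (Subgroup G) :=
  (fun b : G => conjBy A b) '' (B : Set G) ∪ {C}

theorem conjBy_C_mem_orbitSet (q : Quad S A B C D) (hS : IsRootSubgroupSet S) {d : G} (hd : d ∈ D) :
    conjBy C d ∈ orbitSet A B C := by
  by_cases hd1 : d = 1
  · right
    rw [hd1, conjBy_one]; rfl
  · obtain ⟨b, hb, _, h⟩ := q.exists_conjBy_eq_of_mem_D hS hd hd1
    left
    exact ⟨b, hb, h.symm⟩

theorem orbitSet_invariant (q : Quad S A B C D) (hS : IsRootSubgroupSet S) :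
    ∀ x ∈ B ⊔ D, ∀ E ∈ orbitSet A B C, conjBy E x ∈ orbitSet A B C := by
  apply sup_induction B D
  · intro b' hb' E hE
    rcases hE with ⟨b, hb, rfl⟩ | hE
    · left
      exact ⟨b' * b, B.mul_mem hb' hb, (conjBy_mul A b' b).symm⟩
    · right
      rw [Set.mem_singleton_iff] at hE
      rw [hE, q.conjBy_C_of_mem hS hb']; rfl
  · intro d' hd' E hE
    rcases hE with ⟨b, hb, rfl⟩ | hE
    · by_cases hb1 : b = 1
      · left
        refine ⟨1, B.one_mem, ?_⟩
        show conjBy A 1 = conjBy (conjBy A b) d'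
        rw [hb1, conjBy_one, q.conjBy_A_of_mem hS hd']
      · obtain ⟨d, hd, _, h⟩ := q.exists_conjBy_eq_of_mem_B hS hb hb1
        show conjBy (conjBy A b) d' ∈ _
        rw [h, conjBy_mul]
        exact q.conjBy_C_mem_orbitSet hS (D.mul_mem hd' hd)
    · rw [Set.mem_singleton_iff] at hE
      rw [hE]
      exact q.conjBy_C_mem_orbitSet hS hd'
  · intro E hE
    rw [conjBy_one]; exact hE
  · intro x y hx hy E hE
    rw [← conjBy_mul]
    exact hx _ (hy E hE)

theorem exists_conj_A_eq_C (q : Quad S A B C D) (hS : IsRootSubgroupSet S) :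
    ∃ x ∈ B ⊔ D, C = conjBy A x := by
  obtain ⟨b, hb, hb1⟩ := exists_ne_one_of_mem hS q.hB
  obtain ⟨d, hd, _, h⟩ := q.exists_conjBy_eq_of_mem_B hS hb hb1
  refine ⟨d⁻¹ * b, Subgroup.mul_mem _ (Subgroup.mem_sup_right (D.inv_mem hd))
    (Subgroup.mem_sup_left hb), ?_⟩
  rw [← conjBy_mul, h, conjBy_mul]
  simp [conjBy_one]

theorem orbit_eq (q : Quad S A B C D) (hS : IsRootSubgroupSet S) :
    {E | ∃ x ∈ B ⊔ D, E = conjBy A x} = orbitSet A B C := by
  ext E
  constructor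
  · rintro ⟨x, hx, rfl⟩
    apply q.orbitSet_invariant hS x hx
    left
    exact ⟨1, B.one_mem, conjBy_one A⟩
  · rintro (⟨b, hb, rfl⟩ | hE)
    · exact ⟨b, Subgroup.mem_sup_left hb, rfl⟩
    · rw [Set.mem_singleton_iff] at hE
      rw [hE]
      exact q.exists_conj_A_eq_C hS

theorem orbitSet_eq (q : Quad S A B C D) (hS : IsRootSubgroupSet S) :
    orbitSet A B C = orbitSet C D A := by
  ext E
  constructor
  · rintro (⟨b, hb, rfl⟩ | hE)
    · by_cases hb1 : b = 1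
      · right
        show conjBy A b = A
        rw [hb1, conjBy_one]
      · obtain ⟨d, hd, _, h⟩ := q.exists_conjBy_eq_of_mem_B hS hb hb1
        left
        exact ⟨d, hd, h.symm⟩
    · rw [Set.mem_singleton_iff] at hE
      left
      exact ⟨1, D.one_mem, by rw [hE]; exact conjBy_one C⟩
  · rintro (⟨d, hd, rfl⟩ | hE)
    · exact q.conjBy_C_mem_orbitSet hS hd
    · rw [Set.mem_singleton_iff] at hE
      left
      exact ⟨1, B.one_mem, by rw [hE]; exact conjBy_one A⟩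

theorem orbit_eq_orbit (q : Quad S A B C D) (hS : IsRootSubgroupSet S) :
    {E | ∃ x ∈ B ⊔ D, E = conjBy A x} = {E | ∃ x ∈ B ⊔ D, E = conjBy C x} := by
  obtain ⟨x₀, hx₀, h⟩ := q.exists_conj_A_eq_C hS
  ext E
  constructor
  · rintro ⟨x, hx, rfl⟩
    refine ⟨x * x₀⁻¹, Subgroup.mul_mem _ hx (Subgroup.inv_mem _ hx₀), ?_⟩
    rw [h, conjBy_mul]
    simp
  · rintro ⟨x, hx, rfl⟩
    exact ⟨x * x₀, Subgroup.mul_mem _ hx hx₀, by rw [h, conjBy_mul]⟩

theorem not_commute (q : Quad S A B C D) (hS : IsRootSubgroupSet S) {a b : G} (ha : a ∈ A)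
    (ha1 : a ≠ 1) (hb : b ∈ B) (hb1 : b ≠ 1) : b * a ≠ a * b :=
  commutatorCase_not_commute hS q.hB q.hD (q.rankOne hS) (q.rcc' hS) hb hb1 ha ha1

theorem isSubgroupPartition (q : Quad S A B C D) (hS : IsRootSubgroupSet S) :
    IsSubgroupPartition (A ⊔ C) (orbitSet A B C) := by
  refine ⟨?_, ?_, ?_⟩
  · rintro E (⟨b, hb, rfl⟩ | hE)
    · exact q.conjBy_A_le hb
    · rw [Set.mem_singleton_iff] at hE
      rw [hE]; exact le_sup_right
  · intro x hx hx1
    obtain ⟨a, ha, c, hc, rfl⟩ := q.mem_sup hS hx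
    by_cases ha1 : a = 1
    · refine ⟨C, Or.inr rfl, ?_⟩
      rw [ha1, one_mul]; exact hc
    · obtain ⟨b, hb, hbc⟩ := comm_surjective' (q.rcc hS) ha ha1 (c := c) (by rw [q.hAB]; exact hc)
      refine ⟨conjBy A b⁻¹, Or.inl ⟨b⁻¹, B.inv_mem hb, rfl⟩, ?_⟩
      rw [mem_conjBy, ← hbc]
      have e : (b⁻¹)⁻¹ * (a * (a⁻¹ * b⁻¹ * a * b)) * b⁻¹ = a := by group
      rw [e]; exact ha
  · -- trivial intersections
    have key : ∀ b ∈ B, ∀ E' ∈ orbitSet A B C, conjBy A b ≠ E' → conjBy A b ⊓ E' = ⊥ := by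
      intro b hb E' hE' hne
      rw [Subgroup.eq_bot_iff_forall]
      intro x hx
      by_contra hx1
      have hxE : x ∈ conjBy A b := (Subgroup.mem_inf.1 hx).1
      have hxE' : x ∈ E' := (Subgroup.mem_inf.1 hx).2
      rw [mem_conjBy] at hxE
      have h0 : b⁻¹ * x * b ≠ 1 := by
        intro hh
        apply hx1
        have e : x = b * (b⁻¹ * x * b) * b⁻¹ := by group
        rw [e, hh]; group
      rcases hE' with ⟨b', hb', rfl⟩ | hE'
      · have hxE'' : x ∈ conjBy A b' := hxE'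
        rw [mem_conjBy] at hxE''
        have h0' : b'⁻¹ * x * b' ≠ 1 := by
          intro hh
          apply hx1
          have e : x = b' * (b'⁻¹ * x * b') * b'⁻¹ := by group
          rw [e, hh]; group
        have hb'' : b⁻¹ * b' ≠ 1 := by
          intro hh
          apply hne
          have : b' = b := by
            have := mul_eq_one_iff_eq_inv.1 hh
            exact (inv_injective this).symm
          rw [this]
        -- `a₀ = b'' a₀' b''⁻¹`
        have h1 : b⁻¹ * x * b = (b⁻¹ * b') * (b'⁻¹ * x * b') * (b⁻¹ * b')⁻¹ := by group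
        generalize b⁻¹ * x * b = a₀ at hxE h0 h1
        generalize b'⁻¹ * x * b' = a₀' at hxE'' h0' h1
        have hb''B : b⁻¹ * b' ∈ B := B.mul_mem (B.inv_mem hb) hb'
        generalize b⁻¹ * b' = b'' at hb'' h1 hb''B
        have h2 : a₀ * a₀'⁻¹ = b'' * a₀' * b''⁻¹ * a₀'⁻¹ := by rw [h1]
        have h3 : a₀ * a₀'⁻¹ = 1 := by
          apply q.eq_one_of_mem_of_mem hS (A.mul_mem hxE (A.inv_mem hxE''))
          rw [h2, ← q.hAB, Subgroup.commutator_comm]
          have := Subgroup.commutator_mem_commutator hb''B hxE''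
          rwa [commutatorElement_def] at this
        rw [h3] at h2
        apply q.not_commute hS hxE'' h0' hb''B hb''
        calc b'' * a₀' = (b'' * a₀' * b''⁻¹ * a₀'⁻¹) * a₀' * b'' := by group
          _ = a₀' * b'' := by rw [← h2, one_mul]
      · rw [Set.mem_singleton_iff] at hE'
        rw [hE'] at hxE'
        apply h0
        have h1 : b⁻¹ * x * b = x := by
          have := q.comm_CB hS hxE' hb
          rw [mul_assoc, this]; group
        rw [h1] at hxE ⊢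
        exact q.eq_one_of_mem_of_mem hS hxE hxE'
    intro E hE E' hE' hne
    rcases hE with ⟨b, hb, rfl⟩ | hE
    · exact key b hb E' hE' hne
    · rcases hE' with ⟨b', hb', rfl⟩ | hE'
      · rw [inf_comm]
        exact key b' hb' E (Or.inr hE) hne.symm
      · rw [Set.mem_singleton_iff] at hE hE'
        exact absurd (hE.trans hE'.symm) hne

theorem commute_B_of_centralizes (q : Quad S A B C D) (hS : IsRootSubgroupSet S) {x : G}
    (hx : x ∈ B ⊔ D) (hxN : ∀ z ∈ A ⊔ C, x * z = z * x) : ∀ b ∈ B, x * b = b * x := by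
  have hBD := q.rankOne hS
  have hDB := RankOnePair_symm hBD
  have hx' : x ∈ D ⊔ B := by rw [sup_comm]; exact hx
  have hNx := q.conjBy_N hS hx
  have hCx : conjBy C x = C := by
    rw [conjBy_eq_self_iff]
    apply Subgroup.centralizer_le_normalizer
    rw [Subgroup.mem_centralizer_iff]
    intro c hc
    exact (hxN c (Subgroup.mem_sup_right hc)).symm
  have hchar : ∀ z : G, z ∈ C ↔ z ∈ A ⊔ C ∧ ∀ y ∈ conjBy B x, z * y = y * z := by
    intro z
    rw [← q.mem_conjBy_C_iff hS hNx, hCx]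
  have hmem : conjBy B x ∈ unipotentSubgroups D B :=
    conjBy_mem_unipotentSubgroups (right_mem_unipotentSubgroups hDB) hx'
  have hBx : conjBy B x = B := by
    rcases unipotentSubgroups_eq hDB hmem with h | ⟨d, hd, h⟩
    · exfalso
      obtain ⟨c, hc, hc1⟩ := exists_ne_one_of_mem hS q.hC
      apply hc1
      apply q.eq_one_of_mem_of_mem hS _ hc
      have h1 := (hchar c).1 hc
      rw [h] at h1
      have h2 := (q.mem_conjBy_A_iff hS (g := 1) (x := c) (by rw [conjBy_one])).2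
        (by rw [conjBy_one]; exact h1)
      rwa [conjBy_one] at h2
    · by_cases hd1 : d = 1
      · rw [h, hd1, conjBy_one]
      · exfalso
        obtain ⟨c, hc, hne⟩ := q.symm.exists_not_commute_right hS hd hd1
        apply hne
        have h1 : d * c * d⁻¹ ∈ C := by
          rw [hchar, h, ← q.mem_conjBy_C_iff hS (q.conjBy_N_of_mem_D hS hd)]
          exact conj_mem_conjBy hc d
        have h2 : d * c * d⁻¹ * c⁻¹ = 1 := by
          apply q.eq_one_of_mem_of_mem hS _ (C.mul_mem h1 (C.inv_mem hc))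
          rw [← q.hCD, Subgroup.commutator_comm]
          have := Subgroup.commutator_mem_commutator hd hc
          rwa [commutatorElement_def] at this
        calc c * d = (d * c * d⁻¹ * c⁻¹)⁻¹ * d * c := by group
          _ = d * c := by rw [h2]; group
  intro b hb
  have hb' : x * b * x⁻¹ ∈ B := by
    have := conj_mem_conjBy hb x
    rwa [hBx] at this
  have hcomm : ∀ a ∈ A, (b⁻¹ * (x * b * x⁻¹)) * a = a * (b⁻¹ * (x * b * x⁻¹)) := by
    intro a ha
    have h1 : x * a = a * x := hxN a (Subgroup.mem_sup_left ha)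
    have h2 : x * (b * a * b⁻¹) = (b * a * b⁻¹) * x :=
      hxN _ (q.conjBy_A_le hb (conj_mem_conjBy ha b))
    have h3 : x⁻¹ * a = a * x⁻¹ := by
      calc x⁻¹ * a = x⁻¹ * (a * x) * x⁻¹ := by group
        _ = x⁻¹ * (x * a) * x⁻¹ := by rw [h1]
        _ = a * x⁻¹ := by group
    calc b⁻¹ * (x * b * x⁻¹) * a = b⁻¹ * x * b * (x⁻¹ * a) := by group
      _ = b⁻¹ * x * b * (a * x⁻¹) := by rw [h3]
      _ = b⁻¹ * (x * (b * a * b⁻¹)) * b * x⁻¹ := by group
      _ = b⁻¹ * ((b * a * b⁻¹) * x) * b * x⁻¹ := by rw [h2]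
      _ = a * (b⁻¹ * (x * b * x⁻¹)) := by group
  have hb''1 : b⁻¹ * (x * b * x⁻¹) = 1 := by
    by_contra hne
    obtain ⟨a, ha, ha1⟩ := exists_ne_one_of_mem hS q.hA
    exact q.not_commute hS ha ha1 (B.mul_mem (B.inv_mem hb) hb') hne (hcomm a ha)
  calc x * b = b * (b⁻¹ * (x * b * x⁻¹)) * x := by group
    _ = b * x := by rw [hb''1, mul_one]

theorem centralizer_central (q : Quad S A B C D) (hS : IsRootSubgroupSet S) {x : G}
    (hx : x ∈ B ⊔ D) (hxN : ∀ z ∈ A ⊔ C, x * z = z * x) : ∀ y ∈ B ⊔ D, x * y = y * x := by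
  have h1 := q.commute_B_of_centralizes hS hx hxN
  have h2 := q.symm.commute_B_of_centralizes hS (x := x) (by rw [sup_comm]; exact hx)
    (by rw [sup_comm]; exact hxN)
  have hB : B ≤ Subgroup.centralizer {x} := by
    intro b hb
    rw [Subgroup.mem_centralizer_iff]
    intro w hw
    rw [Set.mem_singleton_iff] at hw
    subst hw
    exact h1 b hb
  have hD : D ≤ Subgroup.centralizer {x} := by
    intro d hd
    rw [Subgroup.mem_centralizer_iff]
    intro w hw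
    rw [Set.mem_singleton_iff] at hw
    subst hw
    exact h2 d hd
  intro y hy
  have := (sup_le hB hD) hy
  rw [Subgroup.mem_centralizer_iff] at this
  exact this x rfl

end Quad

end Cfsg.Agent.H2.RootSub
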