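import Mathlib
import Cfsg.Agent.H2.ZStarD
import Cfsg.Agent.H1.Cores

set_option autoImplicit false

namespace Cfsg.Agent.H2.SCCent

open Cfsg

section autlemma

universe u
variable {H : Type u} [Group H] [Finite H]

/-- An automorphism `σ` of order at most two of a finite group `H` with `O(H) = 1`, such that
`σ h * h⁻¹` of order at most two forces `σ h = h`, is trivial (a consequence of the
`Z*`-theorem applied in `H ⋊ ⟨σ⟩`). -/
theorem aut_eq_one (σ : MulAut H) (hσ : σ * σ = 1) (hO : Cfsg.pPrimeCore 2 H = ⊥)
    (hiso : ∀ h : H, (σ h * h⁻¹) ^ 2 = 1 → σ h = h) : σ = 1 := by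
  classical
  by_contra hne
  let C : Subgroup (MulAut H) := Subgroup.zpowers σ
  let φ : ↥C →* MulAut H := C.subtype
  let s : ↥C := ⟨σ, Subgroup.mem_zpowers σ⟩
  have hss : s * s = 1 := Subtype.ext hσ
  have hsne : s ≠ 1 := fun h => hne (congrArg Subtype.val h)
  have hsinv : s⁻¹ = s := inv_eq_of_mul_eq_one_left hss
  have hσσ : ∀ h : H, σ (σ h) = h := fun h => by
    have := congrArg (fun τ : MulAut H => τ h) hσ
    simpa using this
  have : Finite (SemidirectProduct H ↥C φ) := Finite.of_equiv _ SemidirectProduct.equivProd.symm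
  let t : SemidirectProduct H ↥C φ := SemidirectProduct.inr s
  have htt : t * t = 1 := by
    show SemidirectProduct.inr s * SemidirectProduct.inr s = 1
    rw [← map_mul, hss, map_one]
  have htne : t ≠ 1 := by
    intro h
    apply hsne
    exact SemidirectProduct.inr_injective (by rw [map_one]; exact h)
  have ht2 : orderOf t = 2 := by
    apply orderOf_eq_prime
    · rw [pow_two]; exact htt
    · exact htne
  have htinv : t⁻¹ = t := inv_eq_of_mul_eq_one_left htt
  -- conjugation of `inl h` by `t`
  have hconj : ∀ h : H, t * SemidirectProduct.inl h * t⁻¹ = SemidirectProduct.inl (σ h) := by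
    intro h
    have := SemidirectProduct.inl_aut (φ := φ) s h
    show SemidirectProduct.inr s * SemidirectProduct.inl h * (SemidirectProduct.inr s)⁻¹
      = SemidirectProduct.inl ((φ s) h)
    rw [this, map_inv]
  -- every conjugate of t is inl (h * (σ h)⁻¹) * t
  have hconj_t : ∀ g : SemidirectProduct H ↥C φ,
      g * t * g⁻¹ = SemidirectProduct.inl (g.left * (σ g.left)⁻¹) * t := by
    intro g
    obtain ⟨h, c, rfl⟩ : ∃ h c, g = SemidirectProduct.inl h * SemidirectProduct.inr c :=
      ⟨g.left, g.right, (SemidirectProduct.inl_left_mul_inr_right g).symm⟩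
    have hcs : c * s * c⁻¹ = s := by
      have : Commute c s := by
        obtain ⟨c, hc⟩ := c
        obtain ⟨k, rfl⟩ := Subgroup.mem_zpowers_iff.1 hc
        apply Subtype.ext
        show σ ^ k * σ = σ * σ ^ k
        exact ((Commute.refl σ).zpow_left k).eq
      rw [this.eq, mul_inv_cancel_right]
    have h1 : SemidirectProduct.inr c * t * (SemidirectProduct.inr c)⁻¹ = t := by
      show SemidirectProduct.inr c * SemidirectProduct.inr s * (SemidirectProduct.inr c)⁻¹ = _
      rw [← map_inv, ← map_mul, ← map_mul, hcs]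
    have h2 : (SemidirectProduct.inl h * SemidirectProduct.inr c : SemidirectProduct H ↥C φ).left
        = h := by simp
    rw [h2]
    have h3 : t * SemidirectProduct.inl h⁻¹ = SemidirectProduct.inl (σ h⁻¹) * t := by
      have := hconj h⁻¹
      rw [← this, inv_mul_cancel_right]
    calc SemidirectProduct.inl h * SemidirectProduct.inr c * t *
          (SemidirectProduct.inl h * SemidirectProduct.inr c)⁻¹
        = SemidirectProduct.inl h * (SemidirectProduct.inr c * t * (SemidirectProduct.inr c)⁻¹)
          * (SemidirectProduct.inl h)⁻¹ := by group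
      _ = SemidirectProduct.inl h * (t * SemidirectProduct.inl h⁻¹) := by
          rw [h1, map_inv, mul_assoc]
      _ = SemidirectProduct.inl (h * (σ h)⁻¹) * t := by
          rw [h3, ← mul_assoc, ← map_mul, map_inv]
  have hiso' : IsIsolatedInvolution t := by
    refine ⟨ht2, fun g hcomm => ?_⟩
    rw [hconj_t g] at hcomm ⊢
    set h := g.left
    set u := h * (σ h)⁻¹ with hu
    -- Commute t (inl u * t) → σ u = u
    have h1 : t * SemidirectProduct.inl u * t⁻¹ = SemidirectProduct.inl u := by
      have := hcomm.eq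
      rw [htinv]
      calc t * SemidirectProduct.inl u * t = t * (SemidirectProduct.inl u * t) := by group
        _ = SemidirectProduct.inl u * t * t := this
        _ = SemidirectProduct.inl u := by rw [mul_assoc, htt, mul_one]
    rw [hconj u] at h1
    have h2 : σ u = u := SemidirectProduct.inl_injective h1
    have h3 : σ u = u⁻¹ := by
      rw [hu, map_mul, map_inv, hσσ, mul_inv_rev, inv_inv]
    have h4 : (σ h * h⁻¹) ^ 2 = 1 := by
      have : σ h * h⁻¹ = u⁻¹ := by rw [hu, mul_inv_rev, inv_inv]
      have h23 : u⁻¹ = u := h3.symm.trans h2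
      rw [this, pow_two]
      calc u⁻¹ * u⁻¹ = u * u⁻¹ := by rw [h23]
        _ = 1 := mul_inv_cancel u
    have h5 := hiso h h4
    have : u = 1 := by rw [hu, h5, mul_inv_cancel]
    rw [this, map_one, one_mul]
  apply hne
  ext h
  have hz := Cfsg.Agent.H2.ZStar.zstar hiso' (SemidirectProduct.inl h)
  rw [hconj h, ← map_inv, ← map_mul] at hz
  -- comap of the odd core along inl lies in the odd core of H
  have hle : (Cfsg.pPrimeCore 2 (SemidirectProduct H ↥C φ)).comap SemidirectProduct.inl
      ≤ Cfsg.pPrimeCore 2 H := by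
    haveI : (Cfsg.pPrimeCore 2 (SemidirectProduct H ↥C φ)).Normal :=
      Cfsg.Agent.H1.pPrimeCore_normal 2
    apply Cfsg.Agent.H1.le_pPrimeCore inferInstance
    have hdvd := Subgroup.card_comap_dvd_of_injective
      (Cfsg.pPrimeCore 2 (SemidirectProduct H ↥C φ)) (SemidirectProduct.inl (φ := φ))
      SemidirectProduct.inl_injective
    exact Nat.Coprime.coprime_dvd_left hdvd (Cfsg.Agent.H1.pPrimeCore_coprime 2)
  have hmem : σ h * h⁻¹ ∈ Cfsg.pPrimeCore 2 H := hle hz
  rw [hO, Subgroup.mem_bot] at hmem
  show σ h = h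
  exact mul_inv_eq_one.1 hmem

end autlemma

end Cfsg.Agent.H2.SCCent
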