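import Mathlib
import Cfsg.Prelude.Def_TwoFusion
import Cfsg.Prelude.Def_CaseTheorems
import Cfsg.Agent.H2.SylowExtra
import Cfsg.Agent.H2.SCCentA

set_option autoImplicit false

namespace Cfsg.Agent.H2.SCCent

open Cfsg

section main

variable {G : Type*} [Group G] [Finite G]

/-- Strong closure of `A` in a Sylow `2`-subgroup transfers to any `2`-subgroup containing `A`. -/
theorem stronglyClosed_transfer (S : Sylow 2 G) (A : Subgroup G)
    (hA : Cfsg.IsStronglyClosed A (S : Subgroup G)) (T : Subgroup G) (hT : IsPGroup 2 T)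
    (hAT : A ≤ T) : ∀ x ∈ A, ∀ u : G, u * x * u⁻¹ ∈ T → u * x * u⁻¹ ∈ A := by
  classical
  have : Fact (Nat.Prime 2) := ⟨Nat.prime_two⟩
  obtain ⟨S', hS'⟩ := hT.exists_le_sylow
  obtain ⟨g, hg⟩ := MulAction.exists_smul_eq G S' S
  have key : ∀ y ∈ (S' : Subgroup G), g * y * g⁻¹ ∈ (S : Subgroup G) := by
    intro y hy
    rw [← hg, Sylow.coe_subgroup_smul]
    exact Subgroup.smul_mem_pointwise_smul _ (MulAut.conj g) (S' : Subgroup G) hy
  -- conjugation by g maps A into A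
  have hgA : ∀ x ∈ A, g * x * g⁻¹ ∈ A := fun x hx => hA.2 x hx g (key x (hS' (hAT hx)))
  -- hence onto A
  let f : A → A := fun x => ⟨g * x.1 * g⁻¹, hgA x.1 x.2⟩
  have hf : Function.Injective f := by
    intro x y hxy
    have := congrArg Subtype.val hxy
    simp only [f] at this
    apply Subtype.ext
    have h2 : g⁻¹ * (g * x.1 * g⁻¹) * g = g⁻¹ * (g * y.1 * g⁻¹) * g := by rw [this]
    simpa [mul_assoc] using h2
  have hfs : Function.Surjective f := Finite.surjective_of_injective hf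
  intro x hx u hu
  have h1 : g * (u * x * u⁻¹) * g⁻¹ ∈ A := by
    have h2 : (g * u) * x * (g * u)⁻¹ ∈ (S : Subgroup G) := by
      have := key _ (hS' hu)
      rwa [show g * (u * x * u⁻¹) * g⁻¹ = (g * u) * x * (g * u)⁻¹ by group] at this
    have := hA.2 x hx (g * u) h2
    rwa [show (g * u) * x * (g * u)⁻¹ = g * (u * x * u⁻¹) * g⁻¹ by group] at this
  obtain ⟨w, hw⟩ := hfs ⟨_, h1⟩
  have h3 : g * w.1 * g⁻¹ = g * (u * x * u⁻¹) * g⁻¹ := congrArg Subtype.val hw
  have h4 : w.1 = u * x * u⁻¹ := by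
    have h5 : g⁻¹ * (g * w.1 * g⁻¹) * g = g⁻¹ * (g * (u * x * u⁻¹) * g⁻¹) * g := by rw [h3]
    simpa [mul_assoc] using h5
  rw [← h4]
  exact w.2

/-- The conjugation automorphism of `H` induced by an element of its normalizer. -/
def conjAut (H : Subgroup G) (a : G) (ha : a ∈ Subgroup.normalizer (H : Set G)) : MulAut ↥H where
  toFun h := ⟨a * h.1 * a⁻¹, (Subgroup.mem_normalizer_iff.1 ha h.1).1 h.2⟩
  invFun h := ⟨a⁻¹ * h.1 * a, by
    have := (Subgroup.mem_normalizer_iff.1 ha (a⁻¹ * h.1 * a)).2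
    apply this
    rw [show a * (a⁻¹ * h.1 * a) * a⁻¹ = h.1 by group]
    exact h.2⟩
  left_inv h := by apply Subtype.ext; simp [mul_assoc]
  right_inv h := by apply Subtype.ext; simp [mul_assoc]
  map_mul' x y := by apply Subtype.ext; simp [mul_assoc]

@[simp] theorem conjAut_apply_coe (H : Subgroup G) (a : G)
    (ha : a ∈ Subgroup.normalizer (H : Set G)) (h : ↥H) :
    ((conjAut H a ha h : ↥H) : G) = a * h.1 * a⁻¹ := rfl

/-- One step: if `a ∈ A` and `a ^ 2` centralizes `H` then `a` centralizes `H`. -/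
theorem step (S : Sylow 2 G) (A : Subgroup G)
    (hA : Cfsg.IsStronglyClosed A (S : Subgroup G)) (H : Subgroup G)
    (hAH : A ≤ Subgroup.normalizer (H : Set G)) (hO : Cfsg.oddCore ↥H = ⊥)
    (hdisj : A ⊓ H = ⊥) (a : G) (ha : a ∈ A)
    (ha2 : a ^ 2 ∈ Subgroup.centralizer (H : Set G)) :
    a ∈ Subgroup.centralizer (H : Set G) := by
  classical
  have : Fact (Nat.Prime 2) := ⟨Nat.prime_two⟩
  have haN := hAH ha
  have hcomm2 : ∀ h ∈ H, a * a * h = h * (a * a) := by
    intro h hh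
    have := Subgroup.mem_centralizer_iff.1 ha2 h hh
    rw [pow_two] at this
    exact this.symm
  set σ := conjAut H a haN with hσdef
  have hσσ : σ * σ = 1 := by
    ext h
    show (a * (a * h.1 * a⁻¹) * a⁻¹ : G) = h.1
    have := hcomm2 h.1 h.2
    calc a * (a * h.1 * a⁻¹) * a⁻¹ = (a * a * h.1) * a⁻¹ * a⁻¹ := by group
      _ = h.1 := by rw [this]; group
  have hiso : ∀ h : ↥H, (σ h * h⁻¹) ^ 2 = 1 → σ h = h := by
    intro h hc2
    -- c = a h a⁻¹ h⁻¹
    set c : G := a * h.1 * a⁻¹ * h.1⁻¹ with hc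
    have hcH : c ∈ H := (σ h * h⁻¹).2
    have hcc : c * c = 1 := by
      have := congrArg Subtype.val hc2
      rw [pow_two] at this
      exact this
    have hcinv : c⁻¹ = c := inv_eq_of_mul_eq_one_left hcc
    -- a commutes with c
    have hac : a * c * a⁻¹ = c := by
      have h1 : a * c * a⁻¹ = c⁻¹ := by
        have := hcomm2 h.1 h.2
        rw [hc]
        calc a * (a * h.1 * a⁻¹ * h.1⁻¹) * a⁻¹ = (a * a * h.1) * (a⁻¹ * h.1⁻¹ * a⁻¹) := by group
          _ = (h.1 * (a * a)) * (a⁻¹ * h.1⁻¹ * a⁻¹) := by rw [this]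
          _ = (a * h.1 * a⁻¹ * h.1⁻¹)⁻¹ := by group
      rw [h1, hcinv]
    -- the 2-group X = ⟨a⟩⟨c⟩
    have hS2 : IsPGroup 2 (S : Subgroup G) := S.2
    have hXa : IsPGroup 2 (Subgroup.zpowers a) :=
      hS2.to_le (by rw [Subgroup.zpowers_le]; exact hA.1 ha)
    have hXc : IsPGroup 2 (Subgroup.zpowers c) := by
      apply IsPGroup.of_card (n := (if c = 1 then 0 else 1))
      rw [Nat.card_zpowers]
      by_cases h1 : c = 1
      · simp [h1]
      · simp only [h1, if_false, pow_one]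
        exact orderOf_eq_prime (by rw [pow_two]; exact hcc) h1
    have hnorm : Subgroup.zpowers a ≤ Subgroup.normalizer (Subgroup.zpowers c : Set G) := by
      rw [Subgroup.zpowers_le, Subgroup.mem_normalizer_iff]
      intro x
      constructor
      · intro hx
        obtain ⟨k, rfl⟩ := Subgroup.mem_zpowers_iff.1 hx
        have : a * c ^ k * a⁻¹ = (a * c * a⁻¹) ^ k := by
          rw [conj_zpow]
        rw [this, hac]
        exact Subgroup.zpow_mem _ (Subgroup.mem_zpowers c) k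
      · intro hx
        obtain ⟨k, hk⟩ := Subgroup.mem_zpowers_iff.1 hx
        have : x = (a⁻¹ * c * a) ^ k := by
          rw [show a⁻¹ * c * a = a⁻¹ * c * a⁻¹⁻¹ by rw [inv_inv], conj_zpow, hk]; group
        have hac' : a⁻¹ * c * a = c := by
          calc a⁻¹ * c * a = a⁻¹ * (a * c * a⁻¹) * a := by rw [hac]
            _ = c := by group
        rw [this, hac']
        exact Subgroup.zpow_mem _ (Subgroup.mem_zpowers c) k
    have hX : IsPGroup 2 (Subgroup.zpowers a ⊔ Subgroup.zpowers c : Subgroup G) :=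
      hXa.to_sup_of_normal_right' hXc hnorm
    set N := Subgroup.normalizer (H : Set G) with hN
    have hXN : Subgroup.zpowers a ⊔ Subgroup.zpowers c ≤ N := by
      apply sup_le
      · rw [Subgroup.zpowers_le]; exact haN
      · rw [Subgroup.zpowers_le]; exact Subgroup.le_normalizer hcH
    have hAp : IsPGroup 2 A := hS2.to_le hA.1
    obtain ⟨k, hkN, R, hR, -, hAR, hXR⟩ :=
      exists_conj_common_pgroup N A (Subgroup.zpowers a ⊔ Subgroup.zpowers c) hAp hX hAH hXN
    have hmemX_a : a ∈ Subgroup.zpowers a ⊔ Subgroup.zpowers c :=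
      (le_sup_left : Subgroup.zpowers a ≤ _) (Subgroup.mem_zpowers a)
    have hmemX_c : c ∈ Subgroup.zpowers a ⊔ Subgroup.zpowers c :=
      (le_sup_right : Subgroup.zpowers c ≤ _) (Subgroup.mem_zpowers c)
    -- b = h a h⁻¹ = c⁻¹ a ∈ X
    have hb : h.1 * a * h.1⁻¹ = c⁻¹ * a := by rw [hc]; group
    have hmemX_b : h.1 * a * h.1⁻¹ ∈ Subgroup.zpowers a ⊔ Subgroup.zpowers c := by
      rw [hb]
      exact Subgroup.mul_mem _ (Subgroup.inv_mem _ hmemX_c) hmemX_a
    have h1R : k * a * k⁻¹ ∈ R := hXR (conj_mem_map_conj _ k hmemX_a)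
    have h2R : k * (h.1 * a * h.1⁻¹) * k⁻¹ ∈ R := hXR (conj_mem_map_conj _ k hmemX_b)
    have htr := stronglyClosed_transfer S A hA R hR hAR
    have h1A : k * a * k⁻¹ ∈ A := htr a ha k h1R
    have h2A : k * (h.1 * a * h.1⁻¹) * k⁻¹ ∈ A := by
      have := htr a ha (k * h.1) (by
        rw [show (k * h.1) * a * (k * h.1)⁻¹ = k * (h.1 * a * h.1⁻¹) * k⁻¹ by group]
        exact h2R)
      rwa [show (k * h.1) * a * (k * h.1)⁻¹ = k * (h.1 * a * h.1⁻¹) * k⁻¹ by group] at this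
    -- difference lies in H
    have hdiff : (k * a * k⁻¹) * (k * (h.1 * a * h.1⁻¹) * k⁻¹)⁻¹ ∈ H := by
      have h3 : (k * a * k⁻¹) * (k * (h.1 * a * h.1⁻¹) * k⁻¹)⁻¹ = k * c * k⁻¹ := by
        rw [hc]; group
      rw [h3]
      exact (Subgroup.mem_normalizer_iff.1 hkN c).1 hcH
    have hdiffA : (k * a * k⁻¹) * (k * (h.1 * a * h.1⁻¹) * k⁻¹)⁻¹ ∈ A :=
      A.mul_mem h1A (A.inv_mem h2A)
    have hone : (k * a * k⁻¹) * (k * (h.1 * a * h.1⁻¹) * k⁻¹)⁻¹ = 1 := by
      have : (k * a * k⁻¹) * (k * (h.1 * a * h.1⁻¹) * k⁻¹)⁻¹ ∈ A ⊓ H := ⟨hdiffA, hdiff⟩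
      rwa [hdisj, Subgroup.mem_bot] at this
    have hc1 : c = 1 := by
      have h3 : (k * a * k⁻¹) * (k * (h.1 * a * h.1⁻¹) * k⁻¹)⁻¹ = k * c * k⁻¹ := by
        rw [hc]; group
      rw [h3] at hone
      have : c = k⁻¹ * (k * c * k⁻¹) * k := by group
      rw [this, hone]; group
    apply Subtype.ext
    show a * h.1 * a⁻¹ = h.1
    have : a * h.1 * a⁻¹ = c * h.1 := by rw [hc]; group
    rw [this, hc1, one_mul]
  have hσ1 := aut_eq_one σ hσσ hO hiso
  rw [Subgroup.mem_centralizer_iff]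
  intro h hh
  have := congrArg (fun τ : MulAut ↥H => ((τ ⟨h, hh⟩ : ↥H) : G)) hσ1
  simp only [hσdef, conjAut_apply_coe, MulAut.one_apply] at this
  calc h * a = (a * h * a⁻¹) * a := by rw [this]
    _ = a * h := by group

end main

end Cfsg.Agent.H2.SCCent
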