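import Mathlib
import Cfsg.Prelude.Def_CaseTheorems
import Cfsg.Agent.H2.MaxClassTwo
import Cfsg.Agent.H2.MaxClassSub
import Cfsg.Agent.H2.CyclicIndexTwo

/-!
# 2-groups of sectional rank at most two containing a non-abelian subgroup of order eight

Such a group has commutator subgroup of index four, hence is dihedral, semidihedral or
generalized quaternion.  (author: helper2)
-/

set_option autoImplicit false

namespace Cfsg.Agent.H2.SecTwo

open Cfsg.Agent.H2

universe u

/-- no section of `S` is elementary abelian of order eight (formulated with squares) -/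
def NoE8 (S : Type*) [Group S] : Prop :=
  ∀ H N : Subgroup S, N ≤ H → (∀ h ∈ H, h * h ∈ N) → N.relIndex H ≤ 4

theorem noE8_of_sectional {S : Type*} [Group S] (hr : Cfsg.SectionalPRankLE 2 2 S) : NoE8 S := by
  intro H N hNH hsq
  have hnorm : (N.subgroupOf H).Normal := by
    rw [Subgroup.normal_subgroupOf_iff hNH]
    intro n h hn hh
    have h1 : h * n * h⁻¹ = ((h * n) * (h * n)) * n⁻¹ * (h⁻¹ * h⁻¹) := by group
    rw [h1]
    exact N.mul_mem (N.mul_mem (hsq _ (H.mul_mem hh (hNH hn))) (N.inv_mem hn))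
      (hsq _ (H.inv_mem hh))
  have h1 := hr H (N.subgroupOf H) ⊤ ?_ ?_
  · rw [Subgroup.card_top] at h1
    rw [Subgroup.relIndex, Subgroup.index_eq_card]
    exact h1
  · refine ⟨⟨?_⟩⟩
    rintro ⟨a, -⟩ ⟨b, -⟩
    apply Subtype.ext
    simp only [Subgroup.coe_mul]
    apply Taussky.comm_of_sq_eq_one
    intro x
    obtain ⟨x, rfl⟩ := QuotientGroup.mk_surjective x
    rw [← QuotientGroup.mk_mul, QuotientGroup.eq_one_iff, Subgroup.mem_subgroupOf]
    exact hsq _ x.2
  · intro a _
    obtain ⟨x, rfl⟩ := QuotientGroup.mk_surjective a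
    rw [← QuotientGroup.mk_pow, QuotientGroup.eq_one_iff, Subgroup.mem_subgroupOf, pow_two]
    exact hsq _ x.2

theorem noE8_subgroup {S : Type*} [Group S] (h : NoE8 S) (M : Subgroup S) : NoE8 ↥M := by
  intro H N hNH hsq
  have h1 := h (H.map M.subtype) (N.map M.subtype) (Subgroup.map_mono hNH) ?_
  · rwa [Subgroup.relIndex_map_map_of_injective _ _ M.subtype_injective] at h1
  · rintro _ ⟨x, hx, rfl⟩
    exact ⟨x * x, hsq x hx, by simp⟩

/-- a strictly increasing chain of length three gives relative index at least eight -/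
theorem eight_le_relIndex {S : Type*} [Group S] [Finite S] (N K₁ K₂ H : Subgroup S)
    (h1 : N < K₁) (h2 : K₁ < K₂) (h3 : K₂ < H) : 8 ≤ N.relIndex H := by
  have key : ∀ A B : Subgroup S, A < B → 2 ≤ A.relIndex B := by
    intro A B hAB
    have hne1 : A.relIndex B ≠ 1 := by
      intro h
      rw [Subgroup.relIndex_eq_one] at h
      exact absurd (le_antisymm hAB.le h) hAB.ne
    have hne0 : A.relIndex B ≠ 0 := Subgroup.index_ne_zero_of_finite
    omega
  have e1 := Subgroup.relIndex_mul_relIndex N K₁ K₂ h1.le h2.le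
  have e2 := Subgroup.relIndex_mul_relIndex N K₂ H (h1.le.trans h2.le) h3.le
  have k1 := key N K₁ h1
  have k2 := key K₁ K₂ h2
  have k3 := key K₂ H h3
  rw [← e2, ← e1]
  calc 8 = 2 * 2 * 2 := by norm_num
    _ ≤ _ := Nat.mul_le_mul (Nat.mul_le_mul k1 k2) k3

/-- centre of a non-abelian group of order eight -/
theorem center_of_card_eight {X : Type*} [Group X] [Finite X] (hX : Nat.card X = 8)
    (hna : ∃ x y : X, x * y ≠ y * x) :
    Nat.card (Subgroup.center X) = 2 ∧ ∀ b : X, b * b ∈ Subgroup.center X := by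
  have : Fact (Nat.Prime 2) := ⟨Nat.prime_two⟩
  have hP : IsPGroup 2 X := IsPGroup.of_card (n := 3) (by rw [hX]; norm_num)
  obtain ⟨x₀, y₀, hxy⟩ := hna
  have : Nontrivial X := ⟨⟨x₀, y₀, fun h => hxy (by rw [h])⟩⟩
  have hZne : Nat.card (Subgroup.center X) ≠ 1 := by
    intro h
    have := (IsPGroup.center_nontrivial hP : Nontrivial (Subgroup.center X))
    rw [Subgroup.card_eq_one] at h
    rw [h] at this
    exact not_nontrivial _ this
  have hnotcyc : ¬ IsCyclic (X ⧸ Subgroup.center X) := by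
    intro hc
    have := MonoidHom.isMulCommutative_of_isCyclic_of_ker_le_center
      (QuotientGroup.mk' (Subgroup.center X)) (by rw [QuotientGroup.ker_mk'])
    exact hxy (this.is_comm.comm x₀ y₀)
  have hmul := (Subgroup.center X).card_mul_index
  rw [hX] at hmul
  have hdvd : Nat.card (Subgroup.center X) ∣ 2 ^ 3 := ⟨_, by rw [hmul]; norm_num⟩
  obtain ⟨k, hk, hk2⟩ := (Nat.dvd_prime_pow Nat.prime_two).mp hdvd
  have hidx : (Subgroup.center X).index = 4 := by
    interval_cases k
    · exact absurd hk2 hZne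
    · rw [hk2] at hmul; omega
    · exfalso
      rw [hk2] at hmul
      have h2 : Nat.card (X ⧸ Subgroup.center X) = 2 := by
        rw [← Subgroup.index_eq_card]; omega
      exact hnotcyc (isCyclic_of_prime_card h2)
    · exfalso
      rw [hk2] at hmul
      have h2 : Nat.card (X ⧸ Subgroup.center X) = 1 := by
        rw [← Subgroup.index_eq_card]; omega
      have : Subsingleton (X ⧸ Subgroup.center X) := (Nat.card_eq_one_iff_unique.mp h2).1
      exact hnotcyc inferInstance
  refine ⟨by rw [hidx] at hmul; omega, ?_⟩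
  intro b
  have hcard4 : Nat.card (X ⧸ Subgroup.center X) = 4 := by
    rw [← Subgroup.index_eq_card]; exact hidx
  have h1 : orderOf (QuotientGroup.mk b : X ⧸ Subgroup.center X) ∣ 2 ^ 2 := by
    have := orderOf_dvd_natCard (QuotientGroup.mk b : X ⧸ Subgroup.center X)
    rw [hcard4] at this
    exact this
  obtain ⟨j, hj, hj2⟩ := (Nat.dvd_prime_pow Nat.prime_two).mp h1
  have h2 : (QuotientGroup.mk b : X ⧸ Subgroup.center X) ^ 2 = 1 := by
    interval_cases j
    · rw [pow_zero, orderOf_eq_one_iff] at hj2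
      rw [hj2, one_pow]
    · have := pow_orderOf_eq_one (QuotientGroup.mk b : X ⧸ Subgroup.center X)
      rw [hj2, pow_one] at this
      exact this
    · exfalso
      apply hnotcyc
      exact isCyclic_of_orderOf_eq_card _ (by rw [hj2, hcard4]; norm_num)
  rw [← QuotientGroup.mk_pow, QuotientGroup.eq_one_iff, pow_two] at h2
  exact h2

/-- elements of `B ⊔ ⟨u⟩` when `u` centralizes `B` -/
theorem mem_sup_zpowers_of_comm {S : Type*} [Group S] (B : Subgroup S) (u : S)
    (hu : ∀ b ∈ B, u * b = b * u) (h : S) (hh : h ∈ B ⊔ Subgroup.zpowers u) :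
    ∃ b ∈ B, ∃ i : ℤ, h = b * u ^ i := by
  have hcomm : ∀ (i : ℤ) (b : S), b ∈ B → u ^ i * b = b * u ^ i := by
    intro i b hb
    exact ((Commute.zpow_left (hu b hb : Commute u b) i)).eq
  rw [Subgroup.sup_eq_closure] at hh
  induction hh using Subgroup.closure_induction with
  | mem x hx =>
    rcases hx with hx | hx
    · exact ⟨x, hx, 0, by simp⟩
    · obtain ⟨i, rfl⟩ := Subgroup.mem_zpowers_iff.mp hx
      exact ⟨1, B.one_mem, i, by simp⟩
  | one => exact ⟨1, B.one_mem, 0, by simp⟩
  | mul x y _ _ hx hy =>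
    obtain ⟨b, hb, i, rfl⟩ := hx
    obtain ⟨b', hb', j, rfl⟩ := hy
    refine ⟨b * b', B.mul_mem hb hb', i + j, ?_⟩
    rw [zpow_add]
    calc b * u ^ i * (b' * u ^ j) = b * (u ^ i * b') * u ^ j := by group
      _ = b * (b' * u ^ i) * u ^ j := by rw [hcomm i b' hb']
      _ = _ := by group
  | inv x _ hx =>
    obtain ⟨b, hb, i, rfl⟩ := hx
    refine ⟨b⁻¹, B.inv_mem hb, -i, ?_⟩
    have := hcomm (-i) b⁻¹ (B.inv_mem hb)
    rw [← this]
    group

section centralizer

variable {S : Type*} [Group S] [Finite S] (hE : NoE8 S) (B : Subgroup S)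
  (hB : Nat.card B = 8) (x₀ y₀ : S) (hx₀ : x₀ ∈ B) (hy₀ : y₀ ∈ B) (hxy : x₀ * y₀ ≠ y₀ * x₀)

include hB hx₀ hy₀ hxy in
theorem center_facts : (∀ b ∈ B, b * b ∈ B ⊓ Subgroup.centralizer (B : Set S)) ∧
    ∀ z ∈ B ⊓ Subgroup.centralizer (B : Set S), z * z = 1 := by
  have hna : ∃ x y : B, x * y ≠ y * x := by
    refine ⟨⟨x₀, hx₀⟩, ⟨y₀, hy₀⟩, ?_⟩
    intro h
    exact hxy (congrArg Subtype.val h)
  obtain ⟨h1, h2⟩ := center_of_card_eight hB hna
  constructor
  · intro b hb
    refine ⟨B.mul_mem hb hb, ?_⟩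
    show b * b ∈ Subgroup.centralizer (B : Set S)
    rw [Subgroup.mem_centralizer_iff]
    intro g hg
    have := Subgroup.mem_center_iff.mp (h2 ⟨b, hb⟩) ⟨g, hg⟩
    exact congrArg Subtype.val this
  · intro z hz
    have hzc : (⟨z, hz.1⟩ : B) ∈ Subgroup.center B := by
      rw [Subgroup.mem_center_iff]
      rintro ⟨g, hg⟩
      apply Subtype.ext
      exact (Subgroup.mem_centralizer_iff.mp hz.2) g hg
    have h3 : orderOf (⟨⟨z, hz.1⟩, hzc⟩ : Subgroup.center B) ∣ 2 := by
      rw [← h1]; exact orderOf_dvd_natCard _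
    have h4 := orderOf_dvd_iff_pow_eq_one.mp h3
    have h5 := congrArg (fun t : Subgroup.center B => ((t : B) : S)) h4
    simp only [Subgroup.coe_pow, Subgroup.coe_one] at h5
    rw [← pow_two]
    exact h5

include hE hB hx₀ hy₀ hxy in
theorem centralizer_key (u : S) (hu : u ∈ Subgroup.centralizer (B : Set S)) (huB : u ∉ B)
    (huu : u * u ∈ B) : False := by
  obtain ⟨hsq, -⟩ := center_facts B hB x₀ y₀ hx₀ hy₀ hxy
  obtain ⟨ZB, hZB⟩ : ∃ ZB : Subgroup S, ZB = B ⊓ Subgroup.centralizer (B : Set S) := ⟨_, rfl⟩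
  rw [← hZB] at hsq
  have hucomm : ∀ b ∈ B, u * b = b * u := by
    intro b hb
    exact ((Subgroup.mem_centralizer_iff.mp hu) b hb).symm
  have huuZ : u * u ∈ ZB := by
    rw [hZB]; exact ⟨huu, Subgroup.mul_mem _ hu hu⟩
  have hZcomm : ∀ z ∈ ZB, ∀ b ∈ B, z * b = b * z := by
    intro z hz b hb
    rw [hZB] at hz
    exact ((Subgroup.mem_centralizer_iff.mp hz.2) b hb).symm
  have hsqH : ∀ h ∈ B ⊔ Subgroup.zpowers u, h * h ∈ ZB := by
    intro h hh
    obtain ⟨b, hb, i, rfl⟩ := mem_sup_zpowers_of_comm B u hucomm h hh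
    have hcomm : u ^ i * b = b * u ^ i := (Commute.zpow_left (hucomm b hb : Commute u b) i).eq
    have h1 : b * u ^ i * (b * u ^ i) = (b * b) * (u * u) ^ i := by
      rw [(Commute.refl u).mul_zpow]
      calc b * u ^ i * (b * u ^ i) = b * (u ^ i * b) * u ^ i := by group
        _ = b * (b * u ^ i) * u ^ i := by rw [hcomm]
        _ = _ := by group
    rw [h1]
    exact ZB.mul_mem (hsq b hb) (ZB.zpow_mem huuZ i)
  have hZB_le : ZB ≤ B := by rw [hZB]; exact inf_le_left
  have hx₀Z : x₀ ∉ ZB := by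
    intro h
    exact hxy (hZcomm x₀ h y₀ hy₀)
  have c1 : ZB < ZB ⊔ Subgroup.zpowers x₀ := by
    refine lt_of_le_of_ne le_sup_left ?_
    intro h
    apply hx₀Z
    rw [h]
    exact (le_sup_right : Subgroup.zpowers x₀ ≤ _) (Subgroup.mem_zpowers x₀)
  have c2 : ZB ⊔ Subgroup.zpowers x₀ < B := by
    refine lt_of_le_of_ne (sup_le hZB_le ((Subgroup.zpowers_le).mpr hx₀)) ?_
    intro h
    have hle : ZB ⊔ Subgroup.zpowers x₀ ≤ Subgroup.centralizer ({x₀} : Set S) := by
      apply sup_le
      · intro z hz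
        rw [Subgroup.mem_centralizer_singleton_iff]
        exact hZcomm z hz x₀ hx₀
      · rw [Subgroup.zpowers_le, Subgroup.mem_centralizer_singleton_iff]
    have : y₀ ∈ Subgroup.centralizer ({x₀} : Set S) := hle (h ▸ hy₀)
    rw [Subgroup.mem_centralizer_singleton_iff] at this
    exact hxy this.symm
  have c3 : B < B ⊔ Subgroup.zpowers u := by
    refine lt_of_le_of_ne le_sup_left ?_
    intro h
    apply huB
    rw [h]
    exact (le_sup_right : Subgroup.zpowers u ≤ _) (Subgroup.mem_zpowers u)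
  have h8 := eight_le_relIndex ZB _ B _ c1 c2 c3
  have h4 := hE (B ⊔ Subgroup.zpowers u) ZB (hZB_le.trans le_sup_left) hsqH
  omega

include hE hB hx₀ hy₀ hxy in
theorem centralizer_le (hS : IsPGroup 2 S) : Subgroup.centralizer (B : Set S) ≤ B := by
  have key : ∀ k : ℕ, ∀ v ∈ Subgroup.centralizer (B : Set S), v ^ (2 ^ k) = 1 → v ∈ B := by
    intro k
    induction k with
    | zero =>
      intro v _ hv1
      rw [pow_zero, pow_one] at hv1
      rw [hv1]; exact B.one_mem
    | succ k ih =>
      intro v hv hv1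
      have h1 : v * v ∈ B := by
        apply ih _ (Subgroup.mul_mem _ hv hv)
        rw [← pow_two, ← pow_mul, ← pow_succ']
        exact hv1
      by_contra hvB
      exact centralizer_key hE B hB x₀ y₀ hx₀ hy₀ hxy v hv hvB h1
  intro v hv
  obtain ⟨k, hk⟩ := hS v
  exact key k v hv hk

end centralizer

/-- a non-abelian `2`-group has commutator subgroup of index divisible by four -/
theorem four_dvd_index {S : Type u} [Group S] [Finite S] (n : ℕ) (hS : Nat.card S = 2 ^ n)
    (hna : ∃ x y : S, x * y ≠ y * x) : 4 ∣ (commutator S).index := by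
  have : Fact (Nat.Prime 2) := ⟨Nat.prime_two⟩
  have hP : IsPGroup 2 S := IsPGroup.of_card hS
  obtain ⟨x₀, y₀, hxy⟩ := hna
  have hnotcyc : ¬ IsCyclic (S ⧸ commutator S) := fun hc =>
    hxy (MaxClassLCS.comm_of_cyclic_abelianization 2 hP hc x₀ y₀)
  have hdvd : (commutator S).index ∣ 2 ^ n := hS ▸ Subgroup.index_dvd_card _
  obtain ⟨k, hk, hk2⟩ := (Nat.dvd_prime_pow Nat.prime_two).mp hdvd
  rcases Nat.lt_or_ge k 2 with hlt | hge
  · exfalso
    interval_cases k
    · have h2 : Nat.card (S ⧸ commutator S) = 1 := by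
        rw [← Subgroup.index_eq_card, hk2, pow_zero]
      have : Subsingleton (S ⧸ commutator S) := (Nat.card_eq_one_iff_unique.mp h2).1
      exact hnotcyc inferInstance
    · have h2 : Nat.card (S ⧸ commutator S) = 2 := by
        rw [← Subgroup.index_eq_card, hk2, pow_one]
      exact hnotcyc (isCyclic_of_prime_card h2)
  · rw [hk2]
    exact (by norm_num : 4 = 2 ^ 2) ▸ pow_dvd_pow 2 hge

theorem sq_mod_four (t : ℕ) : (1 + t * t) % 4 ≠ 0 := by
  have h1 : (t * t) % 4 = ((t % 4) * (t % 4)) % 4 := Nat.mul_mod t t 4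
  have h2 : t % 4 < 4 := Nat.mod_lt t (by norm_num)
  have h3 : (1 + t * t) % 4 = (1 + (t * t) % 4) % 4 := by omega
  rw [h3, h1]
  interval_cases (t % 4) <;> norm_num

/-- the inductive step -/
theorem step (n : ℕ) (hn : 3 ≤ n) (S : Type u) [Group S] [Finite S]
    (ih : ∀ (Q : Type u) [Group Q] [Finite Q], Nat.card Q = 2 ^ n → NoE8 Q →
      (∃ B : Subgroup Q, Nat.card B = 8 ∧ ∃ x ∈ B, ∃ y ∈ B, x * y ≠ y * x) →
      (commutator Q).index = 4)
    (hcard : Nat.card S = 2 ^ (n + 1)) (hE : NoE8 S)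
    (B : Subgroup S) (hB : Nat.card B = 8) (x₀ y₀ : S) (hx₀ : x₀ ∈ B) (hy₀ : y₀ ∈ B)
    (hxy : x₀ * y₀ ≠ y₀ * x₀) : (commutator S).index = 4 := by
  by_contra hidx
  have : Fact (Nat.Prime 2) := ⟨Nat.prime_two⟩
  have hP : IsPGroup 2 S := IsPGroup.of_card hcard
  obtain ⟨M, hMcard, hBM⟩ := Sylow.exists_subgroup_card_pow_prime_le 2 (n := 3) (m := n)
    (by rw [hcard]; exact pow_dvd_pow 2 (Nat.le_succ n)) B (by rw [hB]; norm_num) hn
  have hMidx : M.index = 2 := by
    have := M.card_mul_index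
    rw [hMcard, hcard, pow_succ] at this
    exact Nat.eq_of_mul_eq_mul_left (by positivity) this
  have hMn : M.Normal := Subgroup.normal_of_index_eq_two hMidx
  have hMidx4 : (commutator M).index = 4 := by
    apply ih M hMcard (noE8_subgroup hE M)
    refine ⟨B.subgroupOf M, ?_, ⟨x₀, hBM hx₀⟩, Subgroup.mem_subgroupOf.mpr hx₀,
      ⟨y₀, hBM hy₀⟩, Subgroup.mem_subgroupOf.mpr hy₀, ?_⟩
    · rw [Nat.card_congr (Subgroup.subgroupOfEquivOfLe hBM).toEquiv, hB]
    · intro h
      exact hxy (congrArg Subtype.val h)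
  obtain ⟨a₀, ha₀⟩ := Taussky.exists_orderOf n hn M hMcard hMidx4
  obtain ⟨a, hadef⟩ : ∃ a : S, a = (a₀ : S) := ⟨_, rfl⟩
  have ha : orderOf a = 2 ^ (n - 1) := by rw [hadef, Subgroup.orderOf_coe]; exact ha₀
  have haM : a ∈ M := hadef ▸ a₀.2
  have hM' : (commutator M).map M.subtype = Subgroup.zpowers (a ^ 2) := by
    rw [MaxClassSub.commutator_eq_zpowers_sq n hn hMcard hMidx4 a₀ ha₀, MonoidHom.map_zpowers]
    simp [hadef]
  have hM'le : (commutator M).map M.subtype ≤ commutator S := by
    rw [Subgroup.map_subtype_commutator, commutator_def]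
    exact Subgroup.commutator_mono le_top le_top
  have hM'card : Nat.card ((commutator M).map M.subtype) = 2 ^ (n - 2) := by
    rw [Subgroup.card_map_of_injective M.subtype_injective]
    exact MaxClassTwo.card_commutator n hn hMcard hMidx4
  have h2n : 2 ^ (n + 1) = 2 ^ (n - 2) * 8 := by
    rw [show n + 1 = (n - 2) + 3 by omega, pow_add]; norm_num
  have hidx8 : ((commutator M).map M.subtype).index = 8 := by
    have := ((commutator M).map M.subtype).card_mul_index
    rw [hM'card, hcard, h2n] at this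
    exact Nat.eq_of_mul_eq_mul_left (by positivity) this
  have hi8 : (commutator S).index = 8 := by
    have hdvd : (commutator S).index ∣ 8 := hidx8 ▸ Subgroup.index_dvd_of_le hM'le
    obtain ⟨c, hc⟩ := four_dvd_index (n + 1) hcard ⟨x₀, y₀, hxy⟩
    have hle : (commutator S).index ≤ 8 := Nat.le_of_dvd (by norm_num) hdvd
    have hne0 : (commutator S).index ≠ 0 := Subgroup.index_ne_zero_of_finite
    have hc2 : c ≤ 2 := by omega
    interval_cases c <;> omega
  have hS'eq : commutator S = Subgroup.zpowers (a ^ 2) := by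
    rw [← hM']
    symm
    apply Subgroup.eq_of_le_of_card_ge hM'le
    have := (commutator S).card_mul_index
    rw [hi8, hcard, h2n] at this
    rw [hM'card]
    exact le_of_eq (Nat.eq_of_mul_eq_mul_right (by norm_num) this)
  have hconj : ∀ g : S, g * a * g⁻¹ ∈ Subgroup.zpowers a := by
    intro g
    have h1 : g * a * g⁻¹ * a⁻¹ ∈ commutator S := by
      rw [commutator_def]
      exact Subgroup.commutator_mem_commutator (Subgroup.mem_top g) (Subgroup.mem_top a)
    rw [hS'eq] at h1
    have h2 : g * a * g⁻¹ = (g * a * g⁻¹ * a⁻¹) * a := by group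
    rw [h2]
    exact Subgroup.mul_mem _ (Subgroup.zpowers_le.mpr
      (Subgroup.pow_mem _ (Subgroup.mem_zpowers a) 2) h1) (Subgroup.mem_zpowers a)
  obtain ⟨y, hy⟩ : ∃ y : S, y * y ∉ commutator S := by
    by_contra hcon
    push Not at hcon
    have := hE ⊤ (commutator S) le_top (fun h _ => hcon h)
    rw [Subgroup.relIndex_top_right] at this
    omega
  have hyM : y ∉ M := by
    intro hyM
    apply hy
    have := MaxClassSub.sq_mem_commutator n hn hMcard hMidx4 (⟨y, hyM⟩ : M)
    exact hM'le ⟨_, this, rfl⟩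
  have hyyM : y * y ∈ M := IdxTwo.sq_mem M hMidx y
  have hord2 : ∀ g : S, ∃ j : ℕ, j ≤ n + 1 ∧ orderOf g = 2 ^ j := by
    intro g
    have := orderOf_dvd_natCard g
    rw [hcard] at this
    exact (Nat.dvd_prime_pow Nat.prime_two).mp this
  by_cases hyyZ : y * y ∈ Subgroup.zpowers a
  · -- `y` generates a cyclic subgroup of index two
    obtain ⟨k, hk⟩ := Submonoid.mem_powers_iff _ _ |>.mp
      ((isOfFinOrder_of_finite a).mem_powers_iff_mem_zpowers.mpr hyyZ)
    have hkodd : ¬ 2 ∣ k := by
      rintro ⟨j, rfl⟩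
      apply hy
      rw [hS'eq, ← hk, pow_mul]
      exact Subgroup.pow_mem _ (Subgroup.mem_zpowers _) j
    have hordw : orderOf (y * y) = 2 ^ (n - 1) := by
      rw [← hk, Nat.Coprime.orderOf_pow, ha]
      rw [ha]
      exact Nat.Coprime.pow_left _ ((Nat.Prime.coprime_iff_not_dvd Nat.prime_two).mpr hkodd)
    have hordy : orderOf y = 2 ^ n := by
      obtain ⟨j, hj, hj2⟩ := hord2 y
      have h1 : orderOf (y ^ 2) = orderOf y / Nat.gcd (orderOf y) 2 := orderOf_pow' y (by norm_num)
      rw [pow_two, hordw, hj2] at h1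
      rcases Nat.eq_zero_or_pos j with rfl | hjpos
      · exfalso
        rw [pow_zero, orderOf_eq_one_iff] at hj2
        exact hyM (hj2 ▸ M.one_mem)
      · have h3 : Nat.gcd (2 ^ j) 2 = 2 := by
          apply Nat.gcd_eq_right
          exact dvd_pow_self 2 (by omega)
        rw [h3] at h1
        have h4 : 2 ^ j = 2 ^ (j - 1) * 2 := by
          rw [← pow_succ]; congr 1; omega
        rw [h4, Nat.mul_div_cancel _ (by norm_num)] at h1
        have h5 : n - 1 = j - 1 := Nat.pow_right_injective (le_refl 2) h1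
        rw [hj2]; congr 1; omega
    have hbex : ∃ b : S, b ∉ Subgroup.zpowers y := by
      by_contra hcon
      push Not at hcon
      exact hxy (MaxClassTwo.zpowers_comm y x₀ (hcon x₀) y₀ (hcon y₀))
    obtain ⟨b, hb⟩ := hbex
    obtain ⟨-, b', hb', hb'2, hb'y⟩ := CycIdxTwo.modular_case (n + 1) (by omega) hcard y
      (by rw [hordy]; congr 1) b hb ⟨x₀, y₀, hxy⟩ hidx
    have hyidx : (Subgroup.zpowers y).index = 2 :=
      MaxClassTwo.index_zpowers (n + 1) (by omega) hcard y (by rw [hordy]; congr 1)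
    have hcent : Subgroup.centralizer ({y * y} : Set S) = ⊤ := by
      have hco := MaxClassSub.isCoatom_of_index_two _ hyidx
      by_contra hne
      have hle : Subgroup.zpowers y ≤ Subgroup.centralizer ({y * y} : Set S) := by
        rw [Subgroup.zpowers_le, Subgroup.mem_centralizer_singleton_iff]
        group
      have heq := hco.le_iff_eq hne |>.mp hle
      apply hb'
      rw [← heq, Subgroup.mem_centralizer_singleton_iff]
      have h1 : b' * (y * y) * b'⁻¹ = (b' * y * b'⁻¹) * (b' * y * b'⁻¹) := by group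
      have h2 : b' * (y * y) * b'⁻¹ = y * y := by
        rw [h1, hb'y, ← pow_add]
        have h3 : 1 + 2 ^ (n + 1 - 2) + (1 + 2 ^ (n + 1 - 2)) = 2 + 2 ^ n := by
          have : n + 1 - 2 = n - 1 := by omega
          rw [this]
          have : 2 ^ n = 2 ^ (n - 1) * 2 := by rw [← pow_succ]; congr 1; omega
          omega
        rw [h3, pow_add, ← hordy, pow_orderOf_eq_one, mul_one, pow_two]
      calc b' * (y * y) = (b' * (y * y) * b'⁻¹) * b' := by group
        _ = y * y * b' := by rw [h2]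
    have hwc : y * y ∈ Subgroup.centralizer (B : Set S) := by
      rw [Subgroup.mem_centralizer_iff]
      intro g _
      have : g ∈ Subgroup.centralizer ({y * y} : Set S) := hcent ▸ Subgroup.mem_top g
      rw [Subgroup.mem_centralizer_singleton_iff] at this
      exact this
    have hwB := centralizer_le hE B hB x₀ y₀ hx₀ hy₀ hxy hP hwc
    have h1 := (center_facts B hB x₀ y₀ hx₀ hy₀ hxy).2 (y * y) ⟨hwB, hwc⟩
    have h2 : orderOf (y * y) ∣ 2 := orderOf_dvd_of_pow_eq_one (by rw [pow_two]; exact h1)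
    rw [hordw] at h2
    have h3 := Nat.le_of_dvd (by norm_num) h2
    have h4 : 2 ^ 2 ≤ 2 ^ (n - 1) := Nat.pow_le_pow_right (by norm_num) (by omega)
    omega
  · -- `y * y` acts on `⟨a⟩` as a square
    obtain ⟨t, ht⟩ := Submonoid.mem_powers_iff _ _ |>.mp
      ((isOfFinOrder_of_finite a).mem_powers_iff_mem_zpowers.mpr (hconj y))
    have htt : (y * y) * a * (y * y)⁻¹ = a ^ (t * t) := by
      calc (y * y) * a * (y * y)⁻¹ = y * (y * a * y⁻¹) * y⁻¹ := by group
        _ = y * a ^ t * y⁻¹ := by rw [ht]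
        _ = (y * a * y⁻¹) ^ t := (conj_pow).symm
        _ = _ := by rw [← ht, ← pow_mul]
    obtain ⟨b₀, hb₀def⟩ : ∃ b₀ : M, b₀ = ⟨y * y, hyyM⟩ := ⟨_, rfl⟩
    have hb₀ : b₀ ∉ Subgroup.zpowers a₀ := by
      intro h
      apply hyyZ
      obtain ⟨i, hi⟩ := Subgroup.mem_zpowers_iff.mp h
      rw [Subgroup.mem_zpowers_iff]
      refine ⟨i, ?_⟩
      have := congrArg (fun z : M => (z : S)) hi
      simp only [Subgroup.coe_zpow] at this
      rw [hadef, this, hb₀def]
    have hA2 := MaxClassTwo.index_zpowers n hn hMcard a₀ ha₀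
    have hinv := MaxClassTwo.inv_or n hn hMcard hMidx4 a₀ ha₀ b₀ hb₀ hA2
    have hinv' : a * ((y * y) * a * (y * y)⁻¹) = 1 ∨
        a * ((y * y) * a * (y * y)⁻¹) = a ^ (2 ^ (n - 2)) := by
      rcases hinv with h | h
      · left
        have := congrArg (fun z : M => (z : S)) h
        simp only [Subgroup.coe_mul, Subgroup.coe_inv, Subgroup.coe_one] at this
        rw [hadef]
        rw [hb₀def] at this
        exact this
      · right
        have := congrArg (fun z : M => (z : S)) h
        simp only [Subgroup.coe_mul, Subgroup.coe_inv, Subgroup.coe_pow] at this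
        rw [hadef]
        rw [hb₀def] at this
        exact this
    rw [htt, ← pow_succ'] at hinv'
    have h4 : ∀ m : ℕ, 2 ≤ m → 2 ^ m ∣ t * t + 1 → False := by
      intro m hm hdvd
      have : 4 ∣ t * t + 1 := dvd_trans ((by norm_num : 4 = 2 ^ 2) ▸ pow_dvd_pow 2 hm) hdvd
      have h5 := sq_mod_four t
      omega
    rcases hinv' with h | h
    · have := orderOf_dvd_of_pow_eq_one h
      rw [ha] at this
      exact h4 (n - 1) (by omega) this
    · rcases Nat.lt_or_ge n 4 with hlt | hge
      · have hn3 : n = 3 := by omega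
        subst hn3
        apply MaxClassTwo.not_comm 3 hn hMcard hMidx4 a₀ ha₀ b₀ hb₀
        apply Subtype.ext
        simp only [Subgroup.coe_mul, Subgroup.coe_inv]
        rw [hb₀def, ← hadef]
        show y * y * a * (y * y)⁻¹ = a
        rw [htt]
        have h6 : a ^ (t * t + 1) = a ^ (t * t) * a := pow_succ a (t * t)
        rw [h6] at h
        have h7 : a ^ (2 ^ (3 - 2)) = a * a := by norm_num [pow_two]
        rw [h7] at h
        exact mul_right_cancel h
      · have hz := MaxClassTwo.z_sq n hn a ha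
        have h6 : a ^ ((t * t + 1) * 2) = 1 := by
          rw [pow_mul, h, pow_two]; exact hz
        have := orderOf_dvd_of_pow_eq_one h6
        rw [ha] at this
        have h7 : 2 ^ (n - 1) = 2 ^ (n - 2) * 2 := by rw [← pow_succ]; congr 1; omega
        rw [h7] at this
        exact h4 (n - 2) (by omega) (Nat.dvd_of_mul_dvd_mul_right (by norm_num) this)

/-- a `2`-group without elementary abelian sections of order eight which contains a non-abelian
subgroup of order eight has commutator subgroup of index four -/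
theorem index_four (n : ℕ) (hn : 3 ≤ n) : ∀ (S : Type u) [Group S] [Finite S],
    Nat.card S = 2 ^ n → NoE8 S →
    (∃ B : Subgroup S, Nat.card B = 8 ∧ ∃ x ∈ B, ∃ y ∈ B, x * y ≠ y * x) →
    (commutator S).index = 4 := by
  induction n, hn using Nat.le_induction with
  | base =>
    intro S _ _ hcard _ hB
    obtain ⟨B, hB, x, hx, y, hy, hxy⟩ := hB
    obtain ⟨c, hc⟩ := four_dvd_index 3 hcard ⟨x, y, hxy⟩
    have hmul := (commutator S).card_mul_index
    rw [hcard] at hmul
    have hne : (commutator S).index ≠ 8 := by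
      intro h8
      rw [h8] at hmul
      have h1 : Nat.card (commutator S) = 1 := by omega
      rw [Subgroup.card_eq_one, commutator_eq_bot_iff_center_eq_top] at h1
      apply hxy
      have : x ∈ Subgroup.center S := h1 ▸ Subgroup.mem_top x
      exact ((Subgroup.mem_center_iff.mp this) y).symm
    have hdvd : (commutator S).index ∣ 8 := by
      have := Subgroup.index_dvd_card (commutator S)
      rw [hcard] at this
      norm_num at this
      exact this
    have hle := Nat.le_of_dvd (by norm_num) hdvd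
    have hne0 : (commutator S).index ≠ 0 := Subgroup.index_ne_zero_of_finite
    have hc2 : c ≤ 2 := by omega
    interval_cases c <;> omega
  | succ n hn ih =>
    intro S _ _ hcard hE hB
    obtain ⟨B, hB, x, hx, y, hy, hxy⟩ := hB
    exact step n hn S ih hcard hE B hB x y hx hy hxy

/-- **Main theorem**: a `2`-group of sectional rank at most two containing a non-abelian subgroup of
order eight is dihedral, semidihedral or generalized quaternion. -/
theorem main {S : Type u} [Group S] [Finite S] (h2 : IsPGroup 2 S)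
    (hr : Cfsg.SectionalPRankLE 2 2 S)
    (B : Subgroup S) (hB : Nat.card B = 8) (hna : ∃ x ∈ B, ∃ y ∈ B, x * y ≠ y * x) :
    ∃ n : ℕ, 3 ≤ n ∧ Nat.card S = 2 ^ n ∧ (commutator S).index = 4 := by
  have : Fact (Nat.Prime 2) := ⟨Nat.prime_two⟩
  obtain ⟨n, hn⟩ := IsPGroup.iff_card.mp h2
  have h3 : 3 ≤ n := by
    have h1 : Nat.card B ∣ Nat.card S := Subgroup.card_subgroup_dvd_card B
    rw [hB, hn] at h1
    have h8 : (8 : ℕ) = 2 ^ 3 := by norm_num
    rw [h8] at h1
    exact (Nat.pow_dvd_pow_iff_le_right (by norm_num)).mp h1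
  exact ⟨n, h3, hn, index_four n h3 S hn (noE8_of_sectional hr) ⟨B, hB, hna⟩⟩

end Cfsg.Agent.H2.SecTwo
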