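import Mathlib
import Cfsg.Prelude.Def_CaseTheorems
import Cfsg.Agent.H2.SectionalTwo
import Cfsg.Agent.Lib.Lead.PGroup

/-!
# 2-groups of sectional rank at most four: two normal non-abelian subgroups with different centres
of order two.  (author: helper2)
-/

set_option autoImplicit false

namespace Cfsg.Agent.H2.SecFour

open Cfsg.Agent.H2 Cfsg.Agent.H2.SecTwo

universe u

/-- sectional rank at most `k`, in terms of squares -/
theorem relIndex_le_of_sectional {S : Type*} [Group S] (k : ℕ)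
    (hr : Cfsg.SectionalPRankLE 2 k S) (H N : Subgroup S) (hNH : N ≤ H)
    (hsq : ∀ h ∈ H, h * h ∈ N) : N.relIndex H ≤ 2 ^ k := by
  have hnorm : (N.subgroupOf H).Normal := by
    rw [Subgroup.normal_subgroupOf_iff hNH]
    intro n h hn hh
    have h1 : h * n * h⁻¹ = ((h * n) * (h * n)) * n⁻¹ * (h⁻¹ * h⁻¹) := by group
    rw [h1]
    exact N.mul_mem (N.mul_mem (hsq _ (H.mul_mem hh (hNH hn))) (N.inv_mem hn))
      (hsq _ (H.inv_mem hh))
  have h1 := hr H (N.subgroupOf H) ⊤ ?_ ?_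
  · rw [Subgroup.card_top] at h1
    rw [Subgroup.relIndex, Subgroup.index_eq_card]
    exact h1
  · refine ⟨⟨?_⟩⟩
    rintro ⟨a, -⟩ ⟨b, -⟩
    apply Subtype.ext
    simp only [Subgroup.coe_mul]
    apply Taussky.comm_of_sq_eq_one
    intro x
    obtain ⟨x, rfl⟩ := QuotientGroup.mk_surjective x
    rw [← QuotientGroup.mk_mul, QuotientGroup.eq_one_iff, Subgroup.mem_subgroupOf]
    exact hsq _ x.2
  · intro a _
    obtain ⟨x, rfl⟩ := QuotientGroup.mk_surjective a
    rw [← QuotientGroup.mk_pow, QuotientGroup.eq_one_iff, Subgroup.mem_subgroupOf, pow_two]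
    exact hsq _ x.2

theorem two_le_relIndex {S : Type*} [Group S] [Finite S] (A B : Subgroup S) (hAB : A < B) :
    2 ≤ A.relIndex B := by
  have hne1 : A.relIndex B ≠ 1 := by
    intro h
    rw [Subgroup.relIndex_eq_one] at h
    exact absurd (le_antisymm hAB.le h) hAB.ne
  have hne0 : A.relIndex B ≠ 0 := Subgroup.index_ne_zero_of_finite
  omega

/-- a strictly increasing chain of length five gives relative index at least `32` -/
theorem thirtytwo_le_relIndex {S : Type*} [Group S] [Finite S] (N K₁ K₂ K₃ K₄ H : Subgroup S)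
    (h1 : N < K₁) (h2 : K₁ < K₂) (h3 : K₂ < K₃) (h4 : K₃ < K₄) (h5 : K₄ < H) :
    32 ≤ N.relIndex H := by
  have e1 := eight_le_relIndex N K₁ K₂ K₃ h1 h2 h3
  have k4 := two_le_relIndex K₃ K₄ h4
  have k5 := two_le_relIndex K₄ H h5
  have e2 := Subgroup.relIndex_mul_relIndex N K₃ K₄ (h1.le.trans (h2.le.trans h3.le)) h4.le
  have e3 := Subgroup.relIndex_mul_relIndex N K₄ H
    (h1.le.trans (h2.le.trans (h3.le.trans h4.le))) h5.le
  rw [← e3, ← e2]
  calc 32 = 8 * 2 * 2 := by norm_num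
    _ ≤ _ := Nat.mul_le_mul (Nat.mul_le_mul e1 k4) k5

/-- elements of `A ⊔ B` when `A` and `B` commute elementwise -/
theorem mem_sup_of_comm {S : Type*} [Group S] (A B : Subgroup S)
    (hc : ∀ a ∈ A, ∀ b ∈ B, a * b = b * a) (h : S) (hh : h ∈ A ⊔ B) :
    ∃ a ∈ A, ∃ b ∈ B, h = a * b := by
  rw [Subgroup.sup_eq_closure] at hh
  induction hh using Subgroup.closure_induction with
  | mem x hx =>
    rcases hx with hx | hx
    · exact ⟨x, hx, 1, B.one_mem, by simp⟩
    · exact ⟨1, A.one_mem, x, hx, by simp⟩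
  | one => exact ⟨1, A.one_mem, 1, B.one_mem, by simp⟩
  | mul x y _ _ hx hy =>
    obtain ⟨a, ha, b, hb, rfl⟩ := hx
    obtain ⟨a', ha', b', hb', rfl⟩ := hy
    refine ⟨a * a', A.mul_mem ha ha', b * b', B.mul_mem hb hb', ?_⟩
    calc a * b * (a' * b') = a * (b * a') * b' := by group
      _ = a * (a' * b) * b' := by rw [hc a' ha' b hb]
      _ = _ := by group
  | inv x _ hx =>
    obtain ⟨a, ha, b, hb, rfl⟩ := hx
    refine ⟨a⁻¹, A.inv_mem ha, b⁻¹, B.inv_mem hb, ?_⟩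
    rw [mul_inv_rev]
    exact (hc a⁻¹ (A.inv_mem ha) b⁻¹ (B.inv_mem hb)).symm

/-- a subgroup of order two is generated by any of its non-identity elements -/
theorem eq_zpowers_of_card_two {S : Type*} [Group S] [Finite S] (K : Subgroup S)
    (hK : Nat.card K = 2) (z : S) (hz : z ∈ K) (hz1 : z ≠ 1) : K = Subgroup.zpowers z := by
  symm
  apply Subgroup.eq_of_le_of_card_ge (Subgroup.zpowers_le.mpr hz)
  rw [hK, Nat.card_zpowers]
  have h1 : orderOf z ≠ 1 := fun h => hz1 (orderOf_eq_one_iff.mp h)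
  have h0 : 0 < orderOf z := orderOf_pos z
  omega

/-- a subgroup of index two contains the commutator subgroup -/
theorem commutator_le_of_index_two {X : Type*} [Group X] (M : Subgroup X) (hM : M.index = 2) :
    commutator X ≤ M := by
  have hN : M.Normal := Subgroup.normal_of_index_eq_two hM
  rw [commutator_def, Subgroup.commutator_le]
  intro g₁ _ g₂ _
  rw [commutatorElement_def, Subgroup.mul_mem_iff_of_index_two hM]
  rw [hN.mem_comm_iff, ← mul_assoc, inv_mul_cancel, one_mul, Subgroup.inv_mem_iff]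

/-- In a non-abelian `2`-group with centre of order two there are subgroups `N < K < ⊤` with `N`
containing the centre and all squares. -/
theorem exists_square_subgroup {X : Type u} [Group X] [Finite X] (hX : IsPGroup 2 X)
    (x₁ x₂ : X) (hx : x₁ * x₂ ≠ x₂ * x₁) (hZ : Nat.card (Subgroup.center X) = 2) :
    ∃ N K : Subgroup X, (∀ x : X, x * x ∈ N) ∧ Subgroup.center X ≤ N ∧ N < K ∧ K < ⊤ := by
  have : Fact (Nat.Prime 2) := ⟨Nat.prime_two⟩
  obtain ⟨m, hm⟩ := IsPGroup.iff_card.mp hX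
  have hnotcyc : ∀ g : X, Subgroup.zpowers g ≠ ⊤ := by
    intro g h
    have h1 : x₁ ∈ Subgroup.zpowers g := h ▸ Subgroup.mem_top x₁
    have h2 : x₂ ∈ Subgroup.zpowers g := h ▸ Subgroup.mem_top x₂
    exact hx (MaxClassTwo.zpowers_comm g x₁ h1 x₂ h2)
  have hm1 : 1 ≤ m := by
    by_contra h
    have h0 : m = 0 := by omega
    rw [h0, pow_zero] at hm
    have : Subsingleton X := (Nat.card_eq_one_iff_unique.mp hm).1
    exact hx (Subsingleton.elim _ _)
  have hdvd : 2 ^ (m - 1) ∣ Nat.card X := by rw [hm]; exact pow_dvd_pow 2 (Nat.sub_le m 1)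
  have hidx : ∀ M : Subgroup X, Nat.card M = 2 ^ (m - 1) → M.index = 2 := by
    intro M hM
    have := M.card_mul_index
    rw [hM, hm] at this
    have h2 : 2 ^ m = 2 ^ (m - 1) * 2 := by rw [← pow_succ]; congr 1; omega
    rw [h2] at this
    exact Nat.eq_of_mul_eq_mul_left (by positivity) this
  obtain ⟨M₁, hM₁card, -⟩ := Sylow.exists_subgroup_card_pow_prime_le 2 (n := 0) (m := m - 1)
    hdvd ⊥ (by rw [Subgroup.card_bot, pow_zero]) (Nat.zero_le _)
  have hM₁idx := hidx M₁ hM₁card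
  obtain ⟨g, hg⟩ : ∃ g : X, g ∉ M₁ := by
    by_contra hcon
    push Not at hcon
    have : M₁ = ⊤ := (Subgroup.eq_top_iff' _).mpr hcon
    rw [this, Subgroup.index_top] at hM₁idx
    omega
  obtain ⟨j, hj, hj2⟩ : ∃ j, j ≤ m ∧ Nat.card (Subgroup.zpowers g) = 2 ^ j := by
    have := Subgroup.card_subgroup_dvd_card (Subgroup.zpowers g)
    rw [hm] at this
    exact (Nat.dvd_prime_pow Nat.prime_two).mp this
  have hjm : j ≠ m := by
    intro h
    apply hnotcyc g
    rw [← Subgroup.card_eq_iff_eq_top, hj2, h, hm]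
  obtain ⟨M₂, hM₂card, hgM₂⟩ := Sylow.exists_subgroup_card_pow_prime_le 2 (n := j) (m := m - 1)
    hdvd (Subgroup.zpowers g) hj2 (by omega)
  have hM₂idx := hidx M₂ hM₂card
  have hcomm_ne : commutator X ≠ ⊥ := by
    intro h
    rw [commutator_eq_bot_iff_center_eq_top] at h
    have : x₁ ∈ Subgroup.center X := h ▸ Subgroup.mem_top x₁
    exact hx ((Subgroup.mem_center_iff.mp this) x₂).symm
  obtain ⟨z, hzc, hzZ, hz1⟩ :=
    Cfsg.Agent.Lib.Lead.PGroup.exists_mem_center_of_normal hX (commutator X) hcomm_ne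
  have hZeq := eq_zpowers_of_card_two (Subgroup.center X) hZ z hzZ hz1
  have hZle : ∀ M : Subgroup X, M.index = 2 → Subgroup.center X ≤ M := by
    intro M hM
    rw [hZeq, Subgroup.zpowers_le]
    exact commutator_le_of_index_two M hM hzc
  refine ⟨M₁ ⊓ M₂, M₁, ?_, le_inf (hZle M₁ hM₁idx) (hZle M₂ hM₂idx), ?_, ?_⟩
  · intro x
    exact ⟨IdxTwo.sq_mem M₁ hM₁idx x, IdxTwo.sq_mem M₂ hM₂idx x⟩
  · refine lt_of_le_of_ne inf_le_left ?_
    intro h
    have hle : M₁ ≤ M₂ := by rw [← h]; exact inf_le_right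
    have heq : M₁ = M₂ := Subgroup.eq_of_le_of_card_ge hle (by rw [hM₁card, hM₂card])
    exact hg (heq ▸ hgM₂ (Subgroup.mem_zpowers g))
  · refine lt_of_le_of_ne le_top ?_
    intro h
    rw [h, Subgroup.index_top] at hM₁idx
    omega

section main

variable {S : Type u} [Group S] [Finite S]

theorem mem_center_map_iff (P : Subgroup S) (x : S) :
    x ∈ (Subgroup.center P).map P.subtype ↔ x ∈ P ∧ ∀ h ∈ P, h * x = x * h := by
  constructor
  · rintro ⟨y, hy, rfl⟩
    refine ⟨y.2, fun h hh => ?_⟩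
    have := Subgroup.mem_center_iff.1 hy ⟨h, hh⟩
    exact congrArg Subtype.val this
  · rintro ⟨hx, hc⟩
    refine ⟨⟨x, hx⟩, ?_, rfl⟩
    rw [SetLike.mem_coe, Subgroup.mem_center_iff]
    intro h
    apply Subtype.ext
    exact hc h h.2

theorem inf_eq_bot (h2 : IsPGroup 2 S) (P Q : Subgroup S) [P.Normal] [Q.Normal]
    (hZP : Nat.card (Subgroup.center P) = 2) (hZQ : Nat.card (Subgroup.center Q) = 2)
    (hne : (Subgroup.center P).map P.subtype ≠ (Subgroup.center Q).map Q.subtype) :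
    P ⊓ Q = ⊥ := by
  by_contra hD
  have : Fact (Nat.Prime 2) := ⟨Nat.prime_two⟩
  obtain ⟨z, hzD, hzZ, hz1⟩ :=
    Cfsg.Agent.Lib.Lead.PGroup.exists_mem_center_of_normal h2 (P ⊓ Q) hD
  have hzP : z ∈ (Subgroup.center P).map P.subtype :=
    (mem_center_map_iff P z).mpr ⟨hzD.1, fun h _ => (Subgroup.mem_center_iff.mp hzZ h)⟩
  have hzQ : z ∈ (Subgroup.center Q).map Q.subtype :=
    (mem_center_map_iff Q z).mpr ⟨hzD.2, fun h _ => (Subgroup.mem_center_iff.mp hzZ h)⟩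
  have cardP : Nat.card ((Subgroup.center P).map P.subtype) = 2 := by
    rw [Subgroup.card_map_of_injective P.subtype_injective]; exact hZP
  have cardQ : Nat.card ((Subgroup.center Q).map Q.subtype) = 2 := by
    rw [Subgroup.card_map_of_injective Q.subtype_injective]; exact hZQ
  apply hne
  rw [eq_zpowers_of_card_two _ cardP z hzP hz1, eq_zpowers_of_card_two _ cardQ z hzQ hz1]

variable {P Q : Subgroup S} (hPQ : P ⊓ Q = ⊥) (hc : ∀ p ∈ P, ∀ q ∈ Q, p * q = q * p)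

include hPQ hc in
theorem mem_of_mem_sup {A B : Subgroup S} (hA : A ≤ P) (hB : B ≤ Q) (x : S) (hxP : x ∈ P)
    (hx : x ∈ A ⊔ B) : x ∈ A := by
  obtain ⟨a, ha, b, hb, rfl⟩ := mem_sup_of_comm A B (fun a ha b hb => hc a (hA ha) b (hB hb)) x hx
  have hbP : b ∈ P := by
    have : b = a⁻¹ * (a * b) := by group
    rw [this]; exact P.mul_mem (P.inv_mem (hA ha)) hxP
  have : b ∈ P ⊓ Q := ⟨hbP, hB hb⟩
  rw [hPQ, Subgroup.mem_bot] at this
  rw [this, mul_one]; exact ha

include hPQ hc in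
theorem mem_of_mem_sup' {A B : Subgroup S} (hA : A ≤ P) (hB : B ≤ Q) (x : S) (hxQ : x ∈ Q)
    (hx : x ∈ A ⊔ B) : x ∈ B := by
  obtain ⟨a, ha, b, hb, rfl⟩ := mem_sup_of_comm A B (fun a ha b hb => hc a (hA ha) b (hB hb)) x hx
  have haQ : a ∈ Q := by
    have : a = (a * b) * b⁻¹ := by group
    rw [this]; exact Q.mul_mem hxQ (Q.inv_mem (hB hb))
  have : a ∈ P ⊓ Q := ⟨hA ha, haQ⟩
  rw [hPQ, Subgroup.mem_bot] at this
  rw [this, one_mul]; exact hb

include hPQ hc in
theorem sup_lt_sup_left' {A A' B : Subgroup S} (hAA' : A < A') (hA' : A' ≤ P) (hB : B ≤ Q) :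
    A ⊔ B < A' ⊔ B := by
  refine lt_of_le_of_ne (sup_le_sup_right hAA'.le B) ?_
  intro h
  obtain ⟨x, hxA', hxA⟩ := SetLike.exists_of_lt hAA'
  apply hxA
  apply mem_of_mem_sup hPQ hc (hAA'.le.trans hA') hB x (hA' hxA')
  rw [h]
  exact (le_sup_left : A' ≤ A' ⊔ B) hxA'

include hPQ hc in
theorem sup_lt_sup_right' {A B B' : Subgroup S} (hA : A ≤ P) (hBB' : B < B') (hB' : B' ≤ Q) :
    A ⊔ B < A ⊔ B' := by
  refine lt_of_le_of_ne (sup_le_sup_left hBB'.le A) ?_
  intro h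
  obtain ⟨x, hxB', hxB⟩ := SetLike.exists_of_lt hBB'
  apply hxB
  apply mem_of_mem_sup' hPQ hc hA (hBB'.le.trans hB') x (hB' hxB')
  rw [h]
  exact (le_sup_right : B' ≤ A ⊔ B') hxB'

/-- the data extracted from a non-abelian subgroup with centre of order two -/
theorem exists_square_subgroup' (h2 : IsPGroup 2 S) (P : Subgroup S)
    (hP : ¬ IsMulCommutative ↥P) (hZP : Nat.card (Subgroup.center P) = 2) :
    ∃ N K : Subgroup S, (∀ x ∈ P, x * x ∈ N) ∧
      (∀ z ∈ P, (∀ g ∈ P, g * z = z * g) → z ∈ N) ∧ N < K ∧ K < P := by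
  obtain ⟨x₁, x₂, hx⟩ : ∃ x₁ x₂ : P, x₁ * x₂ ≠ x₂ * x₁ := by
    by_contra hcon
    push Not at hcon
    exact hP ⟨⟨hcon⟩⟩
  obtain ⟨N, K, hsq, hZ, hNK, hK⟩ := exists_square_subgroup (h2.to_subgroup P) x₁ x₂ hx hZP
  refine ⟨N.map P.subtype, K.map P.subtype, ?_, ?_, ?_, ?_⟩
  · intro x hx
    exact ⟨⟨x, hx⟩ * ⟨x, hx⟩, hsq _, rfl⟩
  · intro z hz hzc
    obtain ⟨y, hy, rfl⟩ := (mem_center_map_iff P z).mpr ⟨hz, hzc⟩
    exact ⟨y, hZ hy, rfl⟩
  · exact (Subgroup.map_lt_map_iff_of_injective P.subtype_injective).mpr hNK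
  · have := (Subgroup.map_lt_map_iff_of_injective P.subtype_injective).mpr hK
    rwa [← MonoidHom.range_eq_map, Subgroup.range_subtype] at this

section key

variable (h2 : IsPGroup 2 S) (hr : Cfsg.SectionalPRankLE 2 4 S)
  (hP : ¬ IsMulCommutative ↥P) (hQ : ¬ IsMulCommutative ↥Q)
  (hZP : Nat.card (Subgroup.center P) = 2) (hZQ : Nat.card (Subgroup.center Q) = 2)

include hPQ hc h2 hr hP hQ hZP hZQ in
theorem centralizer_key (u : S) (hu : u ∈ Subgroup.centralizer ((P ⊔ Q : Subgroup S) : Set S))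
    (huPQ : u ∉ P ⊔ Q) (huu : u * u ∈ P ⊔ Q) : False := by
  obtain ⟨NP, KP, hsqP, hZNP, hNKP, hKP⟩ := exists_square_subgroup' h2 P hP hZP
  obtain ⟨NQ, KQ, hsqQ, hZNQ, hNKQ, hKQ⟩ := exists_square_subgroup' h2 Q hQ hZQ
  have hucomm : ∀ g ∈ P ⊔ Q, u * g = g * u := by
    intro g hg
    exact ((Subgroup.mem_centralizer_iff.mp hu) g hg).symm
  have huucomm : ∀ g ∈ P ⊔ Q, g * (u * u) = (u * u) * g := by
    intro g hg
    calc g * (u * u) = (g * u) * u := by group
      _ = (u * g) * u := by rw [hucomm g hg]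
      _ = u * (g * u) := by group
      _ = u * (u * g) := by rw [hucomm g hg]
      _ = _ := by group
  -- `u * u ∈ NP ⊔ NQ`
  have huuN : u * u ∈ NP ⊔ NQ := by
    obtain ⟨p₀, hp₀, q₀, hq₀, hpq⟩ := mem_sup_of_comm P Q hc _ huu
    rw [hpq]
    apply Subgroup.mul_mem
    · apply (le_sup_left : NP ≤ NP ⊔ NQ)
      apply hZNP p₀ hp₀
      intro g hg
      have h1 := huucomm g ((le_sup_left : P ≤ P ⊔ Q) hg)
      rw [hpq] at h1
      have h2' : g * q₀ = q₀ * g := hc g hg q₀ hq₀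
      have h3 : g * p₀ * q₀ = p₀ * g * q₀ := by
        calc g * p₀ * q₀ = g * (p₀ * q₀) := by group
          _ = p₀ * q₀ * g := h1
          _ = p₀ * (q₀ * g) := by group
          _ = p₀ * (g * q₀) := by rw [h2']
          _ = _ := by group
      exact mul_right_cancel h3
    · apply (le_sup_right : NQ ≤ NP ⊔ NQ)
      apply hZNQ q₀ hq₀
      intro g hg
      have h1 := huucomm g ((le_sup_right : Q ≤ P ⊔ Q) hg)
      rw [hpq] at h1
      have h2' : p₀ * g = g * p₀ := hc p₀ hp₀ g hg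
      have h3 : p₀ * (g * q₀) = p₀ * (q₀ * g) := by
        calc p₀ * (g * q₀) = (p₀ * g) * q₀ := by group
          _ = g * p₀ * q₀ := by rw [h2']
          _ = g * (p₀ * q₀) := by group
          _ = p₀ * q₀ * g := h1
          _ = _ := by group
      exact mul_left_cancel h3
  have hsqH : ∀ h ∈ (P ⊔ Q) ⊔ Subgroup.zpowers u, h * h ∈ NP ⊔ NQ := by
    intro h hh
    obtain ⟨g, hg, i, rfl⟩ := mem_sup_zpowers_of_comm (P ⊔ Q) u hucomm h hh
    have hcomm : u ^ i * g = g * u ^ i := (Commute.zpow_left (hucomm g hg : Commute u g) i).eq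
    have h1 : g * u ^ i * (g * u ^ i) = (g * g) * (u * u) ^ i := by
      rw [(Commute.refl u).mul_zpow]
      calc g * u ^ i * (g * u ^ i) = g * (u ^ i * g) * u ^ i := by group
        _ = g * (g * u ^ i) * u ^ i := by rw [hcomm]
        _ = _ := by group
    rw [h1]
    apply Subgroup.mul_mem _ _ (Subgroup.zpow_mem _ huuN i)
    obtain ⟨p, hp, q, hq, rfl⟩ := mem_sup_of_comm P Q hc g hg
    have h2' : p * q * (p * q) = (p * p) * (q * q) := by
      calc p * q * (p * q) = p * (q * p) * q := by group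
        _ = p * (p * q) * q := by rw [hc p hp q hq]
        _ = _ := by group
    rw [h2']
    exact Subgroup.mul_mem _ ((le_sup_left : NP ≤ NP ⊔ NQ) (hsqP p hp))
      ((le_sup_right : NQ ≤ NP ⊔ NQ) (hsqQ q hq))
  have c1 : NP ⊔ NQ < KP ⊔ NQ :=
    sup_lt_sup_left' hPQ hc hNKP hKP.le (hNKQ.le.trans hKQ.le)
  have c2 : KP ⊔ NQ < P ⊔ NQ := sup_lt_sup_left' hPQ hc hKP le_rfl (hNKQ.le.trans hKQ.le)
  have c3 : P ⊔ NQ < P ⊔ KQ := sup_lt_sup_right' hPQ hc le_rfl hNKQ hKQ.le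
  have c4 : P ⊔ KQ < P ⊔ Q := sup_lt_sup_right' hPQ hc le_rfl hKQ le_rfl
  have c5 : P ⊔ Q < (P ⊔ Q) ⊔ Subgroup.zpowers u := by
    refine lt_of_le_of_ne le_sup_left ?_
    intro h
    apply huPQ
    rw [h]
    exact (le_sup_right : Subgroup.zpowers u ≤ _) (Subgroup.mem_zpowers u)
  have h32 := thirtytwo_le_relIndex _ _ _ _ _ _ c1 c2 c3 c4 c5
  have h16 := relIndex_le_of_sectional 4 hr ((P ⊔ Q) ⊔ Subgroup.zpowers u) (NP ⊔ NQ)
    (c1.le.trans (c2.le.trans (c3.le.trans (c4.le.trans c5.le)))) hsqH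
  omega

include hPQ hc h2 hr hP hQ hZP hZQ in
theorem centralizer_le : Subgroup.centralizer ((P ⊔ Q : Subgroup S) : Set S) ≤ P ⊔ Q := by
  have key : ∀ k : ℕ, ∀ v ∈ Subgroup.centralizer ((P ⊔ Q : Subgroup S) : Set S),
      v ^ (2 ^ k) = 1 → v ∈ P ⊔ Q := by
    intro k
    induction k with
    | zero =>
      intro v _ hv1
      rw [pow_zero, pow_one] at hv1
      rw [hv1]; exact Subgroup.one_mem _
    | succ k ih =>
      intro v hv hv1
      have h1 : v * v ∈ P ⊔ Q := by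
        apply ih _ (Subgroup.mul_mem _ hv hv)
        rw [← pow_two, ← pow_mul, ← pow_succ']
        exact hv1
      by_contra hvB
      exact centralizer_key hPQ hc h2 hr hP hQ hZP hZQ v hv hvB h1
  intro v hv
  obtain ⟨k, hk⟩ := h2 v
  exact key k v hv hk

end key

/-- **Main theorem** -/
theorem main (h2 : IsPGroup 2 S) (hr : Cfsg.SectionalPRankLE 2 4 S)
    (P Q : Subgroup S) [P.Normal] [Q.Normal] (hP : ¬ IsMulCommutative ↥P)
    (hQ : ¬ IsMulCommutative ↥Q)
    (hZP : Nat.card (Subgroup.center P) = 2) (hZQ : Nat.card (Subgroup.center Q) = 2)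
    (hne : (Subgroup.center P).map P.subtype ≠ (Subgroup.center Q).map Q.subtype) :
    ⁅P, Q⁆ = ⊥ ∧ P ⊓ Q = ⊥ ∧ Subgroup.centralizer ((P ⊔ Q : Subgroup S) : Set S) ≤ P ⊔ Q := by
  have hPQ := inf_eq_bot h2 P Q hZP hZQ hne
  have hcomm : ⁅P, Q⁆ = ⊥ := by
    rw [eq_bot_iff, ← hPQ]
    exact Subgroup.commutator_le_inf P Q
  have hc : ∀ p ∈ P, ∀ q ∈ Q, p * q = q * p := by
    intro p hp q hq
    have := Subgroup.commutator_eq_bot_iff_le_centralizer.mp hcomm hp
    exact ((Subgroup.mem_centralizer_iff.mp this) q hq).symm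
  exact ⟨hcomm, hPQ, centralizer_le hPQ hc h2 hr hP hQ hZP hZQ⟩

end main

end Cfsg.Agent.H2.SecFour
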