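import Mathlib
import Cfsg.Prelude.Def_CaseTheorems
import Cfsg.Agent.H2.SectionalFour

/-!
# 2-groups of sectional rank at most four: the centralizer of the centre of a non-abelian subgroup
with centre of order two.  (author: helper2)
-/

set_option autoImplicit false

namespace Cfsg.Agent.H2.SecFourB

open Cfsg.Agent.H2 Cfsg.Agent.H2.SecTwo Cfsg.Agent.H2.SecFour

universe u

variable {S : Type u} [Group S] [Finite S]

/-- the centre of `P`, as a subgroup of the ambient group -/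
def Zc (P : Subgroup S) : Subgroup S := P ⊓ Subgroup.centralizer (P : Set S)

theorem mem_Zc (P : Subgroup S) (x : S) : x ∈ Zc P ↔ x ∈ P ∧ ∀ h ∈ P, h * x = x * h := by
  unfold Zc
  rw [Subgroup.mem_inf, Subgroup.mem_centralizer_iff]
  rfl

theorem Zc_eq_map (P : Subgroup S) : Zc P = (Subgroup.center P).map P.subtype := by
  ext x; rw [mem_Zc, SecFour.mem_center_map_iff]

theorem card_center_eq (P : Subgroup S) : Nat.card (Subgroup.center P) = Nat.card (Zc P) := by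
  rw [Zc_eq_map, Subgroup.card_map_of_injective P.subtype_injective]

theorem not_comm_of (P : Subgroup S) (hP : ∃ x ∈ P, ∃ y ∈ P, x * y ≠ y * x) :
    ¬ IsMulCommutative ↥P := by
  rintro ⟨⟨h⟩⟩
  obtain ⟨x, hx, y, hy, hxy⟩ := hP
  exact hxy (congrArg Subtype.val (h ⟨x, hx⟩ ⟨y, hy⟩))

theorem exists_not_comm (P : Subgroup S) (hP : ¬ IsMulCommutative ↥P) :
    ∃ x ∈ P, ∃ y ∈ P, x * y ≠ y * x := by
  by_contra hcon
  push Not at hcon
  apply hP
  refine ⟨⟨?_⟩⟩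
  rintro ⟨x, hx⟩ ⟨y, hy⟩
  exact Subtype.ext (hcon x hx y hy)

/-- relative version of the theorem on two normal non-abelian subgroups -/
theorem rel_main (h2 : IsPGroup 2 S) (hr : Cfsg.SectionalPRankLE 2 4 S)
    (S₀ P Q : Subgroup S) (hP0 : P ≤ S₀) (hQ0 : Q ≤ S₀)
    (hPn : ∀ s ∈ S₀, ∀ x ∈ P, s * x * s⁻¹ ∈ P) (hQn : ∀ s ∈ S₀, ∀ x ∈ Q, s * x * s⁻¹ ∈ Q)
    (hP : ∃ x ∈ P, ∃ y ∈ P, x * y ≠ y * x) (hQ : ∃ x ∈ Q, ∃ y ∈ Q, x * y ≠ y * x)
    (hZP : Nat.card (Zc P) = 2) (hZQ : Nat.card (Zc Q) = 2) (hne : Zc P ≠ Zc Q) :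
    P ⊓ Q = ⊥ ∧ (∀ p ∈ P, ∀ q ∈ Q, p * q = q * p) ∧
      Subgroup.centralizer ((P ⊔ Q : Subgroup S) : Set S) ≤ P ⊔ Q := by
  have : Fact (Nat.Prime 2) := ⟨Nat.prime_two⟩
  have hPQ : P ⊓ Q = ⊥ := by
    by_contra hD
    have hDn : ((P ⊓ Q).subgroupOf S₀).Normal := by
      refine ⟨fun n hn g => ?_⟩
      rw [Subgroup.mem_subgroupOf] at hn ⊢
      exact ⟨hPn g g.2 n hn.1, hQn g g.2 n hn.2⟩
    have hDne : (P ⊓ Q).subgroupOf S₀ ≠ ⊥ := by
      obtain ⟨⟨d, hd⟩, hd1⟩ := (Subgroup.ne_bot_iff_exists_ne_one).mp hD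
      intro h
      have : (⟨d, hP0 hd.1⟩ : S₀) ∈ (P ⊓ Q).subgroupOf S₀ := Subgroup.mem_subgroupOf.mpr hd
      rw [h, Subgroup.mem_bot] at this
      have h3 : d = 1 := congrArg (fun w : S₀ => (w : S)) this
      exact hd1 (Subtype.ext h3)
    obtain ⟨z, hzD, hzZ, hz1⟩ := Cfsg.Agent.Lib.Lead.PGroup.exists_mem_center_of_normal
      (h2.to_subgroup S₀) ((P ⊓ Q).subgroupOf S₀) hDne
    rw [Subgroup.mem_subgroupOf] at hzD
    have hzc : ∀ s ∈ S₀, s * (z : S) = (z : S) * s := by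
      intro s hs
      exact congrArg Subtype.val (Subgroup.mem_center_iff.mp hzZ ⟨s, hs⟩)
    have hz1' : (z : S) ≠ 1 := fun h => hz1 (Subtype.ext h)
    have hzP : (z : S) ∈ Zc P := (mem_Zc P _).mpr ⟨hzD.1, fun h hh => hzc h (hP0 hh)⟩
    have hzQ : (z : S) ∈ Zc Q := (mem_Zc Q _).mpr ⟨hzD.2, fun h hh => hzc h (hQ0 hh)⟩
    apply hne
    rw [eq_zpowers_of_card_two _ hZP _ hzP hz1', eq_zpowers_of_card_two _ hZQ _ hzQ hz1']
  have hc : ∀ p ∈ P, ∀ q ∈ Q, p * q = q * p := by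
    intro p hp q hq
    have h1 : p * q * p⁻¹ * q⁻¹ ∈ P ⊓ Q := by
      constructor
      · have : p * q * p⁻¹ * q⁻¹ = p * (q * p⁻¹ * q⁻¹) := by group
        rw [this]
        exact P.mul_mem hp (hPn q (hQ0 hq) _ (P.inv_mem hp))
      · exact Q.mul_mem (hQn p (hP0 hp) q hq) (Q.inv_mem hq)
    rw [hPQ, Subgroup.mem_bot] at h1
    calc p * q = (p * q * p⁻¹ * q⁻¹) * (q * p) := by group
      _ = q * p := by rw [h1, one_mul]
  refine ⟨hPQ, hc, ?_⟩
  exact SecFour.centralizer_le hPQ hc h2 hr (not_comm_of P hP) (not_comm_of Q hQ)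
    ((card_center_eq P).trans hZP) ((card_center_eq Q).trans hZQ)

/-! ### conjugate subgroups -/

/-- the conjugate `t P t⁻¹` -/
def cj (t : S) (P : Subgroup S) : Subgroup S := P.map (MulAut.conj t).toMonoidHom

theorem mem_cj (t : S) (P : Subgroup S) (x : S) : x ∈ cj t P ↔ t⁻¹ * x * t ∈ P := by
  unfold cj
  rw [Subgroup.mem_map_equiv, MulAut.conj_symm_apply]

theorem conj_mem_cj (t : S) (P : Subgroup S) (x : S) (hx : x ∈ P) : t * x * t⁻¹ ∈ cj t P := by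
  rw [mem_cj]
  have : t⁻¹ * (t * x * t⁻¹) * t = x := by group
  rw [this]; exact hx

theorem cj_mono (t : S) {A B : Subgroup S} (h : A ≤ B) : cj t A ≤ cj t B := Subgroup.map_mono h

theorem cj_lt (t : S) {A B : Subgroup S} (h : A < B) : cj t A < cj t B :=
  (Subgroup.map_lt_map_iff_of_injective (MulAut.conj t).injective).mpr h

theorem cj_sup (t : S) (A B : Subgroup S) : cj t (A ⊔ B) = cj t A ⊔ cj t B :=
  Subgroup.map_sup A B _

theorem card_cj (t : S) (A : Subgroup S) : Nat.card (cj t A) = Nat.card A :=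
  Subgroup.card_map_of_injective (MulAut.conj t).injective

theorem cj_zpowers (t z : S) : cj t (Subgroup.zpowers z) = Subgroup.zpowers (t * z * t⁻¹) := by
  unfold cj
  rw [MonoidHom.map_zpowers]
  rfl

theorem Zc_cj (t : S) (P : Subgroup S) : Zc (cj t P) = cj t (Zc P) := by
  ext x
  rw [mem_Zc, mem_cj, mem_cj, mem_Zc]
  constructor
  · rintro ⟨h1, h2⟩
    refine ⟨h1, fun h hh => ?_⟩
    have h3 := h2 (t * h * t⁻¹) (by
      rw [mem_cj]
      have : t⁻¹ * (t * h * t⁻¹) * t = h := by group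
      rw [this]; exact hh)
    calc h * (t⁻¹ * x * t) = t⁻¹ * ((t * h * t⁻¹) * x) * t := by group
      _ = t⁻¹ * (x * (t * h * t⁻¹)) * t := by rw [h3]
      _ = _ := by group
  · rintro ⟨h1, h2⟩
    refine ⟨h1, fun h hh => ?_⟩
    rw [mem_cj] at hh
    have h3 := h2 _ hh
    calc h * x = t * ((t⁻¹ * h * t) * (t⁻¹ * x * t)) * t⁻¹ := by group
      _ = t * ((t⁻¹ * x * t) * (t⁻¹ * h * t)) * t⁻¹ := by rw [h3]
      _ = _ := by group

theorem not_comm_cj (t : S) (P : Subgroup S) (hP : ∃ x ∈ P, ∃ y ∈ P, x * y ≠ y * x) :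
    ∃ x ∈ cj t P, ∃ y ∈ cj t P, x * y ≠ y * x := by
  obtain ⟨x, hx, y, hy, hxy⟩ := hP
  refine ⟨_, conj_mem_cj t P x hx, _, conj_mem_cj t P y hy, ?_⟩
  intro h
  apply hxy
  calc x * y = t⁻¹ * ((t * x * t⁻¹) * (t * y * t⁻¹)) * t := by group
    _ = t⁻¹ * ((t * y * t⁻¹) * (t * x * t⁻¹)) * t := by rw [h]
    _ = _ := by group

/-! ### chains -/

/-- a chain of length three between subgroups of relative index more than four -/
theorem exists_chain (h2 : IsPGroup 2 S) (N A : Subgroup S) (hNA : N ≤ A)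
    (h4 : 4 < N.relIndex A) : ∃ K₁ K₂ : Subgroup S, N < K₁ ∧ K₁ < K₂ ∧ K₂ < A := by
  have : Fact (Nat.Prime 2) := ⟨Nat.prime_two⟩
  obtain ⟨n, hn⟩ := IsPGroup.iff_card.mp (h2.to_subgroup N)
  obtain ⟨a, ha⟩ := IsPGroup.iff_card.mp (h2.to_subgroup A)
  have hmul : Nat.card N * N.relIndex A = Nat.card A := by
    have := Subgroup.relIndex_mul_relIndex ⊥ N A bot_le hNA
    rwa [Subgroup.relIndex_bot_left, Subgroup.relIndex_bot_left] at this
  rw [hn, ha] at hmul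
  have hna : n + 3 ≤ a := by
    by_contra hlt
    have hlt' : a ≤ n + 2 := by omega
    have h1 : 2 ^ a ≤ 2 ^ (n + 2) := Nat.pow_le_pow_right (by norm_num) hlt'
    have h2' : 2 ^ (n + 2) = 2 ^ n * 4 := by rw [pow_add]; norm_num
    have h3 : 2 ^ n * N.relIndex A ≤ 2 ^ n * 4 := by rw [hmul, ← h2']; exact h1
    have h5 := Nat.le_of_mul_le_mul_left h3 (by positivity)
    omega
  have hN' : Nat.card (N.subgroupOf A) = 2 ^ n := by
    rw [Nat.card_congr (Subgroup.subgroupOfEquivOfLe hNA).toEquiv, hn]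
  obtain ⟨K₁', hK₁card, hK₁⟩ := Sylow.exists_subgroup_card_pow_prime_le 2 (n := n) (m := n + 1)
    (by rw [ha]; exact pow_dvd_pow 2 (by omega)) (N.subgroupOf A) hN' (by omega)
  obtain ⟨K₂', hK₂card, hK₂⟩ := Sylow.exists_subgroup_card_pow_prime_le 2 (n := n + 1)
    (m := n + 2) (by rw [ha]; exact pow_dvd_pow 2 (by omega)) K₁' hK₁card (by omega)
  have c1 : Nat.card (K₁'.map A.subtype) = 2 ^ (n + 1) := by
    rw [Subgroup.card_map_of_injective A.subtype_injective, hK₁card]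
  have c2 : Nat.card (K₂'.map A.subtype) = 2 ^ (n + 2) := by
    rw [Subgroup.card_map_of_injective A.subtype_injective, hK₂card]
  have l1 : N ≤ K₁'.map A.subtype := by
    rw [← Subgroup.map_subgroupOf_eq_of_le hNA]
    exact Subgroup.map_mono hK₁
  have l2 : K₁'.map A.subtype ≤ K₂'.map A.subtype := Subgroup.map_mono hK₂
  have l3 : K₂'.map A.subtype ≤ A := Subgroup.map_subtype_le _
  have hpow : ∀ i j : ℕ, i < j → (2 : ℕ) ^ i ≠ 2 ^ j := by
    intro i j hij h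
    have := Nat.pow_right_injective (le_refl 2) h
    omega
  refine ⟨K₁'.map A.subtype, K₂'.map A.subtype, lt_of_le_of_ne l1 ?_, lt_of_le_of_ne l2 ?_,
    lt_of_le_of_ne l3 ?_⟩
  · intro h
    rw [← h, hn] at c1
    exact hpow n (n + 1) (by omega) c1
  · intro h
    rw [h, c2] at c1
    exact hpow (n + 1) (n + 2) (by omega) c1.symm
  · intro h
    rw [h, ha] at c2
    exact hpow (n + 2) a (by omega) c2.symm

/-! ### the rank of `P` -/

theorem rank_le_two (h2 : IsPGroup 2 S) (hr : Cfsg.SectionalPRankLE 2 4 S) (t : S)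
    (P : Subgroup S) (hPP' : P ⊓ cj t P = ⊥) (hc : ∀ p ∈ P, ∀ q ∈ cj t P, p * q = q * p) :
    Cfsg.SectionalPRankLE 2 2 ↥P := by
  intro H N _ A _ hA2
  by_contra hcard
  have hcard4 : 4 < Nat.card A := by
    have : (2 : ℕ) ^ 2 = 4 := by norm_num
    omega
  obtain ⟨A₁, hA₁⟩ : ∃ A₁ : Subgroup H, A₁ = A.comap (QuotientGroup.mk' N) := ⟨_, rfl⟩
  have hNA₁ : N ≤ A₁ := by
    intro x hx
    rw [hA₁, Subgroup.mem_comap]
    have : QuotientGroup.mk' N x = 1 := (QuotientGroup.eq_one_iff x).mpr hx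
    rw [this]; exact A.one_mem
  have hrel : N.relIndex A₁ = Nat.card A := by
    have h1 := Subgroup.relIndex_comap (H := (⊥ : Subgroup (H ⧸ N))) (QuotientGroup.mk' N) A₁
    rw [MonoidHom.comap_bot, QuotientGroup.ker_mk', hA₁,
      Subgroup.map_comap_eq_self_of_surjective (QuotientGroup.mk'_surjective N) A,
      Subgroup.relIndex_bot_left] at h1
    rw [hA₁]; exact h1
  obtain ⟨φ, hφ⟩ : ∃ φ : H →* S, φ = P.subtype.comp H.subtype := ⟨_, rfl⟩
  have hφinj : Function.Injective φ := by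
    rw [hφ]
    exact P.subtype_injective.comp H.subtype_injective
  have hφP : ∀ y : H, φ y ∈ P := by
    intro y; rw [hφ]; exact (y : P).2
  have hrelS : (N.map φ).relIndex (A₁.map φ) = Nat.card A := by
    rw [Subgroup.relIndex_map_map_of_injective _ _ hφinj, hrel]
  have hNA : N.map φ ≤ A₁.map φ := Subgroup.map_mono hNA₁
  have hASP : A₁.map φ ≤ P := by
    rintro _ ⟨y, -, rfl⟩; exact hφP y
  have hsq : ∀ x ∈ A₁.map φ, x * x ∈ N.map φ := by
    rintro _ ⟨y, hy, rfl⟩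
    refine ⟨y * y, ?_, by rw [map_mul]⟩
    rw [SetLike.mem_coe, hA₁, Subgroup.mem_comap] at hy
    have h1 := hA2 _ hy
    rw [← map_pow, QuotientGroup.mk'_apply, QuotientGroup.eq_one_iff, pow_two] at h1
    exact h1
  obtain ⟨K₁, K₂, hk1, hk2, hk3⟩ := exists_chain h2 (N.map φ) (A₁.map φ) hNA (by omega)
  have hsq' : ∀ x ∈ cj t (A₁.map φ), x * x ∈ cj t (N.map φ) := by
    intro x hx
    rw [mem_cj] at hx ⊢
    have := hsq _ hx
    have h1 : t⁻¹ * (x * x) * t = (t⁻¹ * x * t) * (t⁻¹ * x * t) := by group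
    rw [h1]; exact this
  have hcomm : ∀ a ∈ A₁.map φ, ∀ b ∈ cj t (A₁.map φ), a * b = b * a :=
    fun a ha b hb => hc a (hASP ha) b (cj_mono t hASP hb)
  have hsqH : ∀ h ∈ A₁.map φ ⊔ cj t (A₁.map φ), h * h ∈ N.map φ ⊔ cj t (N.map φ) := by
    intro h hh
    obtain ⟨a, ha, b, hb, rfl⟩ := mem_sup_of_comm _ _ hcomm h hh
    have h1 : a * b * (a * b) = (a * a) * (b * b) := by
      calc a * b * (a * b) = a * (b * a) * b := by group
        _ = a * (a * b) * b := by rw [hcomm a ha b hb]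
        _ = _ := by group
    rw [h1]
    exact Subgroup.mul_mem _ ((le_sup_left : N.map φ ≤ _) (hsq a ha))
      ((le_sup_right : cj t (N.map φ) ≤ _) (hsq' b hb))
  have c1 : N.map φ ⊔ cj t (N.map φ) < K₁ ⊔ cj t (N.map φ) :=
    sup_lt_sup_left' hPP' hc hk1 ((hk2.le.trans hk3.le).trans hASP) (cj_mono t (hNA.trans hASP))
  have c2 : K₁ ⊔ cj t (N.map φ) < K₂ ⊔ cj t (N.map φ) :=
    sup_lt_sup_left' hPP' hc hk2 (hk3.le.trans hASP) (cj_mono t (hNA.trans hASP))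
  have c3 : K₂ ⊔ cj t (N.map φ) < A₁.map φ ⊔ cj t (N.map φ) :=
    sup_lt_sup_left' hPP' hc hk3 hASP (cj_mono t (hNA.trans hASP))
  have c4 : A₁.map φ ⊔ cj t (N.map φ) < A₁.map φ ⊔ cj t K₁ :=
    sup_lt_sup_right' hPP' hc hASP (cj_lt t hk1)
      (cj_mono t ((hk2.le.trans hk3.le).trans hASP))
  have c5 : A₁.map φ ⊔ cj t K₁ < A₁.map φ ⊔ cj t (A₁.map φ) :=
    sup_lt_sup_right' hPP' hc hASP (cj_lt t (hk2.trans hk3)) (cj_mono t hASP)
  have h32 := thirtytwo_le_relIndex _ _ _ _ _ _ c1 c2 c3 c4 c5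
  have h16 := relIndex_le_of_sectional 4 hr _ _
    (c1.le.trans (c2.le.trans (c3.le.trans (c4.le.trans c5.le)))) hsqH
  omega

/-! ### the configuration -/

theorem mem_zpowers_of_sq (z x : S) (hzz : z * z = 1) (hx : x ∈ Subgroup.zpowers z) :
    x = 1 ∨ x = z := by
  obtain ⟨i, rfl⟩ := Subgroup.mem_zpowers_iff.mp hx
  rcases Int.even_or_odd' i with ⟨k, rfl | rfl⟩
  · left
    rw [zpow_mul, zpow_two, hzz, one_zpow]
  · right
    rw [zpow_add, zpow_mul, zpow_two, hzz, one_zpow, one_mul, zpow_one]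

section config

variable (h2 : IsPGroup 2 S) (hr : Cfsg.SectionalPRankLE 2 4 S)
  (P S₀ : Subgroup S) (z : S)
  (hP : ∃ x ∈ P, ∃ y ∈ P, x * y ≠ y * x)
  (hZ : Zc P = Subgroup.zpowers z) (hz1 : z ≠ 1) (hzz : z * z = 1)
  (hS₀ : ∀ s, s ∈ S₀ ↔ s * z = z * s)
  (hPn : ∀ s ∈ S₀, ∀ x ∈ P, s * x * s⁻¹ ∈ P)

include hz1 hzz in
theorem card_zpowers_two : Nat.card (Subgroup.zpowers z) = 2 := by
  rw [Nat.card_zpowers]
  exact orderOf_eq_prime (by rw [pow_two]; exact hzz) hz1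

include hZ in
theorem z_mem_Zc : z ∈ Zc P := hZ ▸ Subgroup.mem_zpowers z

include hZ hS₀ in
theorem P_le : P ≤ S₀ := by
  intro x hx
  rw [hS₀]
  exact ((mem_Zc P z).mp (z_mem_Zc P z hZ)).2 x hx

include hZ hS₀ hPn in
/-- data for a conjugate by an element normalizing `S₀` -/
theorem conj_data (t : S) (ht : ∀ s, s ∈ S₀ ↔ t * s * t⁻¹ ∈ S₀) :
    cj t P ≤ S₀ ∧ (∀ s ∈ S₀, ∀ x ∈ cj t P, s * x * s⁻¹ ∈ cj t P) := by
  have hPle := P_le P S₀ z hZ hS₀
  constructor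
  · intro x hx
    rw [mem_cj] at hx
    have h1 := (ht _).mp (hPle hx)
    have : t * (t⁻¹ * x * t) * t⁻¹ = x := by group
    rwa [this] at h1
  · intro s hs x hx
    rw [mem_cj] at hx ⊢
    have h1 : t⁻¹ * s * t ∈ S₀ := by
      rw [ht]
      have : t * (t⁻¹ * s * t) * t⁻¹ = s := by group
      rw [this]; exact hs
    have h2' := hPn _ h1 _ hx
    have : t⁻¹ * (s * x * s⁻¹) * t = (t⁻¹ * s * t) * (t⁻¹ * x * t) * (t⁻¹ * s * t)⁻¹ := by group
    rw [this]; exact h2'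

include h2 hr hP hZ hz1 hzz hS₀ hPn in
/-- the pair `P`, `t P t⁻¹` for `t` normalizing but not in `S₀` -/
theorem pair_data (t : S) (ht : ∀ s, s ∈ S₀ ↔ t * s * t⁻¹ ∈ S₀) (htS : t ∉ S₀) :
    P ⊓ cj t P = ⊥ ∧ (∀ p ∈ P, ∀ q ∈ cj t P, p * q = q * p) ∧
      Subgroup.centralizer ((P ⊔ cj t P : Subgroup S) : Set S) ≤ P ⊔ cj t P := by
  obtain ⟨h1, h2'⟩ := conj_data P S₀ z hZ hS₀ hPn t ht
  have hZ' : Zc (cj t P) = Subgroup.zpowers (t * z * t⁻¹) := by
    rw [Zc_cj, hZ, cj_zpowers]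
  have hcard := card_zpowers_two z hz1 hzz
  apply rel_main h2 hr S₀ P (cj t P) (P_le P S₀ z hZ hS₀) h1 hPn h2' hP (not_comm_cj t P hP)
    (by rw [hZ]; exact hcard) (by rw [Zc_cj, card_cj, hZ]; exact hcard)
  intro h
  rw [hZ', hZ] at h
  have h3 : t * z * t⁻¹ ∈ Subgroup.zpowers z := h ▸ Subgroup.mem_zpowers _
  rcases mem_zpowers_of_sq z _ hzz h3 with h4 | h4
  · apply hz1
    have : z = t⁻¹ * (t * z * t⁻¹) * t := by group
    rw [this, h4]; group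
  · apply htS
    rw [hS₀]
    calc t * z = (t * z * t⁻¹) * t := by group
      _ = z * t := by rw [h4]

include h2 hr hP hZ hz1 hzz hS₀ hPn in
/-- two elements normalizing `S₀` outside `S₀` conjugate `z` to the same element -/
theorem conj_unique (t t' : S) (ht : ∀ s, s ∈ S₀ ↔ t * s * t⁻¹ ∈ S₀) (htS : t ∉ S₀)
    (ht' : ∀ s, s ∈ S₀ ↔ t' * s * t'⁻¹ ∈ S₀) (htS' : t' ∉ S₀) :
    t * z * t⁻¹ = t' * z * t'⁻¹ := by
  by_contra hne
  obtain ⟨-, hc1, hcent⟩ := pair_data h2 hr P S₀ z hP hZ hz1 hzz hS₀ hPn t ht htS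
  obtain ⟨-, hc2, -⟩ := pair_data h2 hr P S₀ z hP hZ hz1 hzz hS₀ hPn t' ht' htS'
  obtain ⟨h1, h1n⟩ := conj_data P S₀ z hZ hS₀ hPn t ht
  obtain ⟨h1', h1n'⟩ := conj_data P S₀ z hZ hS₀ hPn t' ht'
  have hcard := card_zpowers_two z hz1 hzz
  have hzz1 : (t * z * t⁻¹) * (t * z * t⁻¹) = 1 := by
    calc (t * z * t⁻¹) * (t * z * t⁻¹) = t * (z * z) * t⁻¹ := by group
      _ = 1 := by rw [hzz]; group
  -- the pair `cj t P`, `cj t' P`
  obtain ⟨-, hc3, -⟩ := rel_main h2 hr S₀ (cj t P) (cj t' P) h1 h1' h1n h1n' (not_comm_cj t P hP)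
    (not_comm_cj t' P hP) (by rw [Zc_cj, card_cj, hZ]; exact hcard)
    (by rw [Zc_cj, card_cj, hZ]; exact hcard) (by
      rw [Zc_cj, Zc_cj, hZ, cj_zpowers, cj_zpowers]
      intro h
      have h3 : t' * z * t'⁻¹ ∈ Subgroup.zpowers (t * z * t⁻¹) := h ▸ Subgroup.mem_zpowers _
      rcases mem_zpowers_of_sq _ _ hzz1 h3 with h4 | h4
      · apply hz1
        have : z = t'⁻¹ * (t' * z * t'⁻¹) * t' := by group
        rw [this, h4]; group
      · exact hne h4.symm)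
  -- `cj t' P` centralizes `P ⊔ cj t P`, hence lies in it and is abelian
  have hle : cj t' P ≤ Subgroup.centralizer ((P ⊔ cj t P : Subgroup S) : Set S) := by
    intro x hx
    rw [Subgroup.mem_centralizer_iff]
    intro g hg
    obtain ⟨a, ha, b, hb, rfl⟩ := mem_sup_of_comm P (cj t P) hc1 g hg
    calc a * b * x = a * (b * x) := by group
      _ = a * (x * b) := by rw [hc3 b hb x hx]
      _ = (a * x) * b := by group
      _ = (x * a) * b := by rw [hc2 a ha x hx]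
      _ = _ := by group
  obtain ⟨x, hx, y, hy, hxy⟩ := not_comm_cj t' P hP
  apply hxy
  have hxW : x ∈ P ⊔ cj t P := hcent (hle hx)
  have := (Subgroup.mem_centralizer_iff.mp (hle hy)) x hxW
  exact this

include h2 hr hP hZ hz1 hzz hS₀ hPn in
/-- `S₀` has index at most two in its normalizer -/
theorem inv_mul_mem (x y : S) (hx : ∀ s, s ∈ S₀ ↔ x * s * x⁻¹ ∈ S₀) (hxS : x ∉ S₀)
    (hy : ∀ s, s ∈ S₀ ↔ y * s * y⁻¹ ∈ S₀) (hyS : y ∉ S₀) : x⁻¹ * y ∈ S₀ := by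
  have h := conj_unique h2 hr P S₀ z hP hZ hz1 hzz hS₀ hPn x y hx hxS hy hyS
  rw [hS₀]
  calc x⁻¹ * y * z = x⁻¹ * (y * z * y⁻¹) * y := by group
    _ = x⁻¹ * (x * z * x⁻¹) * y := by rw [h]
    _ = _ := by group

omit [Finite S] in
theorem normalizes_inv (x : S) (hx : ∀ s, s ∈ S₀ ↔ x * s * x⁻¹ ∈ S₀) :
    ∀ s, s ∈ S₀ ↔ x⁻¹ * s * x⁻¹⁻¹ ∈ S₀ := by
  intro s
  rw [hx (x⁻¹ * s * x⁻¹⁻¹)]
  have : x * (x⁻¹ * s * x⁻¹⁻¹) * x⁻¹ = s := by group
  rw [this]

include h2 hr hP hZ hz1 hzz hS₀ hPn in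
theorem mul_mem_of_not_mem (x y : S) (hx : ∀ s, s ∈ S₀ ↔ x * s * x⁻¹ ∈ S₀) (hxS : x ∉ S₀)
    (hy : ∀ s, s ∈ S₀ ↔ y * s * y⁻¹ ∈ S₀) (hyS : y ∉ S₀) : x * y ∈ S₀ := by
  have := inv_mul_mem h2 hr P S₀ z hP hZ hz1 hzz hS₀ hPn x⁻¹ y (normalizes_inv S₀ x hx)
    (fun h => hxS (by simpa using S₀.inv_mem h)) hy hyS
  simpa using this

include h2 hr hP hZ hz1 hzz hS₀ hPn in
/-- the normalizer of `S₀` is the whole group -/
theorem normalizer_eq_top : Subgroup.normalizer (S₀ : Set S) = ⊤ := by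
  by_contra hT
  have : Fact (Nat.Prime 2) := ⟨Nat.prime_two⟩
  have hnil : Group.IsNilpotent S := h2.isNilpotent
  have hNC : NormalizerCondition S := Group.normalizerCondition_of_isNilpotent
  have hS₀T : S₀ ≤ Subgroup.normalizer (S₀ : Set S) := Subgroup.le_normalizer
  have hS₀ne : S₀ ≠ ⊤ := by
    intro h
    apply hT
    rw [eq_top_iff, ← h]
    exact h ▸ hS₀T
  obtain ⟨t₀, ht₀T, ht₀S⟩ := SetLike.exists_of_lt (hNC S₀ (lt_top_iff_ne_top.mpr hS₀ne))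
  obtain ⟨k, hkN, hkT⟩ := SetLike.exists_of_lt (hNC _ (lt_top_iff_ne_top.mpr hT))
  have Tmem : ∀ τ, τ ∈ Subgroup.normalizer (S₀ : Set S) ↔ ∀ s, s ∈ S₀ ↔ τ * s * τ⁻¹ ∈ S₀ :=
    fun τ => Subgroup.mem_normalizer_iff
  have ht₀ := (Tmem t₀).mp ht₀T
  have hk : ∀ τ, τ ∈ Subgroup.normalizer (S₀ : Set S) ↔
      k * τ * k⁻¹ ∈ Subgroup.normalizer (S₀ : Set S) := Subgroup.mem_normalizer_iff.mp hkN
  obtain ⟨z', hz'⟩ : ∃ z' : S, z' = t₀ * z * t₀⁻¹ := ⟨_, rfl⟩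
  obtain ⟨z₁, hz₁⟩ : ∃ z₁ : S, z₁ = k * z * k⁻¹ := ⟨_, rfl⟩
  obtain ⟨hPP', hc, hcent⟩ := pair_data h2 hr P S₀ z hP hZ hz1 hzz hS₀ hPn t₀ ht₀ ht₀S
  obtain ⟨hP'le, hP'n⟩ := conj_data P S₀ z hZ hS₀ hPn t₀ ht₀
  have hPle := P_le P S₀ z hZ hS₀
  have hzZc := z_mem_Zc P z hZ
  have hzP : z ∈ P := ((mem_Zc P z).mp hzZc).1
  have hz'P' : z' ∈ cj t₀ P := hz' ▸ conj_mem_cj t₀ P z hzP
  have hzS₀ : z ∈ S₀ := hPle hzP
  have hz'S₀ : z' ∈ S₀ := hP'le hz'P'
  have hzz'comm : z' * z = z * z' := (hS₀ z').mp hz'S₀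
  have hz'ne1 : z' ≠ 1 := by
    intro h
    apply hz1
    have : z = t₀⁻¹ * (t₀ * z * t₀⁻¹) * t₀ := by group
    rw [this, ← hz', h]; group
  have hz'nez : z' ≠ z := by
    intro h
    apply ht₀S
    rw [hS₀]
    calc t₀ * z = (t₀ * z * t₀⁻¹) * t₀ := by group
      _ = z * t₀ := by rw [← hz', h]
  have hz'z' : z' * z' = 1 := by
    rw [hz']
    calc (t₀ * z * t₀⁻¹) * (t₀ * z * t₀⁻¹) = t₀ * (z * z) * t₀⁻¹ := by group
      _ = 1 := by rw [hzz]; group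
  have hZ' : Zc (cj t₀ P) = Subgroup.zpowers z' := by
    rw [Zc_cj, hZ, cj_zpowers, hz']
  have hzinv : z⁻¹ = z := inv_eq_of_mul_eq_one_left hzz
  have hz'inv : z'⁻¹ = z' := inv_eq_of_mul_eq_one_left hz'z'
  -- conjugation action of the normalizer on `z`, `z'`
  have conjS : ∀ s ∈ S₀, s * z * s⁻¹ = z := by
    intro s hs
    rw [(hS₀ s).mp hs]; group
  have conjT : ∀ τ ∈ Subgroup.normalizer (S₀ : Set S), τ ∉ S₀ → τ * z * τ⁻¹ = z' := by
    intro τ hτ hτS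
    rw [hz']
    exact conj_unique h2 hr P S₀ z hP hZ hz1 hzz hS₀ hPn τ t₀ ((Tmem τ).mp hτ) hτS ht₀ ht₀S
  have conjS' : ∀ s ∈ S₀, s * z' * s⁻¹ = z' := by
    intro s hs
    have h1 : t₀⁻¹ * s * t₀ ∈ S₀ := by
      rw [ht₀]
      have : t₀ * (t₀⁻¹ * s * t₀) * t₀⁻¹ = s := by group
      rw [this]; exact hs
    have h2' := conjS _ h1
    rw [hz']
    calc s * (t₀ * z * t₀⁻¹) * s⁻¹ = t₀ * ((t₀⁻¹ * s * t₀) * z * (t₀⁻¹ * s * t₀)⁻¹) * t₀⁻¹ := by
          group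
      _ = _ := by rw [h2']
  have conjT' : ∀ τ ∈ Subgroup.normalizer (S₀ : Set S), τ ∉ S₀ → τ * z' * τ⁻¹ = z := by
    intro τ hτ hτS
    have h1 := mul_mem_of_not_mem h2 hr P S₀ z hP hZ hz1 hzz hS₀ hPn τ t₀ ((Tmem τ).mp hτ) hτS
      ht₀ ht₀S
    have h2' := conjS _ h1
    rw [hz']
    calc τ * (t₀ * z * t₀⁻¹) * τ⁻¹ = (τ * t₀) * z * (τ * t₀)⁻¹ := by group
      _ = z := h2'
  have F1 : ∀ τ ∈ Subgroup.normalizer (S₀ : Set S), τ * (z * z') * τ⁻¹ = z * z' := by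
    intro τ hτ
    have h1 : τ * (z * z') * τ⁻¹ = (τ * z * τ⁻¹) * (τ * z' * τ⁻¹) := by group
    rw [h1]
    by_cases hτS : τ ∈ S₀
    · rw [conjS τ hτS, conjS' τ hτS]
    · rw [conjT τ hτ hτS, conjT' τ hτ hτS, hzz'comm]
  -- elements centralizing `P ⊔ cj t₀ P`
  have central_cases : ∀ c ∈ Subgroup.centralizer ((P ⊔ cj t₀ P : Subgroup S) : Set S),
      c = 1 ∨ c = z ∨ c = z' ∨ c = z * z' := by
    intro c hc'
    obtain ⟨a, ha, b, hb, hab⟩ := mem_sup_of_comm P (cj t₀ P) hc c (hcent hc')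
    have hcc := Subgroup.mem_centralizer_iff.mp hc'
    have haZ : a ∈ Zc P := by
      rw [mem_Zc]
      refine ⟨ha, fun p hp => ?_⟩
      have h1 := hcc p ((le_sup_left : P ≤ P ⊔ cj t₀ P) hp)
      rw [hab] at h1
      have h3 : p * a * b = a * p * b := by
        calc p * a * b = p * (a * b) := by group
          _ = a * b * p := h1
          _ = a * (b * p) := by group
          _ = a * (p * b) := by rw [hc p hp b hb]
          _ = _ := by group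
      exact mul_right_cancel h3
    have hbZ : b ∈ Zc (cj t₀ P) := by
      rw [mem_Zc]
      refine ⟨hb, fun q hq => ?_⟩
      have h1 := hcc q ((le_sup_right : cj t₀ P ≤ P ⊔ cj t₀ P) hq)
      rw [hab] at h1
      have h3 : a * (q * b) = a * (b * q) := by
        calc a * (q * b) = (a * q) * b := by group
          _ = (q * a) * b := by rw [hc a ha q hq]
          _ = q * (a * b) := by group
          _ = a * b * q := h1
          _ = _ := by group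
      exact mul_left_cancel h3
    rw [hZ] at haZ
    rw [hZ'] at hbZ
    rcases mem_zpowers_of_sq z a hzz haZ with h1 | h1 <;>
      rcases mem_zpowers_of_sq z' b hz'z' hbZ with h2' | h2'
    · left; rw [hab, h1, h2', one_mul]
    · right; right; left; rw [hab, h1, h2', one_mul]
    · right; left; rw [hab, h1, h2', mul_one]
    · right; right; right; rw [hab, h1, h2']
  have hWle : P ⊔ cj t₀ P ≤ Subgroup.normalizer (S₀ : Set S) :=
    (sup_le hPle hP'le).trans hS₀T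
  have F2 : ∀ c ∈ Subgroup.normalizer (S₀ : Set S),
      (∀ τ ∈ Subgroup.normalizer (S₀ : Set S), τ * c = c * τ) → c = 1 ∨ c = z * z' := by
    intro c _ hcc
    have h1 : c ∈ Subgroup.centralizer ((P ⊔ cj t₀ P : Subgroup S) : Set S) := by
      rw [Subgroup.mem_centralizer_iff]
      intro g hg
      exact hcc g (hWle hg)
    rcases central_cases c h1 with h | h | h | h
    · left; exact h
    · exfalso
      apply ht₀S
      rw [hS₀, ← h]
      exact hcc t₀ ht₀T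
    · exfalso
      apply hz'nez
      have h3 := conjT' t₀ ht₀T ht₀S
      have h4 := hcc t₀ ht₀T
      rw [h] at h4
      rw [h4] at h3
      rw [← h3]; group
    · right; exact h
  have hzz'T : z * z' ∈ Subgroup.normalizer (S₀ : Set S) := hS₀T (S₀.mul_mem hzS₀ hz'S₀)
  have hzz'ne : z * z' ≠ 1 := by
    intro h
    apply hz'nez
    have : z' = z⁻¹ := eq_inv_of_mul_eq_one_right h
    rw [this, hzinv]
  have hkinv : ∀ τ ∈ Subgroup.normalizer (S₀ : Set S),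
      k⁻¹ * τ * k ∈ Subgroup.normalizer (S₀ : Set S) := by
    intro τ hτ
    rw [hk]
    have : k * (k⁻¹ * τ * k) * k⁻¹ = τ := by group
    rw [this]; exact hτ
  have F3 : k * (z * z') * k⁻¹ = z * z' := by
    have h1 : k * (z * z') * k⁻¹ ∈ Subgroup.normalizer (S₀ : Set S) := (hk _).mp hzz'T
    have h2' : ∀ τ ∈ Subgroup.normalizer (S₀ : Set S),
        τ * (k * (z * z') * k⁻¹) = (k * (z * z') * k⁻¹) * τ := by
      intro τ hτ
      have h3 := F1 _ (hkinv τ hτ)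
      have h4 : (k⁻¹ * τ * k) * (z * z') = (z * z') * (k⁻¹ * τ * k) := by
        calc (k⁻¹ * τ * k) * (z * z') = ((k⁻¹ * τ * k) * (z * z') * (k⁻¹ * τ * k)⁻¹) *
              (k⁻¹ * τ * k) := by group
          _ = _ := by rw [h3]
      calc τ * (k * (z * z') * k⁻¹) = k * ((k⁻¹ * τ * k) * (z * z')) * k⁻¹ := by group
        _ = k * ((z * z') * (k⁻¹ * τ * k)) * k⁻¹ := by rw [h4]
        _ = _ := by group
    rcases F2 _ h1 h2' with h | h
    · exfalso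
      apply hzz'ne
      have : z * z' = k⁻¹ * (k * (z * z') * k⁻¹) * k := by group
      rw [this, h]; group
    · exact h
  have hz₁T : z₁ ∈ Subgroup.normalizer (S₀ : Set S) := hz₁ ▸ (hk _).mp (hS₀T hzS₀)
  have F4 : ∀ τ ∈ Subgroup.normalizer (S₀ : Set S),
      τ * z₁ * τ⁻¹ = z₁ ∨ τ * z₁ * τ⁻¹ = z₁ * (z * z') := by
    intro τ hτ
    have hσ := hkinv τ hτ
    have h1 : τ * z₁ * τ⁻¹ = k * ((k⁻¹ * τ * k) * z * (k⁻¹ * τ * k)⁻¹) * k⁻¹ := by
      rw [hz₁]; group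
    by_cases hσS : k⁻¹ * τ * k ∈ S₀
    · left
      rw [h1, conjS _ hσS, hz₁]
    · right
      rw [h1, conjT _ hσ hσS, ← F3, hz₁]
      have : z' = z * (z * z') := by rw [← mul_assoc, hzz, one_mul]
      conv_lhs => rw [this]
      group
  -- `z₁ ∈ S₀`
  have hz₁S₀ : z₁ ∈ S₀ := by
    by_contra hz₁S
    have hz₁N := (Tmem z₁).mp hz₁T
    obtain ⟨hPP₁, -, -⟩ := pair_data h2 hr P S₀ z hP hZ hz1 hzz hS₀ hPn z₁ hz₁N hz₁S
    have hp1 : ∀ p ∈ P, p * z₁ = z₁ * p → p = 1 := by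
      intro p hp hpz
      have h1 : p ∈ cj z₁ P := by
        have : p = z₁ * p * z₁⁻¹ := by rw [← hpz]; group
        rw [this]; exact conj_mem_cj z₁ P p hp
      have : p ∈ P ⊓ cj z₁ P := ⟨hp, h1⟩
      rwa [hPP₁, Subgroup.mem_bot] at this
    have idx2 : ∀ x ∈ Subgroup.normalizer (S₀ : Set S), ∀ y ∈ Subgroup.normalizer (S₀ : Set S),
        x * z₁ ≠ z₁ * x → y * z₁ ≠ z₁ * y → (x⁻¹ * y) * z₁ = z₁ * (x⁻¹ * y) := by
      intro x hx y hy hxz hyz
      have hx' := hkinv x hx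
      have hy' := hkinv y hy
      have hxS : k⁻¹ * x * k ∉ S₀ := by
        intro h
        apply hxz
        have h1 := (hS₀ _).mp h
        rw [hz₁]
        calc x * (k * z * k⁻¹) = k * ((k⁻¹ * x * k) * z) * k⁻¹ := by group
          _ = k * (z * (k⁻¹ * x * k)) * k⁻¹ := by rw [h1]
          _ = _ := by group
      have hyS : k⁻¹ * y * k ∉ S₀ := by
        intro h
        apply hyz
        have h1 := (hS₀ _).mp h
        rw [hz₁]
        calc y * (k * z * k⁻¹) = k * ((k⁻¹ * y * k) * z) * k⁻¹ := by group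
          _ = k * (z * (k⁻¹ * y * k)) * k⁻¹ := by rw [h1]
          _ = _ := by group
      have h3 := inv_mul_mem h2 hr P S₀ z hP hZ hz1 hzz hS₀ hPn _ _ ((Tmem _).mp hx') hxS
        ((Tmem _).mp hy') hyS
      have h4 := (hS₀ _).mp h3
      rw [hz₁]
      calc x⁻¹ * y * (k * z * k⁻¹) = k * (((k⁻¹ * x * k)⁻¹ * (k⁻¹ * y * k)) * z) * k⁻¹ := by group
        _ = k * (z * ((k⁻¹ * x * k)⁻¹ * (k⁻¹ * y * k))) * k⁻¹ := by rw [h4]
        _ = _ := by group
    obtain ⟨x, hx, y, hy, hxy⟩ := hP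
    have hx1 : x ≠ 1 := fun h => hxy (by rw [h, one_mul, mul_one])
    have hy1 : y ≠ 1 := fun h => hxy (by rw [h, one_mul, mul_one])
    have h5 := idx2 x (hS₀T (hPle hx)) y (hS₀T (hPle hy)) (fun h => hx1 (hp1 x hx h))
      (fun h => hy1 (hp1 y hy h))
    have h6 := hp1 _ (P.mul_mem (P.inv_mem hx) hy) h5
    have h7 : y = x := by
      calc y = x * (x⁻¹ * y) := by group
        _ = x := by rw [h6, mul_one]
    exact hxy (by rw [h7])
  -- `z₁` centralizes `P ⊔ cj t₀ P`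
  have hz₁inv : z₁⁻¹ ∈ S₀ := S₀.inv_mem hz₁S₀
  have hz₁P : ∀ p ∈ P, p * z₁ = z₁ * p := by
    intro p hp
    rcases F4 p (hS₀T (hPle hp)) with h | h
    · calc p * z₁ = (p * z₁ * p⁻¹) * p := by group
        _ = z₁ * p := by rw [h]
    · exfalso
      have h1 : z * z' = (z₁⁻¹ * p * z₁⁻¹⁻¹) * p⁻¹ := by
        calc z * z' = z₁⁻¹ * (z₁ * (z * z')) := by group
          _ = z₁⁻¹ * (p * z₁ * p⁻¹) := by rw [h]
          _ = _ := by group
      have h3 : z * z' ∈ P := h1 ▸ P.mul_mem (hPn _ hz₁inv p hp) (P.inv_mem hp)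
      have h4 : z' ∈ P := by
        have : z' = z⁻¹ * (z * z') := by group
        rw [this]; exact P.mul_mem (P.inv_mem hzP) h3
      have : z' ∈ P ⊓ cj t₀ P := ⟨h4, hz'P'⟩
      rw [hPP', Subgroup.mem_bot] at this
      exact hz'ne1 this
  have hz₁P' : ∀ q ∈ cj t₀ P, q * z₁ = z₁ * q := by
    intro q hq
    rcases F4 q (hS₀T (hP'le hq)) with h | h
    · calc q * z₁ = (q * z₁ * q⁻¹) * q := by group
        _ = z₁ * q := by rw [h]
    · exfalso
      have h1 : z * z' = (z₁⁻¹ * q * z₁⁻¹⁻¹) * q⁻¹ := by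
        calc z * z' = z₁⁻¹ * (z₁ * (z * z')) := by group
          _ = z₁⁻¹ * (q * z₁ * q⁻¹) := by rw [h]
          _ = _ := by group
      have h3 : z * z' ∈ cj t₀ P :=
        h1 ▸ Subgroup.mul_mem _ (hP'n _ hz₁inv q hq) (Subgroup.inv_mem _ hq)
      have h4 : z ∈ cj t₀ P := by
        have : z = (z * z') * z'⁻¹ := by group
        rw [this]; exact Subgroup.mul_mem _ h3 (Subgroup.inv_mem _ hz'P')
      have : z ∈ P ⊓ cj t₀ P := ⟨hzP, h4⟩
      rw [hPP', Subgroup.mem_bot] at this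
      exact hz1 this
  have hz₁cent : z₁ ∈ Subgroup.centralizer ((P ⊔ cj t₀ P : Subgroup S) : Set S) := by
    rw [Subgroup.mem_centralizer_iff]
    intro g hg
    obtain ⟨a, ha, b, hb, rfl⟩ := mem_sup_of_comm P (cj t₀ P) hc g hg
    calc a * b * z₁ = a * (b * z₁) := by group
      _ = a * (z₁ * b) := by rw [hz₁P' b hb]
      _ = (a * z₁) * b := by group
      _ = (z₁ * a) * b := by rw [hz₁P a ha]
      _ = _ := by group
  rcases central_cases z₁ hz₁cent with h | h | h | h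
  · apply hz1
    have : z = k⁻¹ * (k * z * k⁻¹) * k := by group
    rw [this, ← hz₁, h]; group
  · apply hkT
    apply hS₀T
    rw [hS₀]
    calc k * z = (k * z * k⁻¹) * k := by group
      _ = z * k := by rw [← hz₁, h]
  · apply hkT
    have h1 : t₀⁻¹ * k ∈ S₀ := by
      rw [hS₀]
      calc t₀⁻¹ * k * z = t₀⁻¹ * (k * z * k⁻¹) * k := by group
        _ = t₀⁻¹ * (t₀ * z * t₀⁻¹) * k := by rw [← hz₁, h, hz']
        _ = _ := by group
    have : k = t₀ * (t₀⁻¹ * k) := by group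
    rw [this]
    exact Subgroup.mul_mem _ ht₀T (hS₀T h1)
  · apply hz'ne1
    have h1 : k * z * k⁻¹ = k * (z * z') * k⁻¹ := by rw [← hz₁, h, F3]
    have h3 : z = z * z' := by
      have := mul_left_cancel (mul_right_cancel h1)
      exact this
    have : z' = z⁻¹ * (z * z') := by group
    rw [this, ← h3]; group

end config

/-- **Main theorem** -/
theorem main (h2 : IsPGroup 2 S) (hr : Cfsg.SectionalPRankLE 2 4 S)
    (P : Subgroup S) (hP : ¬ IsMulCommutative ↥P) (hZP : Nat.card (Subgroup.center ↥P) = 2)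
    (S₀ : Subgroup S)
    (hS₀ : S₀ = Subgroup.centralizer (((Subgroup.center ↥P).map P.subtype : Subgroup S) : Set S))
    (hPn : ∀ s ∈ S₀, ∀ x ∈ P, s * x * s⁻¹ ∈ P) :
    S₀ = ⊤ ∨ (Cfsg.SectionalPRankLE 2 2 ↥P ∧ S₀.index = 2) := by
  by_cases hS₀top : S₀ = ⊤
  · left; exact hS₀top
  right
  have hZcard : Nat.card (Zc P) = 2 := (card_center_eq P).symm.trans hZP
  have hZne : Zc P ≠ ⊥ := by
    intro h
    rw [h, Subgroup.card_bot] at hZcard
    omega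
  obtain ⟨⟨z, hzZ⟩, hz1'⟩ := (Subgroup.ne_bot_iff_exists_ne_one).mp hZne
  have hz1 : z ≠ 1 := fun h => hz1' (Subtype.ext h)
  have hZ : Zc P = Subgroup.zpowers z := eq_zpowers_of_card_two _ hZcard z hzZ hz1
  have hzz : z * z = 1 := by
    have h1 : orderOf z = 2 := by rw [← Nat.card_zpowers, ← hZ, hZcard]
    rw [← pow_two, ← h1]
    exact pow_orderOf_eq_one z
  have hS₀' : ∀ s, s ∈ S₀ ↔ s * z = z * s := by
    intro s
    rw [hS₀, ← Zc_eq_map, hZ, Subgroup.mem_centralizer_iff]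
    constructor
    · intro h
      exact (h z (Subgroup.mem_zpowers z)).symm
    · intro h g hg
      obtain ⟨i, rfl⟩ := Subgroup.mem_zpowers_iff.mp hg
      exact ((Commute.zpow_left (h.symm : Commute z s) i)).eq
  have hPex := exists_not_comm P hP
  have hN := normalizer_eq_top h2 hr P S₀ z hPex hZ hz1 hzz hS₀' hPn
  have hnorm : ∀ t : S, ∀ s, s ∈ S₀ ↔ t * s * t⁻¹ ∈ S₀ := by
    intro t
    have : t ∈ Subgroup.normalizer (S₀ : Set S) := hN ▸ Subgroup.mem_top t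
    exact Subgroup.mem_normalizer_iff.mp this
  obtain ⟨t₀, ht₀S⟩ : ∃ t₀ : S, t₀ ∉ S₀ := by
    by_contra hcon
    push Not at hcon
    exact hS₀top ((Subgroup.eq_top_iff' _).mpr hcon)
  obtain ⟨hPP', hc, -⟩ := pair_data h2 hr P S₀ z hPex hZ hz1 hzz hS₀' hPn t₀ (hnorm t₀) ht₀S
  refine ⟨rank_le_two h2 hr t₀ P hPP' hc, ?_⟩
  rw [Subgroup.index_eq_two_iff']
  refine ⟨t₀⁻¹, fun b => ?_⟩
  by_cases hb : b ∈ S₀
  · right
    refine ⟨hb, fun h => ?_⟩
    apply ht₀S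
    have : t₀ = b * (t₀⁻¹ * b)⁻¹ := by group
    rw [this]
    exact S₀.mul_mem hb (S₀.inv_mem h)
  · left
    exact ⟨inv_mul_mem h2 hr P S₀ z hPex hZ hz1 hzz hS₀' hPn t₀ b (hnorm t₀) ht₀S (hnorm b) hb, hb⟩

end Cfsg.Agent.H2.SecFourB
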