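import Cfsg.Agent.H2.SidkiDefs
import Cfsg.Agent.H2.Components
import Cfsg.Agent.H9.Cores
import Cfsg.Agent.Lib.Helper7.Sidki

/-!
# S3048 pieces (P0), (P6): the working context from the hypotheses; minimal normal subgroups
-/

set_option autoImplicit false
set_option linter.style.haveILetI false

namespace Cfsg.Agent.H2.Sidki

universe u
variable {G : Type u} [Group G] [Finite G]

/-- (P6) existence of a minimal normal subgroup. -/
theorem exists_minimal_normal (h : (⊤ : Subgroup G) ≠ ⊥) :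
    ∃ N₁ : Subgroup G, N₁.Normal ∧ N₁ ≠ ⊥ ∧
      ∀ N' : Subgroup G, N'.Normal → N' ≤ N₁ → N' = ⊥ ∨ N' = N₁ := by
  classical
  have hex : ∃ n : ℕ, ∃ N : Subgroup G, N.Normal ∧ N ≠ ⊥ ∧ Nat.card N = n :=
    ⟨_, ⊤, inferInstance, h, rfl⟩
  obtain ⟨N, hN, hN1, hNc⟩ := Nat.find_spec hex
  refine ⟨N, hN, hN1, fun N' hN' hle => ?_⟩
  by_cases h1 : N' = ⊥
  · exact Or.inl h1
  · right
    have h2 : Nat.find hex ≤ Nat.card N' := Nat.find_min' hex ⟨N', hN', h1, rfl⟩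
    exact Subgroup.eq_of_le_of_card_ge hle (hNc ▸ h2)

theorem ctx_sub (V : Subgroup G) (hV : Cfsg.IsElementaryAbelian 2 V)
    (hminG : ∀ (H : Type u) [Group H] [Finite H] (W : Subgroup H), Nat.card H < Nat.card G →
      Cfsg.IsElementaryAbelian 2 W → W ≠ ⊥ → Cfsg.IsSidkiPair W → W ⊓ Cfsg.pCore 2 H ≠ ⊥)
    (H X : Subgroup G) (hH : H ≠ ⊤) (hXH : X ≤ H) (hXV : X ≤ V) (hX1 : X ≠ ⊥)
    (hSX : SidkiIn X H) :
    ∃ D : Subgroup G, D ≤ H ∧ IsPGroup 2 D ∧ (∀ h ∈ H, ∀ d ∈ D, h * d * h⁻¹ ∈ D) ∧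
        ∃ x ∈ X, x ≠ 1 ∧ x ∈ D := by
  classical
  obtain ⟨hVc, hV2⟩ := hV
  have hcard : Nat.card ↥H < Nat.card G :=
    Cfsg.Agent.H2.card_lt_card_of_lt_top (lt_top_iff_ne_top.2 hH)
  have hW : Cfsg.IsElementaryAbelian 2 (X.subgroupOf H) := by
    refine ⟨⟨⟨fun a b => ?_⟩⟩, fun a ha => ?_⟩
    · apply Subtype.ext
      apply Subtype.ext
      have := hVc.is_comm.comm ⟨a.1.1, hXV a.2⟩ ⟨b.1.1, hXV b.2⟩
      show a.1.1 * b.1.1 = b.1.1 * a.1.1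
      exact congrArg Subtype.val this
    · apply Subtype.ext
      have := hV2 a.1 (hXV (Subgroup.mem_subgroupOf.1 ha))
      simpa using this
  have hW1 : X.subgroupOf H ≠ ⊥ := by
    obtain ⟨x, hx1⟩ := (Subgroup.ne_bot_iff_exists_ne_one.1 hX1)
    intro hb
    have : (⟨x.1, hXH x.2⟩ : ↥H) ∈ X.subgroupOf H := Subgroup.mem_subgroupOf.2 x.2
    rw [hb, Subgroup.mem_bot] at this
    apply hx1
    apply Subtype.ext
    exact congrArg (fun t : ↥H => (t : G)) this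
  have hWS : Cfsg.IsSidkiPair (X.subgroupOf H) := by
    intro h v hv hodd hinv
    have hodd' : Odd (orderOf h.1) := by rwa [Subgroup.orderOf_coe]
    obtain ⟨w, hw, hw1, hwh⟩ := hSX h.1 h.2 v.1 (Subgroup.mem_subgroupOf.1 hv) hodd'
      (by simpa using congrArg Subtype.val hinv)
    refine ⟨⟨w, hXH hw⟩, Subgroup.mem_subgroupOf.2 hw, ?_, Subtype.ext hwh⟩
    intro e
    exact hw1 (congrArg Subtype.val e)
  have hne := hminG ↥H (X.subgroupOf H) hcard hW hW1 hWS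
  obtain ⟨z, hz1⟩ := Subgroup.ne_bot_iff_exists_ne_one.1 hne
  obtain ⟨hzX, hzP⟩ := Subgroup.mem_inf.1 z.2
  haveI hPn : (Cfsg.pCore 2 ↥H).Normal := Cfsg.Agent.H9.pCore_normal 2 ↥H
  refine ⟨(Cfsg.pCore 2 ↥H).map H.subtype, Subgroup.map_subtype_le _,
    (Cfsg.Agent.H9.pCore_isPGroup 2 ↥H).map _, ?_, z.1.1, Subgroup.mem_subgroupOf.1 hzX, ?_,
    ⟨z.1, hzP, rfl⟩⟩
  · rintro h hh _ ⟨d, hd, rfl⟩
    exact ⟨⟨h, hh⟩ * d * ⟨h, hh⟩⁻¹, hPn.conj_mem d hd ⟨h, hh⟩, rfl⟩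
  · intro e
    apply hz1
    apply Subtype.ext
    apply Subtype.ext
    exact e

theorem ctx_quot (V : Subgroup G) (hV : Cfsg.IsElementaryAbelian 2 V) (hS : Cfsg.IsSidkiPair V)
    (hminG : ∀ (H : Type u) [Group H] [Finite H] (W : Subgroup H), Nat.card H < Nat.card G →
      Cfsg.IsElementaryAbelian 2 W → W ≠ ⊥ → Cfsg.IsSidkiPair W → W ⊓ Cfsg.pCore 2 H ≠ ⊥)
    (hV1 : V ≠ ⊥) (K : Subgroup G) (hK : K.Normal) (hK1 : K ≠ ⊥) (hVK : V ⊓ K = ⊥) :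
    ∃ R : Subgroup G, R.Normal ∧ K ≤ R ∧ (∀ r ∈ R, ∃ k : ℕ, r ^ (2 ^ k) ∈ K) ∧
        ∃ v ∈ V, v ≠ 1 ∧ v ∈ R := by
  classical
  haveI := hK
  have hcard : Nat.card (G ⧸ K) < Nat.card G := by
    have h1 := Subgroup.card_eq_card_quotient_mul_card_subgroup K
    have h2 : 1 < Nat.card K := (Subgroup.one_lt_card_iff_ne_bot K).2 hK1
    have h3 : 0 < Nat.card (G ⧸ K) := Nat.card_pos
    rw [h1]
    nlinarith
  have hW : Cfsg.IsElementaryAbelian 2 (V.map (QuotientGroup.mk' K)) := by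
    refine ⟨⟨⟨fun a b => ?_⟩⟩, fun a ha => ?_⟩
    · obtain ⟨a, ha⟩ := a
      obtain ⟨b, hb⟩ := b
      obtain ⟨x, hx, rfl⟩ := ha
      obtain ⟨y, hy, rfl⟩ := hb
      apply Subtype.ext
      have := congrArg Subtype.val (hV.1.is_comm.comm ⟨x, hx⟩ ⟨y, hy⟩)
      simp only [Subgroup.coe_mul] at this ⊢
      rw [← map_mul, ← map_mul, this]
    · obtain ⟨x, hx, rfl⟩ := ha
      rw [← map_pow, hV.2 x hx, map_one]
  have hW1 : V.map (QuotientGroup.mk' K) ≠ ⊥ := by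
    obtain ⟨x, hx1⟩ := (Subgroup.ne_bot_iff_exists_ne_one.1 hV1)
    intro hb
    have h1 : QuotientGroup.mk' K x.1 ∈ V.map (QuotientGroup.mk' K) := ⟨x.1, x.2, rfl⟩
    rw [hb, Subgroup.mem_bot] at h1
    have h2 : x.1 ∈ K := (QuotientGroup.eq_one_iff x.1).1 h1
    have h3 : x.1 ∈ V ⊓ K := ⟨x.2, h2⟩
    rw [hVK, Subgroup.mem_bot] at h3
    exact hx1 (Subtype.ext h3)
  have hWS := Cfsg.Agent.Lib.Helper7.sidkiPair_quotient V K hV hS hVK
  have hne := hminG (G ⧸ K) (V.map (QuotientGroup.mk' K)) hcard hW hW1 hWS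
  obtain ⟨z, hz1⟩ := Subgroup.ne_bot_iff_exists_ne_one.1 hne
  obtain ⟨hzV, hzP⟩ := Subgroup.mem_inf.1 z.2
  obtain ⟨v, hv, hvz⟩ := hzV
  haveI hPn : (Cfsg.pCore 2 (G ⧸ K)).Normal := Cfsg.Agent.H9.pCore_normal 2 (G ⧸ K)
  refine ⟨(Cfsg.pCore 2 (G ⧸ K)).comap (QuotientGroup.mk' K), hPn.comap _, ?_, ?_, v, hv, ?_, ?_⟩
  · intro k hk
    rw [Subgroup.mem_comap]
    have : QuotientGroup.mk' K k = 1 := (QuotientGroup.eq_one_iff k).2 hk
    rw [this]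
    exact Subgroup.one_mem _
  · intro r hr
    rw [Subgroup.mem_comap] at hr
    obtain ⟨k, hk⟩ := (Cfsg.Agent.H9.pCore_isPGroup 2 (G ⧸ K)) ⟨_, hr⟩
    refine ⟨k, ?_⟩
    have h1 : (QuotientGroup.mk' K r) ^ (2 ^ k) = 1 := by
      have := congrArg Subtype.val hk
      simpa using this
    rw [← map_pow] at h1
    exact (QuotientGroup.eq_one_iff _).1 h1
  · intro e
    apply hz1
    apply Subtype.ext
    rw [← hvz, e, map_one]
    rfl
  · rw [Subgroup.mem_comap, hvz]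
    exact hzP

/-- (P0) the hypotheses of S3048 give the working context. -/
theorem ctx_of_hyps (V : Subgroup G) (hV : Cfsg.IsElementaryAbelian 2 V) (hV1 : V ≠ ⊥)
    (hS : Cfsg.IsSidkiPair V) (hVO : V ⊓ Cfsg.pCore 2 G = ⊥)
    (hminG : ∀ (H : Type u) [Group H] [Finite H] (W : Subgroup H), Nat.card H < Nat.card G →
      Cfsg.IsElementaryAbelian 2 W → W ≠ ⊥ → Cfsg.IsSidkiPair W → W ⊓ Cfsg.pCore 2 H ≠ ⊥)
    (hminV : ∀ W : Subgroup G, Nat.card W < Nat.card V → Cfsg.IsElementaryAbelian 2 W → W ≠ ⊥ →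
      Cfsg.IsSidkiPair W → W ⊓ Cfsg.pCore 2 G ≠ ⊥) : Ctx V := by
  classical
  have hcomm : ∀ a ∈ V, ∀ b ∈ V, a * b = b * a := fun a ha b hb =>
    congrArg Subtype.val (hV.1.is_comm.comm ⟨a, ha⟩ ⟨b, hb⟩)
  have hsq : ∀ a ∈ V, a * a = 1 := fun a ha => by rw [← pow_two]; exact hV.2 a ha
  have hquot := ctx_quot V hV hS hminG hV1
  have ho2 : Cfsg.pCore 2 G = ⊥ := by
    by_contra hne
    obtain ⟨R, hRn, hKR, hRK, v, hv, hv1, hvR⟩ :=
      hquot (Cfsg.pCore 2 G) (Cfsg.Agent.H9.pCore_normal 2 G) hne hVO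
    have hR2 : IsPGroup 2 R := by
      intro r
      obtain ⟨k, hk⟩ := hRK r.1 r.2
      obtain ⟨j, hj⟩ := (Cfsg.Agent.H9.pCore_isPGroup 2 G) ⟨_, hk⟩
      refine ⟨k + j, ?_⟩
      apply Subtype.ext
      have := congrArg Subtype.val hj
      simp only [Subgroup.coe_pow, Subgroup.coe_one] at this ⊢
      rw [pow_add, pow_mul]
      exact this
    have hle : R ≤ Cfsg.pCore 2 G := by
      haveI := hRn
      exact Cfsg.Agent.H9.le_pCore R hR2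
    have h3 : v ∈ V ⊓ Cfsg.pCore 2 G := ⟨hv, hle hvR⟩
    rw [hVO, Subgroup.mem_bot] at h3
    exact hv1 h3
  refine ⟨hcomm, hsq, hV1, hS, ho2, ctx_sub V hV hminG, hquot, ?_⟩
  intro W hWV hWne hW1 hWS
  have hcard : Nat.card W < Nat.card V := by
    refine lt_of_le_of_ne (Subgroup.card_le_of_le hWV) ?_
    intro e
    exact hWne (Subgroup.eq_of_le_of_card_ge hWV e.ge)
  have hWe : Cfsg.IsElementaryAbelian 2 W := by
    refine ⟨⟨⟨fun a b => ?_⟩⟩, fun a ha => hV.2 a (hWV ha)⟩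
    apply Subtype.ext
    exact hcomm a.1 (hWV a.2) b.1 (hWV b.2)
  have := hminV W hcard hWe hW1 hWS
  rw [ho2] at this
  exact this (inf_bot_eq _)

end Cfsg.Agent.H2.Sidki
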