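import Mathlib
import Cfsg.Prelude.Def_Solvable
import Cfsg.Prelude.Def_SubgroupEmbedding
import Cfsg.Prelude.Def_Transfer
import Cfsg.Prelude.Def_Local

/-!
# Minimal counterexample to the Sidki pair problem: working context (S3048)
-/

set_option autoImplicit false

namespace Cfsg.Agent.H2.Sidki

universe u
variable {G : Type u} [Group G]

/-- `X` satisfies the Sidki condition with respect to the elements of the subgroup `H`. -/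
def SidkiIn (X H : Subgroup G) : Prop :=
  ∀ h ∈ H, ∀ v ∈ X, Odd (orderOf h) → v * h * v⁻¹ = h⁻¹ → ∃ w ∈ X, w ≠ 1 ∧ w * h = h * w

/-- The hypotheses of the minimal counterexample, in working (element-wise, single-type) form. -/
structure Ctx (V : Subgroup G) : Prop where
  comm : ∀ a ∈ V, ∀ b ∈ V, a * b = b * a
  sq : ∀ a ∈ V, a * a = 1
  ne : V ≠ ⊥
  sidki : Cfsg.IsSidkiPair V
  o2 : Cfsg.pCore 2 G = ⊥
  sub : ∀ H X : Subgroup G, H ≠ ⊤ → X ≤ H → X ≤ V → X ≠ ⊥ → SidkiIn X H →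
      ∃ D : Subgroup G, D ≤ H ∧ IsPGroup 2 D ∧ (∀ h ∈ H, ∀ d ∈ D, h * d * h⁻¹ ∈ D) ∧
        ∃ x ∈ X, x ≠ 1 ∧ x ∈ D
  quot : ∀ K : Subgroup G, K.Normal → K ≠ ⊥ → V ⊓ K = ⊥ →
      ∃ R : Subgroup G, R.Normal ∧ K ≤ R ∧ (∀ r ∈ R, ∃ k : ℕ, r ^ (2 ^ k) ∈ K) ∧
        ∃ v ∈ V, v ≠ 1 ∧ v ∈ R
  small : ∀ W : Subgroup G, W ≤ V → W ≠ V → W ≠ ⊥ → Cfsg.IsSidkiPair W → False

end Cfsg.Agent.H2.Sidki
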