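import Cfsg.Agent.H2.SidkiDefs
import Cfsg.Agent.H1.Subnormalizer

/-!
# S3048 piece (P1): the centralizing trick (T')
-/

set_option autoImplicit false
set_option linter.style.haveILetI false

namespace Cfsg.Agent.H2.Sidki

universe u
variable {G : Type u} [Group G] [Finite G] {V : Subgroup G}

/-- (P1) trick (T'). -/
theorem Ctx.exists_centralizing (c : Ctx V) (Y X : Subgroup G) (hY : Y.IsSubnormal) (hXV : X ≤ V)
    (hX1 : X ≠ ⊥) (hXY : X ≤ Subgroup.normalizer (Y : Set G)) (hne : Y ⊔ X ≠ ⊤)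
    (hS : SidkiIn X (Y ⊔ X)) : ∃ x ∈ X, x ≠ 1 ∧ ∀ y ∈ Y, x * y = y * x := by
  obtain ⟨D, hDH, hD2, hDn, x, hxX, hx1, hxD⟩ := c.sub (Y ⊔ X) X hne le_sup_right hXV hX1 hS
  refine ⟨x, hxX, hx1, fun y hy => ?_⟩
  haveI : Fact (Nat.Prime 2) := ⟨Nat.prime_two⟩
  have hsub : (D ⊓ Y).IsSubnormal := by
    refine Subgroup.IsSubnormal.step (D ⊓ Y) Y inf_le_right hY ?_
    constructor
    intro n hn g
    rw [Subgroup.mem_subgroupOf] at hn ⊢
    refine ⟨hDn g.1 (Subgroup.mem_sup_left g.2) n.1 hn.1, ?_⟩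
    exact Y.mul_mem (Y.mul_mem g.2 hn.2) (Y.inv_mem g.2)
  have hbot : D ⊓ Y = ⊥ := by
    have := Cfsg.Agent.H1.le_pCore_of_isSubnormal hsub (hD2.to_le inf_le_left)
    rw [c.o2] at this
    exact le_bot_iff.1 this
  have hmem : x * y * x⁻¹ * y⁻¹ ∈ D ⊓ Y := by
    constructor
    · have h1 : y * x⁻¹ * y⁻¹ ∈ D := hDn y (Subgroup.mem_sup_left hy) x⁻¹ (D.inv_mem hxD)
      have : x * y * x⁻¹ * y⁻¹ = x * (y * x⁻¹ * y⁻¹) := by group
      rw [this]; exact D.mul_mem hxD h1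
    · have h1 : x * y * x⁻¹ ∈ Y := ((Subgroup.mem_normalizer_iff.1 (hXY hxX)) y).1 hy
      exact Y.mul_mem h1 (Y.inv_mem hy)
  rw [hbot, Subgroup.mem_bot] at hmem
  calc x * y = (x * y * x⁻¹ * y⁻¹) * (y * x) := by group
    _ = y * x := by rw [hmem, one_mul]

end Cfsg.Agent.H2.Sidki
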