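import Mathlib

/-!
# Subgroups generated by small conjugacy classes (Mann, Isaacs)

Let `A` be a self-centralizing normal abelian subgroup of the finite group `G`, `m` the smallest
non-central class size.  If `x` has class size `m` then `[A, x] ≤ Z(G)`; hence the subgroup generated
by the elements of class size `1` or `m` has class at most three.  (author: helper2)
-/

set_option autoImplicit false

namespace Cfsg.Agent.H2.SmallClasses

variable {G : Type*} [Group G] [Finite G]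

/-- **Key lemma**: if `x` has the smallest non-central class size then `[A, x]` is central. -/
theorem comm_mem_center (A : Subgroup G) [hAn : A.Normal] (hA : ∀ a ∈ A, ∀ b ∈ A, a * b = b * a)
    (m : ℕ)
    (hmin : ∀ y : G, 1 < (Subgroup.centralizer ({y} : Set G)).index →
      m ≤ (Subgroup.centralizer ({y} : Set G)).index)
    (x : G) (hx : (Subgroup.centralizer ({x} : Set G)).index = m) (a₀ : G) (ha₀ : a₀ ∈ A) :
    a₀ * x * a₀⁻¹ * x⁻¹ ∈ Subgroup.center G := by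
  obtain ⟨g, hg⟩ : ∃ g : G, g = a₀ * x * a₀⁻¹ * x⁻¹ := ⟨_, rfl⟩
  rw [← hg]
  by_cases hg1 : g = 1
  · rw [hg1]; exact Subgroup.one_mem _
  obtain ⟨C, hC⟩ : ∃ C : Subgroup G, C = Subgroup.centralizer ({x} : Set G) := ⟨_, rfl⟩
  obtain ⟨Cg, hCg⟩ : ∃ Cg : Subgroup G, Cg = Subgroup.centralizer ({g} : Set G) := ⟨_, rfl⟩
  have memC : ∀ c, c ∈ C ↔ c * x = x * c := by
    intro c; rw [hC, Subgroup.mem_centralizer_singleton_iff]
  have memCg : ∀ c, c ∈ Cg ↔ c * g = g * c := by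
    intro c; rw [hCg, Subgroup.mem_centralizer_singleton_iff]
  rw [← hC] at hx
  have hgA : g ∈ A := by
    rw [hg]
    have : a₀ * x * a₀⁻¹ * x⁻¹ = a₀ * (x * a₀⁻¹ * x⁻¹) := by group
    rw [this]
    exact A.mul_mem ha₀ (hAn.conj_mem _ (A.inv_mem ha₀) x)
  have hACg : A ≤ Cg := fun b hb => (memCg b).mpr (hA b hb g hgA)
  -- `ψ`
  have hψ : ∀ a b : G, a * x * a⁻¹ * x⁻¹ = b * x * b⁻¹ * x⁻¹ ↔ a⁻¹ * b ∈ C := by
    intro a b
    rw [memC]
    constructor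
    · intro h
      have h1 : a * x * a⁻¹ = b * x * b⁻¹ := mul_right_cancel h
      calc a⁻¹ * b * x = a⁻¹ * (b * x * b⁻¹) * b := by group
        _ = a⁻¹ * (a * x * a⁻¹) * b := by rw [h1]
        _ = _ := by group
    · intro h
      have h1 : b * x * b⁻¹ = a * x * a⁻¹ := by
        calc b * x * b⁻¹ = a * ((a⁻¹ * b) * x) * b⁻¹ := by group
          _ = a * (x * (a⁻¹ * b)) * b⁻¹ := by rw [h]
          _ = _ := by group
      rw [h1]
  obtain ⟨D, hD⟩ : ∃ D : Subgroup G, D = Cg ⊓ C := ⟨_, rfl⟩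
  have memD : ∀ c, c ∈ D ↔ c ∈ Cg ∧ c ∈ C := by
    intro c; rw [hD]; exact Subgroup.mem_inf
  have hDC : D ≤ C := hD ▸ inf_le_right
  have hDCg : D ≤ Cg := hD ▸ inf_le_left
  -- the two maps
  obtain ⟨f, hf⟩ : ∃ f : (C ⧸ D.subgroupOf C) → G, f = fun q => (q.out : G) * g * (q.out : G)⁻¹ :=
    ⟨_, rfl⟩
  obtain ⟨Ψ, hΨ⟩ : ∃ Ψ : (A ⧸ C.subgroupOf A) → G,
      Ψ = fun q => (q.out : G) * x * (q.out : G)⁻¹ * x⁻¹ := ⟨_, rfl⟩
  have hfinj : Function.Injective f := by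
    intro q₁ q₂ h
    rw [hf] at h
    simp only at h
    rw [← QuotientGroup.out_eq' q₁, ← QuotientGroup.out_eq' q₂, QuotientGroup.eq,
      Subgroup.mem_subgroupOf, memD]
    refine ⟨?_, C.mul_mem (C.inv_mem q₁.out.2) q₂.out.2⟩
    rw [Subgroup.coe_mul, Subgroup.coe_inv, memCg]
    calc (q₁.out : G)⁻¹ * (q₂.out : G) * g
        = (q₁.out : G)⁻¹ * ((q₂.out : G) * g * (q₂.out : G)⁻¹) * (q₂.out : G) := by group
      _ = (q₁.out : G)⁻¹ * ((q₁.out : G) * g * (q₁.out : G)⁻¹) * (q₂.out : G) := by rw [h]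
      _ = _ := by group
  have hΨmem : ∀ a ∈ A, a * x * a⁻¹ * x⁻¹ ∈ Set.range Ψ := by
    intro a ha
    refine ⟨QuotientGroup.mk (⟨a, ha⟩ : A), ?_⟩
    rw [hΨ]
    simp only
    rw [hψ]
    have h1 := QuotientGroup.out_eq' (QuotientGroup.mk (⟨a, ha⟩ : A) : A ⧸ C.subgroupOf A)
    rw [QuotientGroup.eq, Subgroup.mem_subgroupOf] at h1
    simpa using h1
  have hsub : Set.range f ⊂ Set.range Ψ := by
    constructor
    · rintro _ ⟨q, rfl⟩
      rw [hf]
      simp only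
      have hc : (q.out : G) ∈ C := q.out.2
      have hcx := (memC _).mp hc
      have h1 : (q.out : G) * g * (q.out : G)⁻¹ =
          ((q.out : G) * a₀ * (q.out : G)⁻¹) * x * ((q.out : G) * a₀ * (q.out : G)⁻¹)⁻¹ * x⁻¹ := by
        rw [hg]
        calc (q.out : G) * (a₀ * x * a₀⁻¹ * x⁻¹) * (q.out : G)⁻¹
            = (q.out : G) * a₀ * x * a₀⁻¹ * ((q.out : G) * x)⁻¹ := by group
          _ = (q.out : G) * a₀ * x * a₀⁻¹ * (x * (q.out : G))⁻¹ := by rw [hcx]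
          _ = (q.out : G) * a₀ * ((q.out : G)⁻¹ * ((q.out : G) * x)) * a₀⁻¹ *
              (q.out : G)⁻¹ * x⁻¹ := by group
          _ = (q.out : G) * a₀ * ((q.out : G)⁻¹ * (x * (q.out : G))) * a₀⁻¹ *
              (q.out : G)⁻¹ * x⁻¹ := by rw [hcx]
          _ = _ := by group
      rw [h1]
      exact hΨmem _ (hAn.conj_mem a₀ ha₀ _)
    · intro hcon
      have h1 : (1 : G) ∈ Set.range Ψ := by
        have := hΨmem 1 A.one_mem
        simpa using this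
      obtain ⟨q, hq⟩ := hcon h1
      rw [hf] at hq
      simp only at hq
      apply hg1
      calc g = (q.out : G)⁻¹ * ((q.out : G) * g * (q.out : G)⁻¹) * (q.out : G) := by group
        _ = 1 := by rw [hq]; group
  have hlt : D.relIndex C < C.relIndex A := by
    have h1 : (Set.range f).ncard = D.relIndex C := by
      rw [Set.ncard_range_of_injective hfinj, Subgroup.relIndex, Subgroup.index_eq_card]
    have h2 : (Set.range Ψ).ncard ≤ C.relIndex A := by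
      rw [← Set.image_univ]
      refine (Set.ncard_image_le (Set.toFinite _)).trans ?_
      rw [Set.ncard_univ, Subgroup.relIndex, Subgroup.index_eq_card]
    have h3 := Set.ncard_lt_ncard hsub (Set.toFinite _)
    omega
  -- index computations
  have hADle : A ⊔ D ≤ Cg := sup_le hACg hDCg
  have e1 := Subgroup.relIndex_mul_index (le_sup_right : D ≤ A ⊔ D)
  have e2 := Subgroup.relIndex_mul_index hDC
  have hk : C.relIndex A ≤ D.relIndex (A ⊔ D) := by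
    have h1 : D.relIndex A ≤ D.relIndex (A ⊔ D) :=
      Subgroup.relIndex_le_of_le_right le_sup_left Subgroup.index_ne_zero_of_finite
    have h2 : D.relIndex A = C.relIndex A := by
      rw [← Subgroup.inf_relIndex_right D A, ← Subgroup.inf_relIndex_right C A]
      congr 1
      rw [hD]
      ext b
      simp only [Subgroup.mem_inf]
      constructor
      · rintro ⟨⟨_, h2⟩, h3⟩; exact ⟨h2, h3⟩
      · rintro ⟨h2, h3⟩; exact ⟨⟨hACg h3, h2⟩, h3⟩
    omega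
  have hmpos : 0 < m := by
    rw [← hx]; exact Nat.pos_of_ne_zero Subgroup.index_ne_zero_of_finite
  have hidx_lt : (A ⊔ D).index < m := by
    have h1 : C.relIndex A * (A ⊔ D).index ≤ D.relIndex C * m := by
      calc C.relIndex A * (A ⊔ D).index ≤ D.relIndex (A ⊔ D) * (A ⊔ D).index :=
            Nat.mul_le_mul_right _ hk
        _ = D.index := e1
        _ = D.relIndex C * C.index := e2.symm
        _ = D.relIndex C * m := by rw [hx]
    have h2 : D.relIndex C * m < C.relIndex A * m := Nat.mul_lt_mul_of_pos_right hlt hmpos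
    have h3 : C.relIndex A * (A ⊔ D).index < C.relIndex A * m := lt_of_le_of_lt h1 h2
    exact Nat.lt_of_mul_lt_mul_left h3
  have hCgidx : Cg.index < m :=
    lt_of_le_of_lt (Nat.le_of_dvd (Nat.pos_of_ne_zero Subgroup.index_ne_zero_of_finite)
      (Subgroup.index_dvd_of_le hADle)) hidx_lt
  have hCg1 : Cg.index = 1 := by
    by_contra hne
    have h0 : Cg.index ≠ 0 := Subgroup.index_ne_zero_of_finite
    have := hmin g (by rw [← hCg]; omega)
    rw [← hCg] at this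
    omega
  rw [Subgroup.index_eq_one] at hCg1
  rw [Subgroup.mem_center_iff]
  intro h
  have : h ∈ Cg := hCg1 ▸ Subgroup.mem_top h
  exact (memCg h).mp this

/-- the elements acting on `A` by central commutators -/
def centralActing (A : Subgroup G) : Subgroup G where
  carrier := {w | ∀ a ∈ A, a * w * a⁻¹ * w⁻¹ ∈ Subgroup.center G}
  one_mem' := by
    intro a _
    have : a * 1 * a⁻¹ * (1 : G)⁻¹ = 1 := by group
    rw [this]; exact Subgroup.one_mem _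
  mul_mem' := by
    intro w₁ w₂ h₁ h₂ a ha
    have h1 := h₁ a ha
    have h2 := h₂ a ha
    have h3 : a * (w₁ * w₂) * a⁻¹ * (w₁ * w₂)⁻¹ =
        (a * w₁ * a⁻¹ * w₁⁻¹) * (w₁ * (a * w₂ * a⁻¹ * w₂⁻¹) * w₁⁻¹) := by group
    have h4 : w₁ * (a * w₂ * a⁻¹ * w₂⁻¹) * w₁⁻¹ = a * w₂ * a⁻¹ * w₂⁻¹ := by
      rw [(Subgroup.mem_center_iff.mp h2) w₁]; group
    rw [h3, h4]
    exact Subgroup.mul_mem _ h1 h2
  inv_mem' := by
    intro w h a ha
    have h1 := h a ha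
    have h2 : a * w⁻¹ * a⁻¹ * w⁻¹⁻¹ = w⁻¹ * (a * w * a⁻¹ * w⁻¹)⁻¹ * w := by group
    have h3 := Subgroup.inv_mem _ h1
    have h4 : w⁻¹ * (a * w * a⁻¹ * w⁻¹)⁻¹ * w = (a * w * a⁻¹ * w⁻¹)⁻¹ := by
      rw [(Subgroup.mem_center_iff.mp h3) w⁻¹]; group
    rw [h2, h4]; exact h3

omit [Finite G] in
theorem mem_centralActing (A : Subgroup G) (w : G) :
    w ∈ centralActing A ↔ ∀ a ∈ A, a * w * a⁻¹ * w⁻¹ ∈ Subgroup.center G := Iff.rfl

omit [Finite G] in
/-- commutators of centrally acting elements centralize `A` -/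
theorem commutator_mem (A : Subgroup G) [hAn : A.Normal]
    (hCA : Subgroup.centralizer (A : Set G) = A) (w₁ w₂ : G) (h₁ : w₁ ∈ centralActing A)
    (h₂ : w₂ ∈ centralActing A) : w₁ * w₂ * w₁⁻¹ * w₂⁻¹ ∈ A := by
  -- conjugation by `w` multiplies by a central element
  have key : ∀ w ∈ centralActing A, ∀ a ∈ A, ∃ ζ ∈ Subgroup.center G, w * a * w⁻¹ = a * ζ := by
    intro w hw a ha
    refine ⟨a⁻¹ * w * a⁻¹⁻¹ * w⁻¹, hw a⁻¹ (A.inv_mem ha), ?_⟩
    group
  have conj2 : ∀ u ∈ centralActing A, ∀ v ∈ centralActing A, ∀ a ∈ A,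
      ∃ ζ₁ ∈ Subgroup.center G, ∃ ζ₂ ∈ Subgroup.center G,
        (u * a * u⁻¹ = a * ζ₁) ∧ (v * a * v⁻¹ = a * ζ₂) ∧ (u * v) * a * (u * v)⁻¹ = a * ζ₁ * ζ₂ := by
    intro u hu v hv a ha
    obtain ⟨ζ₁, hζ₁, e₁⟩ := key u hu a ha
    obtain ⟨ζ₂, hζ₂, e₂⟩ := key v hv a ha
    refine ⟨ζ₁, hζ₁, ζ₂, hζ₂, e₁, e₂, ?_⟩
    calc (u * v) * a * (u * v)⁻¹ = u * (v * a * v⁻¹) * u⁻¹ := by group
      _ = u * (a * ζ₂) * u⁻¹ := by rw [e₂]
      _ = (u * a * u⁻¹) * (u * ζ₂ * u⁻¹) := by group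
      _ = (a * ζ₁) * ζ₂ := by
          rw [e₁, (Subgroup.mem_center_iff.mp hζ₂) u]; group
  rw [← hCA, Subgroup.mem_centralizer_iff]
  intro a ha
  -- `a' = (w₂ w₁)⁻¹ a (w₂ w₁)`
  have ha' : (w₂ * w₁)⁻¹ * a * (w₂ * w₁) ∈ A := by
    have := hAn.conj_mem a ha (w₂ * w₁)⁻¹
    simpa using this
  obtain ⟨ζ₁, hζ₁, ζ₂, hζ₂, e₁, e₂, e₁₂⟩ := conj2 w₁ h₁ w₂ h₂ _ ha'
  obtain ⟨ξ₂, _, ξ₁, _, f₂, f₁, f₂₁⟩ := conj2 w₂ h₂ w₁ h₁ _ ha'
  have hζ : ζ₁ = ξ₁ := mul_left_cancel (e₁.symm.trans f₁)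
  have hξ : ζ₂ = ξ₂ := mul_left_cancel (e₂.symm.trans f₂)
  have heq : (w₁ * w₂) * ((w₂ * w₁)⁻¹ * a * (w₂ * w₁)) * (w₁ * w₂)⁻¹ =
      (w₂ * w₁) * ((w₂ * w₁)⁻¹ * a * (w₂ * w₁)) * (w₂ * w₁)⁻¹ := by
    rw [e₁₂, f₂₁, hζ, hξ, mul_assoc _ ξ₁ ξ₂, mul_assoc _ ξ₂ ξ₁,
      (Subgroup.mem_center_iff.mp (hξ ▸ hζ₂ : ξ₂ ∈ Subgroup.center G)) ξ₁]
  have h3 : (w₂ * w₁) * ((w₂ * w₁)⁻¹ * a * (w₂ * w₁)) * (w₂ * w₁)⁻¹ = a := by group
  rw [h3] at heq
  -- `heq : (w₁ w₂)(w₂ w₁)⁻¹ a (w₂ w₁)(w₁ w₂)⁻¹ = a`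
  calc a * (w₁ * w₂ * w₁⁻¹ * w₂⁻¹) = ((w₁ * w₂) * ((w₂ * w₁)⁻¹ * a * (w₂ * w₁)) * (w₁ * w₂)⁻¹) *
        (w₁ * w₂ * w₁⁻¹ * w₂⁻¹) := by rw [heq]
    _ = _ := by group

/-- **Main theorem** (Isaacs). -/
theorem main (A : Subgroup G) [A.Normal] (hA : IsMulCommutative A)
    (hCA : Subgroup.centralizer (A : Set G) = A) (m : ℕ)
    (hmin : ∀ x : G, 1 < (Subgroup.centralizer ({x} : Set G)).index →
      m ≤ (Subgroup.centralizer ({x} : Set G)).index) :
    Subgroup.upperCentralSeries ↥(Subgroup.closure {x : G |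
      (Subgroup.centralizer ({x} : Set G)).index = 1 ∨
      (Subgroup.centralizer ({x} : Set G)).index = m}) 3 = ⊤ := by
  have hAc : ∀ a ∈ A, ∀ b ∈ A, a * b = b * a := by
    intro a ha b hb
    exact congrArg Subtype.val (hA.is_comm.comm ⟨a, ha⟩ ⟨b, hb⟩)
  obtain ⟨M, hM⟩ : ∃ M : Subgroup G, M = Subgroup.closure {x : G |
      (Subgroup.centralizer ({x} : Set G)).index = 1 ∨
      (Subgroup.centralizer ({x} : Set G)).index = m} := ⟨_, rfl⟩
  rw [← hM]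
  have hMK : M ≤ centralActing A := by
    rw [hM, Subgroup.closure_le]
    rintro x (hx | hx)
    · intro a _
      rw [Subgroup.index_eq_one] at hx
      have hxc : a ∈ Subgroup.centralizer ({x} : Set G) := hx ▸ Subgroup.mem_top a
      rw [Subgroup.mem_centralizer_singleton_iff] at hxc
      have : a * x * a⁻¹ * x⁻¹ = 1 := by rw [hxc]; group
      rw [this]; exact Subgroup.one_mem _
    · intro a ha
      exact comm_mem_center A hAc m hmin x hx a ha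
  rw [eq_top_iff]
  intro w _
  rw [Subgroup.mem_upperCentralSeries_succ_iff]
  intro y
  rw [Subgroup.mem_upperCentralSeries_succ_iff]
  intro y'
  rw [Subgroup.upperCentralSeries_one, Subgroup.mem_center_iff]
  intro v
  have hu : ((w : G) * y * (w : G)⁻¹ * (y : G)⁻¹) ∈ A :=
    commutator_mem A hCA w y (hMK w.2) (hMK y.2)
  have hz := (mem_centralActing A y').mp (hMK y'.2) _ hu
  apply Subtype.ext
  simp only [Subgroup.coe_mul, commutatorElement_def, Subgroup.coe_inv]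
  exact (Subgroup.mem_center_iff.mp hz) v

end Cfsg.Agent.H2.SmallClasses
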