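import Mathlib
import Cfsg.Prelude.Def_RootSubgroups

set_option autoImplicit false
open Cfsg

namespace Cfsg.Agent.H2.SRO

variable {X : Type*} [Group X]

/-- right conjugate `g⁻¹ A g` -/
abbrev cj (A : Subgroup X) (g : X) : Subgroup X := conjBy A g⁻¹

lemma mem_cj {A : Subgroup X} {g x : X} : x ∈ cj A g ↔ g * x * g⁻¹ ∈ A := by
  unfold cj conjBy
  rw [Subgroup.mem_map]
  constructor
  · rintro ⟨a, ha, rfl⟩
    simpa [mul_assoc] using ha
  · intro h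
    exact ⟨g * x * g⁻¹, h, by simp [MulAut.conj_apply, mul_assoc]⟩

lemma cj_cj (A : Subgroup X) (g h : X) : cj (cj A g) h = cj A (g * h) := by
  ext x
  rw [mem_cj, mem_cj, mem_cj]
  have : g * (h * x * h⁻¹) * g⁻¹ = g * h * x * (g * h)⁻¹ := by group
  rw [this]

lemma cj_mem {A : Subgroup X} {g : X} (hg : g ∈ A) : cj A g = A := by
  ext x
  rw [mem_cj]
  constructor
  · intro h
    have : x = g⁻¹ * (g * x * g⁻¹) * g := by group
    rw [this]
    exact A.mul_mem (A.mul_mem (A.inv_mem hg) h) hg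
  · intro h
    exact A.mul_mem (A.mul_mem hg h) (A.inv_mem hg)

lemma cj_one (A : Subgroup X) : cj A 1 = A := cj_mem A.one_mem

structure Hyp (A B : Subgroup X) : Prop where
  pair : IsRankOnePair A B
  commA : ∀ x ∈ A, ∀ y ∈ A, x * y = y * x
  commB : ∀ x ∈ B, ∀ y ∈ B, x * y = y * x
  special : ∀ a ∈ A, a ≠ 1 → ∀ b ∈ B, b ≠ 1 → cj A b = cj B a → b⁻¹ * a * b = a⁻¹ * b⁻¹ * a

def Rel (A B : Subgroup X) (a b : X) : Prop :=
  a ∈ A ∧ a ≠ 1 ∧ b ∈ B ∧ b ≠ 1 ∧ cj A b = cj B a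

lemma Rel.swap {A B : Subgroup X} {a b : X} (h : Rel A B a b) : Rel B A b a :=
  ⟨h.2.2.1, h.2.2.2.1, h.1, h.2.1, h.2.2.2.2.symm⟩

lemma Hyp.swap {A B : Subgroup X} (h : Hyp A B) : Hyp B A := by
  refine ⟨RankOnePair_symm h.pair, h.commB, h.commA, ?_⟩
  intro b hb hb1 a ha ha1 hrel
  have hs := h.special a ha ha1 b hb hb1 hrel.symm
  have h1 : (b⁻¹ * a * b)⁻¹ = (a⁻¹ * b⁻¹ * a)⁻¹ := by rw [hs]
  have e1 : (b⁻¹ * a * b)⁻¹ = b⁻¹ * a⁻¹ * b := by group
  have e2 : (a⁻¹ * b⁻¹ * a)⁻¹ = a⁻¹ * b * a := by group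
  rw [e1, e2] at h1
  exact h1.symm

variable {A B : Subgroup X}

lemma inter_trivial (h : Hyp A B) {y : X} (hyA : y ∈ A) (hyB : y ∈ B) : y = 1 := by
  by_contra hy
  obtain ⟨b', hb', _, hrel⟩ := h.pair.cond_left y hyA hy
  have h1 : cj A b' = B := by
    show conjBy A b'⁻¹ = B
    rw [hrel]; exact cj_mem hyB
  have h2 : A = B := by
    have : cj (cj A b') b'⁻¹ = cj B b'⁻¹ := by rw [h1]
    rw [cj_cj, mul_inv_cancel, cj_one, cj_mem (B.inv_mem hb')] at this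
    exact this
  exact h.pair.ne h2

lemma norm_trivial (h : Hyp A B) {β : X} (hβ : β ∈ B) (hn : cj A β = A) : β = 1 := by
  by_contra hβ1
  obtain ⟨a', ha', _, hrel⟩ := h.pair.cond_right β hβ hβ1
  have h1 : cj B a' = A := by
    show conjBy B a'⁻¹ = A
    rw [hrel]; exact hn
  have h2 : B = A := by
    have : cj (cj B a') a'⁻¹ = cj A a'⁻¹ := by rw [h1]
    rw [cj_cj, mul_inv_cancel, cj_one, cj_mem (A.inv_mem ha')] at this
    exact this
  exact h.pair.ne h2.symm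

lemma rel_unique_right (h : Hyp A B) {a b b' : X} (h1 : Rel A B a b) (h2 : Rel A B a b') : b = b' := by
  have e : cj A b = cj A b' := by rw [h1.2.2.2.2, h2.2.2.2.2]
  have e2 : cj A (b * b'⁻¹) = A := by
    rw [← cj_cj, e, cj_cj, mul_inv_cancel, cj_one]
  have := norm_trivial h (B.mul_mem h1.2.2.1 (B.inv_mem h2.2.2.1)) e2
  exact mul_inv_eq_one.1 this

lemma rel_unique_left (h : Hyp A B) {a a' b : X} (h1 : Rel A B a b) (h2 : Rel A B a' b) : a = a' :=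
  rel_unique_right h.swap h1.swap h2.swap

lemma exists_right (h : Hyp A B) {a : X} (ha : a ∈ A) (ha1 : a ≠ 1) : ∃ b, Rel A B a b := by
  obtain ⟨b, hb, hb1, hrel⟩ := h.pair.cond_left a ha ha1
  exact ⟨b, ha, ha1, hb, hb1, hrel⟩

lemma exists_left (h : Hyp A B) {b : X} (hb : b ∈ B) (hb1 : b ≠ 1) : ∃ a, Rel A B a b := by
  obtain ⟨a, ha, ha1, hrel⟩ := h.pair.cond_right b hb hb1
  exact ⟨a, ha, ha1, hb, hb1, hrel.symm⟩

/-- TI property for conjugates of `B` under `A`. -/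
lemma ti (h : Hyp A B) {x x' e : X} (hx : x ∈ A) (hx' : x' ∈ A) (he : e ∈ cj B x) (he' : e ∈ cj B x')
    (he1 : e ≠ 1) : x = x' := by
  by_contra hne
  have hy0 : x * x'⁻¹ ∈ A := A.mul_mem hx (A.inv_mem hx')
  have hy1 : x * x'⁻¹ ≠ 1 := fun hh => hne (mul_inv_eq_one.1 hh)
  obtain ⟨β0, hβ0, _, hrel⟩ := h.pair.cond_left _ hy0 hy1
  rw [mem_cj] at he he'
  -- e' = x' e x'⁻¹ ∈ B, and in cj B (x x'⁻¹)
  have h1 : x' * e * x'⁻¹ ∈ cj B (x * x'⁻¹) := by
    rw [mem_cj]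
    have : x * x'⁻¹ * (x' * e * x'⁻¹) * (x * x'⁻¹)⁻¹ = x * e * x⁻¹ := by group
    rw [this]; exact he
  have h2 : x' * e * x'⁻¹ ∈ cj A β0 := by
    show x' * e * x'⁻¹ ∈ conjBy A β0⁻¹
    rw [hrel]; exact h1
  rw [mem_cj] at h2
  have h3 : β0 * (x' * e * x'⁻¹) * β0⁻¹ ∈ B := B.mul_mem (B.mul_mem hβ0 he') (B.inv_mem hβ0)
  have h4 := inter_trivial h h2 h3
  have h5 : x' * e * x'⁻¹ = 1 := by
    have : x' * e * x'⁻¹ = β0⁻¹ * (β0 * (x' * e * x'⁻¹) * β0⁻¹) * β0 := by group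
    rw [this, h4]; group
  have h6 : e = 1 := by
    have : e = x'⁻¹ * (x' * e * x'⁻¹) * x' := by group
    rw [this, h5]; group
  exact he1 h6

/-- `b(a⁻¹) = b(a)⁻¹` -/
lemma rel_inv (h : Hyp A B) {a b : X} (hab : Rel A B a b) : Rel A B a⁻¹ b⁻¹ := by
  obtain ⟨ha, ha1, hb, hb1, hrel⟩ := hab
  have hb1' : b⁻¹ ≠ 1 := by simpa using hb1
  obtain ⟨a', ha'⟩ := exists_left h (B.inv_mem hb) hb1'
  have hS1 := h.special a ha ha1 b hb hb1 hrel
  -- f = a b a⁻¹ = b a⁻¹ b⁻¹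
  have hf : a * b * a⁻¹ = b * a⁻¹ * b⁻¹ := by
    have h1 : b⁻¹ * a * b * (a⁻¹ * b⁻¹ * a)⁻¹ = 1 := by rw [hS1]; exact mul_inv_cancel _
    have h2 : a * b * a⁻¹ * (b * a⁻¹ * b⁻¹)⁻¹ = b * (b⁻¹ * a * b * (a⁻¹ * b⁻¹ * a)⁻¹) * b⁻¹ := by group
    rw [h1] at h2
    have h3 : a * b * a⁻¹ * (b * a⁻¹ * b⁻¹)⁻¹ = 1 := by rw [h2]; group
    exact mul_inv_eq_one.1 h3
  have hf1 : a * b * a⁻¹ ≠ 1 := by
    intro hh
    apply hb1
    have : b = a⁻¹ * (a * b * a⁻¹) * a := by group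
    rw [this, hh]; group
  have m1 : a * b * a⁻¹ ∈ cj B a⁻¹ := by
    rw [mem_cj]
    have : a⁻¹ * (a * b * a⁻¹) * a⁻¹⁻¹ = b := by group
    rw [this]; exact hb
  have m2 : a * b * a⁻¹ ∈ cj B a' := by
    rw [← ha'.2.2.2.2, hf, mem_cj]
    have : b⁻¹ * (b * a⁻¹ * b⁻¹) * b⁻¹⁻¹ = a⁻¹ := by group
    rw [this]; exact A.inv_mem ha
  have e := ti h (A.inv_mem ha) ha'.1 m1 m2 hf1
  rw [e]; exact ha'

lemma conj_pow' (g x : X) (m : ℕ) : (g⁻¹ * x * g) ^ m = g⁻¹ * x ^ m * g := by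
  induction m with
  | zero => simp
  | succ m ih => rw [pow_succ, ih, pow_succ]; group

lemma keyE (h : Hyp A B) {a b am β : X} (m : ℕ) (hab : Rel A B a b) (hm : Rel A B am (b ^ (m + 1)))
    (hβ : Rel A B (a ^ m) β) : cj A (β * b) = cj B (am⁻¹ * a) := by
  have hS1 := h.special a hab.1 hab.2.1 b hab.2.2.1 hab.2.2.2.1 hab.2.2.2.2
  have hV : b⁻¹ * a ^ m * b = a⁻¹ * (b⁻¹) ^ m * a := by
    rw [← conj_pow', hS1, conj_pow']
  have r1 := (rel_inv h hab).2.2.2.2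
  have r2 := (rel_inv h hm).2.2.2.2
  have e1 : cj B (a ^ m * b) = cj A (β * b) := by
    rw [← cj_cj, ← hβ.2.2.2.2, cj_cj]
  have e2 : cj B (a ^ m * b) = cj B (b⁻¹ * a ^ m * b) := by
    have : b⁻¹ * a ^ m * b = b⁻¹ * (a ^ m * b) := by group
    rw [this, ← cj_cj B b⁻¹, cj_mem (B.inv_mem hab.2.2.1)]
  have e3 : cj B (a⁻¹ * (b⁻¹) ^ m * a) = cj B (am⁻¹ * a) := by
    have s1 : cj B (a⁻¹ * (b⁻¹) ^ m * a) = cj (cj (cj B a⁻¹) ((b⁻¹) ^ m)) a := by
      rw [cj_cj, cj_cj, mul_assoc]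
    have s2 : cj (cj A b⁻¹) ((b⁻¹) ^ m) = cj A ((b ^ (m + 1))⁻¹) := by
      rw [cj_cj, ← pow_succ', inv_pow]
    rw [s1, ← r1, s2, r2, cj_cj]
  rw [← e1, e2, hV, e3]

/-- main theorem: if `b(a_k) = b(a)^k` then `a_k^k = a`. -/
theorem main (k : ℕ) : ∀ {A B : Subgroup X}, Hyp A B → ∀ a b ak : X, Rel A B a b → Rel A B ak (b ^ k) →
    ak ^ k = a := by
  induction k using Nat.strong_induction_on with
  | _ k IH =>
  intro A B h a b ak hab hk
  match k, IH, hk with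
  | 0, _, hk => exact absurd (pow_zero b) hk.2.2.2.1
  | 1, _, hk =>
    rw [pow_one] at hk
    rw [pow_one]; exact rel_unique_left h hk hab
  | (m + 2), IH, hk =>
    -- torsion transfer lemma
    have hT : ∀ {A B : Subgroup X}, Hyp A B → ∀ a b : X, Rel A B a b → a ^ (m + 1) = 1 →
        b ^ (m + 1) = 1 := by
      intro A B h a b hab ha
      match m, IH, ha with
      | 0, _, ha =>
        rw [zero_add, pow_one] at ha
        exact absurd ha hab.2.1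
      | (m' + 1), IH, ha =>
        have e1 : a ^ (m' + 1) = a⁻¹ := by
          rw [eq_inv_iff_mul_eq_one, ← pow_succ]; exact ha
        have hr := rel_inv h hab
        rw [← e1] at hr
        have := IH (m' + 1) (by omega) h.swap b a b⁻¹ hab.swap hr.swap
        -- (b⁻¹)^(m'+1) = b
        rw [inv_pow, inv_eq_iff_eq_inv] at this
        rw [pow_succ, this]; exact inv_mul_cancel b
    by_cases hc : a ^ (m + 1) = 1
    · have hb := hT h a b hab hc
      have e : b ^ (m + 2) = b := by rw [pow_succ, hb, one_mul]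
      rw [e] at hk
      have := rel_unique_left h hk hab
      rw [this, pow_succ, hc, one_mul]
    · have hcm : a ^ (m + 1) ∈ A := A.pow_mem hab.1 _
      obtain ⟨β, hβ⟩ := exists_right h hcm hc
      have hβb : β ^ (m + 1) = b := IH (m + 1) (by omega) h.swap b a β hab.swap hβ.swap
      have hE := keyE h (m + 1) hab hk hβ
      have e1 : β * b = β ^ (m + 2) := by rw [← hβb, ← pow_succ']
      rw [e1] at hE
      have hy : ak⁻¹ * a ∈ A := A.mul_mem (A.inv_mem hk.1) hab.1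
      have hy1 : ak⁻¹ * a ≠ 1 := by
        intro hh
        have : ak = a := by
          have := inv_mul_eq_one.1 hh
          exact this
        rw [this] at hk
        have e2 := rel_unique_right h hk hab
        have e3 : b ^ (m + 1) = 1 := by
          have : b ^ (m + 1) * b = 1 * b := by rw [← pow_succ, e2, one_mul]
          exact mul_right_cancel this
        exact hc (hT h.swap b a hab.swap e3)
      have hβ1 : β ^ (m + 2) ≠ 1 := by
        intro hh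
        rw [hh, cj_one] at hE
        -- A = cj B y with y ∈ A  ⟹ B = A
        have : cj A (ak⁻¹ * a)⁻¹ = cj (cj B (ak⁻¹ * a)) (ak⁻¹ * a)⁻¹ := by rw [← hE]
        rw [cj_cj, mul_inv_cancel, cj_one, cj_mem (A.inv_mem hy)] at this
        exact h.pair.ne this
      have hrel : Rel A B (ak⁻¹ * a) (β ^ (m + 2)) := ⟨hy, hy1, B.pow_mem hβ.2.2.1 _, hβ1, hE⟩
      have e4 : (β ^ (m + 2)) ^ (m + 1) = b ^ (m + 2) := by
        rw [← hβb, ← pow_mul, ← pow_mul, mul_comm]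
      have hk' : Rel A B ak ((β ^ (m + 2)) ^ (m + 1)) := by rw [e4]; exact hk
      have := IH (m + 1) (by omega) h (ak⁻¹ * a) (β ^ (m + 2)) ak hrel hk'
      rw [pow_succ', this]; group

/-- torsion transfer: `b^n = 1 → a^n = 1`. -/
lemma torsion_left (h : Hyp A B) {a b : X} (hab : Rel A B a b) {n : ℕ} (hn : b ^ n = 1) :
    a ^ n = 1 := by
  match n, hn with
  | 0, _ => exact pow_zero a
  | 1, hn => rw [pow_one] at hn; exact absurd hn hab.2.2.2.1
  | (m + 2), hn =>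
    have e1 : b ^ (m + 1) = b⁻¹ := by
      rw [eq_inv_iff_mul_eq_one, ← pow_succ]; exact hn
    have hr := rel_inv h hab
    rw [← e1] at hr
    have := main (m + 1) h a b a⁻¹ hab hr
    rw [inv_pow, inv_eq_iff_eq_inv] at this
    rw [pow_succ, this]; exact inv_mul_cancel a

end Cfsg.Agent.H2.SRO
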