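import Mathlib
import Cfsg.Agent.H2.ConjOrbitCard
import Cfsg.Agent.S4672
import Cfsg.Agent.S0908
import Cfsg.Agent.Lib.helper3.FR6
import Cfsg.Agent.Lib.helper3.StableBlock2
import Cfsg.Agent.Lib.helper3.Degrees

/-!
# A stable block of a normal subgroup of `p`-power index has an invariant character of height
zero (helper2)
-/

set_option autoImplicit false
set_option linter.style.haveILetI false
set_option linter.unusedSectionVars false

namespace Cfsg.Agent.H2.StableHeightZero

open Cfsg Cfsg.Agent.Lib.helper3.Block Cfsg.Agent.Lib.helper3.Irr Cfsg.Agent.Lib.helper3.CharBasic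
open Cfsg.Agent.Lib.helper3.LocalM Cfsg.Agent.Lib.helper3.Central

variable {J : Type*} [Group J] [Fintype J] {M : Ideal AlgInt}

/-- The degree valuation of some member of a nonempty set attains the infimum. -/
theorem exists_min_degree {X : Type*} [Group X] (p : ℕ) (B : Set (IrrCharacter X))
    (hne : ∃ χ, χ ∈ B) :
    ∃ χ ∈ B, (charDegree (χ : X → ℂ)).factorization p
      = sInf ((fun χ : IrrCharacter X => (charDegree (χ : X → ℂ)).factorization p) '' B) := by
  obtain ⟨χ₀, hχ₀⟩ := hne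
  have hne' : ((fun χ : IrrCharacter X => (charDegree (χ : X → ℂ)).factorization p) '' B).Nonempty :=
    ⟨_, χ₀, hχ₀, rfl⟩
  obtain ⟨χ, hχ, h⟩ := Nat.sInf_mem hne'
  exact ⟨χ, hχ, h⟩

theorem exists_invariant_heightZero {p : ℕ} [hp : Fact p.Prime] (hM : IsPModular p M)
    (N : Subgroup J) [hN : N.Normal] [Fintype N] (hidx : ∃ k : ℕ, N.index = p ^ k)
    (c : Set (IrrCharacter N)) (hc : IsPBlock M c) (hst : ∀ x : J, StabilizesBlock N c x) :
    ∃ θ ∈ c, blockHeight p c (θ : N → ℂ) = 0 ∧ ∀ g : J, Cfsg.Agent.Lib.helper3.Irr.conjFun N (θ : N → ℂ) g = (θ : N → ℂ) := by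
  classical
  haveI hMp := isPrime_of_isPModular hM
  have hMtop : M ≠ ⊤ := hM.2.1.ne_top
  have hpp : p.Prime := hp.out
  obtain ⟨⟨B, hB, hBc⟩, hall⟩ := Cfsg.Agent.S4672.result p M hM N hidx c hc hst
  obtain ⟨P, hP⟩ := exists_isDefectGroup hM B hB
  obtain ⟨hNP, hPN⟩ := hall B hB hBc P hP
  obtain ⟨k, hk⟩ := hidx
  have c1 : Nat.card P = p ^ blockDefect p B := Cfsg.Agent.S0908.result p M hM B hB P hP
  have c2 : Nat.card ((P ⊓ N).subgroupOf N) = p ^ blockDefect p c :=
    Cfsg.Agent.S0908.result p M hM c hc _ hPN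
  have c3 : Nat.card ((P ⊓ N).subgroupOf N) = Nat.card (P ⊓ N : Subgroup J) :=
    Nat.card_congr (Subgroup.subgroupOfEquivOfLe inf_le_right).toEquiv
  have c4 := card_eq_card_inf_mul_relIndex P N
  have c5 : N.relIndex P = p ^ k := by
    rw [← Subgroup.relIndex_sup_right, sup_comm, hNP, Subgroup.relIndex_top_right, hk]
  have hdef : blockDefect p B = blockDefect p c + k := by
    rw [c1, ← c3, c2, c5, ← pow_add] at c4
    exact Nat.pow_right_injective hpp.two_le c4
  have hcardJ : Nat.card J = Nat.card N * p ^ k := by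
    rw [← hk, Subgroup.card_mul_index]
  -- the block `B` is the set of characters over `c`
  have hS := conjStable_of_stabilizes N c hst
  have hBeq : B = overSet N c := by
    apply eq_of_blockCoeff_eq
    intro g
    rw [hBc, blockCoeff_overSet N c hS]
  obtain ⟨χ, hχB, hχmin⟩ := exists_min_degree p B (isPBlock_nonempty hB)
  have hχover : χ ∈ overSet N c := hBeq ▸ hχB
  obtain ⟨θ, hθc, hθ⟩ := hχover
  obtain ⟨e, he0, -, hres, -, -⟩ := clifford_finset N (χ : J → ℂ) χ.2 (θ : N → ℂ) θ.2 hθ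
  obtain ⟨dχ, hdχ, hdχdvd, hdχpos⟩ := irr_degree_dvd_card χ.2
  obtain ⟨dθ, hdθ, hdθdvd, hdθpos⟩ := irr_degree_dvd_card θ.2
  obtain ⟨t, ht⟩ : ∃ t : ℕ, t = (Finset.univ.image (Cfsg.Agent.Lib.helper3.Irr.conjFun N (θ : N → ℂ))).card := ⟨_, rfl⟩
  have hdeg : dχ = e * (t * dθ) := by
    have h1 := congrFun hres 1
    simp only [Pi.smul_apply, Finset.sum_apply, smul_eq_mul] at h1
    rw [Subgroup.coe_one, hdχ] at h1
    have h2 : ∑ ψ ∈ Finset.univ.image (Cfsg.Agent.Lib.helper3.Irr.conjFun N (θ : N → ℂ)), ψ 1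
        = ∑ ψ ∈ Finset.univ.image (Cfsg.Agent.Lib.helper3.Irr.conjFun N (θ : N → ℂ)), (dθ : ℂ) := by
      apply Finset.sum_congr rfl
      intro ψ hψ
      obtain ⟨g, -, rfl⟩ := Finset.mem_image.mp hψ
      rw [conjFun_apply_one, hdθ]
    rw [h2, Finset.sum_const, ← ht, nsmul_eq_mul] at h1
    exact_mod_cast h1
  have hcχ : charDegree (χ : J → ℂ) = dχ := charDegree_eq hdχ
  have hcθ : charDegree (θ : N → ℂ) = dθ := charDegree_eq hdθ
  -- valuations
  have hvJ : (Nat.card J).factorization p = (Nat.card N).factorization p + k := by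
    rw [hcardJ, Nat.factorization_mul Nat.card_pos.ne' (pow_pos hpp.pos k).ne',
      Finsupp.add_apply, hpp.factorization_pow]
    simp
  have hvχle : dχ.factorization p ≤ (Nat.card J).factorization p :=
    (Nat.factorization_le_iff_dvd hdχpos.ne' Nat.card_pos.ne').mpr hdχdvd p
  have hvθle : dθ.factorization p ≤ (Nat.card N).factorization p :=
    (Nat.factorization_le_iff_dvd hdθpos.ne' Nat.card_pos.ne').mpr hdθdvd p
  obtain ⟨sB, hsB⟩ : ∃ sB : ℕ, sB = sInf ((fun χ : IrrCharacter J =>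
      (charDegree (χ : J → ℂ)).factorization p) '' B) := ⟨_, rfl⟩
  obtain ⟨sc, hsc⟩ : ∃ sc : ℕ, sc = sInf ((fun χ : IrrCharacter N =>
      (charDegree (χ : N → ℂ)).factorization p) '' c) := ⟨_, rfl⟩
  have hdB : blockDefect p B = (Nat.card J).factorization p - sB := by
    rw [hsB]; rfl
  have hdc : blockDefect p c = (Nat.card N).factorization p - sc := by
    rw [hsc]; rfl
  have hχv : dχ.factorization p = sB := by
    rw [hsB, ← hχmin, hcχ]
  have hscle : sc ≤ dθ.factorization p := by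
    rw [hsc, ← hcθ]
    exact Nat.sInf_le ⟨θ, hθc, rfl⟩
  have ht0 : t ≠ 0 := by
    rintro rfl
    rw [zero_mul, mul_zero] at hdeg
    omega
  have hvdeg : dχ.factorization p = e.factorization p + (t.factorization p + dθ.factorization p) := by
    rw [hdeg, Nat.factorization_mul he0 (Nat.mul_ne_zero ht0 hdθpos.ne'), Finsupp.add_apply,
      Nat.factorization_mul ht0 hdθpos.ne', Finsupp.add_apply]
  have htv : t.factorization p = 0 := by omega
  have hθv : dθ.factorization p = sc := by omega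
  -- `t` divides `p ^ k`
  have htidx : t = (inertia N (θ : N → ℂ)).index := by
    rw [ht]
    exact Cfsg.Agent.H2.ConjOrbitCard.card_image_conjFun N (θ : N → ℂ)
  have hNI : N ≤ inertia N (θ : N → ℂ) :=
    le_inertia N (θ : N → ℂ) (isClassFunction_of_isCharacter (isCharacter_of_isIrrCharacter θ.2))
  have htdvd : t ∣ p ^ k := by
    rw [htidx, ← hk]
    exact Subgroup.index_dvd_of_le hNI
  have ht1 : t = 1 := by
    obtain ⟨j, -, hj⟩ := (Nat.dvd_prime_pow hpp).mp htdvd
    rw [hj, hpp.factorization_pow] at htv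
    simp only [Finsupp.single_eq_same] at htv
    rw [hj, htv, pow_zero]
  refine ⟨θ, hθc, ?_, ?_⟩
  · unfold blockHeight
    rw [hcθ, hθv, hsc, Nat.sub_self]
  · intro g
    have h1 : (inertia N (θ : N → ℂ)).index = 1 := by rw [← htidx, ht1]
    rw [Subgroup.index_eq_one] at h1
    have : g ∈ inertia N (θ : N → ℂ) := by rw [h1]; exact Subgroup.mem_top g
    exact this

end Cfsg.Agent.H2.StableHeightZero
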