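import Mathlib
import Cfsg.Prelude.Def_Local
import Cfsg.Agent.H2.Components
import Cfsg.Agent.H2.Layer

/-!
# Standard subgroups: Aschbacher's criterion (helper2)
-/

set_option autoImplicit false

namespace Cfsg.Agent.H2.StandardSub

open Cfsg.Agent.H2

variable {G : Type*} [Group G]

/-- conjugating a component of a subgroup -/
theorem component_subgroupOf_conj (M L : Subgroup G) (g : G)
    (h : Cfsg.IsComponent (L.subgroupOf M)) :
    Cfsg.IsComponent ((L.map (MulAut.conj g).toMonoidHom).subgroupOf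
      (M.map (MulAut.conj g).toMonoidHom)) := by
  have hinj : Function.Injective (MulAut.conj g).toMonoidHom := (MulAut.conj g).injective
  have h1 := component_map_equiv (M.equivMapOfInjective (MulAut.conj g).toMonoidHom hinj) h
  have h2 : (L.subgroupOf M).map
      (M.equivMapOfInjective (MulAut.conj g).toMonoidHom hinj).toMonoidHom =
      (L.map (MulAut.conj g).toMonoidHom).subgroupOf (M.map (MulAut.conj g).toMonoidHom) := by
    ext ⟨z, hz⟩
    rw [Subgroup.mem_map, Subgroup.mem_subgroupOf]
    constructor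
    · rintro ⟨⟨w, hw⟩, hwL, hwz⟩
      have h3 : (MulAut.conj g).toMonoidHom w = z := by
        have := congrArg Subtype.val hwz
        exact this
      rw [Subgroup.mem_subgroupOf] at hwL
      exact ⟨w, hwL, h3⟩
    · rintro ⟨l, hl, hlz⟩
      obtain ⟨m, hm, hmz⟩ := hz
      have hlm : l = m := hinj (hlz.trans hmz.symm)
      refine ⟨⟨l, hlm ▸ hm⟩, ?_, ?_⟩
      · rw [Subgroup.mem_subgroupOf]; exact hl
      · apply Subtype.ext
        exact hlz
  rw [h2] at h1
  exact h1

theorem centralizer_singleton_conj (k g : G) :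
    (Subgroup.centralizer ({k} : Set G)).map (MulAut.conj g).toMonoidHom =
      Subgroup.centralizer ({g * k * g⁻¹} : Set G) := by
  ext z
  rw [Subgroup.mem_map, Subgroup.mem_centralizer_iff]
  constructor
  · rintro ⟨w, hw, rfl⟩ h hh
    rw [Set.mem_singleton_iff] at hh
    rw [Subgroup.mem_centralizer_iff] at hw
    have h1 := hw k (Set.mem_singleton k)
    subst hh
    change g * k * g⁻¹ * (g * w * g⁻¹) = g * w * g⁻¹ * (g * k * g⁻¹)
    calc g * k * g⁻¹ * (g * w * g⁻¹) = g * (k * w) * g⁻¹ := by group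
      _ = g * (w * k) * g⁻¹ := by rw [h1]
      _ = _ := by group
  · intro h
    have h1 := h (g * k * g⁻¹) (Set.mem_singleton _)
    refine ⟨g⁻¹ * z * g, ?_, ?_⟩
    · rw [Subgroup.mem_centralizer_iff]
      intro y hy
      rw [Set.mem_singleton_iff] at hy
      subst hy
      calc y * (g⁻¹ * z * g) = g⁻¹ * (g * y * g⁻¹ * z) * g := by group
        _ = g⁻¹ * (z * (g * y * g⁻¹)) * g := by rw [h1]
        _ = _ := by group
    · change g * (g⁻¹ * z * g) * g⁻¹ = z
      group

/-- The key step: if `L` is a component of the centralizer of every involution of `C(L)`, `L`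
commutes with no other conjugate, and `k`, `g k g⁻¹` are involutions of `C(L)`, then
`g L g⁻¹ = L`. -/
theorem conj_eq_of_involution [Finite G] (L : Subgroup G)
    (hne : ∀ y : G, orderOf y = 2 → y ∈ Subgroup.centralizer (L : Set G) →
      L ≤ Subgroup.centralizer ({y} : Set G) ∧
        Cfsg.IsComponent (L.subgroupOf (Subgroup.centralizer ({y} : Set G))))
    (hnc : ∀ g : G, L.map (MulAut.conj g).toMonoidHom ≠ L →
      ⁅L, L.map (MulAut.conj g).toMonoidHom⁆ ≠ ⊥)
    (k g : G) (hk : orderOf k = 2) (hkL : k ∈ Subgroup.centralizer (L : Set G))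
    (hyL : g * k * g⁻¹ ∈ Subgroup.centralizer (L : Set G)) :
    L.map (MulAut.conj g).toMonoidHom = L := by
  by_contra hcon
  have hy2 : orderOf (g * k * g⁻¹) = 2 := by
    have : g * k * g⁻¹ = (MulAut.conj g) k := rfl
    rw [this, MulEquiv.orderOf_eq]; exact hk
  obtain ⟨h1, h2⟩ := hne k hk hkL
  obtain ⟨h3, h4⟩ := hne _ hy2 hyL
  have h5 := component_subgroupOf_conj _ L g h2
  rw [centralizer_singleton_conj] at h5
  have h6 : L.map (MulAut.conj g).toMonoidHom ≤ Subgroup.centralizer ({g * k * g⁻¹} : Set G) := by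
    rw [← centralizer_singleton_conj]
    exact Subgroup.map_mono h1
  have h7 : L.subgroupOf (Subgroup.centralizer ({g * k * g⁻¹} : Set G)) ≠
      (L.map (MulAut.conj g).toMonoidHom).subgroupOf
        (Subgroup.centralizer ({g * k * g⁻¹} : Set G)) := by
    intro h
    apply hcon
    apply le_antisymm
    · intro z hz
      have : (⟨z, h6 hz⟩ : Subgroup.centralizer ({g * k * g⁻¹} : Set G)) ∈
          (L.map (MulAut.conj g).toMonoidHom).subgroupOf _ := by
        rw [Subgroup.mem_subgroupOf]; exact hz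
      rw [← h, Subgroup.mem_subgroupOf] at this
      exact this
    · intro z hz
      have : (⟨z, h3 hz⟩ : Subgroup.centralizer ({g * k * g⁻¹} : Set G)) ∈
          L.subgroupOf _ := by
        rw [Subgroup.mem_subgroupOf]; exact hz
      rw [h, Subgroup.mem_subgroupOf] at this
      exact this
  have h8 := components_commute h4 h5 h7
  rw [commutator_subgroupOf_eq_bot_iff h3 h6] at h8
  exact hnc g hcon h8

theorem normalizer_le_normalizer_centralizer (A : Subgroup G) :
    Subgroup.normalizer (A : Set G) ≤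
      Subgroup.normalizer ((Subgroup.centralizer (A : Set G) : Subgroup G) : Set G) := by
  have key : ∀ g ∈ Subgroup.normalizer (A : Set G), ∀ c ∈ Subgroup.centralizer (A : Set G),
      g * c * g⁻¹ ∈ Subgroup.centralizer (A : Set G) := by
    intro g hg c hc
    rw [Subgroup.mem_centralizer_iff]
    intro a ha
    have ha' : g⁻¹ * a * g⁻¹⁻¹ ∈ A :=
      (Subgroup.mem_normalizer_iff.1 (Subgroup.inv_mem _ hg) a).1 ha
    rw [Subgroup.mem_centralizer_iff] at hc
    have h1 := hc _ ha'
    calc a * (g * c * g⁻¹) = g * (g⁻¹ * a * g⁻¹⁻¹ * c) * g⁻¹ := by group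
      _ = g * (c * (g⁻¹ * a * g⁻¹⁻¹)) * g⁻¹ := by rw [h1]
      _ = _ := by group
  intro g hg
  rw [Subgroup.mem_normalizer_iff]
  intro c
  constructor
  · exact key g hg c
  · intro h
    have := key g⁻¹ (Subgroup.inv_mem _ hg) _ h
    have h2 : g⁻¹ * (g * c * g⁻¹) * g⁻¹⁻¹ = c := by group
    rw [h2] at this
    exact this

theorem mem_normalizer_of_map_conj_eq (L : Subgroup G) (g : G)
    (h : L.map (MulAut.conj g).toMonoidHom = L) : g ∈ Subgroup.normalizer (L : Set G) := by
  rw [Subgroup.mem_normalizer_iff]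
  intro z
  constructor
  · intro hz
    rw [← h]
    exact ⟨z, hz, rfl⟩
  · intro hz
    rw [← h] at hz
    obtain ⟨l, hl, hlz⟩ := hz
    have h1 : g * l * g⁻¹ = g * z * g⁻¹ := hlz
    have h2 : l = z := by
      calc l = g⁻¹ * (g * l * g⁻¹) * g := by group
        _ = g⁻¹ * (g * z * g⁻¹) * g := by rw [h1]
        _ = z := by group
    rw [← h2]; exact hl

/-- Aschbacher's criterion for standard subgroups. -/
theorem isStandardSubgroup [Finite G] (x : G) (hx : orderOf x = 2) (L : Subgroup G)
    (hLx : L ≤ Subgroup.centralizer ({x} : Set G))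
    (hL : Cfsg.IsComponent (L.subgroupOf (Subgroup.centralizer ({x} : Set G))))
    (hne : ∀ y : G, orderOf y = 2 → y ∈ Subgroup.centralizer (L : Set G) →
      L ≤ Subgroup.centralizer ({y} : Set G) ∧
        Cfsg.IsComponent (L.subgroupOf (Subgroup.centralizer ({y} : Set G))))
    (hnc : ∀ g : G, L.map (MulAut.conj g).toMonoidHom ≠ L →
      ⁅L, L.map (MulAut.conj g).toMonoidHom⁆ ≠ ⊥) : Cfsg.IsStandardSubgroup L := by
  have hxL : x ∈ Subgroup.centralizer (L : Set G) := by
    rw [Subgroup.mem_centralizer_iff]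
    intro l hl
    have := hLx hl
    rw [Subgroup.mem_centralizer_iff] at this
    exact (this x (Set.mem_singleton x)).symm
  refine ⟨(isQuasisimple_subgroupOf hLx).1 hL.2, ⟨?_, ?_⟩, hnc, ?_⟩
  · -- even order
    have h1 : orderOf (⟨x, hxL⟩ : Subgroup.centralizer (L : Set G)) = 2 := by
      rw [Subgroup.orderOf_mk]; exact hx
    have h2 := orderOf_dvd_natCard (⟨x, hxL⟩ : Subgroup.centralizer (L : Set G))
    rw [h1] at h2
    exact even_iff_two_dvd.2 h2
  · intro g hg
    by_contra hodd
    rw [Nat.not_odd_iff_even, even_iff_two_dvd] at hodd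
    obtain ⟨⟨y, hy⟩, hy2⟩ := exists_prime_orderOf_dvd_card' 2 hodd
    rw [Subgroup.orderOf_mk] at hy2
    obtain ⟨hyK, k, hkK, hky⟩ := hy
    have hky' : g * k * g⁻¹ = y := hky
    have hk2 : orderOf k = 2 := by
      have : orderOf ((MulAut.conj g) k) = orderOf k := MulEquiv.orderOf_eq _ _
      rw [← this]
      change orderOf (g * k * g⁻¹) = 2
      rw [hky']; exact hy2
    have h1 := conj_eq_of_involution L hne hnc k g hk2 hkK (by rw [hky']; exact hyK)
    exact hg (normalizer_le_normalizer_centralizer L (mem_normalizer_of_map_conj_eq L g h1))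
  · apply le_antisymm (normalizer_le_normalizer_centralizer L)
    intro g hg
    have hginv : g⁻¹ ∈ Subgroup.normalizer ((Subgroup.centralizer (L : Set G) : Subgroup G) : Set G) :=
      Subgroup.inv_mem _ hg
    have h1 : g⁻¹ * x * g⁻¹⁻¹ ∈ Subgroup.centralizer (L : Set G) :=
      (Subgroup.mem_normalizer_iff.1 hginv x).1 hxL
    have h2 : orderOf (g⁻¹ * x * g⁻¹⁻¹) = 2 := by
      have : orderOf ((MulAut.conj g⁻¹) x) = orderOf x := MulEquiv.orderOf_eq _ _
      rw [← hx, ← this]
      rfl
    have h3 : g * (g⁻¹ * x * g⁻¹⁻¹) * g⁻¹ = x := by group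
    have h4 := conj_eq_of_involution L hne hnc (g⁻¹ * x * g⁻¹⁻¹) g h2 h1 (by rw [h3]; exact hxL)
    exact mem_normalizer_of_map_conj_eq L g h4

end Cfsg.Agent.H2.StandardSub
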