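import Mathlib

/-!
# Minimal supplements (helper2)

* `prime_dvd_index_of_no_proper_supplement`: if the normal subgroup `N` of the finite group `K`
  has no proper supplement, every prime dividing `|K|` divides `|K : N|`.
* `exists_supplement_inf_eq_bot`: if `|G : N|` is coprime to `|M|` there is a supplement `H` of `N`
  with `H ⊓ M = ⊥`.
-/

set_option autoImplicit false

namespace Cfsg.Agent.H2.Supp

theorem prime_dvd_index_of_no_proper_supplement {K : Type*} [Group K] [Finite K]
    (N : Subgroup K) [N.Normal]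
    (hmin : ∀ X : Subgroup K, X ⊔ N = ⊤ → X = ⊤) (p : ℕ) [hp : Fact p.Prime]
    (hpK : p ∣ Nat.card K) : p ∣ N.index := by
  by_contra hpn
  let P : Sylow p K := default
  have hPN : (P : Subgroup K) ≤ N := by
    intro x hx
    rw [← QuotientGroup.eq_one_iff]
    obtain ⟨k, hk⟩ := P.2 ⟨x, hx⟩
    have hk' : x ^ p ^ k = 1 := congrArg Subtype.val hk
    have h1 : orderOf (x : K ⧸ N) ∣ p ^ k := by
      apply orderOf_dvd_of_pow_eq_one
      rw [← QuotientGroup.mk_pow, hk']
      rfl
    have h2 : orderOf (x : K ⧸ N) ∣ N.index := by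
      rw [Subgroup.index_eq_card]
      exact _root_.orderOf_dvd_natCard _
    have hc : (p ^ k).Coprime N.index :=
      ((Nat.Prime.coprime_iff_not_dvd hp.out).mpr hpn).pow_left k
    have := Nat.eq_one_of_dvd_coprimes hc h1 h2
    exact orderOf_eq_one_iff.mp this
  have hnorm : (P : Subgroup K).Normal := by
    have hF := Sylow.normalizer_sup_eq_top (P.subtype hPN)
    rw [Sylow.coe_subtype, Subgroup.map_subgroupOf_eq_of_le hPN] at hF
    exact Subgroup.normalizer_eq_top_iff.mp (hmin _ hF)
  have hcop : (Nat.card (P : Subgroup K)).Coprime (P : Subgroup K).index := P.card_coprime_index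
  obtain ⟨C, hC⟩ := Subgroup.exists_left_complement'_of_coprime hcop
  have hCtop : C = ⊤ := by
    apply hmin
    rw [eq_top_iff, ← hC.sup_eq_top]
    exact sup_le_sup_left hPN C
  have hcard := hC.card_mul_card
  rw [hCtop, Subgroup.card_top] at hcard
  have hP1 : Nat.card (P : Subgroup K) = 1 := by
    have hpos : 0 < Nat.card K := Nat.card_pos
    have h3 : Nat.card K * Nat.card (P : Subgroup K) = Nat.card K * 1 := by rw [hcard, mul_one]
    exact Nat.eq_of_mul_eq_mul_left hpos h3
  have hPbot : (P : Subgroup K) = ⊥ := Subgroup.card_eq_one.mp hP1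
  have := P.not_dvd_index
  rw [hPbot, Subgroup.index_bot] at this
  exact this hpK

theorem exists_supplement_inf_eq_bot {G : Type*} [Group G] [Finite G] (N M : Subgroup G)
    [N.Normal] (hcop : N.index.Coprime (Nat.card M)) :
    ∃ H : Subgroup G, H ⊔ N = ⊤ ∧ H ⊓ M = ⊥ := by
  obtain ⟨H, hHmin⟩ := exists_minimal_of_wellFoundedLT (fun H : Subgroup G => H ⊔ N = ⊤)
    ⟨⊤, top_sup_eq _⟩
  have hH : H ⊔ N = ⊤ := hHmin.prop
  refine ⟨H, hH, ?_⟩
  rw [← Subgroup.card_eq_one]
  by_contra hne
  obtain ⟨p, hp, hpd⟩ := Nat.exists_prime_and_dvd hne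
  have : Fact p.Prime := ⟨hp⟩
  have hpH : p ∣ Nat.card H := hpd.trans (Subgroup.card_dvd_of_le inf_le_left)
  have hpM : p ∣ Nat.card M := hpd.trans (Subgroup.card_dvd_of_le inf_le_right)
  have hmin' : ∀ X : Subgroup H, X ⊔ N.subgroupOf H = ⊤ → X = ⊤ := by
    intro X hX
    have h1 : X.map H.subtype ⊔ N = ⊤ := by
      have h2 := congrArg (Subgroup.map H.subtype) hX
      rw [Subgroup.map_sup, Subgroup.subgroupOf_map_subtype, ← MonoidHom.range_eq_map,
        Subgroup.range_subtype] at h2
      rw [eq_top_iff, ← hH]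
      refine sup_le ?_ le_sup_right
      exact h2.ge.trans (sup_le_sup_left inf_le_left _)
    have h3 : H ≤ X.map H.subtype := hHmin.le_of_le h1 (Subgroup.map_subtype_le X)
    rw [eq_top_iff]
    intro x _
    obtain ⟨x', hx', hxx⟩ := Subgroup.mem_map.mp (h3 x.2)
    have : x' = x := Subtype.ext hxx
    rw [← this]; exact hx'
  have hdvd := prime_dvd_index_of_no_proper_supplement (N.subgroupOf H) hmin' p hpH
  have hidx : (N.subgroupOf H).index = N.index := by
    change N.relIndex H = N.index
    rw [← Subgroup.relIndex_sup_right, hH, Subgroup.relIndex_top_right]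
  rw [hidx] at hdvd
  exact (Nat.Prime.not_coprime_iff_dvd.mpr ⟨p, hp, hdvd, hpM⟩) hcop

end Cfsg.Agent.H2.Supp
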