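import Mathlib
import Cfsg.Agent.H1.Card
import Cfsg.Agent.H1.CoprimeAction
import Cfsg.Agent.H2.ConjMap
import Cfsg.Agent.S0023
import Cfsg.Agent.S0024
import Cfsg.Agent.S0025

/-!
# Sylow numbers of `P K` with `K` a normal `p'`-group (helper2)

If `G = P K` with `K ⊴ G` a `p'`-group, then for every prime `q` the `q`-part of `n_p(G)` is
`≡ 1 mod p` (P. Hall).
-/

set_option autoImplicit false

namespace Cfsg.Agent.H2.SylCop

open Cfsg.Agent.H2 Cfsg.Agent.H1

variable {G : Type*} [Group G] [Finite G] {p : ℕ} [Fact p.Prime]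

theorem card_sylow_of_le (P : Sylow p G) (X : Subgroup G) (hPX : (P : Subgroup G) ≤ X) :
    Nat.card (Sylow p X) = (Subgroup.normalizer ((P : Subgroup G) : Set G)).relIndex X := by
  have h0 : Nat.card (Sylow p X) = (Subgroup.normalizer
      (((P.subtype hPX : Sylow p X) : Subgroup X) : Set X)).index :=
    Sylow.card_eq_index_normalizer _
  rw [h0, Sylow.coe_subtype, ← Subgroup.subgroupOf_normalizer_eq hPX]
  rfl

set_option maxHeartbeats 400000 in
theorem qpart_card_sylow_modEq_one (K : Subgroup G) [K.Normal] (P : Sylow p G)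
    (hK : ¬ p ∣ Nat.card K) (hPK : (P : Subgroup G) ⊔ K = ⊤) (q : ℕ) (hq : q.Prime) :
    q ^ (Nat.card (Sylow p G)).factorization q ≡ 1 [MOD p] := by
  have hp : p.Prime := Fact.out
  have : Fact q.Prime := ⟨hq⟩
  obtain ⟨A, hA⟩ : ∃ A, A = Subgroup.normalizer ((P : Subgroup G) : Set G) := ⟨_, rfl⟩
  have hPA : (P : Subgroup G) ≤ A := hA ▸ Subgroup.le_normalizer
  have hAK : A ≤ Subgroup.normalizer (K : Set G) := by
    rw [Subgroup.normalizer_eq_top]; exact le_top
  have hPnK : (P : Subgroup G) ≤ Subgroup.normalizer (K : Set G) := hPA.trans hAK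
  -- (1) n_p = A.relIndex K
  have hnp : Nat.card (Sylow p G) = (A ⊓ K).relIndex K := by
    have h0 : Nat.card (Sylow p G) = (Subgroup.normalizer ((P : Subgroup G) : Set G)).index :=
      Sylow.card_eq_index_normalizer P
    rw [h0, ← hA, relIndex_inf_eq_relIndex_sup A K hAK]
    have : A ⊔ K = ⊤ := by
      rw [eq_top_iff, ← hPK]; exact sup_le_sup_right hPA K
    rw [this, Subgroup.relIndex_top_right]
  -- coprimality and solvability
  have hcop : (Nat.card (P : Subgroup G)).Coprime (Nat.card K) := by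
    obtain ⟨n, hn⟩ := IsPGroup.iff_card.mp P.2
    rw [hn]
    exact ((Nat.Prime.coprime_iff_not_dvd hp).mpr hK).pow_left n
  have hnil : Group.IsNilpotent (P : Subgroup G) := P.2.isNilpotent
  have hsolv : Group.IsSolvable (P : Subgroup G) ∨ Group.IsSolvable K := Or.inl inferInstance
  -- (2) invariant Sylow q-subgroup
  obtain ⟨Q, hQ⟩ := Cfsg.Agent.S0023.result (P : Subgroup G) K hPnK hcop hsolv q
  obtain ⟨Q', hQ'⟩ : ∃ Q', Q' = (Q : Subgroup K).map K.subtype := ⟨_, rfl⟩
  rw [← hQ'] at hQ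
  have hQ'K : Q' ≤ K := hQ' ▸ Subgroup.map_subtype_le _
  -- (3) K ⊓ A centralizes P
  have hPKbot : (P : Subgroup G) ⊓ K = ⊥ := (Subgroup.disjoint_of_coprime_natCard hcop).eq_bot
  have hcent : ∀ k ∈ A ⊓ K, ∀ a ∈ (P : Subgroup G), k * a = a * k := by
    intro k hk a ha
    have h1 : k * a * k⁻¹ * a⁻¹ ∈ (P : Subgroup G) ⊓ K := by
      constructor
      · have hkA : k ∈ Subgroup.normalizer ((P : Subgroup G) : Set G) := hA ▸ hk.1
        have := (Subgroup.mem_normalizer_iff.mp hkA a).mp ha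
        exact (P : Subgroup G).mul_mem this ((P : Subgroup G).inv_mem ha)
      · have h2 : k * a * k⁻¹ * a⁻¹ = k * (a * k⁻¹ * a⁻¹) := by group
        rw [h2]
        exact K.mul_mem hk.2 (‹K.Normal›.conj_mem _ (K.inv_mem hk.2) a)
    rw [hPKbot, Subgroup.mem_bot] at h1
    have h3 : k * a * k⁻¹ = a := by
      have := mul_inv_eq_one.mp h1
      exact this
    calc k * a = (k * a * k⁻¹) * k := by group
      _ = a * k := by rw [h3]
  -- (4) a Sylow q-subgroup of A ⊓ K
  let R₀ : Sylow q ↥(A ⊓ K) := default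
  obtain ⟨R, hR⟩ : ∃ R, R = (R₀ : Subgroup ↥(A ⊓ K)).map (A ⊓ K).subtype := ⟨_, rfl⟩
  have hRAK : R ≤ A ⊓ K := hR ▸ Subgroup.map_subtype_le _
  have hRq : IsPGroup q R := by
    rw [hR]; exact R₀.2.map _
  have hRcard : Nat.card R = q ^ (Nat.card ↥(A ⊓ K)).factorization q := by
    rw [hR, Subgroup.card_map_of_injective (Subgroup.subtype_injective _)]
    exact R₀.card_eq_multiplicity
  have hPR : (P : Subgroup G) ≤ Subgroup.normalizer (R : Set G) := by
    intro a ha
    rw [Subgroup.mem_normalizer_iff]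
    intro r
    constructor
    · intro hr
      have := hcent r (hRAK hr) a ha
      have h2 : a * r * a⁻¹ = r := by rw [← this]; group
      rw [h2]; exact hr
    · intro hr
      have := hcent _ (hRAK hr) a ha
      have h2 : a * r * a⁻¹ = r := by
        have h3 : a * r * a⁻¹ * a = a * (a * r * a⁻¹) := this
        have h4 : a * r = a * (a * r * a⁻¹) := by rw [← h3]; group
        exact (mul_left_cancel h4).symm
      rw [← h2]; exact hr
  obtain ⟨Q₂, hRQ₂, hQ₂⟩ := Cfsg.Agent.S0025.result (P : Subgroup G) K hPnK hcop hsolv q R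
    (hRAK.trans inf_le_right) hRq hPR
  obtain ⟨c, hcP, hcQ⟩ := Cfsg.Agent.S0024.result (P : Subgroup G) K hPnK hcop hsolv q Q₂ Q hQ₂
    (hQ' ▸ hQ)
  have hcmap : ((Q₂ : Subgroup K).map K.subtype).map (MulAut.conj (c : G)).toMonoidHom = Q' := by
    rw [← sylow_smul_map_subtype, hQ', Sylow.smul_def, hcQ]
  have hcAK : (c : G) ∈ A ⊓ K := by
    refine ⟨?_, c.2⟩
    rw [hA]
    exact Subgroup.centralizer_le_normalizer _ hcP
  have hRc : R.map (MulAut.conj (c : G)).toMonoidHom ≤ A ⊓ Q' := by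
    refine le_inf ?_ ?_
    · have h1 : R.map (MulAut.conj (c : G)).toMonoidHom ≤
          (A ⊓ K).map (MulAut.conj (c : G)).toMonoidHom := Subgroup.map_mono hRAK
      rw [map_conj_eq_of_mem _ hcAK] at h1
      exact h1.trans inf_le_left
    · rw [← hcmap]; exact Subgroup.map_mono hRQ₂
  -- (5) |A ⊓ Q'| = q^v
  have hAQ'q : IsPGroup q ↥(A ⊓ Q' : Subgroup G) := by
    have h1 : IsPGroup q Q' := by rw [hQ']; exact Q.2.map _
    exact h1.to_le inf_le_right
  obtain ⟨j, hj⟩ := IsPGroup.iff_card.mp hAQ'q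
  have hjle : j ≤ (Nat.card ↥(A ⊓ K)).factorization q := by
    have h1 : q ^ j ∣ Nat.card ↥(A ⊓ K) := by
      rw [← hj]; exact Subgroup.card_dvd_of_le (inf_le_inf_left A hQ'K)
    exact (hq.pow_dvd_iff_le_factorization Nat.card_pos.ne').mp h1
  have hjge : (Nat.card ↥(A ⊓ K)).factorization q ≤ j := by
    have h1 : q ^ (Nat.card ↥(A ⊓ K)).factorization q ∣ q ^ j := by
      rw [← hj, ← hRcard, ← card_map_conj R (c : G)]
      exact Subgroup.card_dvd_of_le hRc
    exact (Nat.pow_dvd_pow_iff_le_right hq.one_lt).mp h1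
  have hjeq : j = (Nat.card ↥(A ⊓ K)).factorization q := le_antisymm hjle hjge
  -- (6) |Q'| = q^a
  have hQ'card : Nat.card Q' = q ^ (Nat.card K).factorization q := by
    rw [hQ', Subgroup.card_map_of_injective (Subgroup.subtype_injective _)]
    exact Q.card_eq_multiplicity
  -- (7)
  have c1 : Nat.card K = (A ⊓ K).relIndex K * Nat.card (A ⊓ K : Subgroup G) :=
    card_eq_relIndex_mul_card inf_le_right
  have c2 : Nat.card Q' = (A ⊓ Q').relIndex Q' * Nat.card (A ⊓ Q' : Subgroup G) :=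
    card_eq_relIndex_mul_card inf_le_right
  have hrpos : (A ⊓ K).relIndex K ≠ 0 := by
    intro h; rw [h, zero_mul] at c1; exact Nat.card_pos.ne' c1
  have hfac : (Nat.card K).factorization q =
      ((A ⊓ K).relIndex K).factorization q + (Nat.card ↥(A ⊓ K)).factorization q := by
    rw [c1, Nat.factorization_mul hrpos Nat.card_pos.ne']
    rfl
  have hr' : (A ⊓ Q').relIndex Q' = q ^ ((A ⊓ K).relIndex K).factorization q := by
    rw [hQ'card, hj, hjeq, hfac, pow_add] at c2
    exact (Nat.eq_of_mul_eq_mul_right (pow_pos hq.pos _) c2).symm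
  -- (8)
  obtain ⟨X, hX⟩ : ∃ X, X = (P : Subgroup G) ⊔ Q' := ⟨_, rfl⟩
  have hPX : (P : Subgroup G) ≤ X := hX ▸ le_sup_left
  have hQ'X : Q' ≤ X := hX ▸ le_sup_right
  have hXn : X ≤ Subgroup.normalizer (Q' : Set G) := by
    rw [hX]; exact sup_le hQ Subgroup.le_normalizer
  have hT : A ⊓ X ≤ Subgroup.normalizer (Q' : Set G) := inf_le_right.trans hXn
  have h8 := relIndex_inf_eq_relIndex_sup (A ⊓ X) Q' hT
  have h9 : (A ⊓ X) ⊔ Q' = X := by
    apply le_antisymm
    · exact sup_le inf_le_right hQ'X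
    · have e1 : (P : Subgroup G) ≤ A ⊓ X := le_inf hPA hPX
      have e2 : A ⊓ X ≤ (A ⊓ X) ⊔ Q' := le_sup_left
      have e3 : Q' ≤ (A ⊓ X) ⊔ Q' := le_sup_right
      have e4 : (P : Subgroup G) ⊔ Q' ≤ (A ⊓ X) ⊔ Q' := sup_le (e1.trans e2) e3
      exact hX.le.trans e4
  have h10 : (A ⊓ X) ⊓ Q' = A ⊓ Q' := by
    rw [inf_assoc, inf_eq_right.mpr hQ'X]
  rw [h9, h10, Subgroup.inf_relIndex_right A X] at h8
  have h11 := card_sylow_of_le P X hPX
  rw [← hA, ← h8, hr'] at h11
  rw [hnp, ← h11]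
  exact card_sylow_modEq_one p ↥X

end Cfsg.Agent.H2.SylCop
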