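import Mathlib
import Cfsg.Agent.H2.SylowProduct

/-!
# P. Hall's reduction for Sylow numbers (helper2)

A multiplicative property of `n_p(G)` holds for all groups of a subgroup- and quotient-closed class
as soon as it holds for the simple groups in the class and for the groups `G = P K` with `K ⊴ G` a
`p'`-group.
-/

set_option autoImplicit false

universe u

namespace Cfsg.Agent.H2.SylInd

open Cfsg.Agent.H2 Cfsg.Agent.H1

theorem exists_normal_of_not_simple (G : Type u) [Group G] [Nontrivial G] (h : ¬ IsSimpleGroup G) :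
    ∃ K : Subgroup G, K.Normal ∧ K ≠ ⊥ ∧ K ≠ ⊤ := by
  by_contra hcon
  push Not at hcon
  apply h
  refine ⟨fun K hK => ?_⟩
  by_cases hb : K = ⊥
  · exact Or.inl hb
  · exact Or.inr (hcon K hK hb)

theorem hall_induction (p : ℕ) [Fact p.Prime] (Φ : ℕ → Prop) (h1 : Φ 1)
    (hmul : ∀ a b, Φ a → Φ b → Φ (a * b))
    (C : ∀ (H : Type u) [Group H], Prop)
    (hCsub : ∀ (H : Type u) [Group H] (K : Subgroup H), C H → C K)
    (hCquot : ∀ (H : Type u) [Group H] (K : Subgroup H) [K.Normal], C H → C (H ⧸ K))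
    (hsimple : ∀ (H : Type u) [Group H] [Finite H], C H → IsSimpleGroup H →
      Φ (Nat.card (Sylow p H)))
    (hcop : ∀ (H : Type u) [Group H] [Finite H], C H → ∀ (K : Subgroup H) [K.Normal]
      (P : Sylow p H), ¬ p ∣ Nat.card K → (P : Subgroup H) ⊔ K = ⊤ → Φ (Nat.card (Sylow p H))) :
    ∀ (n : ℕ) (G : Type u) [Group G] [Finite G], Nat.card G = n → C G →
      Φ (Nat.card (Sylow p G)) := by
  intro n
  induction n using Nat.strong_induction_on with
  | _ n ih =>
  intro G _ _ hn hCG
  by_cases htriv : Subsingleton G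
  · have : Nat.card (Sylow p G) = 1 := by
      have : Subsingleton (Sylow p G) := by
        refine ⟨fun P Q => Sylow.ext ?_⟩
        exact Subsingleton.elim _ _
      exact Nat.card_unique
    rw [this]; exact h1
  rw [not_subsingleton_iff_nontrivial] at htriv
  by_cases hs : IsSimpleGroup G
  · exact hsimple G hCG hs
  by_cases hc1 : ∃ (K : Subgroup G) (_ : K.Normal) (P : Sylow p G), ¬ p ∣ Nat.card K ∧
      (P : Subgroup G) ⊔ K = ⊤
  · obtain ⟨K, hKn, P, hK, hPK⟩ := hc1
    exact hcop G hCG K P hK hPK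
  obtain ⟨K, hKn, hKbot, hKtop⟩ := exists_normal_of_not_simple G hs
  let P : Sylow p G := default
  obtain ⟨N, hN⟩ : ∃ N, N = ((P : Subgroup G) ⊔ K) ⊓
      Subgroup.normalizer (((P : Subgroup G) ⊓ K : Subgroup G) : Set G) := ⟨_, rfl⟩
  have hNn : N ≤ Subgroup.normalizer (((P : Subgroup G) ⊓ K : Subgroup G) : Set G) :=
    hN ▸ inf_le_right
  have hnorm : (((P : Subgroup G) ⊓ K).subgroupOf N).Normal :=
    Subgroup.normal_subgroupOf_of_le_normalizer hNn
  have hformula := SylProd.card_sylow_eq_mul K P N hN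
  rw [hformula]
  -- sizes
  have hcardK : Nat.card K < n := by
    rw [← hn]
    have h2 := Subgroup.card_mul_index K
    have h3 : K.index ≠ 1 := fun h => hKtop (Subgroup.index_eq_one.mp h)
    have h4 : K.index ≠ 0 := Subgroup.index_ne_zero_of_finite
    have h5 : 2 ≤ K.index := by omega
    have h6 : 0 < Nat.card K := Nat.card_pos
    nlinarith
  have hcardQ : Nat.card (G ⧸ K) < n := by
    rw [← hn]
    have h2 := Subgroup.card_mul_index K
    rw [Subgroup.index] at h2
    have h3 : Nat.card K ≠ 1 := fun h => hKbot (Subgroup.card_eq_one.mp h)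
    have h4 : 0 < Nat.card K := Nat.card_pos
    have h5 : 2 ≤ Nat.card K := by omega
    have h6 : 0 < Nat.card (G ⧸ K) := Nat.card_pos
    nlinarith
  have hcardN : Nat.card (↥N ⧸ ((P : Subgroup G) ⊓ K).subgroupOf N) < n := by
    rw [← hn]
    have hNG : Nat.card N ≤ Nat.card G := Subgroup.card_le_card_group N
    have h2 := Subgroup.card_mul_index (((P : Subgroup G) ⊓ K).subgroupOf N)
    rw [Subgroup.index] at h2
    by_cases hPKb : (P : Subgroup G) ⊓ K = ⊥
    · -- then `K` is a `p'`-group and `P ⊔ K ≠ ⊤`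
      have hK' : ¬ p ∣ Nat.card K := by
        have h3 := SylProd.not_dvd_relIndex_normal K P
        rw [← Subgroup.inf_relIndex_right, hPKb, Subgroup.relIndex_bot_left] at h3
        exact h3
      have hne : (P : Subgroup G) ⊔ K ≠ ⊤ := fun h => hc1 ⟨K, hKn, P, hK', h⟩
      have hNlt : Nat.card N < Nat.card G := by
        have h3 : N ≤ (P : Subgroup G) ⊔ K := hN ▸ inf_le_left
        have h4 : Nat.card ((P : Subgroup G) ⊔ K : Subgroup G) < Nat.card G := by
          have h5 := Subgroup.card_mul_index ((P : Subgroup G) ⊔ K)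
          have h6 : ((P : Subgroup G) ⊔ K).index ≠ 1 := fun h => hne (Subgroup.index_eq_one.mp h)
          have h7 : ((P : Subgroup G) ⊔ K).index ≠ 0 := Subgroup.index_ne_zero_of_finite
          have h8 : 2 ≤ ((P : Subgroup G) ⊔ K).index := by omega
          have h9 : 0 < Nat.card ((P : Subgroup G) ⊔ K : Subgroup G) := Nat.card_pos
          nlinarith
        exact lt_of_le_of_lt (Subgroup.card_le_of_le h3) h4
      have h10 : 0 < Nat.card (((P : Subgroup G) ⊓ K).subgroupOf N) := Nat.card_pos
      have h11 : Nat.card (↥N ⧸ ((P : Subgroup G) ⊓ K).subgroupOf N) ≤ Nat.card N := by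
        rw [← h2]; exact Nat.le_mul_of_pos_left _ h10
      omega
    · have h3 : Nat.card (((P : Subgroup G) ⊓ K).subgroupOf N) ≠ 1 := by
        intro h
        rw [Subgroup.card_eq_one, Subgroup.subgroupOf_eq_bot] at h
        have h4 : (P : Subgroup G) ⊓ K ≤ N := by
          rw [hN]
          refine le_inf (inf_le_left.trans le_sup_left) Subgroup.le_normalizer
        rw [disjoint_iff, inf_eq_left.mpr h4] at h
        exact hPKb h
      have h4 : 0 < Nat.card (((P : Subgroup G) ⊓ K).subgroupOf N) := Nat.card_pos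
      have h5 : 2 ≤ Nat.card (((P : Subgroup G) ⊓ K).subgroupOf N) := by omega
      have h6 : 0 < Nat.card (↥N ⧸ ((P : Subgroup G) ⊓ K).subgroupOf N) := Nat.card_pos
      nlinarith
  refine hmul _ _ (hmul _ _ ?_ ?_) ?_
  · exact ih _ hcardQ (G ⧸ K) rfl (hCquot G K hCG)
  · exact ih _ hcardK K rfl (hCsub G K hCG)
  · exact ih _ hcardN _ rfl (hCquot N _ (hCsub G N hCG))

end Cfsg.Agent.H2.SylInd
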