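import Mathlib

set_option autoImplicit false

namespace Cfsg.Agent.H2.SymNormal

open Equiv

variable {X : Type*} [Fintype X] [DecidableEq X]

theorem exists_notMem_of_card_lt (s : Finset X) (h : s.card < Fintype.card X) : ∃ c, c ∉ s := by
  by_contra hcon
  push Not at hcon
  have : s = Finset.univ := Finset.eq_univ_iff_forall.mpr hcon
  rw [this, Finset.card_univ] at h
  exact lt_irrefl _ h

theorem pow_odd_of_sq_eq_one {G : Type*} [Group G] (w : G) (hw : w * w = 1) {p : ℕ} (hp : Odd p) :
    w ^ p = w := by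
  obtain ⟨m, rfl⟩ := hp
  rw [pow_succ, pow_mul, pow_two, hw, one_pow, one_mul]

theorem dswap_ne_one {a b c d : X} (hab : a ≠ b) (hac : a ≠ c) (had : a ≠ d) :
    swap a b * swap c d ≠ 1 := by
  intro h
  have := DFunLike.congr_fun h a
  simp only [Perm.mul_apply, Perm.one_apply] at this
  rw [swap_apply_of_ne_of_ne hac had, swap_apply_left] at this
  exact hab this.symm

theorem dswap_sq {a b c d : X} (hac : a ≠ c) (had : a ≠ d) (hbc : b ≠ c)
    (hbd : b ≠ d) : (swap a b * swap c d) * (swap a b * swap c d) = 1 := by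
  ext v
  simp only [Perm.mul_apply, swap_apply_def, Perm.one_apply]
  split_ifs <;> simp_all

/-- From a 3-cycle in a normal subgroup, when there is a fourth point, an involution. -/
theorem exists_invol_of_three {T : Subgroup (Perm X)} [hT : T.Normal] {a b c : X} (hab : a ≠ b)
    (hac : a ≠ c) (hbc : b ≠ c) (hw : swap a b * swap a c ∈ T) (hX : 4 ≤ Fintype.card X) :
    ∃ v ∈ T, v ≠ 1 ∧ v * v = 1 := by
  obtain ⟨e, he⟩ := exists_notMem_of_card_lt ({a, b, c} : Finset X)
    (lt_of_le_of_lt Finset.card_le_three (by omega))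
  simp only [Finset.mem_insert, Finset.mem_singleton, not_or] at he
  obtain ⟨hea, heb, hec⟩ := he
  have h1 : swap c e * (swap a b * swap a c) * (swap c e)⁻¹ ∈ T := hT.conj_mem _ hw _
  have h2 : swap c e * (swap a b * swap a c) * (swap c e)⁻¹ = swap a b * swap a e := by
    have e1 : swap c e * (swap a b * swap a c) * (swap c e)⁻¹ =
        (swap c e * swap a b * (swap c e)⁻¹) * (swap c e * swap a c * (swap c e)⁻¹) := by group
    rw [e1, ← swap_apply_apply, ← swap_apply_apply, swap_apply_of_ne_of_ne hac (Ne.symm hea),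
      swap_apply_of_ne_of_ne hbc (Ne.symm heb), swap_apply_left]
  rw [h2] at h1
  have h3 : (swap a b * swap a c) * (swap a b * swap a e) = swap a e * swap b c := by
    ext v
    simp only [Perm.mul_apply, swap_apply_def]
    split_ifs <;> simp_all
  refine ⟨swap a e * swap b c, ?_, ?_, ?_⟩
  · rw [← h3]; exact T.mul_mem hw h1
  · exact dswap_ne_one (Ne.symm hea) hab hac
  · exact dswap_sq hab hac heb hec

/-- A nontrivial normal subgroup of a symmetric group of degree at least 3 is not of exponent `p`,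
`p` an odd prime, except for degree 3 and `p = 3`. -/
theorem exists_pow_ne_one (T : Subgroup (Perm X)) [hT : T.Normal] (hTne : T ≠ ⊥) (p : ℕ)
    (hp : p.Prime) (hodd : p ≠ 2) (hX : 3 ≤ Fintype.card X)
    (hex : ¬ (p = 3 ∧ Fintype.card X = 3)) : ∃ t ∈ T, t ^ p ≠ 1 := by
  have hpodd : Odd p := hp.odd_of_ne_two hodd
  -- involutions suffice
  have key : ∀ v ∈ T, v ≠ 1 → v * v = 1 → ∃ t ∈ T, t ^ p ≠ 1 := by
    intro v hv hv1 hv2
    exact ⟨v, hv, by rw [pow_odd_of_sq_eq_one v hv2 hpodd]; exact hv1⟩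
  -- three-cycles
  have key3 : ∀ a b c : X, a ≠ b → a ≠ c → b ≠ c → swap a b * swap a c ∈ T →
      ∃ t ∈ T, t ^ p ≠ 1 := by
    intro a b c hab hac hbc hw
    by_cases hp3 : p = 3
    · have h4 : 4 ≤ Fintype.card X := by
        rcases Nat.lt_or_ge (Fintype.card X) 4 with h | h
        · exact absurd ⟨hp3, by omega⟩ hex
        · exact h
      obtain ⟨v, hv, hv1, hv2⟩ := exists_invol_of_three hab hac hbc hw h4
      exact key v hv hv1 hv2
    · refine ⟨_, hw, ?_⟩
      intro h
      have h3 := (Perm.isThreeCycle_swap_mul_swap_same hab hac hbc).orderOf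
      have h5 : 3 ∣ p := by rw [← h3]; exact orderOf_dvd_of_pow_eq_one h
      have := (Nat.prime_dvd_prime_iff_eq Nat.prime_three hp).mp h5
      exact hp3 this.symm
  obtain ⟨⟨t, htT⟩, ht1⟩ := Subgroup.ne_bot_iff_exists_ne_one.mp hTne
  have ht1' : t ≠ 1 := fun h => ht1 (Subtype.ext h)
  obtain ⟨a, ha⟩ : ∃ a, t a ≠ a := by
    by_contra hcon
    push Not at hcon
    exact ht1' (Perm.ext hcon)
  obtain ⟨c, hc⟩ := exists_notMem_of_card_lt ({a, t a} : Finset X)
    (lt_of_le_of_lt Finset.card_le_two (by omega))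
  simp only [Finset.mem_insert, Finset.mem_singleton, not_or] at hc
  obtain ⟨hca, hcb⟩ := hc
  have hw : t * (swap a c * t⁻¹ * (swap a c)⁻¹) ∈ T :=
    T.mul_mem htT (hT.conj_mem _ (T.inv_mem htT) _)
  have hw2 : t * (swap a c * t⁻¹ * (swap a c)⁻¹) = swap (t a) (t c) * swap a c := by
    rw [swap_apply_apply, swap_inv]
    group
  rw [hw2] at hw
  have hdb : t c ≠ t a := fun h => hca (t.injective h)
  by_cases hdc : t c = c
  · -- swap b c * swap a c = swap c b * swap c a
    rw [hdc] at hw
    have : swap (t a) c * swap a c = swap c (t a) * swap c a := by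
      rw [swap_comm (t a) c, swap_comm a c]
    rw [this] at hw
    exact key3 c (t a) a hcb hca ha hw
  · by_cases hda : t c = a
    · rw [hda] at hw
      have : swap (t a) a * swap a c = swap a (t a) * swap a c := by
        rw [swap_comm (t a) a]
      rw [this] at hw
      exact key3 a (t a) c (Ne.symm ha) (Ne.symm hca) (Ne.symm hcb) hw
    · -- disjoint transpositions
      apply key _ hw
      · exact dswap_ne_one (Ne.symm hdb) ha (Ne.symm hcb)
      · exact dswap_sq ha (Ne.symm hcb) hda hdc

end Cfsg.Agent.H2.SymNormal
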