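import Mathlib
import Cfsg.Prelude.Def_OddOrderLocal
import Cfsg.Agent.H1.FrobeniusCount

/-!
# TI Hall subgroups: every `π(H)`-subgroup lies in a conjugate of `H`
-/

namespace Cfsg.Agent.H2.TIHall

open scoped Pointwise

variable {G : Type*} [Group G]

lemma mem_conj (H : Subgroup G) (g x : G) :
    x ∈ MulAut.conj g • H ↔ g⁻¹ * x * g ∈ H :=
  Cfsg.Agent.H1.mem_conj_smul_iff' H g x

/-- a subgroup of the normalizer of order coprime to the index lies in `H` -/
lemma le_of_le_normalizer_of_coprime [Finite G] (H K₁ : Subgroup G)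
    (h : K₁ ≤ Subgroup.normalizer (H : Set G)) (hc : (Nat.card K₁).Coprime H.index) : K₁ ≤ H := by
  obtain ⟨N, hN⟩ : ∃ N : Subgroup G, N = Subgroup.normalizer (H : Set G) := ⟨_, rfl⟩
  rw [← hN] at h
  have hHN : H ≤ N := hN ▸ Subgroup.le_normalizer
  have : (H.subgroupOf N).Normal := by
    rw [hN]; exact Subgroup.normal_in_normalizer
  have h1 : (H.subgroupOf N).relIndex (K₁.subgroupOf N) = 1 := by
    apply Nat.eq_one_of_dvd_coprimes hc
    · have := Subgroup.relIndex_dvd_card (H.subgroupOf N) (K₁.subgroupOf N)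
      rwa [Nat.card_congr (Subgroup.subgroupOfEquivOfLe h).toEquiv] at this
    · refine dvd_trans (Subgroup.relIndex_dvd_index_of_normal _ _) ?_
      exact Subgroup.relIndex_dvd_index_of_le hHN
  rw [Subgroup.relIndex_eq_one] at h1
  intro x hx
  have : (⟨x, h hx⟩ : N) ∈ H.subgroupOf N := h1 (by rw [Subgroup.mem_subgroupOf]; exact hx)
  rwa [Subgroup.mem_subgroupOf] at this

/-- TI property for conjugates -/
lemma conj_eq_of_mem (H : Subgroup G) (hTI : Cfsg.IsTISubset (H : Set G)) (a b x : G) (hx : x ≠ 1)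
    (ha : x ∈ MulAut.conj a • H) (hb : x ∈ MulAut.conj b • H) :
    MulAut.conj a • H = MulAut.conj b • H := by
  rw [mem_conj] at ha hb
  have hg : b⁻¹ * a ∈ Subgroup.normalizer (H : Set G) := by
    by_contra hg
    have := hTI (b⁻¹ * a) hg (a⁻¹ * x * a) ha (by
      have : b⁻¹ * a * (a⁻¹ * x * a) * (b⁻¹ * a)⁻¹ = b⁻¹ * x * b := by group
      rw [this]; exact hb)
    apply hx
    have h2 : x = a * (a⁻¹ * x * a) * a⁻¹ := by group
    rw [h2, this]; group
  ext y
  rw [mem_conj, mem_conj]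
  have h3 := (Subgroup.mem_normalizer_iff.mp hg) (a⁻¹ * y * a)
  have h4 : b⁻¹ * a * (a⁻¹ * y * a) * (b⁻¹ * a)⁻¹ = b⁻¹ * y * b := by group
  rw [h4] at h3
  exact h3


/-- an element of the normalizer of a conjugate, of order coprime to the index, lies in it -/
lemma mem_conj_of_normalizes [Finite G] (H : Subgroup G) (a k : G)
    (hk : (orderOf k).Coprime H.index)
    (hn : MulAut.conj (k * a) • H = MulAut.conj a • H) : k ∈ MulAut.conj a • H := by
  rw [mem_conj]
  have h1 : a⁻¹ * k * a ∈ Subgroup.normalizer (H : Set G) := by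
    rw [Subgroup.mem_normalizer_iff]
    intro h
    have h2 := congrArg (fun L : Subgroup G => a * h * a⁻¹ ∈ L) hn
    simp only [mem_conj, eq_iff_iff] at h2
    have e1 : (k * a)⁻¹ * (a * h * a⁻¹) * (k * a) = (a⁻¹ * k * a)⁻¹ * h * (a⁻¹ * k * a) := by group
    have e2 : a⁻¹ * (a * h * a⁻¹) * a = h := by group
    rw [e1, e2] at h2
    -- h2 : n⁻¹ h n ∈ H ↔ h ∈ H ; want h ∈ H ↔ n h n⁻¹ ∈ H
    have h3 := congrArg (fun L : Subgroup G => a * ((a⁻¹ * k * a) * h * (a⁻¹ * k * a)⁻¹) * a⁻¹ ∈ L) hn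
    simp only [mem_conj, eq_iff_iff] at h3
    have e3 : (k * a)⁻¹ * (a * ((a⁻¹ * k * a) * h * (a⁻¹ * k * a)⁻¹) * a⁻¹) * (k * a) = h := by group
    have e4 : a⁻¹ * (a * ((a⁻¹ * k * a) * h * (a⁻¹ * k * a)⁻¹) * a⁻¹) * a
        = (a⁻¹ * k * a) * h * (a⁻¹ * k * a)⁻¹ := by group
    rw [e3, e4] at h3
    exact h3
  have h5 : Subgroup.zpowers (a⁻¹ * k * a) ≤ H := by
    apply le_of_le_normalizer_of_coprime H _ (by rw [Subgroup.zpowers_le]; exact h1)
    rw [Nat.card_zpowers]
    have : orderOf (a⁻¹ * k * a) = orderOf k := by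
      have : a⁻¹ * k * a = MulAut.conj a⁻¹ k := by simp
      rw [this, MulEquiv.orderOf_eq]
    rw [this]; exact hk
  exact h5 (Subgroup.mem_zpowers _)

/-- every nonidentity element whose order involves only primes of `|H|` lies in a conjugate of `H` -/
lemma exists_mem_conj [Finite G] (H : Subgroup G)
    (hTI : Cfsg.IsTISubset (H : Set G)) (k : G) (hk1 : k ≠ 1)
    (hk : (orderOf k).Coprime H.index) : ∃ g : G, k ∈ MulAut.conj g • H := by
  have ho : orderOf k ≠ 1 := by rwa [Ne, orderOf_eq_one_iff]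
  obtain ⟨p, hp, hpk⟩ := Nat.exists_prime_and_dvd ho
  have : Fact p.Prime := ⟨hp⟩
  obtain ⟨m, hm⟩ := hpk
  have hkpos : 0 < orderOf k := orderOf_pos k
  have hmpos : 0 < m := by
    rcases Nat.eq_zero_or_pos m with h | h
    · rw [h, mul_zero] at hm; omega
    · exact h
  obtain ⟨k', hk'⟩ : ∃ k', k' = k ^ m := ⟨_, rfl⟩
  have hk'o : orderOf k' = p := by
    rw [hk', orderOf_pow' k hmpos.ne', hm, Nat.gcd_eq_right (dvd_mul_left m p)]
    exact Nat.mul_div_cancel _ hmpos
  have hk'1 : k' ≠ 1 := by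
    intro h; rw [h, orderOf_one] at hk'o; exact hp.one_lt.ne hk'o
  -- the p-group ⟨k'⟩ fixes a point of G ⧸ H
  have hpg : IsPGroup p (Subgroup.zpowers k') := by
    apply IsPGroup.of_card (n := 1)
    rw [Nat.card_zpowers, hk'o, pow_one]
  have hnd : ¬ p ∣ Nat.card (G ⧸ H) := by
    rw [← Subgroup.index_eq_card]
    intro hdiv
    have h1 : p ∣ orderOf k := ⟨m, hm⟩
    have := Nat.Coprime.eq_one_of_dvd (Nat.Coprime.coprime_dvd_left h1 hk) hdiv
    exact hp.one_lt.ne' this
  obtain ⟨q, hq⟩ := hpg.nonempty_fixed_point_of_prime_not_dvd_card (G ⧸ H) hnd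
  induction q using QuotientGroup.induction_on with
  | H g =>
    have h1 := hq ⟨k', Subgroup.mem_zpowers k'⟩
    have h2 : ((k' * g : G) : G ⧸ H) = (g : G ⧸ H) := h1
    rw [QuotientGroup.eq] at h2
    have h3 : k' ∈ MulAut.conj g • H := by
      rw [mem_conj]
      have := H.inv_mem h2
      have e : ((k' * g)⁻¹ * g)⁻¹ = g⁻¹ * k' * g := by group
      rwa [e] at this
    have h4 : k' ∈ MulAut.conj (k * g) • H := by
      rw [mem_conj]
      rw [mem_conj] at h3
      have hc : k⁻¹ * k' * k = k' := by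
        rw [hk']
        have : Commute k (k ^ m) := (Commute.refl k).pow_right m
        rw [mul_assoc, ← this.eq, inv_mul_cancel_left]
      have e : (k * g)⁻¹ * k' * (k * g) = g⁻¹ * (k⁻¹ * k' * k) * g := by group
      rw [e, hc]; exact h3
    have h5 := conj_eq_of_mem H hTI (k * g) g k' hk'1 h4 h3
    exact ⟨g, mem_conj_of_normalizes H g k hk h5⟩


/-- the intersection of `K` with a conjugate of `H` is a Frobenius complement in `K` unless it is
trivial or all of `K` -/
lemma isFrobeniusComplement_inf [Finite G] (H : Subgroup G) (hTI : Cfsg.IsTISubset (H : Set G))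
    (K : Subgroup G) (hK : (Nat.card K).Coprime H.index) (a : G)
    (hne : K ⊓ MulAut.conj a • H ≠ ⊥) (hnle : ¬ K ≤ MulAut.conj a • H) :
    Cfsg.IsFrobeniusComplement ((K ⊓ MulAut.conj a • H).subgroupOf K) := by
  refine ⟨?_, ?_, ?_⟩
  · intro h
    apply hne
    rw [eq_bot_iff]
    intro y hy
    have : (⟨y, hy.1⟩ : K) ∈ (K ⊓ MulAut.conj a • H).subgroupOf K := by
      rw [Subgroup.mem_subgroupOf]; exact hy
    rw [h, Subgroup.mem_bot] at this
    rw [Subgroup.mem_bot]
    exact congrArg Subtype.val this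
  · intro h
    rw [Subgroup.subgroupOf_eq_top] at h
    exact hnle (h.trans inf_le_right)
  · intro k hk
    rw [eq_bot_iff]
    intro x hx
    rw [Subgroup.mem_bot]
    by_contra hx1
    obtain ⟨hx2, hx3⟩ := Subgroup.mem_inf.mp hx
    rw [Subgroup.mem_subgroupOf] at hx2
    rw [Cfsg.Agent.H1.mem_conj_smul_iff', Subgroup.mem_subgroupOf] at hx3
    have hxa : (x : G) ∈ MulAut.conj a • H := hx2.2
    have hxb : (x : G) ∈ MulAut.conj ((k : G) * a) • H := by
      have h1 : (k : G)⁻¹ * (x : G) * (k : G) ∈ MulAut.conj a • H := by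
        have := hx3.2
        simp only [Subgroup.coe_mul, Subgroup.coe_inv] at this
        exact this
      rw [mem_conj] at h1 ⊢
      have e : ((k : G) * a)⁻¹ * (x : G) * ((k : G) * a) = a⁻¹ * ((k : G)⁻¹ * (x : G) * (k : G)) * a := by
        group
      rw [e]; exact h1
    have hx1' : (x : G) ≠ 1 := by
      intro h; apply hx1; exact Subtype.ext h
    have h5 := conj_eq_of_mem H hTI ((k : G) * a) a (x : G) hx1' hxb hxa
    have hko : (orderOf (k : G)).Coprime H.index := by
      apply Nat.Coprime.coprime_dvd_left _ hK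
      rw [Subgroup.orderOf_coe]
      exact orderOf_dvd_natCard k
    have h6 := mem_conj_of_normalizes H a (k : G) hko h5
    apply hk
    rw [Subgroup.mem_subgroupOf]
    exact ⟨k.2, h6⟩

/-- **Main theorem.** If `H` is a TI-subgroup and `K` is a subgroup of order coprime to the index
of `H`, then `K` lies in a conjugate of `H`. -/
theorem exists_le_conj [Finite G] (H : Subgroup G) (hTI : Cfsg.IsTISubset (H : Set G))
    (K : Subgroup G) (hK : (Nat.card K).Coprime H.index) :
    ∃ g : G, K ≤ MulAut.conj g • H := by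
  by_contra hcon
  push Not at hcon
  have hKo : ∀ k ∈ K, (orderOf k).Coprime H.index := by
    intro k hk
    apply Nat.Coprime.coprime_dvd_left _ hK
    have := orderOf_dvd_natCard (⟨k, hk⟩ : K)
    rwa [Subgroup.orderOf_mk] at this
  have hKbot : K ≠ ⊥ := by
    intro h
    apply hcon 1
    rw [h]; exact bot_le
  obtain ⟨k₀, hk₀, hk₀1⟩ : ∃ k₀ : G, k₀ ∈ K ∧ k₀ ≠ 1 := by
    obtain ⟨x, hx⟩ := (Subgroup.ne_bot_iff_exists_ne_one).mp hKbot
    exact ⟨(x : G), x.2, fun h => hx (Subtype.ext h)⟩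
  obtain ⟨a, ha⟩ := exists_mem_conj H hTI k₀ hk₀1 (hKo k₀ hk₀)
  have hAne : K ⊓ MulAut.conj a • H ≠ ⊥ := by
    intro h
    have : k₀ ∈ K ⊓ MulAut.conj a • H := ⟨hk₀, ha⟩
    rw [h, Subgroup.mem_bot] at this
    exact hk₀1 this
  have hA := isFrobeniusComplement_inf H hTI K hK a hAne (hcon a)
  have hcA := Cfsg.Agent.H1.card_frobeniusKernel _ hA
  -- index ≥ 2
  have hiA : 2 ≤ ((K ⊓ MulAut.conj a • H).subgroupOf K).index := by
    have h0 : ((K ⊓ MulAut.conj a • H).subgroupOf K).index ≠ 0 := Subgroup.index_ne_zero_of_finite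
    have h1 : ((K ⊓ MulAut.conj a • H).subgroupOf K).index ≠ 1 := by
      rw [Ne, Subgroup.index_eq_one]; exact hA.2.1
    omega
  -- a nonidentity element x of the kernel
  have hex : ∃ x : K, x ∈ Cfsg.frobeniusKernel ((K ⊓ MulAut.conj a • H).subgroupOf K) ∧ x ≠ 1 := by
    by_contra hno
    push Not at hno
    have hsub : Cfsg.frobeniusKernel ((K ⊓ MulAut.conj a • H).subgroupOf K) ⊆ {1} := by
      intro x hx; exact hno x hx
    have := Nat.card_mono (Set.finite_singleton (1 : K)) hsub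
    rw [hcA] at this
    have h1 : Nat.card ({1} : Set K) = 1 := by
      rw [Nat.card_coe_set_eq, Set.ncard_singleton]
    omega
  obtain ⟨x, hxker, hx1⟩ := hex
  have hx1' : (x : G) ≠ 1 := fun h => hx1 (Subtype.ext h)
  obtain ⟨b, hb⟩ := exists_mem_conj H hTI (x : G) hx1' (hKo _ x.2)
  have hBne : K ⊓ MulAut.conj b • H ≠ ⊥ := by
    intro h
    have : (x : G) ∈ K ⊓ MulAut.conj b • H := ⟨x.2, hb⟩
    rw [h, Subgroup.mem_bot] at this
    exact hx1' this
  have hB := isFrobeniusComplement_inf H hTI K hK b hBne (hcon b)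
  have hcB := Cfsg.Agent.H1.card_frobeniusKernel _ hB
  obtain ⟨A', hA'⟩ : ∃ A' : Subgroup K, A' = (K ⊓ MulAut.conj a • H).subgroupOf K := ⟨_, rfl⟩
  obtain ⟨B', hB'⟩ : ∃ B' : Subgroup K, B' = (K ⊓ MulAut.conj b • H).subgroupOf K := ⟨_, rfl⟩
  rw [← hA'] at hA hcA hiA hxker
  rw [← hB'] at hB hcB
  -- the complement of ker A' together with 1 lies in ker B'
  have hsub : insert (1 : K) (Cfsg.frobeniusKernel A')ᶜ ⊆ Cfsg.frobeniusKernel B' := by
    intro y hy
    rcases hy with rfl | hy
    · exact Or.inl rfl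
    · right
      intro g hg
      apply hy
      -- y lies in a conjugate of A' and in a conjugate of B'
      simp only [Cfsg.frobeniusKernel, Set.mem_compl_iff, Set.mem_ofPred_eq, not_or, not_forall,
        not_not] at hy
      obtain ⟨hy1, g', hg'⟩ := hy
      exfalso
      rw [Cfsg.Agent.H1.mem_conj_smul_iff', hA', Subgroup.mem_subgroupOf] at hg'
      rw [Cfsg.Agent.H1.mem_conj_smul_iff', hB', Subgroup.mem_subgroupOf] at hg
      have hy1' : (y : G) ≠ 1 := fun h => hy1 (Subtype.ext h)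
      have h1 : (y : G) ∈ MulAut.conj ((g' : G) * a) • H := by
        have this : (g' : G)⁻¹ * (y : G) * (g' : G) ∈ MulAut.conj a • H := by
          have h0 := hg'.2
          simp only [Subgroup.coe_mul, Subgroup.coe_inv] at h0
          exact h0
        rw [mem_conj] at this ⊢
        have e : ((g' : G) * a)⁻¹ * (y : G) * ((g' : G) * a)
            = a⁻¹ * ((g' : G)⁻¹ * (y : G) * (g' : G)) * a := by group
        rw [e]; exact this
      have h2 : (y : G) ∈ MulAut.conj ((g : G) * b) • H := by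
        have this : (g : G)⁻¹ * (y : G) * (g : G) ∈ MulAut.conj b • H := by
          have h0 := hg.2
          simp only [Subgroup.coe_mul, Subgroup.coe_inv] at h0
          exact h0
        rw [mem_conj] at this ⊢
        have e : ((g : G) * b)⁻¹ * (y : G) * ((g : G) * b)
            = b⁻¹ * ((g : G)⁻¹ * (y : G) * (g : G)) * b := by group
        rw [e]; exact this
      have h3 := conj_eq_of_mem H hTI _ _ (y : G) hy1' h1 h2
      -- then x lies in a conjugate of A'
      rcases hxker with h | h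
      · exact hx1 h
      · apply h (g⁻¹ * g')
        rw [Cfsg.Agent.H1.mem_conj_smul_iff', hA', Subgroup.mem_subgroupOf]
        refine ⟨SetLike.coe_mem _, ?_⟩
        simp only [Subgroup.coe_mul, Subgroup.coe_inv]
        change ((g : G)⁻¹ * (g' : G))⁻¹ * (x : G) * ((g : G)⁻¹ * (g' : G)) ∈ MulAut.conj a • H
        rw [mem_conj]
        -- x ∈ conj b • H = conj (g⁻¹ g' a) • H
        have h4 : MulAut.conj b • H = MulAut.conj ((g : G)⁻¹ * (g' : G) * a) • H := by
          have h5 := congrArg (fun L : Subgroup G => MulAut.conj (g : G)⁻¹ • L) h3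
          simp only [← mul_smul, ← map_mul] at h5
          rw [inv_mul_cancel_left, ← mul_assoc] at h5
          exact h5.symm
        rw [h4, mem_conj] at hb
        have e : a⁻¹ * (((g : G)⁻¹ * (g' : G))⁻¹ * (x : G) * ((g : G)⁻¹ * (g' : G))) * a
            = ((g : G)⁻¹ * (g' : G) * a)⁻¹ * (x : G) * ((g : G)⁻¹ * (g' : G) * a) := by group
        rw [e]; exact hb
  have hfin : (Cfsg.frobeniusKernel B').Finite := Set.toFinite _
  have h1 := Set.ncard_le_ncard hsub hfin
  have h2 : (1 : K) ∉ (Cfsg.frobeniusKernel A')ᶜ := by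
    intro h; exact h (Or.inl rfl)
  rw [Set.ncard_insert_of_notMem h2 (Set.toFinite _)] at h1
  have h3 := Set.ncard_add_ncard_compl (Cfsg.frobeniusKernel A')
  rw [← Nat.card_coe_set_eq (Cfsg.frobeniusKernel B'), hcB] at h1
  rw [← Nat.card_coe_set_eq (Cfsg.frobeniusKernel A'), hcA] at h3
  -- 2 * index ≤ |K|
  have hA2 : 2 * A'.index ≤ Nat.card K := by
    have h4 := A'.card_mul_index
    have h5 : 2 ≤ Nat.card A' := by
      have h6 : Nat.card A' ≠ 1 := by
        rw [Ne, Subgroup.card_eq_one]; exact hA.1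
      have h7 : 0 < Nat.card A' := Nat.card_pos
      omega
    nlinarith
  have hB2 : 2 * B'.index ≤ Nat.card K := by
    have h4 := B'.card_mul_index
    have h5 : 2 ≤ Nat.card B' := by
      have h6 : Nat.card B' ≠ 1 := by
        rw [Ne, Subgroup.card_eq_one]; exact hB.1
      have h7 : 0 < Nat.card B' := Nat.card_pos
      omega
    nlinarith
  omega

end Cfsg.Agent.H2.TIHall
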