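import Mathlib
import Cfsg.Prelude.Def_SporadicB
import Cfsg.Agent.Lib.Lead.ThreeTransp

set_option autoImplicit false
set_option linter.unusedVariables false
set_option linter.unusedSectionVars false

namespace Cfsg.Agent.H2.TTSym4

open Cfsg.Agent.Lead.TT Equiv

variable {G : Type*} [Group G] {D : Set G}

/-- `x'` is the unique other member of `D` commuting with `x`. -/
def IsPartner (D : Set G) (x x' : G) : Prop :=
  x' ∈ D ∧ x' ≠ x ∧ Commute x x' ∧ ∀ w ∈ D, Commute x w → w = x ∨ w = x'

theorem partner_conj (hD : Cfsg.IsThreeTranspositionClass D) {x x' : G} (h : IsPartner D x x')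
    (g : G) : IsPartner D (g * x * g⁻¹) (g * x' * g⁻¹) := by
  refine ⟨conj_mem hD h.1 g, ?_, ?_, ?_⟩
  · intro e
    apply h.2.1
    have h1 : g⁻¹ * (g * x' * g⁻¹) * g = g⁻¹ * (g * x * g⁻¹) * g := by rw [e]
    have e1 : g⁻¹ * (g * x' * g⁻¹) * g = x' := by group
    have e2 : g⁻¹ * (g * x * g⁻¹) * g = x := by group
    rw [e1, e2] at h1
    exact h1
  · exact (Commute.conj_iff g).mpr h.2.2.1
  · intro w hw hc
    have hw0 : g⁻¹ * w * g ∈ D := by
      have := conj_mem hD hw g⁻¹
      rwa [inv_inv] at this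
    have e1 : w = g * (g⁻¹ * w * g) * g⁻¹ := by group
    rw [e1] at hc
    have hc0 := (Commute.conj_iff g).mp hc
    rcases h.2.2.2 _ hw0 hc0 with e | e
    · left
      rw [e1, e]
    · right
      rw [e1, e]

theorem partner_symm (hP : ∀ x ∈ D, ∃ x', IsPartner D x x') {x x' : G} (hx : x ∈ D)
    (h : IsPartner D x x') : IsPartner D x' x := by
  obtain ⟨x'', h2⟩ := hP x' h.1
  rcases h2.2.2.2 x hx h.2.2.1.symm with e | e
  · exact absurd e.symm h.2.1
  · rw [← e] at h2
    exact h2

/-- the basic identities inside the `S₄` generated by `x, y, x'` -/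
theorem L12 (hD : Cfsg.IsThreeTranspositionClass D) (hP : ∀ x ∈ D, ∃ x', IsPartner D x x')
    {x x' y y' : G} (hx : x ∈ D) (hy : y ∈ D) (hxx' : IsPartner D x x') (hyy' : IsPartner D y y')
    (hxy : ¬ Commute x y) :
    (x * x') * y * (x * x') = y' ∧ x * (y * y') * x = (x * x') * (y * y') := by
  have hx' := hxx'.1
  have hne : x ≠ x' := fun e => hxx'.2.1 e.symm
  have hc := hxx'.2.2.1
  have hyx' : ¬ Commute y x' := by
    intro h
    have hs := partner_symm hP hx hxx'
    rcases hs.2.2.2 y hy h.symm with e | e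
    · exact hxy (e ▸ hc)
    · exact hxy (e ▸ Commute.refl x)
  obtain ⟨φ, hinj, h01, h12, h23⟩ := Cfsg.Agent.S5344.result hD.1 hx hy hx' hne hc hxy hyx'
  have hz := prod_sq hD.1 hx hx' hc
  have hzinv : (x * x')⁻¹ = x * x' := inv_eq_of_mul_eq_one_left hz
  have hw : (x * x') * y * (x * x') ∈ D := by
    have := conj_mem hD hy (x * x')
    rwa [hzinv] at this
  have hcw := conj_comm hD.1 hx hy hx' hne hc hxy hyx'
  have h1 : (x * x') * y * (x * x') = y' := by
    rcases hyy'.2.2.2 _ hw hcw.symm with e | e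
    · exfalso
      have key : (swap 0 1 * swap 2 3) * swap 1 2 * (swap 0 1 * swap 2 3) ≠
          (swap 1 2 : Perm (Fin 4)) := by decide
      apply key
      apply hinj
      simp only [map_mul, h01, h12, h23]
      exact e
    · exact e
  refine ⟨h1, ?_⟩
  have key : swap 0 1 * (swap 1 2 * ((swap 0 1 * swap 2 3) * swap 1 2 * (swap 0 1 * swap 2 3)))
      * swap 0 1 = (swap 0 1 * swap 2 3) *
        (swap 1 2 * ((swap 0 1 * swap 2 3) * swap 1 2 * (swap 0 1 * swap 2 3)) : Perm (Fin 4)) := by
    decide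
  have h2 := congrArg φ key
  simp only [map_mul, h01, h12, h23] at h2
  rw [← h1]
  exact h2

theorem L3 (hD : Cfsg.IsThreeTranspositionClass D) (hP : ∀ x ∈ D, ∃ x', IsPartner D x x')
    {x x' y y' : G} (hx : x ∈ D) (hy : y ∈ D) (hxx' : IsPartner D x x') (hyy' : IsPartner D y y')
    (hxy : ¬ Commute x y) : Commute (x * x') (y * y') := by
  have h1 := (L12 hD hP hx hy hxx' hyy' hxy).1
  have hz := prod_sq hD.1 hx hxx'.1 hxx'.2.2.1
  have h2 : (x * x') * y' * (x * x') = y := by
    rw [← h1]
    calc (x * x') * ((x * x') * y * (x * x')) * (x * x')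
        = ((x * x') * (x * x')) * y * ((x * x') * (x * x')) := by group
      _ = y := by rw [hz, one_mul, mul_one]
  have h3 : (x * x') * (y * y') * (x * x') = y * y' := by
    calc (x * x') * (y * y') * (x * x')
        = ((x * x') * y * (x * x')) * ((x * x') * y' * (x * x')) := by
          calc (x * x') * (y * y') * (x * x') = (x * x') * y * 1 * y' * (x * x') := by group
            _ = (x * x') * y * ((x * x') * (x * x')) * y' * (x * x') := by rw [hz]
            _ = _ := by group
      _ = y' * y := by rw [h1, h2]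
      _ = y * y' := (hyy'.2.2.1.eq).symm
  show (x * x') * (y * y') = (y * y') * (x * x')
  calc (x * x') * (y * y') = (x * x') * (y * y') * ((x * x') * (x * x')) := by rw [hz, mul_one]
    _ = ((x * x') * (y * y') * (x * x')) * (x * x') := by group
    _ = (y * y') * (x * x') := by rw [h3]

/-- no fourth pair -/
theorem no4 (hD : Cfsg.IsThreeTranspositionClass D) (hP : ∀ x ∈ D, ∃ x', IsPartner D x x')
    {a b c : G} (ha : a ∈ D) (hb : b ∈ D) (hc : c ∈ D) (hab : ¬ Commute a b)
    (hac : ¬ Commute a c) (hbc : ¬ Commute b c) : Commute a (b * c * b) := by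
  by_contra haf
  obtain ⟨a', haa'⟩ := hP a ha
  obtain ⟨b', hbb'⟩ := hP b hb
  obtain ⟨c', hcc'⟩ := hP c hc
  have hbi := inv_eq hD.1 hb
  have hf : b * c * b ∈ D := by
    have := conj_mem hD hc b
    rwa [hbi] at this
  have hff' : IsPartner D (b * c * b) (b * c' * b) := by
    have := partner_conj hD hcc' b
    rwa [hbi] at this
  have haa := sq_one hD.1 ha
  have hbb := sq_one hD.1 hb
  have hza := prod_sq hD.1 ha haa'.1 haa'.2.2.1
  -- z_f = b z_c b = z_b z_c
  have hzf : (b * c * b) * (b * c' * b) = (b * b') * (c * c') := by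
    rw [← (L12 hD hP hb hc hbb' hcc' hbc).2]
    calc (b * c * b) * (b * c' * b) = b * c * (b * b) * c' * b := by group
      _ = b * (c * c') * b := by rw [hbb]; group
  have e1 := (L12 hD hP ha hf haa' hff' haf).2
  have e2 := (L12 hD hP ha hb haa' hbb' hab).2
  have e3 := (L12 hD hP ha hc haa' hcc' hac).2
  have c1 := L3 hD hP ha hb haa' hbb' hab
  rw [hzf] at e1
  -- a (z_b z_c) a = (a z_b a)(a z_c a)
  have e4 : a * ((b * b') * (c * c')) * a = (b * b') * (c * c') := by
    calc a * ((b * b') * (c * c')) * a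
        = (a * (b * b') * a) * (a * (c * c') * a) := by
          calc a * ((b * b') * (c * c')) * a = a * (b * b') * 1 * (c * c') * a := by group
            _ = a * (b * b') * (a * a) * (c * c') * a := by rw [haa]
            _ = _ := by group
      _ = ((a * a') * (b * b')) * ((a * a') * (c * c')) := by rw [e2, e3]
      _ = ((b * b') * (a * a')) * ((a * a') * (c * c')) := by rw [c1.eq]
      _ = (b * b') * ((a * a') * (a * a')) * (c * c') := by group
      _ = (b * b') * (c * c') := by rw [hza, mul_one]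
  rw [e4] at e1
  -- so a * a' = 1
  have e5 : a * a' = 1 := by
    have h7 : (b * b') * (c * c') * ((b * b') * (c * c'))⁻¹ =
        (a * a') * ((b * b') * (c * c')) * ((b * b') * (c * c'))⁻¹ := by rw [← e1]
    rw [mul_inv_cancel, mul_assoc (a * a'), mul_inv_cancel, mul_one] at h7
    exact h7.symm
  apply haa'.2.1
  have e6 : a * a' = a * a := by rw [e5, haa]
  exact mul_left_cancel e6


theorem main (hD : Cfsg.IsThreeTranspositionClass D) (hD2 : ∃ a ∈ D, ∃ b ∈ D, a ≠ b) {d : G}
    (hd : d ∈ D) (hm : {y : G | y ∈ D ∧ Commute d y}.ncard = 2) :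
    Nonempty (G ≃* Perm (Fin 4)) := by
  have hPd : ∃ d', IsPartner D d d' := by
    obtain ⟨x, y, hxy, hs⟩ := Set.ncard_eq_two.mp hm
    have hdin : d ∈ {y : G | y ∈ D ∧ Commute d y} := ⟨hd, Commute.refl d⟩
    have hxin : x ∈ {y : G | y ∈ D ∧ Commute d y} := by rw [hs]; simp
    have hyin : y ∈ {y : G | y ∈ D ∧ Commute d y} := by rw [hs]; simp
    rw [hs] at hdin
    rcases hdin with e | e
    · refine ⟨y, hyin.1, fun h => hxy (by rw [← e, h]), hyin.2, ?_⟩
      intro w hw hc
      have hwin : w ∈ {y : G | y ∈ D ∧ Commute d y} := ⟨hw, hc⟩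
      rw [hs] at hwin
      rcases hwin with e' | e'
      · left; rw [e', e]
      · right; exact e'
    · rw [Set.mem_singleton_iff] at e
      refine ⟨x, hxin.1, fun h => hxy (by rw [← e, h]), hxin.2, ?_⟩
      intro w hw hc
      have hwin : w ∈ {y : G | y ∈ D ∧ Commute d y} := ⟨hw, hc⟩
      rw [hs] at hwin
      rcases hwin with e' | e'
      · right; exact e'
      · left
        rw [Set.mem_singleton_iff] at e'
        rw [e', e]
  have hP : ∀ x ∈ D, ∃ x', IsPartner D x x' := by
    intro x hx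
    obtain ⟨d', hdd'⟩ := hPd
    obtain ⟨d₀, hd₀, hcl⟩ := hD.2.1
    have h1 : IsConj d₀ d := by rw [hcl] at hd; exact hd
    have h2 : IsConj d₀ x := by rw [hcl] at hx; exact hx
    obtain ⟨g, hg⟩ := isConj_iff.mp (h1.symm.trans h2)
    exact ⟨g * d' * g⁻¹, hg ▸ partner_conj hD hdd' g⟩
  obtain ⟨a', haa'⟩ := hPd
  obtain ⟨b, hb, hab⟩ := exists_not_comm hD hD2 hd
  have hne : d ≠ a' := fun e => haa'.2.1 e.symm
  have hba' : ¬ Commute b a' := by
    intro h
    have hs := partner_symm hP hd haa'
    rcases hs.2.2.2 b hb h.symm with e | e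
    · exact hab (e ▸ haa'.2.2.1)
    · exact hab (e ▸ Commute.refl d)
  obtain ⟨φ, hinj, h01, h12, h23⟩ :=
    Cfsg.Agent.S5344.result hD.1 hd hb haa'.1 hne haa'.2.2.1 hab hba'
  have hbb := sq_one hD.1 hb
  have hbi := inv_eq hD.1 hb
  have hDr : D ⊆ (φ.range : Set G) := by
    intro c hc
    by_cases hac : Commute d c
    · rcases haa'.2.2.2 c hc hac with e | e
      · exact ⟨swap 0 1, by rw [h01, e]⟩
      · exact ⟨swap 2 3, by rw [h23, e]⟩
    · by_cases hbc : Commute b c
      · obtain ⟨b', hbb'⟩ := hP b hb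
        rcases hbb'.2.2.2 c hc hbc with e | e
        · exact ⟨swap 1 2, by rw [h12, e]⟩
        · have h1 := (L12 hD hP hd hb haa' hbb' hab).1
          refine ⟨(swap 0 1 * swap 2 3) * swap 1 2 * (swap 0 1 * swap 2 3), ?_⟩
          simp only [map_mul, h01, h12, h23]
          rw [h1, e]
      · have h4 := no4 hD hP hd hb hc hab hac hbc
        have hf : b * c * b ∈ D := by
          have := conj_mem hD hc b
          rwa [hbi] at this
        have hcf : c = b * (b * c * b) * b := by
          calc c = (b * b) * c * (b * b) := by rw [hbb, one_mul, mul_one]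
            _ = b * (b * c * b) * b := by group
        rcases haa'.2.2.2 _ hf h4 with e | e
        · refine ⟨swap 1 2 * swap 0 1 * swap 1 2, ?_⟩
          simp only [map_mul, h01, h12]
          rw [hcf, e]
        · refine ⟨swap 1 2 * swap 2 3 * swap 1 2, ?_⟩
          simp only [map_mul, h23, h12]
          rw [hcf, e]
  have hsurj : Function.Surjective φ := by
    have htop : (⊤ : Subgroup G) ≤ φ.range := by
      rw [← hD.2.2, Subgroup.closure_le]
      exact hDr
    intro g
    exact htop (Subgroup.mem_top g)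
  exact ⟨(MulEquiv.ofBijective φ ⟨hinj, hsurj⟩).symm⟩

end Cfsg.Agent.H2.TTSym4
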