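import Mathlib
import Cfsg.Prelude.Def_Local
import Cfsg.Agent.H1.Card
import Cfsg.Agent.H1.SylowConj
import Cfsg.Agent.H1.SylowMore
import Cfsg.Agent.H1.CoprimeAction

/-! Tightly embedded subgroups: the `N_S(T) = T × (N_S(T) ∩ Q)` lemma (helper2). -/

namespace Cfsg.Agent.H2.TightEmb

open scoped commutatorElement

set_option linter.unusedSectionVars false
set_option linter.unusedVariables false

variable {G : Type*} [Group G]

theorem two_of_mem {P : Subgroup G} (hP : IsPGroup 2 P) {x : G} (hx : x ∈ P) :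
    ∃ k : ℕ, x ^ 2 ^ k = 1 := by
  obtain ⟨k, hk⟩ := hP ⟨x, hx⟩
  exact ⟨k, by simpa using congrArg Subtype.val hk⟩

theorem eq_one_of_two_of_odd {K : Subgroup G} (hodd : Odd (Nat.card K)) {x : G} (hx : x ∈ K)
    (h2 : ∃ k : ℕ, x ^ 2 ^ k = 1) : x = 1 := by
  obtain ⟨k, hk⟩ := h2
  have hdvd : orderOf x ∣ Nat.card K := Subgroup.orderOf_dvd_natCard _ hx
  have hdvd2 : orderOf x ∣ 2 ^ k := orderOf_dvd_of_pow_eq_one hk
  obtain ⟨j, hj, hjeq⟩ := (Nat.dvd_prime_pow Nat.prime_two).1 hdvd2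
  rcases Nat.eq_zero_or_pos j with h0 | hpos
  · rw [h0, pow_zero] at hjeq
    exact orderOf_eq_one_iff.1 hjeq
  · exfalso
    have h2d : 2 ∣ orderOf x := by rw [hjeq]; exact dvd_pow_self 2 (by omega)
    have : 2 ∣ Nat.card K := h2d.trans hdvd
    rcases hodd with ⟨m, hm⟩
    omega

theorem exists_normalizer_not_mem [Finite G] {p : ℕ} [Fact p.Prime] {S H : Subgroup G}
    (hS : IsPGroup p S) (hHS : H ≤ S) (hne : H ≠ S) :
    ∃ s ∈ S, s ∈ Subgroup.normalizer (H : Set G) ∧ s ∉ H := by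
  have hnil : Group.IsNilpotent S := hS.isNilpotent
  have hlt : H.subgroupOf S < ⊤ := by
    rw [lt_top_iff_ne_top]
    intro h
    exact hne (le_antisymm hHS (Subgroup.subgroupOf_eq_top.mp h))
  have hnc := Group.normalizerCondition_of_isNilpotent (G := S) (H.subgroupOf S) hlt
  obtain ⟨x, hxn, hxT⟩ := SetLike.exists_of_lt hnc
  have hxT' : (x : G) ∉ H := fun h => hxT (Subgroup.mem_subgroupOf.mpr h)
  refine ⟨x, x.2, ?_, hxT'⟩
  rw [Subgroup.mem_normalizer_iff]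
  intro t
  have h1 := Subgroup.mem_normalizer_iff.mp hxn
  constructor
  · intro ht
    have := (h1 ⟨t, hHS ht⟩).mp (Subgroup.mem_subgroupOf.mpr ht)
    exact Subgroup.mem_subgroupOf.mp this
  · intro ht
    have htP : t ∈ S := by
      have h2 : (x : G)⁻¹ * ((x : G) * t * (x : G)⁻¹) * (x : G) = t := by group
      rw [← h2]
      exact S.mul_mem (S.mul_mem (S.inv_mem x.2) (hHS ht)) x.2
    have := (h1 ⟨t, htP⟩).mpr (Subgroup.mem_subgroupOf.mpr ht)
    exact Subgroup.mem_subgroupOf.mp this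

/-- tight embedding, elementwise: a nontrivial 2-element of `Q` conjugated into `Q` by `h` forces
`h ∈ N(Q)` -/
theorem te_normalizer [Finite G] {Q : Subgroup G} (hQ : Cfsg.IsTightlyEmbedded Q) (h x : G)
    (hx : x ∈ Q) (hx1 : x ≠ 1) (hx2 : ∃ k : ℕ, x ^ 2 ^ k = 1) (hc : h * x * h⁻¹ ∈ Q) :
    h ∈ Subgroup.normalizer (Q : Set G) := by
  by_contra hn
  have hodd := hQ.2 h hn
  have hy : h * x * h⁻¹ ∈ Q ⊓ Q.map (MulAut.conj h).toMonoidHom :=
    ⟨hc, ⟨x, hx, rfl⟩⟩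
  obtain ⟨k, hk⟩ := hx2
  have hyk : (h * x * h⁻¹) ^ 2 ^ k = 1 := by rw [conj_pow, hk]; group
  have := eq_one_of_two_of_odd hodd hy ⟨k, hyk⟩
  apply hx1
  have e : x = h⁻¹ * (h * x * h⁻¹) * h := by group
  rw [e, this]; group

theorem te_inter [Finite G] {Q : Subgroup G} (hQ : Cfsg.IsTightlyEmbedded Q) (g : G)
    (hg : g ∉ Subgroup.normalizer (Q : Set G)) (x : G) (hx : x ∈ Q)
    (hx' : x ∈ Q.map (MulAut.conj g).toMonoidHom) (hx2 : ∃ k : ℕ, x ^ 2 ^ k = 1) : x = 1 :=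
  eq_one_of_two_of_odd (hQ.2 g hg) (⟨hx, hx'⟩ : x ∈ Q ⊓ Q.map (MulAut.conj g).toMonoidHom) hx2

theorem te_normalizer_conj [Finite G] {Q : Subgroup G} (hQ : Cfsg.IsTightlyEmbedded Q) (g h x : G)
    (hx : x ∈ Q.map (MulAut.conj g).toMonoidHom) (hx1 : x ≠ 1) (hx2 : ∃ k : ℕ, x ^ 2 ^ k = 1)
    (hc : h * x * h⁻¹ ∈ Q.map (MulAut.conj g).toMonoidHom) :
    h ∈ Subgroup.normalizer ((Q.map (MulAut.conj g).toMonoidHom : Subgroup G) : Set G) := by
  rw [H1.mem_map_conj_iff] at hx hc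
  have h0 : g⁻¹ * h * g ∈ Subgroup.normalizer (Q : Set G) := by
    apply te_normalizer hQ (g⁻¹ * h * g) (g⁻¹ * x * g) hx
    · intro h1
      apply hx1
      have e : x = g * (g⁻¹ * x * g) * g⁻¹ := by group
      rw [e, h1]; group
    · obtain ⟨k, hk⟩ := hx2
      refine ⟨k, ?_⟩
      have e : g⁻¹ * x * g = g⁻¹ * x * g⁻¹⁻¹ := by group
      rw [e, conj_pow, hk]; group
    · have e : g⁻¹ * h * g * (g⁻¹ * x * g) * (g⁻¹ * h * g)⁻¹ = g⁻¹ * (h * x * h⁻¹) * g := by group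
      rw [e]; exact hc
  rw [Subgroup.mem_normalizer_iff] at h0 ⊢
  intro y
  rw [H1.mem_map_conj_iff, H1.mem_map_conj_iff, h0 (g⁻¹ * y * g)]
  have e : g⁻¹ * h * g * (g⁻¹ * y * g) * (g⁻¹ * h * g)⁻¹ = g⁻¹ * (h * y * h⁻¹) * g := by group
  rw [e]

/-- structure of `N_S(T)` -/
theorem struct {Q Q' T S : Subgroup G}
    (hi : ∀ x, x ∈ Q → x ∈ Q' → (∃ k : ℕ, x ^ 2 ^ k = 1) → x = 1)
    (hTQ' : T ≤ Q') (hTN : T ≤ Subgroup.normalizer (Q : Set G)) (hT2 : IsPGroup 2 T)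
    (hTS : T ≤ S) (hS : S ≤ Q ⊔ T) :
    T ⊓ Q = ⊥ ∧ T ⊓ (S ⊓ Subgroup.normalizer (T : Set G) ⊓ Q) = ⊥ ∧
      ⁅T, S ⊓ Subgroup.normalizer (T : Set G) ⊓ Q⁆ = ⊥ ∧
      T ⊔ (S ⊓ Subgroup.normalizer (T : Set G) ⊓ Q) = S ⊓ Subgroup.normalizer (T : Set G) := by
  have h1 : T ⊓ Q = ⊥ := by
    rw [eq_bot_iff]
    intro x hx
    rw [Subgroup.mem_inf] at hx
    rw [Subgroup.mem_bot]
    exact hi x hx.2 (hTQ' hx.1) (two_of_mem hT2 hx.1)
  refine ⟨h1, ?_, ?_, ?_⟩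
  · rw [eq_bot_iff, ← h1]
    exact inf_le_inf le_rfl inf_le_right
  · rw [eq_bot_iff, Subgroup.commutator_le]
    intro t ht x hx
    rw [Subgroup.mem_inf, Subgroup.mem_inf] at hx
    obtain ⟨⟨hxS, hxN⟩, hxQ⟩ := hx
    rw [← h1, Subgroup.mem_inf]
    constructor
    · have : x * t⁻¹ * x⁻¹ ∈ T := (Subgroup.mem_normalizer_iff.1 hxN t⁻¹).1 (T.inv_mem ht)
      have e : ⁅t, x⁆ = t * (x * t⁻¹ * x⁻¹) := by rw [commutatorElement_def]; group
      rw [e]; exact T.mul_mem ht this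
    · have : t * x * t⁻¹ ∈ Q := (Subgroup.mem_normalizer_iff.1 (hTN ht) x).1 hxQ
      have e : ⁅t, x⁆ = (t * x * t⁻¹) * x⁻¹ := by rw [commutatorElement_def]
      rw [e]; exact Q.mul_mem this (Q.inv_mem hxQ)
  · apply le_antisymm
    · exact sup_le (le_inf hTS Subgroup.le_normalizer) inf_le_left
    · intro s hs
      rw [Subgroup.mem_inf] at hs
      obtain ⟨q, hq, t, ht, rfl⟩ := (H1.mem_sup_of_le_normalizer Q T hTN).1 (hS hs.1)
      have hqS : q ∈ S := by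
        have e : q = q * t * t⁻¹ := by group
        rw [e]; exact S.mul_mem hs.1 (S.inv_mem (hTS ht))
      have hqN : q ∈ Subgroup.normalizer (T : Set G) := by
        have e : q = q * t * t⁻¹ := by group
        rw [e]; exact Subgroup.mul_mem _ hs.2 (Subgroup.inv_mem _ (Subgroup.le_normalizer ht))
      exact Subgroup.mul_mem _ (Subgroup.mem_sup_right ⟨⟨hqS, hqN⟩, hq⟩) (Subgroup.mem_sup_left ht)

/-- if `N_S(T) < S`, then `T` embeds in `N_S(T) ∩ Q` -/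
theorem embed [Finite G] {Q Q' T S : Subgroup G}
    (hi : ∀ x, x ∈ Q → x ∈ Q' → (∃ k : ℕ, x ^ 2 ^ k = 1) → x = 1)
    (hn : ∀ h x : G, x ∈ Q' → x ≠ 1 → (∃ k : ℕ, x ^ 2 ^ k = 1) → h * x * h⁻¹ ∈ Q' →
      h ∈ Subgroup.normalizer (Q' : Set G))
    (hTQ' : T ≤ Q') (hTN : T ≤ Subgroup.normalizer (Q : Set G))
    (hTS : T ≤ S) (hS : S ≤ Q ⊔ T) (hS2 : IsPGroup 2 S)
    (hlt : ¬ S ≤ Subgroup.normalizer (T : Set G)) :
    ∃ f : T →* ↥(S ⊓ Subgroup.normalizer (T : Set G) ⊓ Q), Function.Injective f := by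
  have hT2 : IsPGroup 2 T := hS2.to_le hTS
  obtain ⟨h1, h2, h3, h4⟩ := struct hi hTQ' hTN hT2 hTS hS
  obtain ⟨X, hX⟩ : ∃ X : Subgroup G, X = S ⊓ Subgroup.normalizer (T : Set G) ⊓ Q := ⟨_, rfl⟩
  rw [← hX] at h2 h3 h4 ⊢
  have hXS : X ≤ S := by rw [hX]; exact inf_le_left.trans inf_le_left
  have hXN : X ≤ Subgroup.normalizer (T : Set G) := by
    rw [hX]; exact inf_le_left.trans inf_le_right
  have hXQ : X ≤ Q := by rw [hX]; exact inf_le_right
  have hHS : T ⊔ X ≤ S := sup_le hTS hXS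
  have hHne : T ⊔ X ≠ S := by
    intro h
    apply hlt
    rw [← h, h4]; exact inf_le_right
  obtain ⟨s, hsS, hsN, hsH⟩ := exists_normalizer_not_mem hS2 hHS hHne
  obtain ⟨r, hrQ, t, ht, rfl⟩ := (H1.mem_sup_of_le_normalizer Q T hTN).1 (hS hsS)
  have hrS : r ∈ S := by
    have e : r = r * t * t⁻¹ := by group
    rw [e]; exact S.mul_mem hsS (S.inv_mem (hTS ht))
  have hrN : r ∈ Subgroup.normalizer ((T ⊔ X : Subgroup G) : Set G) := by
    have e : r = r * t * t⁻¹ := by group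
    rw [e]
    exact Subgroup.mul_mem _ hsN (Subgroup.inv_mem _ (Subgroup.le_normalizer (Subgroup.mem_sup_left ht)))
  have hrH : r ∉ T ⊔ X := fun h => hsH (Subgroup.mul_mem _ h (Subgroup.mem_sup_left ht))
  have hconj : ∀ u ∈ T, r * u * r⁻¹ ∈ T ⊔ X := fun u hu =>
    (Subgroup.mem_normalizer_iff.1 hrN u).1 (Subgroup.mem_sup_left hu)
  have hA : ∀ u ∈ T, r * u * r⁻¹ ∈ T → u = 1 := by
    intro u hu hru
    by_contra hu1
    have hrQ' : r ∈ Subgroup.normalizer (Q' : Set G) :=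
      hn r u (hTQ' hu) hu1 (two_of_mem hT2 hu) (hTQ' hru)
    have hrT : r ∈ Subgroup.normalizer (T : Set G) := by
      apply H1.mem_normalizer_of_map_conj_le
      rintro _ ⟨v, hv, rfl⟩
      show r * v * r⁻¹ ∈ T
      have hvH := hconj v hv
      obtain ⟨t', ht', x', hx', e⟩ := (H1.mem_sup_of_le_normalizer T X hXN).1 hvH
      have hx'Q' : x' ∈ Q' := by
        have e' : x' = t'⁻¹ * (r * v * r⁻¹) := by rw [e]; group
        rw [e']
        exact Q'.mul_mem (Q'.inv_mem (hTQ' ht'))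
          ((Subgroup.mem_normalizer_iff.1 hrQ' v).1 (hTQ' hv))
      have hx'1 : x' = 1 := hi x' (hXQ hx') hx'Q' (two_of_mem hS2 (hXS hx'))
      rw [e, hx'1, mul_one]; exact ht'
    exact hrH (Subgroup.mem_sup_right (by rw [hX]; exact ⟨⟨hrS, hrT⟩, hrQ⟩))
  have hcomm : ∀ (a : T) (b : X), Commute ((T.subtype) a) ((X.subtype) b) := by
    intro a b
    have hle := Subgroup.commutator_eq_bot_iff_le_centralizer.1 h3
    have := Subgroup.mem_centralizer_iff.1 (hle a.2) b b.2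
    exact this.symm
  obtain ⟨ψ, hψ⟩ : ∃ ψ : T × X →* G, ψ = MonoidHom.noncommCoprod T.subtype X.subtype hcomm :=
    ⟨_, rfl⟩
  have hψapp : ∀ p : T × X, ψ p = (p.1 : G) * (p.2 : G) := by
    intro p; rw [hψ]; rfl
  have hψinj : Function.Injective ψ := by
    rw [hψ, MonoidHom.noncommCoprod_injective]
    refine ⟨T.subtype_injective, X.subtype_injective, ?_⟩
    rw [Subgroup.range_subtype, Subgroup.range_subtype, disjoint_iff]; exact h2
  have hψrange : ψ.range = T ⊔ X := by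
    rw [hψ, MonoidHom.noncommCoprod_range, Subgroup.range_subtype, Subgroup.range_subtype]
  have hex : ∀ u : T, ∃ p : T × X, ψ p = r * (u : G) * r⁻¹ := by
    intro u
    have := hconj u u.2
    rw [← hψrange] at this
    exact this
  choose pf hpf using hex
  have hpf_mul : ∀ u v : T, pf (u * v) = pf u * pf v := by
    intro u v
    apply hψinj
    rw [map_mul, hpf, hpf, hpf]
    push_cast
    group
  have hpf_one : pf 1 = 1 := by
    apply hψinj
    rw [hpf, map_one]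
    push_cast
    group
  refine ⟨(MonoidHom.snd T X).comp ⟨⟨pf, hpf_one⟩, hpf_mul⟩, ?_⟩
  rw [injective_iff_map_eq_one]
  intro u hu
  have hp2 : (pf u).2 = 1 := hu
  have h5 := hpf u
  rw [hψapp, hp2] at h5
  have : r * (u : G) * r⁻¹ ∈ T := by
    rw [← h5]
    simp
  exact Subtype.ext (hA u u.2 this)

theorem odd_relIndex_of_sup [Finite G] {Q T S : Subgroup G}
    (hTN : T ≤ Subgroup.normalizer (Q : Set G)) (hodd : ¬ 2 ∣ S.relIndex (Q ⊔ T)) :
    ¬ 2 ∣ S.relIndex Q := by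
  intro h
  exact hodd (h.trans (H1.relIndex_dvd_relIndex_of_normal S Q (Q ⊔ T) le_sup_left
    (sup_le Subgroup.le_normalizer hTN)))

theorem card_dvd_inf [Finite G] {S K P : Subgroup G} (hodd : ¬ 2 ∣ S.relIndex K)
    (hP : IsPGroup 2 P) (hPK : Nat.card P ∣ Nat.card K) : Nat.card P ∣ Nat.card ↥(S ⊓ K) := by
  have h1 : Nat.card K = (S ⊓ K).relIndex K * Nat.card ↥(S ⊓ K) :=
    H1.card_eq_relIndex_mul_card inf_le_right
  rw [Subgroup.inf_relIndex_right] at h1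
  obtain ⟨a, ha⟩ := hP.exists_card_eq
  have hcop : (Nat.card P).Coprime (S.relIndex K) := by
    rw [ha]
    exact Nat.Coprime.pow_left a ((Nat.Prime.coprime_iff_not_dvd Nat.prime_two).2 hodd)
  rw [h1] at hPK
  exact hcop.dvd_of_dvd_mul_left hPK

theorem exists_sylow_ge [Finite G] {K P : Subgroup G} (hPK : P ≤ K) (hP : IsPGroup 2 P) :
    ∃ S : Subgroup G, P ≤ S ∧ S ≤ K ∧ IsPGroup 2 S ∧ ¬ 2 ∣ S.relIndex K := by
  have : Fact (Nat.Prime 2) := ⟨Nat.prime_two⟩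
  obtain ⟨S, hS⟩ := (hP.comap_subtype (K := K)).exists_le_sylow
  refine ⟨(S : Subgroup K).map K.subtype, ?_, ?_, ?_, ?_⟩
  · intro t ht
    exact ⟨⟨t, hPK ht⟩, hS (Subgroup.mem_subgroupOf.2 ht), rfl⟩
  · rintro _ ⟨x, _, rfl⟩
    exact x.2
  · exact S.isPGroup'.map _
  · have : ((S : Subgroup K).map K.subtype).subgroupOf K = (S : Subgroup K) := by
      ext x
      rw [Subgroup.mem_subgroupOf]
      constructor
      · rintro ⟨y, hy, hxy⟩
        have : y = x := Subtype.ext hxy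
        rwa [← this]
      · intro hx
        exact ⟨x, hx, rfl⟩
    unfold Subgroup.relIndex
    rw [this]
    exact S.not_dvd_index

theorem eq_of_sylow_le [Finite G] {T T' B : Subgroup G} (hTT' : T ≤ T') (hT'B : T' ≤ B)
    (hT' : IsPGroup 2 T') (hodd : ¬ 2 ∣ T.relIndex B) : T = T' := by
  apply le_antisymm hTT'
  rw [← Subgroup.relIndex_eq_one]
  have h1 := Subgroup.relIndex_mul_relIndex T T' B hTT' hT'B
  have h2 : Nat.card T' = T.relIndex T' * Nat.card T := H1.card_eq_relIndex_mul_card hTT'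
  obtain ⟨a, ha⟩ := hT'.exists_card_eq
  have h3 : T.relIndex T' ∣ 2 ^ a := by rw [← ha, h2]; exact Dvd.intro _ rfl
  obtain ⟨j, hj, hjeq⟩ := (Nat.dvd_prime_pow Nat.prime_two).1 h3
  rcases Nat.eq_zero_or_pos j with h0 | hpos
  · rw [hjeq, h0, pow_zero]
  · exfalso
    apply hodd
    rw [← h1, hjeq]
    exact Dvd.dvd.mul_right (dvd_pow_self 2 (by omega)) _

theorem main [Finite G] (Q : Subgroup G) (hQ : Cfsg.IsTightlyEmbedded Q)
    (g : G) (hg : g ∉ Subgroup.normalizer (Q : Set G))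
    (T : Subgroup G) (hT1 : T ≠ ⊥)
    (hT : T ≤ Q.map (MulAut.conj g).toMonoidHom ⊓ Subgroup.normalizer (Q : Set G))
    (hTsyl : IsPGroup 2 T ∧
      ¬ 2 ∣ T.relIndex (Q.map (MulAut.conj g).toMonoidHom ⊓ Subgroup.normalizer (Q : Set G)))
    (S : Subgroup G) (hTS : T ≤ S) (hS : S ≤ Q ⊔ T)
    (hSsyl : IsPGroup 2 S ∧ ¬ 2 ∣ S.relIndex (Q ⊔ T)) :
    T ⊓ Q = ⊥ ∧
      T ⊓ (S ⊓ Subgroup.normalizer (T : Set G) ⊓ Q) = ⊥ ∧
      ⁅T, S ⊓ Subgroup.normalizer (T : Set G) ⊓ Q⁆ = ⊥ ∧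
      T ⊔ (S ⊓ Subgroup.normalizer (T : Set G) ⊓ Q) = S ⊓ Subgroup.normalizer (T : Set G) ∧
      Nonempty (↥(S ⊓ Subgroup.normalizer (T : Set G) ⊓ Q) ≃* T) := by
  obtain ⟨Q', hQ'⟩ : ∃ Q' : Subgroup G, Q' = Q.map (MulAut.conj g).toMonoidHom := ⟨_, rfl⟩
  rw [← hQ'] at hT hTsyl
  have hTQ' : T ≤ Q' := hT.trans inf_le_left
  have hTN : T ≤ Subgroup.normalizer (Q : Set G) := hT.trans inf_le_right
  have hi : ∀ x, x ∈ Q → x ∈ Q' → (∃ k : ℕ, x ^ 2 ^ k = 1) → x = 1 :=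
    fun x hx hx' h2 => te_inter hQ g hg x hx (by rw [← hQ']; exact hx') h2
  have hi' : ∀ x, x ∈ Q' → x ∈ Q → (∃ k : ℕ, x ^ 2 ^ k = 1) → x = 1 :=
    fun x hx' hx h2 => hi x hx hx' h2
  have hn' : ∀ h x : G, x ∈ Q' → x ≠ 1 → (∃ k : ℕ, x ^ 2 ^ k = 1) → h * x * h⁻¹ ∈ Q' →
      h ∈ Subgroup.normalizer (Q' : Set G) := by
    intro h x hx hx1 hx2 hc
    rw [hQ'] at hx hc ⊢
    exact te_normalizer_conj hQ g h x hx hx1 hx2 hc
  have hn : ∀ h x : G, x ∈ Q → x ≠ 1 → (∃ k : ℕ, x ^ 2 ^ k = 1) → h * x * h⁻¹ ∈ Q →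
      h ∈ Subgroup.normalizer (Q : Set G) := te_normalizer hQ
  obtain ⟨h1, h2, h3, h4⟩ := struct hi hTQ' hTN hTsyl.1 hTS hS
  refine ⟨h1, h2, h3, h4, ?_⟩
  obtain ⟨X, hX⟩ : ∃ X : Subgroup G, X = S ⊓ Subgroup.normalizer (T : Set G) ⊓ Q := ⟨_, rfl⟩
  rw [← hX] at h2 h3 h4 ⊢
  have hXS : X ≤ S := by rw [hX]; exact inf_le_left.trans inf_le_left
  have hXN : X ≤ Subgroup.normalizer (T : Set G) := by
    rw [hX]; exact inf_le_left.trans inf_le_right
  have hXQ : X ≤ Q := by rw [hX]; exact inf_le_right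
  have hX2 : IsPGroup 2 X := hSsyl.1.to_le hXS
  have hSQodd : ¬ 2 ∣ S.relIndex Q := odd_relIndex_of_sup hTN hSsyl.2
  have hcardQ' : Nat.card Q' = Nat.card Q := by
    rw [hQ']; exact Subgroup.card_map_of_injective (MulAut.conj g).injective
  have hA : (¬ S ≤ Subgroup.normalizer (T : Set G)) →
      ∃ f : T →* X, Function.Injective f := by
    intro hlt
    rw [hX]
    exact embed hi hn' hTQ' hTN hTS hS hSsyl.1 hlt
  have hle1 : Nat.card T ≤ Nat.card X := by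
    by_cases hc : S ≤ Subgroup.normalizer (T : Set G)
    · have hXeq : X = S ⊓ Q := by rw [hX, inf_eq_left.2 hc]
      rw [hXeq]
      apply Nat.le_of_dvd Nat.card_pos
      apply card_dvd_inf hSQodd hTsyl.1
      rw [← hcardQ']; exact Subgroup.card_dvd_of_le hTQ'
    · obtain ⟨f, hf⟩ := hA hc
      exact Nat.card_le_card_of_injective f hf
  have hX1 : X ≠ ⊥ := by
    intro h
    have hc1 : Nat.card X = 1 := by rw [h]; exact Subgroup.card_bot
    have h1T : Nat.card T ≤ 1 := by omega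
    exact hT1 ((Subgroup.card_le_one_iff_eq_bot T).1 h1T)
  obtain ⟨t0, ht0, ht01⟩ : ∃ t ∈ T, t ≠ 1 := by
    by_contra hcon
    push Not at hcon
    exact hT1 (eq_bot_iff.2 fun t ht => Subgroup.mem_bot.2 (hcon t ht))
  obtain ⟨z, hz, hz1⟩ : ∃ z ∈ X, z ≠ 1 := by
    by_contra hcon
    push Not at hcon
    exact hX1 (eq_bot_iff.2 fun t ht => Subgroup.mem_bot.2 (hcon t ht))
  have hTcX : T ≤ Subgroup.centralizer (X : Set G) :=
    Subgroup.commutator_eq_bot_iff_le_centralizer.1 h3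
  have hXNQ' : X ≤ Subgroup.normalizer (Q' : Set G) := by
    intro x hx
    apply hn' x t0 (hTQ' ht0) ht01 (two_of_mem hTsyl.1 ht0)
    have := Subgroup.mem_centralizer_iff.1 (hTcX ht0) x hx
    have e : x * t0 * x⁻¹ = t0 := by rw [this]; group
    rw [e]; exact hTQ' ht0
  have hTXle : T ⊔ X ≤ Q' ⊔ X := sup_le (hTQ'.trans le_sup_left) le_sup_right
  have hTX2 : IsPGroup 2 (T ⊔ X : Subgroup G) := hSsyl.1.to_le (sup_le hTS hXS)
  obtain ⟨S'', hTXS'', hS''le, hS''2, hS''odd⟩ := exists_sylow_ge hTXle hTX2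
  have hXS'' : X ≤ S'' := le_sup_right.trans hTXS''
  have hTS'' : T ≤ S'' := le_sup_left.trans hTXS''
  obtain ⟨k1, k2, k3, k4⟩ := struct hi' hXQ hXNQ' hX2 hXS'' hS''le
  obtain ⟨T'', hT''⟩ : ∃ T'' : Subgroup G,
      T'' = S'' ⊓ Subgroup.normalizer (X : Set G) ⊓ Q' := ⟨_, rfl⟩
  rw [← hT''] at k2 k3 k4
  have hT''S'' : T'' ≤ S'' := by rw [hT'']; exact inf_le_left.trans inf_le_left
  have hT''Q' : T'' ≤ Q' := by rw [hT'']; exact inf_le_right
  have hTT'' : T ≤ T'' := by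
    rw [hT'']
    exact le_inf (le_inf hTS'' (fun t ht => Subgroup.centralizer_le_normalizer _ (hTcX ht))) hTQ'
  have hXcT'' : X ≤ Subgroup.centralizer (T'' : Set G) :=
    Subgroup.commutator_eq_bot_iff_le_centralizer.1 k3
  have hT''B : T'' ≤ Q' ⊓ Subgroup.normalizer (Q : Set G) := by
    intro y hy
    refine ⟨hT''Q' hy, ?_⟩
    apply hn y z (hXQ hz) hz1 (two_of_mem hX2 hz)
    have := Subgroup.mem_centralizer_iff.1 (hXcT'' hz) y hy
    have e : y * z * y⁻¹ = z := by rw [this]; group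
    rw [e]; exact hXQ hz
  have hTeq : T = T'' := eq_of_sylow_le hTT'' hT''B (hS''2.to_le hT''S'') hTsyl.2
  have hS''Q'odd : ¬ 2 ∣ S''.relIndex Q' := odd_relIndex_of_sup hXNQ' hS''odd
  have hA'' : (¬ S'' ≤ Subgroup.normalizer (X : Set G)) →
      ∃ f : X →* T'', Function.Injective f := by
    intro hlt
    rw [hT'']
    exact embed hi' hn hXQ hXNQ' hXS'' hS''le hS''2 hlt
  have hle2 : Nat.card X ≤ Nat.card T := by
    by_cases hc : S'' ≤ Subgroup.normalizer (X : Set G)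
    · have h5 : T'' = S'' ⊓ Q' := by rw [hT'', inf_eq_left.2 hc]
      rw [hTeq, h5]
      apply Nat.le_of_dvd Nat.card_pos
      apply card_dvd_inf hS''Q'odd hX2
      rw [hcardQ']; exact Subgroup.card_dvd_of_le hXQ
    · obtain ⟨f, hf⟩ := hA'' hc
      rw [hTeq]; exact Nat.card_le_card_of_injective f hf
  have hcard : Nat.card X = Nat.card T := le_antisymm hle2 hle1
  by_cases hc : S ≤ Subgroup.normalizer (T : Set G)
  swap
  · obtain ⟨f, hf⟩ := hA hc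
    have hbij : Function.Bijective f := by
      rw [Nat.bijective_iff_injective_and_card]; exact ⟨hf, hcard.symm⟩
    exact ⟨(MulEquiv.ofBijective f hbij).symm⟩
  by_cases hc'' : S'' ≤ Subgroup.normalizer (X : Set G)
  swap
  · obtain ⟨f, hf⟩ := hA'' hc''
    have hbij : Function.Bijective f := by
      rw [Nat.bijective_iff_injective_and_card]; exact ⟨hf, by rw [← hTeq]; exact hcard⟩
    exact ⟨(MulEquiv.ofBijective f hbij).trans (MulEquiv.subgroupCongr hTeq.symm)⟩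
  have hTeq2 : T = S'' ⊓ Q' := by rw [hTeq, hT'', inf_eq_left.2 hc'']
  have hToddQ' : ¬ 2 ∣ T.relIndex Q' := by
    rw [hTeq2, Subgroup.inf_relIndex_right]; exact hS''Q'odd
  have hXg : X.map (MulAut.conj g).toMonoidHom ≤ Q' := by
    rw [hQ']; exact Subgroup.map_mono hXQ
  have : Fact (Nat.Prime 2) := ⟨Nat.prime_two⟩
  obtain ⟨k, hk, hle⟩ := H1.exists_le_map_conj_of_pgroup Q' T (X.map (MulAut.conj g).toMonoidHom)
    hTQ' hTsyl.1 hToddQ' hXg (hX2.map _)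
  have heq : X.map (MulAut.conj g).toMonoidHom = T.map (MulAut.conj k).toMonoidHom := by
    apply Subgroup.eq_of_le_of_card_ge hle
    have e1 : Nat.card ↥(X.map (MulAut.conj g).toMonoidHom) = Nat.card X :=
      Subgroup.card_map_of_injective (MulAut.conj g).injective
    have e2 : Nat.card ↥(T.map (MulAut.conj k).toMonoidHom) = Nat.card T :=
      Subgroup.card_map_of_injective (MulAut.conj k).injective
    rw [e1, e2, hcard]
  exact ⟨((Subgroup.equivMapOfInjective X _ (MulAut.conj g).injective).trans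
    (MulEquiv.subgroupCongr heq)).trans
    (Subgroup.equivMapOfInjective T _ (MulAut.conj k).injective).symm⟩

end Cfsg.Agent.H2.TightEmb
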