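import Mathlib
import Cfsg.Prelude.Def_Balance
import Cfsg.Agent.H2.Transitivity

/-!
Consequences of the Transitivity Theorem for solvable signalizer functors (helper2).
-/

set_option autoImplicit false
open scoped commutatorElement Pointwise

namespace Cfsg.Agent.H2.Transitivity

open Cfsg.Agent.H2.DiagComp

section

variable {G : Type*} [Group G] [Finite G] {p : ℕ} [Fact p.Prime] {A : Subgroup G}
  {θ : G → Subgroup G}

lemma bot_mem_family : (⊥ : Subgroup G) ∈ Cfsg.signalizerFamily p A θ := by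
  have hpp : p.Prime := Fact.out
  refine ⟨inferInstance, ?_, ?_, ?_⟩
  · rw [Subgroup.card_bot]
    exact hpp.one_lt.ne' ∘ Nat.dvd_one.1
  · intro b _ u hu
    rw [Subgroup.mem_bot] at hu ⊢
    rw [hu]; group
  · intro a _ _
    exact inf_le_left.trans bot_le

lemma cj_eq_self_of_mem {U : Subgroup G} {c : G} (hc : c ∈ U) : cj c U = U := by
  ext y
  rw [mem_cj]
  constructor
  · intro h
    have e : y = c * (c⁻¹ * y * c) * c⁻¹ := by group
    rw [e]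
    exact mul_mem (mul_mem hc h) (inv_mem hc)
  · intro h
    exact mul_mem (mul_mem (inv_mem hc) h) hc

/-- every `θ a` that is a `q`-group lies in each maximal `q`-subgroup of the family -/
theorem theta_le_of_isMaxQ (hA : Cfsg.IsElementaryAbelian p A) (hA3 : p ^ 3 ≤ Nat.card ↥A)
    (hθ : Cfsg.IsSolvableSignalizerFunctor p A θ) (q : ℕ) [Fact q.Prime]
    {Q : Subgroup G} (hQ : IsMaxQ p A θ q Q) {a : G} (ha : a ∈ A) (ha1 : a ≠ 1)
    {U : Subgroup G} (hU : U ∈ Cfsg.signalizerFamily p A θ) (hUq : IsPGroup q ↥U)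
    (hCU : Cfsg.signalizerInf A θ ≤ U) : U ≤ Q := by
  obtain ⟨Q', hQ', hUQ'⟩ := exists_isMaxQ_ge hU hUq
  obtain ⟨c, hc, hcQ⟩ := transitivity hA hA3 hθ q Q' Q hQ' hQ
  rw [← hcQ, ← cj_eq_self_of_mem (hCU hc)]
  exact Subgroup.map_mono hUQ'

theorem complete_of_qgroups (hA : Cfsg.IsElementaryAbelian p A) (hA3 : p ^ 3 ≤ Nat.card ↥A)
    (hθ : Cfsg.IsSolvableSignalizerFunctor p A θ) (q : ℕ) [Fact q.Prime]
    (hq : ∀ a ∈ A, a ≠ 1 → IsPGroup q ↥(θ a)) : Cfsg.IsCompleteSignalizerFunctor p A θ := by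
  obtain ⟨Q, hQ, -⟩ := exists_isMaxQ_ge (q := q) (bot_mem_family (p := p) (A := A) (θ := θ))
    (IsPGroup.of_bot)
  refine ⟨hθ.1, Q, hQ.1.2.2.1, hQ.1.2.1, ?_⟩
  intro a ha ha1
  apply le_antisymm (hQ.1.2.2.2 a ha ha1)
  refine le_inf ?_ (hθ.1.1 a ha ha1)
  exact theta_le_of_isMaxQ hA hA3 hθ q hQ ha ha1 (theta_mem_family hθ ha ha1) (hq a ha ha1)
    (signalizerInf_le A θ ha ha1)

/-- some conjugate of a maximal `Q` meets a given member of the family in a Sylow subgroup -/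
theorem exists_sylow_inf (hA : Cfsg.IsElementaryAbelian p A) (hA3 : p ^ 3 ≤ Nat.card ↥A)
    (hθ : Cfsg.IsSolvableSignalizerFunctor p A θ) (q : ℕ) [Fact q.Prime]
    {Q : Subgroup G} (hQ : IsMaxQ p A θ q Q) (H : Subgroup G)
    (hH : H ∈ Cfsg.signalizerFamily p A θ) :
    ∃ c ∈ Cfsg.signalizerInf A θ, ∃ S : Sylow q ↥H,
      (S : Subgroup ↥H).map H.subtype = cj c Q ⊓ H := by
  have hAH : A ≤ Subgroup.normalizer (H : Set G) := le_normalizer_of_conj_mem hH.2.2.1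
  have hcop := coprime_card_of_family hA hH
  obtain ⟨S, hAS⟩ := Cfsg.Agent.S0023.result A H hAH hcop (Or.inr hH.1) q
  have hSF : (S : Subgroup ↥H).map H.subtype ∈ Cfsg.signalizerFamily p A θ :=
    family_of_le p A θ hH (Cfsg.Agent.H2.map_subtype_le _ _)
      (fun b hb u hu => conj_mem_of_le_normalizer hAS hb hu)
  obtain ⟨Q', hQ', hSQ'⟩ := exists_isMaxQ_ge hSF (S.isPGroup'.map _)
  obtain ⟨c, hc, hcQ⟩ := transitivity hA hA3 hθ q Q Q' hQ hQ'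
  refine ⟨c, hc, S, ?_⟩
  rw [hcQ]
  have hT : IsPGroup q ↥((Q' ⊓ H).subgroupOf H) :=
    (hQ'.2.1.to_le inf_le_left).comap_subtype
  have hST : (S : Subgroup ↥H) ≤ (Q' ⊓ H).subgroupOf H := by
    intro x hx
    rw [Subgroup.mem_subgroupOf]
    exact ⟨hSQ' (Subgroup.mem_map_of_mem _ hx), x.2⟩
  have := S.is_maximal' hT hST
  rw [← this, Subgroup.subgroupOf_map_subtype, inf_assoc, inf_idem]

lemma signalizerInf_mono {B : Subgroup G} (hBA : B ≤ A) :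
    Cfsg.signalizerInf A θ ≤ Cfsg.signalizerInf B θ := by
  unfold Cfsg.signalizerInf
  apply le_iInf
  rintro ⟨b, hb, hb1⟩
  exact iInf_le (fun a : {a : G // a ∈ A ∧ a ≠ 1} => θ (a : G)) ⟨b, hBA hb, hb1⟩

theorem exists_sylow_centralizer (hA : Cfsg.IsElementaryAbelian p A) (hA3 : p ^ 3 ≤ Nat.card ↥A)
    (hθ : Cfsg.IsSolvableSignalizerFunctor p A θ) (q : ℕ) [Fact q.Prime]
    {Q : Subgroup G} (hQ : IsMaxQ p A θ q Q) (B : Subgroup G) (hBA : B ≤ A) (hB : B ≠ ⊥) :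
    ∃ S : Sylow q ↥(Cfsg.signalizerInf B θ),
      (S : Subgroup ↥(Cfsg.signalizerInf B θ)).map (Cfsg.signalizerInf B θ).subtype =
        Q ⊓ Subgroup.centralizer (B : Set G) := by
  obtain ⟨b₀, hb₀1⟩ := (Subgroup.ne_bot_iff_exists_ne_one (H := B)).1 hB
  have hb₀1' : (b₀ : G) ≠ 1 := fun h => hb₀1 (Subtype.ext h)
  obtain ⟨CB, hCBdef⟩ : ∃ CB, CB = Cfsg.signalizerInf B θ := ⟨_, rfl⟩
  have hCBle : ∀ b ∈ B, b ≠ 1 → CB ≤ θ b := by
    intro b hb hb1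
    rw [hCBdef]
    exact signalizerInf_le B θ hb hb1
  have hCBinv : ∀ a ∈ A, ∀ u ∈ CB, a * u * a⁻¹ ∈ CB := by
    intro a ha u hu
    rw [hCBdef] at hu ⊢
    unfold Cfsg.signalizerInf at hu ⊢
    rw [Subgroup.mem_iInf] at hu ⊢
    rintro ⟨b, hb, hb1⟩
    exact hθ.1.2.2.1 b (hBA hb) hb1 a ha u (hu ⟨b, hb, hb1⟩)
  have hCBF : CB ∈ Cfsg.signalizerFamily p A θ :=
    family_of_le p A θ (theta_mem_family hθ (hBA b₀.2) hb₀1') (hCBle b₀ b₀.2 hb₀1') hCBinv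
  have hCBcent : CB ≤ Subgroup.centralizer (B : Set G) := by
    intro u hu
    rw [Subgroup.mem_centralizer_iff]
    intro b hb
    by_cases hb1 : b = 1
    · rw [hb1, one_mul, mul_one]
    · have h1 := hθ.1.1 b (hBA hb) hb1 (hCBle b hb hb1 hu)
      exact (Subgroup.mem_centralizer_iff.1 h1) b (Set.mem_singleton b)
  have hQB : Q ⊓ Subgroup.centralizer (B : Set G) ≤ CB := by
    intro u hu
    rw [hCBdef]
    unfold Cfsg.signalizerInf
    rw [Subgroup.mem_iInf]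
    rintro ⟨b, hb, hb1⟩
    refine hQ.1.2.2.2 b (hBA hb) hb1 ⟨hu.1, ?_⟩
    exact Subgroup.centralizer_le (Set.singleton_subset_iff.2 hb) hu.2
  have heq : Q ⊓ CB = Q ⊓ Subgroup.centralizer (B : Set G) :=
    le_antisymm (inf_le_inf_left _ hCBcent) (le_inf inf_le_left hQB)
  obtain ⟨c, hc, S, hS⟩ := exists_sylow_inf hA hA3 hθ q hQ CB hCBF
  have hcCB : c ∈ CB := by
    rw [hCBdef]; exact signalizerInf_mono hBA hc
  subst hCBdef
  refine ⟨(⟨c, hcCB⟩ : ↥(Cfsg.signalizerInf B θ))⁻¹ • S, ?_⟩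
  rw [Cfsg.Agent.H1.sylow_smul_map_subtype, hS, ← heq]
  show cj (c⁻¹) (cj c Q ⊓ Cfsg.signalizerInf B θ) = Q ⊓ Cfsg.signalizerInf B θ
  ext y
  rw [mem_cj, inv_inv]
  constructor
  · rintro ⟨h1, h2⟩
    have h1 : c * y * c⁻¹ ∈ cj c Q := h1
    have h2 : c * y * c⁻¹ ∈ Cfsg.signalizerInf B θ := h2
    rw [mem_cj] at h1
    have e : c⁻¹ * (c * y * c⁻¹) * c = y := by group
    rw [e] at h1
    refine ⟨h1, ?_⟩
    have e2 : y = c⁻¹ * (c * y * c⁻¹) * c := by group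
    rw [e2]
    show c⁻¹ * (c * y * c⁻¹) * c ∈ Cfsg.signalizerInf B θ
    exact (Cfsg.signalizerInf B θ).mul_mem
      ((Cfsg.signalizerInf B θ).mul_mem ((Cfsg.signalizerInf B θ).inv_mem hcCB) h2) hcCB
  · rintro ⟨h1, h2⟩
    have h1 : y ∈ Q := h1
    have h2 : y ∈ Cfsg.signalizerInf B θ := h2
    refine ⟨?_, (Cfsg.signalizerInf B θ).mul_mem
      ((Cfsg.signalizerInf B θ).mul_mem hcCB h2) ((Cfsg.signalizerInf B θ).inv_mem hcCB)⟩
    show c * y * c⁻¹ ∈ cj c Q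
    rw [mem_cj]
    have e : c⁻¹ * (c * y * c⁻¹) * c = y := by group
    rw [e]; exact h1

end

end Cfsg.Agent.H2.Transitivity
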