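import Mathlib

/-!
# Transvections over `ZMod 2` and inverted elements of odd order (helper2)

`t` is an involution of `V ≃ₗ[ZMod 2] V` with `t v ∈ {v, v + a}` for all `v` (a transvection with
centre `a`).  If `x ≠ 1` has odd order and is inverted by `t`, then `x v + v ∈ span {a, x a}` for
all `v`, `a` lies in the range of `x - 1` and `x a ≠ a`.
-/

set_option autoImplicit false
set_option linter.unusedSimpArgs false
set_option linter.unusedVariables false
set_option linter.style.haveILetI false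

namespace Cfsg.Agent.H2.Transv

variable {V : Type*} [AddCommGroup V] [Module (ZMod 2) V]

theorem c2 (p : V) : p + p = 0 := ZModModule.add_self p

theorem c2' (p q : V) : p + (p + q) = q := by rw [← add_assoc, c2, zero_add]

theorem eq_of_add_eq_zero {p q : V} (h : p + q = 0) : p = q := by
  have : p = -q := eq_neg_of_add_eq_zero_left h
  rw [this, ZModModule.neg_eq_self]

/-- transvection data -/
structure Hyp (t : V ≃ₗ[ZMod 2] V) (a : V) : Prop where
  ha : a ≠ 0
  htt : t * t = 1
  hta : ∀ v, t v = v ∨ t v = v + a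

theorem Hyp.t_a {t : V ≃ₗ[ZMod 2] V} {a : V} (h : Hyp t a) : t a = a := by
  rcases h.hta a with h1 | h1
  · exact h1
  · rw [c2] at h1
    have : a = 0 := by simpa using h1
    exact absurd this h.ha

theorem Hyp.tt_apply {t : V ≃ₗ[ZMod 2] V} {a : V} (h : Hyp t a) (v : V) : t (t v) = v := by
  rw [← LinearEquiv.mul_apply, h.htt]; rfl

/-- `x` has odd order -/
def OddOrd (x : V ≃ₗ[ZMod 2] V) : Prop := ∃ m : ℕ, x ^ (2 * m + 1) = 1

theorem pow_two_mul_apply {x : V ≃ₗ[ZMod 2] V} (k : ℕ) (w : V) (h : x (x w) = w) :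
    (x ^ (2 * k)) w = w := by
  induction k with
  | zero => simp
  | succ k ih =>
    have e : x ^ (2 * (k + 1)) = x ^ (2 * k) * (x * x) := by
      rw [mul_add, pow_add, mul_one, pow_two]
    rw [e, LinearEquiv.mul_apply, LinearEquiv.mul_apply, h, ih]

theorem fix_of_sq_fix {x : V ≃ₗ[ZMod 2] V} (hx : OddOrd x) {v : V}
    (h : x (x v) = v) : x v = v := by
  obtain ⟨m, hm⟩ := hx
  have h2 : (x ^ (2 * m + 1)) v = v := by rw [hm]; rfl
  rw [pow_succ, LinearEquiv.mul_apply] at h2
  have h3 := pow_two_mul_apply (x := x) m (x v) (by rw [h])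
  rw [h3] at h2
  exact h2

theorem ker_range {x : V ≃ₗ[ZMod 2] V} (hx : OddOrd x) {u v : V}
    (hu : x u = u) (huv : u = x v + v) : u = 0 := by
  have h1 : x v = u + v := by
    rw [huv]; simp only [add_assoc, add_left_comm, add_comm, c2, c2', add_zero, zero_add]
  have h2 : x (x v) = v := by
    rw [h1, map_add, hu, h1]
    simp only [add_assoc, add_left_comm, add_comm, c2, c2', add_zero, zero_add]
  have h3 := fix_of_sq_fix hx h2
  rw [huv, h3, c2]

/-- `x` is inverted by `t` -/
def Inv (t x : V ≃ₗ[ZMod 2] V) : Prop := t * x * t = x⁻¹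

theorem Inv.inv_apply {t x : V ≃ₗ[ZMod 2] V} (h : Inv t x) (v : V) : x⁻¹ v = t (x (t v)) := by
  rw [← h]; rfl

theorem Inv.t_x {t x : V ≃ₗ[ZMod 2] V} {a : V} (hy : Hyp t a) (h : Inv t x) (v : V) :
    t (x v) = x⁻¹ (t v) := by
  rw [h.inv_apply, hy.tt_apply]

theorem inv_add {t x : V ≃ₗ[ZMod 2] V} {a : V} (hy : Hyp t a) (h : Inv t x) (v : V) :
    x⁻¹ v + x v ∈ Submodule.span (ZMod 2) {a, x a} := by
  have ha : a ∈ Submodule.span (ZMod 2) {a, x a} := Submodule.subset_span (by simp)
  have hxa : x a ∈ Submodule.span (ZMod 2) {a, x a} := Submodule.subset_span (by simp)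
  rw [h.inv_apply]
  rcases hy.hta v with h1 | h1 <;> rcases hy.hta (x (t v)) with h2 | h2
  · rw [h2, h1, c2]; exact Submodule.zero_mem _
  · rw [h2, h1]
    have : x v + a + x v = a := by
      simp only [add_assoc, add_left_comm, add_comm, c2, c2', add_zero, zero_add]
    rw [this]; exact ha
  · rw [h2, h1, map_add]
    have : x v + x a + x v = x a := by
      simp only [add_assoc, add_left_comm, add_comm, c2, c2', add_zero, zero_add]
    rw [this]; exact hxa
  · rw [h2, h1, map_add]
    have : x v + x a + a + x v = x a + a := by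
      simp only [add_assoc, add_left_comm, add_comm, c2, c2', add_zero, zero_add]
    rw [this]; exact Submodule.add_mem _ hxa ha

theorem sq_add {t x : V ≃ₗ[ZMod 2] V} {a : V} (hy : Hyp t a) (h : Inv t x) (w : V) :
    x (x w) + w ∈ Submodule.span (ZMod 2) {a, x a} := by
  have := inv_add hy h (x w)
  rw [add_comm] at this
  simpa using this

theorem pow_add_mem {t x : V ≃ₗ[ZMod 2] V} {a : V} (hy : Hyp t a) (h : Inv t x) (k : ℕ) :
    ∀ w : V, (x ^ (2 * k)) w + w ∈ Submodule.span (ZMod 2) {a, x a} := by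
  induction k with
  | zero => intro w; simp [c2]
  | succ k ih =>
    intro w
    have e : x ^ (2 * (k + 1)) = x ^ (2 * k) * (x * x) := by
      rw [mul_add, pow_add, mul_one, pow_two]
    rw [e, LinearEquiv.mul_apply, LinearEquiv.mul_apply]
    have h1 := ih (x (x w))
    have h2 := sq_add hy h w
    have : (x ^ (2 * k)) (x (x w)) + w = ((x ^ (2 * k)) (x (x w)) + x (x w)) + (x (x w) + w) := by
      simp only [add_assoc, add_left_comm, add_comm, c2, c2', add_zero, zero_add]
    rw [this]
    exact Submodule.add_mem _ h1 h2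

/-- (F1) -/
theorem F1 {t x : V ≃ₗ[ZMod 2] V} {a : V} (hy : Hyp t a) (h : Inv t x) (hx : OddOrd x) (v : V) :
    x v + v ∈ Submodule.span (ZMod 2) {a, x a} := by
  obtain ⟨m, hm⟩ := hx
  have h2 : (x ^ (2 * m + 1)) v = v := by rw [hm]; rfl
  rw [pow_succ, LinearEquiv.mul_apply] at h2
  have h3 := pow_add_mem hy h m (x v)
  rw [h2, add_comm] at h3
  exact h3

/-- (F2') -/
theorem F2' {t x : V ≃ₗ[ZMod 2] V} {a : V} (hy : Hyp t a) (h : Inv t x) (hx : OddOrd x)
    (hx1 : x ≠ 1) : ∃ v, t (x v + v) ≠ x v + v := by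
  by_contra hcon
  push Not at hcon
  apply hx1
  ext v
  have hu1 : t (x v + v) = x v + v := hcon v
  have hu2 : t (x (x v + v)) = x (x v + v) := by
    have := hcon (x v)
    rw [map_add]; exact this
  have hu3 : x⁻¹ (x v + v) = x (x v + v) := by
    rw [h.inv_apply, hu1, hu2]
  have hu4 : x (x (x v + v)) = x v + v := by
    rw [← hu3]; simp
  have hu5 := fix_of_sq_fix hx hu4
  have hu6 := ker_range hx hu5 rfl
  show x v = v
  exact eq_of_add_eq_zero hu6

/-- (F2) -/
theorem F2 {t x : V ≃ₗ[ZMod 2] V} {a : V} (hy : Hyp t a) (h : Inv t x) (hx : OddOrd x)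
    (hx1 : x ≠ 1) : ∃ u, a = x u + u := by
  obtain ⟨v, hv⟩ := F2' hy h hx hx1
  have h1 : t (x v + v) = x v + v + a := by
    rcases hy.hta (x v + v) with h1 | h1
    · exact absurd h1 hv
    · exact h1
  have h2 : t (x v + v) = x⁻¹ (t v) + x (x⁻¹ (t v)) := by
    rw [map_add, h.t_x hy]; simp
  refine ⟨x⁻¹ (t v) + v, ?_⟩
  rw [map_add]
  have h3 : a = t (x v + v) + (x v + v) := by
    rw [h1]; simp only [add_assoc, add_left_comm, add_comm, c2, c2', add_zero, zero_add]
  rw [h3, h2]
  simp only [add_assoc, add_left_comm, add_comm, c2, c2', add_zero, zero_add]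

/-- (F3) -/
theorem F3 {t x : V ≃ₗ[ZMod 2] V} {a : V} (hy : Hyp t a) (h : Inv t x) (hx : OddOrd x)
    (hx1 : x ≠ 1) : x a ≠ a := by
  intro hxa
  obtain ⟨u, hu⟩ := F2 hy h hx hx1
  exact hy.ha (ker_range hx hxa hu)

/-- `t` moves some vector of `span {a, x a}`: indeed `t (x a) ≠ x a`. -/
theorem t_moves {t x : V ≃ₗ[ZMod 2] V} {a : V} (hy : Hyp t a) (h : Inv t x) (hx : OddOrd x)
    (hx1 : x ≠ 1) : t (x a) ≠ x a := by
  intro hfix
  obtain ⟨v, hv⟩ := F2' hy h hx hx1
  apply hv
  obtain ⟨c, d, hcd⟩ := Submodule.mem_span_pair.1 (F1 hy h hx v)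
  rw [← hcd, map_add, map_smul, map_smul, hy.t_a, hfix]

/-- commuting inverted elements -/
theorem comm_case {t x z : V ≃ₗ[ZMod 2] V} {a : V} (hy : Hyp t a) (h : Inv t x) (hx : OddOrd x)
    (hx1 : x ≠ 1) (hz : Inv t z) (hzo : OddOrd z) (hz1 : z ≠ 1) (hcomm : z * x = x * z) :
    z a = x a ∨ z a = a + x a := by
  obtain ⟨u, hu⟩ := F2 hy hz hzo hz1
  have h1 : x a = z (x u) + x u := by
    conv_lhs => rw [hu]
    rw [map_add, ← LinearEquiv.mul_apply, ← hcomm, LinearEquiv.mul_apply]
  have h2 := F1 hy hz hzo (x u)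
  rw [← h1] at h2
  obtain ⟨c, d, hcd⟩ := Submodule.mem_span_pair.1 h2
  have hxa := F3 hy h hx hx1
  have hxa0 : x a ≠ 0 := by
    intro h0
    have : a = 0 := by simpa using h0
    exact hy.ha this
  have h01 : ∀ c : ZMod 2, c = 0 ∨ c = 1 := by decide
  rcases h01 c with rfl | rfl <;> rcases h01 d with rfl | rfl
  · exfalso; apply hxa0; rw [← hcd]; simp
  · left
    rw [← hcd]; simp
  · exfalso; apply hxa; rw [← hcd]; simp
  · right
    have : a + z a = x a := by rw [← hcd]; simp
    rw [← this]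
    simp only [add_assoc, add_left_comm, add_comm, c2, c2', add_zero, zero_add]

/-- an element commuting with `t` fixes `a` (if `t ≠ 1`). -/
theorem fix_a_of_comm {t g : V ≃ₗ[ZMod 2] V} {a : V} (hy : Hyp t a) {w : V} (hw : t w ≠ w)
    (hg : t * g = g * t) : g a = a := by
  have h1 : t w = w + a := by
    rcases hy.hta w with h | h
    · exact absurd h hw
    · exact h
  have h2 : t (g w) = g w + g a := by
    rw [← LinearEquiv.mul_apply, hg, LinearEquiv.mul_apply, h1, map_add]
  have hga0 : g a ≠ 0 := by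
    intro h0
    have : a = 0 := by simpa using h0
    exact hy.ha this
  rcases hy.hta (g w) with h | h
  · exfalso
    rw [h] at h2
    apply hga0
    have : g w + (g w + g a) = g w + g w := by rw [← h2]
    simpa only [c2, c2'] using this
  · rw [h] at h2
    have : g w + (g w + g a) = g w + (g w + a) := by rw [← h2]
    simpa only [c2'] using this

/-- a central element of `closure {y, y'}` of odd order fixing `a` is trivial -/
theorem central_fix {t y y' z : V ≃ₗ[ZMod 2] V} {a : V} (hy : Hyp t a)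
    (h : Inv t y) (ho : OddOrd y) (h' : Inv t y') (ho' : OddOrd y')
    (hzH : z ∈ Subgroup.closure {y, y'}) (hzo : OddOrd z)
    (hc : z * y = y * z) (hc' : z * y' = y' * z) (hza : z a = a) : z = 1 := by
  have fixspan : ∀ (x : V ≃ₗ[ZMod 2] V), z * x = x * z →
      ∀ w ∈ Submodule.span (ZMod 2) {a, x a}, z w = w := by
    intro x hx w hw
    obtain ⟨c, d, rfl⟩ := Submodule.mem_span_pair.1 hw
    have : z (x a) = x a := by
      rw [← LinearEquiv.mul_apply, hx, LinearEquiv.mul_apply, hza]
    rw [map_add, map_smul, map_smul, hza, this]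
  have key : ∀ g ∈ Subgroup.closure {y, y'}, ∀ v, z (g v + v) = g v + v := by
    intro g hg
    induction hg using Subgroup.closure_induction with
    | mem x hx =>
      intro v
      rcases hx with rfl | hx
      · exact fixspan _ hc _ (F1 hy h ho v)
      · rw [Set.mem_singleton_iff] at hx
        subst hx
        exact fixspan _ hc' _ (F1 hy h' ho' v)
    | one => intro v; simp [c2]
    | mul g₁ g₂ _ _ ih₁ ih₂ =>
      intro v
      have : (g₁ * g₂) v + v = (g₁ (g₂ v) + g₂ v) + (g₂ v + v) := by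
        rw [LinearEquiv.mul_apply]
        simp only [add_assoc, add_left_comm, add_comm, c2, c2', add_zero, zero_add]
      rw [this, map_add, ih₁, ih₂]
    | inv g _ ih =>
      intro v
      have : g⁻¹ v + v = g (g⁻¹ v) + g⁻¹ v := by simp [add_comm]
      rw [this]; exact ih _
  ext v
  have h1 := key z hzH v
  have h2 : z (z v) = v := by
    rw [map_add] at h1
    have e1 : z (z v) = (z (z v) + z v) + z v := by
      simp only [add_assoc, add_left_comm, add_comm, c2, c2', add_zero, zero_add]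
    rw [e1, h1]
    simp only [add_assoc, add_left_comm, add_comm, c2, c2', add_zero, zero_add]
  exact fix_of_sq_fix hzo h2

theorem Hyp.inv_eq {t : V ≃ₗ[ZMod 2] V} {a : V} (h : Hyp t a) : t⁻¹ = t :=
  inv_eq_of_mul_eq_one_left h.htt

/-- conjugation by `t` preserves `closure {y, y'}` -/
theorem conj_mem_closure {t y y' : V ≃ₗ[ZMod 2] V} {a : V} (hy : Hyp t a)
    (h : Inv t y) (h' : Inv t y') :
    ∀ g ∈ Subgroup.closure {y, y'}, t * g * t ∈ Subgroup.closure ({y, y'} : Set (V ≃ₗ[ZMod 2] V)) := by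
  intro g hg
  induction hg using Subgroup.closure_induction with
  | mem x hx =>
    rcases hx with rfl | hx
    · rw [h]; exact Subgroup.inv_mem _ (Subgroup.subset_closure (by simp))
    · rw [Set.mem_singleton_iff] at hx
      subst hx
      rw [h']; exact Subgroup.inv_mem _ (Subgroup.subset_closure (by simp))
  | one => rw [mul_one, hy.htt]; exact Subgroup.one_mem _
  | mul g₁ g₂ _ _ ih₁ ih₂ =>
    have : t * (g₁ * g₂) * t = (t * g₁ * t) * (t * g₂ * t) := by
      have := hy.htt
      calc t * (g₁ * g₂) * t = t * g₁ * 1 * g₂ * t := by group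
        _ = t * g₁ * (t * t) * g₂ * t := by rw [hy.htt]
        _ = (t * g₁ * t) * (t * g₂ * t) := by group
    rw [this]; exact Subgroup.mul_mem _ ih₁ ih₂
  | inv g _ ih =>
    have : t * g⁻¹ * t = (t * g * t)⁻¹ := by
      rw [mul_inv_rev, mul_inv_rev, hy.inv_eq, mul_assoc]
    rw [this]; exact Subgroup.inv_mem _ ih

/-- core: a nilpotent subgroup of odd-order elements normalized by `P` is centralized by the
transvection `t = P * P`. -/
theorem core {t P : V ≃ₗ[ZMod 2] V} {a : V} (hy : Hyp t a) (htP : t = P * P)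
    (K : Subgroup (V ≃ₗ[ZMod 2] V)) (hKnil : Group.IsNilpotent ↥K)
    (hKodd : ∀ k ∈ K, OddOrd k) (hPK : ∀ k ∈ K, P * k * P⁻¹ ∈ K) :
    ∀ k ∈ K, t * k = k * t := by
  intro f hf
  by_contra hne
  have hti := hy.inv_eq
  have hPt : P * t = t * P := by rw [htP, mul_assoc]
  have hPit : P⁻¹ * t = t * P⁻¹ := by
    rw [inv_mul_eq_iff_eq_mul, ← mul_assoc, hPt, mul_assoc, mul_inv_cancel, mul_one]
  -- `t` normalizes `K`
  have htK : ∀ k ∈ K, t * k * t ∈ K := by
    intro k hk
    have : t * k * t = P * (P * k * P⁻¹) * P⁻¹ := by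
      have e0 : t * k * t = t * k * t⁻¹ := by rw [hti]
      rw [e0, htP]; group
    rw [this]
    exact hPK _ (hPK _ hk)
  set y : V ≃ₗ[ZMod 2] V := f⁻¹ * (t * f * t) with hydef
  have hyK : y ∈ K := K.mul_mem (K.inv_mem hf) (htK f hf)
  have hyinv : Inv t y := by
    show t * y * t = y⁻¹
    rw [hydef, mul_inv_rev, mul_inv_rev, mul_inv_rev, inv_inv, hti]
    calc t * (f⁻¹ * (t * f * t)) * t = t * f⁻¹ * t * f * (t * t) := by group
      _ = t * f⁻¹ * t * f := by rw [hy.htt, mul_one]
      _ = t * (f⁻¹ * t) * f := by group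
  have hy1 : y ≠ 1 := by
    intro h1
    apply hne
    have h2 : f = t * f * t := by
      have := congrArg (f * ·) h1
      simpa [hydef] using this.symm
    calc t * f = t * (t * f * t) := by rw [← h2]
      _ = (t * t) * f * t := by group
      _ = f * t := by rw [hy.htt, one_mul]
  have hyo : OddOrd y := hKodd y hyK
  set y' : V ≃ₗ[ZMod 2] V := P * y * P⁻¹ with hy'def
  have hy'K : y' ∈ K := hPK y hyK
  have hy'inv : Inv t y' := by
    show t * y' * t = y'⁻¹
    have e1 : t * y' * t = P * (t * y * t) * P⁻¹ := by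
      rw [hy'def]
      calc t * (P * y * P⁻¹) * t = (t * P) * y * (P⁻¹ * t) := by group
        _ = (P * t) * y * (t * P⁻¹) := by rw [hPt, hPit]
        _ = P * (t * y * t) * P⁻¹ := by group
    rw [e1, hyinv, hy'def]; group
  have hy'1 : y' ≠ 1 := by
    intro h1
    apply hy1
    have : y = P⁻¹ * y' * P := by rw [hy'def]; group
    rw [this, h1]; group
  have hy'o : OddOrd y' := hKodd y' hy'K
  -- a vector moved by `t`
  obtain ⟨w0, hw0⟩ := F2' hy hyinv hyo hy1
  have hPa : P a = a := fix_a_of_comm hy hw0 hPt.symm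
  have hPia : P⁻¹ a = a := by
    conv_lhs => rw [← hPa]
    simp
  -- the subgroup H
  set H : Subgroup (V ≃ₗ[ZMod 2] V) := Subgroup.closure {y, y'} with hH
  have hHK : H ≤ K := by
    rw [hH, Subgroup.closure_le]
    intro x hx
    rcases hx with rfl | hx
    · exact hyK
    · rw [Set.mem_singleton_iff] at hx; subst hx; exact hy'K
  have hyH : y ∈ H := Subgroup.subset_closure (by simp)
  have hy'H : y' ∈ H := Subgroup.subset_closure (by simp)
  haveI : Group.IsNilpotent ↥(H.subgroupOf K) := Subgroup.isNilpotent _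
  haveI : Group.IsNilpotent ↥H := Group.nilpotent_of_mulEquiv (Subgroup.subgroupOfEquivOfLe hHK)
  haveI : Nontrivial ↥H := ⟨⟨⟨y, hyH⟩, 1, fun h => hy1 (congrArg Subtype.val h)⟩⟩
  have hcen := Group.IsNilpotent.center_ne_bot (G := ↥H)
  obtain ⟨zz, hzz1⟩ := (Subgroup.ne_bot_iff_exists_ne_one).1 hcen
  set z : V ≃ₗ[ZMod 2] V := ((zz : ↥H) : V ≃ₗ[ZMod 2] V) with hzdef
  have hzH : z ∈ H := (zz : ↥H).2
  have hz1 : z ≠ 1 := by
    intro h1
    apply hzz1
    apply Subtype.ext
    apply Subtype.ext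
    exact h1
  have hzc : ∀ g ∈ H, z * g = g * z := by
    intro g hg
    have h1 := Subgroup.mem_center_iff.1 zz.2 ⟨g, hg⟩
    have h2 := congrArg Subtype.val h1
    exact h2.symm
  have hzo : OddOrd z := hKodd z (hHK hzH)
  have hconj := conj_mem_closure hy hyinv hy'inv
  set z' : V ≃ₗ[ZMod 2] V := t * z * t with hz'def
  have hz'H : z' ∈ H := hconj z hzH
  have hz'c : ∀ g ∈ H, z' * g = g * z' := by
    intro g hg
    have h1 := hzc (t * g * t) (hconj g hg)
    calc z' * g = t * z * t * g * 1 := by rw [hz'def, mul_one]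
      _ = t * z * t * g * (t * t) := by rw [hy.htt]
      _ = t * (z * (t * g * t)) * t := by group
      _ = t * ((t * g * t) * z) * t := by rw [h1]
      _ = (t * t) * g * (t * z * t) := by group
      _ = g * z' := by rw [hy.htt, one_mul]
  set w : V ≃ₗ[ZMod 2] V := z * z' with hwdef
  have hwH : w ∈ H := H.mul_mem hzH hz'H
  have hwc : ∀ g ∈ H, w * g = g * w := by
    intro g hg
    rw [hwdef, mul_assoc, hz'c g hg, ← mul_assoc, hzc g hg, mul_assoc]
  have htw : t * w = w * t := by
    have e1 : t * w * t = w := by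
      calc t * w * t = t * z * 1 * z' * t := by rw [hwdef]; group
        _ = t * z * (t * t) * z' * t := by rw [hy.htt]
        _ = (t * z * t) * (t * z' * t) := by group
        _ = z' * (t * (t * z * t) * t) := by rw [← hz'def]
        _ = z' * ((t * t) * z * (t * t)) := by group
        _ = z' * z := by rw [hy.htt, one_mul, mul_one]
        _ = w := by rw [hwdef, hz'c z hzH]
    calc t * w = t * w * 1 := by rw [mul_one]
      _ = t * w * (t * t) := by rw [hy.htt]
      _ = (t * w * t) * t := by group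
      _ = w * t := by rw [e1]
  have hwa : w a = a := fix_a_of_comm hy hw0 htw
  have hwo : OddOrd w := hKodd w (hHK hwH)
  have hw1 : w = 1 := central_fix hy hyinv hyo hy'inv hy'o hwH hwo (hwc y hyH) (hwc y' hy'H) hwa
  have hzinv : Inv t z := by
    show t * z * t = z⁻¹
    exact eq_inv_of_mul_eq_one_right hw1
  have c1 := comm_case hy hyinv hyo hy1 hzinv hzo hz1 (hzc y hyH)
  have c2x := comm_case hy hy'inv hy'o hy'1 hzinv hzo hz1 (hzc y' hy'H)
  have hy'a : y' a = P (y a) := by
    rw [hy'def, LinearEquiv.mul_apply, LinearEquiv.mul_apply, hPia]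
  rw [hy'a] at c2x
  have hPya : P (y a) = y a ∨ P (y a) = a + y a := by
    rcases c1 with h1 | h1 <;> rcases c2x with h2 | h2
    · left; rw [← h2, h1]
    · right
      have : P (y a) = a + (a + P (y a)) := by rw [c2']
      rw [this, ← h2, h1]
    · right; rw [← h2, h1]
    · left
      have : P (y a) = a + (a + P (y a)) := by rw [c2']
      rw [this, ← h2, h1, c2']
  have hty : t (y a) = y a := by
    rw [htP, LinearEquiv.mul_apply]
    rcases hPya with h1 | h1
    · rw [h1, h1]
    · rw [h1, map_add, hPa, h1, c2']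
  exact t_moves hy hyinv hyo hy1 hty

theorem four_le_card_of_two [Finite V] {W : Submodule (ZMod 2) V} {a b : V} (ha : a ∈ W)
    (hb : b ∈ W) (ha0 : a ≠ 0) (hb0 : b ≠ 0) (hab : a ≠ b) : 4 ≤ Nat.card W := by
  have hab0 : a + b ≠ 0 := fun h => hab (eq_of_add_eq_zero h)
  let f : Fin 4 → W := ![⟨0, W.zero_mem⟩, ⟨a, ha⟩, ⟨b, hb⟩, ⟨a + b, W.add_mem ha hb⟩]
  have hf : Function.Injective f := by
    intro i j hij
    fin_cases i <;> fin_cases j <;>
      simp [f, Subtype.ext_iff, ha0, hb0, hab, hab0, Ne.symm ha0, Ne.symm hb0, Ne.symm hab,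
        Ne.symm hab0] at hij ⊢
  have := Nat.card_le_card_of_injective f hf
  simpa using this

theorem odd_pow_of_sq {x : V ≃ₗ[ZMod 2] V} (hx : OddOrd x) (h2 : x * x = 1) : x = 1 := by
  obtain ⟨m, hm⟩ := hx
  rw [pow_succ, pow_mul, pow_two, h2, one_pow, one_mul] at hm
  exact hm

end Cfsg.Agent.H2.Transv
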