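import Mathlib
import Cfsg.Agent.H1.Card

/-!
# General lemmas for the two-prime theorem (S4017), helper2
-/

set_option autoImplicit false

universe u

namespace Cfsg.Agent.H2.TwoPr

open Subgroup

/-- all prime divisors of `n` lie in `{p, q}` -/
def PQ (p q n : ℕ) : Prop := ∀ r : ℕ, r.Prime → r ∣ n → r = p ∨ r = q

theorem PQ.of_dvd {p q n m : ℕ} (h : PQ p q m) (hnm : n ∣ m) : PQ p q n :=
  fun r hr hrn => h r hr (hrn.trans hnm)

theorem PQ.mul {p q n m : ℕ} (hn : PQ p q n) (hm : PQ p q m) : PQ p q (n * m) := by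
  intro r hr hrn
  rcases (Nat.Prime.dvd_mul hr).1 hrn with h | h
  · exact hn r hr h
  · exact hm r hr h

theorem PQ.pow_left {p q k : ℕ} (hp : p.Prime) : PQ p q (p ^ k) := by
  intro r hr hrn
  left
  exact (Nat.prime_dvd_prime_iff_eq hr hp).1 (hr.dvd_of_dvd_pow hrn)

theorem PQ.pow_right {p q k : ℕ} (hq : q.Prime) : PQ p q (q ^ k) := by
  intro r hr hrn
  right
  exact (Nat.prime_dvd_prime_iff_eq hr hq).1 (hr.dvd_of_dvd_pow hrn)

/-- a `{p,q}`-number dividing `m` divides the `{p,q}`-part of `m` -/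
theorem PQ.dvd_parts {p q n m : ℕ} (hp : p.Prime) (hq : q.Prime) (hpq : p ≠ q) (hm : m ≠ 0)
    (hnm : n ∣ m) (h : PQ p q n) :
    n ∣ p ^ m.factorization p * q ^ m.factorization q := by
  have hn : n ≠ 0 := fun h0 => hm (by rw [h0] at hnm; exact zero_dvd_iff.1 hnm)
  have hpos : p ^ m.factorization p * q ^ m.factorization q ≠ 0 :=
    mul_ne_zero (pow_ne_zero _ hp.ne_zero) (pow_ne_zero _ hq.ne_zero)
  rw [← Nat.factorization_le_iff_dvd hn hpos]
  intro r
  have hle : n.factorization r ≤ m.factorization r :=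
    (Nat.factorization_le_iff_dvd hn hm).2 hnm r
  rw [Nat.factorization_mul (pow_ne_zero _ hp.ne_zero) (pow_ne_zero _ hq.ne_zero),
    Nat.Prime.factorization_pow hp, Nat.Prime.factorization_pow hq]
  simp only [Finsupp.coe_add, Pi.add_apply, Finsupp.single_apply]
  by_cases hr : r.Prime
  · by_cases hrn : r ∣ n
    · rcases h r hr hrn with rfl | rfl
      · simp [hpq.symm]; exact hle
      · simp [hpq]; exact hle
    · rw [Nat.factorization_eq_zero_of_not_dvd hrn]; exact Nat.zero_le _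
  · rw [Nat.factorization_eq_zero_of_not_prime n hr]; exact Nat.zero_le _

/-- a `{p,q}`-number coprime to `q` is a power of `p` -/
theorem PQ.eq_pow {p q n : ℕ} (hn : n ≠ 0) (h : PQ p q n) (hq : ¬ q ∣ n) :
    ∃ k : ℕ, n = p ^ k := by
  refine ⟨_, Nat.eq_prime_pow_of_unique_prime_dvd hn ?_⟩
  intro d hd hdn
  rcases h d hd hdn with rfl | rfl
  · rfl
  · exact absurd hdn hq

variable {G : Type u} [Group G] [Finite G]

/-- a subgroup containing two subgroups of coprime orders whose product is divisible by the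
order of the big group is the big group -/
theorem eq_of_le_of_card_dvd {K K' A B : Subgroup G} (hK : K' ≤ K) (hA : A ≤ K') (hB : B ≤ K')
    (hcop : (Nat.card A).Coprime (Nat.card B)) (hcard : Nat.card K ∣ Nat.card A * Nat.card B) :
    K' = K := by
  apply Subgroup.eq_of_le_of_card_ge hK
  apply Nat.le_of_dvd Nat.card_pos
  exact hcard.trans (hcop.mul_dvd_of_dvd_of_dvd (Subgroup.card_dvd_of_le hA)
    (Subgroup.card_dvd_of_le hB))

omit [Finite G] in
/-- powers of an element commuting with `y` commute with `y` -/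
theorem conj_pow_comm {g y : G} {d : ℕ} (h : g ^ d * y = y * g ^ d) (e : ℕ) :
    (g ^ d) ^ e * y = y * (g ^ d) ^ e := by
  induction e with
  | zero => simp
  | succ e ih => rw [pow_succ, mul_assoc, h, ← mul_assoc, ih, mul_assoc]

/-- The orbit lemma: an element `g` of `p`-power order normalizing `Q₀` and moving `y ∈ Q₀`
has at least `p` distinct conjugates of `y` in `Q₀ \ {1}`; in case of equality it is transitive. -/
theorem orbit_lemma {p : ℕ} [hp : Fact p.Prime] {g : G} {k : ℕ} (hg : g ^ (p ^ k) = 1)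
    (Q₀ : Subgroup G) (hgN : g ∈ normalizer (Q₀ : Set G)) {y : G} (hy : y ∈ Q₀)
    (hgy : g * y * g⁻¹ ≠ y) :
    p + 1 ≤ Nat.card Q₀ ∧
      (Nat.card Q₀ = p + 1 → ∀ z ∈ Q₀, z ≠ 1 → ∃ i : ℕ, g ^ i * y * (g ^ i)⁻¹ = z) := by
  have hpp : p.Prime := hp.out
  have hy1 : y ≠ 1 := by
    rintro rfl
    apply hgy; group
  have hmem : ∀ i : ℕ, g ^ i * y * (g ^ i)⁻¹ ∈ Q₀ := by
    intro i
    have : g ^ i ∈ normalizer (Q₀ : Set G) := pow_mem hgN i
    exact (mem_set_normalizer_iff.1 this y).1 hy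
  -- the map
  let f : Option (Fin p) → Q₀ := fun o =>
    match o with
    | none => 1
    | some i => ⟨g ^ (i : ℕ) * y * (g ^ (i : ℕ))⁻¹, hmem i⟩
  have hne : ∀ i j : ℕ, i < j → j < p → g ^ i * y * (g ^ i)⁻¹ ≠ g ^ j * y * (g ^ j)⁻¹ := by
    intro i j hij hjp heq
    -- then g^(j-i) commutes with y
    have hd : g ^ (j - i) * y = y * g ^ (j - i) := by
      have hj : g ^ j = g ^ i * g ^ (j - i) := by rw [← pow_add]; congr 1; omega
      rw [hj] at heq
      have h1 : y = g ^ (j - i) * y * (g ^ (j - i))⁻¹ := by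
        have h3 : (g ^ i)⁻¹ * (g ^ i * y * (g ^ i)⁻¹) * g ^ i
            = (g ^ i)⁻¹ * (g ^ i * g ^ (j - i) * y * (g ^ i * g ^ (j - i))⁻¹) * g ^ i := by
          rw [heq]
        rw [show (g ^ i)⁻¹ * (g ^ i * y * (g ^ i)⁻¹) * g ^ i = y by group] at h3
        exact h3.trans (by group)
      calc g ^ (j - i) * y = g ^ (j - i) * y * (g ^ (j - i))⁻¹ * g ^ (j - i) := by group
        _ = y * g ^ (j - i) := by rw [← h1]
    have hcop : (j - i).Coprime (orderOf g) := by
      have h1 : orderOf g ∣ p ^ k := orderOf_dvd_of_pow_eq_one hg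
      have h2 : (j - i).Coprime (p ^ k) :=
        Nat.Coprime.pow_right k (Nat.coprime_of_lt_prime (by omega) (by omega) hpp).symm
      exact Nat.Coprime.coprime_dvd_right h1 h2
    obtain ⟨e, he⟩ := exists_pow_eq_self_of_coprime hcop
    have := conj_pow_comm hd e
    rw [he] at this
    apply hgy
    rw [this]; group
  have hinj : Function.Injective f := by
    intro o1 o2 h
    match o1, o2 with
    | none, none => rfl
    | none, some j =>
      exfalso
      have this : (1 : G) = g ^ (j : ℕ) * y * (g ^ (j : ℕ))⁻¹ := congrArg Subtype.val h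
      apply hy1
      have h2 : y = (g ^ (j : ℕ))⁻¹ * (g ^ (j : ℕ) * y * (g ^ (j : ℕ))⁻¹) * g ^ (j : ℕ) := by group
      rw [h2, ← this]; group
    | some i, none =>
      exfalso
      have this : g ^ (i : ℕ) * y * (g ^ (i : ℕ))⁻¹ = (1 : G) := congrArg Subtype.val h
      apply hy1
      have h2 : y = (g ^ (i : ℕ))⁻¹ * (g ^ (i : ℕ) * y * (g ^ (i : ℕ))⁻¹) * g ^ (i : ℕ) := by group
      rw [h2, this]; group
    | some i, some j =>
      have this : g ^ (i : ℕ) * y * (g ^ (i : ℕ))⁻¹ = g ^ (j : ℕ) * y * (g ^ (j : ℕ))⁻¹ :=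
        congrArg Subtype.val h
      rcases lt_trichotomy (i : ℕ) (j : ℕ) with hlt | heq | hgt
      · exact absurd this (hne i j hlt j.2)
      · rw [Fin.ext heq]
      · exact absurd this.symm (hne j i hgt i.2)
  have hcardO : Nat.card (Option (Fin p)) = p + 1 := by
    rw [Nat.card_eq_fintype_card, Fintype.card_option, Fintype.card_fin]
  refine ⟨?_, ?_⟩
  · rw [← hcardO]
    exact Nat.card_le_card_of_injective f hinj
  · intro hc z hz hz1
    have hbij : Function.Bijective f :=
      hinj.bijective_of_nat_card_le (by rw [hcardO, hc])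
    obtain ⟨o, ho⟩ := hbij.2 ⟨z, hz⟩
    match o with
    | none =>
      exfalso
      have h1 : (1 : G) = z := congrArg Subtype.val ho
      exact hz1 h1.symm
    | some i =>
      refine ⟨i, ?_⟩
      exact congrArg Subtype.val ho

end Cfsg.Agent.H2.TwoPr
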