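import Mathlib
import Cfsg.Agent.H2.TwoPrA
import Cfsg.Agent.H2.CycSylA
import Cfsg.Agent.H2.KleinResA
import Cfsg.Agent.H1.AbelianSylowQuotient

/-!
# The Mersenne setting of the two-prime theorem (S4017): basic facts, helper2
-/

set_option autoImplicit false

universe u

namespace Cfsg.Agent.H2.TwoPr

open Subgroup
open Cfsg.Agent.H2.CycSylAb (mem_normalizer_of_conj_le)

/-- The Mersenne setting: `G` simple, `p = 2 ^ a - 1` an odd prime, every proper subgroup of even
order is a `{2,p}`-group, abelian Sylow `p`-subgroups, a Sylow `2`-subgroup `Q` of order `2 ^ a`,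
and a `p`-element `x` normalizing `Q` and transitive on `Q \ {1}`. -/
structure MCtx (p : ℕ) [hp : Fact p.Prime] (G : Type u) [Group G] [Finite G] : Type u where
  hp2 : p ≠ 2
  a : ℕ
  ha : 2 ^ a = p + 1
  simple : IsSimpleGroup G
  star : ∀ H : Subgroup G, H ≠ ⊤ → 2 ∣ Nat.card H → PQ p 2 (Nat.card H)
  hab : ∀ P : Sylow p G, IsMulCommutative P
  hpG : p ∣ Nat.card G
  Q : Sylow 2 G
  hQcard : Nat.card Q = 2 ^ a
  x : G
  hxN : x ∈ normalizer ((Q : Subgroup G) : Set G)
  k : ℕ
  hxp : x ^ (p ^ k) = 1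
  hxtrans : ∀ y ∈ (Q : Subgroup G), y ≠ 1 → ∀ z ∈ (Q : Subgroup G), z ≠ 1 →
    ∃ i : ℕ, x ^ i * y * (x ^ i)⁻¹ = z

variable {G : Type u} [Group G] [Finite G] {p : ℕ} [hp : Fact p.Prime] (c : MCtx p G)

namespace MCtx

include c

omit [Group G] [Finite G] c in
theorem hpp' : p.Prime := hp.out

theorem hpp : p.Prime := hp.out

theorem three_le_p : 3 ≤ p := by
  have h2 := c.hpp.two_le
  have := c.hp2
  omega

theorem two_le_a : 2 ≤ c.a := by
  by_contra h
  push Not at h
  have h3 := c.three_le_p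
  have ha := c.ha
  interval_cases c.a <;> omega

theorem p_odd : ¬ 2 ∣ p := by
  intro h
  exact c.hp2 ((Nat.prime_dvd_prime_iff_eq Nat.prime_two c.hpp).1 h).symm

theorem coprime_two_p : Nat.Coprime 2 p :=
  (Nat.coprime_primes Nat.prime_two c.hpp).2 (Ne.symm c.hp2)

omit c in
/-- the exponent of `p` in the order of `G` -/
noncomputable abbrev e (_c : MCtx p G) : ℕ := (Nat.card G).factorization p

theorem card_P (P : Sylow p G) : Nat.card P = p ^ c.e := P.card_eq_multiplicity

theorem a_eq : c.a = (Nat.card G).factorization 2 := by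
  have : Fact (Nat.Prime 2) := ⟨Nat.prime_two⟩
  have h1 := c.Q.card_eq_multiplicity
  rw [c.hQcard] at h1
  exact Nat.pow_right_injective (le_refl 2) h1

theorem one_le_e : 1 ≤ c.e :=
  (Nat.Prime.dvd_iff_one_le_factorization c.hpp Nat.card_pos.ne').1 c.hpG

theorem two_dvd_card_G : 2 ∣ Nat.card G := by
  have h1 : 2 ∣ Nat.card c.Q := by
    rw [c.hQcard]
    exact dvd_pow_self 2 (by have := c.two_le_a; omega)
  exact h1.trans (Subgroup.card_subgroup_dvd_card _)

/-- the order of a proper subgroup of even order divides `2 ^ a * p ^ e` -/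
theorem card_dvd {H : Subgroup G} (hH : H ≠ ⊤) (h2 : 2 ∣ Nat.card H) :
    Nat.card H ∣ 2 ^ c.a * p ^ c.e := by
  have h := PQ.dvd_parts c.hpp Nat.prime_two c.hp2 Nat.card_pos.ne'
    (Subgroup.card_subgroup_dvd_card H) (c.star H hH h2)
  rw [← c.a_eq, mul_comm] at h
  exact h

theorem pow_pe_of_odd {H : Subgroup G} (hH : H ≠ ⊤) (h2 : 2 ∣ Nat.card H) {y : G} (hy : y ∈ H)
    (hodd : ¬ 2 ∣ orderOf y) : y ^ (p ^ c.e) = 1 := by
  have h1 : orderOf y ∣ Nat.card H := by
    have := orderOf_dvd_natCard (⟨y, hy⟩ : H)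
    rwa [Subgroup.orderOf_mk] at this
  have h3 := h1.trans (c.card_dvd hH h2)
  have hcop : (orderOf y).Coprime (2 ^ c.a) :=
    Nat.Coprime.pow_right _ ((Nat.Prime.coprime_iff_not_dvd Nat.prime_two).2 hodd).symm
  exact orderOf_dvd_iff_pow_eq_one.1 (hcop.dvd_of_dvd_mul_left h3)

theorem pgroup_ne_top {Z : Subgroup G} (hZ : IsPGroup p Z) : Z ≠ ⊤ := by
  rintro rfl
  obtain ⟨k, hk⟩ := IsPGroup.iff_card.1 hZ
  have h2 := c.two_dvd_card_G
  rw [← Subgroup.card_top (G := G), hk] at h2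
  exact c.p_odd (Nat.Prime.dvd_of_dvd_pow Nat.prime_two h2)

theorem twogroup_ne_top {T : Subgroup G} (hT : IsPGroup 2 T) : T ≠ ⊤ := by
  rintro rfl
  have : Fact (Nat.Prime 2) := ⟨Nat.prime_two⟩
  obtain ⟨k, hk⟩ := IsPGroup.iff_card.1 hT
  have h2 := c.hpG
  rw [← Subgroup.card_top (G := G), hk] at h2
  exact c.hp2 ((Nat.prime_dvd_prime_iff_eq c.hpp Nat.prime_two).1
    (Nat.Prime.dvd_of_dvd_pow c.hpp h2))

theorem normalizer_ne_top {K : Subgroup G} (h1 : K ≠ ⊥) (h2 : K ≠ ⊤) :
    normalizer (K : Set G) ≠ ⊤ := by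
  intro h
  rw [normalizer_eq_top_iff] at h
  haveI := c.simple
  rcases h.eq_bot_or_eq_top with h3 | h3
  · exact h1 h3
  · exact h2 h3

/-- `p`-elements: those killed by `p ^ e` -/
theorem isPGroup_zpowers {y : G} {k : ℕ} (hy : y ^ (p ^ k) = 1) : IsPGroup p (zpowers y) := by
  have hd : orderOf y ∣ p ^ k := orderOf_dvd_of_pow_eq_one hy
  obtain ⟨j, _, hj⟩ := (Nat.dvd_prime_pow c.hpp).1 hd
  exact IsPGroup.of_card (n := j) (by rw [Nat.card_zpowers, hj])

theorem pow_pe_of_mem_pgroup {Z : Subgroup G} (hZ : IsPGroup p Z) {y : G} (hy : y ∈ Z) :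
    y ^ (p ^ c.e) = 1 := by
  obtain ⟨P, hP⟩ := hZ.exists_le_sylow
  have := pow_card_eq_one' (G := (P : Subgroup G)) (x := ⟨y, hP hy⟩)
  rw [c.card_P P] at this
  exact congrArg Subtype.val this

theorem pow_pe_of_mem (P : Sylow p G) {y : G} (hy : y ∈ (P : Subgroup G)) : y ^ (p ^ c.e) = 1 :=
  c.pow_pe_of_mem_pgroup P.isPGroup' hy

/-- an element which is both a `2`-element of exponent 2 and a `p`-element is trivial -/
theorem eq_one_of_sq_of_pe {y : G} (h2 : y * y = 1) (hpe : y ^ (p ^ c.e) = 1) : y = 1 := by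
  apply Cfsg.Agent.H2.KleinRes.eq_one_of_sq_of_odd_pow _ h2 hpe
  apply Odd.pow
  rcases Nat.even_or_odd p with h | h
  · exact absurd (even_iff_two_dvd.1 h) c.p_odd
  · exact h

/-- the abelian Sylow `p`-subgroups: commuting -/
theorem P_comm (P : Sylow p G) {y z : G} (hy : y ∈ (P : Subgroup G)) (hz : z ∈ (P : Subgroup G)) :
    y * z = z * y := by
  have := (c.hab P).is_comm.comm ⟨y, hy⟩ ⟨z, hz⟩
  exact congrArg Subtype.val this

/-- the focal subgroup argument: no nontrivial element of `P` is central in `N_G(P)` -/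
theorem focal (P : Sylow p G) {y : G} (hy : y ∈ (P : Subgroup G))
    (hc : ∀ n ∈ normalizer ((P : Subgroup G) : Set G), n * y = y * n) : y = 1 := by
  obtain ⟨N, hN, ⟨e⟩⟩ := Cfsg.Agent.H1.abelian_sylow_quotient P (c.hab P)
  haveI := hN
  have hmem : y ∈ ((P : Subgroup G) ⊓
      Subgroup.centralizer (Subgroup.normalizer (P : Set G) : Set G) : Subgroup G) := by
    refine Subgroup.mem_inf.2 ⟨hy, ?_⟩
    rw [mem_centralizer_iff]
    intro n hn
    exact hc n hn
  have hcard : N.index = Nat.card ((P : Subgroup G) ⊓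
      Subgroup.centralizer (Subgroup.normalizer (P : Set G) : Set G) : Subgroup G) := by
    rw [Subgroup.index_eq_card]
    exact Nat.card_congr e.toEquiv
  haveI := c.simple
  rcases hN.eq_bot_or_eq_top with h | h
  · exfalso
    rw [h, Subgroup.index_bot] at hcard
    have h1 : Nat.card G ∣ Nat.card (P : Subgroup G) := by
      rw [hcard]
      exact Subgroup.card_dvd_of_le inf_le_left
    rw [c.card_P P] at h1
    exact c.p_odd (Nat.Prime.dvd_of_dvd_pow Nat.prime_two (c.two_dvd_card_G.trans h1))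
  · rw [h, Subgroup.index_top] at hcard
    have hbot := Subgroup.eq_bot_of_card_eq _ hcard.symm
    rw [hbot, Subgroup.mem_bot] at hmem
    exact hmem

/-- Sylow counting: in a proper subgroup of even order, a Sylow `p`-subgroup with even
normalizer is normal. -/
theorem sylow_normal_of_even {H : Subgroup G} (hH : H ≠ ⊤) (PH : Sylow p H)
    (h2 : 2 ∣ Nat.card (normalizer ((PH : Subgroup H) : Set H))) :
    (PH : Subgroup H).Normal := by
  have hmod := card_sylow_modEq_one p H
  have hidx : Nat.card (Sylow p H) = (normalizer ((PH : Subgroup H) : Set H)).index :=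
    PH.card_eq_index_normalizer
  have hmul := (normalizer ((PH : Subgroup H) : Set H)).card_mul_index
  have h2H : 2 ∣ Nat.card H := by rw [← hmul]; exact Dvd.dvd.mul_right h2 _
  have hdvd := c.card_dvd hH h2H
  set n := Nat.card (Sylow p H) with hn
  have h2n : 2 * n ∣ Nat.card H := by
    rw [← hmul, ← hidx]
    exact Nat.mul_dvd_mul_right h2 _
  have hcopn : n.Coprime p := by
    have := hmod.gcd_eq
    rw [Nat.gcd_one_left] at this
    exact this
  have hcop : (2 * n).Coprime (p ^ c.e) :=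
    Nat.Coprime.pow_right _ (Nat.Coprime.mul_left c.coprime_two_p hcopn)
  have h3 : 2 * n ∣ 2 ^ c.a := hcop.dvd_of_dvd_mul_right (h2n.trans hdvd)
  have h4 : 2 * n ≤ p + 1 := by
    rw [← c.ha]
    exact Nat.le_of_dvd (by positivity) h3
  have h3p := c.three_le_p
  have hnp : n < p := by omega
  have hn1 : n = 1 := by
    have := hmod
    unfold Nat.ModEq at this
    rw [Nat.mod_eq_of_lt hnp, Nat.mod_eq_of_lt (by omega)] at this
    exact this
  haveI : Subsingleton (Sylow p H) := (Nat.card_eq_one_iff_unique.1 hn1).1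
  exact Sylow.normal_of_subsingleton PH

omit c in
/-- a normal Sylow `p`-subgroup of a subgroup `H`, as a subgroup of `G` -/
theorem exists_P0 {H : Subgroup G} (PH : Sylow p H) (hn : (PH : Subgroup H).Normal) :
    ∃ P₀ : Subgroup G, IsPGroup p P₀ ∧ P₀ ≤ H ∧ H ≤ normalizer (P₀ : Set G) ∧
      (∀ y ∈ H, ∀ k : ℕ, y ^ (p ^ k) = 1 → y ∈ P₀) := by
  refine ⟨(PH : Subgroup H).map H.subtype, PH.isPGroup'.map _, Subgroup.map_subtype_le _, ?_, ?_⟩
  · intro h hh
    apply mem_normalizer_of_conj_le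
    rintro _ ⟨t, ht, rfl⟩
    refine ⟨⟨h, hh⟩ * t * ⟨h, hh⟩⁻¹, hn.conj_mem t ht ⟨h, hh⟩, ?_⟩
    simp
  · intro y hy k hk
    have hZ : IsPGroup p (zpowers (⟨y, hy⟩ : H)) := by
      have hd : orderOf (⟨y, hy⟩ : H) ∣ p ^ k := by
        apply orderOf_dvd_of_pow_eq_one
        apply Subtype.ext
        simpa using hk
      obtain ⟨j, _, hj⟩ := (Nat.dvd_prime_pow hp.out).1 hd
      exact IsPGroup.of_card (n := j) (by rw [Nat.card_zpowers, hj])
    obtain ⟨Q', hQ'⟩ := hZ.exists_le_sylow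
    haveI := Sylow.unique_of_normal PH hn
    have : Q' = PH := Subsingleton.elim _ _
    rw [this] at hQ'
    exact ⟨⟨y, hy⟩, hQ' (mem_zpowers _), rfl⟩

theorem centralizer_invol_ne_top {t : G} (ht : t * t = 1) (ht1 : t ≠ 1) :
    centralizer ({t} : Set G) ≠ ⊤ := by
  intro h
  have hZ : IsPGroup 2 (zpowers t) := by
    have : Fact (Nat.Prime 2) := ⟨Nat.prime_two⟩
    exact IsPGroup.of_card (n := 1)
      (by rw [Nat.card_zpowers, Cfsg.Agent.H2.KleinRes.orderOf_two_of ht ht1, pow_one])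
  have hne : zpowers t ≠ ⊥ := by
    intro hb
    rw [zpowers_eq_bot] at hb
    exact ht1 hb
  apply c.normalizer_ne_top hne (c.twogroup_ne_top hZ)
  rw [eq_top_iff]
  intro g _
  apply mem_normalizer_of_conj_le
  intro u hu
  have hg : g ∈ centralizer ({t} : Set G) := by rw [h]; trivial
  rw [mem_centralizer_singleton_iff] at hg
  obtain ⟨k, rfl⟩ := mem_zpowers_iff.1 hu
  have : g * t ^ k * g⁻¹ = t ^ k := by
    rw [← conj_zpow]
    congr 1
    rw [hg]; group
  rw [this]
  exact zpow_mem (mem_zpowers t) k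

theorem two_dvd_card_centralizer {t : G} (ht : t * t = 1) (ht1 : t ≠ 1) :
    2 ∣ Nat.card (centralizer ({t} : Set G)) := by
  have hmem : t ∈ centralizer ({t} : Set G) := by
    rw [mem_centralizer_singleton_iff]
  have := orderOf_dvd_natCard (⟨t, hmem⟩ : centralizer ({t} : Set G))
  rwa [Subgroup.orderOf_mk, Cfsg.Agent.H2.KleinRes.orderOf_two_of ht ht1] at this

/-- the `p`-elements of the centralizer of an involution form a normal subgroup of it -/
theorem exists_P0_invol {t : G} (ht : t * t = 1) (ht1 : t ≠ 1) :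
    ∃ P₀ : Subgroup G, IsPGroup p P₀ ∧ P₀ ≤ centralizer ({t} : Set G) ∧
      centralizer ({t} : Set G) ≤ normalizer (P₀ : Set G) ∧
      (∀ y : G, y * t = t * y → ∀ k : ℕ, y ^ (p ^ k) = 1 → y ∈ P₀) := by
  obtain ⟨PH⟩ : Nonempty (Sylow p (centralizer ({t} : Set G))) := inferInstance
  have hmem : t ∈ centralizer ({t} : Set G) := by
    rw [mem_centralizer_singleton_iff]
  have h2 : 2 ∣ Nat.card (normalizer ((PH : Subgroup (centralizer ({t} : Set G))) :
      Set (centralizer ({t} : Set G)))) := by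
    have hmem2 : (⟨t, hmem⟩ : centralizer ({t} : Set G)) ∈
        normalizer ((PH : Subgroup (centralizer ({t} : Set G))) :
          Set (centralizer ({t} : Set G))) := by
      apply mem_normalizer_of_conj_le
      intro u hu
      have hu2 := u.2
      rw [mem_centralizer_singleton_iff] at hu2
      have : (⟨t, hmem⟩ : centralizer ({t} : Set G)) * u * (⟨t, hmem⟩)⁻¹ = u := by
        apply Subtype.ext
        simp only [Subgroup.coe_mul, Subgroup.coe_inv]
        rw [← hu2]; group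
      rw [this]
      exact hu
    have := orderOf_dvd_natCard (⟨⟨t, hmem⟩, hmem2⟩ :
      normalizer ((PH : Subgroup (centralizer ({t} : Set G))) : Set (centralizer ({t} : Set G))))
    rwa [Subgroup.orderOf_mk, Subgroup.orderOf_mk,
      Cfsg.Agent.H2.KleinRes.orderOf_two_of ht ht1] at this
  have hn := c.sylow_normal_of_even (c.centralizer_invol_ne_top ht ht1) PH h2
  obtain ⟨P₀, h1, h2, h3, h4⟩ := exists_P0 PH hn
  refine ⟨P₀, h1, h2, h3, ?_⟩
  intro y hy k hk
  exact h4 y (by rw [mem_centralizer_singleton_iff]; exact hy) k hk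

end MCtx

end Cfsg.Agent.H2.TwoPr
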