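import Mathlib
import Cfsg.Agent.H2.TwoPrB

/-!
# The Mersenne setting of the two-prime theorem (S4017): Sylow facts, helper2
-/

set_option autoImplicit false

universe u

namespace Cfsg.Agent.H2.TwoPr

open Subgroup
open Cfsg.Agent.H2.CycSylAb (mem_normalizer_of_conj_le)
open Cfsg.Agent.H2.KleinRes (orderOf_two_of mul_self_of_orderOf_two inv_of_mul_self)

variable {G : Type u} [Group G] [Finite G] {p : ℕ} [hp : Fact p.Prime] (c : MCtx p G)

namespace MCtx

include c

/-- every `2`-subgroup is conjugate into `Q` -/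
theorem exists_conj_le_Q {T : Subgroup G} (hT : IsPGroup 2 T) :
    ∃ g : G, ∀ w ∈ T, g⁻¹ * w * g ∈ (c.Q : Subgroup G) := by
  have : Fact (Nat.Prime 2) := ⟨Nat.prime_two⟩
  obtain ⟨Q', hQ'⟩ := hT.exists_le_sylow
  obtain ⟨g, hg⟩ := MulAction.exists_smul_eq G c.Q Q'
  refine ⟨g, fun w hw => ?_⟩
  have hwQ : w ∈ (Q' : Subgroup G) := hQ' hw
  rw [← hg, Sylow.smul_def] at hwQ
  have hy0 := (Subgroup.mem_pointwise_smul_iff_inv_smul_mem).mp hwQ
  have hconj : (MulAut.conj g)⁻¹ • w = g⁻¹ * w * g := by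
    rw [MulAut.smul_def, MulAut.conj_inv_apply]
  rw [hconj] at hy0
  exact hy0

theorem isPGroup_two_zpowers {w : G} {j : ℕ} (hw : w ^ (2 ^ j) = 1) : IsPGroup 2 (zpowers w) := by
  have : Fact (Nat.Prime 2) := ⟨Nat.prime_two⟩
  have hd : orderOf w ∣ 2 ^ j := orderOf_dvd_of_pow_eq_one hw
  obtain ⟨i, _, hi⟩ := (Nat.dvd_prime_pow Nat.prime_two).1 hd
  exact IsPGroup.of_card (n := i) (by rw [Nat.card_zpowers, hi])

theorem exists_conj_mem_Q {w : G} {j : ℕ} (hw : w ^ (2 ^ j) = 1) :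
    ∃ g : G, g⁻¹ * w * g ∈ (c.Q : Subgroup G) := by
  obtain ⟨g, hg⟩ := c.exists_conj_le_Q (c.isPGroup_two_zpowers hw)
  exact ⟨g, hg w (mem_zpowers w)⟩

theorem card_Q_pos : 4 ≤ Nat.card c.Q := by
  rw [c.hQcard]
  calc 4 = 2 ^ 2 := by norm_num
    _ ≤ 2 ^ c.a := Nat.pow_le_pow_right (by norm_num) c.two_le_a

/-- `Q` has exponent 2 -/
theorem sq_eq_one_Q {y : G} (hy : y ∈ (c.Q : Subgroup G)) : y * y = 1 := by
  have : Fact (Nat.Prime 2) := ⟨Nat.prime_two⟩
  have h2 : 2 ∣ Nat.card (c.Q : Subgroup G) := by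
    have h1 : Nat.card (c.Q : Subgroup G) = 2 ^ c.a := c.hQcard
    rw [h1]
    exact dvd_pow_self 2 (by have := c.two_le_a; omega)
  obtain ⟨y₀, hy₀⟩ := exists_prime_orderOf_dvd_card' (G := (c.Q : Subgroup G)) 2 h2
  have hy₀' : orderOf (y₀ : G) = 2 := (Subgroup.orderOf_coe y₀).trans hy₀
  by_cases h1 : y = 1
  · rw [h1, mul_one]
  · obtain ⟨i, hi⟩ := c.hxtrans y₀ y₀.2 (Cfsg.Agent.H2.KleinRes.ne_one_of_orderOf_two hy₀') y hy h1
    rw [← hi]
    calc c.x ^ i * ↑y₀ * (c.x ^ i)⁻¹ * (c.x ^ i * ↑y₀ * (c.x ^ i)⁻¹)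
        = c.x ^ i * (↑y₀ * ↑y₀) * (c.x ^ i)⁻¹ := by group
      _ = 1 := by rw [mul_self_of_orderOf_two hy₀']; group

theorem Q_comm {u v : G} (hu : u ∈ (c.Q : Subgroup G)) (hv : v ∈ (c.Q : Subgroup G)) :
    u * v = v * u :=
  Cfsg.Agent.H2.KleinRes.sylow2_comm c.Q (fun x => Subtype.ext (c.sq_eq_one_Q x.2)) hu hv

/-- every `2`-element is an involution or trivial -/
theorem two_elt_sq {w : G} {j : ℕ} (hw : w ^ (2 ^ j) = 1) : w * w = 1 := by
  obtain ⟨g, hg⟩ := c.exists_conj_mem_Q hw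
  have := c.sq_eq_one_Q hg
  calc w * w = g * ((g⁻¹ * w * g) * (g⁻¹ * w * g)) * g⁻¹ := by group
    _ = 1 := by rw [this]; group

/-- `2`-subgroups are abelian -/
theorem twogroup_comm {T : Subgroup G} (hT : IsPGroup 2 T) {u v : G} (hu : u ∈ T) (hv : v ∈ T) :
    u * v = v * u := by
  obtain ⟨g, hg⟩ := c.exists_conj_le_Q hT
  have := c.Q_comm (hg u hu) (hg v hv)
  calc u * v = g * ((g⁻¹ * u * g) * (g⁻¹ * v * g)) * g⁻¹ := by group
    _ = g * ((g⁻¹ * v * g) * (g⁻¹ * u * g)) * g⁻¹ := by rw [this]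
    _ = v * u := by group

/-- all involutions are conjugate -/
theorem invol_conj {s t : G} (hs : s * s = 1) (hs1 : s ≠ 1) (ht : t * t = 1) (ht1 : t ≠ 1) :
    ∃ g : G, g * s * g⁻¹ = t := by
  have hs' : s ^ (2 ^ 1) = 1 := by rw [pow_one, pow_two, hs]
  have ht' : t ^ (2 ^ 1) = 1 := by rw [pow_one, pow_two, ht]
  obtain ⟨g₁, hg₁⟩ := c.exists_conj_mem_Q hs'
  obtain ⟨g₂, hg₂⟩ := c.exists_conj_mem_Q ht'
  have h1 : g₁⁻¹ * s * g₁ ≠ 1 := by
    intro h
    apply hs1
    calc s = g₁ * (g₁⁻¹ * s * g₁) * g₁⁻¹ := by group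
      _ = 1 := by rw [h]; group
  have h2 : g₂⁻¹ * t * g₂ ≠ 1 := by
    intro h
    apply ht1
    calc t = g₂ * (g₂⁻¹ * t * g₂) * g₂⁻¹ := by group
      _ = 1 := by rw [h]; group
  obtain ⟨i, hi⟩ := c.hxtrans _ hg₁ h1 _ hg₂ h2
  refine ⟨g₂ * c.x ^ i * g₁⁻¹, ?_⟩
  calc g₂ * c.x ^ i * g₁⁻¹ * s * (g₂ * c.x ^ i * g₁⁻¹)⁻¹
      = g₂ * (c.x ^ i * (g₁⁻¹ * s * g₁) * (c.x ^ i)⁻¹) * g₂⁻¹ := by group
    _ = t := by rw [hi]; group

/-- `P ≤ C_G(Z)` for `Z ≤ P` -/
theorem sylow_le_centralizer (P : Sylow p G) {Z : Subgroup G} (hZP : Z ≤ P) :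
    (P : Subgroup G) ≤ centralizer (Z : Set G) := by
  intro y hy
  rw [mem_centralizer_iff]
  intro z hz
  exact c.P_comm P (hZP hz) hy

omit c in
theorem normalizer_le_normalizer_centralizer (Z : Subgroup G) :
    normalizer (Z : Set G) ≤ normalizer ((centralizer (Z : Set G) : Subgroup G) : Set G) := by
  intro g hg
  apply mem_normalizer_of_conj_le
  intro u hu
  rw [mem_centralizer_iff] at hu ⊢
  intro z hz
  have hz' : g⁻¹ * z * g ∈ Z := by
    have := (mem_set_normalizer_iff''.1 hg z).1 hz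
    exact this
  have := hu _ hz'
  calc z * (g * u * g⁻¹) = g * ((g⁻¹ * z * g) * u) * g⁻¹ := by group
    _ = g * (u * (g⁻¹ * z * g)) * g⁻¹ := by rw [this]
    _ = g * u * g⁻¹ * z := by group

/-- The normalizer dichotomy: for `1 ≠ Z ≤ P` with `N_G(Z)` of even order, either
`N_G(Z) ≤ N_G(P)` or `N_G(Z) = C_G(Z)`. -/
theorem normalizer_dichotomy (P : Sylow p G) {Z : Subgroup G} (hZP : Z ≤ P) (hZ : Z ≠ ⊥)
    (h2 : 2 ∣ Nat.card (normalizer (Z : Set G))) :
    normalizer (Z : Set G) ≤ normalizer ((P : Subgroup G) : Set G) ∨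
    normalizer (Z : Set G) ≤ centralizer (Z : Set G) := by
  have hZp : IsPGroup p Z := P.isPGroup'.to_le hZP
  have hH : normalizer (Z : Set G) ≠ ⊤ := c.normalizer_ne_top hZ (c.pgroup_ne_top hZp)
  have hPC := c.sylow_le_centralizer P hZP
  have hPH : (P : Subgroup G) ≤ normalizer (Z : Set G) :=
    hPC.trans (centralizer_le_normalizer _)
  obtain ⟨PH, hPHdef⟩ : ∃ PH : Sylow p (normalizer (Z : Set G)), PH = P.subtype hPH := ⟨_, rfl⟩
  have hcoe : ∀ y : normalizer (Z : Set G), y ∈ (PH : Subgroup _) ↔ (y : G) ∈ (P : Subgroup G) := by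
    intro y
    rw [hPHdef]
    exact Iff.rfl
  have hmod := card_sylow_modEq_one p (normalizer (Z : Set G))
  have hidx : Nat.card (Sylow p (normalizer (Z : Set G)))
      = (normalizer ((PH : Subgroup (normalizer (Z : Set G))) :
          Set (normalizer (Z : Set G)))).index := PH.card_eq_index_normalizer
  have hdvdidx := PH.card_dvd_index
  have hcardPH : Nat.card (PH : Subgroup (normalizer (Z : Set G))) = p ^ c.e := by
    rw [← c.card_P P, hPHdef]
    exact Nat.card_congr (Subgroup.subgroupOfEquivOfLe hPH).toEquiv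
  have hmulPH := (PH : Subgroup (normalizer (Z : Set G))).card_mul_index
  have hdvd := c.card_dvd hH h2
  have hidx2 : (PH : Subgroup (normalizer (Z : Set G))).index ∣ 2 ^ c.a := by
    rw [← hmulPH, hcardPH, mul_comm] at hdvd
    exact Nat.dvd_of_mul_dvd_mul_right (pow_pos c.hpp.pos _) hdvd
  set n := Nat.card (Sylow p (normalizer (Z : Set G))) with hn
  have hn2 : n ∣ p + 1 := by rw [← c.ha]; exact hdvdidx.trans hidx2
  have hnle : n ≤ p + 1 := Nat.le_of_dvd (by omega) hn2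
  have h3p := c.three_le_p
  have hcases : n = 1 ∨ n = p + 1 := by
    have := hmod
    unfold Nat.ModEq at this
    rw [Nat.mod_eq_of_lt (by omega : 1 < p)] at this
    rcases Nat.lt_or_ge n p with h | h
    · left; rw [Nat.mod_eq_of_lt h] at this; exact this
    · right
      rcases Nat.eq_or_lt_of_le h with h' | h'
      · rw [← h', Nat.mod_self] at this; omega
      · omega
  rcases hcases with h1 | h1
  · left
    haveI : Subsingleton (Sylow p (normalizer (Z : Set G))) := (Nat.card_eq_one_iff_unique.1 h1).1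
    have hnorm : (PH : Subgroup (normalizer (Z : Set G))).Normal := Sylow.normal_of_subsingleton PH
    intro g hg
    apply mem_normalizer_of_conj_le
    intro u hu
    have h3 := hnorm.conj_mem ⟨u, hPH hu⟩ ((hcoe _).2 hu) ⟨g, hg⟩
    have h4 := (hcoe _).1 h3
    simpa using h4
  · right
    -- the normalizer of `PH` is `PH`
    have hidxeq : (PH : Subgroup (normalizer (Z : Set G))).index = p + 1 := by
      apply Nat.dvd_antisymm
      · rw [← c.ha]; exact hidx2
      · rw [← h1]; exact hdvdidx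
    have hNeq : normalizer ((PH : Subgroup (normalizer (Z : Set G))) :
        Set (normalizer (Z : Set G))) = (PH : Subgroup (normalizer (Z : Set G))) := by
      symm
      apply Subgroup.eq_of_le_of_card_ge le_normalizer
      have hm := (normalizer ((PH : Subgroup (normalizer (Z : Set G))) :
        Set (normalizer (Z : Set G)))).card_mul_index
      rw [← hidx, h1] at hm
      rw [hidxeq] at hmulPH
      have : Nat.card (normalizer ((PH : Subgroup (normalizer (Z : Set G))) :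
          Set (normalizer (Z : Set G)))) * (p + 1)
          = Nat.card (PH : Subgroup (normalizer (Z : Set G))) * (p + 1) := by
        rw [hm, hmulPH]
      exact (Nat.eq_of_mul_eq_mul_right (by omega) this).le
    -- Frattini
    haveI hCn : ((centralizer (Z : Set G)).subgroupOf (normalizer (Z : Set G))).Normal :=
      Subgroup.normal_subgroupOf_of_le_normalizer (normalizer_le_normalizer_centralizer Z)
    have hPHC : (PH : Subgroup (normalizer (Z : Set G))) ≤
        (centralizer (Z : Set G)).subgroupOf (normalizer (Z : Set G)) := by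
      intro y hy
      rw [Subgroup.mem_subgroupOf]
      exact hPC ((hcoe y).1 hy)
    have hfr := Sylow.normalizer_sup_eq_top' PH hPHC
    have hfr' : normalizer ((PH : Subgroup (normalizer (Z : Set G))) :
        Set (normalizer (Z : Set G))) ⊔
        (centralizer (Z : Set G)).subgroupOf (normalizer (Z : Set G)) = ⊤ := hfr
    rw [hNeq, sup_eq_right.2 hPHC, Subgroup.subgroupOf_eq_top] at hfr'
    exact hfr'

end MCtx

end Cfsg.Agent.H2.TwoPr
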