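import Mathlib
import Cfsg.Agent.H2.TwoPrC

/-!
# The Mersenne setting of the two-prime theorem (S4017): case I, structure. helper2
-/

set_option autoImplicit false

universe u

namespace Cfsg.Agent.H2.TwoPr

open Subgroup
open scoped Pointwise
open Cfsg.Agent.H2.CycSylAb (mem_normalizer_of_conj_le)
open Cfsg.Agent.H2.KleinRes (orderOf_two_of mul_self_of_orderOf_two inv_of_mul_self
  mem_sylow_of_mem_normalizer)

variable {G : Type u} [Group G] [Finite G] {p : ℕ} [hp : Fact p.Prime] (c : MCtx p G)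

omit [Finite G] hp in
theorem mem_smul_sylow {g : G} {P : Sylow p G} {y : G} :
    y ∈ ((g • P : Sylow p G) : Subgroup G) ↔ g⁻¹ * y * g ∈ (P : Subgroup G) := by
  rw [Sylow.coe_subgroup_smul, Subgroup.mem_pointwise_smul_iff_inv_smul_mem]
  have hconj : (MulAut.conj g)⁻¹ • y = g⁻¹ * y * g := by
    rw [MulAut.smul_def, MulAut.conj_inv_apply]
  rw [hconj]

omit [Finite G] in
/-- a subgroup with more than `n` elements has an element outside any finset of size `≤ n` -/
theorem exists_mem_notMem [DecidableEq G] (Q : Subgroup G) [Finite Q] (S : Finset G)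
    (h : S.card < Nat.card Q) : ∃ y ∈ Q, y ∉ S := by
  by_contra hcon
  push Not at hcon
  have hsub : (Q : Set G) ⊆ (S : Set G) := fun y hy => hcon y hy
  have h1 : Nat.card (Q : Set G) ≤ Nat.card (S : Set G) := Nat.card_mono (Set.toFinite _) hsub
  have h2 : Nat.card (S : Set G) = S.card := by
    rw [Nat.card_coe_set_eq, Set.ncard_coe_finset]
  have h3 : Nat.card (Q : Set G) = Nat.card Q := rfl
  omega

namespace MCtx

/-- `T` centralizes the `p`-elements of `C_G(t)` -/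
def CentP (T : Subgroup G) (t : G) : Prop :=
  ∀ y : G, y * t = t * y → y ^ (p ^ c.e) = 1 → ∀ w ∈ T, w * y = y * w

include c

theorem Q_le_centralizer {t : G} (ht : t ∈ (c.Q : Subgroup G)) :
    (c.Q : Subgroup G) ≤ centralizer ({t} : Set G) := by
  intro w hw
  rw [mem_centralizer_singleton_iff]
  exact c.Q_comm hw ht

/-- Case I setup: some `t ∈ Q` and a Sylow `p`-subgroup `P` with `Q, C_G(t) ≤ N_G(P)` -/
theorem caseI_setup {t : G} (ht : t ∈ (c.Q : Subgroup G)) (ht1 : t ≠ 1)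
    (hnot : ¬ c.CentP (c.Q : Subgroup G) t) :
    ∃ P : Sylow p G, (c.Q : Subgroup G) ≤ normalizer ((P : Subgroup G) : Set G) ∧
      centralizer ({t} : Set G) ≤ normalizer ((P : Subgroup G) : Set G) := by
  unfold CentP at hnot
  push Not at hnot
  obtain ⟨y, hyt, hype, w, hw, hwy⟩ := hnot
  have htt := c.sq_eq_one_Q ht
  obtain ⟨P₀, hP₀p, hP₀C, hCN, hall⟩ := c.exists_P0_invol htt ht1
  have hyP₀ : y ∈ P₀ := hall y hyt _ hype
  have hP₀ne : P₀ ≠ ⊥ := by
    intro h
    rw [h, Subgroup.mem_bot] at hyP₀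
    apply hwy
    rw [hyP₀, mul_one, one_mul]
  obtain ⟨P, hP⟩ := hP₀p.exists_le_sylow
  have h2 : 2 ∣ Nat.card (normalizer (P₀ : Set G)) :=
    (c.two_dvd_card_centralizer htt ht1).trans (Subgroup.card_dvd_of_le hCN)
  have hQC := c.Q_le_centralizer ht
  rcases c.normalizer_dichotomy P hP hP₀ne h2 with h | h
  · exact ⟨P, hQC.trans (hCN.trans h), hCN.trans h⟩
  · exfalso
    have hwC : w ∈ centralizer (P₀ : Set G) := h (hCN (hQC hw))
    rw [mem_centralizer_iff] at hwC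
    exact hwy (hwC y hyP₀).symm

end MCtx

/-- the setting of case I -/
structure CaseI (c : MCtx p G) where
  t : G
  ht : t ∈ (c.Q : Subgroup G)
  ht1 : t ≠ 1
  P : Sylow p G
  hQN : (c.Q : Subgroup G) ≤ normalizer ((P : Subgroup G) : Set G)
  hCN : centralizer ({t} : Set G) ≤ normalizer ((P : Subgroup G) : Set G)

namespace CaseI

variable {c} (d : CaseI c)

include d

theorem htt : d.t * d.t = 1 := c.sq_eq_one_Q d.ht

theorem P_ne_bot : (d.P : Subgroup G) ≠ ⊥ := by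
  intro h
  have h1 := c.card_P d.P
  rw [h, Subgroup.card_bot] at h1
  have h2 : p ∣ p ^ c.e := dvd_pow_self p (by have := c.one_le_e; omega)
  rw [← h1] at h2
  exact c.hpp.one_lt.ne' (Nat.dvd_one.1 h2)

theorem N_ne_top : normalizer ((d.P : Subgroup G) : Set G) ≠ ⊤ :=
  c.normalizer_ne_top d.P_ne_bot (c.pgroup_ne_top d.P.isPGroup')

theorem two_dvd_card_N : 2 ∣ Nat.card (normalizer ((d.P : Subgroup G) : Set G)) :=
  (c.two_dvd_card_centralizer d.htt d.ht1).trans (Subgroup.card_dvd_of_le d.hCN)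

theorem card_N_dvd : Nat.card (normalizer ((d.P : Subgroup G) : Set G)) ∣
    Nat.card (d.P : Subgroup G) * Nat.card (c.Q : Subgroup G) := by
  have h := c.card_dvd d.N_ne_top d.two_dvd_card_N
  have h1 : Nat.card (d.P : Subgroup G) = p ^ c.e := c.card_P d.P
  have h2 : Nat.card (c.Q : Subgroup G) = 2 ^ c.a := c.hQcard
  rw [h1, h2, mul_comm]
  exact h

theorem coprime_PQ : (Nat.card (d.P : Subgroup G)).Coprime (Nat.card (c.Q : Subgroup G)) := by
  have h1 : Nat.card (d.P : Subgroup G) = p ^ c.e := c.card_P d.P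
  have h2 : Nat.card (c.Q : Subgroup G) = 2 ^ c.a := c.hQcard
  rw [h1, h2]
  exact Nat.Coprime.pow _ _ c.coprime_two_p.symm

/-- `C_P(Q) = 1` -/
theorem cent_Q {y : G} (hy : y ∈ (d.P : Subgroup G))
    (hc : ∀ w ∈ (c.Q : Subgroup G), w * y = y * w) : y = 1 := by
  apply c.focal d.P hy
  have hK : centralizer ({y} : Set G) ⊓ normalizer ((d.P : Subgroup G) : Set G)
      = normalizer ((d.P : Subgroup G) : Set G) := by
    apply eq_of_le_of_card_dvd inf_le_right (A := (d.P : Subgroup G)) (B := (c.Q : Subgroup G))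
    · intro z hz
      refine Subgroup.mem_inf.2 ⟨?_, le_normalizer hz⟩
      rw [mem_centralizer_singleton_iff]
      exact c.P_comm d.P hz hy
    · intro w hw
      refine Subgroup.mem_inf.2 ⟨?_, d.hQN hw⟩
      rw [mem_centralizer_singleton_iff]
      exact hc w hw
    · exact d.coprime_PQ
    · exact d.card_N_dvd
  intro n hn
  rw [← hK] at hn
  have := (Subgroup.mem_inf.1 hn).1
  rw [mem_centralizer_singleton_iff] at this
  exact this

/-- `p`-elements of `N_G(P)` lie in `P` -/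
theorem mem_P_of_pe {y : G} (hy : y ∈ normalizer ((d.P : Subgroup G) : Set G)) {k : ℕ}
    (hk : y ^ (p ^ k) = 1) : y ∈ (d.P : Subgroup G) :=
  mem_sylow_of_mem_normalizer d.P hy hk

/-- a `p`-element of `N_G(Q)` moving `t` does not normalize `P` -/
theorem not_mem_N {g : G} (hgQ : g ∈ normalizer ((c.Q : Subgroup G) : Set G)) {k : ℕ}
    (hgk : g ^ (p ^ k) = 1) (hgt : g * d.t * g⁻¹ ≠ d.t) :
    g ∉ normalizer ((d.P : Subgroup G) : Set G) := by
  intro hgN
  have hgP := d.mem_P_of_pe hgN hgk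
  apply hgt
  -- the commutator of `g` and `t` lies in `P ∩ Q`
  have h1 : g * d.t * g⁻¹ * d.t⁻¹ ∈ (c.Q : Subgroup G) :=
    mul_mem ((mem_set_normalizer_iff.1 hgQ d.t).1 d.ht) (inv_mem d.ht)
  have h2 : g * d.t * g⁻¹ * d.t⁻¹ ∈ (d.P : Subgroup G) := by
    have h3 : d.t * g⁻¹ * d.t⁻¹ ∈ (d.P : Subgroup G) :=
      (mem_set_normalizer_iff.1 (d.hQN d.ht) g⁻¹).1 (inv_mem hgP)
    have := mul_mem hgP h3
    have heq : g * (d.t * g⁻¹ * d.t⁻¹) = g * d.t * g⁻¹ * d.t⁻¹ := by group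
    rwa [heq] at this
  have h3 := c.eq_one_of_sq_of_pe (c.sq_eq_one_Q h1) (c.pow_pe_of_mem d.P h2)
  calc g * d.t * g⁻¹ = (g * d.t * g⁻¹ * d.t⁻¹) * d.t := by group
    _ = d.t := by rw [h3, one_mul]

/-- `Q` normalizes the conjugates of `P` under `N_G(Q)` -/
theorem Q_le_N_smul {g : G} (hgQ : g ∈ normalizer ((c.Q : Subgroup G) : Set G)) :
    (c.Q : Subgroup G) ≤ normalizer (((g • d.P : Sylow p G) : Subgroup G) : Set G) := by
  intro w hw
  apply mem_normalizer_of_conj_le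
  intro u hu
  rw [mem_smul_sylow] at hu ⊢
  have hw' : g⁻¹ * w * g ∈ (c.Q : Subgroup G) := (mem_set_normalizer_iff''.1 hgQ w).1 hw
  have h1 := (mem_set_normalizer_iff.1 (d.hQN hw') _).1 hu
  have heq : g⁻¹ * w * g * (g⁻¹ * u * g) * (g⁻¹ * w * g)⁻¹ = g⁻¹ * (w * u * w⁻¹) * g := by group
  rwa [heq] at h1

/-- `P ∩ P^g = 1` for such `g` -/
theorem inf_smul_eq_bot {g : G} (hgQ : g ∈ normalizer ((c.Q : Subgroup G) : Set G)) {k : ℕ}
    (hgk : g ^ (p ^ k) = 1) (hgt : g * d.t * g⁻¹ ≠ d.t) :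
    (d.P : Subgroup G) ⊓ ((g • d.P : Sylow p G) : Subgroup G) = ⊥ := by
  by_contra hD
  have hQD : (c.Q : Subgroup G) ≤ normalizer
      (((d.P : Subgroup G) ⊓ ((g • d.P : Sylow p G) : Subgroup G) : Subgroup G) : Set G) := by
    intro w hw
    apply mem_normalizer_of_conj_le
    intro u hu
    obtain ⟨hu1, hu2⟩ := Subgroup.mem_inf.1 hu
    refine Subgroup.mem_inf.2 ⟨?_, ?_⟩
    · exact (mem_set_normalizer_iff.1 (d.hQN hw) u).1 hu1
    · exact (mem_set_normalizer_iff.1 (d.Q_le_N_smul hgQ hw) u).1 hu2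
  have h2 : 2 ∣ Nat.card (normalizer
      (((d.P : Subgroup G) ⊓ ((g • d.P : Sylow p G) : Subgroup G) : Subgroup G) : Set G)) := by
    have h1 : 2 ∣ Nat.card (c.Q : Subgroup G) := by
      have h2 : Nat.card (c.Q : Subgroup G) = 2 ^ c.a := c.hQcard
      rw [h2]
      exact dvd_pow_self 2 (by have := c.two_le_a; omega)
    exact h1.trans (Subgroup.card_dvd_of_le hQD)
  rcases c.normalizer_dichotomy d.P inf_le_left hD h2 with h | h
  · -- then `P^g ≤ N_G(P)`
    apply d.not_mem_N hgQ hgk hgt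
    apply mem_normalizer_of_conj_le
    intro u hu
    have hu' : g * u * g⁻¹ ∈ ((g • d.P : Sylow p G) : Subgroup G) := by
      rw [mem_smul_sylow]
      have : g⁻¹ * (g * u * g⁻¹) * g = u := by group
      rw [this]; exact hu
    have h3 : g * u * g⁻¹ ∈ normalizer ((d.P : Subgroup G) : Set G) :=
      h (centralizer_le_normalizer _ (c.sylow_le_centralizer (g • d.P) inf_le_right hu'))
    exact d.mem_P_of_pe h3 (c.pow_pe_of_mem (g • d.P) hu')
  · apply hD
    rw [Subgroup.eq_bot_iff_forall]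
    intro u hu
    apply d.cent_Q (Subgroup.mem_inf.1 hu).1
    intro w hw
    have := h (hQD hw)
    rw [mem_centralizer_iff] at this
    exact (this u hu).symm

/-- `C_P(u) = 1` for `u = g t g⁻¹ ≠ t` -/
theorem cent_conj {g : G} (hgQ : g ∈ normalizer ((c.Q : Subgroup G) : Set G)) {k : ℕ}
    (hgk : g ^ (p ^ k) = 1) (hgt : g * d.t * g⁻¹ ≠ d.t) {y : G} (hy : y ∈ (d.P : Subgroup G))
    (hyu : y * (g * d.t * g⁻¹) = (g * d.t * g⁻¹) * y) : y = 1 := by
  have hbot := d.inf_smul_eq_bot hgQ hgk hgt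
  have hmem : y ∈ (d.P : Subgroup G) ⊓ ((g • d.P : Sylow p G) : Subgroup G) := by
    refine Subgroup.mem_inf.2 ⟨hy, ?_⟩
    rw [mem_smul_sylow]
    have hC : g⁻¹ * y * g ∈ centralizer ({d.t} : Set G) := by
      rw [mem_centralizer_singleton_iff]
      symm
      calc d.t * (g⁻¹ * y * g) = g⁻¹ * ((g * d.t * g⁻¹) * y) * g := by group
        _ = g⁻¹ * (y * (g * d.t * g⁻¹)) * g := by rw [hyu]
        _ = g⁻¹ * y * g * d.t := by group
    apply d.mem_P_of_pe (d.hCN hC) (k := c.e)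
    have : (g⁻¹ * y * g) ^ (p ^ c.e) = g⁻¹ * y ^ (p ^ c.e) * g := by
      have := conj_pow (a := g⁻¹) (b := y) (i := p ^ c.e)
      rw [inv_inv] at this
      exact this
    rw [this, c.pow_pe_of_mem d.P hy]; group
  rw [hbot, Subgroup.mem_bot] at hmem
  exact hmem

/-- every `u ∈ Q \ {1, t}` inverts `P` -/
theorem inverts {u : G} (hu : u ∈ (c.Q : Subgroup G)) (hu1 : u ≠ 1) (hut : u ≠ d.t) {y : G}
    (hy : y ∈ (d.P : Subgroup G)) : u * y * u⁻¹ = y⁻¹ := by
  obtain ⟨i, hi⟩ := c.hxtrans d.t d.ht d.ht1 u hu hu1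
  have hgQ : c.x ^ i ∈ normalizer ((c.Q : Subgroup G) : Set G) := pow_mem c.hxN i
  have hgk : (c.x ^ i) ^ (p ^ c.k) = 1 := by
    rw [← pow_mul, mul_comm, pow_mul, c.hxp, one_pow]
  have hgt : c.x ^ i * d.t * (c.x ^ i)⁻¹ ≠ d.t := by rw [hi]; exact hut
  have huy : u * y * u⁻¹ ∈ (d.P : Subgroup G) := (mem_set_normalizer_iff.1 (d.hQN hu) y).1 hy
  have huu := c.sq_eq_one_Q hu
  have huinv : u⁻¹ = u := inv_of_mul_self huu
  have hz : y * (u * y * u⁻¹) = 1 := by
    apply d.cent_conj hgQ hgk hgt (mul_mem hy huy)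
    rw [hi]
    have h1 : y * (u * y * u⁻¹) = (u * y * u⁻¹) * y := c.P_comm d.P hy huy
    calc y * (u * y * u⁻¹) * u = (u * y * u⁻¹) * y * u := by rw [h1]
      _ = u * (y * (u⁻¹ * y * u)) := by group
      _ = u * (y * (u * y * u⁻¹)) := by rw [huinv]
  exact (eq_inv_of_mul_eq_one_right hz)

end CaseI

end Cfsg.Agent.H2.TwoPr
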