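import Mathlib
import Cfsg.Agent.H2.TwoPrD
import Cfsg.Agent.H2.KleinResC

/-!
# The Mersenne setting of the two-prime theorem (S4017): case I, conclusion. helper2
-/

set_option autoImplicit false

universe u

namespace Cfsg.Agent.H2.TwoPr

open Subgroup
open scoped Pointwise
open Cfsg.Agent.H2.CycSylAb (mem_normalizer_of_conj_le)
open Cfsg.Agent.H2.KleinRes (orderOf_two_of mul_self_of_orderOf_two inv_of_mul_self
  mem_sylow_of_mem_normalizer)

variable {G : Type u} [Group G] [Finite G] {p : ℕ} [hp : Fact p.Prime] {c : MCtx p G}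

namespace CaseI

variable (d : CaseI c)

include d

theorem card_Q' : Nat.card (c.Q : Subgroup G) = 2 ^ c.a := c.hQcard

/-- if three involutions `u, u', u u'` of `Q` all invert `P` then `P = 1` -/
theorem false_of_three {u u' : G} (hu : u ∈ (c.Q : Subgroup G)) (hu' : u' ∈ (c.Q : Subgroup G))
    (h1 : ∀ y ∈ (d.P : Subgroup G), u * y * u⁻¹ = y⁻¹)
    (h2 : ∀ y ∈ (d.P : Subgroup G), u' * y * u'⁻¹ = y⁻¹)
    (h3 : ∀ y ∈ (d.P : Subgroup G), (u * u') * y * (u * u')⁻¹ = y⁻¹) : False := by
  apply d.P_ne_bot
  rw [Subgroup.eq_bot_iff_forall]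
  intro y hy
  have e1 : (u * u') * y * (u * u')⁻¹ = y := by
    calc (u * u') * y * (u * u')⁻¹ = u * (u' * y * u'⁻¹) * u⁻¹ := by group
      _ = u * y⁻¹ * u⁻¹ := by rw [h2 y hy]
      _ = (y⁻¹)⁻¹ := h1 _ (inv_mem hy)
      _ = y := inv_inv y
  have e2 : y⁻¹ = y := (h3 y hy).symm.trans e1
  have e3 : y * y = 1 := by
    calc y * y = y⁻¹ * y := by rw [e2]
      _ = 1 := inv_mul_cancel y
  exact c.eq_one_of_sq_of_pe e3 (c.pow_pe_of_mem d.P hy)

theorem a_eq_two : c.a = 2 := by
  by_contra h
  have h3 : 3 ≤ c.a := by have := c.two_le_a; omega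
  have hcard : 8 ≤ Nat.card (c.Q : Subgroup G) := by
    rw [d.card_Q']
    calc 8 = 2 ^ 3 := by norm_num
      _ ≤ 2 ^ c.a := Nat.pow_le_pow_right (by norm_num) h3
  classical
  obtain ⟨u, hu, hunot⟩ := exists_mem_notMem (c.Q : Subgroup G) {1, d.t}
    (lt_of_le_of_lt Finset.card_le_two (by omega))
  obtain ⟨u', hu', hu'not⟩ := exists_mem_notMem (c.Q : Subgroup G) {1, d.t, u, u * d.t}
    (lt_of_le_of_lt Finset.card_le_four (by omega))
  simp only [Finset.mem_insert, Finset.mem_singleton, not_or] at hunot hu'not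
  obtain ⟨hu1, hut⟩ := hunot
  obtain ⟨hu'1, hu't, hu'u, hu'ut⟩ := hu'not
  have huu := c.sq_eq_one_Q hu
  have huinv : u⁻¹ = u := inv_of_mul_self huu
  have hp1 : u * u' ≠ 1 := by
    intro h
    apply hu'u
    calc u' = u⁻¹ * (u * u') := by group
      _ = u := by rw [h, mul_one, huinv]
  have hpt : u * u' ≠ d.t := by
    intro h
    apply hu'ut
    calc u' = u⁻¹ * (u * u') := by group
      _ = u * d.t := by rw [h, huinv]
  exact d.false_of_three hu hu' (fun y hy => d.inverts hu hu1 hut hy)
    (fun y hy => d.inverts hu' hu'1 hu't hy)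
    (fun y hy => d.inverts (mul_mem hu hu') hp1 hpt hy)

theorem p_eq_three : p = 3 := by
  have := c.ha
  rw [d.a_eq_two] at this
  omega

end CaseI

/-- Case I for `p = 3`: contradiction via the small-normalizer theorem -/
theorem caseI_three_false {c : MCtx 3 G} (d : CaseI c) : False := by
  have ha := d.a_eq_two
  have hQ4 : Nat.card (c.Q : Subgroup G) = 4 := by rw [d.card_Q', ha]; norm_num
  classical
  obtain ⟨u, hu, hunot⟩ := exists_mem_notMem (c.Q : Subgroup G) {1, d.t}
    (lt_of_le_of_lt Finset.card_le_two (by omega))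
  simp only [Finset.mem_insert, Finset.mem_singleton, not_or] at hunot
  obtain ⟨hu1, hut⟩ := hunot
  have huu := c.sq_eq_one_Q hu
  have huinv : u⁻¹ = u := inv_of_mul_self huu
  have htt := d.htt
  have htinv : d.t⁻¹ = d.t := inv_of_mul_self htt
  have htu1 : d.t * u ≠ 1 := by
    intro h
    apply hut
    calc u = d.t⁻¹ * (d.t * u) := by group
      _ = d.t := by rw [h, mul_one, htinv]
  have htut : d.t * u ≠ d.t := by
    intro h
    apply hu1
    calc u = d.t⁻¹ * (d.t * u) := by group
      _ = 1 := by rw [h]; group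
  have hinv_u : ∀ y ∈ (d.P : Subgroup G), u * y * u⁻¹ = y⁻¹ := fun y hy => d.inverts hu hu1 hut hy
  have hinv_tu : ∀ y ∈ (d.P : Subgroup G), (d.t * u) * y * (d.t * u)⁻¹ = y⁻¹ :=
    fun y hy => d.inverts (mul_mem d.ht hu) htu1 htut hy
  have hcent_t : ∀ y ∈ (d.P : Subgroup G), d.t * y = y * d.t := by
    intro y hy
    have h1 : d.t * y * d.t⁻¹ = y := by
      calc d.t * y * d.t⁻¹ = (d.t * u) * (u⁻¹ * y * u) * (d.t * u)⁻¹ := by group
        _ = (d.t * u) * (u * y * u⁻¹) * (d.t * u)⁻¹ := by rw [huinv]
        _ = (d.t * u) * y⁻¹ * (d.t * u)⁻¹ := by rw [hinv_u y hy]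
        _ = (y⁻¹)⁻¹ := hinv_tu _ (inv_mem hy)
        _ = y := inv_inv y
    calc d.t * y = (d.t * y * d.t⁻¹) * d.t := by group
      _ = y * d.t := by rw [h1]
  have hab := c.hab d.P
  -- the order of the normalizer
  have hcardP : Nat.card (d.P : Subgroup G) = 3 ^ c.e := c.card_P d.P
  have hN : Nat.card (normalizer ((d.P : Subgroup G) : Set G)) = 4 * Nat.card d.P := by
    have h1 := d.card_N_dvd
    have h2 : Nat.card (d.P : Subgroup G) * Nat.card (c.Q : Subgroup G) ∣
        Nat.card (normalizer ((d.P : Subgroup G) : Set G)) :=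
      d.coprime_PQ.mul_dvd_of_dvd_of_dvd (Subgroup.card_dvd_of_le le_normalizer)
        (Subgroup.card_dvd_of_le d.hQN)
    have h3 := Nat.dvd_antisymm h1 h2
    rw [h3, hQ4, mul_comm]
  -- `u` does not centralize `P`
  have hu_notC : u ∉ centralizer ((d.P : Subgroup G) : Set G) := by
    intro h
    rw [mem_centralizer_iff] at h
    apply d.P_ne_bot
    rw [Subgroup.eq_bot_iff_forall]
    intro y hy
    have h1 : u * y * u⁻¹ = y := by
      rw [← h y hy]; group
    have h2 : y⁻¹ = y := (hinv_u y hy).symm.trans h1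
    have e3 : y * y = 1 := by
      calc y * y = y⁻¹ * y := by rw [h2]
        _ = 1 := inv_mul_cancel y
    exact c.eq_one_of_sq_of_pe e3 (c.pow_pe_of_mem d.P hy)
  have htC : d.t ∈ centralizer ((d.P : Subgroup G) : Set G) := by
    rw [mem_centralizer_iff]
    intro y hy
    exact (hcent_t y hy).symm
  have hPC : (d.P : Subgroup G) ≤ centralizer ((d.P : Subgroup G) : Set G) :=
    Cfsg.Agent.H2.KleinRes.P_le_C d.P hab
  have hCN : centralizer ((d.P : Subgroup G) : Set G) ≤ normalizer ((d.P : Subgroup G) : Set G) :=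
    centralizer_le_normalizer _
  have ht2 : orderOf d.t = 2 := orderOf_two_of htt d.ht1
  have hC : Nat.card (centralizer ((d.P : Subgroup G) : Set G)) = 2 * Nat.card d.P := by
    have h1 : Nat.card (d.P : Subgroup G) ∣ Nat.card (centralizer ((d.P : Subgroup G) : Set G)) :=
      Subgroup.card_dvd_of_le hPC
    have h2 : 2 ∣ Nat.card (centralizer ((d.P : Subgroup G) : Set G)) := by
      have := orderOf_dvd_natCard (⟨d.t, htC⟩ : centralizer ((d.P : Subgroup G) : Set G))
      rwa [Subgroup.orderOf_mk, ht2] at this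
    have hcop : Nat.Coprime 2 (Nat.card (d.P : Subgroup G)) := by
      rw [hcardP]; exact Nat.Coprime.pow_right _ (by norm_num)
    have h3 : 2 * Nat.card (d.P : Subgroup G) ∣
        Nat.card (centralizer ((d.P : Subgroup G) : Set G)) :=
      hcop.mul_dvd_of_dvd_of_dvd h2 h1
    have h4 : Nat.card (centralizer ((d.P : Subgroup G) : Set G)) ∣ 4 * Nat.card (d.P : Subgroup G) := by
      have := Subgroup.card_dvd_of_le hCN
      rwa [hN] at this
    obtain ⟨m, hm⟩ := h3
    have hPpos : 0 < Nat.card (d.P : Subgroup G) := Nat.card_pos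
    have hm2 : m ∣ 2 := by
      rw [hm] at h4
      have : 2 * Nat.card (d.P : Subgroup G) * m ∣ 2 * Nat.card (d.P : Subgroup G) * 2 := by
        have e : 4 * Nat.card (d.P : Subgroup G) = 2 * Nat.card (d.P : Subgroup G) * 2 := by ring
        rwa [e] at h4
      exact Nat.dvd_of_mul_dvd_mul_left (by positivity) this
    have hm12 : m = 1 ∨ m = 2 := by
      have := (Nat.dvd_prime Nat.prime_two).1 hm2
      exact this
    rcases hm12 with rfl | rfl
    · rw [hm, mul_one]
    · exfalso
      apply hu_notC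
      have heq : centralizer ((d.P : Subgroup G) : Set G) = normalizer ((d.P : Subgroup G) : Set G) := by
        apply Subgroup.eq_of_le_of_card_ge hCN
        rw [hN, hm]
        have : Nat.card d.P = Nat.card (d.P : Subgroup G) := rfl
        omega
      rw [heq]
      exact d.hQN hu
  -- the even-order condition
  have heven : ∀ H : Subgroup G, H ≠ ⊤ → 2 ∣ Nat.card H → Nat.card H ∣ 4 * Nat.card d.P := by
    intro H hH h2
    have := c.card_dvd hH h2
    rw [ha] at this
    have e : Nat.card d.P = 3 ^ c.e := hcardP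
    rw [e]
    exact this
  have hNC : normalizer ((d.P : Subgroup G) : Set G) ≤
      normalizer ((centralizer ((d.P : Subgroup G) : Set G) : Subgroup G) : Set G) :=
    MCtx.normalizer_le_normalizer_centralizer (d.P : Subgroup G)
  -- the TI condition
  have hTI : Cfsg.IsTISubset (centralizer ((d.P : Subgroup G) : Set G) : Set G) := by
    intro g hg z hz hgz
    by_contra hz1
    have hn1 : orderOf z ≠ 1 := by
      intro h
      exact hz1 (orderOf_eq_one_iff.1 h)
    obtain ⟨l, hl, hln⟩ := Nat.exists_prime_and_dvd hn1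
    have hzC : orderOf z ∣ 2 * 3 ^ c.e := by
      have := orderOf_dvd_natCard (⟨z, hz⟩ : centralizer ((d.P : Subgroup G) : Set G))
      rw [Subgroup.orderOf_mk, hC] at this
      have e : Nat.card d.P = 3 ^ c.e := hcardP
      rwa [e] at this
    have hl23 : l = 2 ∨ l = 3 := by
      have h1 := hln.trans hzC
      rcases (Nat.Prime.dvd_mul hl).1 h1 with h | h
      · left; exact (Nat.prime_dvd_prime_iff_eq hl Nat.prime_two).1 h
      · right; exact (Nat.prime_dvd_prime_iff_eq hl Nat.prime_three).1 (hl.dvd_of_dvd_pow h)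
    obtain ⟨z', hz'def⟩ : ∃ z', z' = z ^ (orderOf z / l) := ⟨_, rfl⟩
    have hz'ord : orderOf z' = l := by
      rw [hz'def]
      exact orderOf_pow_orderOf_div (orderOf_pos z).ne' hln
    have hz'C : z' ∈ centralizer ((d.P : Subgroup G) : Set G) := by
      rw [hz'def]; exact pow_mem hz _
    have hgz'C : g * z' * g⁻¹ ∈ centralizer ((d.P : Subgroup G) : Set G) := by
      rw [hz'def, ← conj_pow]; exact pow_mem hgz _
    apply hg
    rcases hl23 with rfl | rfl
    · -- an involution: equal to `t`
      have e1 : z' = d.t := Cfsg.Agent.H2.KleinRes.invol_unique d.P hab hC htC ht2 hz'C hz'ord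
      have e2 : g * z' * g⁻¹ = d.t :=
        Cfsg.Agent.H2.KleinRes.invol_unique d.P hab hC htC ht2 hgz'C
          (Cfsg.Agent.H2.KleinRes.orderOf_conj_two hz'ord g)
      rw [e1] at e2
      have hgC : g ∈ centralizer ({d.t} : Set G) := by
        rw [mem_centralizer_singleton_iff]
        symm
        calc d.t * g = (g * d.t * g⁻¹) * g := by rw [e2]
          _ = g * d.t := by group
      exact hNC (d.hCN hgC)
    · -- an element of order 3
      have hz'3 : z' ^ (3 ^ 1) = 1 := by rw [pow_one, ← hz'ord, pow_orderOf_eq_one]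
      have hz'P : z' ∈ (d.P : Subgroup G) := d.mem_P_of_pe (hCN hz'C) hz'3
      have hgz'3 : (g * z' * g⁻¹) ^ (3 ^ 1) = 1 := by rw [conj_pow, hz'3]; group
      have hgz'P : g * z' * g⁻¹ ∈ (d.P : Subgroup G) := d.mem_P_of_pe (hCN hgz'C) hgz'3
      have hz'1 : z' ≠ 1 := by
        intro h
        rw [h, orderOf_one] at hz'ord
        omega
      have hZP : zpowers z' ≤ (d.P : Subgroup G) := by rw [zpowers_le]; exact hz'P
      have hZne : zpowers z' ≠ ⊥ := by
        intro h
        rw [zpowers_eq_bot] at h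
        exact hz'1 h
      have huinvz : u * z' * u⁻¹ = z'⁻¹ := hinv_u z' hz'P
      have huN : u ∈ normalizer ((zpowers z' : Subgroup G) : Set G) := by
        apply Cfsg.Agent.H2.KleinRes.invol_mem_normalizer_zpowers huu
        rw [huinvz]
        exact inv_mem (mem_zpowers z')
      have h2 : 2 ∣ Nat.card (normalizer ((zpowers z' : Subgroup G) : Set G)) := by
        have := orderOf_dvd_natCard (⟨u, huN⟩ : normalizer ((zpowers z' : Subgroup G) : Set G))
        rwa [Subgroup.orderOf_mk, orderOf_two_of huu hu1] at this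
      rcases c.normalizer_dichotomy d.P hZP hZne h2 with h | h
      · -- `g⁻¹` normalizes `P`
        have hginv : g⁻¹ ∈ normalizer ((d.P : Subgroup G) : Set G) := by
          apply mem_normalizer_of_conj_le
          intro y hy
          rw [inv_inv]
          have hcomm : g⁻¹ * y * g ∈ centralizer ((zpowers z' : Subgroup G) : Set G) := by
            rw [mem_centralizer_iff]
            intro w hw
            obtain ⟨k, rfl⟩ := mem_zpowers_iff.1 hw
            have h1 : z' * (g⁻¹ * y * g) = (g⁻¹ * y * g) * z' := by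
              have := c.P_comm d.P hy hgz'P
              calc z' * (g⁻¹ * y * g) = g⁻¹ * ((g * z' * g⁻¹) * y) * g := by group
                _ = g⁻¹ * (y * (g * z' * g⁻¹)) * g := by rw [this]
                _ = (g⁻¹ * y * g) * z' := by group
            exact (Commute.zpow_left (show Commute z' (g⁻¹ * y * g) from h1) k)
          have h3 := h (centralizer_le_normalizer _ hcomm)
          apply d.mem_P_of_pe h3 (k := c.e)
          have : (g⁻¹ * y * g) ^ (3 ^ c.e) = g⁻¹ * y ^ (3 ^ c.e) * g := by
            have := conj_pow (a := g⁻¹) (b := y) (i := 3 ^ c.e)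
            rw [inv_inv] at this
            exact this
          rw [this, c.pow_pe_of_mem d.P hy]; group
        have hgN : g ∈ normalizer ((d.P : Subgroup G) : Set G) := by
          have := inv_mem hginv
          rwa [inv_inv] at this
        exact hNC hgN
      · exfalso
        have huC := h huN
        rw [mem_centralizer_iff] at huC
        have h1 := huC z' (mem_zpowers z')
        have h3 : u * z' * u⁻¹ = z' := by rw [← h1]; group
        have h4 : z'⁻¹ = z' := huinvz.symm.trans h3
        have e3 : z' * z' = 1 := by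
          calc z' * z' = z'⁻¹ * z' := by rw [h4]
            _ = 1 := inv_mul_cancel z'
        exact hz'1 (c.eq_one_of_sq_of_pe e3 (c.pow_pe_of_mem d.P hz'P))
  exact Cfsg.Agent.H2.KleinRes.not_simple d.P hab hN hC hTI heven c.simple

/-- Case I is impossible -/
theorem CaseI.false (d : CaseI c) : False := by
  have hp3 := d.p_eq_three
  subst hp3
  exact caseI_three_false d

end Cfsg.Agent.H2.TwoPr
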