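import Mathlib
import Cfsg.Agent.H2.TwoPrD
import Cfsg.Agent.H2.CycSylB

/-!
# The Mersenne setting of the two-prime theorem (S4017): case II, structure. helper2
-/

set_option autoImplicit false
set_option linter.unusedSectionVars false
set_option linter.unusedVariables false

universe u

namespace Cfsg.Agent.H2.TwoPr

open Subgroup
open scoped Pointwise
open Cfsg.Agent.H2.CycSylAb (mem_normalizer_of_conj_le)
open Cfsg.Agent.H2.KleinRes (orderOf_two_of mul_self_of_orderOf_two inv_of_mul_self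
  mem_sylow_of_mem_normalizer invol_mem_normalizer_zpowers)

variable {G : Type u} [Group G] [Finite G] {p : ℕ} [hp : Fact p.Prime] (c : MCtx p G)

namespace MCtx

include c

/-- if `s` inverts `v` then it inverts the powers of `v` -/
theorem inverts_pow {s v : G} (h : s * v * s⁻¹ = v⁻¹) (n : ℕ) : s * v ^ n * s⁻¹ = (v ^ n)⁻¹ := by
  rw [← conj_pow, h, inv_pow]

/-- an element inverted by an involution and centralized by it is of exponent 2 -/
theorem sq_of_inverts_of_comm {s v : G} (h : s * v * s⁻¹ = v⁻¹) (hc : s * v = v * s) :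
    v * v = 1 := by
  have h1 : s * v * s⁻¹ = v := by rw [hc]; group
  have h2 : v⁻¹ = v := h.symm.trans h1
  calc v * v = v⁻¹ * v := by rw [h2]
    _ = 1 := inv_mul_cancel v

/-- a `p`-element inverted and centralized by `s` is trivial -/
theorem eq_one_of_inverts_of_comm {s v : G} (h : s * v * s⁻¹ = v⁻¹) (hc : s * v = v * s)
    (hv : v ^ (p ^ c.e) = 1) : v = 1 :=
  c.eq_one_of_sq_of_pe (c.sq_of_inverts_of_comm h hc) hv

/-- existence of a nontrivial `p`-element inverted by an involution -/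
theorem exists_inverted : ∃ s v : G, s * s = 1 ∧ s ≠ 1 ∧ v ≠ 1 ∧ v ^ (p ^ c.e) = 1 ∧
    s * v * s⁻¹ = v⁻¹ := by
  classical
  -- an involution `t` of `Q`
  obtain ⟨t, ht, htnot⟩ := exists_mem_notMem (c.Q : Subgroup G) {1}
    (by rw [Finset.card_singleton]; have := c.card_Q_pos; exact lt_of_lt_of_le (by norm_num) this)
  rw [Finset.mem_singleton] at htnot
  have htt := c.sq_eq_one_Q ht
  have htinv : t⁻¹ = t := inv_of_mul_self htt
  -- a conjugate of `t` not commuting with `t`
  obtain ⟨g, hg⟩ : ∃ g : G, (g * t * g⁻¹) * t ≠ t * (g * t * g⁻¹) := by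
    by_contra hcon
    push Not at hcon
    apply c.centralizer_invol_ne_top htt htnot
    have hle : Subgroup.normalClosure ({t} : Set G) ≤ centralizer ({t} : Set G) := by
      unfold Subgroup.normalClosure
      rw [Subgroup.closure_le]
      intro w hw
      rw [Group.mem_conjugatesOfSet_iff] at hw
      obtain ⟨t', ht', hconj⟩ := hw
      rw [Set.mem_singleton_iff] at ht'
      subst ht'
      obtain ⟨g, rfl⟩ := isConj_iff.1 hconj
      rw [SetLike.mem_coe, mem_centralizer_singleton_iff]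
      exact (hcon g)
    have hne : Subgroup.normalClosure ({t} : Set G) ≠ ⊥ := by
      intro h
      have : t ∈ Subgroup.normalClosure ({t} : Set G) :=
        Subgroup.subset_normalClosure (Set.mem_singleton t)
      rw [h, Subgroup.mem_bot] at this
      exact htnot this
    haveI := c.simple
    have hn : (Subgroup.normalClosure ({t} : Set G)).Normal := Subgroup.normalClosure_normal
    rcases hn.eq_bot_or_eq_top with h | h
    · exact absurd h hne
    · rw [h] at hle
      exact top_le_iff.1 hle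
  obtain ⟨s, hsdef⟩ : ∃ s, s = g * t * g⁻¹ := ⟨_, rfl⟩
  rw [← hsdef] at hg
  have hss : s * s = 1 := by
    rw [hsdef]
    calc g * t * g⁻¹ * (g * t * g⁻¹) = g * (t * t) * g⁻¹ := by group
      _ = 1 := by rw [htt]; group
  have hs1 : s ≠ 1 := by
    intro h
    apply hg
    rw [h, one_mul, mul_one]
  have hsinv : s⁻¹ = s := inv_of_mul_self hss
  obtain ⟨v, hvdef⟩ : ∃ v, v = (s * t) * (s * t) := ⟨_, rfl⟩
  have hv1 : v ≠ 1 := by
    intro h
    apply hg
    rw [hvdef] at h
    calc s * t = ((s * t) * (s * t)) * (t⁻¹ * s⁻¹) := by group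
      _ = t * s := by rw [h, htinv, hsinv, one_mul]
  have hinv : s * v * s⁻¹ = v⁻¹ := by
    rw [hvdef]
    have e1 : s * (s * t * (s * t)) * s⁻¹ = (s * s) * t * s * t * s⁻¹ := by group
    have e2 : (s * t * (s * t))⁻¹ = t⁻¹ * s⁻¹ * t⁻¹ * s⁻¹ := by group
    rw [e1, e2, hss, htinv, hsinv, one_mul]
  -- the normalizer of `⟨v⟩`
  have hsN : s ∈ normalizer ((zpowers v : Subgroup G) : Set G) := by
    apply invol_mem_normalizer_zpowers hss
    rw [hinv]
    exact inv_mem (mem_zpowers v)
  have hZne : zpowers v ≠ ⊥ := by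
    intro h
    rw [zpowers_eq_bot] at h
    exact hv1 h
  have hZtop : zpowers v ≠ ⊤ := by
    intro h
    -- then `G` is abelian
    apply hg
    have hs' : s ∈ zpowers v := by rw [h]; trivial
    have ht' : t ∈ zpowers v := by rw [h]; trivial
    obtain ⟨i, rfl⟩ := mem_zpowers_iff.1 hs'
    obtain ⟨j, rfl⟩ := mem_zpowers_iff.1 ht'
    rw [← zpow_add, ← zpow_add, add_comm]
  have hHtop := c.normalizer_ne_top hZne hZtop
  have h2 : 2 ∣ Nat.card (normalizer ((zpowers v : Subgroup G) : Set G)) := by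
    have := orderOf_dvd_natCard (⟨s, hsN⟩ : normalizer ((zpowers v : Subgroup G) : Set G))
    rwa [Subgroup.orderOf_mk, orderOf_two_of hss hs1] at this
  have hvN : v ∈ normalizer ((zpowers v : Subgroup G) : Set G) := le_normalizer (mem_zpowers v)
  have hvord : v ^ (2 ^ c.a * p ^ c.e) = 1 := by
    have h1 : orderOf v ∣ Nat.card (normalizer ((zpowers v : Subgroup G) : Set G)) := by
      have := orderOf_dvd_natCard (⟨v, hvN⟩ : normalizer ((zpowers v : Subgroup G) : Set G))
      rwa [Subgroup.orderOf_mk] at this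
    exact orderOf_dvd_iff_pow_eq_one.1 (h1.trans (c.card_dvd hHtop h2))
  refine ⟨s, v ^ (2 ^ c.a), hss, hs1, ?_, ?_, c.inverts_pow hinv _⟩
  · intro h
    -- then `s * t` is a 2-element
    have h3 : (s * t) ^ (2 ^ (c.a + 1)) = 1 := by
      rw [pow_succ, mul_comm, pow_mul, pow_two, ← hvdef, h]
    have h4 := c.two_elt_sq h3
    rw [← hvdef] at h4
    exact hv1 h4
  · rw [← pow_mul]; exact hvord

/-- every Sylow `p`-subgroup has a normalizer of even order -/
theorem even_normalizer (P : Sylow p G) :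
    2 ∣ Nat.card (normalizer ((P : Subgroup G) : Set G)) := by
  obtain ⟨s, v, hss, hs1, hv1, hvpe, hinv⟩ := c.exists_inverted
  obtain ⟨P₁, hP₁⟩ := (c.isPGroup_zpowers hvpe).exists_le_sylow
  have hsN : s ∈ normalizer ((zpowers v : Subgroup G) : Set G) := by
    apply invol_mem_normalizer_zpowers hss
    rw [hinv]
    exact inv_mem (mem_zpowers v)
  have hZne : zpowers v ≠ ⊥ := by
    intro h
    rw [zpowers_eq_bot] at h
    exact hv1 h
  have h2 : 2 ∣ Nat.card (normalizer ((zpowers v : Subgroup G) : Set G)) := by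
    have := orderOf_dvd_natCard (⟨s, hsN⟩ : normalizer ((zpowers v : Subgroup G) : Set G))
    rwa [Subgroup.orderOf_mk, orderOf_two_of hss hs1] at this
  have hsN₁ : s ∈ normalizer ((P₁ : Subgroup G) : Set G) := by
    rcases c.normalizer_dichotomy P₁ hP₁ hZne h2 with h | h
    · exact h hsN
    · exfalso
      have := h hsN
      rw [mem_centralizer_iff] at this
      exact hv1 (c.eq_one_of_inverts_of_comm hinv (this v (mem_zpowers v)).symm hvpe)
  obtain ⟨g, hg⟩ := MulAction.exists_smul_eq G P₁ P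
  have hmem : g * s * g⁻¹ ∈ normalizer ((P : Subgroup G) : Set G) := by
    apply mem_normalizer_of_conj_le
    intro u hu
    rw [← hg, mem_smul_sylow] at hu ⊢
    have := (mem_set_normalizer_iff.1 hsN₁ _).1 hu
    have e : g⁻¹ * (g * s * g⁻¹ * u * (g * s * g⁻¹)⁻¹) * g = s * (g⁻¹ * u * g) * s⁻¹ := by group
    rw [e]; exact this
  have hord : orderOf (g * s * g⁻¹) = 2 := by
    apply orderOf_two_of
    · calc g * s * g⁻¹ * (g * s * g⁻¹) = g * (s * s) * g⁻¹ := by group
        _ = 1 := by rw [hss]; group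
    · intro h
      apply hs1
      calc s = g⁻¹ * (g * s * g⁻¹) * g := by group
        _ = 1 := by rw [h]; group
  have := orderOf_dvd_natCard (⟨g * s * g⁻¹, hmem⟩ : normalizer ((P : Subgroup G) : Set G))
  rwa [Subgroup.orderOf_mk, hord] at this

theorem P_ne_bot (P : Sylow p G) : (P : Subgroup G) ≠ ⊥ := by
  intro h
  have h1 := c.card_P P
  rw [h, Subgroup.card_bot] at h1
  have h2 : p ∣ p ^ c.e := dvd_pow_self p (by have := c.one_le_e; omega)
  rw [← h1] at h2
  exact c.hpp.one_lt.ne' (Nat.dvd_one.1 h2)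

end MCtx

/-- the setting of case II -/
structure CaseII (c : MCtx p G) : Prop where
  hII : ∀ t ∈ (c.Q : Subgroup G), t ≠ 1 → c.CentP (c.Q : Subgroup G) t

namespace CaseII

variable {c} (d : CaseII c)

include d

/-- every `2`-subgroup centralizes the `p`-elements of the centralizers of its involutions -/
theorem centP_of_two_group {T : Subgroup G} (hT : IsPGroup 2 T) {t : G} (ht : t ∈ T)
    (ht1 : t ≠ 1) : c.CentP T t := by
  obtain ⟨g, hg⟩ := c.exists_conj_le_Q hT
  intro y hyt hype w hw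
  have ht' : g⁻¹ * t * g ≠ 1 := by
    intro h
    apply ht1
    calc t = g * (g⁻¹ * t * g) * g⁻¹ := by group
      _ = 1 := by rw [h]; group
  have h1 : (g⁻¹ * y * g) * (g⁻¹ * t * g) = (g⁻¹ * t * g) * (g⁻¹ * y * g) := by
    calc (g⁻¹ * y * g) * (g⁻¹ * t * g) = g⁻¹ * (y * t) * g := by group
      _ = g⁻¹ * (t * y) * g := by rw [hyt]
      _ = (g⁻¹ * t * g) * (g⁻¹ * y * g) := by group
  have h2 : (g⁻¹ * y * g) ^ (p ^ c.e) = 1 := by
    have := conj_pow (a := g⁻¹) (b := y) (i := p ^ c.e)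
    rw [inv_inv] at this
    rw [this, hype]; group
  have h3 := d.hII _ (hg t ht) ht' _ h1 h2 _ (hg w hw)
  calc w * y = g * ((g⁻¹ * w * g) * (g⁻¹ * y * g)) * g⁻¹ := by group
    _ = g * ((g⁻¹ * y * g) * (g⁻¹ * w * g)) * g⁻¹ := by rw [h3]
    _ = y * w := by group

/-- the structure of `N_G(P)`: it is `P ⋊ ⟨s⟩` with `s` an involution inverting `P` -/
theorem exists_invol_N (P : Sylow p G) : ∃ s : G, s * s = 1 ∧ s ≠ 1 ∧
    s ∈ normalizer ((P : Subgroup G) : Set G) ∧
    (∀ y ∈ (P : Subgroup G), s * y * s⁻¹ = y⁻¹) ∧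
    ∀ n ∈ normalizer ((P : Subgroup G) : Set G), n ∈ (P : Subgroup G) ∨
      ∃ y ∈ (P : Subgroup G), n = y * s := by
  obtain ⟨L, hLN, hLp, hLcard, hLdec⟩ := Cfsg.Agent.H2.CycSylAb.exists_L P
  have h2 := c.even_normalizer P
  have hNtop : normalizer ((P : Subgroup G) : Set G) ≠ ⊤ :=
    c.normalizer_ne_top (c.P_ne_bot P) (c.pgroup_ne_top P.isPGroup')
  have hdvd := c.card_dvd hNtop h2
  have hcardP : Nat.card (P : Subgroup G) = p ^ c.e := c.card_P P
  rw [hLcard, hcardP, mul_comm] at hdvd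
  have hL2 : Nat.card L ∣ 2 ^ c.a := Nat.dvd_of_mul_dvd_mul_right (pow_pos c.hpp.pos _) hdvd
  have hLpg : IsPGroup 2 L := by
    have : Fact (Nat.Prime 2) := ⟨Nat.prime_two⟩
    obtain ⟨j, _, hj⟩ := (Nat.dvd_prime_pow Nat.prime_two).1 hL2
    exact IsPGroup.of_card hj
  have h2L : 2 ∣ Nat.card L := by
    rw [hLcard, hcardP] at h2
    exact (Nat.Coprime.pow_right _ c.coprime_two_p).dvd_of_dvd_mul_left h2
  have : Fact (Nat.Prime 2) := ⟨Nat.prime_two⟩
  obtain ⟨s₀, hs₀⟩ := exists_prime_orderOf_dvd_card' (G := L) 2 h2L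
  have hs₀' : orderOf (s₀ : G) = 2 := (Subgroup.orderOf_coe s₀).trans hs₀
  obtain ⟨s, hsdef⟩ : ∃ s : G, s = (s₀ : G) := ⟨_, rfl⟩
  have hsL : s ∈ L := by rw [hsdef]; exact s₀.2
  have hss : s * s = 1 := by rw [hsdef]; exact mul_self_of_orderOf_two hs₀'
  have hs1 : s ≠ 1 := by rw [hsdef]; exact Cfsg.Agent.H2.KleinRes.ne_one_of_orderOf_two hs₀'
  -- every involution of `L` inverts `P`
  have hinvL : ∀ u ∈ L, u * u = 1 → u ≠ 1 → ∀ y ∈ (P : Subgroup G), u * y * u⁻¹ = y⁻¹ := by
    intro u hu huu hu1 y hy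
    have huinv : u⁻¹ = u := inv_of_mul_self huu
    have hfix : ∀ z ∈ (P : Subgroup G), z * u = u * z → z = 1 := by
      intro z hz hzu
      apply c.focal P hz
      intro n hn
      obtain ⟨u', hu', l, hl, rfl⟩ := hLdec n hn
      have h1 := d.centP_of_two_group hLpg hu hu1 z hzu (c.pow_pe_of_mem P hz) l hl
      have h2 := c.P_comm P hu' hz
      calc u' * l * z = u' * (l * z) := by group
        _ = u' * (z * l) := by rw [h1]
        _ = (u' * z) * l := by group
        _ = (z * u') * l := by rw [h2]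
        _ = z * (u' * l) := by group
    have huy : u * y * u⁻¹ ∈ (P : Subgroup G) := (mem_set_normalizer_iff.1 (hLN hu) y).1 hy
    have hz : y * (u * y * u⁻¹) = 1 := by
      apply hfix _ (mul_mem hy huy)
      have h1 : y * (u * y * u⁻¹) = (u * y * u⁻¹) * y := c.P_comm P hy huy
      calc y * (u * y * u⁻¹) * u = (u * y * u⁻¹) * y * u := by rw [h1]
        _ = u * (y * (u⁻¹ * y * u)) := by group
        _ = u * (y * (u * y * u⁻¹)) := by rw [huinv]
    exact (eq_inv_of_mul_eq_one_right hz)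
  -- `L = {1, s}`
  have hLs : ∀ l ∈ L, l = 1 ∨ l = s := by
    intro l hl
    by_cases hl1 : l = 1
    · left; exact hl1
    right
    have hll : l * l = 1 := by
      obtain ⟨j, hj⟩ := IsPGroup.iff_card.1 hLpg
      apply c.two_elt_sq (j := j)
      rw [← hj]
      have := pow_card_eq_one' (G := L) (x := ⟨l, hl⟩)
      exact congrArg Subtype.val this
    by_contra hls
    have hsinv : s⁻¹ = s := inv_of_mul_self hss
    have hcomm : l * s = s * l := c.twogroup_comm hLpg hl hsL
    have hp1 : l * s ≠ 1 := by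
      intro h
      apply hls
      calc l = (l * s) * s⁻¹ := by group
        _ = s := by rw [h, one_mul, hsinv]
    have hps : (l * s) * (l * s) = 1 := by
      calc (l * s) * (l * s) = l * (s * l) * s := by group
        _ = l * (l * s) * s := by rw [hcomm]
        _ = (l * l) * (s * s) := by group
        _ = 1 := by rw [hll, hss, one_mul]
    apply c.P_ne_bot P
    rw [Subgroup.eq_bot_iff_forall]
    intro y hy
    have e1 : (l * s) * y * (l * s)⁻¹ = y := by
      calc (l * s) * y * (l * s)⁻¹ = l * (s * y * s⁻¹) * l⁻¹ := by group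
        _ = l * y⁻¹ * l⁻¹ := by rw [hinvL s hsL hss hs1 y hy]
        _ = (y⁻¹)⁻¹ := hinvL l hl hll hl1 _ (inv_mem hy)
        _ = y := inv_inv y
    have e2 : y⁻¹ = y := (hinvL (l * s) (mul_mem hl hsL) hps hp1 y hy).symm.trans e1
    have e3 : y * y = 1 := by
      calc y * y = y⁻¹ * y := by rw [e2]
        _ = 1 := inv_mul_cancel y
    exact c.eq_one_of_sq_of_pe e3 (c.pow_pe_of_mem P hy)
  refine ⟨s, hss, hs1, hLN hsL, hinvL s hsL hss hs1, ?_⟩
  intro n hn
  obtain ⟨u', hu', l, hl, rfl⟩ := hLdec n hn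
  rcases hLs l hl with rfl | rfl
  · left; rw [mul_one]; exact hu'
  · right; exact ⟨u', hu', rfl⟩

/-- no nontrivial `p`-element centralizes an involution -/
theorem eq_one_of_comm_invol {t : G} (htt : t * t = 1) (ht1 : t ≠ 1) {y : G}
    (hyt : y * t = t * y) (hype : y ^ (p ^ c.e) = 1) : y = 1 := by
  by_contra hy1
  have : Fact (Nat.Prime 2) := ⟨Nat.prime_two⟩
  obtain ⟨P, hP⟩ := (c.isPGroup_zpowers hype).exists_le_sylow
  have hyP : y ∈ (P : Subgroup G) := hP (mem_zpowers y)
  obtain ⟨s, hss, hs1, hsN, hinv, hdec⟩ := d.exists_invol_N P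
  -- a Sylow 2-subgroup containing `t`
  have htpow : t ^ (2 ^ 1) = 1 := by rw [pow_one, pow_two, htt]
  obtain ⟨Q', hQ'⟩ := (c.isPGroup_two_zpowers htpow).exists_le_sylow
  have htQ' : t ∈ (Q' : Subgroup G) := hQ' (mem_zpowers t)
  have hcent := d.centP_of_two_group Q'.isPGroup' htQ' ht1 y hyt hype
  -- `Q' ≤ N_G(P)`
  have hZne : zpowers y ≠ ⊥ := by
    intro h
    rw [zpowers_eq_bot] at h
    exact hy1 h
  have hsNZ : s ∈ normalizer ((zpowers y : Subgroup G) : Set G) := by
    apply invol_mem_normalizer_zpowers hss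
    rw [hinv y hyP]
    exact inv_mem (mem_zpowers y)
  have h2 : 2 ∣ Nat.card (normalizer ((zpowers y : Subgroup G) : Set G)) := by
    have := orderOf_dvd_natCard (⟨s, hsNZ⟩ : normalizer ((zpowers y : Subgroup G) : Set G))
    rwa [Subgroup.orderOf_mk, orderOf_two_of hss hs1] at this
  have hNZ : normalizer ((zpowers y : Subgroup G) : Set G) ≤
      normalizer ((P : Subgroup G) : Set G) := by
    rcases c.normalizer_dichotomy P hP hZne h2 with h | h
    · exact h
    · exfalso
      have := h hsNZ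
      rw [mem_centralizer_iff] at this
      exact hy1 (c.eq_one_of_inverts_of_comm (hinv y hyP) (this y (mem_zpowers y)).symm hype)
  have hQ'N : (Q' : Subgroup G) ≤ normalizer ((P : Subgroup G) : Set G) := by
    intro w hw
    apply hNZ
    apply centralizer_le_normalizer
    rw [mem_centralizer_iff]
    intro z hz
    obtain ⟨k, rfl⟩ := mem_zpowers_iff.1 hz
    exact (Commute.zpow_left (show Commute y w from (hcent w hw).symm) k)
  -- elements of `Q'` in `P` are trivial
  have hQ'P : ∀ w ∈ (Q' : Subgroup G), w ∈ (P : Subgroup G) → w = 1 := by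
    intro w hw hwP
    obtain ⟨j, hj⟩ := IsPGroup.iff_card.1 Q'.isPGroup'
    have hww : w * w = 1 := by
      apply c.two_elt_sq (j := j)
      rw [← hj]
      have := pow_card_eq_one' (G := (Q' : Subgroup G)) (x := ⟨w, hw⟩)
      exact congrArg Subtype.val this
    exact c.eq_one_of_sq_of_pe hww (c.pow_pe_of_mem P hwP)
  have hcardQ' : 4 ≤ Nat.card (Q' : Subgroup G) := by
    have h1 : Nat.card (Q' : Subgroup G) = 2 ^ (Nat.card G).factorization 2 :=
      Q'.card_eq_multiplicity
    rw [h1, ← c.a_eq]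
    calc 4 = 2 ^ 2 := by norm_num
      _ ≤ 2 ^ c.a := Nat.pow_le_pow_right (by norm_num) c.two_le_a
  classical
  obtain ⟨w₁, hw₁, hw₁not⟩ := exists_mem_notMem (Q' : Subgroup G) {1}
    (by rw [Finset.card_singleton]; omega)
  obtain ⟨w₂, hw₂, hw₂not⟩ := exists_mem_notMem (Q' : Subgroup G) {1, w₁}
    (lt_of_le_of_lt Finset.card_le_two (by omega))
  simp only [Finset.mem_insert, Finset.mem_singleton, not_or] at hw₁not hw₂not
  obtain ⟨hw₂1, hw₂w₁⟩ := hw₂not
  have hd1 : ∃ y₁ ∈ (P : Subgroup G), w₁ = y₁ * s := by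
    rcases hdec w₁ (hQ'N hw₁) with h | h
    · exact absurd (hQ'P w₁ hw₁ h) hw₁not
    · exact h
  have hd2 : ∃ y₂ ∈ (P : Subgroup G), w₂ = y₂ * s := by
    rcases hdec w₂ (hQ'N hw₂) with h | h
    · exact absurd (hQ'P w₂ hw₂ h) hw₂1
    · exact h
  obtain ⟨y₁, hy₁, e₁⟩ := hd1
  obtain ⟨y₂, hy₂, e₂⟩ := hd2
  have hmem : w₂ * w₁⁻¹ ∈ (P : Subgroup G) := by
    have : w₂ * w₁⁻¹ = y₂ * y₁⁻¹ := by rw [e₁, e₂]; group
    rw [this]
    exact mul_mem hy₂ (inv_mem hy₁)
  have := hQ'P _ (mul_mem hw₂ (inv_mem hw₁)) hmem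
  apply hw₂w₁
  calc w₂ = (w₂ * w₁⁻¹) * w₁ := by group
    _ = w₁ := by rw [this, one_mul]

/-- the centralizer of an involution is the Sylow `2`-subgroup containing it -/
theorem centralizer_invol_eq (Q' : Sylow 2 G) {t : G} (ht : t ∈ (Q' : Subgroup G)) (ht1 : t ≠ 1) :
    centralizer ({t} : Set G) = (Q' : Subgroup G) := by
  have : Fact (Nat.Prime 2) := ⟨Nat.prime_two⟩
  obtain ⟨j, hj⟩ := IsPGroup.iff_card.1 Q'.isPGroup'
  have htt : t * t = 1 := by
    apply c.two_elt_sq (j := j)
    rw [← hj]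
    have := pow_card_eq_one' (G := (Q' : Subgroup G)) (x := ⟨t, ht⟩)
    exact congrArg Subtype.val this
  have hle : (Q' : Subgroup G) ≤ centralizer ({t} : Set G) := by
    intro w hw
    rw [mem_centralizer_singleton_iff]
    exact c.twogroup_comm Q'.isPGroup' hw ht
  symm
  apply Subgroup.eq_of_le_of_card_ge hle
  have hdvd := c.card_dvd (c.centralizer_invol_ne_top htt ht1) (c.two_dvd_card_centralizer htt ht1)
  have hnp : ¬ p ∣ Nat.card (centralizer ({t} : Set G)) := by
    intro hp'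
    obtain ⟨y, hy⟩ := exists_prime_orderOf_dvd_card' (G := centralizer ({t} : Set G)) p hp'
    have hy' : orderOf (y : G) = p := (Subgroup.orderOf_coe y).trans hy
    have hyt := y.2
    rw [mem_centralizer_singleton_iff] at hyt
    have hype : (y : G) ^ (p ^ c.e) = 1 := by
      apply orderOf_dvd_iff_pow_eq_one.1
      rw [hy']
      exact dvd_pow_self p (by have := c.one_le_e; omega)
    have := d.eq_one_of_comm_invol htt ht1 hyt hype
    rw [this, orderOf_one] at hy'
    exact c.hpp.one_lt.ne hy'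
  have hcop : (Nat.card (centralizer ({t} : Set G))).Coprime (p ^ c.e) :=
    Nat.Coprime.pow_right _ ((Nat.Prime.coprime_iff_not_dvd c.hpp).2 hnp).symm
  have h3 := hcop.dvd_of_dvd_mul_right hdvd
  have h1 : Nat.card (Q' : Subgroup G) = 2 ^ (Nat.card G).factorization 2 :=
    Q'.card_eq_multiplicity
  rw [h1, ← c.a_eq]
  exact Nat.le_of_dvd (by positivity) h3

end CaseII

end Cfsg.Agent.H2.TwoPr
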