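import Mathlib
import Cfsg.Agent.H2.TwoPrE
import Cfsg.Agent.H2.TwoPrF
import Cfsg.Agent.Lib.Helper4.FrobDiv

/-!
# The Mersenne setting of the two-prime theorem (S4017): case II, counting. helper2
-/

set_option autoImplicit false
set_option linter.unusedSectionVars false
set_option linter.unusedVariables false

universe u

namespace Cfsg.Agent.H2.TwoPr

open Subgroup
open scoped Pointwise
open Cfsg.Agent.H2.CycSylAb (mem_normalizer_of_conj_le)
open Cfsg.Agent.H2.KleinRes (orderOf_two_of mul_self_of_orderOf_two inv_of_mul_self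
  mem_sylow_of_mem_normalizer invol_mem_normalizer_zpowers)

variable {G : Type u} [Group G] [Finite G] {p : ℕ} [hp : Fact p.Prime] {c : MCtx p G}

section defs

variable [Fintype G] [DecidableEq G]

/-- the set of involutions -/
def invSet (G : Type u) [Group G] [Fintype G] [DecidableEq G] : Finset G :=
  Finset.univ.filter (fun s : G => s * s = 1 ∧ s ≠ 1)

/-- the set of nontrivial `p`-elements -/
noncomputable def pSet (c : MCtx p G) : Finset G :=
  Finset.univ.filter (fun v : G => v ≠ 1 ∧ v ^ (p ^ c.e) = 1)

omit [Finite G] in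
theorem mem_invSet {s : G} : s ∈ invSet G ↔ s * s = 1 ∧ s ≠ 1 := by
  simp [invSet]

theorem mem_pSet {v : G} : v ∈ pSet c ↔ v ≠ 1 ∧ v ^ (p ^ c.e) = 1 := by
  simp [pSet]

end defs

namespace CaseII

variable (d : CaseII c)

include d

section count

variable [Fintype G] [DecidableEq G]

/-- the number of involutions -/
theorem card_invSet : (invSet G).card * 2 ^ c.a = Nat.card G := by
  classical
  obtain ⟨t, ht, htnot⟩ := exists_mem_notMem (c.Q : Subgroup G) {1}
    (by rw [Finset.card_singleton]; have := c.card_Q_pos; exact lt_of_lt_of_le (by norm_num) this)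
  rw [Finset.mem_singleton] at htnot
  have htt := c.sq_eq_one_Q ht
  have hCt := d.centralizer_invol_eq c.Q ht htnot
  have h1 : (centralizer ({t} : Set G)).index = (MulAction.stabilizer (ConjAct G) t).index := by
    rw [Subgroup.centralizer_eq_comap_stabilizer]
    exact Subgroup.index_comap_of_surjective _ (ConjAct.toConjAct (G := G)).surjective
  have h2 : (MulAction.orbit (ConjAct G) t) = (invSet G : Set G) := by
    ext w
    constructor
    · rintro ⟨g, rfl⟩
      beta_reduce
      rw [Finset.mem_coe, mem_invSet, ConjAct.smul_def]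
      constructor
      · calc ConjAct.ofConjAct g * t * (ConjAct.ofConjAct g)⁻¹ *
            (ConjAct.ofConjAct g * t * (ConjAct.ofConjAct g)⁻¹)
            = ConjAct.ofConjAct g * (t * t) * (ConjAct.ofConjAct g)⁻¹ := by group
          _ = 1 := by rw [htt]; group
      · intro h
        apply htnot
        calc t = (ConjAct.ofConjAct g)⁻¹ *
            (ConjAct.ofConjAct g * t * (ConjAct.ofConjAct g)⁻¹) * ConjAct.ofConjAct g := by group
          _ = 1 := by rw [h]; group
    · intro hw
      rw [Finset.mem_coe, mem_invSet] at hw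
      obtain ⟨g, hg⟩ := c.invol_conj htt htnot hw.1 hw.2
      exact ⟨ConjAct.toConjAct g, by beta_reduce; rw [ConjAct.smul_def]; exact hg⟩
  have h3 : (centralizer ({t} : Set G)).index = (invSet G).card := by
    rw [h1, MulAction.index_stabilizer, h2, Set.ncard_coe_finset]
  have h4 := (centralizer ({t} : Set G)).card_mul_index
  rw [h3, hCt] at h4
  have h5 : Nat.card (c.Q : Subgroup G) = 2 ^ c.a := c.hQcard
  rw [h5, mul_comm] at h4
  exact h4

/-- `p ^ e` divides the number of involutions -/
theorem pe_dvd_card_invSet : p ^ c.e ∣ (invSet G).card := by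
  have h1 : p ^ c.e ∣ Nat.card G := Nat.ordProj_dvd _ _
  rw [← d.card_invSet] at h1
  exact (Nat.Coprime.pow _ _ c.coprime_two_p.symm).dvd_of_dvd_mul_right h1

/-- (T1): the number of nontrivial `p`-elements inverted by an involution `s` -/
theorem card_inverted {s : G} (hs : s ∈ invSet G) :
    ((pSet c).filter (fun v => s * v * s⁻¹ = v⁻¹)).card + p = (invSet G).card := by
  classical
  have : Fact (Nat.Prime 2) := ⟨Nat.prime_two⟩
  rw [mem_invSet] at hs
  obtain ⟨hss, hs1⟩ := hs
  have hsinv : s⁻¹ = s := inv_of_mul_self hss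
  have hspow : s ^ (2 ^ 1) = 1 := by rw [pow_one, pow_two, hss]
  obtain ⟨Q', hQ'⟩ := (c.isPGroup_two_zpowers hspow).exists_le_sylow
  have hsQ' : s ∈ (Q' : Subgroup G) := hQ' (mem_zpowers s)
  have hCs := d.centralizer_invol_eq Q' hsQ' hs1
  have hQ'sq : ∀ w ∈ (Q' : Subgroup G), w * w = 1 := by
    intro w hw
    obtain ⟨j, hj⟩ := IsPGroup.iff_card.1 Q'.isPGroup'
    apply c.two_elt_sq (j := j)
    rw [← hj]
    have := pow_card_eq_one' (G := (Q' : Subgroup G)) (x := ⟨w, hw⟩)
    exact congrArg Subtype.val this
  have hcardQ' : Nat.card (Q' : Subgroup G) = p + 1 := by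
    have h1 : Nat.card (Q' : Subgroup G) = 2 ^ (Nat.card G).factorization 2 :=
      Q'.card_eq_multiplicity
    rw [h1, ← c.a_eq, c.ha]
  -- split the involutions
  have hsplit := Finset.card_filter_add_card_filter_not (s := invSet G)
    (fun w => w ∈ (Q' : Subgroup G))
  -- the involutions in `Q'`
  have hin : ((invSet G).filter (fun w => w ∈ (Q' : Subgroup G))).card = p := by
    have e1 : (invSet G).filter (fun w => w ∈ (Q' : Subgroup G))
        = (Finset.univ.filter (fun w : G => w ∈ (Q' : Subgroup G))).erase 1 := by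
      ext w
      simp only [Finset.mem_filter, mem_invSet, Finset.mem_erase, Finset.mem_univ, true_and]
      constructor
      · rintro ⟨⟨_, h1⟩, h2⟩
        exact ⟨h1, h2⟩
      · rintro ⟨h1, h2⟩
        exact ⟨⟨hQ'sq w h2, h1⟩, h2⟩
    rw [e1, Finset.card_erase_of_mem (by simp [one_mem])]
    have e2 : (Finset.univ.filter (fun w : G => w ∈ (Q' : Subgroup G))).card
        = Nat.card (Q' : Subgroup G) := by
      rw [Nat.card_eq_fintype_card, Fintype.card_subtype]
    rw [e2, hcardQ']
    rfl
  -- the bijection
  have hout : ((invSet G).filter (fun w => ¬ w ∈ (Q' : Subgroup G))).card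
      = ((pSet c).filter (fun v => s * v * s⁻¹ = v⁻¹)).card := by
    apply Finset.card_nbij' (fun z => s * z) (fun z => s * z)
    · -- maps to
      intro t ht
      rw [Finset.mem_coe, Finset.mem_filter, mem_invSet] at ht
      obtain ⟨⟨htt, ht1⟩, htQ'⟩ := ht
      have htinv : t⁻¹ = t := inv_of_mul_self htt
      rw [Finset.mem_coe, Finset.mem_filter, mem_pSet]
      have hv1 : s * t ≠ 1 := by
        intro h
        apply htQ'
        have : t = s := by
          calc t = s⁻¹ * (s * t) := by group
            _ = s := by rw [h, mul_one, hsinv]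
        rw [this]; exact hsQ'
      have hinv : s * (s * t) * s⁻¹ = (s * t)⁻¹ := by
        have e1 : s * (s * t) * s⁻¹ = (s * s) * t * s⁻¹ := by group
        have e2 : (s * t)⁻¹ = t⁻¹ * s⁻¹ := by group
        rw [e1, e2, hss, one_mul, htinv]
      have htinvv : t * (s * t) * t⁻¹ = (s * t)⁻¹ := by
        have e1 : t * (s * t) * t⁻¹ = t * s := by group
        have e2 : (s * t)⁻¹ = t⁻¹ * s⁻¹ := by group
        rw [e1, e2, htinv, hsinv]
      -- the order of `s * t` is odd
      have hodd : ¬ 2 ∣ orderOf (s * t) := by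
        intro h2
        obtain ⟨m, hm⟩ := h2
        obtain ⟨w, hwdef⟩ : ∃ w, w = (s * t) ^ m := ⟨_, rfl⟩
        have hmpos : 0 < m := by
          rcases Nat.eq_zero_or_pos m with h | h
          · rw [h, mul_zero] at hm
            exact absurd hm (orderOf_pos _).ne'
          · exact h
        have hw1 : w ≠ 1 := by
          intro h
          rw [hwdef] at h
          have := orderOf_dvd_of_pow_eq_one h
          rw [hm] at this
          have := Nat.le_of_dvd hmpos this
          omega
        have hww : w * w = 1 := by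
          rw [hwdef, ← pow_add, ← two_mul, ← hm, pow_orderOf_eq_one]
        have hwinv : w⁻¹ = w := inv_of_mul_self hww
        have hsw : s * w = w * s := by
          have := c.inverts_pow hinv m
          rw [← hwdef, hwinv] at this
          calc s * w = (s * w * s⁻¹) * s := by group
            _ = w * s := by rw [this]
        have htw : t * w = w * t := by
          have := c.inverts_pow htinvv m
          rw [← hwdef, hwinv] at this
          calc t * w = (t * w * t⁻¹) * t := by group
            _ = w * t := by rw [this]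
        -- `w ∈ C(s) = Q'`, so `C(w) = Q'`
        have hwQ' : w ∈ (Q' : Subgroup G) := by
          rw [← hCs, mem_centralizer_singleton_iff]
          exact hsw.symm
        have hCw := d.centralizer_invol_eq Q' hwQ' hw1
        apply htQ'
        rw [← hCw, mem_centralizer_singleton_iff]
        exact htw
      -- `s * t` is a `p`-element
      have hsN : s ∈ normalizer ((zpowers (s * t) : Subgroup G) : Set G) := by
        apply invol_mem_normalizer_zpowers hss
        rw [hinv]
        exact inv_mem (mem_zpowers _)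
      have hZne : zpowers (s * t) ≠ ⊥ := by
        intro h
        rw [zpowers_eq_bot] at h
        exact hv1 h
      have hZtop : zpowers (s * t) ≠ ⊤ := by
        intro h
        have hs' : s ∈ zpowers (s * t) := by rw [h]; trivial
        have hcommZ : ∀ a ∈ zpowers (s * t), a * (s * t) = (s * t) * a := by
          intro a ha
          obtain ⟨i, rfl⟩ := mem_zpowers_iff.1 ha
          exact (Commute.refl (s * t)).zpow_left i
        have hcomm : s * (s * t) = (s * t) * s := hcommZ s hs'
        have h5 := c.sq_of_inverts_of_comm hinv hcomm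
        have h6 : orderOf (s * t) ∣ 2 := orderOf_dvd_of_pow_eq_one (by rw [pow_two, h5])
        rcases (Nat.dvd_prime Nat.prime_two).1 h6 with h7 | h7
        · exact hv1 (orderOf_eq_one_iff.1 h7)
        · exact hodd (by rw [h7])
      have hHtop := c.normalizer_ne_top hZne hZtop
      have h2 : 2 ∣ Nat.card (normalizer ((zpowers (s * t) : Subgroup G) : Set G)) := by
        have := orderOf_dvd_natCard
          (⟨s, hsN⟩ : normalizer ((zpowers (s * t) : Subgroup G) : Set G))
        rwa [Subgroup.orderOf_mk, orderOf_two_of hss hs1] at this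
      exact ⟨⟨hv1, c.pow_pe_of_odd hHtop h2 (le_normalizer (mem_zpowers _)) hodd⟩, hinv⟩
    · -- maps back
      intro v hv
      rw [Finset.mem_coe, Finset.mem_filter, mem_pSet] at hv
      obtain ⟨⟨hv1, hvpe⟩, hinv⟩ := hv
      rw [Finset.mem_coe, Finset.mem_filter, mem_invSet]
      have hsv : s * v * s = v⁻¹ := by
        have := hinv
        rwa [hsinv] at this
      refine ⟨⟨?_, ?_⟩, ?_⟩
      · calc s * v * (s * v) = (s * v * s) * v := by group
          _ = 1 := by rw [hsv, inv_mul_cancel]
      · intro h
        have h : s * v = 1 := h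
        have hvs : v = s := by
          calc v = s⁻¹ * (s * v) := by group
            _ = s := by rw [h, mul_one, hsinv]
        rw [hvs] at hvpe
        exact hs1 (c.eq_one_of_sq_of_pe hss hvpe)
      · intro hmem
        have hmem : s * v ∈ (Q' : Subgroup G) := hmem
        rw [← hCs, mem_centralizer_singleton_iff] at hmem
        -- `s * (s * v) = (s * v) * s`
        have hcomm : s * v = v * s := by
          calc s * v = s⁻¹ * (s * (s * v)) := by group
            _ = s⁻¹ * ((s * v) * s) := by rw [hmem]
            _ = v * s := by group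
        exact hv1 (c.eq_one_of_inverts_of_comm hinv hcomm hvpe)
    · intro t _
      show s * (s * t) = t
      rw [← mul_assoc, hss, one_mul]
    · intro v _
      show s * (s * v) = v
      rw [← mul_assoc, hss, one_mul]
  rw [← hsplit, hin, hout, add_comm]

/-- (T2): the number of involutions inverting a nontrivial `p`-element -/
theorem card_inverting {v : G} (hv : v ∈ pSet c) :
    ((invSet G).filter (fun s => s * v * s⁻¹ = v⁻¹)).card = p ^ c.e := by
  classical
  rw [mem_pSet] at hv
  obtain ⟨hv1, hvpe⟩ := hv
  obtain ⟨P, hP⟩ := (c.isPGroup_zpowers hvpe).exists_le_sylow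
  have hvP : v ∈ (P : Subgroup G) := hP (mem_zpowers v)
  obtain ⟨s₀, hss, hs1, hsN, hinv, hdec⟩ := d.exists_invol_N P
  have hs₀inv : s₀⁻¹ = s₀ := inv_of_mul_self hss
  have hZne : zpowers v ≠ ⊥ := by
    intro h
    rw [zpowers_eq_bot] at h
    exact hv1 h
  have hsNZ : s₀ ∈ normalizer ((zpowers v : Subgroup G) : Set G) := by
    apply invol_mem_normalizer_zpowers hss
    rw [hinv v hvP]
    exact inv_mem (mem_zpowers v)
  have h2 : 2 ∣ Nat.card (normalizer ((zpowers v : Subgroup G) : Set G)) := by
    have := orderOf_dvd_natCard (⟨s₀, hsNZ⟩ : normalizer ((zpowers v : Subgroup G) : Set G))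
    rwa [Subgroup.orderOf_mk, orderOf_two_of hss hs1] at this
  have hNZ : normalizer ((zpowers v : Subgroup G) : Set G) ≤
      normalizer ((P : Subgroup G) : Set G) := by
    rcases c.normalizer_dichotomy P hP hZne h2 with h | h
    · exact h
    · exfalso
      have := h hsNZ
      rw [mem_centralizer_iff] at this
      exact hv1 (c.eq_one_of_inverts_of_comm (hinv v hvP) (this v (mem_zpowers v)).symm hvpe)
  have e1 : (invSet G).filter (fun s => s * v * s⁻¹ = v⁻¹)
      = (Finset.univ.filter (fun y : G => y ∈ (P : Subgroup G))).image (fun y => y * s₀) := by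
    ext s
    simp only [Finset.mem_filter, mem_invSet, Finset.mem_image, Finset.mem_univ, true_and]
    constructor
    · rintro ⟨⟨hs2, hsne⟩, hsv⟩
      have hsNZ' : s ∈ normalizer ((zpowers v : Subgroup G) : Set G) := by
        apply invol_mem_normalizer_zpowers hs2
        rw [hsv]
        exact inv_mem (mem_zpowers v)
      rcases hdec s (hNZ hsNZ') with h | ⟨y, hy, rfl⟩
      · exact absurd (c.eq_one_of_sq_of_pe hs2 (c.pow_pe_of_mem P h)) hsne
      · exact ⟨y, hy, rfl⟩
    · rintro ⟨y, hy, rfl⟩
      have hys : s₀ * y * s₀ = y⁻¹ := by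
        have := hinv y hy
        rwa [hs₀inv] at this
      refine ⟨⟨?_, ?_⟩, ?_⟩
      · calc y * s₀ * (y * s₀) = y * (s₀ * y * s₀) := by group
          _ = 1 := by rw [hys, mul_inv_cancel]
      · intro h
        have hs₀P : s₀ ∈ (P : Subgroup G) := by
          have : s₀ = y⁻¹ := by
            calc s₀ = y⁻¹ * (y * s₀) := by group
              _ = y⁻¹ := by rw [h, mul_one]
          rw [this]; exact inv_mem hy
        exact hs1 (c.eq_one_of_sq_of_pe hss (c.pow_pe_of_mem P hs₀P))
      · have e2 : y * s₀ * v * (y * s₀)⁻¹ = y * (s₀ * v * s₀⁻¹) * y⁻¹ := by group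
        rw [e2, hinv v hvP]
        have hcomm := c.P_comm P hy (inv_mem hvP)
        calc y * v⁻¹ * y⁻¹ = v⁻¹ * y * y⁻¹ := by rw [hcomm]
          _ = v⁻¹ := by group
  rw [e1, Finset.card_image_of_injective _ (mul_left_injective s₀)]
  have e2 : (Finset.univ.filter (fun w : G => w ∈ (P : Subgroup G))).card
      = Nat.card (P : Subgroup G) := by
    rw [Nat.card_eq_fintype_card, Fintype.card_subtype]
  rw [e2]
  exact c.card_P P

/-- (T3) -/
theorem p_dvd_card_pSet_succ : p ∣ (pSet c).card + 1 := by
  have h1 : p ^ c.e ∣ Nat.card G := Nat.ordProj_dvd _ _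
  have h2 := Cfsg.Agent.Lib.Helper4.FrobDiv.frobenius_dvd (G := G) (p ^ c.e) h1
  have h3 : Nat.card {g : G // g ^ (p ^ c.e) = 1} = (pSet c).card + 1 := by
    rw [Nat.card_eq_fintype_card, Fintype.card_subtype]
    have e1 : pSet c = (Finset.univ.filter (fun g : G => g ^ (p ^ c.e) = 1)).erase 1 := by
      ext v
      simp only [mem_pSet, Finset.mem_erase, Finset.mem_filter, Finset.mem_univ, true_and]
    rw [e1, Finset.card_erase_of_mem (by simp)]
    have hpos : 0 < (Finset.univ.filter (fun g : G => g ^ (p ^ c.e) = 1)).card :=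
      Finset.card_pos.2 ⟨1, by simp⟩
    omega
  rw [h3] at h2
  exact (dvd_pow_self p (by have := c.one_le_e; omega)).trans h2

/-- the final count -/
theorem count_false : False := by
  have hdc := Finset.sum_card_bipartiteAbove_eq_sum_card_bipartiteBelow
    (fun (s v : G) => s * v * s⁻¹ = v⁻¹) (s := invSet G) (t := pSet c)
  -- a common value
  obtain ⟨m, hm⟩ := d.pe_dvd_card_invSet
  have hp_dvd_I : p ∣ (invSet G).card := by
    rw [hm]
    exact Dvd.dvd.mul_right (dvd_pow_self p (by have := c.one_le_e; omega)) _
  have hIpos : 0 < (invSet G).card := by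
    have := d.card_invSet
    rcases Nat.eq_zero_or_pos (invSet G).card with h | h
    · rw [h, zero_mul] at this
      exact absurd this.symm Nat.card_pos.ne'
    · exact h
  obtain ⟨s, hs⟩ := Finset.card_pos.1 hIpos
  obtain ⟨j, hj⟩ : ∃ j, j + p = (invSet G).card := ⟨_, d.card_inverted hs⟩
  have hL : ∑ a ∈ invSet G, (Finset.bipartiteAbove (fun (s v : G) => s * v * s⁻¹ = v⁻¹)
      (pSet c) a).card = (invSet G).card * j := by
    rw [Finset.sum_const_nat (m := j), mul_comm]
    intro a ha
    have := d.card_inverted ha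
    have e : (Finset.bipartiteAbove (fun (s v : G) => s * v * s⁻¹ = v⁻¹) (pSet c) a)
        = (pSet c).filter (fun v => a * v * a⁻¹ = v⁻¹) := rfl
    rw [e]
    omega
  have hR : ∑ b ∈ pSet c, (Finset.bipartiteBelow (fun (s v : G) => s * v * s⁻¹ = v⁻¹)
      (invSet G) b).card = (pSet c).card * p ^ c.e := by
    rw [Finset.sum_const_nat (m := p ^ c.e)]
    intro b hb
    exact d.card_inverting hb
  rw [hL, hR, hm] at hdc
  have hpe_pos : 0 < p ^ c.e := pow_pos c.hpp.pos _
  have h1 : m * j = (pSet c).card := by
    have : p ^ c.e * (m * j) = p ^ c.e * (pSet c).card := by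
      rw [← mul_assoc, hdc, mul_comm]
    exact Nat.eq_of_mul_eq_mul_left hpe_pos this
  have hpj : p ∣ j := by
    have h2 : p ∣ j + p := by rw [hj]; exact hp_dvd_I
    exact (Nat.dvd_add_left (dvd_refl p)).1 h2
  have h3 : p ∣ (pSet c).card := by rw [← h1]; exact Dvd.dvd.mul_left hpj m
  have h4 := d.p_dvd_card_pSet_succ
  have h5 : p ∣ 1 := (Nat.dvd_add_right h3).1 h4
  exact c.hpp.one_lt.ne' (Nat.dvd_one.1 h5)

end count

/-- Case II is impossible -/
theorem false : False := by
  classical
  letI : Fintype G := Fintype.ofFinite G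
  exact d.count_false

end CaseII

/-- The Mersenne setting is contradictory. -/
theorem MCtx.false (c : MCtx p G) : False := by
  by_cases h : ∀ t ∈ (c.Q : Subgroup G), t ≠ 1 → c.CentP (c.Q : Subgroup G) t
  · exact CaseII.false ⟨h⟩
  · push Not at h
    obtain ⟨t, ht, ht1, hnot⟩ := h
    obtain ⟨P, hQN, hCN⟩ := c.caseI_setup ht ht1 hnot
    exact CaseI.false ⟨t, ht, ht1, P, hQN, hCN⟩

end Cfsg.Agent.H2.TwoPr
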