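import Mathlib
import Cfsg.Agent.H2.TwoPrG
import Cfsg.Agent.Lib.Lead.NormalPComplement

/-!
# The two-prime theorem (S4017): the simple case. helper2
-/

set_option autoImplicit false
set_option linter.unusedSectionVars false
set_option linter.unusedVariables false

universe u

namespace Cfsg.Agent.H2.TwoPr

open Subgroup

variable {G : Type u} [Group G] [Finite G]

/-- the simple setting -/
structure SCtx (p q : ℕ) (G : Type u) [Group G] [Finite G] : Prop where
  hp : p.Prime
  hq : q.Prime
  hpq : p ≠ q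
  hp2 : p ≠ 2
  hpG : p ∣ Nat.card G
  hqG : q ∣ Nat.card G
  simple : IsSimpleGroup G
  star : ∀ H : Subgroup G, H ≠ ⊤ → q ∣ Nat.card H → PQ p q (Nat.card H)
  hlarge : q ^ (Nat.card G).factorization q - 1 < p ∨
    (p = q ^ (Nat.card G).factorization q - 1 ∧ ∀ P : Sylow p G, IsMulCommutative P)

/-- The simple setting is contradictory. -/
theorem SCtx.false {p q : ℕ} (h : SCtx p q G) : False := by
  haveI : Fact p.Prime := ⟨h.hp⟩
  haveI : Fact q.Prime := ⟨h.hq⟩
  haveI := h.simple
  obtain ⟨Q⟩ : Nonempty (Sylow q G) := inferInstance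
  have hQcard : Nat.card (Q : Subgroup G) = q ^ (Nat.card G).factorization q :=
    Q.card_eq_multiplicity
  by_cases hfrob : ∀ Q₀ : Subgroup G, Q₀ ≤ (Q : Subgroup G) →
      ∀ g ∈ Subgroup.normalizer (Q₀ : Set G), Nat.Coprime (orderOf g) q →
        g ∈ Subgroup.centralizer (Q₀ : Set G)
  · -- a normal `q`-complement
    have hnc := Cfsg.Agent.Lib.Lead.NormalPComplement.hasNormalPComplement_of_p'_centralize Q hfrob
    obtain ⟨N, hN, hcop, k, hk⟩ :=
      Cfsg.Agent.Lib.Lead.NormalPComplement.exists_normal_of_hasNormalPComplement hnc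
    rcases hN.eq_bot_or_eq_top with hb | ht
    · rw [hb, Subgroup.index_bot] at hk
      have := h.hpG
      rw [hk] at this
      exact h.hpq ((Nat.prime_dvd_prime_iff_eq h.hp h.hq).1 (h.hp.dvd_of_dvd_pow this))
    · rw [ht, Subgroup.card_top] at hcop
      have := Nat.Coprime.eq_one_of_dvd hcop.symm h.hqG
      exact h.hq.one_lt.ne' this
  · push Not at hfrob
    obtain ⟨Q₀, hQ₀Q, g, hgN, hgcop, hgC⟩ := hfrob
    rw [mem_centralizer_iff] at hgC
    push Not at hgC
    obtain ⟨y, hy, hyg⟩ := hgC
    have hy : y ∈ Q₀ := hy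
    have hgy : g * y * g⁻¹ ≠ y := by
      intro he
      apply hyg
      calc y * g = (g * y * g⁻¹) * g := by rw [he]
        _ = g * y := by group
    have hy1 : y ≠ 1 := by
      rintro rfl
      apply hgy; group
    have hQ₀ne : Q₀ ≠ ⊥ := by
      intro hb
      rw [hb, Subgroup.mem_bot] at hy
      exact hy1 hy
    have hQ₀pg : IsPGroup q Q₀ := Q.isPGroup'.to_le hQ₀Q
    have hQ₀top : Q₀ ≠ ⊤ := by
      rintro rfl
      obtain ⟨j, hj⟩ := IsPGroup.iff_card.1 hQ₀pg
      have := h.hpG
      rw [← Subgroup.card_top (G := G), hj] at this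
      exact h.hpq ((Nat.prime_dvd_prime_iff_eq h.hp h.hq).1 (h.hp.dvd_of_dvd_pow this))
    have hNtop : normalizer (Q₀ : Set G) ≠ ⊤ := by
      intro ht
      rw [normalizer_eq_top_iff] at ht
      rcases ht.eq_bot_or_eq_top with h1 | h1
      · exact hQ₀ne h1
      · exact hQ₀top h1
    have hqQ₀ : q ∣ Nat.card Q₀ := by
      obtain ⟨j, hj⟩ := IsPGroup.iff_card.1 hQ₀pg
      rcases Nat.eq_zero_or_pos j with h0 | h0
      · exfalso
        rw [h0, pow_zero] at hj
        exact hQ₀ne (Subgroup.eq_bot_of_card_eq _ hj)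
      · rw [hj]; exact dvd_pow_self q (by omega)
    have hqN : q ∣ Nat.card (normalizer (Q₀ : Set G)) :=
      hqQ₀.trans (Subgroup.card_dvd_of_le le_normalizer)
    have hPQ := h.star _ hNtop hqN
    have hgord : orderOf g ∣ Nat.card (normalizer (Q₀ : Set G)) := by
      have := orderOf_dvd_natCard (⟨g, hgN⟩ : normalizer (Q₀ : Set G))
      rwa [Subgroup.orderOf_mk] at this
    have hgq : ¬ q ∣ orderOf g := by
      intro hd
      have := Nat.Coprime.eq_one_of_dvd hgcop.symm hd
      exact h.hq.one_lt.ne' this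
    obtain ⟨k, hk⟩ := PQ.eq_pow (orderOf_pos g).ne' (hPQ.of_dvd hgord) hgq
    have hgk : g ^ (p ^ k) = 1 := by rw [← hk]; exact pow_orderOf_eq_one g
    obtain ⟨hle, htrans⟩ := orbit_lemma hgk Q₀ hgN hy hgy
    have hQ₀le : Nat.card Q₀ ≤ q ^ (Nat.card G).factorization q := by
      rw [← hQcard]
      exact Nat.le_of_dvd Nat.card_pos (Subgroup.card_dvd_of_le hQ₀Q)
    have hqa_pos : 0 < q ^ (Nat.card G).factorization q := pow_pos h.hq.pos _
    rcases h.hlarge with hl | ⟨hl, hab⟩
    · omega
    · have hqa : q ^ (Nat.card G).factorization q = p + 1 := by omega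
      have hQ₀card : Nat.card Q₀ = p + 1 := by omega
      have hQ₀eq : Q₀ = (Q : Subgroup G) := by
        apply Subgroup.eq_of_le_of_card_ge hQ₀Q
        rw [hQcard, hqa, hQ₀card]
      -- `q = 2`
      have hq2 : q = 2 := by
        have hpodd : ¬ 2 ∣ p := by
          intro hd
          exact h.hp2 ((Nat.prime_dvd_prime_iff_eq Nat.prime_two h.hp).1 hd).symm
        have h2 : 2 ∣ q ^ (Nat.card G).factorization q := by
          rw [hqa]; omega
        exact ((Nat.prime_dvd_prime_iff_eq Nat.prime_two h.hq).1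
          (Nat.Prime.dvd_of_dvd_pow Nat.prime_two h2)).symm
      subst hq2
      subst hQ₀eq
      have hgpow : ∀ j : ℕ, g ^ (j * p ^ k) = 1 := by
        intro j
        rw [mul_comm, pow_mul, hgk, one_pow]
      refine MCtx.false (p := p) (G := G)
        { hp2 := h.hp2
          a := (Nat.card G).factorization 2
          ha := hqa
          simple := h.simple
          star := h.star
          hab := hab
          hpG := h.hpG
          Q := Q
          hQcard := hQcard
          x := g
          hxN := hgN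
          k := k
          hxp := hgk
          hxtrans := ?_ }
      intro y' hy' hy'1 z hz hz1
      obtain ⟨j, hj⟩ := htrans hQ₀card y' hy' hy'1
      obtain ⟨i, hi⟩ := htrans hQ₀card z hz hz1
      refine ⟨i + j * (p ^ k - 1), ?_⟩
      have hpk : 1 ≤ p ^ k := Nat.one_le_pow _ _ h.hp.pos
      have e1 : g ^ (i + j * (p ^ k - 1)) * g ^ j = g ^ i := by
        rw [← pow_add]
        have : i + j * (p ^ k - 1) + j = i + j * p ^ k := by
          have : j * (p ^ k - 1) + j = j * p ^ k := by
            rw [← Nat.mul_succ]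
            congr 1
            omega
          omega
        rw [this, pow_add, hgpow, mul_one]
      rw [← hj, ← hi]
      calc g ^ (i + j * (p ^ k - 1)) * (g ^ j * y * (g ^ j)⁻¹) * (g ^ (i + j * (p ^ k - 1)))⁻¹
          = (g ^ (i + j * (p ^ k - 1)) * g ^ j) * y * (g ^ (i + j * (p ^ k - 1)) * g ^ j)⁻¹ := by
            group
        _ = g ^ i * y * (g ^ i)⁻¹ := by rw [e1]

end Cfsg.Agent.H2.TwoPr
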