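import Mathlib
import Cfsg.Agent.H2.TwoPrH
import Cfsg.Agent.H1.Card

/-!
# The two-prime theorem (S4017): reduction to the simple case. helper2
-/

set_option autoImplicit false
set_option linter.unusedSectionVars false
set_option linter.unusedVariables false

universe u

namespace Cfsg.Agent.H2.TwoPr

open Subgroup

/-- hypotheses of the two-prime theorem -/
structure Hyp (p q : ℕ) (G : Type u) [Group G] [Finite G] : Prop where
  hp : p.Prime
  hq : q.Prime
  hpq : p ≠ q
  hp2 : p ≠ 2
  hpG : p ∣ Nat.card G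
  hqG : q ∣ Nat.card G
  hmix : ∀ H : Subgroup G, H ≠ ⊤ → ¬ IsPGroup q H → q ∣ Nat.card H → p ∣ Nat.card H
  hlarge : q ^ (Nat.card G).factorization q - 1 < p ∨
    (p = q ^ (Nat.card G).factorization q - 1 ∧ ∀ P : Sylow p G, IsMulCommutative P)

variable {G : Type u} [Group G] [Finite G] {p q : ℕ}

theorem PQ.symm' {n : ℕ} (h : PQ p q n) : PQ q p n := fun r hr hrn => (h r hr hrn).symm

/-- the hypotheses pass to proper subgroups of order divisible by `p q` -/
theorem Hyp.subgroup (h : Hyp p q G) (H : Subgroup G) (hH : H ≠ ⊤) (hpH : p ∣ Nat.card H)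
    (hqH : q ∣ Nat.card H) : Hyp p q H := by
  haveI : Fact p.Prime := ⟨h.hp⟩
  refine ⟨h.hp, h.hq, h.hpq, h.hp2, hpH, hqH, ?_, ?_⟩
  · intro K hK hKq hqK
    have hcard : Nat.card (K.map H.subtype) = Nat.card K :=
      Nat.card_congr (K.equivMapOfInjective H.subtype H.subtype_injective).toEquiv.symm
    have h1 : K.map H.subtype ≠ ⊤ := by
      intro ht
      apply hH
      rw [eq_top_iff, ← ht]
      exact Subgroup.map_subtype_le K
    have h2 : ¬ IsPGroup q (K.map H.subtype) := by
      intro hpg
      exact hKq (hpg.of_equiv (K.equivMapOfInjective H.subtype H.subtype_injective).symm)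
    have := h.hmix _ h1 h2 (by rw [hcard]; exact hqK)
    rwa [hcard] at this
  · have hdvd : Nat.card H ∣ Nat.card G := Subgroup.card_subgroup_dvd_card H
    have hle : (Nat.card H).factorization q ≤ (Nat.card G).factorization q :=
      (Nat.factorization_le_iff_dvd Nat.card_pos.ne' Nat.card_pos.ne').2 hdvd q
    have hpow : q ^ (Nat.card H).factorization q ≤ q ^ (Nat.card G).factorization q :=
      Nat.pow_le_pow_right h.hq.pos hle
    rcases h.hlarge with hl | ⟨hl, hab⟩
    · left; omega
    · rcases Nat.eq_or_lt_of_le hle with he | hlt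
      · right
        refine ⟨by rw [he]; exact hl, ?_⟩
        intro P'
        obtain ⟨P, hP⟩ := (P'.isPGroup'.map H.subtype).exists_le_sylow
        have hc := hab P
        refine ⟨⟨fun a b => ?_⟩⟩
        have hamem : (H.subtype a.1) ∈ (P : Subgroup G) := hP ⟨a.1, a.2, rfl⟩
        have hbmem : (H.subtype b.1) ∈ (P : Subgroup G) := hP ⟨b.1, b.2, rfl⟩
        have h1 := hc.is_comm.comm ⟨_, hamem⟩ ⟨_, hbmem⟩
        have h2 := congrArg Subtype.val h1
        simp only [Subgroup.coe_mul, Subgroup.coe_subtype] at h2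
        apply Subtype.ext
        apply Subtype.ext
        simpa using h2
      · left
        have : q ^ (Nat.card H).factorization q < q ^ (Nat.card G).factorization q :=
          Nat.pow_lt_pow_right h.hq.one_lt hlt
        have hpos : 0 < q ^ (Nat.card H).factorization q := pow_pos h.hq.pos _
        omega

/-- The key consequence of the induction hypothesis. -/
theorem Hyp.star (h : Hyp p q G)
    (ih : ∀ (H : Type u) [Group H] [Finite H], Nat.card H < Nat.card G → Hyp p q H →
      PQ p q (Nat.card H))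
    (H : Subgroup G) (hH : H ≠ ⊤) (hqH : q ∣ Nat.card H) : PQ p q (Nat.card H) := by
  haveI : Fact q.Prime := ⟨h.hq⟩
  by_cases hpg : IsPGroup q H
  · obtain ⟨k, hk⟩ := IsPGroup.iff_card.1 hpg
    rw [hk]
    exact PQ.pow_right h.hq
  · have hpH := h.hmix H hH hpg hqH
    have hlt : Nat.card H < Nat.card G := by
      rcases lt_or_eq_of_le (Subgroup.card_le_card_group H) with h1 | h1
      · exact h1
      · exact absurd (Subgroup.card_eq_iff_eq_top H |>.mp h1) hH
    exact ih H hlt (h.subgroup H hH hpH hqH)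

section noncounter

variable (h : Hyp p q G)
  (hstar : ∀ H : Subgroup G, H ≠ ⊤ → q ∣ Nat.card H → PQ p q (Nat.card H))
  {r : ℕ} (hr : r.Prime) (hrG : r ∣ Nat.card G) (hrp : r ≠ p) (hrq : r ≠ q)

include h hstar hr hrG hrp hrq

/-- no subgroup is a product of a nontrivial `q`-group and a nontrivial `r`-group -/
theorem false_of_qr {A B : Subgroup G} (hAB : A ≤ normalizer (B : Set G))
    (hA : PQ q r (Nat.card A)) (hB : PQ q r (Nat.card B))
    (hqAB : q ∣ Nat.card A * Nat.card B) (hrAB : r ∣ Nat.card A * Nat.card B) : False := by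
  have hcard := Cfsg.Agent.H1.card_sup_mul_card_inf A B hAB
  have hdvd : Nat.card (A ⊔ B : Subgroup G) ∣ Nat.card A * Nat.card B :=
    Dvd.intro _ hcard
  have hPQ : PQ q r (Nat.card (A ⊔ B : Subgroup G)) := (hA.mul hB).of_dvd hdvd
  have hA' : Nat.card A ∣ Nat.card (A ⊔ B : Subgroup G) := Subgroup.card_dvd_of_le le_sup_left
  have hB' : Nat.card B ∣ Nat.card (A ⊔ B : Subgroup G) := Subgroup.card_dvd_of_le le_sup_right
  have hinf : Nat.card (A ⊓ B : Subgroup G) ∣ Nat.card A := Subgroup.card_dvd_of_le inf_le_left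
  have hntop : (A ⊔ B : Subgroup G) ≠ ⊤ := by
    intro ht
    have := h.hpG
    rw [← Subgroup.card_top (G := G), ← ht] at this
    rcases hPQ p h.hp this with h1 | h1
    · exact h.hpq h1
    · exact hrp h1.symm
  -- `q` and `r` divide the order of the join
  have hdiv : ∀ l : ℕ, l.Prime → l ∣ Nat.card A * Nat.card B →
      l ∣ Nat.card (A ⊔ B : Subgroup G) := by
    intro l hl hlAB
    rcases (Nat.Prime.dvd_mul hl).1 hlAB with h1 | h1
    · exact h1.trans hA'
    · exact h1.trans hB'
  have hq' := hdiv q h.hq hqAB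
  have hr' := hdiv r hr hrAB
  rcases hstar _ hntop hq' r hr hr' with h1 | h1
  · exact hrp h1
  · exact hrq h1

/-- `O_q(G) = 1` and there is no nontrivial normal `r`-subgroup -/
theorem normal_q_eq_bot {N : Subgroup G} (hN : N.Normal) (hNq : IsPGroup q N) : N = ⊥ := by
  haveI : Fact q.Prime := ⟨h.hq⟩
  haveI : Fact r.Prime := ⟨hr⟩
  by_contra hne
  obtain ⟨R⟩ : Nonempty (Sylow r G) := inferInstance
  obtain ⟨i, hi⟩ := IsPGroup.iff_card.1 hNq
  have hRcard : Nat.card (R : Subgroup G) = r ^ (Nat.card G).factorization r :=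
    R.card_eq_multiplicity
  have hqN : q ∣ Nat.card N := by
    rcases Nat.eq_zero_or_pos i with h0 | h0
    · exfalso
      rw [h0, pow_zero] at hi
      exact hne (Subgroup.eq_bot_of_card_eq _ hi)
    · rw [hi]; exact dvd_pow_self q (by omega)
  have hrR : r ∣ Nat.card (R : Subgroup G) := by
    rw [hRcard]
    exact dvd_pow_self r
      (by have := (Nat.Prime.dvd_iff_one_le_factorization hr Nat.card_pos.ne').1 hrG; omega)
  apply false_of_qr h hstar hr hrG hrp hrq (A := (R : Subgroup G)) (B := N)
  · rw [normalizer_eq_top_iff.2 hN]; exact le_top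
  · rw [hRcard]; exact PQ.pow_right hr
  · rw [hi]; exact PQ.pow_left h.hq
  · exact Dvd.dvd.mul_left hqN _
  · exact Dvd.dvd.mul_right hrR _

theorem normal_r_eq_bot {N : Subgroup G} (hN : N.Normal) (hNr : IsPGroup r N) : N = ⊥ := by
  haveI : Fact q.Prime := ⟨h.hq⟩
  haveI : Fact r.Prime := ⟨hr⟩
  by_contra hne
  obtain ⟨Q⟩ : Nonempty (Sylow q G) := inferInstance
  obtain ⟨i, hi⟩ := IsPGroup.iff_card.1 hNr
  have hQcard : Nat.card (Q : Subgroup G) = q ^ (Nat.card G).factorization q :=
    Q.card_eq_multiplicity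
  have hrN : r ∣ Nat.card N := by
    rcases Nat.eq_zero_or_pos i with h0 | h0
    · exfalso
      rw [h0, pow_zero] at hi
      exact hne (Subgroup.eq_bot_of_card_eq _ hi)
    · rw [hi]; exact dvd_pow_self r (by omega)
  have hqQ : q ∣ Nat.card (Q : Subgroup G) := by
    rw [hQcard]
    exact dvd_pow_self q
      (by have := (Nat.Prime.dvd_iff_one_le_factorization h.hq Nat.card_pos.ne').1 h.hqG; omega)
  apply false_of_qr h hstar hr hrG hrp hrq (A := (Q : Subgroup G)) (B := N)
  · rw [normalizer_eq_top_iff.2 hN]; exact le_top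
  · rw [hQcard]; exact PQ.pow_left h.hq
  · rw [hi]; exact PQ.pow_right hr
  · exact Dvd.dvd.mul_right hqQ _
  · exact Dvd.dvd.mul_left hrN _

/-- the order of `G` divides `|M| |N|` when `M N = G` -/
theorem card_dvd_of_sup_eq_top {M N : Subgroup G} (hN : N.Normal) (hsup : M ⊔ N = ⊤) :
    Nat.card G ∣ Nat.card M * Nat.card N := by
  have hcard := Cfsg.Agent.H1.card_sup_mul_card_inf M N
    (by rw [normalizer_eq_top_iff.2 hN]; exact le_top)
  rw [hsup, Subgroup.card_top] at hcard
  exact Dvd.intro _ hcard

/-- proper normal subgroups have order prime to `q` -/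
theorem normal_not_dvd {N : Subgroup G} (hN : N.Normal) (hNtop : N ≠ ⊤) : ¬ q ∣ Nat.card N := by
  haveI : Fact q.Prime := ⟨h.hq⟩
  haveI := hN
  intro hqN
  have hNPQ := hstar N hNtop hqN
  obtain ⟨Q₀⟩ : Nonempty (Sylow q N) := inferInstance
  have hfr := Sylow.normalizer_sup_eq_top Q₀
  obtain ⟨Q₁, hQ₁⟩ : ∃ Q₁ : Subgroup G, Q₁ = (Q₀ : Subgroup N).map N.subtype := ⟨_, rfl⟩
  rw [← hQ₁] at hfr
  have hQ₁pg : IsPGroup q Q₁ := by rw [hQ₁]; exact Q₀.isPGroup'.map _
  have hQ₁card : Nat.card Q₁ = Nat.card (Q₀ : Subgroup N) := by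
    rw [hQ₁]
    exact Nat.card_congr
      ((Q₀ : Subgroup N).equivMapOfInjective N.subtype N.subtype_injective).toEquiv.symm
  have hqQ₁ : q ∣ Nat.card Q₁ := by
    rw [hQ₁card, Q₀.card_eq_multiplicity]
    exact dvd_pow_self q
      (by have := (Nat.Prime.dvd_iff_one_le_factorization h.hq Nat.card_pos.ne').1 hqN; omega)
  have hQ₁ne : Q₁ ≠ ⊥ := by
    intro hb
    rw [hb, Subgroup.card_bot] at hqQ₁
    exact h.hq.one_lt.ne' (Nat.dvd_one.1 hqQ₁)
  by_cases hM : normalizer (Q₁ : Set G) = ⊤
  · exact hQ₁ne (normal_q_eq_bot h hstar hr hrG hrp hrq (normalizer_eq_top_iff.1 hM) hQ₁pg)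
  · have hqM : q ∣ Nat.card (normalizer (Q₁ : Set G)) :=
      hqQ₁.trans (Subgroup.card_dvd_of_le le_normalizer)
    have hMPQ := hstar _ hM hqM
    have hdvd := card_dvd_of_sup_eq_top h hstar hr hrG hrp hrq hN hfr
    rcases (hMPQ.mul hNPQ) r hr (hrG.trans hdvd) with h1 | h1
    · exact hrp h1
    · exact hrq h1

/-- proper nontrivial normal subgroups are `p`-groups -/
theorem normal_isPGroup {N : Subgroup G} (hN : N.Normal) (hNbot : N ≠ ⊥) (hNtop : N ≠ ⊤) :
    IsPGroup p N := by
  haveI : Fact p.Prime := ⟨h.hp⟩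
  haveI : Fact q.Prime := ⟨h.hq⟩
  haveI : Fact r.Prime := ⟨hr⟩
  haveI := hN
  have hqN := normal_not_dvd h hstar hr hrG hrp hrq hN hNtop
  obtain ⟨Q⟩ : Nonempty (Sylow q G) := inferInstance
  have hQcard : Nat.card (Q : Subgroup G) = q ^ (Nat.card G).factorization q :=
    Q.card_eq_multiplicity
  have hqQ : q ∣ Nat.card (Q : Subgroup G) := by
    rw [hQcard]
    exact dvd_pow_self q
      (by have := (Nat.Prime.dvd_iff_one_le_factorization h.hq Nat.card_pos.ne').1 h.hqG; omega)
  by_cases hK : (Q : Subgroup G) ⊔ N = ⊤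
  · exfalso
    have hdvd := card_dvd_of_sup_eq_top h hstar hr hrG hrp hrq hN hK
    have hrN : r ∣ Nat.card N := by
      have h1 := hrG.trans hdvd
      rcases (Nat.Prime.dvd_mul hr).1 h1 with h2 | h2
      · rw [hQcard] at h2
        exact absurd ((Nat.prime_dvd_prime_iff_eq hr h.hq).1 (hr.dvd_of_dvd_pow h2)) hrq
      · exact h2
    obtain ⟨R₀⟩ : Nonempty (Sylow r N) := inferInstance
    have hfr := Sylow.normalizer_sup_eq_top R₀
    obtain ⟨R₁, hR₁⟩ : ∃ R₁ : Subgroup G, R₁ = (R₀ : Subgroup N).map N.subtype := ⟨_, rfl⟩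
    rw [← hR₁] at hfr
    have hR₁pg : IsPGroup r R₁ := by rw [hR₁]; exact R₀.isPGroup'.map _
    have hR₁card : Nat.card R₁ = Nat.card (R₀ : Subgroup N) := by
      rw [hR₁]
      exact Nat.card_congr
        ((R₀ : Subgroup N).equivMapOfInjective N.subtype N.subtype_injective).toEquiv.symm
    have hrR₁ : r ∣ Nat.card R₁ := by
      rw [hR₁card, R₀.card_eq_multiplicity]
      exact dvd_pow_self r
        (by have := (Nat.Prime.dvd_iff_one_le_factorization hr Nat.card_pos.ne').1 hrN; omega)
    have hR₁ne : R₁ ≠ ⊥ := by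
      intro hb
      rw [hb, Subgroup.card_bot] at hrR₁
      exact hr.one_lt.ne' (Nat.dvd_one.1 hrR₁)
    by_cases hM : normalizer (R₁ : Set G) = ⊤
    · exact hR₁ne (normal_r_eq_bot h hstar hr hrG hrp hrq (normalizer_eq_top_iff.1 hM) hR₁pg)
    · have hdvd2 := card_dvd_of_sup_eq_top h hstar hr hrG hrp hrq hN hfr
      have hqM : q ∣ Nat.card (normalizer (R₁ : Set G)) := by
        rcases (Nat.Prime.dvd_mul h.hq).1 (h.hqG.trans hdvd2) with h2 | h2
        · exact h2
        · exact absurd h2 hqN
      have hMPQ := hstar _ hM hqM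
      have hrM : r ∣ Nat.card (normalizer (R₁ : Set G)) :=
        hrR₁.trans (Subgroup.card_dvd_of_le le_normalizer)
      rcases hMPQ r hr hrM with h1 | h1
      · exact hrp h1
      · exact hrq h1
  · have hqK : q ∣ Nat.card ((Q : Subgroup G) ⊔ N : Subgroup G) :=
      hqQ.trans (Subgroup.card_dvd_of_le le_sup_left)
    have hKPQ := hstar _ hK hqK
    have hNPQ : PQ p q (Nat.card N) := hKPQ.of_dvd (Subgroup.card_dvd_of_le le_sup_right)
    obtain ⟨k, hk⟩ := PQ.eq_pow Nat.card_pos.ne' hNPQ hqN
    exact IsPGroup.of_card hk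

end noncounter

/-- The two-prime theorem, by induction on the order. -/
theorem main : ∀ n : ℕ, ∀ (G : Type u) [Group G] [Finite G], Nat.card G = n →
    ∀ {p q : ℕ}, Hyp p q G → PQ p q (Nat.card G) := by
  intro n
  induction n using Nat.strong_induction_on with
  | _ n ih =>
    intro G _ _ hn p q h
    have ih' : ∀ (H : Type u) [Group H] [Finite H], Nat.card H < Nat.card G → Hyp p q H →
        PQ p q (Nat.card H) := by
      intro H _ _ hlt hH
      exact ih (Nat.card H) (by rw [← hn]; exact hlt) H rfl hH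
    have hstar := h.star ih'
    intro r hr hrG
    by_contra hcon
    push Not at hcon
    obtain ⟨hrp, hrq⟩ := hcon
    haveI : Fact p.Prime := ⟨h.hp⟩
    haveI : Fact q.Prime := ⟨h.hq⟩
    -- no proper nontrivial normal subgroups
    have hsimple : ∀ N : Subgroup G, N.Normal → N = ⊥ ∨ N = ⊤ := by
      intro N hN
      by_contra hcon
      push Not at hcon
      obtain ⟨hNbot, hNtop⟩ := hcon
      haveI := hN
      have hNp := normal_isPGroup h hstar hr hrG hrp hrq hN hNbot hNtop
      obtain ⟨k, hk⟩ := IsPGroup.iff_card.1 hNp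
      have hcardG : Nat.card G = Nat.card (G ⧸ N) * Nat.card N :=
        Subgroup.card_eq_card_quotient_mul_card_subgroup N
      have hqN : ¬ q ∣ Nat.card N := by
        rw [hk]
        intro hd
        exact h.hpq ((Nat.prime_dvd_prime_iff_eq h.hq h.hp).1 (h.hq.dvd_of_dvd_pow hd)).symm
      have hrN : ¬ r ∣ Nat.card N := by
        rw [hk]
        intro hd
        exact hrp ((Nat.prime_dvd_prime_iff_eq hr h.hp).1 (hr.dvd_of_dvd_pow hd))
      have hqQ : q ∣ Nat.card (G ⧸ N) := by
        have := h.hqG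
        rw [hcardG] at this
        rcases (Nat.Prime.dvd_mul h.hq).1 this with h1 | h1
        · exact h1
        · exact absurd h1 hqN
      have hrQ : r ∣ Nat.card (G ⧸ N) := by
        have := hrG
        rw [hcardG] at this
        rcases (Nat.Prime.dvd_mul hr).1 this with h1 | h1
        · exact h1
        · exact absurd h1 hrN
      have hNpos : 1 < Nat.card N := by
        rcases Nat.lt_or_ge 1 (Nat.card N) with h1 | h1
        · exact h1
        · exfalso
          have : Nat.card N = 1 := le_antisymm h1 Nat.card_pos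
          exact hNbot (Subgroup.eq_bot_of_card_eq _ this)
      have hlt : Nat.card (G ⧸ N) < Nat.card G := by
        rw [hcardG]
        have hpos : 0 < Nat.card (G ⧸ N) := Nat.card_pos
        nlinarith
      -- `p` divides the order of the quotient
      have hpQ : p ∣ Nat.card (G ⧸ N) := by
        by_contra hpn
        have hcop : (Nat.card N).Coprime N.index := by
          rw [hk, Subgroup.index_eq_card]
          exact Nat.Coprime.pow_left _ ((Nat.Prime.coprime_iff_not_dvd h.hp).2 hpn)
        obtain ⟨K, hK⟩ := Subgroup.exists_left_complement'_of_coprime hcop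
        have hKcard := hK.card_mul_card
        have hKeq : Nat.card K = Nat.card (G ⧸ N) := by
          rw [hcardG] at hKcard
          exact Nat.eq_of_mul_eq_mul_right Nat.card_pos hKcard
        have hKtop : K ≠ ⊤ := by
          intro ht
          rw [ht, Subgroup.card_top] at hKeq
          omega
        have hKPQ := hstar K hKtop (by rw [hKeq]; exact hqQ)
        rcases hKPQ r hr (by rw [hKeq]; exact hrQ) with h1 | h1
        · exact hrp h1
        · exact hrq h1
      -- the hypotheses for the quotient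
      have hfact : (Nat.card (G ⧸ N)).factorization q = (Nat.card G).factorization q := by
        rw [hcardG, Nat.factorization_mul Nat.card_pos.ne' Nat.card_pos.ne', hk,
          Nat.Prime.factorization_pow h.hp]
        simp [h.hpq]
      have hHypQ : Hyp p q (G ⧸ N) := by
        refine ⟨h.hp, h.hq, h.hpq, h.hp2, hpQ, hqQ, ?_, ?_⟩
        · intro Hb hHb hHbq hqHb
          obtain ⟨H, hHdef⟩ : ∃ H : Subgroup G, H = Hb.comap (QuotientGroup.mk' N) := ⟨_, rfl⟩
          have hidx : H.index = Hb.index := by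
            rw [hHdef]
            exact Subgroup.index_comap_of_surjective _ (QuotientGroup.mk'_surjective N)
          have hHtop : H ≠ ⊤ := by
            intro ht
            apply hHb
            rw [← Subgroup.index_eq_one, ← hidx, ht, Subgroup.index_top]
          have hcardH : Nat.card H = Nat.card N * Nat.card Hb := by
            have e1 := H.card_mul_index
            have e2 := Hb.card_mul_index
            rw [hidx] at e1
            have hipos : 0 < Hb.index := Nat.pos_of_ne_zero Subgroup.index_ne_zero_of_finite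
            have : Nat.card H * Hb.index = Nat.card N * Nat.card Hb * Hb.index := by
              rw [e1, hcardG, ← e2]; ring
            exact Nat.eq_of_mul_eq_mul_right hipos this
          have hqH : q ∣ Nat.card H := by rw [hcardH]; exact Dvd.dvd.mul_left hqHb _
          have hHPQ := hstar H hHtop hqH
          have hHbPQ : PQ p q (Nat.card Hb) := hHPQ.of_dvd (by rw [hcardH]; exact Dvd.intro_left _ rfl)
          by_contra hpHb
          obtain ⟨j, hj⟩ := PQ.eq_pow Nat.card_pos.ne' hHbPQ.symm' hpHb
          exact hHbq (IsPGroup.of_card hj)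
        · rw [hfact]
          rcases h.hlarge with hl | ⟨hl, hab⟩
          · left; exact hl
          · right
            refine ⟨hl, ?_⟩
            intro Pb
            obtain ⟨P, hP⟩ := Sylow.mapSurjective_surjective (QuotientGroup.mk'_surjective N) p Pb
            have hc := hab P
            have hcoe : (Pb : Subgroup (G ⧸ N)) = (P : Subgroup G).map (QuotientGroup.mk' N) := by
              rw [← hP]
              exact Sylow.coe_mapSurjective _ P
            refine ⟨⟨fun a b => ?_⟩⟩
            have ha : (a : G ⧸ N) ∈ (P : Subgroup G).map (QuotientGroup.mk' N) := hcoe ▸ a.2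
            have hb : (b : G ⧸ N) ∈ (P : Subgroup G).map (QuotientGroup.mk' N) := hcoe ▸ b.2
            obtain ⟨a', ha', hae⟩ := ha
            obtain ⟨b', hb', hbe⟩ := hb
            have h1 := hc.is_comm.comm ⟨a', ha'⟩ ⟨b', hb'⟩
            have h2 : a' * b' = b' * a' := congrArg Subtype.val h1
            apply Subtype.ext
            rw [Subgroup.coe_mul, Subgroup.coe_mul, ← hae, ← hbe, ← map_mul, ← map_mul, h2]
      have hQPQ := ih' (G ⧸ N) hlt hHypQ
      rcases hQPQ r hr hrQ with h1 | h1
      · exact hrp h1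
      · exact hrq h1
    -- `G` is simple
    haveI : Nontrivial G := by
      rw [← Finite.one_lt_card_iff_nontrivial]
      have := Nat.le_of_dvd Nat.card_pos h.hpG
      have := h.hp.two_le
      omega
    have hsimp : IsSimpleGroup G := IsSimpleGroup.mk hsimple
    exact SCtx.false (p := p) (q := q) (G := G)
      ⟨h.hp, h.hq, h.hpq, h.hp2, h.hpG, h.hqG, hsimp, hstar, h.hlarge⟩

end Cfsg.Agent.H2.TwoPr
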