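import Mathlib
import Cfsg.Prelude.Def_LinearParabolics
import Cfsg.Agent.H2.ParabolicCount

namespace Cfsg.Agent.H2.UnipotentDegree

open Finset Cfsg.Agent.H2.ParabolicCount

/-- q-integer -/
def qn (q r : ℕ) : ℕ := ∑ l ∈ range r, q ^ l

theorem qn_zero (q : ℕ) : qn q 0 = 0 := by simp [qn]

theorem qn_add (q t s : ℕ) : qn q (t + s) = qn q t + q ^ t * qn q s := by
  unfold qn
  rw [sum_range_add, mul_sum]
  congr 1
  exact sum_congr rfl fun x _ => pow_add q t x

theorem qfact_eq_prod (q m : ℕ) : qfact q m = ∏ j ∈ range m, qn q (j + 1) := rfl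

/-- falling q-factorial -/
def fall (q lam k : ℕ) : ℕ := ∏ t ∈ range k, qn q (lam - t)

theorem qfact_eq (q lam : ℕ) : ∀ k, k ≤ lam → qfact q lam = qfact q (lam - k) * fall q lam k := by
  intro k
  induction k with
  | zero => intro _; simp [fall]
  | succ k ih =>
    intro hk
    rw [ih (by omega)]
    have h1 : lam - k = (lam - (k + 1)) + 1 := by omega
    have h2 : qfact q (lam - k) = qfact q (lam - (k + 1)) * qn q (lam - k) := by
      rw [h1, qfact_eq_prod, prod_range_succ, ← qfact_eq_prod, ← h1]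
    rw [h2]
    unfold fall
    rw [prod_range_succ]
    ring

theorem fall_eq_zero (q lam k : ℕ) (h : lam < k) : fall q lam k = 0 := by
  unfold fall
  apply prod_eq_zero (mem_range.mpr h)
  rw [Nat.sub_self, qn_zero]

theorem fall_cast (q lam k : ℕ) :
    (fall q lam k : ℂ) * (q : ℂ) ^ (∑ t ∈ range k, t) =
      ∏ t ∈ range k, ((qn q lam : ℂ) - (qn q t : ℂ)) := by
  by_cases h : lam < k
  · rw [fall_eq_zero q lam k h, Nat.cast_zero, zero_mul]
    symm
    apply prod_eq_zero (mem_range.mpr h)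
    rw [sub_self]
  · unfold fall
    rw [← prod_pow_eq_pow_sum, Nat.cast_prod, ← prod_mul_distrib]
    refine prod_congr rfl fun t ht => ?_
    have ht' : t < k := mem_range.mp ht
    have h1 := qn_add q t (lam - t)
    have h2 : t + (lam - t) = lam := by omega
    rw [h2] at h1
    rw [h1]
    push_cast
    ring

theorem sum_sum_range (n : ℕ) : ∑ j ∈ range n, ∑ t ∈ range j, t = n * (n - 1) * (n - 2) / 6 := by
  have h : ∀ n, 6 * ∑ j ∈ range n, ∑ t ∈ range j, t = n * (n - 1) * (n - 2) := by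
    intro n
    induction n with
    | zero => simp
    | succ n ih =>
      rw [sum_range_succ, mul_add, ih]
      have h1 := sum_range_id_mul_two n
      cases n with
      | zero => simp
      | succ m =>
        cases m with
        | zero => simp
        | succ m =>
          simp only [Nat.add_sub_cancel] at h1 ⊢
          have h2 : m + 1 + 1 + 1 - 2 = m + 1 := by omega
          have h3 : m + 1 + 1 - 2 = m := by omega
          rw [h2, h3]
          have h4 : 6 * ∑ t ∈ range (m + 1 + 1), t = 3 * ((m + 1 + 1) * (m + 1)) := by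
            rw [← h1]; ring
          rw [h4]
          ring
  rw [← h n, Nat.mul_div_cancel_left _ (by norm_num : 0 < 6)]

section Det

open Polynomial

/-- the monic polynomial `∏_{t<j} (X - Q(t))` -/
noncomputable def pj (q : ℕ) (j : ℕ) : ℂ[X] := ∏ t ∈ range j, (X - C (qn q t : ℂ))

theorem pj_monic (q j : ℕ) : (pj q j).Monic :=
  monic_prod_of_monic _ _ fun t _ => monic_X_sub_C _

theorem pj_natDegree (q j : ℕ) : (pj q j).natDegree = j := by
  unfold pj
  rw [natDegree_prod_of_monic _ _ fun _ _ => monic_X_sub_C _]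
  simp only [natDegree_X_sub_C, sum_const, card_range, smul_eq_mul, mul_one]

theorem pj_eval (q j : ℕ) (x : ℂ) : (pj q j).eval x = ∏ t ∈ range j, (x - (qn q t : ℂ)) := by
  unfold pj
  rw [eval_prod]
  simp

theorem det_formula (q : ℕ) {n : ℕ} (x : Fin n → ℂ) :
    ∑ κ : Equiv.Perm (Fin n), ((Equiv.Perm.sign κ : ℤ) : ℂ) *
        ∏ i : Fin n, ∏ t ∈ range (κ i).val, (x i - (qn q t : ℂ)) =
      ∏ i : Fin n, ∏ j ∈ Finset.univ.filter (fun j : Fin n => i < j), (x j - x i) := by
  have h1 := Matrix.det_eval_matrixOfPolynomials_eq_det_vandermonde x (fun j : Fin n => pj q j.val)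
    (fun i => pj_natDegree q i.val) (fun i => pj_monic q i.val)
  rw [Matrix.det_vandermonde] at h1
  have h2 : ∀ i : Fin n, Finset.Ioi i = Finset.univ.filter (fun j : Fin n => i < j) := by
    intro i
    ext j
    simp
  have h3 : ∏ i : Fin n, ∏ j ∈ Finset.univ.filter (fun j : Fin n => i < j), (x j - x i) =
      ∏ i : Fin n, ∏ j ∈ Finset.Ioi i, (x j - x i) :=
    Finset.prod_congr rfl fun i _ => by rw [h2 i]
  rw [h3, h1, ← Matrix.det_transpose, Matrix.det_apply']
  refine Finset.sum_congr rfl fun κ _ => ?_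
  congr 1
  refine Finset.prod_congr rfl fun i _ => ?_
  rw [Matrix.transpose_apply, Matrix.of_apply, pj_eval]

end Det

section Main

open scoped MatrixGroups

variable {F : Type*} [Field F] [Fintype F]

theorem fixedPointCharacter_one {G : Type*} [Group G] (H : Subgroup G) :
    Cfsg.fixedPointCharacter H 1 = (Nat.card (G ⧸ H) : ℂ) := by
  unfold Cfsg.fixedPointCharacter
  rw [MulAction.fixedBy_one_eq_univ]
  congr 1
  exact Nat.card_congr (Equiv.Set.univ _)

theorem sum_lam_sub {n : ℕ} (ν : Fin n → ℕ) (hsum : ∑ i, ν i = n) (κ : Equiv.Perm (Fin n))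
    (hκ : ∀ i, (κ i).val ≤ ν i + i.val) : ∑ i, (ν i + i.val - (κ i).val) = n := by
  have h1 : ∑ i, (ν i + i.val - (κ i).val) + ∑ i, (κ i).val = ∑ i, (ν i + i.val) := by
    rw [← sum_add_distrib]
    exact sum_congr rfl fun i _ => Nat.sub_add_cancel (hκ i)
  have h2 : ∑ i, (κ i).val = ∑ i : Fin n, i.val := Equiv.sum_comp κ (fun i => i.val)
  rw [sum_add_distrib, hsum, h2] at h1
  omega

theorem term_mul {q : ℕ} (hq : Fintype.card F = q) {n : ℕ} (ν : Fin n → ℕ)
    (hsum : ∑ i, ν i = n) (κ : Equiv.Perm (Fin n)) :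
    (if ∀ i : Fin n, (κ i).val ≤ ν i + i.val then
      ((Equiv.Perm.sign κ : ℤ) : ℂ) * Cfsg.fixedPointCharacter
        (Cfsg.parabolicGL n F fun i => ν i + i.val - (κ i).val) 1 else 0) *
      ∏ i : Fin n, (qfact q (ν i + i.val) : ℂ) =
    ((Equiv.Perm.sign κ : ℤ) : ℂ) * (qfact q n : ℂ) *
      ∏ i : Fin n, (fall q (ν i + i.val) (κ i).val : ℂ) := by
  by_cases h : ∀ i : Fin n, (κ i).val ≤ ν i + i.val
  · rw [if_pos h, fixedPointCharacter_one]
    have h1 := Cfsg.Agent.H2.ParabolicCount.main (F := F) hq (fun i => ν i + i.val - (κ i).val)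
      (sum_lam_sub ν hsum κ h)
    have h2 : ∏ i : Fin n, qfact q (ν i + i.val) =
        (∏ i : Fin n, qfact q (ν i + i.val - (κ i).val)) *
          ∏ i : Fin n, fall q (ν i + i.val) (κ i).val := by
      rw [← prod_mul_distrib]
      exact prod_congr rfl fun i _ => qfact_eq q _ _ (h i)
    have h3 : Nat.card (GL (Fin n) F ⧸ Cfsg.parabolicGL n F fun i => ν i + i.val - (κ i).val) *
        ∏ i : Fin n, qfact q (ν i + i.val) =
        qfact q n * ∏ i : Fin n, fall q (ν i + i.val) (κ i).val := by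
      rw [h2, ← mul_assoc]
      congr 1
    have h4 := congrArg (Nat.cast : ℕ → ℂ) h3
    push_cast at h4
    rw [mul_assoc, h4]
    ring
  · rw [if_neg h, zero_mul]
    rw [not_forall] at h
    obtain ⟨i, hi'⟩ := h
    have hi := not_le.mp hi'
    have : (fall q (ν i + i.val) (κ i).val : ℂ) = 0 := by
      rw [fall_eq_zero _ _ _ hi, Nat.cast_zero]
    rw [prod_eq_zero (mem_univ i) this, mul_zero]

theorem main {q : ℕ} (hq : Fintype.card F = q) {n : ℕ} (ν : Fin n → ℕ) (hsum : ∑ i, ν i = n) :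
    Cfsg.unipotentCharacterGL n F ν 1 * (q : ℂ) ^ (n * (n - 1) * (n - 2) / 6) *
        ∏ i : Fin n, ∏ j ∈ Finset.range (ν i + i.val),
          ((∑ l ∈ Finset.range (j + 1), q ^ l : ℕ) : ℂ) =
      (∏ j ∈ Finset.range n, ((∑ l ∈ Finset.range (j + 1), q ^ l : ℕ) : ℂ)) *
        ∏ i : Fin n, ∏ j ∈ Finset.univ.filter (fun j : Fin n => i < j),
          (((∑ l ∈ Finset.range (ν j + j.val), q ^ l : ℕ) : ℂ) -
            ((∑ l ∈ Finset.range (ν i + i.val), q ^ l : ℕ) : ℂ)) := by
  have hA : ∏ i : Fin n, ∏ j ∈ Finset.range (ν i + i.val),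
      ((∑ l ∈ Finset.range (j + 1), q ^ l : ℕ) : ℂ) =
      ∏ i : Fin n, (qfact q (ν i + i.val) : ℂ) := by
    refine prod_congr rfl fun i _ => ?_
    rw [qfact, Nat.cast_prod]
  have hB : (∏ j ∈ Finset.range n, ((∑ l ∈ Finset.range (j + 1), q ^ l : ℕ) : ℂ)) =
      (qfact q n : ℂ) := by
    rw [qfact, Nat.cast_prod]
  rw [hA, hB, ← sum_sum_range n]
  have hdet := det_formula q (fun i : Fin n => (qn q (ν i + i.val) : ℂ))
  have hR : ∏ i : Fin n, ∏ j ∈ Finset.univ.filter (fun j : Fin n => i < j),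
      (((∑ l ∈ Finset.range (ν j + j.val), q ^ l : ℕ) : ℂ) -
        ((∑ l ∈ Finset.range (ν i + i.val), q ^ l : ℕ) : ℂ)) =
      ∏ i : Fin n, ∏ j ∈ Finset.univ.filter (fun j : Fin n => i < j),
        ((qn q (ν j + j.val) : ℂ) - (qn q (ν i + i.val) : ℂ)) := rfl
  rw [hR, ← hdet]
  unfold Cfsg.unipotentCharacterGL
  rw [mul_assoc, mul_comm ((q : ℂ) ^ _), ← mul_assoc, sum_mul,
    sum_congr rfl (fun κ _ => term_mul (F := F) hq ν hsum κ), sum_mul, mul_sum]
  refine sum_congr rfl fun κ _ => ?_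
  have hE : ∑ j ∈ range n, ∑ t ∈ range j, t = ∑ i : Fin n, ∑ t ∈ range (κ i).val, t := by
    rw [← Fin.sum_univ_eq_sum_range (fun j => ∑ t ∈ range j, t) n]
    exact (Equiv.sum_comp κ (fun i : Fin n => ∑ t ∈ range i.val, t)).symm
  rw [hE, ← prod_pow_eq_pow_sum, mul_assoc, ← prod_mul_distrib,
    prod_congr rfl (fun i _ => fall_cast q (ν i + i.val) (κ i).val)]
  ring

end Main

end Cfsg.Agent.H2.UnipotentDegree
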