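import Cfsg.Agent.H2.V4cA1

set_option autoImplicit false
set_option maxHeartbeats 800000

namespace Cfsg.Agent.H2.V4c

open Finset

variable {G : Type*} [Group G]

theorem orderOf_conj' (g z : G) : orderOf (g * z * g⁻¹) = orderOf z := by
  have := (MulAut.conj g).orderOf_eq z
  rwa [MulAut.conj_apply] at this

/-- The number of involutions. -/
noncomputable def numInv (G : Type*) [Group G] : ℕ := Nat.card {t : G // orderOf t = 2}

theorem card_eq_four_mul [Finite G] (h : HypA G) (x : G) (hx : orderOf x = 2) :
    Nat.card G = 4 * numInv G := by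
  classical
  have : Fintype G := Fintype.ofFinite G
  set I : Finset G := univ.filter (fun t => orderOf t = 2) with hI
  have hm : numInv G = I.card := by
    rw [numInv, Nat.card_eq_fintype_card, Fintype.card_subtype]
  have h1 : (univ : Finset G).card = ∑ t ∈ I, (univ.filter (fun g => g * x * g⁻¹ = t)).card := by
    apply card_eq_sum_card_fiberwise
    intro g _
    apply Finset.mem_coe.mpr
    simp only [hI, mem_filter, mem_univ, true_and]
    rw [orderOf_conj', hx]
  have h2 : ∀ t ∈ I, (univ.filter (fun g => g * x * g⁻¹ = t)).card = 4 := by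
    intro t ht
    simp only [hI, mem_filter, mem_univ, true_and] at ht
    obtain ⟨g₀, rfl⟩ := h.conj x t hx ht
    have h3 : univ.filter (fun g => g * x * g⁻¹ = g₀ * x * g₀⁻¹) =
        (univ.filter (fun c => c ∈ Subgroup.centralizer ({x} : Set G))).image (fun c => g₀ * c) := by
      ext g
      simp only [mem_filter, mem_univ, true_and, mem_image]
      constructor
      · intro hg
        refine ⟨g₀⁻¹ * g, ?_, by group⟩
        rw [mem_centralizer_singleton]
        calc x * (g₀⁻¹ * g) = g₀⁻¹ * (g₀ * x * g₀⁻¹) * g := by group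
          _ = g₀⁻¹ * (g * x * g⁻¹) * g := by rw [hg]
          _ = g₀⁻¹ * g * x := by group
      · rintro ⟨c, hc, rfl⟩
        rw [mem_centralizer_singleton] at hc
        calc g₀ * c * x * (g₀ * c)⁻¹ = g₀ * (c * x) * c⁻¹ * g₀⁻¹ := by group
          _ = g₀ * (x * c) * c⁻¹ * g₀⁻¹ := by rw [hc]
          _ = g₀ * x * g₀⁻¹ := by group
    rw [h3, card_image_of_injective _ (mul_right_injective g₀)]
    have := h.card x hx
    rw [Nat.card_eq_fintype_card, Fintype.card_subtype] at this
    exact this
  rw [sum_congr rfl h2, sum_const, smul_eq_mul, card_univ] at h1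
  rw [Nat.card_eq_fintype_card, h1, hm]; ring

theorem orderOf_eq_two_of_sq {t : G} (h1 : t ≠ 1) (h2 : t ^ 2 = 1) : orderOf t = 2 := by
  have hd := orderOf_dvd_of_pow_eq_one h2
  have hle := Nat.le_of_dvd (by norm_num) hd
  have hne1 : orderOf t ≠ 1 := by rw [Ne, orderOf_eq_one_iff]; exact h1
  have hne0 : orderOf t ≠ 0 := by
    intro h; rw [h] at hd; simp at hd
  omega

/-- Involutions outside `C(x)`. -/
def InvOutside (x : G) : Type _ :=
  {t : G // orderOf t = 2 ∧ t ∉ Subgroup.centralizer ({x} : Set G)}

instance invOutsideAction (x : G) :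
    MulAction ↥(Subgroup.centralizer ({x} : Set G)) (InvOutside x) where
  smul v t := ⟨v.1 * t.1 * v.1⁻¹, by rw [orderOf_conj']; exact t.2.1, fun h => t.2.2 (by
    have := Subgroup.mul_mem _ (Subgroup.mul_mem _ (Subgroup.inv_mem _ v.2) h) v.2
    have e : v.1⁻¹ * (v.1 * t.1 * v.1⁻¹) * v.1 = t.1 := by group
    rwa [e] at this)⟩
  one_smul t := Subtype.ext (by
    change (1 : G) * t.1 * (1 : G)⁻¹ = t.1
    group)
  mul_smul a b t := Subtype.ext (by
    change (a.1 * b.1) * t.1 * (a.1 * b.1)⁻¹ = a.1 * (b.1 * t.1 * b.1⁻¹) * a.1⁻¹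
    group)

theorem invOutside_smul_val (x : G) (v : ↥(Subgroup.centralizer ({x} : Set G)))
    (t : InvOutside x) : (v • t).1 = v.1 * t.1 * v.1⁻¹ := rfl

theorem invOutside_free [Finite G] (h : HypA G) (x : G) (hx : orderOf x = 2) :
    ∀ t : InvOutside x, MulAction.stabilizer ↥(Subgroup.centralizer ({x} : Set G)) t = ⊥ := by
  set V := Subgroup.centralizer ({x} : Set G) with hV
  have hVcomm := comm_of_exp_two (h.exp x hx)
  intro t
  rw [eq_bot_iff]
  intro v hv
  rw [MulAction.mem_stabilizer_iff] at hv
  rw [Subgroup.mem_bot]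
  by_contra hv1
  have hv1' : v.1 ≠ 1 := fun h => hv1 (Subtype.ext h)
  have hvo : orderOf v.1 = 2 := orderOf_eq_two_of_sq hv1' (h.exp x hx v.1 v.2)
  have hle : V ≤ Subgroup.centralizer ({v.1} : Set G) := by
    intro c hc
    rw [mem_centralizer_singleton]
    exact hVcomm v.1 v.2 c hc
  have heq : V = Subgroup.centralizer ({v.1} : Set G) := by
    apply Subgroup.eq_of_le_of_card_ge hle
    rw [h.card v.1 hvo, h.card x hx]
  apply t.2.2
  change t.1 ∈ V
  rw [heq, mem_centralizer_singleton]
  have h1 : v.1 * t.1 * v.1⁻¹ = t.1 := by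
    rw [← invOutside_smul_val, hv]
  calc v.1 * t.1 = (v.1 * t.1 * v.1⁻¹) * v.1 := by group
    _ = t.1 * v.1 := by rw [h1]

theorem four_dvd_card_invOutside [Finite G] (h : HypA G) (x : G) (hx : orderOf x = 2) :
    4 ∣ Nat.card (InvOutside x) := by
  rw [Nat.card_congr (MulAction.selfEquivOrbitsQuotientProd (invOutside_free h x hx)),
    Nat.card_prod, h.card x hx]
  exact dvd_mul_left _ _

theorem numInv_eq_add [Finite G] (h : HypA G) (x : G) (hx : orderOf x = 2) :
    numInv G = 3 + Nat.card (InvOutside x) := by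
  classical
  have : Fintype G := Fintype.ofFinite G
  set V := Subgroup.centralizer ({x} : Set G) with hV
  set I : Finset G := univ.filter (fun t => orderOf t = 2) with hI
  have hm : numInv G = I.card := by
    rw [numInv, Nat.card_eq_fintype_card, Fintype.card_subtype]
  have hsplit : (I.filter (fun t => t ∈ V)).card + (I.filter (fun t => ¬ t ∈ V)).card = I.card :=
    card_filter_add_card_filter_not (s := I) (fun t => t ∈ V)
  have hout : (I.filter (fun t => ¬ t ∈ V)).card = Nat.card (InvOutside x) := by
    rw [InvOutside, Nat.card_eq_fintype_card, Fintype.card_subtype, hI, filter_filter]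
  have hin : (I.filter (fun t => t ∈ V)).card = 3 := by
    have h1 : I.filter (fun t => t ∈ V) = (univ.filter (fun t => t ∈ V)).erase 1 := by
      ext t
      simp only [hI, mem_filter, mem_univ, true_and, mem_erase]
      constructor
      · rintro ⟨h1, h2⟩
        refine ⟨?_, h2⟩
        rintro rfl
        rw [orderOf_one] at h1; omega
      · rintro ⟨h1, h2⟩
        exact ⟨orderOf_eq_two_of_sq h1 (h.exp x hx t h2), h2⟩
    rw [h1, card_erase_of_mem (by simp [V.one_mem])]
    have := h.card x hx
    rw [Nat.card_eq_fintype_card, Fintype.card_subtype] at this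
    rw [this]
  omega

theorem numInv_mod_four [Finite G] (h : HypA G) (x : G) (hx : orderOf x = 2) :
    numInv G % 4 = 3 := by
  have h1 := numInv_eq_add h x hx
  have h2 := four_dvd_card_invOutside h x hx
  omega

end Cfsg.Agent.H2.V4c
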