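import Cfsg.Agent.H2.V4cA2

set_option autoImplicit false
set_option maxHeartbeats 1600000

namespace Cfsg.Agent.H2.V4c

open Finset

variable {G : Type*} [Group G]

theorem exists_inverted_large [Finite G] (h : HypA G) (x : G) (hx : orderOf x = 2)
    (hm3 : 3 < numInv G) :
    ∃ w s : G, w ^ 2 ≠ 1 ∧ orderOf s = 2 ∧ s * w * s⁻¹ = w⁻¹ ∧
      numInv G ≤ 3 * Nat.card (Subgroup.centralizer ({w} : Set G)) + 2 := by
  classical
  have : Fintype G := Fintype.ofFinite G
  by_contra hcon
  push Not at hcon
  set I : Finset G := univ.filter (fun t => orderOf t = 2) with hI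
  have hmI : numInv G = I.card := by
    rw [numInv, Nat.card_eq_fintype_card, Fintype.card_subtype]
  set m := I.card with hm
  have hcardG : Fintype.card G = 4 * m := by
    rw [← Nat.card_eq_fintype_card, card_eq_four_mul h x hx, hmI]
  have hIo : ∀ t, t ∈ I ↔ orderOf t = 2 := by
    intro t; simp only [hI, mem_filter, mem_univ, true_and]
  have hIinv : ∀ t ∈ I, t⁻¹ = t := by
    intro t ht
    rw [hIo] at ht
    apply inv_eq_self_of_sq
    rw [← ht, pow_orderOf_eq_one]
  have hI1 : ∀ t ∈ I, t ≠ 1 := by
    intro t ht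
    rw [hIo] at ht
    rintro rfl
    rw [orderOf_one] at ht; omega
  -- pairs
  set f : G × G → G := fun p => p.1 * p.2 with hf
  set P : Finset (G × G) := I ×ˢ I with hP
  have hPcard : P.card = m * m := by rw [hP, card_product]
  set Pa : Finset (G × G) := P.filter (fun p => (f p) ^ 2 = 1) with hPa
  set Pb : Finset (G × G) := P.filter (fun p => ¬ (f p) ^ 2 = 1) with hPb
  have hsplit : Pa.card + Pb.card = m * m := by
    rw [← hPcard, hPa, hPb]
    exact card_filter_add_card_filter_not (s := P) (fun p => (f p) ^ 2 = 1)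
  -- Pa bound
  have hPa_le : Pa.card ≤ 3 * m := by
    have h1 : Pa.card = ∑ s ∈ I, (Pa.filter (fun p => p.1 = s)).card := by
      apply card_eq_sum_card_fiberwise
      intro p hp
      have hp := Finset.mem_coe.mp hp
      simp only [hPa, hP, mem_filter, mem_product] at hp
      exact Finset.mem_coe.mpr hp.1.1
    have h2 : ∀ s ∈ I, (Pa.filter (fun p => p.1 = s)).card ≤ 3 := by
      intro s hs
      have hso := (hIo s).mp hs
      have h3 : (Pa.filter (fun p => p.1 = s)).card ≤
          ((univ.filter (fun c => c ∈ Subgroup.centralizer ({s} : Set G))).erase 1).card := by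
        apply card_le_card_of_injOn (fun p => p.2)
        · intro p hp
          have hp := Finset.mem_coe.mp hp
          simp only [hPa, hP, hf, mem_filter, mem_product] at hp
          obtain ⟨⟨⟨hp1, hp2⟩, hsq⟩, hps⟩ := hp
          apply Finset.mem_coe.mpr
          simp only [mem_erase, mem_filter, mem_univ, true_and]
          refine ⟨hI1 _ hp2, ?_⟩
          rw [mem_centralizer_singleton, ← hps]
          have e1 := hIinv _ hp1
          have e2 := hIinv _ hp2
          have e3 := inv_eq_self_of_sq hsq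
          calc p.1 * p.2 = (p.1 * p.2)⁻¹ := e3.symm
            _ = p.2⁻¹ * p.1⁻¹ := by group
            _ = p.2 * p.1 := by rw [e1, e2]
        · intro p hp q hq hpq
          have hp := Finset.mem_coe.mp hp
          have hq := Finset.mem_coe.mp hq
          simp only [mem_filter] at hp hq
          exact Prod.ext (by rw [hp.2, hq.2]) hpq
      have h4 : ((univ.filter (fun c => c ∈ Subgroup.centralizer ({s} : Set G))).erase 1).card
          = 3 := by
        rw [card_erase_of_mem (by simp)]
        have := h.card s hso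
        rw [Nat.card_eq_fintype_card, Fintype.card_subtype] at this
        rw [this]
      omega
    rw [h1]
    calc ∑ s ∈ I, (Pa.filter (fun p => p.1 = s)).card ≤ ∑ s ∈ I, 3 := sum_le_sum h2
      _ = 3 * m := by rw [sum_const, smul_eq_mul, mul_comm]
  -- Pb
  set W : Finset G := univ.filter (fun w => ¬ w ^ 2 = 1) with hW
  have hPb_eq : Pb.card = ∑ w ∈ W, (Pb.filter (fun p => f p = w)).card := by
    apply card_eq_sum_card_fiberwise
    intro p hp
    have hp := Finset.mem_coe.mp hp
    simp only [hPb, mem_filter] at hp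
    apply Finset.mem_coe.mpr
    simp only [hW, mem_filter, mem_univ, true_and]
    exact hp.2
  have hinvt : ∀ p ∈ P, p.1 * (f p) * p.1⁻¹ = (f p)⁻¹ := by
    intro p hp
    simp only [hP, mem_product] at hp
    have e1 := hIinv _ hp.1
    have e2 := hIinv _ hp.2
    simp only [hf]
    calc p.1 * (p.1 * p.2) * p.1⁻¹ = (p.1 * p.1⁻¹⁻¹) * p.2 * p.1⁻¹ := by group
      _ = (p.1 * p.1⁻¹) * p.2⁻¹ * p.1⁻¹ := by rw [e1, e2, e1]
      _ = (p.1 * p.2)⁻¹ := by group
  have hN_le : ∀ w ∈ W, 3 * (Pb.filter (fun p => f p = w)).card + 3 ≤ m := by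
    intro w hw
    have hw2 : w ^ 2 ≠ 1 := by
      simp only [hW, mem_filter, mem_univ, true_and] at hw; exact hw
    by_cases hne : (Pb.filter (fun p => f p = w)).Nonempty
    · obtain ⟨p₀, hp₀⟩ := hne
      simp only [hPb, mem_filter] at hp₀
      obtain ⟨⟨hp₀P, -⟩, hp₀w⟩ := hp₀
      have hinv₀ := hinvt p₀ hp₀P
      rw [hp₀w] at hinv₀
      have hp₀I : p₀.1 ∈ I := by
        simp only [hP, mem_product] at hp₀P; exact hp₀P.1
      have hbound := hcon w p₀.1 hw2 ((hIo _).mp hp₀I) hinv₀
      have hcent : ∀ p ∈ Pb.filter (fun p => f p = w),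
          p₀.1⁻¹ * p.1 ∈ Subgroup.centralizer ({w} : Set G) := by
        intro p hp
        simp only [hPb, mem_filter] at hp
        obtain ⟨⟨hpP, -⟩, hpw⟩ := hp
        have hinv₁ := hinvt p hpP
        rw [hpw] at hinv₁
        rw [mem_centralizer_singleton]
        have e1 : p₀.1⁻¹ * w⁻¹ * p₀.1 = w := by
          rw [← hinv₀]; group
        calc w * (p₀.1⁻¹ * p.1) = (p₀.1⁻¹ * w⁻¹ * p₀.1) * (p₀.1⁻¹ * p.1) := by rw [e1]
          _ = p₀.1⁻¹ * w⁻¹ * p.1 := by group
          _ = p₀.1⁻¹ * (p.1 * w * p.1⁻¹) * p.1 := by rw [hinv₁]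
          _ = p₀.1⁻¹ * p.1 * w := by group
      have hle : (Pb.filter (fun p => f p = w)).card ≤
          Nat.card (Subgroup.centralizer ({w} : Set G)) := by
        rw [Nat.card_eq_fintype_card, ← Fintype.card_coe]
        apply Fintype.card_le_of_injective
          (fun p : {p // p ∈ Pb.filter (fun p => f p = w)} =>
            (⟨p₀.1⁻¹ * p.1.1, hcent p.1 p.2⟩ : Subgroup.centralizer ({w} : Set G)))
        intro p q hpq
        have h1 : p₀.1⁻¹ * p.1.1 = p₀.1⁻¹ * q.1.1 := congrArg Subtype.val hpq
        have h2 : p.1.1 = q.1.1 := mul_left_cancel h1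
        have hp := p.2
        have hq := q.2
        simp only [hf, mem_filter] at hp hq
        have h3 : p.1.1 * p.1.2 = q.1.1 * q.1.2 := by rw [hp.2, hq.2]
        rw [h2] at h3
        exact Subtype.ext (Prod.ext h2 (mul_left_cancel h3))
      rw [hmI] at hbound
      omega
    · rw [not_nonempty_iff_eq_empty] at hne
      rw [hne, card_empty]
      rw [hmI] at hm3
      omega
  have hWcard : W.card + m + 1 ≤ 4 * m := by
    have h1 : W ⊆ univ \ (insert 1 I) := by
      intro w hw
      simp only [hW, mem_filter, mem_univ, true_and] at hw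
      simp only [mem_sdiff, mem_univ, true_and, mem_insert]
      rintro (rfl | hwI)
      · exact hw (one_pow 2)
      · apply hw
        rw [hIo] at hwI
        rw [← hwI, pow_orderOf_eq_one]
    have h2 := card_le_card h1
    have h3 : (1 : G) ∉ I := fun h1 => hI1 1 h1 rfl
    rw [card_sdiff_of_subset (subset_univ _), card_univ, card_insert_of_notMem h3, hcardG] at h2
    omega
  have hsum : 3 * Pb.card + 3 * W.card ≤ W.card * m := by
    rw [hPb_eq, mul_sum]
    have : ∑ w ∈ W, 3 * (Pb.filter (fun p => f p = w)).card + ∑ w ∈ W, 3 ≤ ∑ w ∈ W, m := by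
      rw [← sum_add_distrib]
      exact sum_le_sum hN_le
    rw [sum_const, sum_const, smul_eq_mul, smul_eq_mul] at this
    linarith
  -- final arithmetic
  rw [hmI] at hm3
  have hW' : W.card ≤ 3 * m - 1 := by omega
  nlinarith

end Cfsg.Agent.H2.V4c
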