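import Cfsg.Agent.H2.V4cA3

set_option autoImplicit false
set_option maxHeartbeats 800000

namespace Cfsg.Agent.H2.V4c

variable {G : Type*} [Group G]

/-- An involutory element acting without nontrivial fixed points on a finite normal subgroup
inverts it. -/
theorem inverts_of_no_fixed (t : G) (ht2 : t ^ 2 = 1) (L : Subgroup G) (hL : L.Normal) [Finite L]
    (hfix : ∀ l ∈ L, t * l = l * t → l = 1) : ∀ l ∈ L, t * l * t⁻¹ = l⁻¹ := by
  have htt : t * t = 1 := by rw [← pow_two]; exact ht2
  have htinv : t⁻¹ = t := inv_eq_of_mul_eq_one_left htt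
  let φ : ↥L ≃* ↥L :=
    { toFun := fun f => ⟨t * f.1 * t⁻¹, hL.conj_mem f.1 f.2 t⟩
      invFun := fun f => ⟨t⁻¹ * f.1 * t, by simpa using hL.conj_mem f.1 f.2 t⁻¹⟩
      left_inv := fun f => Subtype.ext (by simp only; group)
      right_inv := fun f => Subtype.ext (by simp only; group)
      map_mul' := fun a b => Subtype.ext (by simp only [Subgroup.coe_mul]; group) }
  have hφv : ∀ f, (φ f).1 = t * f.1 * t⁻¹ := fun f => rfl
  have hφ2 : ∀ f, φ (φ f) = f := by
    intro f
    apply Subtype.ext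
    rw [hφv, hφv, htinv]
    calc t * (t * f.1 * t) * t = (t * t) * f.1 * (t * t) := by group
      _ = f.1 := by rw [htt, one_mul, mul_one]
  have hfpf : ∀ f, φ f = f → f = 1 := by
    intro f hf
    have h1 : t * f.1 * t⁻¹ = f.1 := by rw [← hφv, hf]
    apply Subtype.ext
    apply hfix f.1 f.2
    calc t * f.1 = (t * f.1 * t⁻¹) * t := by group
      _ = f.1 * t := by rw [h1]
  have hinv := inverts_of_fpf φ hφ2 hfpf
  intro l hl
  have := congrArg Subtype.val (hinv ⟨l, hl⟩)
  rw [hφv] at this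
  simpa using this

theorem eq_one_of_sq_of_odd [Finite G] (L : Subgroup G) (hodd : Odd (Nat.card L)) (l : G)
    (hl : l ∈ L) (h2 : l ^ 2 = 1) : l = 1 := by
  have h1 : orderOf l ∣ 2 := orderOf_dvd_of_pow_eq_one h2
  have h3 : orderOf l ∣ Nat.card L := Subgroup.orderOf_dvd_natCard L hl
  have h4 : orderOf l ∣ Nat.gcd 2 (Nat.card L) := Nat.dvd_gcd h1 h3
  have h5 : Nat.gcd 2 (Nat.card L) = 1 := Nat.coprime_two_left.mpr hodd
  rw [h5, Nat.dvd_one, orderOf_eq_one_iff] at h4
  exact h4

/-- There is a third involution in `C(x)`. -/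
theorem exists_third [Finite G] (x : G)
    (hC4 : Nat.card ↥(Subgroup.centralizer ({x} : Set G)) = 4) :
    ∃ y ∈ Subgroup.centralizer ({x} : Set G), y ≠ 1 ∧ y ≠ x := by
  by_contra hcon
  push Not at hcon
  have hsub : ((Subgroup.centralizer ({x} : Set G) : Subgroup G) : Set G) ⊆ {1, x} := by
    intro y hy
    by_cases h1 : y = 1
    · left; exact h1
    · right; exact hcon y hy h1
  have h1 : Nat.card ↥(Subgroup.centralizer ({x} : Set G)) =
      ((Subgroup.centralizer ({x} : Set G) : Subgroup G) : Set G).ncard := Nat.card_coe_set_eq _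
  have h2 := Set.ncard_le_ncard hsub (Set.toFinite _)
  have h3 : ({1, x} : Set G).ncard ≤ 2 := Set.ncard_insert_le _ _ |>.trans (by simp)
  omega

/-- Normal subgroups of odd order are trivial. -/
theorem odd_normal_eq_bot [Finite G] (h : HypA G) (x : G) (hx : orderOf x = 2)
    (L : Subgroup G) (hL : L.Normal) (hodd : Odd (Nat.card L)) : L = ⊥ := by
  obtain ⟨y, hyV, hy1, hyx⟩ := exists_third x (h.card x hx)
  have hx2 : x ^ 2 = 1 := by rw [← hx, pow_orderOf_eq_one]
  have hxinv := inv_eq_self_of_sq hx2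
  have hy2 : y ^ 2 = 1 := h.exp x hx y hyV
  have hyo : orderOf y = 2 := orderOf_eq_two_of_sq hy1 hy2
  have hxyV : x * y ∈ Subgroup.centralizer ({x} : Set G) :=
    Subgroup.mul_mem _ (self_mem_centralizer x) hyV
  have hxy2 : (x * y) ^ 2 = 1 := h.exp x hx _ hxyV
  have hxy1 : x * y ≠ 1 := by
    intro h1
    apply hyx
    have : y = x⁻¹ := (inv_eq_of_mul_eq_one_right h1).symm
    rw [this, hxinv]
  have hxyo : orderOf (x * y) = 2 := orderOf_eq_two_of_sq hxy1 hxy2
  have hinv : ∀ t : G, orderOf t = 2 → ∀ l ∈ L, t * l * t⁻¹ = l⁻¹ := by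
    intro t ht
    have ht2 : t ^ 2 = 1 := by rw [← ht, pow_orderOf_eq_one]
    apply inverts_of_no_fixed t ht2 L hL
    intro l hl hcomm
    apply eq_one_of_sq_of_odd L hodd l hl
    apply h.exp t ht
    rw [mem_centralizer_singleton]; exact hcomm
  rw [eq_bot_iff]
  intro l hl
  rw [Subgroup.mem_bot]
  apply eq_one_of_sq_of_odd L hodd l hl
  have h1 := hinv x hx l hl
  have h2 := hinv y hyo l hl
  have h3 := hinv (x * y) hxyo l hl
  have h4 : l⁻¹ = l := by
    calc l⁻¹ = (x * y) * l * (x * y)⁻¹ := h3.symm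
      _ = x * (y * l * y⁻¹) * x⁻¹ := by group
      _ = x * l⁻¹ * x⁻¹ := by rw [h2]
      _ = (x * l * x⁻¹)⁻¹ := by group
      _ = l := by rw [h1, inv_inv]
  rw [pow_two]
  calc l * l = l⁻¹ * l := by rw [h4]
    _ = 1 := by group

/-- A normal subgroup of even order contains `C(x)`. -/
theorem centralizer_le_of_even [Finite G] (h : HypA G) (x : G) (hx : orderOf x = 2)
    (L : Subgroup G) (hL : L.Normal) (heven : Even (Nat.card L)) :
    Subgroup.centralizer ({x} : Set G) ≤ L := by
  have : Fact (Nat.Prime 2) := ⟨Nat.prime_two⟩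
  obtain ⟨t, ht⟩ := exists_prime_orderOf_dvd_card' (G := ↥L) 2 (even_iff_two_dvd.mp heven)
  have hto : orderOf (t : G) = 2 := by rw [Subgroup.orderOf_coe]; exact ht
  have hall : ∀ s : G, orderOf s = 2 → s ∈ L := by
    intro s hs
    obtain ⟨g, rfl⟩ := h.conj t.1 s hto hs
    exact hL.conj_mem t.1 t.2 g
  intro c hc
  by_cases hc1 : c = 1
  · rw [hc1]; exact L.one_mem
  · exact hall c (orderOf_eq_two_of_sq hc1 (h.exp x hx c hc))

/-- If the involutions of a normal subgroup `L ≥ C(x)` are `L`-conjugate then `L = ⊤`. -/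
theorem eq_top_of_conj [Finite G] (x : G) (hx : orderOf x = 2)
    (L : Subgroup G) (hL : L.Normal) (hVL : Subgroup.centralizer ({x} : Set G) ≤ L)
    (hconj : ∀ s t : ↥L, orderOf s = 2 → orderOf t = 2 → ∃ g : ↥L, g * s * g⁻¹ = t) : L = ⊤ := by
  rw [eq_top_iff]
  intro g _
  have hxL : x ∈ L := hVL (self_mem_centralizer x)
  have h1 : orderOf (⟨x, hxL⟩ : ↥L) = 2 := by
    rw [← Subgroup.orderOf_coe]; exact hx
  have hgL : g * x * g⁻¹ ∈ L := hL.conj_mem x hxL g
  have h2 : orderOf (⟨g * x * g⁻¹, hgL⟩ : ↥L) = 2 := by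
    rw [← Subgroup.orderOf_coe]; simp only; rw [orderOf_conj', hx]
  obtain ⟨l, hl⟩ := hconj _ _ h1 h2
  have hl' : l.1 * x * l.1⁻¹ = g * x * g⁻¹ := by
    have := congrArg Subtype.val hl
    simpa using this
  have h3 : l.1⁻¹ * g ∈ Subgroup.centralizer ({x} : Set G) := by
    rw [mem_centralizer_singleton]
    calc x * (l.1⁻¹ * g) = l.1⁻¹ * (l.1 * x * l.1⁻¹) * g := by group
      _ = l.1⁻¹ * (g * x * g⁻¹) * g := by rw [hl']
      _ = l.1⁻¹ * g * x := by group
  have h4 := L.mul_mem l.2 (hVL h3)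
  have e : l.1 * (l.1⁻¹ * g) = g := by group
  rwa [e] at h4

theorem conj_of_one_class {H : Type*} [Group H]
    (h3 : Nat.card {C : ConjClasses H // ∃ t : H, orderOf t = 2 ∧ ConjClasses.mk t = C} = 1) :
    ∀ s t : H, orderOf s = 2 → orderOf t = 2 → ∃ g, g * s * g⁻¹ = t := by
  intro s t hs ht
  have hsub := (Nat.card_eq_one_iff_unique.mp h3).1
  have := hsub.elim (⟨ConjClasses.mk s, s, hs, rfl⟩ :
    {C : ConjClasses H // ∃ t : H, orderOf t = 2 ∧ ConjClasses.mk t = C})
    ⟨ConjClasses.mk t, t, ht, rfl⟩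
  have h4 : ConjClasses.mk s = ConjClasses.mk t := congrArg Subtype.val this
  rw [ConjClasses.mk_eq_mk_iff_isConj, isConj_iff] at h4
  exact h4

theorem normal_eq_bot_or_top [Finite G] (h : HypA G) (x : G) (hx : orderOf x = 2)
    (hne : ∀ E : Subgroup G, E.Normal → Cfsg.IsElementaryAbelian 2 E →
      Nat.card ↥E ≠ 2 ∧ Nat.card ↥E ≠ 4)
    (S : Sylow 2 G) (hS : (S : Subgroup G) = Subgroup.centralizer ({x} : Set G))
    (L : Subgroup G) (hL : L.Normal) : L = ⊥ ∨ L = ⊤ := by
  have : Fact (Nat.Prime 2) := ⟨Nat.prime_two⟩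
  rcases Nat.even_or_odd (Nat.card L) with heven | hodd
  · right
    have hVL := centralizer_le_of_even h x hx L hL heven
    apply eq_top_of_conj x hx L hL hVL
    have hSL : (S : Subgroup G) ≤ L := by rw [hS]; exact hVL
    let PL : Sylow 2 ↥L := S.subtype hSL
    have hPL : (PL : Subgroup ↥L) = (S : Subgroup G).subgroupOf L := rfl
    have hPLcard : Nat.card ↥(PL : Subgroup ↥L) = 4 := by
      rw [hPL, Nat.card_congr (Subgroup.subgroupOfEquivOfLe hSL).toEquiv, hS, h.card x hx]
    have hK : IsKleinFour ↥(PL : Subgroup ↥L) := by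
      apply isKleinFour_of_card_exp _ hPLcard
      intro c hc
      rw [hPL, Subgroup.mem_subgroupOf, hS] at hc
      apply Subtype.ext
      simpa using h.exp x hx c.1 hc
    rcases Cfsg.Agent.S0202.result PL hK with h1 | h3
    · exact conj_of_one_class h1
    · exfalso
      obtain ⟨N, hNn, hNc⟩ := (Cfsg.Agent.S0203.result PL hK).mp h3
      have hNodd : Odd (Nat.card N) := by
        rw [← hNc.index_eq_card, ← Nat.not_even_iff_odd, even_iff_two_dvd]
        exact PL.not_dvd_index
      have hNidx : N.index = 4 := by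
        rw [hNc.symm.index_eq_card, hPLcard]
      -- K := image of N in G is normal
      have hKn : (N.map L.subtype).Normal := by
        constructor
        rintro k ⟨n, hnN, rfl⟩ g
        have hgL : g * n.1 * g⁻¹ ∈ L := hL.conj_mem n.1 n.2 g
        refine ⟨⟨g * n.1 * g⁻¹, hgL⟩, ?_, rfl⟩
        have hNn' : N.Normal := hNn
        have hnN' : n ∈ N := hnN
        set l : ↥L := ⟨g * n.1 * g⁻¹, hgL⟩ with hl
        change l ∈ N
        rw [← QuotientGroup.eq_one_iff (N := N)]
        have ho1 : orderOf l ∣ Nat.card N := by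
          have e1 : orderOf l = orderOf n := by
            rw [← Subgroup.orderOf_coe l, ← Subgroup.orderOf_coe n]
            simp only [hl]
            exact orderOf_conj' g n.1
          rw [e1]
          exact Subgroup.orderOf_dvd_natCard N hnN'
        have ho2 : orderOf (QuotientGroup.mk l : ↥L ⧸ N) ∣ orderOf l :=
          orderOf_map_dvd (QuotientGroup.mk' N) l
        have ho3 : orderOf (QuotientGroup.mk l : ↥L ⧸ N) ∣ 4 := by
          have : Nat.card (↥L ⧸ N) = 4 := hNidx
          rw [← this]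
          exact orderOf_dvd_natCard _
        have ho4 : orderOf (QuotientGroup.mk l : ↥L ⧸ N) ∣ Nat.gcd (Nat.card N) 4 :=
          Nat.dvd_gcd (dvd_trans ho2 ho1) ho3
        have hcop : Nat.gcd (Nat.card N) 4 = 1 := by
          have h1 : Nat.Coprime (Nat.card N) 2 := Nat.coprime_two_right.mpr hNodd
          have : Nat.Coprime (Nat.card N) (2 ^ 2) := Nat.Coprime.pow_right 2 h1
          simpa using this
        rw [hcop, Nat.dvd_one, orderOf_eq_one_iff] at ho4
        exact ho4
      have hKodd : Odd (Nat.card (N.map L.subtype)) := by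
        rw [Subgroup.card_map_of_injective (Subgroup.subtype_injective L)]; exact hNodd
      have hKbot := odd_normal_eq_bot h x hx _ hKn hKodd
      have hN1 : Nat.card N = 1 := by
        have := Subgroup.card_map_of_injective (K := N) (Subgroup.subtype_injective L)
        rw [hKbot, Subgroup.card_bot] at this
        exact this.symm
      have hLcard : Nat.card L = 4 := by
        have := hNc.card_mul_card
        rw [hN1, hPLcard] at this
        omega
      have hLV : Subgroup.centralizer ({x} : Set G) = L := by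
        apply Subgroup.eq_of_le_of_card_ge hVL
        rw [hLcard, h.card x hx]
      have hVn : (Subgroup.centralizer ({x} : Set G)).Normal := by rw [hLV]; exact hL
      have hVcomm := comm_of_exp_two (h.exp x hx)
      have hEA : Cfsg.IsElementaryAbelian 2 (Subgroup.centralizer ({x} : Set G)) :=
        ⟨⟨⟨fun a b => Subtype.ext (hVcomm a.1 a.2 b.1 b.2)⟩⟩, h.exp x hx⟩
      exact (hne _ hVn hEA).2 (h.card x hx)
  · left
    exact odd_normal_eq_bot h x hx L hL hodd

end Cfsg.Agent.H2.V4c
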