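import Cfsg.Agent.H2.V4cA4
import Cfsg.Agent.S0084
import Cfsg.Agent.S0494

set_option autoImplicit false
set_option maxHeartbeats 1600000

namespace Cfsg.Agent.H2.V4c

variable {G : Type*} [Group G]

theorem caseA [Finite G] (x : G) (hx : orderOf x = 2)
    (hC4 : Nat.card ↥(Subgroup.centralizer ({x} : Set G)) = 4)
    (hCe : ∀ c ∈ Subgroup.centralizer ({x} : Set G), c ^ 2 = 1)
    (hnc : ¬ Cfsg.HasNormalPComplement 2 G)
    (hne : ∀ E : Subgroup G, E.Normal → Cfsg.IsElementaryAbelian 2 E →
      Nat.card ↥E ≠ 2 ∧ Nat.card ↥E ≠ 4)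
    (S : Sylow 2 G) (hS : (S : Subgroup G) = Subgroup.centralizer ({x} : Set G)) :
    Nonempty (G ≃* ↥(alternatingGroup (Fin 5))) := by
  have h := hypA_of_sylow x hx hC4 hCe hnc S hS
  have hG := card_eq_four_mul h x hx
  have hmod := numInv_mod_four h x hx
  have hadd := numInv_eq_add h x hx
  set m := numInv G with hm
  set V := Subgroup.centralizer ({x} : Set G) with hV
  have hVcomm := comm_of_exp_two hCe
  have hEA : Cfsg.IsElementaryAbelian 2 V :=
    ⟨⟨⟨fun a b => Subtype.ext (hVcomm a.1 a.2 b.1 b.2)⟩⟩, hCe⟩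
  have hx2 : x ^ 2 = 1 := by rw [← hx, pow_orderOf_eq_one]
  -- 3 ∣ m
  have h3m : 3 ∣ m := by
    by_contra hcon
    apply hnc
    have hK : IsKleinFour ↥(S : Subgroup G) := by
      rw [hS]; exact isKleinFour_of_card_exp _ hC4 hCe
    apply Cfsg.Agent.S0084.result S hK
    rw [hG]
    intro hdvd
    apply hcon
    exact (Nat.Coprime.dvd_mul_left (by norm_num : Nat.Coprime 3 4)).mp hdvd
  -- m ≠ 3
  have hm3 : m ≠ 3 := by
    intro hm3
    have hempty : Nat.card (InvOutside x) = 0 := by omega
    have hfin : Finite (InvOutside x) := by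
      unfold InvOutside; infer_instance
    have hIE : IsEmpty (InvOutside x) := by
      rcases Nat.card_eq_zero.mp hempty with h1 | h1
      · exact h1
      · exact absurd hfin (not_finite_iff_infinite.mpr h1)
    have hVn : V.Normal := by
      constructor
      intro v hv g
      by_cases hv1 : v = 1
      · rw [hv1]; simp [V.one_mem]
      · have hvo : orderOf v = 2 := orderOf_eq_two_of_sq hv1 (hCe v hv)
        by_contra hnot
        exact hIE.false ⟨g * v * g⁻¹, by rw [orderOf_conj', hvo], hnot⟩
    exact (hne V hVn hEA).2 hC4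
  have hm15 : 15 ≤ m := by omega
  -- simplicity
  have hsimple : ∀ L : Subgroup G, L.Normal → L = ⊥ ∨ L = ⊤ :=
    fun L hL => normal_eq_bot_or_top h x hx hne S hS L hL
  have hnt : Nontrivial G := ⟨⟨1, x, by
    intro h1; rw [← h1, orderOf_one] at hx; omega⟩⟩
  have hSimple : IsSimpleGroup G :=
    { exists_pair_ne := hnt.exists_pair_ne
      eq_bot_or_eq_top_of_normal := hsimple }
  -- counting
  obtain ⟨w, s, hw2, hso, hsw, hbound⟩ := exists_inverted_large h x hx (by omega)
  set C := Subgroup.centralizer ({w} : Set G) with hC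
  have hC5 : 5 ≤ Nat.card C := by omega
  have hs2 : s ^ 2 = 1 := by rw [← hso, pow_orderOf_eq_one]
  have hsinv := inv_eq_self_of_sq hs2
  set N := Subgroup.normalizer ((Subgroup.zpowers w : Subgroup G) : Set G) with hN
  have hsconj : ∀ k ∈ Subgroup.zpowers w, s * k * s⁻¹ ∈ Subgroup.zpowers w := by
    rintro k ⟨i, rfl⟩
    have : s * w ^ i * s⁻¹ = (w⁻¹) ^ i := by
      rw [← hsw, conj_zpow]
    rw [this]
    exact Subgroup.zpow_mem _ (Subgroup.inv_mem _ (Subgroup.mem_zpowers w)) i
  have hsN : s ∈ N := by
    rw [hN, Subgroup.mem_normalizer_iff]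
    intro k
    constructor
    · exact hsconj k
    · intro hk
      have := hsconj _ hk
      have e : s * (s * k * s⁻¹) * s⁻¹ = k := by
        rw [hsinv]
        calc s * (s * k * s) * s = (s * s) * k * (s * s) := by group
          _ = k := by rw [← pow_two, hs2, one_mul, mul_one]
      rwa [e] at this
  have hCN : C ≤ N := by
    intro c hc
    rw [hC, mem_centralizer_singleton] at hc
    have hcw : c * w * c⁻¹ = w := by
      calc c * w * c⁻¹ = (w * c) * c⁻¹ := by rw [hc]
        _ = w := by group
    have hcc : ∀ k ∈ Subgroup.zpowers w, c * k * c⁻¹ = k := by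
      rintro k ⟨i, rfl⟩
      rw [← conj_zpow, hcw]
    rw [hN, Subgroup.mem_normalizer_iff]
    intro k
    constructor
    · intro hk; rw [hcc k hk]; exact hk
    · intro hk
      have h1 : c⁻¹ * (c * k * c⁻¹) * c = k := by group
      have h2 : c * (c * k * c⁻¹) * c⁻¹ = c * k * c⁻¹ := hcc _ hk
      have h3 : c * k * c⁻¹ = k := by
        have : c⁻¹ * (c * (c * k * c⁻¹) * c⁻¹) * c = c⁻¹ * (c * k * c⁻¹) * c := by rw [h2]
        have e1 : c⁻¹ * (c * (c * k * c⁻¹) * c⁻¹) * c = c * k * c⁻¹ := by group
        rw [e1, h1] at this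
        exact this
      rw [← h3]; exact hk
  have hsC : s ∉ C := by
    intro hsC
    rw [hC, mem_centralizer_singleton] at hsC
    apply hw2
    have h1 : s * w * s⁻¹ = w := by
      calc s * w * s⁻¹ = (w * s) * s⁻¹ := by rw [hsC]
        _ = w := by group
    rw [hsw] at h1
    rw [pow_two]
    calc w * w = w * w⁻¹ := by rw [h1]
      _ = 1 := by group
  have hN2 : 2 * Nat.card C ≤ Nat.card N := by
    have hdvd := Subgroup.card_dvd_of_le hCN
    obtain ⟨k, hk⟩ := hdvd
    have hk0 : k ≠ 0 := by
      rintro rfl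
      have : 0 < Nat.card N := Nat.card_pos
      omega
    have hk1 : k ≠ 1 := by
      rintro rfl
      apply hsC
      have : C = N := Subgroup.eq_of_le_of_card_ge hCN (by omega)
      rw [this]; exact hsN
    have : 2 ≤ k := by omega
    rw [hk, mul_comm]
    exact Nat.mul_le_mul_left _ this
  have hidx : N.index ≤ 6 := by
    have h1 := Subgroup.card_mul_index N
    by_contra hcon
    push Not at hcon
    have : Nat.card N * 7 ≤ Nat.card N * N.index := Nat.mul_le_mul_left _ hcon
    omega
  rcases hsimple N.normalCore inferInstance with hcore | hcore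
  · -- embeds in Perm (G ⧸ N)
    have hker : (MulAction.toPermHom G (G ⧸ N)).ker = ⊥ := by
      rw [← Subgroup.normalCore_eq_ker, hcore]
    have hinj' : Function.Injective (MulAction.toPermHom G (G ⧸ N)) :=
      (MonoidHom.ker_eq_bot_iff _).mp hker
    have hdvd := Subgroup.card_dvd_of_injective _ hinj'
    have hperm : Nat.card (Equiv.Perm (G ⧸ N)) = (Nat.card (G ⧸ N)).factorial := by
      classical
      have : Fintype (G ⧸ N) := Fintype.ofFinite _
      rw [Nat.card_eq_fintype_card, Fintype.card_perm, Nat.card_eq_fintype_card]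
    rw [hperm] at hdvd
    have h720 : (Nat.card (G ⧸ N)).factorial ∣ 720 := by
      have : (Nat.card (G ⧸ N)).factorial ∣ Nat.factorial 6 := Nat.factorial_dvd_factorial hidx
      simpa [Nat.factorial] using this
    have hd := dvd_trans hdvd h720
    rw [hG] at hd
    have hm180 : m ∣ 180 := by
      have : 4 * m ∣ 4 * 180 := by simpa using hd
      exact Nat.dvd_of_mul_dvd_mul_left (by norm_num) this
    have hmle : m ≤ 180 := Nat.le_of_dvd (by norm_num) hm180
    have hm15' : m = 15 := by
      clear_value m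
      interval_cases m <;> omega
    have h60 : Nat.card G = 60 := by rw [hG, hm15']
    exact Cfsg.Agent.S0494.result h60
  · exfalso
    have hNtop : N = ⊤ := by
      rw [eq_top_iff, ← hcore]; exact Subgroup.normalCore_le N
    have hzn : (Subgroup.zpowers w).Normal := by
      rw [← Subgroup.normalizer_eq_top_iff]; exact hNtop
    have hw1 : w ≠ 1 := by rintro rfl; exact hw2 (one_pow 2)
    rcases hsimple _ hzn with hz | hz
    · have : w ∈ (⊥ : Subgroup G) := by rw [← hz]; exact Subgroup.mem_zpowers w
      rw [Subgroup.mem_bot] at this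
      exact hw1 this
    · have hxz : x ∈ Subgroup.zpowers w := by rw [hz]; trivial
      obtain ⟨i, hi⟩ := hxz
      apply hw2
      apply hCe
      rw [mem_centralizer_singleton, ← hi]
      calc w ^ i * w = w ^ (i + 1) := by rw [zpow_add_one]
        _ = w ^ (1 + i) := by rw [add_comm]
        _ = w * w ^ i := by rw [zpow_add, zpow_one]

end Cfsg.Agent.H2.V4c
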