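import Cfsg.Agent.H2.V4cSol
import Cfsg.Agent.H2.EqualOrderSylow
import Cfsg.Agent.S0044

set_option autoImplicit false
set_option maxHeartbeats 800000

/-!
# S3277, solvable case: contradiction from a solvable group with `C(x) ≅ V₄`
-/

namespace Cfsg.Agent.H2.V4c

variable {G : Type*} [Group G]

/-- `|E| ≤ |C_E(x)|²` for an involution `x` acting on a normal elementary abelian 2-subgroup. -/
theorem card_le_of_normal_elemAb [Finite G] (x : G) (hx2 : x ^ 2 = 1) (E : Subgroup G) [hEn : E.Normal]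
    (hab : ∀ a ∈ E, ∀ b ∈ E, a * b = b * a) (hexp : ∀ a ∈ E, a ^ 2 = 1) (k : ℕ)
    (hk : Nat.card ↥(E ⊓ Subgroup.centralizer ({x} : Set G)) ≤ k) : Nat.card E ≤ k * k := by
  have hxinv : x⁻¹ = x := by
    have : x * x = 1 := by rw [← pow_two]; exact hx2
    exact inv_eq_of_mul_eq_one_left this
  have hconj : ∀ e ∈ E, x * e * x⁻¹ ∈ E := fun e he => hEn.conj_mem e he x
  let ψ : ↥E →* ↥E :=
    { toFun := fun e => ⟨e.1 * (x * e.1 * x⁻¹), E.mul_mem e.2 (hconj e.1 e.2)⟩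
      map_one' := by apply Subtype.ext; simp
      map_mul' := by
        intro a b
        apply Subtype.ext
        simp only [Subgroup.coe_mul]
        have h1 := hab b.1 b.2 (x * a.1 * x⁻¹) (hconj a.1 a.2)
        calc a.1 * b.1 * (x * (a.1 * b.1) * x⁻¹)
            = a.1 * (b.1 * (x * a.1 * x⁻¹)) * (x * b.1 * x⁻¹) := by group
          _ = a.1 * ((x * a.1 * x⁻¹) * b.1) * (x * b.1 * x⁻¹) := by rw [h1]
          _ = a.1 * (x * a.1 * x⁻¹) * (b.1 * (x * b.1 * x⁻¹)) := by group }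
  have hψ : ∀ e : ↥E, (ψ e).1 = e.1 * (x * e.1 * x⁻¹) := fun e => rfl
  set D := E ⊓ Subgroup.centralizer ({x} : Set G) with hD
  have hker : Nat.card ψ.ker ≤ k := by
    refine le_trans (Nat.card_le_card_of_injective
      (fun e : ψ.ker => (⟨e.1.1, ?_⟩ : ↥D)) ?_) hk
    · refine ⟨e.1.2, ?_⟩
      change (e.1.1 : G) ∈ Subgroup.centralizer ({x} : Set G)
      rw [Subgroup.mem_centralizer_iff]
      intro y hy
      rw [Set.mem_singleton_iff] at hy
      subst hy
      have h1 : (ψ e.1).1 = 1 := by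
        have := e.2
        rw [MonoidHom.mem_ker] at this
        rw [this]; rfl
      rw [hψ] at h1
      have h2 : e.1.1 * e.1.1 = 1 := by rw [← pow_two]; exact hexp _ e.1.2
      have h3 : y * e.1.1 * y⁻¹ = e.1.1 := by
        have : y * e.1.1 * y⁻¹ = e.1.1⁻¹ := (inv_eq_of_mul_eq_one_right h1).symm
        rw [this]; exact inv_eq_of_mul_eq_one_left h2
      calc y * e.1.1 = (y * e.1.1 * y⁻¹) * y := by group
        _ = e.1.1 * y := by rw [h3]
    · intro a b hab'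
      apply Subtype.ext; apply Subtype.ext
      exact congrArg (fun t : ↥D => t.1) hab'
  have hrange : Nat.card ψ.range ≤ k := by
    refine le_trans (Nat.card_le_card_of_injective
      (fun e : ψ.range => (⟨e.1.1, ?_⟩ : ↥D)) ?_) hk
    · refine ⟨e.1.2, ?_⟩
      change (e.1.1 : G) ∈ Subgroup.centralizer ({x} : Set G)
      rw [Subgroup.mem_centralizer_iff]
      intro y hy
      rw [Set.mem_singleton_iff] at hy
      subst hy
      obtain ⟨a, ha⟩ := e.2
      have h1 : e.1.1 = a.1 * (y * a.1 * y⁻¹) := by rw [← ha]; rfl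
      have h2 := hab a.1 a.2 (y * a.1 * y⁻¹) (hconj a.1 a.2)
      rw [h1]
      calc y * (a.1 * (y * a.1 * y⁻¹)) = (y * a.1 * y⁻¹) * (y * y * a.1 * y⁻¹) := by group
        _ = (y * a.1 * y⁻¹) * (a.1 * y⁻¹) := by rw [← pow_two, hx2, one_mul]
        _ = (y * a.1 * y⁻¹) * (a.1 * y) := by rw [hxinv]
        _ = (y * a.1 * y⁻¹) * a.1 * y := by group
        _ = a.1 * (y * a.1 * y⁻¹) * y := by rw [h2]
    · intro a b hab'
      apply Subtype.ext; apply Subtype.ext
      exact congrArg (fun t : ↥D => t.1) hab'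
  have h1 := Subgroup.card_eq_card_quotient_mul_card_subgroup ψ.ker
  have h2 : Nat.card (↥E ⧸ ψ.ker) = Nat.card ψ.range :=
    Nat.card_congr (QuotientGroup.quotientKerEquivRange ψ).toEquiv
  rw [h1, h2]
  exact Nat.mul_le_mul hrange hker

/-- `Ω₁(Z(O₂(G)))`. -/
def omegaZ (G : Type*) [Group G] : Subgroup G where
  carrier := {e | e ∈ Cfsg.pCore 2 G ∧ e ^ 2 = 1 ∧ ∀ p ∈ Cfsg.pCore 2 G, e * p = p * e}
  one_mem' := ⟨Subgroup.one_mem _, one_pow 2, fun p _ => by simp⟩
  mul_mem' := by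
    rintro a b ⟨ha1, ha2, ha3⟩ ⟨hb1, hb2, hb3⟩
    refine ⟨Subgroup.mul_mem _ ha1 hb1, ?_, ?_⟩
    · have h := ha3 b hb1
      calc (a * b) ^ 2 = a * (b * a) * b := by rw [pow_two]; group
        _ = a * (a * b) * b := by rw [h]
        _ = a ^ 2 * b ^ 2 := by rw [pow_two, pow_two]; group
        _ = 1 := by rw [ha2, hb2, one_mul]
    · intro p hp
      calc a * b * p = a * (b * p) := by group
        _ = a * (p * b) := by rw [hb3 p hp]
        _ = (a * p) * b := by group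
        _ = (p * a) * b := by rw [ha3 p hp]
        _ = p * (a * b) := by group
  inv_mem' := by
    rintro a ⟨ha1, ha2, ha3⟩
    refine ⟨Subgroup.inv_mem _ ha1, ?_, ?_⟩
    · rw [inv_pow, ha2, inv_one]
    · intro p hp
      have h := ha3 p hp
      calc a⁻¹ * p = a⁻¹ * (p * a) * a⁻¹ := by group
        _ = a⁻¹ * (a * p) * a⁻¹ := by rw [h]
        _ = p * a⁻¹ := by group

theorem mem_omegaZ {e : G} : e ∈ omegaZ G ↔
    e ∈ Cfsg.pCore 2 G ∧ e ^ 2 = 1 ∧ ∀ p ∈ Cfsg.pCore 2 G, e * p = p * e := Iff.rfl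

instance omegaZ_normal : (omegaZ G).Normal := by
  have hPn : (Cfsg.pCore 2 G).Normal := Cfsg.Agent.Lib.Helper7.pCore_normal 2 G
  constructor
  rintro e ⟨he1, he2, he3⟩ g
  refine ⟨hPn.conj_mem e he1 g, ?_, ?_⟩
  · calc (g * e * g⁻¹) ^ 2 = g * e ^ 2 * g⁻¹ := by rw [pow_two, pow_two]; group
      _ = 1 := by rw [he2]; group
  · intro p hp
    have hp' : g⁻¹ * p * g ∈ Cfsg.pCore 2 G := by
      have := hPn.conj_mem p hp g⁻¹
      simpa using this
    have h := he3 _ hp'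
    calc g * e * g⁻¹ * p = g * (e * (g⁻¹ * p * g)) * g⁻¹ := by group
      _ = g * ((g⁻¹ * p * g) * e) * g⁻¹ := by rw [h]
      _ = p * (g * e * g⁻¹) := by group

theorem omegaZ_ne_bot [Finite G] (h : Cfsg.pCore 2 G ≠ ⊥) : omegaZ G ≠ ⊥ := by
  have : Fact (Nat.Prime 2) := ⟨Nat.prime_two⟩
  have hP : IsPGroup 2 (Cfsg.pCore 2 G) := Cfsg.Agent.Lib.Helper7.pCore_isPGroup 2 G
  have hnt : Nontrivial ↥(Cfsg.pCore 2 G) := (Subgroup.nontrivial_iff_ne_bot _).mpr h
  have hZ : Nontrivial (Subgroup.center ↥(Cfsg.pCore 2 G)) := hP.center_nontrivial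
  obtain ⟨c, hc⟩ := exists_ne (1 : Subgroup.center ↥(Cfsg.pCore 2 G))
  -- an element of order 2 in the centre
  have hZP : IsPGroup 2 (Subgroup.center ↥(Cfsg.pCore 2 G)) := hP.to_subgroup _
  obtain ⟨k, hk⟩ := (IsPGroup.iff_orderOf.mp hZP) c
  have hk0 : k ≠ 0 := by
    rintro rfl
    rw [pow_zero, orderOf_eq_one_iff] at hk
    exact hc hk
  obtain ⟨j, rfl⟩ : ∃ j, k = j + 1 := ⟨k - 1, by omega⟩
  set e := c ^ (2 ^ j) with he
  have he2 : e ^ 2 = 1 := by
    rw [he, ← pow_mul, ← pow_succ, ← hk, pow_orderOf_eq_one]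
  have he1 : e ≠ 1 := by
    intro h1
    have := orderOf_dvd_of_pow_eq_one h1
    rw [hk] at this
    have h2 : 2 ^ (j + 1) ≤ 2 ^ j := Nat.le_of_dvd (by positivity) this
    have h3 : 2 ^ j < 2 ^ (j + 1) := Nat.pow_lt_pow_right (by norm_num) (by omega)
    omega
  intro hbot
  have hmem : (e.1.1 : G) ∈ omegaZ G := by
    refine ⟨e.1.2, ?_, ?_⟩
    · have := congrArg (fun t : Subgroup.center ↥(Cfsg.pCore 2 G) => (t.1.1 : G)) he2
      simpa using this
    · intro p hp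
      have h1 := e.2
      rw [Subgroup.mem_center_iff] at h1
      have h2 := h1 ⟨p, hp⟩
      have := congrArg (fun t : ↥(Cfsg.pCore 2 G) => (t.1 : G)) h2
      simpa using this.symm
  rw [hbot, Subgroup.mem_bot] at hmem
  apply he1
  apply Subtype.ext; apply Subtype.ext
  simpa using hmem

theorem pCore_two_eq_bot [Finite G] (x : G) (hx : orderOf x = 2)
    (hC4 : Nat.card ↥(Subgroup.centralizer ({x} : Set G)) = 4)
    (hne : ∀ E : Subgroup G, E.Normal → Cfsg.IsElementaryAbelian 2 E →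
      Nat.card ↥E ≠ 2 ∧ Nat.card ↥E ≠ 4) :
    Cfsg.pCore 2 G = ⊥ := by
  by_contra h
  have hEbot := omegaZ_ne_bot h
  have hEn : (omegaZ G).Normal := inferInstance
  have hab : ∀ a ∈ omegaZ G, ∀ b ∈ omegaZ G, a * b = b * a := fun a ha b hb => ha.2.2 b hb.1
  have hexp : ∀ a ∈ omegaZ G, a ^ 2 = 1 := fun a ha => ha.2.1
  have hEA : Cfsg.IsElementaryAbelian 2 (omegaZ G) :=
    ⟨⟨⟨fun a b => Subtype.ext (hab a.1 a.2 b.1 b.2)⟩⟩, hexp⟩
  obtain ⟨h2, h4⟩ := hne (omegaZ G) hEn hEA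
  have : Fact (Nat.Prime 2) := ⟨Nat.prime_two⟩
  have hEP : IsPGroup 2 (omegaZ G) :=
    (Cfsg.Agent.Lib.Helper7.pCore_isPGroup 2 G).to_le (fun e he => he.1)
  obtain ⟨n, hn⟩ := hEP.exists_card_eq
  have h8 : 8 ≤ Nat.card (omegaZ G) := by
    have hn0 : n ≠ 0 := by
      rintro rfl
      rw [pow_zero] at hn
      exact hEbot ((omegaZ G).eq_bot_of_card_eq hn)
    have hn1 : n ≠ 1 := by
      rintro rfl; rw [pow_one] at hn; exact h2 hn
    have hn2 : n ≠ 2 := by
      rintro rfl; exact h4 (by rw [hn]; norm_num)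
    have hn3 : 3 ≤ n := by omega
    rw [hn]
    calc 8 = 2 ^ 3 := by norm_num
      _ ≤ 2 ^ n := Nat.pow_le_pow_right (by norm_num) hn3
  have hx2 : x ^ 2 = 1 := by rw [← hx, pow_orderOf_eq_one]
  have hxC : x ∈ Subgroup.centralizer ({x} : Set G) := by
    rw [Subgroup.mem_centralizer_iff]
    intro y hy; rw [Set.mem_singleton_iff] at hy; rw [hy]
  by_cases hxE : x ∈ omegaZ G
  · have hle : omegaZ G ≤ Subgroup.centralizer ({x} : Set G) := by
      intro e he
      rw [Subgroup.mem_centralizer_iff]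
      intro y hy; rw [Set.mem_singleton_iff] at hy; subst hy
      exact hab y hxE e he
    have := Subgroup.card_le_of_le hle
    omega
  · have hD : Nat.card ↥(omegaZ G ⊓ Subgroup.centralizer ({x} : Set G)) ≤ 2 := by
      have hle : omegaZ G ⊓ Subgroup.centralizer ({x} : Set G) ≤
          Subgroup.centralizer ({x} : Set G) := inf_le_right
      have hdvd := Subgroup.card_dvd_of_le hle
      rw [hC4] at hdvd
      have hne4 : Nat.card ↥(omegaZ G ⊓ Subgroup.centralizer ({x} : Set G)) ≠ 4 := by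
        intro h4'
        apply hxE
        have : omegaZ G ⊓ Subgroup.centralizer ({x} : Set G) =
            Subgroup.centralizer ({x} : Set G) := by
          apply Subgroup.eq_of_le_of_card_ge hle
          rw [h4', hC4]
        have hx' : x ∈ omegaZ G ⊓ Subgroup.centralizer ({x} : Set G) := by rw [this]; exact hxC
        exact hx'.1
      have hle4 : Nat.card ↥(omegaZ G ⊓ Subgroup.centralizer ({x} : Set G)) ≤ 4 :=
        Nat.le_of_dvd (by norm_num) hdvd
      have hpos : 0 < Nat.card ↥(omegaZ G ⊓ Subgroup.centralizer ({x} : Set G)) := Nat.card_pos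
      interval_cases (Nat.card ↥(omegaZ G ⊓ Subgroup.centralizer ({x} : Set G))) <;> omega
    have := card_le_of_normal_elemAb x hx2 (omegaZ G) hab hexp 2 hD
    omega

theorem false_of_solvable [Finite G] [Group.IsSolvable G] (x : G) (hx : orderOf x = 2)
    (hC4 : Nat.card ↥(Subgroup.centralizer ({x} : Set G)) = 4)
    (hCe : ∀ c ∈ Subgroup.centralizer ({x} : Set G), c ^ 2 = 1)
    (hne : ∀ E : Subgroup G, E.Normal → Cfsg.IsElementaryAbelian 2 E →
      Nat.card ↥E ≠ 2 ∧ Nat.card ↥E ≠ 4)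
    (s : G) (hs : s ∉ Subgroup.centralizer ({x} : Set G))
    (hs' : s * x * s⁻¹ ∈ Subgroup.centralizer ({x} : Set G)) : False := by
  have hP := pCore_two_eq_bot x hx hC4 hne
  have : Fact (Nat.Prime 2) := ⟨Nat.prime_two⟩
  have hFn : (Cfsg.fittingSubgroup G).Normal := inferInstance
  have hnil : Group.IsNilpotent (Cfsg.fittingSubgroup G) := Cfsg.Agent.H1.fittingSubgroup_nilpotent
  have hF2 : ∀ f ∈ Cfsg.fittingSubgroup G, f ^ 2 = 1 → f = 1 := by
    intro f hf hf2
    have := Cfsg.Agent.H2.EqOrdSyl.mem_pCore_of_mem_nilpotent_normal (Cfsg.fittingSubgroup G) hnil 2 f hf 1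
      (by simpa using hf2)
    rw [hP, Subgroup.mem_bot] at this
    exact this
  have hx2 : x ^ 2 = 1 := by rw [← hx, pow_orderOf_eq_one]
  have hxx : x * x = 1 := by rw [← pow_two]; exact hx2
  have hxinv : x⁻¹ = x := inv_eq_of_mul_eq_one_left hxx
  let φ : ↥(Cfsg.fittingSubgroup G) ≃* ↥(Cfsg.fittingSubgroup G) :=
    { toFun := fun f => ⟨x * f.1 * x⁻¹, hFn.conj_mem f.1 f.2 x⟩
      invFun := fun f => ⟨x⁻¹ * f.1 * x, by simpa using hFn.conj_mem f.1 f.2 x⁻¹⟩
      left_inv := fun f => Subtype.ext (by simp only; group)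
      right_inv := fun f => Subtype.ext (by simp only; group)
      map_mul' := fun a b => Subtype.ext (by simp only [Subgroup.coe_mul]; group) }
  have hφv : ∀ f, (φ f).1 = x * f.1 * x⁻¹ := fun f => rfl
  have hφ2 : ∀ f, φ (φ f) = f := by
    intro f
    apply Subtype.ext
    rw [hφv, hφv, hxinv]
    calc x * (x * f.1 * x) * x = (x * x) * f.1 * (x * x) := by group
      _ = f.1 := by rw [hxx, one_mul, mul_one]
  have hfpf : ∀ f, φ f = f → f = 1 := by
    intro f hf
    have h1 : x * f.1 * x⁻¹ = f.1 := by rw [← hφv, hf]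
    have h2 : f.1 ∈ Subgroup.centralizer ({x} : Set G) := by
      rw [Subgroup.mem_centralizer_iff]
      intro y hy; rw [Set.mem_singleton_iff] at hy; subst hy
      calc y * f.1 = (y * f.1 * y⁻¹) * y := by group
        _ = f.1 * y := by rw [h1]
    exact Subtype.ext (hF2 f.1 f.2 (hCe f.1 h2))
  have hinv := inverts_of_fpf φ hφ2 hfpf
  have hinv' : ∀ f ∈ Cfsg.fittingSubgroup G, x * f * x⁻¹ = f⁻¹ := by
    intro f hf
    have := congrArg Subtype.val (hinv ⟨f, hf⟩)
    rw [hφv] at this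
    simpa using this
  -- the conjugate x' also inverts
  have hinv'' : ∀ f ∈ Cfsg.fittingSubgroup G, (s * x * s⁻¹) * f * (s * x * s⁻¹)⁻¹ = f⁻¹ := by
    intro f hf
    have h1 : s⁻¹ * f * s ∈ Cfsg.fittingSubgroup G := by
      simpa using hFn.conj_mem f hf s⁻¹
    have h2 := hinv' _ h1
    calc (s * x * s⁻¹) * f * (s * x * s⁻¹)⁻¹ = s * (x * (s⁻¹ * f * s) * x⁻¹) * s⁻¹ := by group
      _ = s * (s⁻¹ * f * s)⁻¹ * s⁻¹ := by rw [h2]
      _ = f⁻¹ := by group
  have hzC : x * (s * x * s⁻¹) ∈ Subgroup.centralizer (Cfsg.fittingSubgroup G : Set G) := by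
    rw [Subgroup.mem_centralizer_iff]
    intro f hf
    have h1 := hinv'' f hf
    have h2 := hinv' f⁻¹ ((Cfsg.fittingSubgroup G).inv_mem hf)
    rw [inv_inv] at h2
    have h3 : (x * (s * x * s⁻¹)) * f * (x * (s * x * s⁻¹))⁻¹ = f := by
      calc (x * (s * x * s⁻¹)) * f * (x * (s * x * s⁻¹))⁻¹
          = x * ((s * x * s⁻¹) * f * (s * x * s⁻¹)⁻¹) * x⁻¹ := by group
        _ = x * f⁻¹ * x⁻¹ := by rw [h1]
        _ = f := h2
    calc f * (x * (s * x * s⁻¹)) = ((x * (s * x * s⁻¹)) * f * (x * (s * x * s⁻¹))⁻¹)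
          * (x * (s * x * s⁻¹)) := by rw [h3]
      _ = (x * (s * x * s⁻¹)) * f := by group
  have hzF : x * (s * x * s⁻¹) ∈ Cfsg.fittingSubgroup G := Cfsg.Agent.S0044.result hzC
  have hcomm : (s * x * s⁻¹) * x = x * (s * x * s⁻¹) := by
    rw [Subgroup.mem_centralizer_iff] at hs'
    exact (hs' x rfl).symm
  have hx'2 : (s * x * s⁻¹) * (s * x * s⁻¹) = 1 := by
    calc (s * x * s⁻¹) * (s * x * s⁻¹) = s * (x * x) * s⁻¹ := by group
      _ = 1 := by rw [hxx]; group
  have hz2 : (x * (s * x * s⁻¹)) ^ 2 = 1 := by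
    rw [pow_two]
    calc x * (s * x * s⁻¹) * (x * (s * x * s⁻¹))
        = x * ((s * x * s⁻¹) * x) * (s * x * s⁻¹) := by group
      _ = x * (x * (s * x * s⁻¹)) * (s * x * s⁻¹) := by rw [hcomm]
      _ = (x * x) * ((s * x * s⁻¹) * (s * x * s⁻¹)) := by group
      _ = 1 := by rw [hxx, hx'2, one_mul]
  have hz1 := hF2 _ hzF hz2
  apply hs
  rw [Subgroup.mem_centralizer_iff]
  intro y hy; rw [Set.mem_singleton_iff] at hy; subst hy
  have h1 : s * y * s⁻¹ = y := by
    have : s * y * s⁻¹ = y⁻¹ := (inv_eq_of_mul_eq_one_right hz1).symm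
    rw [this, hxinv]
  calc y * s = (s * y * s⁻¹)⁻¹⁻¹ * s := by rw [h1]; group
    _ = s * y := by group

end Cfsg.Agent.H2.V4c
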