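import Cfsg.Agent.H2.V4cB1
import Cfsg.Agent.S0111
import Cfsg.Agent.S0112
import Cfsg.Agent.S0113

set_option autoImplicit false
set_option maxHeartbeats 800000

namespace Cfsg.Agent.H2.V4c

variable {G : Type*} [Group G]

theorem self_mem_centralizer (x : G) : x ∈ Subgroup.centralizer ({x} : Set G) := by
  rw [Subgroup.mem_centralizer_iff]
  intro y hy; rw [Set.mem_singleton_iff] at hy; rw [hy]

theorem mem_centralizer_singleton {x c : G} :
    c ∈ Subgroup.centralizer ({x} : Set G) ↔ x * c = c * x := by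
  rw [Subgroup.mem_centralizer_iff]
  constructor
  · intro h; exact h x rfl
  · intro h y hy; rw [Set.mem_singleton_iff] at hy; rw [hy]; exact h

theorem inv_eq_self_of_sq {a : G} (h : a ^ 2 = 1) : a⁻¹ = a := by
  rw [pow_two] at h
  exact inv_eq_of_mul_eq_one_left h

theorem comm_of_exp_two {H : Subgroup G} (h : ∀ c ∈ H, c ^ 2 = 1) :
    ∀ a ∈ H, ∀ b ∈ H, a * b = b * a := by
  intro a ha b hb
  have h1 := inv_eq_self_of_sq (h a ha)
  have h2 := inv_eq_self_of_sq (h b hb)
  have h3 := inv_eq_self_of_sq (h (a * b) (H.mul_mem ha hb))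
  calc a * b = (a * b)⁻¹ := h3.symm
    _ = b⁻¹ * a⁻¹ := by group
    _ = b * a := by rw [h1, h2]

/-- A subgroup not containing `x` meets `C(x)` (of order 4) in at most 2 elements. -/
theorem card_inf_centralizer_le_two [Finite G] (x : G)
    (hC4 : Nat.card ↥(Subgroup.centralizer ({x} : Set G)) = 4) (H : Subgroup G) (hxH : x ∉ H) :
    Nat.card ↥(H ⊓ Subgroup.centralizer ({x} : Set G)) ≤ 2 := by
  have hle : H ⊓ Subgroup.centralizer ({x} : Set G) ≤
      Subgroup.centralizer ({x} : Set G) := inf_le_right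
  have hdvd := Subgroup.card_dvd_of_le hle
  rw [hC4] at hdvd
  have hne4 : Nat.card ↥(H ⊓ Subgroup.centralizer ({x} : Set G)) ≠ 4 := by
    intro h4'
    apply hxH
    have : H ⊓ Subgroup.centralizer ({x} : Set G) =
        Subgroup.centralizer ({x} : Set G) := by
      apply Subgroup.eq_of_le_of_card_ge hle
      rw [h4', hC4]
    have hx' : x ∈ H ⊓ Subgroup.centralizer ({x} : Set G) := by
      rw [this]; exact self_mem_centralizer x
    exact hx'.1
  have hle4 : Nat.card ↥(H ⊓ Subgroup.centralizer ({x} : Set G)) ≤ 4 :=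
    Nat.le_of_dvd (by norm_num) hdvd
  have hpos : 0 < Nat.card ↥(H ⊓ Subgroup.centralizer ({x} : Set G)) := Nat.card_pos
  interval_cases (Nat.card ↥(H ⊓ Subgroup.centralizer ({x} : Set G))) <;> omega

/-- A normal subgroup of index 2 avoiding `x` is solvable, hence so is `G`. -/
theorem solvable_of_index_two [Finite G] (x : G) (hx : orderOf x = 2)
    (hC4 : Nat.card ↥(Subgroup.centralizer ({x} : Set G)) = 4)
    (M : Subgroup G) (hMn : M.Normal) (hMi : M.index = 2) (hxM : x ∉ M) : Group.IsSolvable G := by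
  have hx2 : x ^ 2 = 1 := by rw [← hx, pow_orderOf_eq_one]
  have hxx : x * x = 1 := by rw [← pow_two]; exact hx2
  have hxinv : x⁻¹ = x := inv_eq_of_mul_eq_one_left hxx
  let φ : ↥M →* ↥M :=
    { toFun := fun m => ⟨x * m.1 * x⁻¹, hMn.conj_mem m.1 m.2 x⟩
      map_one' := Subtype.ext (by simp)
      map_mul' := fun a b => Subtype.ext (by simp only [Subgroup.coe_mul]; group) }
  have hφv : ∀ m, (φ m).1 = x * m.1 * x⁻¹ := fun m => rfl
  have hφ2 : ∀ m, φ (φ m) = m := by
    intro m
    apply Subtype.ext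
    rw [hφv, hφv, hxinv]
    calc x * (x * m.1 * x) * x = (x * x) * m.1 * (x * x) := by group
      _ = m.1 := by rw [hxx, one_mul, mul_one]
  have hfix : Nat.card {m : ↥M // φ m = m} ≤ 2 := by
    refine le_trans (Nat.card_le_card_of_injective
      (fun m : {m : ↥M // φ m = m} =>
        (⟨m.1.1, ?_⟩ : ↥(M ⊓ Subgroup.centralizer ({x} : Set G)))) ?_)
      (card_inf_centralizer_le_two x hC4 M hxM)
    · refine ⟨m.1.2, ?_⟩
      change (m.1.1 : G) ∈ Subgroup.centralizer ({x} : Set G)
      rw [mem_centralizer_singleton]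
      have h1 : x * m.1.1 * x⁻¹ = m.1.1 := by rw [← hφv, m.2]
      calc x * m.1.1 = (x * m.1.1 * x⁻¹) * x := by group
        _ = m.1.1 * x := by rw [h1]
    · intro a b hab
      apply Subtype.ext; apply Subtype.ext
      exact congrArg (fun t : ↥(M ⊓ Subgroup.centralizer ({x} : Set G)) => t.1) hab
  have hMs : Group.IsSolvable ↥M := solvable_of_involutive φ hφ2 hfix
  have hQs : Group.IsSolvable (G ⧸ M) := by
    apply solvable_of_card_le_7
    have : Nat.card (G ⧸ M) = 2 := hMi
    omega
  exact Group.isSolvable_of_ker_le_range M.subtype (QuotientGroup.mk' M) (by simp)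

/-- Case B: the Sylow 2-subgroup is strictly larger than `C(x)`. -/
theorem caseB [Finite G] (x : G) (hx : orderOf x = 2)
    (hC4 : Nat.card ↥(Subgroup.centralizer ({x} : Set G)) = 4)
    (hCe : ∀ c ∈ Subgroup.centralizer ({x} : Set G), c ^ 2 = 1)
    (hne : ∀ E : Subgroup G, E.Normal → Cfsg.IsElementaryAbelian 2 E →
      Nat.card ↥E ≠ 2 ∧ Nat.card ↥E ≠ 4)
    (S : Sylow 2 G) (hVS : Subgroup.centralizer ({x} : Set G) ≤ (S : Subgroup G))
    (hVne : Subgroup.centralizer ({x} : Set G) ≠ (S : Subgroup G)) : False := by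
  have : Fact (Nat.Prime 2) := ⟨Nat.prime_two⟩
  set V := Subgroup.centralizer ({x} : Set G) with hV
  have hxV : x ∈ V := self_mem_centralizer x
  have hxS : x ∈ (S : Subgroup G) := hVS hxV
  have hVcomm := comm_of_exp_two hCe
  -- order of S
  obtain ⟨n, hn⟩ := S.isPGroup'.exists_card_eq
  have hn' : Nat.card ↥(S : Subgroup G) = 2 ^ n := hn
  have hlt : 4 < Nat.card ↥(S : Subgroup G) := by
    have h1 := Subgroup.card_le_of_le hVS
    rw [hC4] at h1
    rcases Nat.lt_or_ge 4 (Nat.card ↥(S : Subgroup G)) with h | h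
    · exact h
    · exfalso
      apply hVne
      apply Subgroup.eq_of_le_of_card_ge hVS
      rw [hC4]; exact h
  have hn3 : 3 ≤ n := by
    by_contra hcon
    have : n ≤ 2 := by omega
    have h2 : 2 ^ n ≤ 2 ^ 2 := Nat.pow_le_pow_right (by norm_num) this
    rw [hn'] at hlt
    omega
  -- the self-centralizing subgroup of order 4
  set A : Subgroup ↥(S : Subgroup G) := V.subgroupOf (S : Subgroup G) with hA
  have hAcard : Nat.card A = 2 ^ 2 := by
    rw [Nat.card_congr (Subgroup.subgroupOfEquivOfLe hVS).toEquiv, hC4]; norm_num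
  have hAC : Subgroup.centralizer (A : Set ↥(S : Subgroup G)) = A := by
    ext c
    constructor
    · intro hc
      rw [Subgroup.mem_centralizer_iff] at hc
      have h1 := hc ⟨x, hxS⟩ (by
        change (⟨x, hxS⟩ : ↥(S : Subgroup G)) ∈ V.subgroupOf (S : Subgroup G)
        rw [Subgroup.mem_subgroupOf]; exact hxV)
      have h2 : x * c.1 = c.1 * x := congrArg Subtype.val h1
      rw [hA, Subgroup.mem_subgroupOf]
      exact mem_centralizer_singleton.mpr h2
    · intro hc
      rw [hA, Subgroup.mem_subgroupOf] at hc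
      rw [Subgroup.mem_centralizer_iff]
      intro a ha
      have ha' : a.1 ∈ V := by
        have : a ∈ V.subgroupOf (S : Subgroup G) := ha
        rwa [Subgroup.mem_subgroupOf] at this
      exact Subtype.ext (hVcomm a.1 ha' c.1 hc)
  have hclass := Cfsg.Agent.S0112.result (X := ↥(S : Subgroup G)) (p := 2) n hn' A hAcard hAC
  obtain ⟨C, hCcyc, hCidx⟩ := Cfsg.Agent.S0113.result n hn3 hn' hclass
  -- the cyclic subgroup of index 2
  set Q : Subgroup G := C.map (S : Subgroup G).subtype with hQ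
  have hQS : Q ≤ (S : Subgroup G) := Subgroup.map_subtype_le C
  have hQi : Q.relIndex (S : Subgroup G) = 2 := by
    rw [Subgroup.relIndex, hQ, Subgroup.subgroupOf,
      Subgroup.comap_map_eq_self_of_injective (Subgroup.subtype_injective _)]
    exact hCidx
  have hCcard : 4 ≤ Nat.card C := by
    have h1 := Subgroup.card_mul_index C
    rw [hCidx, hn'] at h1
    have h2 : 2 ^ 3 ≤ 2 ^ n := Nat.pow_le_pow_right (by norm_num) hn3
    omega
  -- no conjugate of x lies in Q
  have hnoconj : ∀ g : G, g * x * g⁻¹ ∉ Q := by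
    intro g hg
    obtain ⟨u, huC, hu⟩ := hg
    have hCcomm : ∀ a b : ↥C, a * b = b * a := by
      intro a b
      have : IsCyclic ↥C := hCcyc
      exact (IsCyclic.commGroup (α := ↥C)).mul_comm a b
    have hsq : ∀ c : ↥C, c ^ 2 = 1 := by
      intro c
      have h1 := hCcomm c ⟨u, huC⟩
      have h2 : c.1.1 * (g * x * g⁻¹) = (g * x * g⁻¹) * c.1.1 := by
        have := congrArg (fun t : ↥C => (t.1.1 : G)) h1
        simp only [Subgroup.coe_mul] at this
        rw [← hu]; exact this
      have h3 : g⁻¹ * c.1.1 * g ∈ V := by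
        rw [mem_centralizer_singleton]
        calc x * (g⁻¹ * c.1.1 * g) = g⁻¹ * ((g * x * g⁻¹) * c.1.1) * g := by group
          _ = g⁻¹ * (c.1.1 * (g * x * g⁻¹)) * g := by rw [h2]
          _ = g⁻¹ * c.1.1 * g * x := by group
      have h4 := hCe _ h3
      have h5 : (c.1.1 : G) ^ 2 = 1 := by
        have : (g⁻¹ * c.1.1 * g) ^ 2 = g⁻¹ * (c.1.1) ^ 2 * g := by
          rw [pow_two, pow_two]; group
        rw [this] at h4
        calc (c.1.1 : G) ^ 2 = g * (g⁻¹ * (c.1.1) ^ 2 * g) * g⁻¹ := by group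
          _ = 1 := by rw [h4]; group
      apply Subtype.ext; apply Subtype.ext
      simpa using h5
    have : IsCyclic ↥C := hCcyc
    obtain ⟨gen, hgen⟩ := IsCyclic.exists_generator (α := ↥C)
    have hord : orderOf gen = Nat.card ↥C := orderOf_eq_card_of_forall_mem_zpowers hgen
    have h2 : orderOf gen ∣ 2 := orderOf_dvd_of_pow_eq_one (hsq gen)
    have h3 := Nat.le_of_dvd (by norm_num) h2
    omega
  have hxQ : x ∉ Q := by
    have := hnoconj 1
    simpa using this
  rcases Cfsg.Agent.S0111.result S Q hQS hQi x hx hxS hxQ with ⟨M, hMn, hMi, hxM⟩ | ⟨g, hg⟩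
  · have hsolv : Group.IsSolvable G := solvable_of_index_two x hx hC4 M hMn hMi hxM
    -- the normalizer condition
    have hnil : Group.IsNilpotent ↥(S : Subgroup G) := S.isPGroup'.isNilpotent
    have hAtop : A < ⊤ := by
      rw [lt_top_iff_ne_top]
      intro htop
      apply hVne
      apply le_antisymm hVS
      intro s hs
      have : (⟨s, hs⟩ : ↥(S : Subgroup G)) ∈ A := by rw [htop]; trivial
      rw [hA, Subgroup.mem_subgroupOf] at this
      exact this
    have hnc := Group.normalizerCondition_of_isNilpotent (G := ↥(S : Subgroup G)) A hAtop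
    obtain ⟨s, hsN, hsA⟩ := SetLike.exists_of_lt hnc
    have hs1 : s.1 ∉ V := by
      intro h; apply hsA; rw [hA, Subgroup.mem_subgroupOf]; exact h
    have hs2 : s.1 * x * s.1⁻¹ ∈ V := by
      rw [Subgroup.mem_normalizer_iff] at hsN
      have hxA : (⟨x, hxS⟩ : ↥(S : Subgroup G)) ∈ A := by
        rw [hA, Subgroup.mem_subgroupOf]; exact hxV
      have := (hsN ⟨x, hxS⟩).mp hxA
      rw [hA, Subgroup.mem_subgroupOf] at this
      simpa using this
    exact false_of_solvable x hx hC4 hCe hne s.1 hs1 hs2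
  · exact hnoconj g hg

end Cfsg.Agent.H2.V4c
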