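import Cfsg.Agent.H2.V4cCount

set_option autoImplicit false
set_option maxHeartbeats 800000

namespace Cfsg.Agent.H2.V4c

open Finset

variable {L : Type*} [Group L] [Finite L]

theorem exists_large_centralizer (φ : L ≃* L) (hφ : ∀ l, φ (φ l) = l)
    (hfix : Nat.card {l : L // φ l = l} = 2) (hL : 8 ≤ Nat.card L) :
    ∃ w : L, w ^ 2 ≠ 1 ∧
      Nat.card L ≤ 4 * Nat.card (Subgroup.centralizer ({w} : Set L)) + 2 := by
  classical
  have : Fintype L := Fintype.ofFinite L
  by_contra hcon
  push Not at hcon
  -- the nonidentity fixed point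
  obtain ⟨a, b, hab, huniv⟩ := Nat.card_eq_two_iff.mp hfix
  have h1fix : φ (1 : L) = 1 := map_one φ
  have hmem : ∀ l : L, φ l = l → l = a.1 ∨ l = b.1 := by
    intro l hl
    have : (⟨l, hl⟩ : {l : L // φ l = l}) ∈ ({a, b} : Set _) := by rw [huniv]; trivial
    rcases this with h | h
    · left; exact congrArg Subtype.val h
    · right; exact congrArg Subtype.val h
  obtain ⟨z, hz1, hzfix, hzall⟩ : ∃ z : L, z ≠ 1 ∧ φ z = z ∧ ∀ l, φ l = l → l = 1 ∨ l = z := by
    rcases hmem 1 h1fix with h | h
    · refine ⟨b.1, ?_, b.2, ?_⟩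
      · intro hb; apply hab; apply Subtype.ext; rw [← h, hb]
      · intro l hl; rcases hmem l hl with h' | h'
        · left; rw [h', ← h]
        · right; exact h'
    · refine ⟨a.1, ?_, a.2, ?_⟩
      · intro ha; apply hab; apply Subtype.ext; rw [← h, ha]
      · intro l hl; rcases hmem l hl with h' | h'
        · right; exact h'
        · left; rw [h', ← h]
  have hz2 : z ^ 2 = 1 := by
    have : φ (z * z) = z * z := by rw [map_mul, hzfix]
    rcases hzall _ this with h | h
    · rw [pow_two]; exact h
    · exfalso; apply hz1; simpa using h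
  -- the twisted commutator map
  set θ : L → L := fun l => (φ l)⁻¹ * l with hθ
  set U : Finset L := univ.image θ with hU
  have hUinv : ∀ u ∈ U, φ u = u⁻¹ := by
    intro u hu
    obtain ⟨l, -, rfl⟩ := mem_image.mp hu
    simp only [hθ, map_mul, map_inv, hφ]
    group
  have hfiber : ∀ l₀ l : L, θ l = θ l₀ ↔ l = l₀ ∨ l = z * l₀ := by
    intro l₀ l
    constructor
    · intro h
      simp only [hθ] at h
      have h1 : φ (l * l₀⁻¹) = l * l₀⁻¹ := by
        have : φ l = l * l₀⁻¹ * φ l₀ := by
          have h2 : (φ l)⁻¹ = (φ l₀)⁻¹ * l₀ * l⁻¹ := by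
            calc (φ l)⁻¹ = (φ l)⁻¹ * l * l⁻¹ := by group
              _ = (φ l₀)⁻¹ * l₀ * l⁻¹ := by rw [h]
          have h3 := congrArg (·⁻¹) h2
          simp only [inv_inv, mul_inv_rev] at h3
          rw [h3]; group
        rw [map_mul, map_inv, this]; group
      rcases hzall _ h1 with h2 | h2
      · left; exact mul_inv_eq_one.mp h2
      · right; rw [← h2]; group
    · rintro (rfl | rfl)
      · rfl
      · simp only [hθ, map_mul, hzfix]; group
  have hcardU : U.card * 2 = Fintype.card L := by
    have h1 : (univ : Finset L).card = ∑ u ∈ U, (univ.filter (fun l => θ l = u)).card :=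
      card_eq_sum_card_image θ univ
    have h2 : ∀ u ∈ U, (univ.filter (fun l => θ l = u)).card = 2 := by
      intro u hu
      obtain ⟨l₀, -, rfl⟩ := mem_image.mp hu
      have : univ.filter (fun l => θ l = θ l₀) = {l₀, z * l₀} := by
        ext l; simp only [mem_filter, mem_univ, true_and, mem_insert, mem_singleton]
        exact hfiber l₀ l
      rw [this, card_pair]
      intro h; apply hz1
      have := congrArg (· * l₀⁻¹) h
      simp only [mul_inv_cancel, mul_inv_cancel_right] at this
      exact this.symm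
    rw [sum_congr rfl h2, sum_const, smul_eq_mul] at h1
    rw [← h1, card_univ]
  set k := U.card with hk
  have hcardL : Nat.card L = 2 * k := by
    rw [Nat.card_eq_fintype_card, ← hcardU]; ring
  have hk4 : 4 ≤ k := by omega
  -- pairs
  set f : L × L → L := fun p => p.1⁻¹ * p.2 with hf
  set P : Finset (L × L) := U ×ˢ U with hP
  have hPcard : P.card = k * k := by rw [hP, card_product]
  set Pa : Finset (L × L) := P.filter (fun p => (f p) ^ 2 = 1) with hPa
  set Pb : Finset (L × L) := P.filter (fun p => ¬ (f p) ^ 2 = 1) with hPb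
  have hsplit : Pa.card + Pb.card = k * k := by
    rw [← hPcard, hPa, hPb]
    exact card_filter_add_card_filter_not (s := P) (fun p => (f p) ^ 2 = 1)
  -- key relation
  have hkey : ∀ u w : L, u ∈ U → u * w ∈ U → φ w = u * w⁻¹ * u⁻¹ := by
    intro u w hu huw
    have h1 := hUinv u hu
    have h2 := hUinv _ huw
    rw [map_mul, h1] at h2
    have : φ w = u * (u⁻¹ * φ w) := by group
    rw [this, h2]; group
  -- Pa bound
  have hPa_le : Pa.card ≤ 2 * k := by
    set Pa1 : Finset (L × L) := Pa.filter (fun p => f p = 1) with hPa1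
    set Pa2 : Finset (L × L) := Pa.filter (fun p => ¬ f p = 1) with hPa2
    have hs : Pa1.card + Pa2.card = Pa.card :=
      card_filter_add_card_filter_not (s := Pa) (fun p => f p = 1)
    have h1 : Pa1.card ≤ k := by
      apply card_le_card_of_injOn (fun p => p.1)
      · intro p hp
        have hp := Finset.mem_coe.mp hp
        simp only [hPa1, hPa, hP, mem_filter, mem_product] at hp
        exact Finset.mem_coe.mpr hp.1.1.1
      · intro p hp q hq hpq
        have hp := Finset.mem_coe.mp hp
        have hq := Finset.mem_coe.mp hq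
        simp only [hPa1, hPa, hP, hf, mem_filter, mem_product] at hp hq
        have hp2 : p.2 = p.1 := by
          have := hp.2; exact (inv_mul_eq_one.mp this).symm
        have hq2 : q.2 = q.1 := by
          have := hq.2; exact (inv_mul_eq_one.mp this).symm
        simp only at hpq
        exact Prod.ext hpq (by rw [hp2, hq2, hpq])
    have h2 : Pa2.card ≤ k := by
      apply card_le_card_of_injOn (fun p => p.1)
      · intro p hp
        have hp := Finset.mem_coe.mp hp
        simp only [hPa2, hPa, hP, mem_filter, mem_product] at hp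
        exact Finset.mem_coe.mpr hp.1.1.1
      · intro p hp q hq hpq
        have hp := Finset.mem_coe.mp hp
        have hq := Finset.mem_coe.mp hq
        simp only [hPa2, hPa, hP, hf, mem_filter, mem_product] at hp hq
        simp only at hpq
        obtain ⟨⟨⟨hp1, hp2⟩, hpsq⟩, hpne⟩ := hp
        obtain ⟨⟨⟨hq1, hq2⟩, hqsq⟩, hqne⟩ := hq
        -- u := p.1 = q.1 = θ l
        obtain ⟨l, -, hl⟩ := mem_image.mp hp1
        -- for w = u⁻¹ u', w fixed by ψ
        have hfixw : ∀ w : L, w ^ 2 = 1 → p.1 * w ∈ U → w = 1 ∨ w = l⁻¹ * z * l := by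
          intro w hw huw
          have hk1 := hkey p.1 w hp1 huw
          have hwinv : w⁻¹ = w := by
            have : w * w = 1 := by rw [← pow_two]; exact hw
            exact inv_eq_of_mul_eq_one_left this
          rw [hwinv] at hk1
          -- φ (l w l⁻¹) = l w l⁻¹
          have h3 : φ (l * w * l⁻¹) = l * w * l⁻¹ := by
            rw [map_mul, map_mul, map_inv, hk1, ← hl]
            simp only [hθ]; group
          rcases hzall _ h3 with h4 | h4
          · left
            have : l⁻¹ * (l * w * l⁻¹) * l = l⁻¹ * 1 * l := by rw [h4]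
            have e : l⁻¹ * (l * w * l⁻¹) * l = w := by group
            rw [e] at this; rw [this]; group
          · right
            have : l⁻¹ * (l * w * l⁻¹) * l = l⁻¹ * z * l := by rw [h4]
            have e : l⁻¹ * (l * w * l⁻¹) * l = w := by group
            rw [e] at this; exact this
        have hp' : p.1 * (p.1⁻¹ * p.2) ∈ U := by rw [mul_inv_cancel_left]; exact hp2
        have hq' : p.1 * (q.1⁻¹ * q.2) ∈ U := by rw [hpq, mul_inv_cancel_left]; exact hq2
        have e1 := (hfixw _ hpsq hp').resolve_left hpne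
        have e2 := (hfixw _ hqsq hq').resolve_left hqne
        have e3 : p.1⁻¹ * p.2 = q.1⁻¹ * q.2 := by rw [e1, e2]
        rw [hpq] at e3
        exact Prod.ext hpq (mul_left_cancel e3)
    omega
  -- Pb bound
  set W : Finset L := univ.filter (fun w => ¬ w ^ 2 = 1) with hW
  have hPb_eq : Pb.card = ∑ w ∈ W, (Pb.filter (fun p => f p = w)).card := by
    apply card_eq_sum_card_fiberwise
    intro p hp
    have hp := Finset.mem_coe.mp hp
    simp only [hPb, mem_filter] at hp
    apply Finset.mem_coe.mpr
    simp only [hW, mem_filter, mem_univ, true_and]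
    exact hp.2
  have hN_le : ∀ w ∈ W, (Pb.filter (fun p => f p = w)).card ≤
      Nat.card (Subgroup.centralizer ({w} : Set L)) := by
    intro w hw
    by_cases hne : (Pb.filter (fun p => f p = w)).Nonempty
    · obtain ⟨p₀, hp₀⟩ := hne
      simp only [hPb, hP, hf, mem_filter, mem_product] at hp₀
      obtain ⟨⟨⟨hp₀1, hp₀2⟩, -⟩, hp₀w⟩ := hp₀
      have hp₀' : p₀.1 * w ∈ U := by rw [← hp₀w, mul_inv_cancel_left]; exact hp₀2
      have hφw := hkey _ _ hp₀1 hp₀'
      have hcent : ∀ p ∈ Pb.filter (fun p => f p = w),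
          p₀.1⁻¹ * p.1 ∈ Subgroup.centralizer ({w} : Set L) := by
        intro p hp
        simp only [hPb, hP, hf, mem_filter, mem_product] at hp
        obtain ⟨⟨⟨hp1, hp2⟩, -⟩, hpw⟩ := hp
        have hp' : p.1 * w ∈ U := by rw [← hpw, mul_inv_cancel_left]; exact hp2
        have h1 := hkey _ _ hp1 hp'
        rw [hφw] at h1
        rw [Subgroup.mem_centralizer_iff]
        intro y hy
        rw [Set.mem_singleton_iff] at hy
        subst hy
        have h2 : p₀.1⁻¹ * p.1 * y⁻¹ = y⁻¹ * (p₀.1⁻¹ * p.1) := by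
          have : p₀.1⁻¹ * (p₀.1 * y⁻¹ * p₀.1⁻¹) * p.1 = p₀.1⁻¹ * (p.1 * y⁻¹ * p.1⁻¹) * p.1 := by
            rw [h1]
          have e1 : p₀.1⁻¹ * (p₀.1 * y⁻¹ * p₀.1⁻¹) * p.1 = y⁻¹ * (p₀.1⁻¹ * p.1) := by group
          have e2 : p₀.1⁻¹ * (p.1 * y⁻¹ * p.1⁻¹) * p.1 = p₀.1⁻¹ * p.1 * y⁻¹ := by group
          rw [e1, e2] at this
          exact this.symm
        have h3 : y * (p₀.1⁻¹ * p.1 * y⁻¹) * y = y * (y⁻¹ * (p₀.1⁻¹ * p.1)) * y := by rw [h2]
        have e3 : y * (p₀.1⁻¹ * p.1 * y⁻¹) * y = y * (p₀.1⁻¹ * p.1) := by group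
        have e4 : y * (y⁻¹ * (p₀.1⁻¹ * p.1)) * y = p₀.1⁻¹ * p.1 * y := by group
        rw [e3, e4] at h3
        exact h3
      rw [Nat.card_eq_fintype_card, ← Fintype.card_coe]
      apply Fintype.card_le_of_injective
        (fun p : {p // p ∈ Pb.filter (fun p => f p = w)} =>
          (⟨p₀.1⁻¹ * p.1.1, hcent p.1 p.2⟩ : Subgroup.centralizer ({w} : Set L)))
      intro p q hpq
      have h1 : p₀.1⁻¹ * p.1.1 = p₀.1⁻¹ * q.1.1 := congrArg Subtype.val hpq
      have h2 : p.1.1 = q.1.1 := mul_left_cancel h1
      have hp := p.2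
      have hq := q.2
      simp only [hf, mem_filter] at hp hq
      have h3 : p.1.1⁻¹ * p.1.2 = q.1.1⁻¹ * q.1.2 := by rw [hp.2, hq.2]
      rw [h2] at h3
      exact Subtype.ext (Prod.ext h2 (mul_left_cancel h3))
    · rw [not_nonempty_iff_eq_empty] at hne
      rw [hne, card_empty]; exact Nat.zero_le _
  have hWcard : W.card + 2 ≤ 2 * k := by
    have h1 : W ⊆ univ \ {1, z} := by
      intro w hw
      simp only [hW, mem_filter, mem_univ, true_and] at hw
      simp only [mem_sdiff, mem_univ, true_and, mem_insert, mem_singleton]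
      rintro (rfl | rfl)
      · exact hw (one_pow 2)
      · exact hw hz2
    have h2 := card_le_card h1
    rw [card_sdiff_of_subset (subset_univ _), card_univ, card_pair hz1.symm,
      ← Nat.card_eq_fintype_card, hcardL] at h2
    omega
  have hsum : 4 * Pb.card ≤ W.card * (2 * k - 3) := by
    rw [hPb_eq, mul_sum]
    calc ∑ w ∈ W, 4 * (Pb.filter (fun p => f p = w)).card
        ≤ ∑ w ∈ W, (2 * k - 3) := by
          apply sum_le_sum
          intro w hw
          have h1 := hN_le w hw
          have hw' : w ^ 2 ≠ 1 := by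
            simp only [hW, mem_filter, mem_univ, true_and] at hw; exact hw
          have h2 := hcon w hw'
          rw [hcardL] at h2
          omega
      _ = W.card * (2 * k - 3) := by rw [sum_const, smul_eq_mul]
  -- final arithmetic
  have hW2 : W.card ≤ 2 * k - 2 := by omega
  have h5 : 4 * Pb.card ≤ (2 * k - 2) * (2 * k - 3) :=
    le_trans hsum (Nat.mul_le_mul_right _ hW2)
  obtain ⟨j, hj⟩ : ∃ j, k = j + 4 := ⟨k - 4, by omega⟩
  rw [hj] at h5 hsplit hPa_le
  have e1 : 2 * (j + 4) - 2 = 2 * j + 6 := by omega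
  have e2 : 2 * (j + 4) - 3 = 2 * j + 5 := by omega
  rw [e1, e2] at h5
  nlinarith

end Cfsg.Agent.H2.V4c
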