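import Mathlib

set_option autoImplicit false

/-!
# Counting lemma for an involutory automorphism with two fixed points

Brauer–Fowler style counting, used for S3277.
-/

namespace Cfsg.Agent.H2.V4c

open Finset

variable {L : Type*} [Group L] [Finite L]

/-- An involutory fixed-point-free automorphism of a finite group is inversion. -/
theorem inverts_of_fpf (φ : L ≃* L) (hφ : ∀ l, φ (φ l) = l) (hfpf : ∀ l, φ l = l → l = 1) :
    ∀ l, φ l = l⁻¹ := by
  have hinj : Function.Injective (fun l : L => l⁻¹ * φ l) := by
    intro a b hab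
    simp only at hab
    have hb : φ b = b * a⁻¹ * φ a := by
      calc φ b = b * (b⁻¹ * φ b) := by group
        _ = b * (a⁻¹ * φ a) := by rw [hab]
        _ = b * a⁻¹ * φ a := by group
    have h1 : φ (b * a⁻¹) = b * a⁻¹ := by
      rw [map_mul, map_inv, hb]; group
    have h2 := hfpf _ h1
    exact (mul_inv_eq_one.mp h2).symm
  have hsurj : Function.Surjective (fun l : L => l⁻¹ * φ l) :=
    Finite.surjective_of_injective hinj
  intro l
  obtain ⟨a, ha⟩ := hsurj l
  simp only at ha
  rw [← ha, map_mul, map_inv, hφ]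
  group

/-- A finite group with an involutory fixed-point-free automorphism is commutative. -/
theorem comm_of_fpf (φ : L ≃* L) (hφ : ∀ l, φ (φ l) = l) (hfpf : ∀ l, φ l = l → l = 1)
    (a b : L) : a * b = b * a := by
  have h := inverts_of_fpf φ hφ hfpf
  have h1 : φ (a⁻¹ * b⁻¹) = (a⁻¹ * b⁻¹)⁻¹ := h _
  rw [map_mul, h, h] at h1
  simpa using h1

end Cfsg.Agent.H2.V4c
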