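import Cfsg.Agent.H2.V4cCnt
import Cfsg.Agent.S0144

set_option autoImplicit false
set_option maxHeartbeats 800000

namespace Cfsg.Agent.H2.V4c

open Finset

universe u

theorem solvable_of_card_dvd_24 {L : Type*} [Group L] [Finite L] (h : Nat.card L ∣ 24) :
    Group.IsSolvable L := by
  have h24 : Nat.card L ∈ Nat.divisors 24 := by simp [h]
  have hd : Nat.divisors 24 = {1, 2, 3, 4, 6, 8, 12, 24} := by decide
  rw [hd] at h24
  simp only [mem_insert, mem_singleton] at h24
  rcases h24 with h | h | h | h | h | h | h | h
  · exact Cfsg.Agent.S0144.result 2 3 0 0 Nat.prime_two Nat.prime_three (by rw [h]; norm_num)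
  · exact Cfsg.Agent.S0144.result 2 3 1 0 Nat.prime_two Nat.prime_three (by rw [h]; norm_num)
  · exact Cfsg.Agent.S0144.result 2 3 0 1 Nat.prime_two Nat.prime_three (by rw [h]; norm_num)
  · exact Cfsg.Agent.S0144.result 2 3 2 0 Nat.prime_two Nat.prime_three (by rw [h]; norm_num)
  · exact Cfsg.Agent.S0144.result 2 3 1 1 Nat.prime_two Nat.prime_three (by rw [h]; norm_num)
  · exact Cfsg.Agent.S0144.result 2 3 3 0 Nat.prime_two Nat.prime_three (by rw [h]; norm_num)
  · exact Cfsg.Agent.S0144.result 2 3 2 1 Nat.prime_two Nat.prime_three (by rw [h]; norm_num)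
  · exact Cfsg.Agent.S0144.result 2 3 3 1 Nat.prime_two Nat.prime_three (by rw [h]; norm_num)

theorem solvable_of_card_le_7 {L : Type*} [Group L] [Finite L] (h : Nat.card L ≤ 7) :
    Group.IsSolvable L := by
  have hpos : 0 < Nat.card L := Nat.card_pos
  have h1 : Nat.card L = 1 ∨ Nat.card L = 2 ∨ Nat.card L = 3 ∨ Nat.card L = 4 ∨
      Nat.card L = 5 ∨ Nat.card L = 6 ∨ Nat.card L = 7 := by omega
  rcases h1 with h | h | h | h | h | h | h
  · exact solvable_of_card_dvd_24 (by rw [h]; norm_num)
  · exact solvable_of_card_dvd_24 (by rw [h]; norm_num)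
  · exact solvable_of_card_dvd_24 (by rw [h]; norm_num)
  · exact solvable_of_card_dvd_24 (by rw [h]; norm_num)
  · exact Cfsg.Agent.S0144.result 5 2 1 0 (by norm_num) Nat.prime_two (by rw [h]; norm_num)
  · exact solvable_of_card_dvd_24 (by rw [h]; norm_num)
  · exact Cfsg.Agent.S0144.result 7 2 1 0 (by norm_num) Nat.prime_two (by rw [h]; norm_num)

/-- Fixed points of an induced endomorphism on a quotient are at most as many as those of the
endomorphism. -/
theorem card_fix_quotient_le {L : Type*} [Group L] [Finite L] (φ : L →* L) (A : Subgroup L)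
    [A.Normal] (hA : A ≤ A.comap φ) :
    Nat.card {q : L ⧸ A // QuotientGroup.map A A φ hA q = q} ≤ Nat.card {l : L // φ l = l} := by
  classical
  have : Fintype L := Fintype.ofFinite L
  set φQ := QuotientGroup.map A A φ hA with hφQ
  -- the subgroup of fixed points in the quotient
  let E : Subgroup (L ⧸ A) := φQ.eqLocus (MonoidHom.id _)
  have hE : ∀ q, q ∈ E ↔ φQ q = q := fun q => Iff.rfl
  let X : Subgroup L := E.comap (QuotientGroup.mk' A)
  have hX : ∀ l, l ∈ X ↔ l⁻¹ * φ l ∈ A := by
    intro l
    change φQ (QuotientGroup.mk l) = QuotientGroup.mk l ↔ _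
    rw [hφQ, QuotientGroup.map_mk, eq_comm, QuotientGroup.eq]
  have hcardX : Nat.card X = Nat.card E * Nat.card A := by
    have h1 : X.index = E.index :=
      Subgroup.index_comap_of_surjective E (QuotientGroup.mk'_surjective A)
    have h2 := Subgroup.card_mul_index X
    have h3 := Subgroup.card_mul_index E
    have h4 := Subgroup.card_eq_card_quotient_mul_card_subgroup A
    have h5 : E.index ≠ 0 := Subgroup.index_ne_zero_of_finite
    have h6 : Nat.card X * E.index = Nat.card E * Nat.card A * E.index := by
      rw [← h1, h2, h4, ← h3, h1]; ring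
    exact Nat.eq_of_mul_eq_mul_right (Nat.pos_of_ne_zero h5) h6
  -- counting the fibres of τ
  set τ : L → L := fun l => l⁻¹ * φ l with hτ
  set Xf : Finset L := univ.filter (fun l => l ∈ X) with hXf
  set Af : Finset L := univ.filter (fun l => l ∈ A) with hAf
  have hXfc : Xf.card = Nat.card X := by
    rw [Nat.card_eq_fintype_card, Fintype.card_subtype]
  have hAfc : Af.card = Nat.card A := by
    rw [Nat.card_eq_fintype_card, Fintype.card_subtype]
  set F : Finset L := univ.filter (fun l => φ l = l) with hF
  have hFc : F.card = Nat.card {l : L // φ l = l} := by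
    rw [Nat.card_eq_fintype_card, Fintype.card_subtype]
  have himg : Xf.image τ ⊆ Af := by
    intro a ha
    obtain ⟨l, hl, rfl⟩ := mem_image.mp ha
    simp only [hXf, mem_filter, mem_univ, true_and] at hl
    simp only [hAf, mem_filter, mem_univ, true_and]
    exact (hX l).mp hl
  have hfib : ∀ a ∈ Xf.image τ, (Xf.filter (fun x => τ x = a)).card ≤ F.card := by
    intro a ha
    obtain ⟨l₀, -, rfl⟩ := mem_image.mp ha
    apply card_le_card_of_injOn (fun x => x * l₀⁻¹)
    · intro x hx
      have hx := Finset.mem_coe.mp hx
      simp only [mem_filter, hτ] at hx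
      apply Finset.mem_coe.mpr
      simp only [hF, mem_filter, mem_univ, true_and]
      have h1 : φ x = x * l₀⁻¹ * φ l₀ := by
        calc φ x = x * (x⁻¹ * φ x) := by group
          _ = x * (l₀⁻¹ * φ l₀) := by rw [hx.2]
          _ = x * l₀⁻¹ * φ l₀ := by group
      rw [map_mul, map_inv, h1]; group
    · intro x _ y _ hxy
      exact mul_right_cancel hxy
  have h1 := Finset.card_le_mul_card_image Xf F.card hfib
  have h2 := card_le_card himg
  have h3 : Nat.card E * Nat.card A ≤ Nat.card {l : L // φ l = l} * Nat.card A := by
    rw [← hcardX, ← hXfc, ← hFc, ← hAfc]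
    exact le_trans h1 (Nat.mul_le_mul_left _ h2)
  have h4 : 0 < Nat.card A := Nat.card_pos
  have h5 : Nat.card E ≤ Nat.card {l : L // φ l = l} := Nat.le_of_mul_le_mul_right h3 h4
  exact h5

theorem solvable_of_involutive_aux (n : ℕ) : ∀ (L : Type u) [Group L] [Finite L] (φ : L →* L),
    (∀ l, φ (φ l) = l) → Nat.card {l : L // φ l = l} ≤ 2 → Nat.card L ≤ n →
    Group.IsSolvable L := by
  induction n with
  | zero =>
    intro L _ _ φ _ _ h
    exfalso
    have := Nat.card_pos (α := L)
    omega
  | succ n ih =>
    intro L _ _ φ hφ hfix hcard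
    classical
    -- Step 1: a proper nontrivial φ-invariant normal subgroup finishes by induction.
    have step1 : ∀ T : Subgroup L, T.Normal → T.map φ ≤ T → T ≠ ⊥ → T ≠ ⊤ →
        Group.IsSolvable L := by
      intro T hTn hTφ hTbot hTtop
      have hTφ' : ∀ t ∈ T, φ t ∈ T := fun t ht => hTφ (Subgroup.mem_map_of_mem φ ht)
      let φT : T →* T := (φ.comp T.subtype).codRestrict T (fun t => hTφ' t t.2)
      have h1 : ∀ t, φT (φT t) = t := fun t => Subtype.ext (hφ t)
      have h2 : Nat.card {t : T // φT t = t} ≤ 2 := by
        refine le_trans (Nat.card_le_card_of_injective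
          (fun t => (⟨t.1.1, congrArg Subtype.val t.2⟩ : {l : L // φ l = l})) ?_) hfix
        intro a b hab
        apply Subtype.ext; apply Subtype.ext
        exact congrArg (fun t : {l : L // φ l = l} => t.1) hab
      have hcq := Subgroup.card_eq_card_quotient_mul_card_subgroup T
      have hT1 : 1 < Nat.card T := T.one_lt_card_iff_ne_bot.mpr hTbot
      have hQ1 : 1 < Nat.card (L ⧸ T) := by
        by_contra hcon
        have hq : Nat.card (L ⧸ T) = 1 := by
          have : 0 < Nat.card (L ⧸ T) := Nat.card_pos
          omega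
        rw [hq, one_mul] at hcq
        exact hTtop (Subgroup.eq_top_of_card_eq T hcq.symm)
      have h3 : Nat.card T ≤ n := by
        have : Nat.card T * 2 ≤ Nat.card L := by
          rw [hcq, mul_comm]; exact Nat.mul_le_mul_right _ hQ1
        omega
      have h6 : Nat.card (L ⧸ T) ≤ n := by
        have : Nat.card (L ⧸ T) * 2 ≤ Nat.card L := by
          rw [hcq]; exact Nat.mul_le_mul_left _ hT1
        omega
      have hTs : Group.IsSolvable T := ih T φT h1 h2 h3
      have hA : T ≤ T.comap φ := fun t ht => hTφ' t ht
      have h4 : ∀ q, QuotientGroup.map T T φ hA (QuotientGroup.map T T φ hA q) = q := by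
        intro q
        induction q using QuotientGroup.induction_on with
        | H l => rw [QuotientGroup.map_mk, QuotientGroup.map_mk, hφ]
      have h5 : Nat.card {q // QuotientGroup.map T T φ hA q = q} ≤ 2 :=
        le_trans (card_fix_quotient_le φ T hA) hfix
      have hQs : Group.IsSolvable (L ⧸ T) := ih (L ⧸ T) (QuotientGroup.map T T φ hA) h4 h5 h6
      exact Group.isSolvable_of_ker_le_range T.subtype (QuotientGroup.mk' T) (by simp)
    by_contra hns
    -- Step 2: every normal subgroup is trivial or everything.
    have hsurj : Function.Surjective φ := fun l => ⟨φ l, hφ l⟩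
    have hinj : Function.Injective φ := by
      intro a b hab
      have := congrArg φ hab
      rwa [hφ, hφ] at this
    have hcomp : φ.comp φ = MonoidHom.id L := by
      ext l; exact hφ l
    have hL8 : 8 ≤ Nat.card L := by
      by_contra hcon
      exact hns (solvable_of_card_le_7 (by omega))
    have step2 : ∀ T : Subgroup L, T.Normal → T = ⊥ ∨ T = ⊤ := by
      intro T hTn
      by_contra hcon
      push Not at hcon
      obtain ⟨hTbot, hTtop⟩ := hcon
      have hT'n : (T.map φ).Normal := hTn.map φ hsurj
      have hT'' : (T.map φ).map φ = T := by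
        rw [Subgroup.map_map, hcomp, Subgroup.map_id]
      -- intersection
      have hI : T ⊓ T.map φ = ⊥ := by
        by_contra hIne
        apply hns
        refine step1 (T ⊓ T.map φ) inferInstance ?_ hIne ?_
        · refine le_trans (Subgroup.map_inf_le _ _ φ) ?_
          rw [hT'', inf_comm]
        · intro htop
          apply hTtop
          rw [eq_top_iff, ← htop]
          exact inf_le_left
      have hJ : T ⊔ T.map φ = ⊤ := by
        by_contra hJne
        apply hns
        refine step1 (T ⊔ T.map φ) inferInstance ?_ ?_ hJne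
        · rw [Subgroup.map_sup, hT'', sup_comm]
        · intro hbot
          apply hTbot
          rw [eq_bot_iff, ← hbot]
          exact le_sup_left
      have hdisj : Disjoint T (T.map φ) := disjoint_iff.mpr hI
      have hcomm : ∀ t ∈ T, Commute t (φ t) := fun t ht =>
        Subgroup.commute_of_normal_of_disjoint T (T.map φ) hTn hT'n hdisj t (φ t) ht
          (Subgroup.mem_map_of_mem φ ht)
      have hT2 : Nat.card T ≤ 2 := by
        refine le_trans (Nat.card_le_card_of_injective
          (fun t : T => (⟨t.1 * φ t.1, ?_⟩ : {l : L // φ l = l})) ?_) hfix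
        · rw [map_mul, hφ]; exact ((hcomm t.1 t.2).eq).symm
        · intro s t hst
          have h1 : s.1 * φ s.1 = t.1 * φ t.1 :=
            congrArg (fun t : {l : L // φ l = l} => t.1) hst
          have h2 : t.1⁻¹ * s.1 = φ t.1 * (φ s.1)⁻¹ := by
            calc t.1⁻¹ * s.1 = t.1⁻¹ * (s.1 * φ s.1) * (φ s.1)⁻¹ := by group
              _ = t.1⁻¹ * (t.1 * φ t.1) * (φ s.1)⁻¹ := by rw [h1]
              _ = φ t.1 * (φ s.1)⁻¹ := by group
          have h3 : t.1⁻¹ * s.1 ∈ T ⊓ T.map φ := by
            refine ⟨T.mul_mem (T.inv_mem t.2) s.2, ?_⟩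
            rw [h2]
            exact (T.map φ).mul_mem (Subgroup.mem_map_of_mem φ t.2)
              ((T.map φ).inv_mem (Subgroup.mem_map_of_mem φ s.2))
          rw [hI, Subgroup.mem_bot] at h3
          apply Subtype.ext
          have := inv_mul_eq_one.mp h3
          exact this.symm
      have hT'2 : Nat.card (T.map φ) ≤ 2 := by
        rw [Subgroup.card_map_of_injective hinj]; exact hT2
      have hL4 : Nat.card L ≤ Nat.card T * Nat.card (T.map φ) := by
        rw [← Nat.card_prod]
        apply Nat.card_le_card_of_surjective (fun p : T × T.map φ => p.1.1 * p.2.1)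
        intro l
        have hl : l ∈ T ⊔ T.map φ := by rw [hJ]; trivial
        have hl' : l ∈ ((T ⊔ T.map φ : Subgroup L) : Set L) := hl
        rw [Subgroup.mul_normal] at hl'
        obtain ⟨a, ha, b, hb, rfl⟩ := Set.mem_mul.mp hl'
        exact ⟨(⟨a, ha⟩, ⟨b, hb⟩), rfl⟩
      have : Nat.card T * Nat.card (T.map φ) ≤ 2 * 2 := Nat.mul_le_mul hT2 hT'2
      omega
    -- Step 3: the simple case
    by_cases hfpf : ∀ l, φ l = l → l = 1
    · apply hns
      let φe : L ≃* L := MulEquiv.ofBijective φ ⟨hinj, hsurj⟩
      have hφe : ∀ l, φe (φe l) = l := hφ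
      exact Group.isSolvable_of_comm (comm_of_fpf φe hφe hfpf)
    · push Not at hfpf
      obtain ⟨z, hzfix, hz1⟩ := hfpf
      have hfix2 : Nat.card {l : L // φ l = l} = 2 := by
        apply le_antisymm hfix
        have hnt : Nontrivial {l : L // φ l = l} :=
          ⟨⟨⟨1, map_one φ⟩, ⟨z, hzfix⟩, fun h => hz1 (congrArg Subtype.val h).symm⟩⟩
        have := Finite.one_lt_card_iff_nontrivial.mpr hnt
        omega
      let φe : L ≃* L := MulEquiv.ofBijective φ ⟨hinj, hsurj⟩
      have hφe : ∀ l, φe (φe l) = l := hφ
      obtain ⟨w, hw2, hwc⟩ := exists_large_centralizer φe hφe hfix2 hL8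
      set C := Subgroup.centralizer ({w} : Set L) with hC
      have hw1 : w ≠ 1 := by
        rintro rfl; exact hw2 (one_pow 2)
      have hwC : w ∈ C := by
        rw [hC, Subgroup.mem_centralizer_iff]
        intro y hy
        rw [Set.mem_singleton_iff] at hy
        rw [hy]
      have hC3 : 3 ≤ Nat.card C := by
        have h1 : orderOf w ∣ Nat.card C := Subgroup.orderOf_dvd_natCard C hwC
        have h2 : orderOf w ≠ 1 := by
          rw [Ne, orderOf_eq_one_iff]; exact hw1
        have h3 : orderOf w ≠ 2 := by
          intro h; apply hw2; rw [← h, pow_orderOf_eq_one]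
        have h4 : 0 < orderOf w := orderOf_pos w
        have h5 : 0 < Nat.card C := Nat.card_pos
        have := Nat.le_of_dvd h5 h1
        omega
      rcases step2 C.normalCore inferInstance with hcore | hcore
      · -- embeds in Perm (L ⧸ C)
        apply hns
        have hker : (MulAction.toPermHom L (L ⧸ C)).ker = ⊥ := by
          rw [← Subgroup.normalCore_eq_ker, hcore]
        have hinj' : Function.Injective (MulAction.toPermHom L (L ⧸ C)) :=
          (MonoidHom.ker_eq_bot_iff _).mp hker
        have hdvd := Subgroup.card_dvd_of_injective _ hinj'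
        have hidx : Nat.card (L ⧸ C) ≤ 4 := by
          have h1 := Subgroup.card_eq_card_quotient_mul_card_subgroup C
          by_contra hcon
          push Not at hcon
          have : 5 * Nat.card C ≤ Nat.card (L ⧸ C) * Nat.card C :=
            Nat.mul_le_mul_right _ hcon
          omega
        have hperm : Nat.card (Equiv.Perm (L ⧸ C)) = (Nat.card (L ⧸ C)).factorial := by
          classical
          have : Fintype (L ⧸ C) := Fintype.ofFinite _
          rw [Nat.card_eq_fintype_card, Fintype.card_perm, Nat.card_eq_fintype_card]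
        rw [hperm] at hdvd
        have h24 : (Nat.card (L ⧸ C)).factorial ∣ 24 := by
          have : (Nat.card (L ⧸ C)).factorial ∣ Nat.factorial 4 := Nat.factorial_dvd_factorial hidx
          simpa [Nat.factorial] using this
        exact solvable_of_card_dvd_24 (dvd_trans hdvd h24)
      · -- w central
        apply hns
        have hCtop : C = ⊤ := by
          rw [eq_top_iff, ← hcore]; exact Subgroup.normalCore_le C
        have hwZ : w ∈ Subgroup.center L := by
          rw [Subgroup.mem_center_iff]
          intro g
          have hg : g ∈ C := by rw [hCtop]; trivial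
          rw [hC, Subgroup.mem_centralizer_iff] at hg
          exact (hg w rfl).symm
        rcases step2 (Subgroup.center L) inferInstance with hZ | hZ
        · rw [hZ, Subgroup.mem_bot] at hwZ; exact absurd hwZ hw1
        · apply Group.isSolvable_of_comm
          intro a b
          have ha : a ∈ Subgroup.center L := by rw [hZ]; trivial
          rw [Subgroup.mem_center_iff] at ha
          exact (ha b).symm

theorem solvable_of_involutive {L : Type u} [Group L] [Finite L] (φ : L →* L)
    (hφ : ∀ l, φ (φ l) = l) (hfix : Nat.card {l : L // φ l = l} ≤ 2) : Group.IsSolvable L :=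
  solvable_of_involutive_aux (Nat.card L) L φ hφ hfix le_rfl

end Cfsg.Agent.H2.V4c
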