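import Mathlib
import Cfsg.Agent.Lib.Helper4.FrobThm
import Cfsg.Agent.Lib.helper3.Inflate

/-!
# A Wielandt-type generalisation of Frobenius' theorem

`N ≤ G`, `K ⊴ N`, and whenever `n ∈ N`, `x ∉ N` and `x⁻¹ n x ∈ N` then `x⁻¹ n x ∈ K`.
Then there is a normal subgroup `M` of `G` with `M ⊓ N = K` and `|M| |N| = |G| |K|`.
-/

set_option linter.style.haveILetI false

namespace Cfsg.Agent.H2.Wielandt

open Cfsg Module Cfsg.Agent.Lib.helper3.IndFun Cfsg.Agent.Lib.helper3.CharBasic
open Cfsg.Agent.Lib.helper3.Irr Cfsg.Agent.Lib.helper3.IndFunTI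
open Cfsg.Agent.Lib.Helper4.FrobThm Cfsg.Agent.Lib.Helper4.Codegree
open scoped ComplexConjugate Pointwise

/-- the Wielandt hypothesis -/
def WH {G : Type*} [Group G] (N : Subgroup G) (K₀ : Set G) : Prop :=
  ∀ x : G, x ∉ N → ∀ n ∈ N, x⁻¹ * n * x ∈ N → x⁻¹ * n * x ∈ K₀

section ext

variable {G : Type*} [Group G] [Fintype G] (N : Subgroup G) [Fintype N] (K₀ : Set G)

theorem indFun_restrict' (hW : WH N K₀) (φ : N → ℂ) (hφ : IsClassFunction N φ)
    (hφ0 : ∀ n : N, (n : G) ∈ K₀ → φ n = 0) (n : N) : indFun N φ n = φ n := by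
  apply indFun_eq_of_forall N φ hφ n
  intro x hx
  by_cases hmem : x⁻¹ * (n : G) * x ∈ N
  · rw [extendByZero_mem N φ hmem]
    exact hφ0 ⟨_, hmem⟩ (hW x hx n n.2 hmem)
  · exact extendByZero_not_mem N φ hmem

theorem indFun_eq_zero_of_forall (φ : N → ℂ) (hφ0 : ∀ n : N, (n : G) ∈ K₀ → φ n = 0) (x : G)
    (hx : ∀ g : G, g⁻¹ * x * g ∈ N → g⁻¹ * x * g ∈ K₀) : indFun N φ x = 0 := by
  rw [indFun_apply]
  have : ∀ y : G, extendByZero N φ (y⁻¹ * x * y) = 0 := by
    intro y
    by_cases hmem : y⁻¹ * x * y ∈ N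
    · rw [extendByZero_mem N φ hmem]
      exact hφ0 ⟨_, hmem⟩ (hx y hmem)
    · exact extendByZero_not_mem N φ hmem
  simp [this]

theorem exists_irr_extension' (hW : WH N K₀) (θ : N → ℂ)
    (hθ : IsIrrCharacter N θ) (hθK : ∀ n : N, (n : G) ∈ K₀ → θ n = θ 1) :
    ∃ χ : G → ℂ, IsIrrCharacter G χ ∧ (∀ h : N, χ h = θ h) ∧
      ∀ x : G, (∀ g : G, g⁻¹ * x * g ∈ N → g⁻¹ * x * g ∈ K₀) → χ x = χ 1 := by
  classical
  obtain ⟨d, hd, hd1⟩ := exists_pos_nat_apply_one hθ
  have hθc := isCharacter_of_isIrrCharacter hθ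
  obtain ⟨φ, hφdef⟩ : ∃ φ : N → ℂ, φ = θ - (d : ℂ) • (fun _ => (1 : ℂ)) := ⟨_, rfl⟩
  have hφapp : ∀ h : N, φ h = θ h - d := by
    intro h
    rw [hφdef]
    simp
  have hφcf : IsClassFunction N φ := by
    intro g h
    rw [hφapp, hφapp, isClassFunction_of_isCharacter hθc g h]
  have hφ0 : ∀ n : N, (n : G) ∈ K₀ → φ n = 0 := by
    intro n hn
    rw [hφapp, hθK n hn, hd1, sub_self]
  obtain ⟨χ, hχdef⟩ : ∃ χ : G → ℂ, χ = indFun N φ + (d : ℂ) • (fun _ => (1 : ℂ)) := ⟨_, rfl⟩
  have hχapp : ∀ g : G, χ g = indFun N φ g + d := by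
    intro g
    rw [hχdef]
    simp
  have hχH : ∀ h : N, χ h = θ h := by
    intro h
    rw [hχapp, indFun_restrict' N K₀ hW φ hφcf hφ0, hφapp]
    ring
  have hχ1 : χ 1 = d := by
    have := hχH 1
    rw [hd1] at this
    exact this
  have hχK : ∀ x : G, (∀ g : G, g⁻¹ * x * g ∈ N → g⁻¹ * x * g ∈ K₀) → χ x = χ 1 := by
    intro x hx
    rw [hχapp, indFun_eq_zero_of_forall N K₀ φ hφ0 x hx, hχ1, zero_add]
  have hind : indFun N φ = indFun N θ - (d : ℂ) • indFun N (fun _ => (1 : ℂ)) := by
    rw [hφdef, sub_eq_add_neg, indFun_add, ← neg_smul, indFun_smul, neg_smul, ← sub_eq_add_neg]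
  have hgen : IsGeneralizedCharacter G χ := by
    refine ⟨indFun N θ + (d : ℂ) • (fun _ => (1 : ℂ)),
      (d : ℂ) • indFun N (fun _ => (1 : ℂ)), ?_, ?_, ?_⟩
    · exact isCharacter_add (isCharacter_indFun N θ hθc) (isCharacter_nsmul isCharacter_one d)
    · exact isCharacter_nsmul (isCharacter_indFun N _ isCharacter_one) d
    · rw [hχdef, hind]
      abel
  have hχcf : IsClassFunction G χ := by
    intro g h
    rw [hχapp, hχapp, indFun_isClassFunction N φ g h]
  have hnorm : classInner χ χ = 1 := by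
    have e1 : classInner (indFun N φ) χ = classInner φ θ := by
      rw [frobenius_reciprocity N φ χ hχcf]
      congr 1
      funext h
      exact hχH h
    have e2 : classInner φ θ = 1 - (d : ℂ) * classInner (fun _ : N => (1 : ℂ)) θ := by
      rw [hφdef, classInner_sub_left, classInner_smul_left, irr_classInner_self hθ]
    have e3 : classInner (fun _ : G => (1 : ℂ)) χ
        = conj (classInner φ (fun _ : N => (1 : ℂ)) + d) := by
      rw [← classInner_conj_symm, hχdef, classInner_add_left, classInner_smul_left,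
        classInner_one_one, mul_one]
      rw [frobenius_reciprocity N φ _
        (isClassFunction_of_isCharacter (isCharacter_one (G := G)))]
    have e4 : classInner φ (fun _ : N => (1 : ℂ))
        = classInner θ (fun _ : N => (1 : ℂ)) - d := by
      rw [hφdef, classInner_sub_left, classInner_smul_left, classInner_one_one, mul_one]
    have e5 : classInner χ χ = classInner (indFun N φ) χ
        + (d : ℂ) * classInner (fun _ : G => (1 : ℂ)) χ := by
      conv_lhs => rw [hχdef]
      rw [classInner_add_left, classInner_smul_left, ← hχdef]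
    rw [e5, e1, e2, e3, e4, sub_add_cancel, classInner_conj_symm]
    ring
  exact ⟨χ, isIrrCharacter_of_norm_one hgen hnorm d hd hχ1, hχH, hχK⟩

end ext

section count

variable {G : Type*} [Group G] [Finite G]

theorem card_count (N K M : Subgroup G) (hKN : K ≤ N)
    (hnorm : ∀ n ∈ N, ∀ k ∈ K, n * k * n⁻¹ ∈ K) (hW : WH N K)
    (hM : ∀ x, x ∈ M ↔ ∀ g : G, g⁻¹ * x * g ∈ N → g⁻¹ * x * g ∈ K) :
    Nat.card M * Nat.card N = Nat.card G * Nat.card K := by
  classical
  haveI : Fintype G := Fintype.ofFinite G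
  obtain ⟨P, hP⟩ : ∃ P : G → G → Prop, P = fun x g => g⁻¹ * x * g ∈ N ∧ g⁻¹ * x * g ∉ K :=
    ⟨_, rfl⟩
  have hPiff : ∀ x g, P x g ↔ (g⁻¹ * x * g ∈ N ∧ g⁻¹ * x * g ∉ K) := by
    intro x g
    rw [hP]
  have cSub : ∀ L : Subgroup G, (Finset.univ.filter (fun y : G => y ∈ L)).card = Nat.card L := by
    intro L
    rw [Nat.card_eq_fintype_card, Fintype.card_subtype]
  have cS : (Finset.univ.filter (fun y : G => y ∈ N ∧ y ∉ K)).card + Nat.card K = Nat.card N := by
    rw [← cSub K, ← cSub N, ← Finset.card_union_of_disjoint]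
    · congr 1
      ext y
      simp only [Finset.mem_union, Finset.mem_filter, Finset.mem_univ, true_and]
      constructor
      · rintro (h | h)
        · exact h.1
        · exact hKN h
      · intro h
        by_cases hk : y ∈ K
        · exact Or.inr hk
        · exact Or.inl ⟨h, hk⟩
    · rw [Finset.disjoint_left]
      intro y h1 h2
      simp only [Finset.mem_filter, Finset.mem_univ, true_and] at h1 h2
      exact h1.2 h2
  have h1 : ∀ g, (Finset.univ.filter (fun x => P x g)).card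
      = (Finset.univ.filter (fun y : G => y ∈ N ∧ y ∉ K)).card := by
    intro g
    apply Finset.card_bij (fun x _ => g⁻¹ * x * g)
    · intro x hx
      simp only [Finset.mem_filter, Finset.mem_univ, true_and] at hx ⊢
      exact (hPiff x g).mp hx
    · intro a _ b _ hab
      have := mul_right_cancel hab
      exact mul_left_cancel this
    · intro y hy
      simp only [Finset.mem_filter, Finset.mem_univ, true_and] at hy
      refine ⟨g * y * g⁻¹, ?_, by group⟩
      simp only [Finset.mem_filter, Finset.mem_univ, true_and]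
      rw [hPiff]
      have e : g⁻¹ * (g * y * g⁻¹) * g = y := by group
      rw [e]
      exact hy
  have h2 : ∀ x, x ∈ M → (Finset.univ.filter (fun g => P x g)).card = 0 := by
    intro x hx
    rw [Finset.card_eq_zero, Finset.filter_eq_empty_iff]
    intro g _ hg
    rw [hPiff] at hg
    exact hg.2 ((hM x).mp hx g hg.1)
  have h3 : ∀ x, x ∉ M → (Finset.univ.filter (fun g => P x g)).card = Nat.card N := by
    intro x hx
    rw [hM] at hx
    push Not at hx
    obtain ⟨g₀, hg₀N, hg₀K⟩ := hx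
    rw [← cSub N]
    symm
    apply Finset.card_bij (fun n _ => g₀ * n)
    · intro n hn
      simp only [Finset.mem_filter, Finset.mem_univ, true_and] at hn ⊢
      rw [hPiff]
      have e : (g₀ * n)⁻¹ * x * (g₀ * n) = n⁻¹ * (g₀⁻¹ * x * g₀) * n := by group
      rw [e]
      refine ⟨N.mul_mem (N.mul_mem (N.inv_mem hn) hg₀N) hn, ?_⟩
      intro hk
      apply hg₀K
      have := hnorm n hn _ hk
      have e2 : n * (n⁻¹ * (g₀⁻¹ * x * g₀) * n) * n⁻¹ = g₀⁻¹ * x * g₀ := by group
      rwa [e2] at this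
    · intro a _ b _ hab
      exact mul_left_cancel hab
    · intro g hg
      simp only [Finset.mem_filter, Finset.mem_univ, true_and] at hg
      rw [hPiff] at hg
      refine ⟨g₀⁻¹ * g, ?_, by group⟩
      simp only [Finset.mem_filter, Finset.mem_univ, true_and]
      by_contra hn
      apply hg.2
      have e : g⁻¹ * x * g = (g₀⁻¹ * g)⁻¹ * (g₀⁻¹ * x * g₀) * (g₀⁻¹ * g) := by group
      rw [e]
      apply hW _ hn _ hg₀N
      rw [← e]
      exact hg.1
  have key : ∑ x : G, (Finset.univ.filter (fun g => P x g)).card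
      = ∑ g : G, (Finset.univ.filter (fun x => P x g)).card := by
    simp only [Finset.card_filter]
    exact Finset.sum_comm
  have hL : ∑ x : G, (Finset.univ.filter (fun g => P x g)).card
      = (Finset.univ.filter (fun x : G => x ∉ M)).card * Nat.card N := by
    have : ∀ x ∈ (Finset.univ : Finset G), (Finset.univ.filter (fun g => P x g)).card
        = if x ∈ M then 0 else Nat.card N := by
      intro x _
      split_ifs with hx
      · exact h2 x hx
      · exact h3 x hx
    rw [Finset.sum_congr rfl this, Finset.sum_ite, Finset.sum_const_zero, zero_add,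
      Finset.sum_const, smul_eq_mul]
  have hR : ∑ g : G, (Finset.univ.filter (fun x => P x g)).card
      = Nat.card G * (Finset.univ.filter (fun y : G => y ∈ N ∧ y ∉ K)).card := by
    rw [Finset.sum_congr rfl (fun g _ => h1 g), Finset.sum_const, smul_eq_mul, Finset.card_univ,
      Nat.card_eq_fintype_card]
  have hMc : (Finset.univ.filter (fun x : G => x ∉ M)).card + Nat.card M = Nat.card G := by
    rw [← cSub M, add_comm, Finset.card_filter_add_card_filter_not, Finset.card_univ,
      Nat.card_eq_fintype_card]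
  rw [hL, hR] at key
  obtain ⟨a, ha⟩ : ∃ a, a = (Finset.univ.filter (fun x : G => x ∉ M)).card := ⟨_, rfl⟩
  obtain ⟨s, hs⟩ : ∃ s, s = (Finset.univ.filter (fun y : G => y ∈ N ∧ y ∉ K)).card := ⟨_, rfl⟩
  rw [← ha] at key hMc
  rw [← hs] at key cS
  rw [← hMc, ← cS] at key ⊢
  nlinarith [key]

end count

section main

theorem wielandt {G : Type*} [Group G] [Finite G] (N K : Subgroup G) (hKN : K ≤ N)
    (hnorm : ∀ n ∈ N, ∀ k ∈ K, n * k * n⁻¹ ∈ K) (hW : WH N K) :
    ∃ M : Subgroup G, M.Normal ∧ M ⊓ N = K ∧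
      Nat.card M * Nat.card N = Nat.card G * Nat.card K := by
  classical
  haveI : Fintype G := Fintype.ofFinite G
  haveI : Fintype N := Fintype.ofFinite N
  have hK₁n : (K.subgroupOf N).Normal := by
    constructor
    intro k hk n
    rw [Subgroup.mem_subgroupOf] at hk ⊢
    exact hnorm n n.2 k hk
  haveI : Fintype (N ⧸ K.subgroupOf N) := Fintype.ofFinite _
  have hext := fun ψ : IrrCharacter (N ⧸ K.subgroupOf N) =>
    exists_irr_extension' N (K : Set G) hW (inflate (K.subgroupOf N) ψ.1)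
      (isIrrCharacter_inflate _ ψ.2)
      (fun n hn => inflate_apply_of_mem (K.subgroupOf N) ψ.1 (Subgroup.mem_subgroupOf.mpr hn))
  choose E hEirr hEN hEK using hext
  obtain ⟨M, hMdef⟩ : ∃ M : Subgroup G, M = ⨅ ψ : IrrCharacter (N ⧸ K.subgroupOf N),
    charKer (E ψ) (isCharacter_of_isIrrCharacter (hEirr ψ)) := ⟨_, rfl⟩
  have hMmem : ∀ x, x ∈ M ↔ ∀ ψ, E ψ x = E ψ 1 := by
    intro x
    rw [hMdef]
    simp only [Subgroup.mem_iInf, mem_charKer]
  have hMn : M.Normal := by
    rw [hMdef]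
    exact Subgroup.normal_iInf_normal (fun θ => inferInstance)
  have hMN : ∀ x ∈ M, x ∈ N → x ∈ K := by
    intro x hxM hxN
    have hall : ∀ ψ : IrrCharacter (N ⧸ K.subgroupOf N),
        (ψ : N ⧸ K.subgroupOf N → ℂ) (((⟨x, hxN⟩ : N)) : N ⧸ K.subgroupOf N)
          = (ψ : N ⧸ K.subgroupOf N → ℂ) 1 := by
      intro ψ
      have h1 := hEN ψ ⟨x, hxN⟩
      have h2 := hEN ψ 1
      have h3 := (hMmem x).mp hxM ψ
      rw [inflate_apply] at h1 h2
      rw [QuotientGroup.mk_one] at h2
      rw [← h1, ← h2]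
      exact h3
    have := eq_one_of_forall_irr_apply_eq _ hall
    rwa [QuotientGroup.eq_one_iff, Subgroup.mem_subgroupOf] at this
  have hMchar : ∀ x, x ∈ M ↔ ∀ g : G, g⁻¹ * x * g ∈ N → g⁻¹ * x * g ∈ K := by
    intro x
    constructor
    · intro hx g hg
      refine hMN _ ?_ hg
      have := hMn.conj_mem x hx g⁻¹
      rwa [inv_inv] at this
    · intro hx
      rw [hMmem]
      intro ψ
      exact hEK ψ x hx
  refine ⟨M, hMn, ?_, card_count N K M hKN hnorm hW hMchar⟩
  ext x
  rw [Subgroup.mem_inf]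
  constructor
  · rintro ⟨h1, h2⟩
    exact hMN x h1 h2
  · intro hk
    refine ⟨?_, hKN hk⟩
    rw [hMchar]
    intro g hg
    by_cases hgN : g ∈ N
    · have := hnorm g⁻¹ (N.inv_mem hgN) x hk
      rwa [inv_inv] at this
    · exact hW g hgN x (hKN hk) hg

end main

end Cfsg.Agent.H2.Wielandt
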