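import Mathlib
import Cfsg.Prelude.Def_OddOrderLocal
import Cfsg.Agent.H2.TIHall
import Cfsg.Agent.H2.WielandtChar

/-!
# TI subgroups that are Hall in their normaliser: normal complements
-/

namespace Cfsg.Agent.H2.Wielandt

open scoped Pointwise

variable {G : Type*} [Group G]

/-- a subgroup of the normalizer of order coprime to the index of `H` in its normalizer lies in
`H` -/
lemma le_of_le_normalizer_of_coprime' [Finite G] (H K₁ : Subgroup G)
    (h : K₁ ≤ Subgroup.normalizer (H : Set G))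
    (hc : (Nat.card K₁).Coprime (H.subgroupOf (Subgroup.normalizer (H : Set G))).index) :
    K₁ ≤ H := by
  obtain ⟨N, hN⟩ : ∃ N : Subgroup G, N = Subgroup.normalizer (H : Set G) := ⟨_, rfl⟩
  rw [← hN] at h hc
  have : (H.subgroupOf N).Normal := by
    rw [hN]; exact Subgroup.normal_in_normalizer
  have h1 : (H.subgroupOf N).relIndex (K₁.subgroupOf N) = 1 := by
    apply Nat.eq_one_of_dvd_coprimes hc
    · have := Subgroup.relIndex_dvd_card (H.subgroupOf N) (K₁.subgroupOf N)
      rwa [Nat.card_congr (Subgroup.subgroupOfEquivOfLe h).toEquiv] at this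
    · exact Subgroup.relIndex_dvd_index_of_normal _ _
  rw [Subgroup.relIndex_eq_one] at h1
  intro x hx
  have : (⟨x, h hx⟩ : N) ∈ H.subgroupOf N := h1 (by rw [Subgroup.mem_subgroupOf]; exact hx)
  rwa [Subgroup.mem_subgroupOf] at this

lemma mem_of_mem_normalizer_of_coprime [Finite G] (H : Subgroup G) (x : G)
    (h : x ∈ Subgroup.normalizer (H : Set G))
    (hc : (orderOf x).Coprime (H.subgroupOf (Subgroup.normalizer (H : Set G))).index) :
    x ∈ H := by
  apply le_of_le_normalizer_of_coprime' H (Subgroup.zpowers x)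
  · rw [Subgroup.zpowers_le]; exact h
  · rw [Nat.card_zpowers]; exact hc
  · exact Subgroup.mem_zpowers x

/-- A TI subgroup which is a Hall subgroup of its normaliser is a Hall subgroup. -/
theorem coprime_index [Finite G] (H : Subgroup G) (hTI : Cfsg.IsTISubset (H : Set G))
    (hHall : (Nat.card H).Coprime (H.subgroupOf (Subgroup.normalizer (H : Set G))).index) :
    (Nat.card H).Coprime H.index := by
  apply Nat.coprime_of_dvd
  intro p hp hpH
  have : Fact p.Prime := ⟨hp⟩
  obtain ⟨u, hu⟩ := exists_prime_orderOf_dvd_card' p hpH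
  have hu1 : (u : G) ≠ 1 := by
    intro h
    have : u = 1 := Subtype.ext h
    rw [this, orderOf_one] at hu
    exact hp.one_lt.ne hu
  have hupg : IsPGroup p (Subgroup.zpowers (u : G)) := by
    apply IsPGroup.of_card (n := 1)
    rw [Nat.card_zpowers, Subgroup.orderOf_coe, hu, pow_one]
  obtain ⟨Q, hQ⟩ := hupg.exists_le_sylow
  have huQ : (u : G) ∈ Q := hQ (Subgroup.mem_zpowers _)
  have hQnt : Nontrivial (Q : Subgroup G) := by
    refine ⟨⟨⟨u, huQ⟩, 1, ?_⟩⟩
    intro h
    exact hu1 (congrArg Subtype.val h)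
  have hcnt : Nontrivial (Subgroup.center (Q : Subgroup G)) := Q.isPGroup'.center_nontrivial
  obtain ⟨z, hz⟩ := exists_ne (1 : Subgroup.center (Q : Subgroup G))
  have hz1 : ((z : (Q : Subgroup G)) : G) ≠ 1 := by
    intro h
    apply hz
    apply Subtype.ext
    apply Subtype.ext
    exact h
  have hzc : ∀ q ∈ (Q : Subgroup G), q * ((z : (Q : Subgroup G)) : G) = ((z : (Q : Subgroup G)) : G) * q := by
    intro q hq
    have := Subgroup.mem_center_iff.mp z.2 ⟨q, hq⟩
    exact congrArg Subtype.val this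
  have hpidx : ∀ K₁ : Subgroup G, K₁ ≤ Q →
      (Nat.card K₁).Coprime (H.subgroupOf (Subgroup.normalizer (H : Set G))).index := by
    intro K₁ hK₁
    obtain ⟨n, hn⟩ := (IsPGroup.iff_card.mp Q.2)
    have hd : Nat.card K₁ ∣ p ^ n := hn ▸ Subgroup.card_dvd_of_le hK₁
    apply Nat.Coprime.coprime_dvd_left hd
    apply Nat.Coprime.pow_left
    exact Nat.Coprime.coprime_dvd_left hpH hHall
  -- z ∈ N
  have hzN : ((z : (Q : Subgroup G)) : G) ∈ Subgroup.normalizer (H : Set G) := by
    by_contra hcon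
    apply hu1
    apply hTI _ hcon (u : G) u.2
    have := hzc (u : G) huQ
    rw [← this, mul_inv_cancel_right]
    exact u.2
  have hzH : ((z : (Q : Subgroup G)) : G) ∈ H := by
    apply le_of_le_normalizer_of_coprime' H (Subgroup.zpowers ((z : (Q : Subgroup G)) : G))
    · rw [Subgroup.zpowers_le]; exact hzN
    · apply hpidx
      rw [Subgroup.zpowers_le]
      exact (z : (Q : Subgroup G)).2
    · exact Subgroup.mem_zpowers _
  have hQN : (Q : Subgroup G) ≤ Subgroup.normalizer (H : Set G) := by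
    intro q hq
    by_contra hcon
    apply hz1
    apply hTI _ hcon _ hzH
    rw [hzc q hq, mul_inv_cancel_right]
    exact hzH
  have hQH : (Q : Subgroup G) ≤ H := le_of_le_normalizer_of_coprime' H Q hQN (hpidx _ le_rfl)
  intro hdvd
  exact Q.not_dvd_index (dvd_trans hdvd (Subgroup.index_dvd_of_le hQH))

/-- the Wielandt hypothesis from the TI property -/
theorem WH_of_TI [Finite G] (H K : Subgroup G) (hTI : Cfsg.IsTISubset (H : Set G))
    (hHall : (Nat.card H).Coprime (H.subgroupOf (Subgroup.normalizer (H : Set G))).index)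
    (hKN : K ≤ Subgroup.normalizer (H : Set G))
    (hnorm : ∀ n ∈ Subgroup.normalizer (H : Set G), ∀ k ∈ K, n * k * n⁻¹ ∈ K)
    (hdec : ∀ n ∈ Subgroup.normalizer (H : Set G), ∃ k ∈ K, ∃ h ∈ H, n = k * h)
    (hcop : (Nat.card H).Coprime (Nat.card K)) :
    WH (Subgroup.normalizer (H : Set G)) (K : Set G) := by
  intro x hx n hn hy
  obtain ⟨k, hk, h, hh, hkh⟩ := hdec _ hy
  have hHN : H ≤ Subgroup.normalizer (H : Set G) := Subgroup.le_normalizer
  have hdisj : ∀ g, g ∈ K → g ∈ H → g = 1 := by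
    intro g h1 h2
    have hd := Subgroup.disjoint_of_coprime_natCard hcop
    have : g ∈ H ⊓ K := ⟨h2, h1⟩
    rw [hd.eq_bot] at this
    exact Subgroup.mem_bot.mp this
  have hcomm : Commute k h := by
    have h1 : k * h * k⁻¹ * h⁻¹ ∈ K := by
      have := hnorm h (hHN hh) k⁻¹ (K.inv_mem hk)
      have e : k * h * k⁻¹ * h⁻¹ = k * (h * k⁻¹ * h⁻¹) := by group
      rw [e]
      exact K.mul_mem hk this
    have h2 : k * h * k⁻¹ * h⁻¹ ∈ H := by
      have := (Subgroup.mem_normalizer_iff.mp (hKN hk) h).mp hh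
      exact H.mul_mem this (H.inv_mem hh)
    have h3 := hdisj _ h1 h2
    show k * h = h * k
    calc k * h = (k * h * k⁻¹ * h⁻¹) * (h * k) := by group
      _ = h * k := by rw [h3, one_mul]
  suffices h = 1 by
    rw [hkh, this, mul_one]
    exact hk
  have hoh : (Nat.card K).Coprime (orderOf h) := by
    apply Nat.Coprime.coprime_dvd_right _ hcop.symm
    have := orderOf_dvd_natCard (⟨h, hh⟩ : H)
    rwa [Subgroup.orderOf_mk] at this
  obtain ⟨m, hm⟩ := exists_pow_eq_self_of_coprime hoh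
  have hyc : (x⁻¹ * n * x) ^ (Nat.card K) = h ^ (Nat.card K) := by
    rw [hkh, hcomm.mul_pow]
    have : k ^ Nat.card K = 1 := by
      have := pow_card_eq_one' (G := K) (x := ⟨k, hk⟩)
      exact congrArg Subtype.val this
    rw [this, one_mul]
  have hxh : x * h * x⁻¹ = n ^ (Nat.card K * m) := by
    have e : ∀ j : ℕ, (x⁻¹ * n * x) ^ j = x⁻¹ * n ^ j * x := by
      intro j
      have := conj_pow (a := x⁻¹) (b := n) (i := j)
      rwa [inv_inv] at this
    rw [← hm, ← hyc, ← pow_mul, e]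
    group
  have hxhN : x * h * x⁻¹ ∈ Subgroup.normalizer (H : Set G) := by
    rw [hxh]
    exact Subgroup.pow_mem _ hn _
  have hxhH : x * h * x⁻¹ ∈ H := by
    apply mem_of_mem_normalizer_of_coprime H _ hxhN
    have e : orderOf (x * h * x⁻¹) = orderOf h := by
      have : x * h * x⁻¹ = (MulAut.conj x) h := by simp
      rw [this, MulEquiv.orderOf_eq]
    rw [e]
    apply Nat.Coprime.coprime_dvd_left _ hHall
    have := orderOf_dvd_natCard (⟨h, hh⟩ : H)
    rwa [Subgroup.orderOf_mk] at this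
  exact hTI x hx h hh hxhH

/-- (⇒): a normal complement in the normaliser gives a normal complement in the group -/
theorem exists_normal_complement [Finite G] (H : Subgroup G) (hTI : Cfsg.IsTISubset (H : Set G))
    (hHall : (Nat.card H).Coprime (H.subgroupOf (Subgroup.normalizer (H : Set G))).index)
    (K₀ : Subgroup (Subgroup.normalizer (H : Set G))) (hK₀n : K₀.Normal)
    (hK₀c : K₀.IsComplement' (H.subgroupOf (Subgroup.normalizer (H : Set G)))) :
    ∃ M : Subgroup G, M.Normal ∧ M.IsComplement' H := by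
  obtain ⟨N, hN⟩ : ∃ N : Subgroup G, N = Subgroup.normalizer (H : Set G) := ⟨_, rfl⟩
  have hHN : H ≤ Subgroup.normalizer (H : Set G) := Subgroup.le_normalizer
  obtain ⟨K, hK⟩ : ∃ K : Subgroup G, K = K₀.map (Subgroup.normalizer (H : Set G)).subtype :=
    ⟨_, rfl⟩
  have hKN : K ≤ Subgroup.normalizer (H : Set G) := by
    rw [hK]; exact Subgroup.map_subtype_le _
  have hnorm : ∀ n ∈ Subgroup.normalizer (H : Set G), ∀ k ∈ K, n * k * n⁻¹ ∈ K := by
    intro n hn k hk
    rw [hK] at hk ⊢
    obtain ⟨k₀, hk₀, rfl⟩ := hk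
    exact ⟨⟨n, hn⟩ * k₀ * ⟨n, hn⟩⁻¹, hK₀n.conj_mem k₀ hk₀ ⟨n, hn⟩, rfl⟩
  have hdec : ∀ n ∈ Subgroup.normalizer (H : Set G), ∃ k ∈ K, ∃ h ∈ H, n = k * h := by
    intro n hn
    obtain ⟨⟨k, h⟩, hkh⟩ := hK₀c.2 ⟨n, hn⟩
    refine ⟨(k : Subgroup.normalizer (H : Set G)), ?_, (h : Subgroup.normalizer (H : Set G)),
      Subgroup.mem_subgroupOf.mp h.2, ?_⟩
    · rw [hK]
      exact ⟨k, k.2, rfl⟩
    · have := congrArg Subtype.val hkh
      exact this.symm
  have hcardK : Nat.card K = Nat.card K₀ := by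
    rw [hK]
    exact Subgroup.card_map_of_injective (Subgroup.subtype_injective _)
  have hcardH : Nat.card (H.subgroupOf (Subgroup.normalizer (H : Set G))) = Nat.card H :=
    Nat.card_congr (Subgroup.subgroupOfEquivOfLe hHN).toEquiv
  have hcop : (Nat.card H).Coprime (Nat.card K) := by
    rw [hcardK, ← hK₀c.index_eq_card]
    exact hHall
  have hW := WH_of_TI H K hTI hHall hKN hnorm hdec hcop
  obtain ⟨M, hMn, hMN, hMcard⟩ := wielandt _ K hKN hnorm hW
  refine ⟨M, hMn, ?_⟩
  apply Subgroup.isComplement'_of_card_mul_and_disjoint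
  · have h1 := hK₀c.card_mul_card
    rw [hcardH, ← hcardK] at h1
    rw [← h1] at hMcard
    have hpos : 0 < Nat.card K := Nat.card_pos
    apply Nat.eq_of_mul_eq_mul_right hpos
    rw [← hMcard]
    ring
  · rw [disjoint_iff, Subgroup.eq_bot_iff_forall]
    rintro x ⟨hxM, hxH⟩
    have hxK : x ∈ K := by
      rw [← hMN]
      exact ⟨hxM, hHN hxH⟩
    have hd := Subgroup.disjoint_of_coprime_natCard hcop
    have : x ∈ H ⊓ K := ⟨hxH, hxK⟩
    rw [hd.eq_bot] at this
    exact Subgroup.mem_bot.mp this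

/-- (⇐): a normal complement in the group gives one in the normaliser -/
theorem exists_normal_complement_normalizer (H M : Subgroup G) (hMn : M.Normal)
    (hMc : M.IsComplement' H) :
    ∃ K : Subgroup (Subgroup.normalizer (H : Set G)), K.Normal ∧
      K.IsComplement' (H.subgroupOf (Subgroup.normalizer (H : Set G))) := by
  have hHN : H ≤ Subgroup.normalizer (H : Set G) := Subgroup.le_normalizer
  refine ⟨M.subgroupOf _, hMn.subgroupOf _, ?_⟩
  apply Subgroup.isComplement'_of_disjoint_and_mul_eq_univ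
  · rw [disjoint_iff, Subgroup.eq_bot_iff_forall]
    intro x hx
    rw [Subgroup.mem_inf, Subgroup.mem_subgroupOf, Subgroup.mem_subgroupOf] at hx
    have : (x : G) ∈ M ⊓ H := hx
    rw [hMc.disjoint.eq_bot] at this
    exact Subtype.ext (Subgroup.mem_bot.mp this)
  · rw [Set.eq_univ_iff_forall]
    intro n
    obtain ⟨⟨m, h⟩, hmh⟩ := hMc.2 (n : G)
    have hmh' : (m : G) * (h : G) = n := hmh
    have hmN : (m : G) ∈ Subgroup.normalizer (H : Set G) := by
      have : (m : G) = n * (h : G)⁻¹ := by rw [← hmh']; group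
      rw [this]
      exact Subgroup.mul_mem _ n.2 (Subgroup.inv_mem _ (hHN h.2))
    refine ⟨⟨m, hmN⟩, ?_, ⟨h, hHN h.2⟩, ?_, ?_⟩
    · rw [SetLike.mem_coe, Subgroup.mem_subgroupOf]; exact m.2
    · rw [SetLike.mem_coe, Subgroup.mem_subgroupOf]; exact h.2
    · exact Subtype.ext hmh'

end Cfsg.Agent.H2.Wielandt
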