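import Mathlib
import Cfsg.Prelude.Def_OddOrderLocal
import Cfsg.Prelude.Def_Solvable
import Cfsg.Agent.H2.TIHall
import Cfsg.Agent.H2.WielandtTI
import Cfsg.Agent.H2.FrobeniusInternal
import Cfsg.Agent.H2.CNQuotient
import Cfsg.Agent.H1.CoprimeAction
import Cfsg.Agent.H1.SylowMore

/-!
# A non-normal TI Hall subgroup with a normal complement is a Frobenius complement
-/

set_option autoImplicit false

namespace Cfsg.Agent.H2.Wielandt

open Cfsg.Agent.H1
open scoped Pointwise commutatorElement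

universe u

/-- invariant Sylow subgroups, with the conjugacy of complements given as a hypothesis
(a copy of helper1's proof of `S0023`) -/
theorem exists_invariant_sylow_of_conj {G : Type*} [Group G] [Finite G] (A K : Subgroup G)
    (hAK : A ≤ Subgroup.normalizer (K : Set G))
    (hcop : (Nat.card A).Coprime (Nat.card K))
    (hconj : ∀ B : Subgroup G, B ≤ K ⊔ A → Nat.card B = Nat.card A →
      ∃ n ∈ K, MulAut.conj n • A = B)
    (p : ℕ) [Fact p.Prime] :
    ∃ P : Sylow p K, A ≤ Subgroup.normalizer ((P : Subgroup K).map K.subtype : Set G) := by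
  obtain P₀ : Sylow p K := default
  obtain ⟨P, hPdef⟩ : ∃ P : Subgroup G, P = (P₀ : Subgroup K).map K.subtype := ⟨_, rfl⟩
  have hPK : P ≤ K := by rw [hPdef]; exact Subgroup.map_subtype_le _
  have hPp : IsPGroup p P := by rw [hPdef]; exact P₀.isPGroup'.map _
  have hPidx : ¬ p ∣ P.relIndex K := by
    have : P.subgroupOf K = (P₀ : Subgroup K) := by
      rw [hPdef]; exact Subgroup.comap_map_eq_self_of_injective K.subtype_injective _
    show ¬ p ∣ (P.subgroupOf K).index
    rw [this]; exact P₀.not_dvd_index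
  have hdisj : K ⊓ A = ⊥ := (Subgroup.disjoint_of_coprime_natCard hcop.symm).eq_bot
  have hLn : K ⊔ A ≤ Subgroup.normalizer (K : Set G) := sup_le Subgroup.le_normalizer hAK
  -- Frattini
  have hfrat : ∀ a ∈ A, ∃ k ∈ K, k⁻¹ * a ∈ Subgroup.normalizer (P : Set G) := by
    intro a ha
    have hQK : P.map (MulAut.conj a).toMonoidHom ≤ K := by
      rintro _ ⟨x, hx, rfl⟩
      exact (Subgroup.mem_normalizer_iff.mp (hAK ha) x).mp (hPK hx)
    obtain ⟨k, hk, hle⟩ := exists_le_map_conj_of_pgroup K P _ hPK hPp hPidx hQK (hPp.map _)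
    refine ⟨k, hk, ?_⟩
    apply mem_normalizer_of_map_conj_le
    have := Subgroup.map_mono (f := (MulAut.conj k⁻¹).toMonoidHom) hle
    rw [map_conj_map_conj, map_conj_map_conj k k⁻¹, inv_mul_cancel, map_conj_one] at this
    exact this
  obtain ⟨NL, hNL⟩ : ∃ NL : Subgroup G, NL = Subgroup.normalizer (P : Set G) ⊓ (K ⊔ A) := ⟨_, rfl⟩
  have hNLle : NL ≤ K ⊔ A := by rw [hNL]; exact inf_le_right
  have hsup : NL ⊔ K = K ⊔ A := by
    apply le_antisymm (sup_le hNLle le_sup_left)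
    apply sup_le le_sup_right
    intro a ha
    obtain ⟨k, hk, hka⟩ := hfrat a ha
    have e : a = k * (k⁻¹ * a) := by group
    rw [e]
    refine mul_mem (Subgroup.mem_sup_right hk) (Subgroup.mem_sup_left ?_)
    rw [hNL]
    exact Subgroup.mem_inf.mpr ⟨hka, mul_mem (Subgroup.mem_sup_left (inv_mem hk)) (Subgroup.mem_sup_right ha)⟩
  have hinf : NL ⊓ K = Subgroup.normalizer (P : Set G) ⊓ K := by
    rw [hNL, inf_assoc, inf_eq_right.mpr (le_sup_left : K ≤ K ⊔ A)]
  have hcardNL : Nat.card NL = Nat.card A * Nat.card (NL ⊓ K : Subgroup G) := by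
    have h1 := card_sup_mul_card_inf NL K (hNLle.trans hLn)
    have h2 := card_sup_mul_card_inf A K hAK
    rw [inf_comm A K, hdisj, Subgroup.card_bot, mul_one, sup_comm] at h2
    rw [hsup, h2] at h1
    have hpos : 0 < Nat.card K := Nat.card_pos
    have : Nat.card K * (Nat.card A * Nat.card (NL ⊓ K : Subgroup G)) = Nat.card K * Nat.card NL := by
      rw [mul_comm (Nat.card K) (Nat.card NL), ← h1]; ring
    exact (Nat.eq_of_mul_eq_mul_left hpos this).symm
  -- the normal Hall subgroup of NL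
  have hDn : ((NL ⊓ K).subgroupOf NL).Normal := by
    rw [Subgroup.inf_subgroupOf_left]
    exact Subgroup.normal_subgroupOf_of_le_normalizer (hNLle.trans hLn)
  have hDidx : ((NL ⊓ K).subgroupOf NL).index = Nat.card A := by
    have h1 := Subgroup.card_mul_index ((NL ⊓ K).subgroupOf NL)
    rw [card_subgroupOf_of_le inf_le_left, hcardNL, mul_comm] at h1
    exact Nat.eq_of_mul_eq_mul_right Nat.card_pos h1
  have hDcop : (Nat.card ((NL ⊓ K).subgroupOf NL)).Coprime ((NL ⊓ K).subgroupOf NL).index := by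
    rw [hDidx, card_subgroupOf_of_le inf_le_left]
    exact (Nat.Coprime.coprime_dvd_right (Subgroup.card_dvd_of_le inf_le_right) hcop).symm
  obtain ⟨B', hB'⟩ := Subgroup.exists_right_complement'_of_coprime hDcop
  have hcardB : Nat.card (B'.map NL.subtype) = Nat.card A := by
    rw [Subgroup.card_map_of_injective NL.subtype_injective, ← hB'.symm.index_eq_card, hDidx]
  have hBNL : B'.map NL.subtype ≤ NL := Subgroup.map_subtype_le _
  obtain ⟨n, hn, hnA⟩ := hconj (B'.map NL.subtype) (hBNL.trans hNLle) hcardB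
  -- the Sylow subgroup n⁻¹ P n
  refine ⟨(⟨n, hn⟩ : K)⁻¹ • P₀, ?_⟩
  rw [sylow_smul_map_subtype, ← hPdef]
  intro a ha
  have h1 : n * a * n⁻¹ ∈ B'.map NL.subtype := by
    rw [← hnA]; exact (conj_mem_conj_smul n a A).mpr ha
  have h2 : n * a * n⁻¹ ∈ Subgroup.normalizer (P : Set G) := by
    have := hBNL h1
    rw [hNL] at this
    exact (Subgroup.mem_inf.mp this).1
  rw [← map_conj_eq_self_iff] at h2 ⊢
  show (P.map (MulAut.conj (n⁻¹ : G)).toMonoidHom).map (MulAut.conj a).toMonoidHom = P.map (MulAut.conj (n⁻¹ : G)).toMonoidHom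
  rw [map_conj_map_conj]
  have e : a * n⁻¹ = n⁻¹ * (n * a * n⁻¹) := by group
  rw [e, ← map_conj_map_conj, h2]

/-- an invariant section with fixed-point-free action gives a Frobenius group -/
theorem frobenius_of_section {G : Type u} [Group G] [Finite G] (H Y R₀ : Subgroup G)
    (hR₀Y : R₀ ≤ Y) (hYR₀ : Y ≤ Subgroup.normalizer (R₀ : Set G))
    (hHR₀ : H ≤ Subgroup.normalizer (R₀ : Set G)) (hHY : H ≤ Subgroup.normalizer (Y : Set G))
    (hYH : ∀ g, g ∈ Y → g ∈ H → g = 1)
    (hne : ∃ y ∈ Y, y ∉ R₀) (hH : H ≠ ⊥)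
    (hcop : (Nat.card H).Coprime (Nat.card R₀))
    (hfpf : ∀ h ∈ H, h ≠ 1 → ∀ y ∈ Y, y * h = h * y → y ∈ R₀) :
    ∃ (F : Type u) (_ : Group F) (_ : Finite F) (C : Subgroup F),
      Cfsg.IsFrobeniusComplement C ∧ Nonempty (H ≃* C) := by
  obtain ⟨L, hL⟩ : ∃ L : Subgroup G, L = Y ⊔ H := ⟨_, rfl⟩
  have hYL : Y ≤ L := hL ▸ le_sup_left
  have hHL : H ≤ L := hL ▸ le_sup_right
  have hR₀L : R₀ ≤ L := hR₀Y.trans hYL
  have hLR₀ : L ≤ Subgroup.normalizer (R₀ : Set G) := hL ▸ sup_le hYR₀ hHR₀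
  have hLY : L ≤ Subgroup.normalizer (Y : Set G) := hL ▸ sup_le Subgroup.le_normalizer hHY
  have hn1 : (R₀.subgroupOf L).Normal := Subgroup.normal_subgroupOf_of_le_normalizer hLR₀
  have hn2 : (Y.subgroupOf L).Normal := Subgroup.normal_subgroupOf_of_le_normalizer hLY
  obtain ⟨π, hπ⟩ : ∃ π : L →* L ⧸ R₀.subgroupOf L, π = QuotientGroup.mk' (R₀.subgroupOf L) :=
    ⟨_, rfl⟩
  have hπs : Function.Surjective π := hπ ▸ QuotientGroup.mk'_surjective _
  have hπ1 : ∀ l : L, π l = 1 ↔ (l : G) ∈ R₀ := by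
    intro l
    rw [hπ, QuotientGroup.mk'_apply, QuotientGroup.eq_one_iff, Subgroup.mem_subgroupOf]
  have hn3 : ((Y.subgroupOf L).map π).Normal := hn2.map π hπs
  have hsup : (Y.subgroupOf L).map π ⊔ (H.subgroupOf L).map π = ⊤ := by
    rw [← Subgroup.map_sup, ← Subgroup.subgroupOf_sup hYL hHL, ← hL, Subgroup.subgroupOf_self,
      Subgroup.map_top_of_surjective π hπs]
  have hinf : (Y.subgroupOf L).map π ⊓ (H.subgroupOf L).map π = ⊥ := by
    rw [Subgroup.eq_bot_iff_forall]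
    intro x hx
    rw [Subgroup.mem_inf] at hx
    obtain ⟨⟨y, hy, rfl⟩, ⟨h, hh, hyh⟩⟩ := hx
    rw [SetLike.mem_coe, Subgroup.mem_subgroupOf] at hy hh
    have h1 : π (h⁻¹ * y) = 1 := by
      rw [map_mul, map_inv, hyh, inv_mul_cancel]
    rw [hπ1] at h1
    have h2 : (h : G) ∈ Y := by
      have h3 : (h : G)⁻¹ * (y : G) ∈ Y := hR₀Y h1
      have h4 := Y.mul_mem hy (Y.inv_mem h3)
      have e : (y : G) * ((h : G)⁻¹ * (y : G))⁻¹ = h := by group
      rwa [e] at h4
    have h5 : h = 1 := Subtype.ext (hYH _ h2 hh)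
    rw [← hyh, h5, map_one]
  have hHbar : (H.subgroupOf L).map π ≠ ⊥ := by
    intro hbot
    apply hH
    rw [Subgroup.eq_bot_iff_forall]
    intro h hh
    have h1 : π ⟨h, hHL hh⟩ ∈ (H.subgroupOf L).map π :=
      ⟨_, Subgroup.mem_subgroupOf.mpr hh, rfl⟩
    rw [hbot, Subgroup.mem_bot, hπ1] at h1
    exact hYH h (hR₀Y h1) hh
  have hYbar : (Y.subgroupOf L).map π ≠ ⊥ := by
    intro hbot
    obtain ⟨y, hy, hyR⟩ := hne
    apply hyR
    have h1 : π ⟨y, hYL hy⟩ ∈ (Y.subgroupOf L).map π :=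
      ⟨_, Subgroup.mem_subgroupOf.mpr hy, rfl⟩
    rw [hbot, Subgroup.mem_bot, hπ1] at h1
    exact h1
  have hfpf' : ∀ h ∈ (H.subgroupOf L).map π, h ≠ 1 → ∀ n ∈ (Y.subgroupOf L).map π,
      h * n = n * h → n = 1 := by
    rintro _ ⟨h, hh, rfl⟩ hh1 _ ⟨y, hy, rfl⟩ hcomm
    rw [SetLike.mem_coe, Subgroup.mem_subgroupOf] at hy hh
    have hcomm' : Commute (QuotientGroup.mk h : L ⧸ R₀.subgroupOf L) (QuotientGroup.mk y) := by
      have := hcomm
      rw [hπ] at this
      exact this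
    have hcm := Cfsg.Agent.H2.CNQ.commutator_pow_mem_of_commute_mk (R₀.subgroupOf L) h y hcomm'
    have hco : (orderOf h).Coprime (Nat.card (R₀.subgroupOf L)) := by
      rw [Nat.card_congr (Subgroup.subgroupOfEquivOfLe hR₀L).toEquiv]
      apply Nat.Coprime.coprime_dvd_left _ hcop
      have := orderOf_dvd_natCard (⟨(h : G), hh⟩ : H)
      rwa [Subgroup.orderOf_mk, Subgroup.orderOf_coe] at this
    obtain ⟨d, hd, hdc⟩ := Cfsg.Agent.H2.CNQ.exists_mul_commute (R₀.subgroupOf L) h y hco hcm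
    rw [Subgroup.mem_subgroupOf] at hd
    have hh1' : (h : G) ≠ 1 := by
      intro h0
      apply hh1
      have : h = 1 := Subtype.ext h0
      rw [this, map_one]
    have hydR : (y : G) * (d : G) ∈ R₀ := by
      apply hfpf (h : G) hh hh1' _ (Y.mul_mem hy (hR₀Y hd))
      have := congrArg Subtype.val hdc.eq
      exact this
    have hyR : (y : G) ∈ R₀ := by
      have := R₀.mul_mem hydR (R₀.inv_mem hd)
      rwa [mul_inv_cancel_right] at this
    exact (hπ1 y).mpr hyR
  have hfrob := (Cfsg.Agent.H2.FrobInt.frobenius_of_fpf ((Y.subgroupOf L).map π) ((H.subgroupOf L).map π)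
    hsup hinf hHbar hYbar hfpf').1
  refine ⟨L ⧸ R₀.subgroupOf L, inferInstance, inferInstance, (H.subgroupOf L).map π, hfrob, ?_⟩
  have hinj : Function.Injective (π.subgroupMap (H.subgroupOf L)) := by
    rw [injective_iff_map_eq_one]
    intro a ha
    have h1 : π (a : L) = 1 := by
      have := congrArg Subtype.val ha
      exact this
    rw [hπ1] at h1
    have h2 : ((a : L) : G) = 1 := hYH _ (hR₀Y h1) (Subgroup.mem_subgroupOf.mp a.2)
    apply Subtype.ext
    apply Subtype.ext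
    exact h2
  exact ⟨(Subgroup.subgroupOfEquivOfLe hHL).symm.trans
    (MulEquiv.ofBijective (π.subgroupMap (H.subgroupOf L))
      ⟨hinj, π.subgroupMap_surjective (H.subgroupOf L)⟩)⟩

/-- **Part 2.** A non-normal TI Hall subgroup with a normal complement is isomorphic to a
Frobenius complement. -/
theorem exists_frobenius {G : Type u} [Group G] [Finite G] (H M : Subgroup G)
    (hTI : Cfsg.IsTISubset (H : Set G)) (hcopG : (Nat.card H).Coprime H.index)
    (hMn : M.Normal) (hMc : M.IsComplement' H) (hHn : ¬ H.Normal) :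
    ∃ (F : Type u) (_ : Group F) (_ : Finite F) (C : Subgroup F),
      Cfsg.IsFrobeniusComplement C ∧ Nonempty (H ≃* C) := by
  obtain ⟨N, hN⟩ : ∃ N : Subgroup G, N = Subgroup.normalizer (H : Set G) := ⟨_, rfl⟩
  have hHN : H ≤ N := hN ▸ Subgroup.le_normalizer
  have hcop : (Nat.card H).Coprime (Nat.card M) := by
    rw [← hMc.index_eq_card]; exact hcopG
  have hdisj : ∀ g, g ∈ M → g ∈ H → g = 1 := by
    intro g h1 h2
    have : g ∈ M ⊓ H := ⟨h1, h2⟩
    rw [hMc.disjoint.eq_bot] at this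
    exact Subgroup.mem_bot.mp this
  have hdec : ∀ g : G, ∃ m ∈ M, ∃ h ∈ H, g = m * h := by
    intro g
    obtain ⟨⟨m, h⟩, hmh⟩ := hMc.2 g
    exact ⟨m, m.2, h, h.2, hmh.symm⟩
  have hH1 : H ≠ ⊥ := by
    rintro rfl
    exact hHn inferInstance
  -- centralisers of nonidentity elements of `H` lie in `N`
  have hcent1 : ∀ h ∈ H, h ≠ 1 → ∀ m : G, m * h = h * m → m ∈ N := by
    intro h hh h1 m hm
    rw [hN]
    by_contra hcon
    apply h1
    apply hTI m hcon h hh
    rw [hm, mul_inv_cancel_right]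
    exact hh
  have hMN : ¬ M ≤ N := by
    intro hle
    apply hHn
    rw [← Subgroup.normalizer_eq_top_iff, ← hN, eq_top_iff]
    intro g _
    obtain ⟨m, hm, h, hh, rfl⟩ := hdec g
    exact N.mul_mem (hle hm) (hHN hh)
  -- conjugacy of the complements
  have hconj : ∀ B : Subgroup G, B ≤ M ⊔ H → Nat.card B = Nat.card H →
      ∃ n ∈ M, MulAut.conj n • H = B := by
    intro B _ hB
    obtain ⟨g, hg⟩ := Cfsg.Agent.H2.TIHall.exists_le_conj H hTI B (hB ▸ hcopG)
    obtain ⟨m, hm, h, hh, rfl⟩ := hdec g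
    have e : MulAut.conj (m * h) • H = MulAut.conj m • H := by
      ext x
      rw [Cfsg.Agent.H2.TIHall.mem_conj, Cfsg.Agent.H2.TIHall.mem_conj]
      have e1 : (m * h)⁻¹ * x * (m * h) = h⁻¹ * (m⁻¹ * x * m) * h := by group
      rw [e1]
      constructor
      · intro hx
        have := H.mul_mem (H.mul_mem hh hx) (H.inv_mem hh)
        have e2 : h * (h⁻¹ * (m⁻¹ * x * m) * h) * h⁻¹ = m⁻¹ * x * m := by group
        rwa [e2] at this
      · intro hx
        exact H.mul_mem (H.mul_mem (H.inv_mem hh) hx) hh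
    rw [e] at hg
    refine ⟨m, hm, ?_⟩
    symm
    apply Subgroup.eq_of_le_of_card_ge hg
    rw [card_conj_smul, hB]
  have hHM : H ≤ Subgroup.normalizer (M : Set G) := by
    rw [Subgroup.normalizer_eq_top]; exact le_top
  -- the prime `r`
  obtain ⟨K', hK'⟩ : ∃ K' : Subgroup G, K' = M ⊓ N := ⟨_, rfl⟩
  have hK'M : K' ≤ M := hK' ▸ inf_le_left
  have hr : ∃ r : ℕ, r.Prime ∧
      (Nat.card K').factorization r < (Nat.card M).factorization r := by
    by_contra hcon
    push Not at hcon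
    have hle : (Nat.card M).factorization ≤ (Nat.card K').factorization := by
      intro r
      by_cases hr : r.Prime
      · exact hcon r hr
      · rw [Nat.factorization_eq_zero_of_not_prime _ hr]; exact Nat.zero_le _
    rw [Nat.factorization_le_iff_dvd Nat.card_pos.ne' Nat.card_pos.ne'] at hle
    have h1 := Nat.le_of_dvd Nat.card_pos hle
    have h2 : K' = M := Subgroup.eq_of_le_of_card_ge hK'M h1
    apply hMN
    rw [← h2, hK']
    exact inf_le_right
  obtain ⟨r, hrp, hrlt⟩ := hr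
  have : Fact r.Prime := ⟨hrp⟩
  obtain ⟨P, hP⟩ := exists_invariant_sylow_of_conj H M hHM hcop hconj r
  obtain ⟨R', hR'⟩ : ∃ R' : Subgroup G, R' = (P : Subgroup M).map M.subtype := ⟨_, rfl⟩
  rw [← hR'] at hP
  have hR'M : R' ≤ M := by rw [hR']; exact Subgroup.map_subtype_le _
  have hR'card : Nat.card R' = r ^ (Nat.card M).factorization r := by
    rw [hR', Subgroup.card_map_of_injective M.subtype_injective, P.card_eq_multiplicity]
  have hR'p : IsPGroup r R' := IsPGroup.of_card hR'card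
  have hR'K : ¬ R' ≤ N := by
    intro hle
    have h1 : R' ≤ K' := by rw [hK']; exact le_inf hR'M hle
    have h2 := Subgroup.card_dvd_of_le h1
    rw [hR'card, hrp.pow_dvd_iff_le_factorization Nat.card_pos.ne'] at h2
    omega
  obtain ⟨R₀, hR₀⟩ : ∃ R₀ : Subgroup G, R₀ = R' ⊓ N := ⟨_, rfl⟩
  have hR₀R' : R₀ ≤ R' := hR₀ ▸ inf_le_left
  have hR₀N : R₀ ≤ N := hR₀ ▸ inf_le_right
  have hHR₀ : H ≤ Subgroup.normalizer (R₀ : Set G) := by
    intro h hh
    rw [Subgroup.mem_normalizer_iff]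
    intro x
    rw [hR₀, Subgroup.mem_inf, Subgroup.mem_inf]
    have h1 := Subgroup.mem_normalizer_iff.mp (hP hh) x
    have h2 : x ∈ N ↔ h * x * h⁻¹ ∈ N := by
      rw [Subgroup.mul_mem_cancel_right _ (Subgroup.inv_mem _ (hHN hh)),
        Subgroup.mul_mem_cancel_left _ (hHN hh)]
    rw [h1, h2]
  obtain ⟨Y, hY⟩ : ∃ Y : Subgroup G, Y = R' ⊓ Subgroup.normalizer (R₀ : Set G) := ⟨_, rfl⟩
  have hR₀Y : R₀ ≤ Y := by rw [hY]; exact le_inf hR₀R' Subgroup.le_normalizer
  have hYR₀ : Y ≤ Subgroup.normalizer (R₀ : Set G) := hY ▸ inf_le_right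
  have hYR' : Y ≤ R' := hY ▸ inf_le_left
  have hHY : H ≤ Subgroup.normalizer (Y : Set G) := by
    intro h hh
    rw [Subgroup.mem_normalizer_iff]
    intro x
    rw [hY, Subgroup.mem_inf, Subgroup.mem_inf]
    have h1 := Subgroup.mem_normalizer_iff.mp (hP hh) x
    have h2 : x ∈ Subgroup.normalizer (R₀ : Set G) ↔
        h * x * h⁻¹ ∈ Subgroup.normalizer (R₀ : Set G) := by
      rw [Subgroup.mul_mem_cancel_right _ (Subgroup.inv_mem _ (hHR₀ hh)),
        Subgroup.mul_mem_cancel_left _ (hHR₀ hh)]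
    rw [h1, h2]
  have hne : ∃ y ∈ Y, y ∉ R₀ := by
    have hnil : Group.IsNilpotent R' := hR'p.isNilpotent
    have hlt : R₀.subgroupOf R' < ⊤ := by
      rw [lt_top_iff_ne_top, Ne, Subgroup.subgroupOf_eq_top]
      intro hle
      exact hR'K (hle.trans hR₀N)
    have hnc := Group.normalizerCondition_of_isNilpotent (G := R') _ hlt
    obtain ⟨y, hyn, hyT⟩ := SetLike.exists_of_lt hnc
    refine ⟨(y : G), ?_, ?_⟩
    · rw [hY, Subgroup.mem_inf]
      refine ⟨y.2, ?_⟩
      rw [Subgroup.mem_normalizer_iff]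
      intro x
      by_cases hx : x ∈ R'
      · have := Subgroup.mem_normalizer_iff.mp hyn ⟨x, hx⟩
        rw [Subgroup.mem_subgroupOf, Subgroup.mem_subgroupOf] at this
        exact this
      · constructor
        · intro h; exact absurd (hR₀R' h) hx
        · intro h
          exfalso; apply hx
          have := R'.mul_mem (R'.mul_mem (R'.inv_mem y.2) (hR₀R' h)) y.2
          have e : (y : G)⁻¹ * ((y : G) * x * (y : G)⁻¹) * (y : G) = x := by group
          rwa [e] at this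
    · intro h
      apply hyT
      rw [Subgroup.mem_subgroupOf]; exact h
  apply frobenius_of_section H Y R₀ hR₀Y hYR₀ hHR₀ hHY _ hne hH1 _ _
  · intro g hgY hgH
    exact hdisj g (hR'M (hYR' hgY)) hgH
  · exact Nat.Coprime.coprime_dvd_right (Subgroup.card_dvd_of_le ((hR₀R'.trans hR'M))) hcop
  · intro h hh h1 y hy hyh
    rw [hR₀, Subgroup.mem_inf]
    exact ⟨hYR' hy, hcent1 h hh h1 y hyh⟩

end Cfsg.Agent.H2.Wielandt
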