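import Mathlib
import Cfsg.Agent.Lib.Helper7.SylowLib

set_option autoImplicit false

namespace Cfsg.Agent.H2.WittSetup

open MulAction Cfsg.Agent.Lib.Helper7

variable {Γ : Type*} [Group Γ] {α : Type*} [MulAction Γ α]

/-- counting lemma: image of a subgroup under a hom killing `B ⊓ M` -/
theorem card_map_dvd_index {L : Type*} [Group L] (M B : Subgroup Γ) [M.Normal] (π : Γ →* L)
    (h : B ⊓ M ≤ π.ker) : Nat.card (B.map π) ∣ M.index := by
  rw [← Subgroup.relIndex_ker]
  have h1 : π.ker.relIndex B ∣ (B ⊓ M).relIndex B := Subgroup.relIndex_dvd_of_le_left B h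
  rw [Subgroup.inf_relIndex_left] at h1
  exact h1.trans (Subgroup.relIndex_dvd_index_of_normal M B)

theorem stabilizer_snoc {t : ℕ} (x : Fin t ↪ α) {ω : α} (hω : ω ∉ Set.range x) :
    stabilizer Γ (Fin.Embedding.snoc x hω) = stabilizer Γ x ⊓ stabilizer Γ ω := by
  ext g
  simp only [mem_stabilizer_iff, Subgroup.mem_inf]
  constructor
  · intro h
    constructor
    · ext i
      have := DFunLike.congr_fun h i.castSucc
      simpa [Function.Embedding.smul_apply, Fin.Embedding.snoc_castSucc] using this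
    · have := DFunLike.congr_fun h (Fin.last t)
      simpa [Function.Embedding.smul_apply, Fin.Embedding.snoc_last] using this
  · rintro ⟨h1, h2⟩
    ext i
    refine Fin.lastCases ?_ (fun j => ?_) i
    · simp [Function.Embedding.smul_apply, Fin.Embedding.snoc_last, h2]
    · have := DFunLike.congr_fun h1 j
      simpa [Function.Embedding.smul_apply, Fin.Embedding.snoc_castSucc] using this

/-- transitivity of the stabilizer of `t` points on the remaining ones -/
theorem exists_mem_stabilizer_smul_eq {t : ℕ} (hΓ : IsMultiplyPretransitive Γ α (t + 1))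
    (x : Fin t ↪ α) {ω ω' : α} (hω : ω ∉ Set.range x) (hω' : ω' ∉ Set.range x) :
    ∃ g ∈ stabilizer Γ x, g • ω = ω' := by
  obtain ⟨g, hg⟩ := exists_smul_eq Γ (Fin.Embedding.snoc x hω) (Fin.Embedding.snoc x hω')
  refine ⟨g, ?_, ?_⟩
  · rw [mem_stabilizer_iff]
    ext i
    have := DFunLike.congr_fun hg i.castSucc
    simpa [Function.Embedding.smul_apply, Fin.Embedding.snoc_castSucc] using this
  · have := DFunLike.congr_fun hg (Fin.last t)
    simpa [Function.Embedding.smul_apply, Fin.Embedding.snoc_last] using this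

/-- orbit-stabilizer for a subgroup -/
theorem card_eq_orbit_mul [Finite Γ] (H : Subgroup Γ) (ω : α) :
    Nat.card H = Nat.card (orbit H ω) * Nat.card ↥(H ⊓ stabilizer Γ ω) := by
  have h1 := Subgroup.index_mul_card (stabilizer H ω)
  rw [index_stabilizer, ← Nat.card_coe_set_eq] at h1
  have h2 : stabilizer H ω = (H ⊓ stabilizer Γ ω).subgroupOf H := by
    ext g
    rw [Subgroup.mem_subgroupOf, Subgroup.mem_inf, mem_stabilizer_iff, mem_stabilizer_iff]
    constructor
    · intro h; exact ⟨g.2, h⟩
    · intro h; exact h.2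
  have h3 : Nat.card (stabilizer H ω) = Nat.card ↥(H ⊓ stabilizer Γ ω) := by
    rw [h2]
    exact Nat.card_congr (Subgroup.subgroupOfEquivOfLe inf_le_left).toEquiv
  rw [← h1, h3]


section sylow_orbits

variable [Finite Γ] [Fintype α] {p : ℕ} [hp : Fact p.Prime] {k t : ℕ}
  (hn : Fintype.card α = k * p + t) (hk : 1 ≤ k) (hkp : k < p)
  (hΓ : IsMultiplyPretransitive Γ α (t + 1)) (x : Fin t ↪ α)

include hn hΓ in
theorem card_orbit_stabilizer {ω : α} (hω : ω ∉ Set.range x) :
    Nat.card (orbit (stabilizer Γ x) ω) = k * p := by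
  have h1 : orbit (stabilizer Γ x) ω = (Set.range x)ᶜ := by
    ext y
    constructor
    · rintro ⟨⟨g, hg⟩, rfl⟩ ⟨i, hi⟩
      apply hω
      refine ⟨i, ?_⟩
      have h2 : g • x i = x i := by
        have := DFunLike.congr_fun (mem_stabilizer_iff.mp hg) i
        simpa [Function.Embedding.smul_apply] using this
      have h3 : g • x i = g • ω := by rw [h2]; exact hi
      exact smul_left_cancel g h3
    · intro hy
      obtain ⟨g, hg, hgy⟩ := exists_mem_stabilizer_smul_eq hΓ x hω hy
      exact ⟨⟨g, hg⟩, hgy⟩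
  rw [h1, Nat.card_coe_set_eq, Set.ncard_compl, Nat.card_eq_fintype_card, hn]
  have : (Set.range x).ncard = t := by
    rw [← Set.image_univ, Set.ncard_image_of_injective _ x.injective, Set.ncard_univ]
    simp
  rw [this]; omega

include hn hk hkp hΓ in
theorem card_orbit_sylow {R : Subgroup Γ} (hR : IsSylowIn p R (stabilizer Γ x)) {ω : α}
    (hω : ω ∉ Set.range x) : Nat.card (orbit R ω) = p := by
  have hpp := hp.out
  have hRp : IsPGroup p R := hR.isPGroup
  have h0 := card_orbit_stabilizer hn hΓ x hω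
  have h1 := card_eq_orbit_mul (stabilizer Γ x) ω
  rw [h0] at h1
  have h2 := card_eq_orbit_mul R ω
  -- the orbit of `R` is a `p`-power
  obtain ⟨e, he⟩ := hRp.card_orbit ω
  -- at most `k * p`
  have hsub : orbit R ω ⊆ orbit (stabilizer Γ x) ω := by
    rintro _ ⟨⟨g, hg⟩, rfl⟩
    exact ⟨⟨g, hR.1 hg⟩, rfl⟩
  have hle : Nat.card (orbit R ω) ≤ k * p := by
    rw [← h0, Nat.card_coe_set_eq, Nat.card_coe_set_eq]
    exact Set.ncard_le_ncard hsub (Set.toFinite _)
  -- `p` divides the orbit length
  have hdiv : p ∣ Nat.card (orbit R ω) := by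
    set A := Nat.card ↥(stabilizer Γ x ⊓ stabilizer Γ ω) with hA
    set B := Nat.card ↥(R ⊓ stabilizer Γ ω) with hB
    have hApos : A ≠ 0 := Nat.card_pos.ne'
    have hBdvd : B ∣ A := Subgroup.card_dvd_of_le (inf_le_inf_right _ hR.1)
    obtain ⟨j, hj⟩ := (hRp.to_le (inf_le_left : R ⊓ stabilizer Γ ω ≤ R)).exists_card_eq
    rw [← hB] at hj
    have hcard := hR.2
    rw [h1] at hcard
    have hkp0 : k * p ≠ 0 := Nat.mul_ne_zero (by omega) hpp.ne_zero
    rw [Nat.factorization_mul hkp0 hApos, Nat.factorization_mul (by omega) hpp.ne_zero] at hcard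
    simp only [Finsupp.coe_add, Pi.add_apply, hpp.factorization_self] at hcard
    have hk0 : k.factorization p = 0 := by
      apply Nat.factorization_eq_zero_of_not_dvd
      intro h
      have := Nat.le_of_dvd (by omega) h
      omega
    rw [hk0, zero_add] at hcard
    -- `j ≤ A.factorization p`
    have hjA : j ≤ A.factorization p := by
      rw [hj] at hBdvd
      exact (hpp.pow_dvd_iff_le_factorization hApos).mp hBdvd
    rw [h2, hj, he] at hcard
    -- p ^ e * p ^ j = p ^ (1 + v)
    rw [← pow_add] at hcard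
    have := Nat.pow_right_injective hpp.two_le hcard
    have he1 : 1 ≤ e := by omega
    rw [he]
    exact dvd_pow_self p (by omega)
  rw [he] at hdiv hle ⊢
  have he1 : e ≠ 0 := by
    rintro rfl
    rw [pow_zero] at hdiv
    exact hpp.one_lt.ne' (Nat.dvd_one.mp hdiv)
  have he2 : e < 2 := by
    by_contra hcon
    have h3 : p ^ 2 ≤ p ^ e := Nat.pow_le_pow_right hpp.pos (by omega)
    have h4 : k * p < p * p := Nat.mul_lt_mul_of_pos_right hkp hpp.pos
    rw [pow_two] at h3
    omega
  have : e = 1 := by omega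
  rw [this, pow_one]

include hn hk hkp hΓ in
theorem card_orbit_pgroup {R : Subgroup Γ} (hR : R ≤ stabilizer Γ x) (hRp : IsPGroup p R) (ω : α) :
    Nat.card (orbit R ω) = 1 ∨ Nat.card (orbit R ω) = p := by
  have hpp := hp.out
  by_cases hω : ω ∈ Set.range x
  · left
    obtain ⟨i, rfl⟩ := hω
    have : orbit R (x i) = {x i} := by
      ext y
      constructor
      · rintro ⟨⟨g, hg⟩, rfl⟩
        have := DFunLike.congr_fun (mem_stabilizer_iff.mp (hR hg)) i
        simpa [Function.Embedding.smul_apply] using this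
      · rintro rfl
        exact mem_orbit_self _
    rw [this]
    simp
  · obtain ⟨P₁, hP₁, hRP₁⟩ := exists_isSylowIn_ge hRp hR
    have h1 := card_orbit_sylow hn hk hkp hΓ x hP₁ hω
    obtain ⟨e, he⟩ := hRp.card_orbit ω
    have hsub : orbit R ω ⊆ orbit P₁ ω := by
      rintro _ ⟨⟨g, hg⟩, rfl⟩
      exact ⟨⟨g, hRP₁ hg⟩, rfl⟩
    have hle : Nat.card (orbit R ω) ≤ p := by
      rw [← h1, Nat.card_coe_set_eq, Nat.card_coe_set_eq]
      exact Set.ncard_le_ncard hsub (Set.toFinite _)
    rw [he] at hle ⊢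
    rcases Nat.lt_or_ge e 1 with h | h
    · left
      have : e = 0 := by omega
      rw [this, pow_zero]
    · right
      have h3 : p ^ 1 ≤ p ^ e := Nat.pow_le_pow_right hpp.pos h
      rw [pow_one] at h3
      omega

end sylow_orbits

end Cfsg.Agent.H2.WittSetup
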