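import Mathlib
import Cfsg.Agent.H2.OrbitPerm
import Cfsg.Agent.H2.SymNormal
import Cfsg.Agent.H2.WittSetup

set_option autoImplicit false

namespace Cfsg.Agent.H2.WielandtJM

open MulAction Equiv Cfsg.Agent.H2.OrbitPerm Cfsg.Agent.H2.SymNormal Cfsg.Agent.H2.WittSetup

theorem fact1 {k r c : ℕ} (hk : 2 ≤ k) (hkr : k < r) (hc : 2 * c = r.factorial) :
    ¬ c ∣ k.factorial := by
  intro h
  have h1 : r.factorial ∣ 2 * k.factorial := by rw [← hc]; exact Nat.mul_dvd_mul_left 2 h
  have h2 : r.factorial ≤ 2 * k.factorial :=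
    Nat.le_of_dvd (Nat.mul_pos (by norm_num) (Nat.factorial_pos k)) h1
  have h3 : (k + 1).factorial ≤ r.factorial := Nat.factorial_le hkr
  rw [Nat.factorial_succ] at h3
  have h4 : 3 * k.factorial ≤ (k + 1) * k.factorial := Nat.mul_le_mul_right _ (by omega)
  have := Nat.factorial_pos k
  omega

theorem fact2 {k m c : ℕ} (hk : 1 ≤ k) (hkm : k + 2 ≤ m) (hc : 2 * c = m.factorial) :
    ¬ c ∣ k.factorial := by
  intro h
  have h1 : m.factorial ∣ 2 * k.factorial := by rw [← hc]; exact Nat.mul_dvd_mul_left 2 h
  have h2 : m.factorial ≤ 2 * k.factorial :=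
    Nat.le_of_dvd (Nat.mul_pos (by norm_num) (Nat.factorial_pos k)) h1
  have h3 : (k + 2).factorial ≤ m.factorial := Nat.factorial_le hkm
  rw [Nat.factorial_succ, Nat.factorial_succ] at h3
  have h4 : 3 * k.factorial ≤ (k + 1 + 1) * ((k + 1) * k.factorial) := by
    have h5 : 1 * k.factorial ≤ (k + 1) * k.factorial := Nat.mul_le_mul_right _ (by omega)
    have h6 : 3 * ((k + 1) * k.factorial) ≤ (k + 1 + 1) * ((k + 1) * k.factorial) :=
      Nat.mul_le_mul_right _ (by omega)
    omega
  have := Nat.factorial_pos k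
  omega

theorem alternatingGroup_le_commutator {X : Type*} [Fintype X] [DecidableEq X] :
    alternatingGroup X ≤ commutator (Perm X) := by
  rw [← Perm.closure_three_cycles_eq_alternating, commutator_eq_closure, Subgroup.closure_le]
  intro σ hσ
  apply Subgroup.subset_closure
  apply mem_commutatorSet_of_isConj_sq
  rw [Perm.isConj_iff_cycleType_eq, pow_two]
  have h1 : σ.cycleType = {3} := hσ
  have h2 : (σ * σ).cycleType = {3} := Perm.IsThreeCycle.isThreeCycle_sq hσ
  rw [h1, h2]


set_option maxHeartbeats 1000000 in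
theorem comm_three_cycles {X : Type*} [DecidableEq X] (u v w z : X) (huv : u ≠ v) (huw : u ≠ w)
    (huz : u ≠ z) (hvw : v ≠ w) (hvz : v ≠ z) (hwz : w ≠ z) :
    (swap u v * swap u w) * (swap u v * swap u z) * (swap u v * swap u w)⁻¹ *
      (swap u v * swap u z)⁻¹ = swap u v * swap w z := by
  have e1 : (swap u v * swap u w) * (swap u v * swap u z) * (swap u v * swap u w)⁻¹ =
      swap w u * swap w z := by
    have : (swap u v * swap u w) * (swap u v * swap u z) * (swap u v * swap u w)⁻¹
      = ((swap u v * swap u w) * swap u v * (swap u v * swap u w)⁻¹) *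
        ((swap u v * swap u w) * swap u z * (swap u v * swap u w)⁻¹) := by group
    rw [this, ← swap_apply_apply, ← swap_apply_apply]
    simp only [Perm.mul_apply, swap_apply_left, swap_apply_right,
      swap_apply_of_ne_of_ne huv.symm hvw, swap_apply_of_ne_of_ne huw.symm hvw.symm,
      swap_apply_of_ne_of_ne huz.symm hwz.symm, swap_apply_of_ne_of_ne huz.symm hvz.symm]
  rw [e1]
  ext x
  simp only [mul_inv_rev, swap_inv, Perm.mul_apply, swap_apply_def]
  split_ifs <;> simp_all

section cases

variable {K : Type*} [Group K] [Finite K] {α : Type*} [Fintype α] [DecidableEq α] [MulAction K α]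
  (U : Subgroup K) [hU : U.Normal] [Fintype (fixedPoints U α)] {p : ℕ} [hp : Fact p.Prime]
  (hp2 : p ≠ 2) (hUp : IsPGroup p U)
  (h1 : ∀ ω, ω ∉ fixedPoints U α → Nat.card (orbit U ω) = p)

include hp2 hUp h1

/-- Case B: the normalizer induces at least the alternating group on the fixed points. -/
theorem caseB
    (halt : alternatingGroup (fixedPoints U α) ≤ (toPermHom K (fixedPoints U α)).range)
    (hcard : Nat.card (orbs U α) + 2 ≤ Fintype.card (fixedPoints U α))
    (h5 : 5 ≤ Fintype.card (fixedPoints U α)) (hk' : 1 ≤ Nat.card (orbs U α)) :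
    ∃ g : K, ∃ F : Finset α, F.card ≤ 4 ∧ (∀ ω : α, ω ∉ F → g • ω = ω) ∧ ∃ ω : α, g • ω ≠ ω := by
  classical
  set π := toPermHom K (fixedPoints U α) with hπ
  set A := alternatingGroup (fixedPoints U α) with hA
  have h5' : 5 ≤ Nat.card (fixedPoints U α) := by rw [Nat.card_eq_fintype_card]; exact h5
  have hntr : Nontrivial (fixedPoints U α) := by
    rw [← Fintype.one_lt_card_iff_nontrivial]; omega
  have hAcard : 2 * Nat.card A = (Fintype.card (fixedPoints U α)).factorial := by
    rw [Nat.card_eq_fintype_card, two_mul_card_alternatingGroup, Fintype.card_perm]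
  -- Step 1
  have step1 : A ≤ (M U α).map π := by
    have hnorm : (((M U α).map π).subgroupOf A).Normal := by
      constructor
      rintro ⟨t, ht⟩ htm ⟨a, ha⟩
      rw [Subgroup.mem_subgroupOf] at htm ⊢
      obtain ⟨m, hm, hmt⟩ := htm
      obtain ⟨h, hh⟩ := halt ha
      refine ⟨h * m * h⁻¹, (inferInstance : (M U α).Normal).conj_mem m hm h, ?_⟩
      simp only [map_mul, map_inv, hh]
      show a * π m * a⁻¹ = a * t * a⁻¹
      rw [hmt]
    rcases alternatingGroup.normal_subgroup_eq_bot_or_eq_top h5'
        (N := ((M U α).map π).subgroupOf A) with hbot | htop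
    · exfalso
      have hdisj : (M U α).map π ⊓ A = ⊥ := by
        rw [← disjoint_iff]; exact Subgroup.subgroupOf_eq_bot.mp hbot
      have hker : A.comap π ⊓ M U α ≤ π.ker := by
        rintro m ⟨hm1, hm2⟩
        rw [MonoidHom.mem_ker]
        have : π m ∈ (M U α).map π ⊓ A := ⟨⟨m, hm2, rfl⟩, hm1⟩
        rw [hdisj] at this
        exact this
      have h2 := card_map_dvd_index (M U α) (A.comap π) π hker
      rw [Subgroup.map_comap_eq, inf_eq_right.mpr halt] at h2
      exact fact2 hk' hcard hAcard (h2.trans (index_M_dvd U))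
    · exact Subgroup.subgroupOf_eq_top.mp htop
  -- Step 2: four points
  obtain ⟨f⟩ : Nonempty (Fin 4 ↪ fixedPoints U α) :=
    Function.Embedding.nonempty_of_card_le (by rw [Fintype.card_fin]; omega)
  set u := f 0 with hu
  set v := f 1 with hv
  set w := f 2 with hw
  set z := f 3 with hz
  have huv : u ≠ v := fun h => by have := f.injective h; exact absurd this (by decide)
  have huw : u ≠ w := fun h => by have := f.injective h; exact absurd this (by decide)
  have huz : u ≠ z := fun h => by have := f.injective h; exact absurd this (by decide)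
  have hvw : v ≠ w := fun h => by have := f.injective h; exact absurd this (by decide)
  have hvz : v ≠ z := fun h => by have := f.injective h; exact absurd this (by decide)
  have hwz : w ≠ z := fun h => by have := f.injective h; exact absurd this (by decide)
  have ha₀ : swap u v * swap u w ∈ A :=
    (Perm.isThreeCycle_swap_mul_swap_same huv huw hvw).mem_alternatingGroup
  have hb₀ : swap u v * swap u z ∈ A :=
    (Perm.isThreeCycle_swap_mul_swap_same huv huz hvz).mem_alternatingGroup
  obtain ⟨a, haM, haπ⟩ := step1 ha₀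
  obtain ⟨b, hbM, hbπ⟩ := step1 hb₀
  have hτ := comm_three_cycles u v w z huv huw huz hvw hvz hwz
  set g := (a * b * a⁻¹ * b⁻¹) ^ p with hg
  have hπg : π g = swap u v * swap w z := by
    rw [hg, map_pow, map_mul, map_mul, map_mul, map_inv, map_inv, haπ, hbπ, hτ]
    exact pow_odd_of_sq_eq_one _ (dswap_sq huw huz hvw hvz) (hp.out.odd_of_ne_two hp2)
  have hsmul : ∀ φ : fixedPoints U α, g • (φ : α) = ((π g) φ : α) := fun φ => rfl
  refine ⟨g, {(u : α), (v : α), (w : α), (z : α)}, Finset.card_le_four, ?_, ?_⟩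
  · intro ω hω
    simp only [Finset.mem_insert, Finset.mem_singleton, not_or] at hω
    by_cases hωΦ : ω ∈ fixedPoints U α
    · have := hsmul ⟨ω, hωΦ⟩
      rw [this, hπg, Perm.mul_apply]
      have e1 : swap w z ⟨ω, hωΦ⟩ = ⟨ω, hωΦ⟩ :=
        swap_apply_of_ne_of_ne (fun h => hω.2.2.1 (congrArg Subtype.val h))
          (fun h => hω.2.2.2 (congrArg Subtype.val h))
      rw [e1]
      have e2 : swap u v ⟨ω, hωΦ⟩ = ⟨ω, hωΦ⟩ :=
        swap_apply_of_ne_of_ne (fun h => hω.1 (congrArg Subtype.val h))
          (fun h => hω.2.1 (congrArg Subtype.val h))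
      rw [e2]
    · exact comm_pow_smul U hUp h1 haM hbM ω hωΦ
  · refine ⟨(u : α), ?_⟩
    rw [hsmul u, hπg, Perm.mul_apply, swap_apply_of_ne_of_ne huw huz, swap_apply_left]
    exact fun h => huv (Subtype.ext h).symm


/-- Case A: `U` cyclic and the normalizer induces the full symmetric group on the fixed points. -/
theorem caseA (hcyc : IsCyclic U)
    (hsurj : Function.Surjective (toPermHom K (fixedPoints U α)))
    (hr3 : 3 ≤ Fintype.card (fixedPoints U α))
    (hex : ¬ (p = 3 ∧ Fintype.card (fixedPoints U α) = 3))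
    (hk2 : 2 ≤ Nat.card (orbs U α))
    (hkr : Nat.card (orbs U α) < Fintype.card (fixedPoints U α)) :
    ∃ g : K, (∀ ω : α, ω ∉ fixedPoints U α → g • ω = ω) ∧ ∃ ω : α, g • ω ≠ ω := by
  classical
  set π := toPermHom K (fixedPoints U α) with hπ
  set A := alternatingGroup (fixedPoints U α) with hA
  have hntr : Nontrivial (fixedPoints U α) := by
    rw [← Fintype.one_lt_card_iff_nontrivial]; omega
  have hAcard : 2 * Nat.card A = (Fintype.card (fixedPoints U α)).factorial := by
    rw [Nat.card_eq_fintype_card, two_mul_card_alternatingGroup, Fintype.card_perm]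
  have hrange : π.range = ⊤ := MonoidHom.range_eq_top.mpr hsurj
  -- commutators centralize `U`
  have hcomm : commutator K ≤ Subgroup.centralizer (U : Set K) := by
    let f : K →* (ZMod (Nat.card U))ˣ :=
      (IsCyclic.mulAutMulEquiv (G := U)).toMonoidHom.comp (MulAut.conjNormal (H := U))
    refine (Abelianization.commutator_subset_ker f).trans ?_
    intro g hg
    rw [MonoidHom.mem_ker] at hg
    have h2 : MulAut.conjNormal (H := U) g = 1 := by
      apply (IsCyclic.mulAutMulEquiv (G := U)).injective
      rw [map_one]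
      exact hg
    rw [Subgroup.mem_centralizer_iff]
    intro u hu
    have h3 := DFunLike.congr_fun h2 ⟨u, hu⟩
    have h4 : g * u * g⁻¹ = u := congrArg Subtype.val h3
    calc u * g = (g * u * g⁻¹) * g := by rw [h4]
      _ = g * u := by group
  have hAle : A ≤ (Subgroup.centralizer (U : Set K)).map π := by
    refine alternatingGroup_le_commutator.trans ?_
    have : commutator (Perm (fixedPoints U α)) = (commutator K).map π := by
      rw [map_commutator_eq, hrange, commutator_def]
    rw [this]
    exact Subgroup.map_mono hcomm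
  set C := Subgroup.centralizer (U : Set K) ⊓ M U α with hC
  have hCn : C.Normal := Subgroup.normal_inf_normal _ _
  have hCne : C.map π ≠ ⊥ := by
    intro hbot
    have hker : Subgroup.centralizer (U : Set K) ⊓ M U α ≤ π.ker :=
      (Subgroup.map_eq_bot_iff _).mp hbot
    have h2 := card_map_dvd_index (M U α) (Subgroup.centralizer (U : Set K)) π hker
    have h3 := Subgroup.card_dvd_of_le hAle
    exact fact1 hk2 hkr hAcard ((h3.trans h2).trans (index_M_dvd U))
  have hCmn : (C.map π).Normal := hCn.map π hsurj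
  obtain ⟨τ, hτ, hτp⟩ := exists_pow_ne_one (C.map π) hCne p hp.out hp2 hr3 hex
  obtain ⟨c, hc, rfl⟩ := hτ
  have hcU : ∀ u ∈ U, c * u = u * c := fun u hu =>
    ((Subgroup.mem_centralizer_iff.mp hc.1) u hu).symm
  refine ⟨c ^ p, fun ω hω => cent_pow_smul U hUp h1 hc.2 hcU ω hω, ?_⟩
  have h4 : π (c ^ p) ≠ 1 := by rw [map_pow]; exact hτp
  obtain ⟨φ, hφ⟩ : ∃ φ, π (c ^ p) φ ≠ φ := by
    by_contra hcon
    push Not at hcon
    exact h4 (Perm.ext hcon)
  refine ⟨(φ : α), fun h => hφ (Subtype.ext h)⟩

end cases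

end Cfsg.Agent.H2.WielandtJM
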