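import Mathlib
import Cfsg.Agent.H2.WielandtJM
import Cfsg.Agent.S4219

set_option autoImplicit false

universe u

namespace Cfsg.Agent.H2.WielandtGlue

open MulAction Equiv Cfsg.Agent.H2.OrbitPerm Cfsg.Agent.H2.WittSetup Cfsg.Agent.H2.WielandtJM
  Cfsg.Agent.Lib.Helper7

section basic

variable {Γ : Type*} [Group Γ] {α : Type*} [MulAction Γ α] (Q N : Subgroup Γ)

theorem orbit_subgroupOf (hQN : Q ≤ N) (ω : α) : orbit (Q.subgroupOf N) ω = orbit Q ω := by
  ext y
  constructor
  · rintro ⟨⟨⟨g, hgN⟩, hg⟩, rfl⟩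
    exact ⟨⟨g, Subgroup.mem_subgroupOf.mp hg⟩, rfl⟩
  · rintro ⟨⟨g, hg⟩, rfl⟩
    exact ⟨⟨⟨g, hQN hg⟩, Subgroup.mem_subgroupOf.mpr hg⟩, rfl⟩

theorem fixedPoints_subgroupOf (hQN : Q ≤ N) :
    fixedPoints (Q.subgroupOf N) α = fixedPoints Q α := by
  ext ω
  simp only [mem_fixedPoints]
  constructor
  · rintro h ⟨g, hg⟩
    exact h ⟨⟨g, hQN hg⟩, Subgroup.mem_subgroupOf.mpr hg⟩
  · rintro h ⟨⟨g, hgN⟩, hg⟩
    exact h ⟨g, Subgroup.mem_subgroupOf.mp hg⟩

theorem mem_fixedPoints_of_card_orbit_eq_one {ω : α} (h : Nat.card (orbit Q ω) = 1) :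
    ω ∈ fixedPoints Q α := by
  obtain ⟨hs, _⟩ := Nat.card_eq_one_iff_unique.mp h
  intro g
  have := hs.elim (⟨g • ω, mem_orbit ω g⟩ : orbit Q ω) ⟨ω, mem_orbit_self ω⟩
  exact congrArg Subtype.val this

theorem card_orbit_eq_one_of_mem_fixedPoints {ω : α} (h : ω ∈ fixedPoints Q α) :
    Nat.card (orbit Q ω) = 1 := by
  have : orbit Q ω = {ω} := by
    ext y
    constructor
    · rintro ⟨g, rfl⟩
      exact h g
    · rintro rfl
      exact mem_orbit_self _
  rw [this]
  simp

end basic

section witt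

variable {Γ : Type*} [Group Γ] {α : Type*} [MulAction Γ α] (Q : Subgroup Γ)

/-- transitivity of the normalizer on the fixed points, in the form needed for the induction -/
theorem range_isMultiplyPretransitive (t : ℕ)
    (hW : ∀ a b : Fin t ↪ α, (∀ i, a i ∈ fixedPoints Q α) → (∀ i, b i ∈ fixedPoints Q α) →
      ∃ g ∈ Subgroup.normalizer (Q : Set Γ), g • a = b) :
    IsMultiplyPretransitive
      (toPermHom (Subgroup.normalizer (Q : Set Γ))
        (fixedPoints (Q.subgroupOf (Subgroup.normalizer (Q : Set Γ))) α)).range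
      (fixedPoints (Q.subgroupOf (Subgroup.normalizer (Q : Set Γ))) α) t := by
  have hfp := fixedPoints_subgroupOf (α := α) Q (Subgroup.normalizer (Q : Set Γ))
    Subgroup.le_normalizer
  refine ⟨fun a' b' => ?_⟩
  obtain ⟨g, hg, hgab⟩ := hW (a'.trans (Function.Embedding.subtype _))
    (b'.trans (Function.Embedding.subtype _))
    (fun i => by rw [← hfp]; exact (a' i).2) (fun i => by rw [← hfp]; exact (b' i).2)
  refine ⟨⟨toPermHom (Subgroup.normalizer (Q : Set Γ))
    (fixedPoints (Q.subgroupOf (Subgroup.normalizer (Q : Set Γ))) α) ⟨g, hg⟩, ⟨g, hg⟩, rfl⟩, ?_⟩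
  ext i
  have := DFunLike.congr_fun hgab i
  exact this

end witt

section cases

variable {Γ : Type*} [Group Γ] [Finite Γ] {α : Type u} [Fintype α] [DecidableEq α] [MulAction Γ α]
  [FaithfulSMul Γ α] {p k r : ℕ} [hp : Fact p.Prime]

omit [Finite Γ] [Fintype α] [DecidableEq α] in
/-- a nontrivial subgroup moves a point -/
theorem exists_notMem_fixedPoints (Q : Subgroup Γ) (hQ : Q ≠ ⊥) : ∃ ω : α, ω ∉ fixedPoints Q α := by
  by_contra hcon
  push Not at hcon
  apply hQ
  rw [Subgroup.eq_bot_iff_forall]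
  intro q hq
  apply FaithfulSMul.eq_of_smul_eq_smul (α := α)
  intro ω
  rw [one_smul]
  exact hcon ω ⟨q, hq⟩

omit [DecidableEq α] in
theorem card_add_card_compl (S : Set α) : Nat.card S + Nat.card ↥(Sᶜ) = Fintype.card α := by
  rw [Nat.card_coe_set_eq, Nat.card_coe_set_eq, Set.ncard_add_ncard_compl,
    Nat.card_eq_fintype_card]

theorem caseB_glue (hr : 3 ≤ r) (hk : 2 ≤ k) (hkp : k < p)
    (hn : Fintype.card α = k * p + r) (hΓ : IsMultiplyPretransitive Γ α (r + 1))
    (IH : ∀ j, 1 ≤ j → j < k → ∀ (β : Type u) [Fintype β] [DecidableEq β]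
      (H : Subgroup (Perm β)), Fintype.card β = j * p + r →
      IsMultiplyPretransitive H β (r + 1) → alternatingGroup β ≤ H)
    (x : Fin r ↪ α) {γ : α} (hγ : γ ∉ Set.range x)
    (hdiv : p ∣ Nat.card (stabilizer Γ (Fin.Embedding.snoc x hγ))) :
    ∃ g : Γ, ∃ F : Finset α, F.card ≤ 4 ∧ (∀ ω : α, ω ∉ F → g • ω = ω) ∧
      ∃ ω : α, g • ω ≠ ω := by
  classical
  have hpp := hp.out
  have hp2 : p ≠ 2 := by omega
  set x' := Fin.Embedding.snoc x hγ with hx'
  obtain ⟨Q₀⟩ : Nonempty (Sylow p (stabilizer Γ x')) := inferInstance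
  set Q : Subgroup Γ := (Q₀ : Subgroup (stabilizer Γ x')).map (stabilizer Γ x').subtype with hQ
  have hQle' : Q ≤ stabilizer Γ x' := by
    rintro _ ⟨q, _, rfl⟩; exact q.2
  have hQle : Q ≤ stabilizer Γ x := by
    intro q hq
    have := hQle' hq
    rw [hx', stabilizer_snoc] at this
    exact this.1
  have hQp : IsPGroup p Q := Q₀.isPGroup'.map _
  have hQne : Q ≠ ⊥ := by
    intro h
    rw [hQ, Subgroup.map_eq_bot_iff_of_injective _ (Subgroup.subtype_injective _)] at h
    exact Q₀.ne_bot_of_dvd_card hdiv h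
  -- the normalizer
  set N := Subgroup.normalizer (Q : Set Γ) with hN
  have hQN : Q ≤ N := Subgroup.le_normalizer
  set U : Subgroup N := Q.subgroupOf N with hU
  have : U.Normal := Subgroup.normal_in_normalizer
  have hfp : fixedPoints U α = fixedPoints Q α := fixedPoints_subgroupOf Q N hQN
  have horb : ∀ ω : α, orbit U ω = orbit Q ω := orbit_subgroupOf Q N hQN
  have : Fintype (fixedPoints U α) := Fintype.ofFinite _
  have hUp : IsPGroup p U := hQp.comap_subtype
  have h1 : ∀ ω, ω ∉ fixedPoints U α → Nat.card (orbit U ω) = p := by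
    intro ω hω
    rw [horb]
    rw [hfp] at hω
    rcases card_orbit_pgroup hn (by omega) hkp hΓ x hQle hQp ω with h | h
    · exact absurd (mem_fixedPoints_of_card_orbit_eq_one Q h) hω
    · exact h
  -- Witt
  have hW : IsMultiplyPretransitive (toPermHom N (fixedPoints U α)).range
      (fixedPoints U α) (r + 1) := by
    apply range_isMultiplyPretransitive Q (r + 1)
    intro a b ha hb
    exact Cfsg.Agent.S4219.result hΓ x' Q₀ a b ha hb
  -- counting
  have hc1 := card_orbs_mul U p h1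
  have hc2 := card_add_card_compl (fixedPoints U α)
  rw [Nat.card_eq_fintype_card] at hc2
  have hc3 : r + 1 ≤ Fintype.card (fixedPoints U α) := by
    have hinj : Function.Injective (fun i : Fin (r + 1) => (⟨x' i, by
        rw [hfp]
        rintro ⟨q, hq⟩
        have := DFunLike.congr_fun (mem_stabilizer_iff.mp (hQle' hq)) i
        simpa [Function.Embedding.smul_apply] using this⟩ : fixedPoints U α)) := by
      intro i j hij
      exact x'.injective (congrArg Subtype.val hij)
    have := Fintype.card_le_of_injective _ hinj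
    rw [Fintype.card_fin] at this
    exact this
  obtain ⟨ω₀, hω₀⟩ := exists_notMem_fixedPoints (α := α) Q hQne
  have hk' : 1 ≤ Nat.card (orbs U α) := by
    have : Nonempty (orbs U α) := ⟨⟨orbit U ω₀, ω₀, by rw [hfp]; exact hω₀, rfl⟩⟩
    exact Nat.card_pos
  set k' := Nat.card (orbs U α) with hk'def
  set c := Fintype.card (fixedPoints U α) with hc
  have hlt : k' < k := by
    have : k' * p < k * p := by omega
    exact Nat.lt_of_mul_lt_mul_right this
  obtain ⟨j, hj⟩ := Nat.exists_eq_add_of_lt hlt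
  have hcj : c = (j + 1) * p + r := by
    have : k * p = k' * p + (j + 1) * p := by rw [hj]; ring
    omega
  have halt := IH (j + 1) (by omega) (by omega) (fixedPoints U α)
    (toPermHom N (fixedPoints U α)).range hcj hW
  have hge : p ≤ (j + 1) * p := Nat.le_mul_of_pos_left p (by omega)
  obtain ⟨g, F, hF, hfix, ω, hω⟩ := caseB U hp2 hUp h1 halt (by omega) (by omega) hk'
  exact ⟨(g : Γ), F, hF, hfix, ω, hω⟩

omit [FaithfulSMul Γ α] in
theorem caseA_glue (hr : 3 ≤ r) (hk : 2 ≤ k) (hkp : k < p) (hkr : k < r)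
    (hn : Fintype.card α = k * p + r) (hΓ : IsMultiplyPretransitive Γ α (r + 1))
    (hnot : ¬ (p = 3 ∧ r = 3))
    (x : Fin r ↪ α) {γ : α} (hγ : γ ∉ Set.range x)
    (hndiv : ¬ p ∣ Nat.card (stabilizer Γ (Fin.Embedding.snoc x hγ))) :
    ∃ g : Γ, ∃ F : Finset α, F.card ≤ r ∧ (∀ ω : α, ω ∉ F → g • ω = ω) ∧
      ∃ ω : α, g • ω ≠ ω := by
  classical
  have hpp := hp.out
  have hp2 : p ≠ 2 := by omega
  obtain ⟨P₀⟩ : Nonempty (Sylow p (stabilizer Γ x)) := inferInstance
  set P : Subgroup Γ := (P₀ : Subgroup (stabilizer Γ x)).map (stabilizer Γ x).subtype with hP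
  have hPsyl : IsSylowIn p P (stabilizer Γ x) := IsSylowIn.of_sylow P₀
  have hPle : P ≤ stabilizer Γ x := hPsyl.1
  have hPp : IsPGroup p P := hPsyl.isPGroup
  -- the order of `P`
  have hPcard : Nat.card P = p := by
    rw [hPsyl.2, card_eq_orbit_mul (stabilizer Γ x) γ, card_orbit_stabilizer hn hΓ x hγ]
    rw [stabilizer_snoc] at hndiv
    set m := Nat.card ↥(stabilizer Γ x ⊓ stabilizer Γ γ) with hm
    have hm0 : m ≠ 0 := Nat.card_pos.ne'
    have hkp0 : k * p ≠ 0 := Nat.mul_ne_zero (by omega) hpp.ne_zero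
    rw [Nat.factorization_mul hkp0 hm0, Nat.factorization_mul (by omega) hpp.ne_zero]
    simp only [Finsupp.coe_add, Pi.add_apply, hpp.factorization_self]
    have hk0 : k.factorization p = 0 := by
      apply Nat.factorization_eq_zero_of_not_dvd
      intro h
      have := Nat.le_of_dvd (by omega) h
      omega
    have hm1 : m.factorization p = 0 := Nat.factorization_eq_zero_of_not_dvd hndiv
    rw [hk0, hm1, pow_one]
  -- the normalizer
  set N := Subgroup.normalizer (P : Set Γ) with hN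
  have hPN : P ≤ N := Subgroup.le_normalizer
  set U : Subgroup N := P.subgroupOf N with hU
  have : U.Normal := Subgroup.normal_in_normalizer
  have hfp : fixedPoints U α = fixedPoints P α := fixedPoints_subgroupOf P N hPN
  have horb : ∀ ω : α, orbit U ω = orbit P ω := orbit_subgroupOf P N hPN
  have : Fintype (fixedPoints U α) := Fintype.ofFinite _
  have hUp : IsPGroup p U := hPp.comap_subtype
  have hUcard : Nat.card U = p := by
    rw [← hPcard]
    exact Nat.card_congr (Subgroup.subgroupOfEquivOfLe hPN).toEquiv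
  have hcyc : IsCyclic U := isCyclic_of_prime_card hUcard
  -- fixed points
  have hfix : fixedPoints P α = Set.range x := by
    ext ω
    constructor
    · intro hω
      by_contra hcon
      have h1 := card_orbit_sylow hn (by omega) hkp hΓ x hPsyl hcon
      rw [card_orbit_eq_one_of_mem_fixedPoints P hω] at h1
      exact hpp.one_lt.ne h1
    · rintro ⟨i, rfl⟩ ⟨q, hq⟩
      have := DFunLike.congr_fun (mem_stabilizer_iff.mp (hPle hq)) i
      simpa [Function.Embedding.smul_apply] using this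
  have h1 : ∀ ω, ω ∉ fixedPoints U α → Nat.card (orbit U ω) = p := by
    intro ω hω
    rw [horb]
    rw [hfp, hfix] at hω
    exact card_orbit_sylow hn (by omega) hkp hΓ x hPsyl hω
  have hcardΦ : Fintype.card (fixedPoints U α) = r := by
    rw [← Nat.card_eq_fintype_card, Nat.card_coe_set_eq, hfp, hfix, ← Set.image_univ,
      Set.ncard_image_of_injective _ x.injective, Set.ncard_univ]
    simp
  -- surjectivity
  have hΓr : IsMultiplyPretransitive Γ α r :=
    isMultiplyPretransitive_of_le (n := r + 1) (Nat.le_succ r)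
      (by
        rw [Nat.card_eq_fintype_card, hn]
        have : 0 < k * p := Nat.mul_pos (by omega) hpp.pos
        omega)
  have hxmem : ∀ i, x i ∈ fixedPoints U α := by
    intro i
    rw [hfp, hfix]
    exact ⟨i, rfl⟩
  have hsurj : Function.Surjective (toPermHom N (fixedPoints U α)) := by
    intro σ
    let b : Fin r ↪ α := ⟨fun i => ((σ ⟨x i, hxmem i⟩ : fixedPoints U α) : α), by
      intro i j hij
      have h2 := σ.injective (Subtype.ext hij)
      exact x.injective (congrArg Subtype.val h2)⟩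
    obtain ⟨g, hg, hgb⟩ := Cfsg.Agent.S4219.result hΓr x P₀ x b
      (fun i => by rw [← hfp]; exact hxmem i)
      (fun i => by rw [← hfp]; exact (σ ⟨x i, hxmem i⟩).2)
    refine ⟨⟨g, hg⟩, ?_⟩
    ext ⟨φ, hφ⟩
    have hφ' := hφ
    rw [hfp, hfix] at hφ'
    obtain ⟨i, rfl⟩ := hφ'
    have := DFunLike.congr_fun hgb i
    exact this
  -- counting
  have hc1 := card_orbs_mul U p h1
  have hc2 := card_add_card_compl (fixedPoints U α)
  rw [Nat.card_eq_fintype_card, hcardΦ] at hc2
  have hkk : Nat.card (orbs U α) = k := by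
    have : Nat.card (orbs U α) * p = k * p := by omega
    exact Nat.eq_of_mul_eq_mul_right hpp.pos this
  obtain ⟨g, hgfix, ω, hω⟩ := caseA U hp2 hUp h1 hcyc hsurj (by omega)
    (by rw [hcardΦ]; exact hnot) (by omega) (by omega)
  refine ⟨(g : Γ), Finset.univ.map x, by simp, ?_, ω, hω⟩
  intro ω' hω'
  apply hgfix
  rw [hfp, hfix]
  rintro ⟨i, rfl⟩
  exact hω' (by simp)

omit [DecidableEq α] [Finite Γ] [FaithfulSMul Γ α] hp in
theorem exists_embedding {m : ℕ} (hn : Fintype.card α = m + r) (hm : 0 < m) :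
    ∃ x : Fin r ↪ α, ∃ γ : α, γ ∉ Set.range x := by
  obtain ⟨x⟩ : Nonempty (Fin r ↪ α) :=
    Function.Embedding.nonempty_of_card_le (by rw [Fintype.card_fin]; omega)
  refine ⟨x, ?_⟩
  by_contra hcon
  push Not at hcon
  have hs : Function.Surjective x := hcon
  have := Fintype.card_le_of_surjective x hs
  rw [Fintype.card_fin] at this
  omega

/-- the inductive step, in terms of an abstract faithful group -/
theorem step_glue (hr : 3 ≤ r) (hk : 2 ≤ k) (hkp : k < p) (hkr : k < r)
    (hn : Fintype.card α = k * p + r) (hΓ : IsMultiplyPretransitive Γ α (r + 1))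
    (hnot : ¬ (p = 3 ∧ r = 3))
    (IH : ∀ j, 1 ≤ j → j < k → ∀ (β : Type u) [Fintype β] [DecidableEq β]
      (H : Subgroup (Perm β)), Fintype.card β = j * p + r →
      IsMultiplyPretransitive H β (r + 1) → alternatingGroup β ≤ H) :
    ∃ g : Γ, ∃ F : Finset α, F.card < 2 * r ∧ (∀ ω : α, ω ∉ F → g • ω = ω) ∧
      ∃ ω : α, g • ω ≠ ω := by
  have hpp := hp.out
  have hkp0 : 0 < k * p := Nat.mul_pos (by omega) hpp.pos
  obtain ⟨x, γ, hγ⟩ := exists_embedding (α := α) (r := r) (m := k * p) hn hkp0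
  by_cases hdiv : p ∣ Nat.card (stabilizer Γ (Fin.Embedding.snoc x hγ))
  · obtain ⟨g, F, hF, hfix, hmove⟩ := caseB_glue hr hk hkp hn hΓ IH x hγ hdiv
    exact ⟨g, F, by omega, hfix, hmove⟩
  · obtain ⟨g, F, hF, hfix, hmove⟩ := caseA_glue hr hk hkp hkr hn hΓ hnot x hγ hdiv
    exact ⟨g, F, by omega, hfix, hmove⟩

omit [FaithfulSMul Γ α] [DecidableEq α] in
/-- the base case: an element of order `p` fixing `r` points -/
theorem one_glue (hn : Fintype.card α = 1 * p + r)
    (hΓ : IsMultiplyPretransitive Γ α (r + 1)) :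
    ∃ g : Γ, orderOf g = p ∧ ∃ x : Fin r ↪ α, ∀ i, g • x i = x i := by
  have hpp := hp.out
  obtain ⟨x, γ, hγ⟩ := exists_embedding (α := α) (r := r) (m := 1 * p) hn
    (by have := hpp.pos; omega)
  have h1 := card_eq_orbit_mul (stabilizer Γ x) γ
  rw [card_orbit_stabilizer hn hΓ x hγ] at h1
  have hdiv : p ∣ Nat.card (stabilizer Γ x) := ⟨_, by rw [h1, one_mul]⟩
  obtain ⟨s, hs⟩ := exists_prime_orderOf_dvd_card' p hdiv
  refine ⟨(s : Γ), ?_, x, ?_⟩
  · rw [Subgroup.orderOf_coe, hs]
  · intro i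
    have := DFunLike.congr_fun (mem_stabilizer_iff.mp s.2) i
    simpa [Function.Embedding.smul_apply] using this

end cases

end Cfsg.Agent.H2.WielandtGlue
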