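import Mathlib
import Cfsg.Agent.H2.WielandtGlue
import Cfsg.Agent.H2.KTransSupport
import Cfsg.Agent.S0713
import Cfsg.Agent.S0415

set_option autoImplicit false

universe u

namespace Cfsg.Agent.H2.WielandtMain

open MulAction Equiv Cfsg.Agent.H2.WittSetup Cfsg.Agent.H2.WielandtGlue

section fixed

variable {α : Type u} [Fintype α] [DecidableEq α] (G : Subgroup (Perm α))

theorem finish {r : ℕ} (hr : 2 ≤ r) (hrn : r + 1 ≤ Fintype.card α)
    (hG : IsMultiplyPretransitive G α (r + 1)) (g : G) (F : Finset α) (hF : F.card < 2 * r)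
    (hfix : ∀ ω : α, ω ∉ F → g • ω = ω) (hmove : ∃ ω : α, g • ω ≠ ω) :
    alternatingGroup α ≤ G := by
  have hg1 : (g : Perm α) ≠ 1 := by
    obtain ⟨ω, hω⟩ := hmove
    intro h
    apply hω
    show (g : Perm α) ω = ω
    rw [h]; rfl
  have hsupp : (g : Perm α).support ⊆ F := by
    intro ω hω
    by_contra hcon
    rw [Perm.mem_support] at hω
    exact hω (hfix ω hcon)
  have hcard : (g : Perm α).support.card < 2 * (r + 1) - 2 := by
    have := Finset.card_le_card hsupp
    omega
  exact (Cfsg.Agent.H2.KTransSupport.main G (by omega) hrn hG g g.2 hg1 hcard).2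

theorem case_one {p r : ℕ} [hp : Fact p.Prime] (hr : 3 ≤ r) (hn : Fintype.card α = 1 * p + r)
    (hG : IsMultiplyPretransitive G α (r + 1)) : alternatingGroup α ≤ G := by
  have hpp := hp.out
  obtain ⟨s, hs, x, hsx⟩ := one_glue (Γ := G) hn hG
  set σ : Perm α := (s : Perm α) with hσ
  have hσG : σ ∈ G := s.2
  have hord : orderOf σ = p := by
    rw [hσ, Subgroup.orderOf_coe, hs]
  have hfix : ∀ i, σ (x i) = x i := hsx
  have hsupp : σ.support ⊆ Finset.univ \ Finset.univ.map x := by
    intro ω hω
    rw [Finset.mem_sdiff]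
    refine ⟨Finset.mem_univ _, ?_⟩
    intro h
    rw [Finset.mem_map] at h
    obtain ⟨i, _, rfl⟩ := h
    rw [Perm.mem_support] at hω
    exact hω (hfix i)
  have hcard : σ.support.card ≤ p := by
    have h2 := Finset.card_le_card hsupp
    rw [Finset.card_sdiff_of_subset (Finset.subset_univ _), Finset.card_univ, Finset.card_map,
      Finset.card_univ, Fintype.card_fin, hn] at h2
    omega
  have hcyc : σ.IsCycle := by
    apply Perm.isCycle_of_prime_order
    · rw [hord]; exact hpp
    · rw [hord]
      have := hpp.pos
      omega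
  have hsc : σ.support.card = p := by rw [← hcyc.orderOf, hord]
  have := hpp.two_le
  have h2 : IsMultiplyPretransitive G α 2 :=
    isMultiplyPretransitive_of_le (m := 2) (n := r + 1) (by omega)
      (by rw [Nat.card_eq_fintype_card, hn]; omega)
  have hprim : IsPreprimitive G α := isPreprimitive_of_is_two_pretransitive h2
  exact Cfsg.Agent.S0713.result G hprim hpp (by omega) (by omega) hcyc hsc hσG

theorem case_nine (hn : Fintype.card α = 9) (hG : IsMultiplyPretransitive G α 4) :
    alternatingGroup α ≤ G := by
  by_cases hsharp : ∀ x : Fin 4 ↪ α, stabilizer G x = ⊥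
  · have := Cfsg.Agent.S0415.result G (by omega) hsharp
    omega
  · push Not at hsharp
    obtain ⟨x', hx'⟩ := hsharp
    obtain ⟨g, hg1⟩ := (Subgroup.ne_bot_iff_exists_ne_one).mp hx'
    have hfix : ∀ i, (g : G) • x' i = x' i := by
      intro i
      have := DFunLike.congr_fun (mem_stabilizer_iff.mp g.2) i
      exact this
    apply finish G (r := 3) (by norm_num) (by omega) hG (g : G) (Finset.univ \ Finset.univ.map x')
    · rw [Finset.card_sdiff_of_subset (Finset.subset_univ _), Finset.card_univ, Finset.card_map,
        Finset.card_univ, Fintype.card_fin, hn]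
      norm_num
    · intro ω hω
      rw [Finset.mem_sdiff] at hω
      push Not at hω
      have := hω (Finset.mem_univ _)
      rw [Finset.mem_map] at this
      obtain ⟨i, _, rfl⟩ := this
      exact hfix i
    · by_contra hcon
      push Not at hcon
      apply hg1
      apply Subtype.ext
      apply Subtype.ext
      ext ω
      exact hcon ω

end fixed

theorem main_aux {p r : ℕ} [hp : Fact p.Prime] (hr : 3 ≤ r) :
    ∀ k, 1 ≤ k → k < p → k < r → ∀ (α : Type u) [Fintype α] [DecidableEq α]
      (G : Subgroup (Perm α)), Fintype.card α = k * p + r →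
      IsMultiplyPretransitive G α (r + 1) → alternatingGroup α ≤ G := by
  intro k
  induction k using Nat.strong_induction_on with
  | _ k ih =>
    intro hk hkp hkr α _ _ G hn hG
    have hpp := hp.out
    rcases Nat.eq_or_lt_of_le hk with h1 | h2
    · subst h1
      exact case_one G hr hn hG
    · by_cases h33 : p = 3 ∧ r = 3
      · obtain ⟨rfl, rfl⟩ := h33
        have : k = 2 := by omega
        subst this
        exact case_nine G (by rw [hn]) hG
      · have hkp0 : 0 < k * p := Nat.mul_pos (by omega) hpp.pos
        have hrn : r + 1 ≤ Fintype.card α := by rw [hn]; omega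
        obtain ⟨g, F, hF, hfix, hmove⟩ := step_glue (Γ := G) hr h2 hkp hkr hn hG h33
            (fun j hj hjk β _ _ H hβ hH => ih j hjk hj (by omega) (by omega) β H hβ hH)
        exact finish G (by omega) hrn hG g F hF hfix hmove

end Cfsg.Agent.H2.WielandtMain
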