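import Mathlib
import Cfsg.Agent.H9.Zsigmondy

set_option autoImplicit false

/-! Lower bounds for values of cyclotomic polynomials, towards large Zsigmondy primes. -/

namespace Cfsg.Agent.H2.ZsigBig

open Polynomial Cfsg.Agent.H9.Zsigmondy

/-- evaluating `Φ_{w p^j}` at `x` is evaluating `Φ_w` at `x^(p^j)` when `p ∣ w` -/
theorem eval_cyclotomic_mul_prime_pow (p w : ℕ) (hp : p.Prime) (hw : p ∣ w) (j : ℕ) :
    ∀ x : ℤ, (cyclotomic (w * p ^ j) ℤ).eval x = (cyclotomic w ℤ).eval (x ^ (p ^ j)) := by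
  induction j with
  | zero => intro x; simp
  | succ j ih =>
    intro x
    have h1 : w * p ^ (j + 1) = (w * p ^ j) * p := by rw [pow_succ, mul_assoc]
    have h2 : p ∣ w * p ^ j := Dvd.dvd.mul_right hw _
    rw [h1, ← cyclotomic_expand_eq_cyclotomic hp h2 ℤ, expand_eval, ih (x ^ p), ← pow_mul,
      pow_succ, mul_comm p]

theorem cyc_mul_prime_pow (p w : ℕ) (hp : p.Prime) (hw : p ∣ w) (j a : ℕ) :
    cyc (w * p ^ j) a = cyc w (a ^ (p ^ j)) := by
  unfold cyc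
  rw [eval_cyclotomic_mul_prime_pow p w hp hw j (a : ℤ), Nat.cast_pow]

theorem cyc_mul_prime (p u : ℕ) (hp : p.Prime) (hpu : ¬ p ∣ u) (y : ℕ) (hy : 2 ≤ y) :
    cyc (u * p) y * cyc u y = cyc u (y ^ p) := by
  have h := cyclotomic_expand_eq_cyclotomic_mul hp hpu ℤ
  have h2 := congrArg (fun P => P.eval (y : ℤ)) h
  simp only [expand_eval, eval_mul] at h2
  have hyp : 2 ≤ y ^ p := le_trans hy (Nat.le_self_pow hp.pos.ne' y)
  have e1 := cyc_cast_int (u * p) y hy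
  have e2 := cyc_cast_int u y hy
  have e3 := cyc_cast_int u (y ^ p) hyp
  rw [Nat.cast_pow] at e3
  have : ((cyc (u * p) y * cyc u y : ℕ) : ℤ) = ((cyc u (y ^ p) : ℕ) : ℤ) := by
    rw [Nat.cast_mul, e1, e2, e3, h2]
  exact_mod_cast this

theorem sub_one_pow_le_cyc (n a : ℕ) (ha : 2 ≤ a) : (a - 1) ^ n.totient ≤ cyc n a := by
  have h1 : (1 : ℝ) < (a : ℝ) := by exact_mod_cast (by omega : 1 < a)
  have h := sub_one_pow_totient_le_cyclotomic_eval h1 n
  rw [← cyc_cast_real n a ha] at h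
  have h3 : ((a : ℝ) - 1) = ((a - 1 : ℕ) : ℝ) := by
    rw [Nat.cast_sub (by omega), Nat.cast_one]
  rw [h3] at h
  exact_mod_cast h

theorem sub_one_pow_lt_cyc (n a : ℕ) (hn : 1 < n) (ha : 2 ≤ a) : (a - 1) ^ n.totient < cyc n a := by
  unfold cyc
  exact sub_one_pow_totient_lt_natAbs_cyclotomic_eval hn (by omega)

theorem cyc_le_add_one_pow (n a : ℕ) (ha : 2 ≤ a) : cyc n a ≤ (a + 1) ^ n.totient := by
  have h1 : (1 : ℝ) < (a : ℝ) := by exact_mod_cast (by omega : 1 < a)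
  have h := cyclotomic_eval_le_add_one_pow_totient h1 n
  rw [← cyc_cast_real n a ha] at h
  exact_mod_cast h

/-- the main lower bound -/
theorem pow_le_cyc (p k u a : ℕ) (hp : p.Prime) (hp3 : 3 ≤ p) (hk : 1 ≤ k) (hpu : ¬ p ∣ u)
    (ha : 2 ≤ a) : a ^ (p ^ (k - 1) * ((p - 2) * u.totient)) ≤ cyc (p ^ k * u) a := by
  set y := a ^ (p ^ (k - 1)) with hy
  have hy2 : 2 ≤ y := le_trans ha (Nat.le_self_pow (pow_pos hp.pos _).ne' a)
  have h1 : p ^ k * u = (u * p) * p ^ (k - 1) := by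
    obtain ⟨j, rfl⟩ : ∃ j, k = j + 1 := ⟨k - 1, by omega⟩
    rw [Nat.add_sub_cancel, pow_succ]; ring
  rw [h1, cyc_mul_prime_pow p (u * p) hp (Dvd.intro_left u rfl) (k - 1) a, ← hy, pow_mul, ← hy]
  have h2 := cyc_mul_prime p u hp hpu y hy2
  have hyp : 2 ≤ y ^ p := le_trans hy2 (Nat.le_self_pow hp.pos.ne' y)
  have h3 := sub_one_pow_le_cyc u (y ^ p) hyp
  have h4 := cyc_le_add_one_pow u y hy2
  -- y^(p-2) * (y+1) ≤ y^p - 1
  have h5 : y ^ (p - 2) * (y + 1) ≤ y ^ p - 1 := by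
    have e : y ^ p = y ^ (p - 2) * y ^ 2 := by
      rw [← pow_add]; congr 1; omega
    have h6 : 1 ≤ y ^ (p - 2) := Nat.one_le_pow _ _ (by omega)
    have h7 : y + 2 ≤ y ^ 2 := by nlinarith
    have h8 : y ^ (p - 2) * (y + 2) ≤ y ^ (p - 2) * y ^ 2 := Nat.mul_le_mul_left _ h7
    rw [e]
    have : y ^ (p - 2) * (y + 2) = y ^ (p - 2) * (y + 1) + y ^ (p - 2) := by ring
    omega
  have h6 : (y ^ (p - 2) * (y + 1)) ^ u.totient ≤ cyc (u * p) y * (y + 1) ^ u.totient :=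
    calc (y ^ (p - 2) * (y + 1)) ^ u.totient ≤ (y ^ p - 1) ^ u.totient :=
          Nat.pow_le_pow_left h5 _
      _ ≤ cyc u (y ^ p) := h3
      _ = cyc (u * p) y * cyc u y := h2.symm
      _ ≤ cyc (u * p) y * (y + 1) ^ u.totient := Nat.mul_le_mul_left _ h4
  rw [mul_pow] at h6
  have h7 : 0 < (y + 1) ^ u.totient := pow_pos (by omega) _
  have h8 := Nat.le_of_mul_le_mul_right h6 h7
  rw [← pow_mul] at h8
  exact h8

/-- `φ(v)² ≥ v` for odd `v` -/
theorem le_totient_sq_of_odd (v : ℕ) : Odd v → v ≤ v.totient ^ 2 := by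
  induction v using Nat.recOnPosPrimePosCoprime with
  | prime_pow s j hs hj =>
    intro hodd
    have hs3 : 3 ≤ s := by
      rcases hs.eq_two_or_odd' with h | h
      · subst h
        exact absurd hodd (by
          rw [Nat.not_odd_iff_even]
          exact (Nat.even_pow.2 ⟨even_two, hj.ne'⟩))
      · have := hs.two_le
        rcases h with ⟨c, hc⟩
        omega
    rw [Nat.totient_prime_pow hs hj]
    obtain ⟨i, rfl⟩ : ∃ i, j = i + 1 := ⟨j - 1, by omega⟩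
    rw [Nat.add_sub_cancel, mul_pow, pow_succ]
    have h1 : s ≤ (s - 1) ^ 2 := by
      obtain ⟨c, rfl⟩ : ∃ c, s = c + 3 := ⟨s - 3, by omega⟩
      have : c + 3 - 1 = c + 2 := by omega
      rw [this]; nlinarith
    have h2 : s ^ i ≤ (s ^ i) ^ 2 := by
      have : 1 ≤ s ^ i := Nat.one_le_pow _ _ hs.pos
      nlinarith
    exact Nat.mul_le_mul h2 h1
  | zero => intro h; exact absurd h (by decide)
  | one => intro _; simp
  | coprime a b ha hb hab iha ihb =>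
    intro hodd
    rw [Nat.odd_mul] at hodd
    rw [Nat.totient_mul hab, mul_pow]
    exact Nat.mul_le_mul (iha hodd.1) (ihb hodd.2)

/-- `u ≤ 2 φ(u)²` -/
theorem le_two_mul_totient_sq (u : ℕ) : u ≤ 2 * u.totient ^ 2 := by
  rcases Nat.eq_zero_or_pos u with h | h
  · subst h; simp
  obtain ⟨j, v, hv, rfl⟩ := Nat.exists_eq_two_pow_mul_odd h.ne'
  have hv' := le_totient_sq_of_odd v hv
  rcases Nat.eq_zero_or_pos j with hj | hj
  · subst hj
    rw [pow_zero, one_mul]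
    omega
  · have hcop : Nat.Coprime (2 ^ j) v := by
      apply Nat.Coprime.pow_left
      rw [Nat.coprime_two_left]
      exact hv
    rw [Nat.totient_mul hcop, Nat.totient_prime_pow Nat.prime_two hj]
    obtain ⟨i, rfl⟩ : ∃ i, j = i + 1 := ⟨j - 1, by omega⟩
    rw [Nat.add_sub_cancel]
    norm_num
    have h1 : 2 ^ i ≤ (2 ^ i) ^ 2 := by
      have : 1 ≤ 2 ^ i := Nat.one_le_pow _ _ (by norm_num)
      nlinarith
    rw [mul_pow, pow_succ]
    nlinarith [Nat.mul_le_mul h1 hv']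

theorem two_pow_gt (m : ℕ) (hm : 13 ≤ m) : 36 * m ^ 2 + 3 * m < 2 ^ m := by
  induction m, hm using Nat.le_induction with
  | base => norm_num
  | succ k hk ih =>
    have e : 2 ^ (k + 1) = 2 * 2 ^ k := by ring
    rw [e]
    nlinarith

theorem big_of_large (p k u a : ℕ) (hp : p.Prime) (hp3 : 3 ≤ p) (hk : 1 ≤ k) (hpu : ¬ p ∣ u)
    (ha : 2 ≤ a) (hm : 13 ≤ p ^ (k - 1) * ((p - 2) * u.totient)) :
    p * (2 * (p ^ k * u) + 1) < cyc (p ^ k * u) a := by
  have h1 := pow_le_cyc p k u a hp hp3 hk hpu ha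
  set A := p ^ (k - 1) with hA
  set t := u.totient with ht
  obtain ⟨B, hB⟩ : ∃ B, p = B + 2 := ⟨p - 2, by omega⟩
  have hB1 : 1 ≤ B := by omega
  have hpB : p - 2 = B := by omega
  rw [hpB] at hm h1
  set m := A * (B * t) with hmdef
  have hu : 1 ≤ u := by
    rcases Nat.eq_zero_or_pos u with h | h
    · exact absurd (h ▸ dvd_zero p) hpu
    · exact h
  have ht1 : 1 ≤ t := Nat.totient_pos.2 hu
  have hA1 : 1 ≤ A := Nat.one_le_pow _ _ hp.pos
  have hut : u ≤ 2 * t ^ 2 := le_two_mul_totient_sq u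
  have hpk : p ^ k = A * p := by
    obtain ⟨j, rfl⟩ : ∃ j, k = j + 1 := ⟨k - 1, by omega⟩
    rw [hA, Nat.add_sub_cancel, pow_succ]
  have h2 : 2 ^ m ≤ a ^ m := Nat.pow_le_pow_left ha m
  have h3 := two_pow_gt m hm
  have hBt : B * t ≤ m := by
    rw [hmdef]; exact Nat.le_mul_of_pos_left _ hA1
  have hBm : B ≤ m := le_trans (Nat.le_mul_of_pos_right _ ht1) hBt
  have hp3B : p ≤ 3 * B := by omega
  -- p * (2 * (A * p * u) + 1) ≤ 36 m² + 3 m
  have h4 : p * (2 * (p ^ k * u) + 1) ≤ 36 * m ^ 2 + 3 * m := by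
    rw [hpk]
    have e1 : A * p * u ≤ A * (3 * B) * (2 * t ^ 2) :=
      Nat.mul_le_mul (Nat.mul_le_mul_left _ hp3B) hut
    have e2 : p * (2 * (A * p * u) + 1) ≤ (3 * B) * (2 * (A * (3 * B) * (2 * t ^ 2)) + 1) :=
      Nat.mul_le_mul hp3B (by omega)
    have e3 : (3 * B) * (2 * (A * (3 * B) * (2 * t ^ 2)) + 1) = 36 * (m * (B * t)) + 3 * B := by
      rw [hmdef]; ring
    have e4 : m * (B * t) ≤ m * m := Nat.mul_le_mul_left _ hBt
    rw [e3] at e2
    nlinarith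
  omega

/-- small totients force small arguments -/
theorem le_of_totient_le (u : ℕ) (h : u.totient ≤ 12) : u ≤ 42 := by
  have h1 := le_two_mul_totient_sq u
  have h2 : u.totient ^ 2 ≤ 12 ^ 2 := Nat.pow_le_pow_left h 2
  have h3 : u < 289 := by omega
  have key : ∀ u < 289, Nat.totient u ≤ 12 → u ≤ 42 := by
    set_option maxRecDepth 100000 in decide
  exact key u h3 h

theorem fin1 (n a m R A : ℕ) (h1 : a ^ m ≤ cyc n a) (hA : A ≤ a) (hR : R < A ^ m) :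
    R < cyc n a :=
  lt_of_lt_of_le hR (le_trans (Nat.pow_le_pow_left hA m) h1)

theorem fin2 (n a R A : ℕ) (hn : 1 < n) (ha : 2 ≤ a) (hA : A ≤ a)
    (hR : R ≤ (A - 1) ^ n.totient) : R < cyc n a :=
  lt_of_le_of_lt (le_trans hR (Nat.pow_le_pow_left (by omega) _)) (sub_one_pow_lt_cyc n a hn ha)

/-- the finite list of triples `(a, n, p)` where the crude bounds fail -/
def Box : List (ℕ × ℕ × ℕ) :=
  [(2, 3, 3), (3, 3, 3), (4, 3, 3), (5, 3, 3), (2, 6, 3), (3, 6, 3), (4, 6, 3), (5, 6, 3), (6, 6, 3), (7, 6, 3), (2, 12, 3), (3, 12, 3), (2, 15, 3), (2, 21, 3), (2, 24, 3), (2, 30, 3), (2, 42, 3), (2, 48, 3), (2, 60, 3), (2, 9, 3), (2, 18, 3), (3, 18, 3), (2, 36, 3), (2, 5, 5), (3, 5, 5), (2, 10, 5), (3, 10, 5), (4, 10, 5), (2, 15, 5), (2, 20, 5), (2, 30, 5), (2, 7, 7), (2, 14, 7), (2, 4, 2), (3, 4, 2), (4, 4, 2), (2, 8, 2)]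

theorem case_3_1_1 (a : ℕ) (ha : 2 ≤ a) :
    3 * (2 * (3 ^ 1 * 1) + 1) < cyc (3 ^ 1 * 1) a ∨ (a, 3 ^ 1 * 1, 3) ∈ Box := by
  show 21 < cyc 3 a ∨ (a, 3, 3) ∈ Box
  rcases Nat.lt_or_ge a 6 with h | h
  · right; interval_cases a <;> decide
  · left
    exact fin2 3 a 21 6 (by norm_num) ha h (by rw [show Nat.totient 3 = 2 by decide]; norm_num)

theorem case_3_1_2 (a : ℕ) (ha : 2 ≤ a) :
    3 * (2 * (3 ^ 1 * 2) + 1) < cyc (3 ^ 1 * 2) a ∨ (a, 3 ^ 1 * 2, 3) ∈ Box := by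
  show 39 < cyc 6 a ∨ (a, 6, 3) ∈ Box
  rcases Nat.lt_or_ge a 8 with h | h
  · right; interval_cases a <;> decide
  · left
    exact fin2 6 a 39 8 (by norm_num) ha h (by rw [show Nat.totient 6 = 2 by decide]; norm_num)

theorem case_3_1_4 (a : ℕ) (ha : 2 ≤ a) :
    3 * (2 * (3 ^ 1 * 4) + 1) < cyc (3 ^ 1 * 4) a ∨ (a, 3 ^ 1 * 4, 3) ∈ Box := by
  show 75 < cyc 12 a ∨ (a, 12, 3) ∈ Box
  rcases Nat.lt_or_ge a 4 with h | h
  · right; interval_cases a <;> decide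
  · left
    exact fin2 12 a 75 4 (by norm_num) ha h (by rw [show Nat.totient 12 = 4 by decide]; norm_num)

theorem case_3_1_5 (a : ℕ) (ha : 2 ≤ a) :
    3 * (2 * (3 ^ 1 * 5) + 1) < cyc (3 ^ 1 * 5) a ∨ (a, 3 ^ 1 * 5, 3) ∈ Box := by
  show 93 < cyc 15 a ∨ (a, 15, 3) ∈ Box
  rcases Nat.lt_or_ge a 3 with h | h
  · right; interval_cases a <;> decide
  · left
    exact fin2 15 a 93 3 (by norm_num) ha h (by rw [show Nat.totient 15 = 8 by decide]; norm_num)

theorem case_3_1_7 (a : ℕ) (ha : 2 ≤ a) :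
    3 * (2 * (3 ^ 1 * 7) + 1) < cyc (3 ^ 1 * 7) a ∨ (a, 3 ^ 1 * 7, 3) ∈ Box := by
  show 129 < cyc 21 a ∨ (a, 21, 3) ∈ Box
  rcases Nat.lt_or_ge a 3 with h | h
  · right; interval_cases a <;> decide
  · left
    have h1 := pow_le_cyc 3 1 7 a (by norm_num) (by norm_num) (by norm_num) (by norm_num) ha
    have e1 : 3 ^ (1 - 1) * ((3 - 2) * Nat.totient 7) = 6 := by decide
    have e2 : 3 ^ 1 * 7 = 21 := by norm_num
    rw [e1, e2] at h1
    exact fin1 21 a 6 129 3 h1 h (by norm_num)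

theorem case_3_1_8 (a : ℕ) (ha : 2 ≤ a) :
    3 * (2 * (3 ^ 1 * 8) + 1) < cyc (3 ^ 1 * 8) a ∨ (a, 3 ^ 1 * 8, 3) ∈ Box := by
  show 147 < cyc 24 a ∨ (a, 24, 3) ∈ Box
  rcases Nat.lt_or_ge a 3 with h | h
  · right; interval_cases a <;> decide
  · left
    exact fin2 24 a 147 3 (by norm_num) ha h (by rw [show Nat.totient 24 = 8 by decide]; norm_num)

theorem case_3_1_10 (a : ℕ) (ha : 2 ≤ a) :
    3 * (2 * (3 ^ 1 * 10) + 1) < cyc (3 ^ 1 * 10) a ∨ (a, 3 ^ 1 * 10, 3) ∈ Box := by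
  show 183 < cyc 30 a ∨ (a, 30, 3) ∈ Box
  rcases Nat.lt_or_ge a 3 with h | h
  · right; interval_cases a <;> decide
  · left
    exact fin2 30 a 183 3 (by norm_num) ha h (by rw [show Nat.totient 30 = 8 by decide]; norm_num)

theorem case_3_1_11 (a : ℕ) (ha : 2 ≤ a) :
    3 * (2 * (3 ^ 1 * 11) + 1) < cyc (3 ^ 1 * 11) a ∨ (a, 3 ^ 1 * 11, 3) ∈ Box := by
  show 201 < cyc 33 a ∨ (a, 33, 3) ∈ Box
  have h : 2 ≤ a := ha
  left
  have h1 := pow_le_cyc 3 1 11 a (by norm_num) (by norm_num) (by norm_num) (by norm_num) ha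
  have e1 : 3 ^ (1 - 1) * ((3 - 2) * Nat.totient 11) = 10 := by decide
  have e2 : 3 ^ 1 * 11 = 33 := by norm_num
  rw [e1, e2] at h1
  exact fin1 33 a 10 201 2 h1 h (by norm_num)

theorem case_3_1_13 (a : ℕ) (ha : 2 ≤ a) :
    3 * (2 * (3 ^ 1 * 13) + 1) < cyc (3 ^ 1 * 13) a ∨ (a, 3 ^ 1 * 13, 3) ∈ Box := by
  show 237 < cyc 39 a ∨ (a, 39, 3) ∈ Box
  have h : 2 ≤ a := ha
  left
  have h1 := pow_le_cyc 3 1 13 a (by norm_num) (by norm_num) (by norm_num) (by norm_num) ha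
  have e1 : 3 ^ (1 - 1) * ((3 - 2) * Nat.totient 13) = 12 := by decide
  have e2 : 3 ^ 1 * 13 = 39 := by norm_num
  rw [e1, e2] at h1
  exact fin1 39 a 12 237 2 h1 h (by norm_num)

theorem case_3_1_14 (a : ℕ) (ha : 2 ≤ a) :
    3 * (2 * (3 ^ 1 * 14) + 1) < cyc (3 ^ 1 * 14) a ∨ (a, 3 ^ 1 * 14, 3) ∈ Box := by
  show 255 < cyc 42 a ∨ (a, 42, 3) ∈ Box
  rcases Nat.lt_or_ge a 3 with h | h
  · right; interval_cases a <;> decide
  · left
    have h1 := pow_le_cyc 3 1 14 a (by norm_num) (by norm_num) (by norm_num) (by norm_num) ha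
    have e1 : 3 ^ (1 - 1) * ((3 - 2) * Nat.totient 14) = 6 := by decide
    have e2 : 3 ^ 1 * 14 = 42 := by norm_num
    rw [e1, e2] at h1
    exact fin1 42 a 6 255 3 h1 h (by norm_num)

theorem case_3_1_16 (a : ℕ) (ha : 2 ≤ a) :
    3 * (2 * (3 ^ 1 * 16) + 1) < cyc (3 ^ 1 * 16) a ∨ (a, 3 ^ 1 * 16, 3) ∈ Box := by
  show 291 < cyc 48 a ∨ (a, 48, 3) ∈ Box
  rcases Nat.lt_or_ge a 3 with h | h
  · right; interval_cases a <;> decide
  · left
    have h1 := pow_le_cyc 3 1 16 a (by norm_num) (by norm_num) (by norm_num) (by norm_num) ha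
    have e1 : 3 ^ (1 - 1) * ((3 - 2) * Nat.totient 16) = 8 := by decide
    have e2 : 3 ^ 1 * 16 = 48 := by norm_num
    rw [e1, e2] at h1
    exact fin1 48 a 8 291 3 h1 h (by norm_num)

theorem case_3_1_20 (a : ℕ) (ha : 2 ≤ a) :
    3 * (2 * (3 ^ 1 * 20) + 1) < cyc (3 ^ 1 * 20) a ∨ (a, 3 ^ 1 * 20, 3) ∈ Box := by
  show 363 < cyc 60 a ∨ (a, 60, 3) ∈ Box
  rcases Nat.lt_or_ge a 3 with h | h
  · right; interval_cases a <;> decide
  · left
    have h1 := pow_le_cyc 3 1 20 a (by norm_num) (by norm_num) (by norm_num) (by norm_num) ha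
    have e1 : 3 ^ (1 - 1) * ((3 - 2) * Nat.totient 20) = 8 := by decide
    have e2 : 3 ^ 1 * 20 = 60 := by norm_num
    rw [e1, e2] at h1
    exact fin1 60 a 8 363 3 h1 h (by norm_num)

theorem case_3_1_22 (a : ℕ) (ha : 2 ≤ a) :
    3 * (2 * (3 ^ 1 * 22) + 1) < cyc (3 ^ 1 * 22) a ∨ (a, 3 ^ 1 * 22, 3) ∈ Box := by
  show 399 < cyc 66 a ∨ (a, 66, 3) ∈ Box
  have h : 2 ≤ a := ha
  left
  have h1 := pow_le_cyc 3 1 22 a (by norm_num) (by norm_num) (by norm_num) (by norm_num) ha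
  have e1 : 3 ^ (1 - 1) * ((3 - 2) * Nat.totient 22) = 10 := by decide
  have e2 : 3 ^ 1 * 22 = 66 := by norm_num
  rw [e1, e2] at h1
  exact fin1 66 a 10 399 2 h1 h (by norm_num)

theorem case_3_1_26 (a : ℕ) (ha : 2 ≤ a) :
    3 * (2 * (3 ^ 1 * 26) + 1) < cyc (3 ^ 1 * 26) a ∨ (a, 3 ^ 1 * 26, 3) ∈ Box := by
  show 471 < cyc 78 a ∨ (a, 78, 3) ∈ Box
  have h : 2 ≤ a := ha
  left
  have h1 := pow_le_cyc 3 1 26 a (by norm_num) (by norm_num) (by norm_num) (by norm_num) ha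
  have e1 : 3 ^ (1 - 1) * ((3 - 2) * Nat.totient 26) = 12 := by decide
  have e2 : 3 ^ 1 * 26 = 78 := by norm_num
  rw [e1, e2] at h1
  exact fin1 78 a 12 471 2 h1 h (by norm_num)

theorem case_3_1_28 (a : ℕ) (ha : 2 ≤ a) :
    3 * (2 * (3 ^ 1 * 28) + 1) < cyc (3 ^ 1 * 28) a ∨ (a, 3 ^ 1 * 28, 3) ∈ Box := by
  show 507 < cyc 84 a ∨ (a, 84, 3) ∈ Box
  have h : 2 ≤ a := ha
  left
  have h1 := pow_le_cyc 3 1 28 a (by norm_num) (by norm_num) (by norm_num) (by norm_num) ha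
  have e1 : 3 ^ (1 - 1) * ((3 - 2) * Nat.totient 28) = 12 := by decide
  have e2 : 3 ^ 1 * 28 = 84 := by norm_num
  rw [e1, e2] at h1
  exact fin1 84 a 12 507 2 h1 h (by norm_num)

theorem case_3_2_1 (a : ℕ) (ha : 2 ≤ a) :
    3 * (2 * (3 ^ 2 * 1) + 1) < cyc (3 ^ 2 * 1) a ∨ (a, 3 ^ 2 * 1, 3) ∈ Box := by
  show 57 < cyc 9 a ∨ (a, 9, 3) ∈ Box
  rcases Nat.lt_or_ge a 3 with h | h
  · right; interval_cases a <;> decide
  · left
    exact fin2 9 a 57 3 (by norm_num) ha h (by rw [show Nat.totient 9 = 6 by decide]; norm_num)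

theorem case_3_2_2 (a : ℕ) (ha : 2 ≤ a) :
    3 * (2 * (3 ^ 2 * 2) + 1) < cyc (3 ^ 2 * 2) a ∨ (a, 3 ^ 2 * 2, 3) ∈ Box := by
  show 111 < cyc 18 a ∨ (a, 18, 3) ∈ Box
  rcases Nat.lt_or_ge a 4 with h | h
  · right; interval_cases a <;> decide
  · left
    exact fin2 18 a 111 4 (by norm_num) ha h (by rw [show Nat.totient 18 = 6 by decide]; norm_num)

theorem case_3_2_4 (a : ℕ) (ha : 2 ≤ a) :
    3 * (2 * (3 ^ 2 * 4) + 1) < cyc (3 ^ 2 * 4) a ∨ (a, 3 ^ 2 * 4, 3) ∈ Box := by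
  show 219 < cyc 36 a ∨ (a, 36, 3) ∈ Box
  rcases Nat.lt_or_ge a 3 with h | h
  · right; interval_cases a <;> decide
  · left
    have h1 := pow_le_cyc 3 2 4 a (by norm_num) (by norm_num) (by norm_num) (by norm_num) ha
    have e1 : 3 ^ (2 - 1) * ((3 - 2) * Nat.totient 4) = 6 := by decide
    have e2 : 3 ^ 2 * 4 = 36 := by norm_num
    rw [e1, e2] at h1
    exact fin1 36 a 6 219 3 h1 h (by norm_num)

theorem case_3_2_5 (a : ℕ) (ha : 2 ≤ a) :
    3 * (2 * (3 ^ 2 * 5) + 1) < cyc (3 ^ 2 * 5) a ∨ (a, 3 ^ 2 * 5, 3) ∈ Box := by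
  show 273 < cyc 45 a ∨ (a, 45, 3) ∈ Box
  have h : 2 ≤ a := ha
  left
  have h1 := pow_le_cyc 3 2 5 a (by norm_num) (by norm_num) (by norm_num) (by norm_num) ha
  have e1 : 3 ^ (2 - 1) * ((3 - 2) * Nat.totient 5) = 12 := by decide
  have e2 : 3 ^ 2 * 5 = 45 := by norm_num
  rw [e1, e2] at h1
  exact fin1 45 a 12 273 2 h1 h (by norm_num)

theorem case_3_2_8 (a : ℕ) (ha : 2 ≤ a) :
    3 * (2 * (3 ^ 2 * 8) + 1) < cyc (3 ^ 2 * 8) a ∨ (a, 3 ^ 2 * 8, 3) ∈ Box := by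
  show 435 < cyc 72 a ∨ (a, 72, 3) ∈ Box
  have h : 2 ≤ a := ha
  left
  have h1 := pow_le_cyc 3 2 8 a (by norm_num) (by norm_num) (by norm_num) (by norm_num) ha
  have e1 : 3 ^ (2 - 1) * ((3 - 2) * Nat.totient 8) = 12 := by decide
  have e2 : 3 ^ 2 * 8 = 72 := by norm_num
  rw [e1, e2] at h1
  exact fin1 72 a 12 435 2 h1 h (by norm_num)

theorem case_3_2_10 (a : ℕ) (ha : 2 ≤ a) :
    3 * (2 * (3 ^ 2 * 10) + 1) < cyc (3 ^ 2 * 10) a ∨ (a, 3 ^ 2 * 10, 3) ∈ Box := by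
  show 543 < cyc 90 a ∨ (a, 90, 3) ∈ Box
  have h : 2 ≤ a := ha
  left
  have h1 := pow_le_cyc 3 2 10 a (by norm_num) (by norm_num) (by norm_num) (by norm_num) ha
  have e1 : 3 ^ (2 - 1) * ((3 - 2) * Nat.totient 10) = 12 := by decide
  have e2 : 3 ^ 2 * 10 = 90 := by norm_num
  rw [e1, e2] at h1
  exact fin1 90 a 12 543 2 h1 h (by norm_num)

theorem case_3_3_1 (a : ℕ) (ha : 2 ≤ a) :
    3 * (2 * (3 ^ 3 * 1) + 1) < cyc (3 ^ 3 * 1) a ∨ (a, 3 ^ 3 * 1, 3) ∈ Box := by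
  show 165 < cyc 27 a ∨ (a, 27, 3) ∈ Box
  have h : 2 ≤ a := ha
  left
  have h1 := pow_le_cyc 3 3 1 a (by norm_num) (by norm_num) (by norm_num) (by norm_num) ha
  have e1 : 3 ^ (3 - 1) * ((3 - 2) * Nat.totient 1) = 9 := by decide
  have e2 : 3 ^ 3 * 1 = 27 := by norm_num
  rw [e1, e2] at h1
  exact fin1 27 a 9 165 2 h1 h (by norm_num)

theorem case_3_3_2 (a : ℕ) (ha : 2 ≤ a) :
    3 * (2 * (3 ^ 3 * 2) + 1) < cyc (3 ^ 3 * 2) a ∨ (a, 3 ^ 3 * 2, 3) ∈ Box := by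
  show 327 < cyc 54 a ∨ (a, 54, 3) ∈ Box
  have h : 2 ≤ a := ha
  left
  have h1 := pow_le_cyc 3 3 2 a (by norm_num) (by norm_num) (by norm_num) (by norm_num) ha
  have e1 : 3 ^ (3 - 1) * ((3 - 2) * Nat.totient 2) = 9 := by decide
  have e2 : 3 ^ 3 * 2 = 54 := by norm_num
  rw [e1, e2] at h1
  exact fin1 54 a 9 327 2 h1 h (by norm_num)

theorem case_5_1_1 (a : ℕ) (ha : 2 ≤ a) :
    5 * (2 * (5 ^ 1 * 1) + 1) < cyc (5 ^ 1 * 1) a ∨ (a, 5 ^ 1 * 1, 5) ∈ Box := by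
  show 55 < cyc 5 a ∨ (a, 5, 5) ∈ Box
  rcases Nat.lt_or_ge a 4 with h | h
  · right; interval_cases a <;> decide
  · left
    have h1 := pow_le_cyc 5 1 1 a (by norm_num) (by norm_num) (by norm_num) (by norm_num) ha
    have e1 : 5 ^ (1 - 1) * ((5 - 2) * Nat.totient 1) = 3 := by decide
    have e2 : 5 ^ 1 * 1 = 5 := by norm_num
    rw [e1, e2] at h1
    exact fin1 5 a 3 55 4 h1 h (by norm_num)

theorem case_5_1_2 (a : ℕ) (ha : 2 ≤ a) :
    5 * (2 * (5 ^ 1 * 2) + 1) < cyc (5 ^ 1 * 2) a ∨ (a, 5 ^ 1 * 2, 5) ∈ Box := by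
  show 105 < cyc 10 a ∨ (a, 10, 5) ∈ Box
  rcases Nat.lt_or_ge a 5 with h | h
  · right; interval_cases a <;> decide
  · left
    have h1 := pow_le_cyc 5 1 2 a (by norm_num) (by norm_num) (by norm_num) (by norm_num) ha
    have e1 : 5 ^ (1 - 1) * ((5 - 2) * Nat.totient 2) = 3 := by decide
    have e2 : 5 ^ 1 * 2 = 10 := by norm_num
    rw [e1, e2] at h1
    exact fin1 10 a 3 105 5 h1 h (by norm_num)

theorem case_5_1_3 (a : ℕ) (ha : 2 ≤ a) :
    5 * (2 * (5 ^ 1 * 3) + 1) < cyc (5 ^ 1 * 3) a ∨ (a, 5 ^ 1 * 3, 5) ∈ Box := by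
  show 155 < cyc 15 a ∨ (a, 15, 5) ∈ Box
  rcases Nat.lt_or_ge a 3 with h | h
  · right; interval_cases a <;> decide
  · left
    have h1 := pow_le_cyc 5 1 3 a (by norm_num) (by norm_num) (by norm_num) (by norm_num) ha
    have e1 : 5 ^ (1 - 1) * ((5 - 2) * Nat.totient 3) = 6 := by decide
    have e2 : 5 ^ 1 * 3 = 15 := by norm_num
    rw [e1, e2] at h1
    exact fin1 15 a 6 155 3 h1 h (by norm_num)

theorem case_5_1_4 (a : ℕ) (ha : 2 ≤ a) :
    5 * (2 * (5 ^ 1 * 4) + 1) < cyc (5 ^ 1 * 4) a ∨ (a, 5 ^ 1 * 4, 5) ∈ Box := by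
  show 205 < cyc 20 a ∨ (a, 20, 5) ∈ Box
  rcases Nat.lt_or_ge a 3 with h | h
  · right; interval_cases a <;> decide
  · left
    have h1 := pow_le_cyc 5 1 4 a (by norm_num) (by norm_num) (by norm_num) (by norm_num) ha
    have e1 : 5 ^ (1 - 1) * ((5 - 2) * Nat.totient 4) = 6 := by decide
    have e2 : 5 ^ 1 * 4 = 20 := by norm_num
    rw [e1, e2] at h1
    exact fin1 20 a 6 205 3 h1 h (by norm_num)

theorem case_5_1_6 (a : ℕ) (ha : 2 ≤ a) :
    5 * (2 * (5 ^ 1 * 6) + 1) < cyc (5 ^ 1 * 6) a ∨ (a, 5 ^ 1 * 6, 5) ∈ Box := by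
  show 305 < cyc 30 a ∨ (a, 30, 5) ∈ Box
  rcases Nat.lt_or_ge a 3 with h | h
  · right; interval_cases a <;> decide
  · left
    have h1 := pow_le_cyc 5 1 6 a (by norm_num) (by norm_num) (by norm_num) (by norm_num) ha
    have e1 : 5 ^ (1 - 1) * ((5 - 2) * Nat.totient 6) = 6 := by decide
    have e2 : 5 ^ 1 * 6 = 30 := by norm_num
    rw [e1, e2] at h1
    exact fin1 30 a 6 305 3 h1 h (by norm_num)

theorem case_5_1_8 (a : ℕ) (ha : 2 ≤ a) :
    5 * (2 * (5 ^ 1 * 8) + 1) < cyc (5 ^ 1 * 8) a ∨ (a, 5 ^ 1 * 8, 5) ∈ Box := by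
  show 405 < cyc 40 a ∨ (a, 40, 5) ∈ Box
  have h : 2 ≤ a := ha
  left
  have h1 := pow_le_cyc 5 1 8 a (by norm_num) (by norm_num) (by norm_num) (by norm_num) ha
  have e1 : 5 ^ (1 - 1) * ((5 - 2) * Nat.totient 8) = 12 := by decide
  have e2 : 5 ^ 1 * 8 = 40 := by norm_num
  rw [e1, e2] at h1
  exact fin1 40 a 12 405 2 h1 h (by norm_num)

theorem case_5_1_12 (a : ℕ) (ha : 2 ≤ a) :
    5 * (2 * (5 ^ 1 * 12) + 1) < cyc (5 ^ 1 * 12) a ∨ (a, 5 ^ 1 * 12, 5) ∈ Box := by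
  show 605 < cyc 60 a ∨ (a, 60, 5) ∈ Box
  have h : 2 ≤ a := ha
  left
  have h1 := pow_le_cyc 5 1 12 a (by norm_num) (by norm_num) (by norm_num) (by norm_num) ha
  have e1 : 5 ^ (1 - 1) * ((5 - 2) * Nat.totient 12) = 12 := by decide
  have e2 : 5 ^ 1 * 12 = 60 := by norm_num
  rw [e1, e2] at h1
  exact fin1 60 a 12 605 2 h1 h (by norm_num)

theorem case_7_1_1 (a : ℕ) (ha : 2 ≤ a) :
    7 * (2 * (7 ^ 1 * 1) + 1) < cyc (7 ^ 1 * 1) a ∨ (a, 7 ^ 1 * 1, 7) ∈ Box := by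
  show 105 < cyc 7 a ∨ (a, 7, 7) ∈ Box
  rcases Nat.lt_or_ge a 3 with h | h
  · right; interval_cases a <;> decide
  · left
    have h1 := pow_le_cyc 7 1 1 a (by norm_num) (by norm_num) (by norm_num) (by norm_num) ha
    have e1 : 7 ^ (1 - 1) * ((7 - 2) * Nat.totient 1) = 5 := by decide
    have e2 : 7 ^ 1 * 1 = 7 := by norm_num
    rw [e1, e2] at h1
    exact fin1 7 a 5 105 3 h1 h (by norm_num)

theorem case_7_1_2 (a : ℕ) (ha : 2 ≤ a) :
    7 * (2 * (7 ^ 1 * 2) + 1) < cyc (7 ^ 1 * 2) a ∨ (a, 7 ^ 1 * 2, 7) ∈ Box := by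
  show 203 < cyc 14 a ∨ (a, 14, 7) ∈ Box
  rcases Nat.lt_or_ge a 3 with h | h
  · right; interval_cases a <;> decide
  · left
    have h1 := pow_le_cyc 7 1 2 a (by norm_num) (by norm_num) (by norm_num) (by norm_num) ha
    have e1 : 7 ^ (1 - 1) * ((7 - 2) * Nat.totient 2) = 5 := by decide
    have e2 : 7 ^ 1 * 2 = 14 := by norm_num
    rw [e1, e2] at h1
    exact fin1 14 a 5 203 3 h1 h (by norm_num)

theorem case_7_1_3 (a : ℕ) (ha : 2 ≤ a) :
    7 * (2 * (7 ^ 1 * 3) + 1) < cyc (7 ^ 1 * 3) a ∨ (a, 7 ^ 1 * 3, 7) ∈ Box := by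
  show 301 < cyc 21 a ∨ (a, 21, 7) ∈ Box
  have h : 2 ≤ a := ha
  left
  have h1 := pow_le_cyc 7 1 3 a (by norm_num) (by norm_num) (by norm_num) (by norm_num) ha
  have e1 : 7 ^ (1 - 1) * ((7 - 2) * Nat.totient 3) = 10 := by decide
  have e2 : 7 ^ 1 * 3 = 21 := by norm_num
  rw [e1, e2] at h1
  exact fin1 21 a 10 301 2 h1 h (by norm_num)

theorem case_7_1_4 (a : ℕ) (ha : 2 ≤ a) :
    7 * (2 * (7 ^ 1 * 4) + 1) < cyc (7 ^ 1 * 4) a ∨ (a, 7 ^ 1 * 4, 7) ∈ Box := by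
  show 399 < cyc 28 a ∨ (a, 28, 7) ∈ Box
  have h : 2 ≤ a := ha
  left
  have h1 := pow_le_cyc 7 1 4 a (by norm_num) (by norm_num) (by norm_num) (by norm_num) ha
  have e1 : 7 ^ (1 - 1) * ((7 - 2) * Nat.totient 4) = 10 := by decide
  have e2 : 7 ^ 1 * 4 = 28 := by norm_num
  rw [e1, e2] at h1
  exact fin1 28 a 10 399 2 h1 h (by norm_num)

theorem case_7_1_6 (a : ℕ) (ha : 2 ≤ a) :
    7 * (2 * (7 ^ 1 * 6) + 1) < cyc (7 ^ 1 * 6) a ∨ (a, 7 ^ 1 * 6, 7) ∈ Box := by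
  show 595 < cyc 42 a ∨ (a, 42, 7) ∈ Box
  have h : 2 ≤ a := ha
  left
  have h1 := pow_le_cyc 7 1 6 a (by norm_num) (by norm_num) (by norm_num) (by norm_num) ha
  have e1 : 7 ^ (1 - 1) * ((7 - 2) * Nat.totient 6) = 10 := by decide
  have e2 : 7 ^ 1 * 6 = 42 := by norm_num
  rw [e1, e2] at h1
  exact fin1 42 a 10 595 2 h1 h (by norm_num)

theorem case_11_1_1 (a : ℕ) (ha : 2 ≤ a) :
    11 * (2 * (11 ^ 1 * 1) + 1) < cyc (11 ^ 1 * 1) a ∨ (a, 11 ^ 1 * 1, 11) ∈ Box := by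
  show 253 < cyc 11 a ∨ (a, 11, 11) ∈ Box
  have h : 2 ≤ a := ha
  left
  have h1 := pow_le_cyc 11 1 1 a (by norm_num) (by norm_num) (by norm_num) (by norm_num) ha
  have e1 : 11 ^ (1 - 1) * ((11 - 2) * Nat.totient 1) = 9 := by decide
  have e2 : 11 ^ 1 * 1 = 11 := by norm_num
  rw [e1, e2] at h1
  exact fin1 11 a 9 253 2 h1 h (by norm_num)

theorem case_11_1_2 (a : ℕ) (ha : 2 ≤ a) :
    11 * (2 * (11 ^ 1 * 2) + 1) < cyc (11 ^ 1 * 2) a ∨ (a, 11 ^ 1 * 2, 11) ∈ Box := by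
  show 495 < cyc 22 a ∨ (a, 22, 11) ∈ Box
  have h : 2 ≤ a := ha
  left
  have h1 := pow_le_cyc 11 1 2 a (by norm_num) (by norm_num) (by norm_num) (by norm_num) ha
  have e1 : 11 ^ (1 - 1) * ((11 - 2) * Nat.totient 2) = 9 := by decide
  have e2 : 11 ^ 1 * 2 = 22 := by norm_num
  rw [e1, e2] at h1
  exact fin1 22 a 9 495 2 h1 h (by norm_num)

theorem case_13_1_1 (a : ℕ) (ha : 2 ≤ a) :
    13 * (2 * (13 ^ 1 * 1) + 1) < cyc (13 ^ 1 * 1) a ∨ (a, 13 ^ 1 * 1, 13) ∈ Box := by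
  show 351 < cyc 13 a ∨ (a, 13, 13) ∈ Box
  have h : 2 ≤ a := ha
  left
  have h1 := pow_le_cyc 13 1 1 a (by norm_num) (by norm_num) (by norm_num) (by norm_num) ha
  have e1 : 13 ^ (1 - 1) * ((13 - 2) * Nat.totient 1) = 11 := by decide
  have e2 : 13 ^ 1 * 1 = 13 := by norm_num
  rw [e1, e2] at h1
  exact fin1 13 a 11 351 2 h1 h (by norm_num)

theorem case_13_1_2 (a : ℕ) (ha : 2 ≤ a) :
    13 * (2 * (13 ^ 1 * 2) + 1) < cyc (13 ^ 1 * 2) a ∨ (a, 13 ^ 1 * 2, 13) ∈ Box := by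
  show 689 < cyc 26 a ∨ (a, 26, 13) ∈ Box
  have h : 2 ≤ a := ha
  left
  have h1 := pow_le_cyc 13 1 2 a (by norm_num) (by norm_num) (by norm_num) (by norm_num) ha
  have e1 : 13 ^ (1 - 1) * ((13 - 2) * Nat.totient 2) = 11 := by decide
  have e2 : 13 ^ 1 * 2 = 26 := by norm_num
  rw [e1, e2] at h1
  exact fin1 26 a 11 689 2 h1 h (by norm_num)

theorem big (p k u a : ℕ) (hp : p.Prime) (hp3 : 3 ≤ p) (hk : 1 ≤ k) (hpu : ¬ p ∣ u) (ha : 2 ≤ a) :
    p * (2 * (p ^ k * u) + 1) < cyc (p ^ k * u) a ∨ (a, p ^ k * u, p) ∈ Box := by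
  by_cases hm : 13 ≤ p ^ (k - 1) * ((p - 2) * u.totient)
  · left; exact big_of_large p k u a hp hp3 hk hpu ha hm
  · push Not at hm
    have hu : 1 ≤ u := by
      rcases Nat.eq_zero_or_pos u with h | h
      · exact absurd (h ▸ dvd_zero p) hpu
      · exact h
    have ht1 : 1 ≤ u.totient := Nat.totient_pos.2 hu
    have hA1 : 1 ≤ p ^ (k - 1) := Nat.one_le_pow _ _ hp.pos
    have hp2 : p - 2 ≤ p ^ (k - 1) * ((p - 2) * u.totient) :=
      calc p - 2 ≤ (p - 2) * u.totient := Nat.le_mul_of_pos_right _ ht1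
        _ ≤ p ^ (k - 1) * ((p - 2) * u.totient) := Nat.le_mul_of_pos_left _ hA1
    have hp14 : p ≤ 14 := by omega
    have htot : u.totient ≤ 12 := by
      have : u.totient ≤ p ^ (k - 1) * ((p - 2) * u.totient) :=
        calc u.totient ≤ (p - 2) * u.totient := Nat.le_mul_of_pos_left _ (by omega)
          _ ≤ p ^ (k - 1) * ((p - 2) * u.totient) := Nat.le_mul_of_pos_left _ hA1
      omega
    have hu42 := le_of_totient_le u htot
    have hpk : p ^ (k - 1) ≤ 12 := by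
      have h1 : 1 ≤ (p - 2) * u.totient := Nat.mul_pos (by omega) ht1
      have : p ^ (k - 1) * 1 ≤ p ^ (k - 1) * ((p - 2) * u.totient) := Nat.mul_le_mul_left _ h1
      omega
    have hk3 : k ≤ 3 := by
      by_contra hcon
      push Not at hcon
      have : 3 ^ 3 ≤ p ^ (k - 1) :=
        calc 3 ^ 3 ≤ p ^ 3 := Nat.pow_le_pow_left hp3 3
          _ ≤ p ^ (k - 1) := Nat.pow_le_pow_right hp.pos (by omega)
      omega
    interval_cases p
    · interval_cases k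
      · have hmem : u ∈ [1, 2, 4, 5, 7, 8, 10, 11, 13, 14, 16, 20, 22, 26, 28] :=
          (by decide : ∀ u < 43, 3 ^ (1 - 1) * ((3 - 2) * Nat.totient u) < 13 → ¬ 3 ∣ u → u ∈ [1, 2, 4, 5, 7, 8, 10, 11, 13, 14, 16, 20, 22, 26, 28]) u (by omega) hm hpu
        simp only [List.mem_cons, List.mem_nil_iff, or_false] at hmem
        rcases hmem with rfl | rfl | rfl | rfl | rfl | rfl | rfl | rfl | rfl | rfl | rfl | rfl | rfl | rfl | rfl
        · exact case_3_1_1 a ha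
        · exact case_3_1_2 a ha
        · exact case_3_1_4 a ha
        · exact case_3_1_5 a ha
        · exact case_3_1_7 a ha
        · exact case_3_1_8 a ha
        · exact case_3_1_10 a ha
        · exact case_3_1_11 a ha
        · exact case_3_1_13 a ha
        · exact case_3_1_14 a ha
        · exact case_3_1_16 a ha
        · exact case_3_1_20 a ha
        · exact case_3_1_22 a ha
        · exact case_3_1_26 a ha
        · exact case_3_1_28 a ha
      · have hmem : u ∈ [1, 2, 4, 5, 8, 10] :=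
          (by decide : ∀ u < 43, 3 ^ (2 - 1) * ((3 - 2) * Nat.totient u) < 13 → ¬ 3 ∣ u → u ∈ [1, 2, 4, 5, 8, 10]) u (by omega) hm hpu
        simp only [List.mem_cons, List.mem_nil_iff, or_false] at hmem
        rcases hmem with rfl | rfl | rfl | rfl | rfl | rfl
        · exact case_3_2_1 a ha
        · exact case_3_2_2 a ha
        · exact case_3_2_4 a ha
        · exact case_3_2_5 a ha
        · exact case_3_2_8 a ha
        · exact case_3_2_10 a ha
      · have hmem : u ∈ [1, 2] :=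
          (by decide : ∀ u < 43, 3 ^ (3 - 1) * ((3 - 2) * Nat.totient u) < 13 → ¬ 3 ∣ u → u ∈ [1, 2]) u (by omega) hm hpu
        simp only [List.mem_cons, List.mem_nil_iff, or_false] at hmem
        rcases hmem with rfl | rfl
        · exact case_3_3_1 a ha
        · exact case_3_3_2 a ha
    · exact absurd hp (by norm_num)
    · interval_cases k
      · have hmem : u ∈ [1, 2, 3, 4, 6, 8, 12] :=
          (by decide : ∀ u < 43, 5 ^ (1 - 1) * ((5 - 2) * Nat.totient u) < 13 → ¬ 5 ∣ u → u ∈ [1, 2, 3, 4, 6, 8, 12]) u (by omega) hm hpu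
        simp only [List.mem_cons, List.mem_nil_iff, or_false] at hmem
        rcases hmem with rfl | rfl | rfl | rfl | rfl | rfl | rfl
        · exact case_5_1_1 a ha
        · exact case_5_1_2 a ha
        · exact case_5_1_3 a ha
        · exact case_5_1_4 a ha
        · exact case_5_1_6 a ha
        · exact case_5_1_8 a ha
        · exact case_5_1_12 a ha
      · exfalso; norm_num at hm; omega
      · exfalso; norm_num at hm; omega
    · exact absurd hp (by norm_num)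
    · interval_cases k
      · have hmem : u ∈ [1, 2, 3, 4, 6] :=
          (by decide : ∀ u < 43, 7 ^ (1 - 1) * ((7 - 2) * Nat.totient u) < 13 → ¬ 7 ∣ u → u ∈ [1, 2, 3, 4, 6]) u (by omega) hm hpu
        simp only [List.mem_cons, List.mem_nil_iff, or_false] at hmem
        rcases hmem with rfl | rfl | rfl | rfl | rfl
        · exact case_7_1_1 a ha
        · exact case_7_1_2 a ha
        · exact case_7_1_3 a ha
        · exact case_7_1_4 a ha
        · exact case_7_1_6 a ha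
      · exfalso; norm_num at hm; omega
      · exfalso; norm_num at hm; omega
    · exact absurd hp (by norm_num)
    · exact absurd hp (by norm_num)
    · exact absurd hp (by norm_num)
    · interval_cases k
      · have hmem : u ∈ [1, 2] :=
          (by decide : ∀ u < 43, 11 ^ (1 - 1) * ((11 - 2) * Nat.totient u) < 13 → ¬ 11 ∣ u → u ∈ [1, 2]) u (by omega) hm hpu
        simp only [List.mem_cons, List.mem_nil_iff, or_false] at hmem
        rcases hmem with rfl | rfl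
        · exact case_11_1_1 a ha
        · exact case_11_1_2 a ha
      · exfalso; norm_num at hm; omega
      · exfalso; norm_num at hm; omega
    · exact absurd hp (by norm_num)
    · interval_cases k
      · have hmem : u ∈ [1, 2] :=
          (by decide : ∀ u < 43, 13 ^ (1 - 1) * ((13 - 2) * Nat.totient u) < 13 → ¬ 13 ∣ u → u ∈ [1, 2]) u (by omega) hm hpu
        simp only [List.mem_cons, List.mem_nil_iff, or_false] at hmem
        rcases hmem with rfl | rfl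
        · exact case_13_1_1 a ha
        · exact case_13_1_2 a ha
      · exfalso; norm_num at hm; omega
      · exfalso; norm_num at hm; omega
    · exact absurd hp (by norm_num)


theorem cyc_two_pow (j a : ℕ) : cyc (2 ^ (j + 1)) a = a ^ (2 ^ j) + 1 := by
  unfold cyc
  rw [cyclotomic_prime_pow_eq_geom_sum Nat.prime_two]
  simp only [Finset.sum_range_succ, Finset.sum_range_zero, zero_add, pow_zero, pow_one, eval_add,
    eval_one, eval_pow, eval_X]
  have : (1 : ℤ) + (a : ℤ) ^ 2 ^ j = ((a ^ 2 ^ j + 1 : ℕ) : ℤ) := by push_cast; ring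
  rw [this, Int.natAbs_natCast]

theorem add_three_le_two_pow (j : ℕ) (hj : 4 ≤ j) : j + 3 ≤ 2 ^ (j - 1) := by
  induction j, hj using Nat.le_induction with
  | base => norm_num
  | succ k hk ih =>
    have e : 2 ^ (k + 1 - 1) = 2 * 2 ^ (k - 1) := by
      obtain ⟨i, rfl⟩ : ∃ i, k = i + 1 := ⟨k - 1, by omega⟩
      rw [Nat.add_sub_cancel, Nat.add_sub_cancel, pow_succ]; ring
    rw [e]; omega

theorem big_two (j a : ℕ) (hj : 2 ≤ j) (ha : 2 ≤ a) :
    2 * (2 * 2 ^ j + 1) < cyc (2 ^ j) a ∨ (a, 2 ^ j, 2) ∈ Box := by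
  obtain ⟨i, rfl⟩ : ∃ i, j = i + 1 := ⟨j - 1, by omega⟩
  rw [cyc_two_pow]
  rcases Nat.lt_or_ge (i + 1) 4 with h4 | h4
  · have : i = 1 ∨ i = 2 := by omega
    rcases this with rfl | rfl
    · -- n = 4
      rcases Nat.lt_or_ge a 5 with h | h
      · right; interval_cases a <;> decide
      · left
        have : 5 ^ 2 ≤ a ^ 2 := Nat.pow_le_pow_left h 2
        norm_num at this ⊢
        omega
    · -- n = 8
      rcases Nat.lt_or_ge a 3 with h | h
      · right; interval_cases a; decide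
      · left
        have : 3 ^ 4 ≤ a ^ 4 := Nat.pow_le_pow_left h 4
        norm_num at this ⊢
        omega
  · left
    have h1 := add_three_le_two_pow (i + 1) h4
    rw [Nat.add_sub_cancel] at h1
    have h2 : 2 ^ (i + 1 + 3) ≤ 2 ^ (2 ^ i) := Nat.pow_le_pow_right (by norm_num) h1
    have h3 : 2 ^ (2 ^ i) ≤ a ^ (2 ^ i) := Nat.pow_le_pow_left ha _
    have e : 2 ^ (i + 1 + 3) = 8 * 2 ^ (i + 1) := by rw [pow_add]; ring
    have hpos : 1 ≤ 2 ^ (i + 1) := Nat.one_le_pow _ _ (by norm_num)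
    omega

theorem big_general (a n P : ℕ) (ha : 2 ≤ a) (hn : 3 ≤ n) (hP : P.Prime) (hPn : P ∣ n)
    (hmax : ∀ s, s.Prime → s ∣ n → s ≤ P) :
    P * (2 * n + 1) < cyc n a ∨ (a, n, P) ∈ Box := by
  rcases hP.eq_two_or_odd' with h2 | hodd
  · subst h2
    have hn2 : n = 2 ^ n.primeFactorsList.length :=
      Nat.eq_prime_pow_of_unique_prime_dvd (by omega) (fun {d} hd hdn => by
        have h1 := hmax d hd hdn
        have h3 := hd.two_le
        omega)
    set j := n.primeFactorsList.length with hjdef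
    have hj : 2 ≤ j := by
      by_contra hlt
      have : j = 0 ∨ j = 1 := by omega
      rcases this with h | h
      · rw [h, pow_zero] at hn2; omega
      · rw [h, pow_one] at hn2; omega
    rw [hn2]
    exact big_two j a hj ha
  · have hP3 : 3 ≤ P := by
      have := hP.two_le
      obtain ⟨c, hc⟩ := hodd
      omega
    have hk : 1 ≤ n.factorization P := hP.factorization_pos_of_dvd (by omega) hPn
    have hnk : P ^ n.factorization P * (n / P ^ n.factorization P) = n :=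
      Nat.ordProj_mul_ordCompl_eq_self n P
    have hpu : ¬ P ∣ n / P ^ n.factorization P := Nat.not_dvd_ordCompl hP (by omega)
    have := big P (n.factorization P) (n / P ^ n.factorization P) a hP hP3 hk hpu ha
    rw [hnk] at this
    exact this

/-- `Φ_n(a)` divides `a^n - 1` in `ℕ` -/
theorem cyc_dvd (n a : ℕ) (ha : 2 ≤ a) : cyc n a ∣ a ^ n - 1 := by
  have h := cyc_dvd_int n a
  rw [← cyc_cast_int n a ha] at h
  have h1 : ((a : ℤ) ^ n - 1) = ((a ^ n - 1 : ℕ) : ℤ) := by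
    rw [Nat.cast_sub (Nat.one_le_pow _ _ (by omega)), Nat.cast_pow, Nat.cast_one]
  rw [h1] at h
  exact_mod_cast h

theorem dvd_iff_pow_eq_one (a r k : ℕ) (ha : 1 ≤ a) :
    r ∣ a ^ k - 1 ↔ ((a : ZMod r)) ^ k = 1 := by
  have h1 : 1 ≤ a ^ k := Nat.one_le_pow _ _ ha
  rw [← ZMod.natCast_eq_zero_iff, Nat.cast_sub h1, Nat.cast_pow, Nat.cast_one, sub_eq_zero]

theorem two_pow_of_max_two (n : ℕ) (hn : 3 ≤ n) (hmax : ∀ s, s.Prime → s ∣ n → s ≤ 2) : 4 ∣ n := by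
  have hn2 : n = 2 ^ n.primeFactorsList.length :=
    Nat.eq_prime_pow_of_unique_prime_dvd (by omega) (fun {d} hd hdn => by
      have h1 := hmax d hd hdn
      have h3 := hd.two_le
      omega)
  set j := n.primeFactorsList.length with hjdef
  have hj : 2 ≤ j := by
    by_contra hlt
    have : j = 0 ∨ j = 1 := by omega
    rcases this with h | h
    · rw [h, pow_zero] at hn2; omega
    · rw [h, pow_one] at hn2; omega
  rw [hn2]
  exact pow_dvd_pow 2 hj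

/-- the prime divisors of `Φ_n(a)`: primitive ones, and possibly the largest prime divisor of `n`,
which then divides `Φ_n(a)` exactly once -/
theorem prime_dvd_cyc (a n P r : ℕ) (ha : 2 ≤ a) (hn : 3 ≤ n) (hP : P.Prime) (hPn : P ∣ n)
    (hmax : ∀ s, s.Prime → s ∣ n → s ≤ P) (hr : r.Prime) (hrc : r ∣ cyc n a) :
    orderOf (a : ZMod r) = n ∨ (r = P ∧ ¬ P ^ 2 ∣ cyc n a) := by
  have : Fact r.Prime := ⟨hr⟩
  have hri : (r : ℤ) ∣ (cyclotomic n ℤ).eval (a : ℤ) := by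
    rw [← cyc_cast_int n a ha]; exact_mod_cast hrc
  by_cases hrn : r ∣ n
  · right
    have hrP : r = P := by
      rcases lt_or_eq_of_le (hmax r hr hrn) with h | h
      · exact (not_lt_of_dvd n a r ha (by omega) P hP hPn h hri).elim
      · exact h
    subst hrP
    refine ⟨rfl, ?_⟩
    intro hsq
    have hsqi : (r : ℤ) ^ 2 ∣ (cyclotomic n ℤ).eval (a : ℤ) := by
      rw [← cyc_cast_int n a ha]; exact_mod_cast hsq
    rcases hr.eq_two_or_odd' with h2 | hodd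
    · subst h2
      have h4 : 4 ∣ n := two_pow_of_max_two n hn hmax
      refine not_four_dvd n a ha (by omega) h4 (by exact_mod_cast hri) ?_
      norm_num at hsqi
      exact hsqi
    · exact not_sq_dvd_odd n a r ha (by omega) hodd hrn hri hsqi
  · left; exact orderOf_eq n a r (by omega) hri hrn

/-- the primitive part of `Φ_n(a)` -/
theorem exists_pp (a n P : ℕ) (ha : 2 ≤ a) (hn : 3 ≤ n) (hP : P.Prime) (hPn : P ∣ n)
    (hmax : ∀ s, s.Prime → s ∣ n → s ≤ P) :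
    ∃ m, m ∣ cyc n a ∧ cyc n a ≤ P * m ∧ 0 < m ∧
      ∀ r, r.Prime → r ∣ m → orderOf (a : ZMod r) = n := by
  by_cases hPc : P ∣ cyc n a
  · obtain ⟨m, hm⟩ := hPc
    have hmc : m ∣ cyc n a := ⟨P, by rw [hm, mul_comm]⟩
    refine ⟨m, hmc, by rw [hm], ?_, ?_⟩
    · rcases Nat.eq_zero_or_pos m with h | h
      · rw [h, mul_zero] at hm
        have := cyc_pos n a ha
        omega
      · exact h
    · intro r hr hrm
      rcases prime_dvd_cyc a n P r ha hn hP hPn hmax hr (hrm.trans hmc) with h | ⟨h1, h2⟩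
      · exact h
      · exfalso
        apply h2
        subst h1
        rw [hm, pow_two]
        exact Nat.mul_dvd_mul_left _ hrm
  · refine ⟨cyc n a, dvd_rfl, Nat.le_mul_of_pos_left _ hP.pos, cyc_pos n a ha, ?_⟩
    intro r hr hrm
    rcases prime_dvd_cyc a n P r ha hn hP hPn hmax hr hrm with h | ⟨h1, _⟩
    · exact h
    · exact absurd (h1 ▸ hrm) hPc

theorem not_dvd_of_order (a n r : ℕ) (ha : 2 ≤ a) (hord : orderOf (a : ZMod r) = n)
    (i : ℕ) (hi1 : 1 ≤ i) (hin : i < n) : ¬ r ∣ a ^ i - 1 := by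
  intro hri
  have h1 := (dvd_iff_pow_eq_one a r i (by omega)).1 hri
  have h2 := orderOf_dvd_of_pow_eq_one h1
  rw [hord] at h2
  have := Nat.le_of_dvd (by omega) h2
  omega

theorem coprime_of_order (a n m : ℕ) (ha : 2 ≤ a)
    (hord : ∀ r, r.Prime → r ∣ m → orderOf (a : ZMod r) = n) (i : ℕ) (hi1 : 1 ≤ i) (hin : i < n) :
    Nat.Coprime m (a ^ i - 1) := by
  apply Nat.coprime_of_dvd
  intro r hr hrm hri
  exact not_dvd_of_order a n r ha (hord r hr hrm) i hi1 hin hri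

theorem modEq_one_of_order (a n r : ℕ) (hr : r.Prime) (hn : 1 ≤ n)
    (hord : orderOf (a : ZMod r) = n) : r ≡ 1 [MOD n] := by
  have : Fact r.Prime := ⟨hr⟩
  have ha0 : (a : ZMod r) ≠ 0 := by
    intro h0
    have h1 : (a : ZMod r) ^ n = 1 := by rw [← hord]; exact pow_orderOf_eq_one _
    rw [h0, zero_pow (by omega)] at h1
    exact zero_ne_one h1
  have h := ZMod.orderOf_dvd_card_sub_one ha0
  rw [hord] at h
  exact ((Nat.modEq_iff_dvd' hr.one_le).2 h).symm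

theorem modEq_one_of_prime_factors (n : ℕ) :
    ∀ m, m ≠ 0 → (∀ r, r.Prime → r ∣ m → r ≡ 1 [MOD n]) → m ≡ 1 [MOD n] := by
  intro m
  induction m using Nat.recOnMul with
  | zero => intro h; exact absurd rfl h
  | one => intro _ _; rfl
  | prime p hp => intro _ h; exact h p hp dvd_rfl
  | mul a b iha ihb =>
    intro hab h
    have ha0 : a ≠ 0 := fun h0 => hab (by rw [h0, zero_mul])
    have hb0 : b ≠ 0 := fun h0 => hab (by rw [h0, mul_zero])
    have h1 := iha ha0 (fun r hr hra => h r hr (hra.mul_right b))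
    have h2 := ihb hb0 (fun r hr hrb => h r hr (hrb.mul_left a))
    have := h1.mul h2
    simpa using this

/-- existence of a largest prime divisor -/
theorem exists_max_prime (n : ℕ) (hn : 2 ≤ n) :
    ∃ P, P.Prime ∧ P ∣ n ∧ ∀ s, s.Prime → s ∣ n → s ≤ P := by
  have hne : n.primeFactors.Nonempty := Nat.nonempty_primeFactors.2 (by omega)
  obtain ⟨p, hpmem, hpmax⟩ := Finset.exists_max_image n.primeFactors id hne
  exact ⟨p, Nat.prime_of_mem_primeFactors hpmem, Nat.dvd_of_mem_primeFactors hpmem,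
    fun s hs hsn => hpmax s (Nat.mem_primeFactors.2 ⟨hs, hsn, by omega⟩)⟩

/-- Hering's bound outside the box: a primitive divisor at least `3n + 1` -/
theorem hering_general (a n P : ℕ) (ha : 2 ≤ a) (hn : 3 ≤ n) (hP : P.Prime) (hPn : P ∣ n)
    (hmax : ∀ s, s.Prime → s ∣ n → s ≤ P) (hlt : P * (2 * n + 1) < cyc n a) :
    ∃ m : ℕ, m ∣ a ^ n - 1 ∧ (∀ i : ℕ, 1 ≤ i → i < n → Nat.Coprime m (a ^ i - 1)) ∧
      3 * n + 1 ≤ m := by
  obtain ⟨m, hmc, hle, hmpos, hord⟩ := exists_pp a n P ha hn hP hPn hmax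
  refine ⟨m, hmc.trans (cyc_dvd n a ha), fun i hi1 hin => coprime_of_order a n m ha hord i hi1 hin,
    ?_⟩
  have h1 : P * (2 * n + 1) < P * m := lt_of_lt_of_le hlt hle
  have h2 : 2 * n + 1 < m := lt_of_mul_lt_mul_left h1 (Nat.zero_le _)
  have h3 : m ≡ 1 [MOD n] := modEq_one_of_prime_factors n m hmpos.ne'
    (fun r hr hrm => modEq_one_of_order a n r hr (by omega) (hord r hr hrm))
  have h4 : m % n = 1 := by
    have := h3
    unfold Nat.ModEq at this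
    rw [this, Nat.mod_eq_of_lt (by omega)]
  have h5 := Nat.div_add_mod m n
  have h6 : 3 ≤ m / n := by
    by_contra hcon
    push Not at hcon
    have : n * (m / n) ≤ n * 2 := Nat.mul_le_mul_left _ (by omega)
    omega
  have : n * 3 ≤ n * (m / n) := Nat.mul_le_mul_left _ h6
  omega

/-- Feit's theorem outside the box: a large Zsigmondy prime -/
theorem feit_general (a n P : ℕ) (ha : 2 ≤ a) (hn : 3 ≤ n) (hP : P.Prime) (hPn : P ∣ n)
    (hmax : ∀ s, s.Prime → s ∣ n → s ≤ P) (hlt : P * (2 * n + 1) < cyc n a) :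
    ∃ p : ℕ, p.Prime ∧ p ∣ a ^ n - 1 ∧ (∀ i : ℕ, 1 ≤ i → i < n → ¬ p ∣ a ^ i - 1) ∧
      (n + 1 < p ∨ p ^ 2 ∣ a ^ n - 1) := by
  by_contra hno
  obtain ⟨m, hmc, hle, hmpos, hord⟩ := exists_pp a n P ha hn hP hPn hmax
  have hma : m ∣ a ^ n - 1 := hmc.trans (cyc_dvd n a ha)
  have hprim : ∀ r, r.Prime → r ∣ m → ¬ (n + 1 < r) ∧ ¬ (r ^ 2 ∣ a ^ n - 1) := by
    intro r hr hrm
    constructor
    · intro h
      exact hno ⟨r, hr, hrm.trans hma, not_dvd_of_order a n r ha (hord r hr hrm), Or.inl h⟩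
    · intro h
      exact hno ⟨r, hr, hrm.trans hma, not_dvd_of_order a n r ha (hord r hr hrm), Or.inr h⟩
  have hall : ∀ {r : ℕ}, r.Prime → r ∣ m → r = n + 1 := by
    intro r hr hrm
    have h1 := (hprim r hr hrm).1
    have h2 := modEq_one_of_order a n r hr (by omega) (hord r hr hrm)
    have h3 : r % n = 1 := by
      unfold Nat.ModEq at h2
      rw [h2, Nat.mod_eq_of_lt (by omega)]
    have h4 := Nat.div_add_mod r n
    have h5 : 1 ≤ r / n := by
      by_contra hcon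
      push Not at hcon
      have : r / n = 0 := Nat.lt_one_iff.1 hcon
      rw [this, mul_zero, zero_add, h3] at h4
      have := hr.two_le
      omega
    have : n * 1 ≤ n * (r / n) := Nat.mul_le_mul_left _ h5
    omega
  have hpow := Nat.eq_prime_pow_of_unique_prime_dvd hmpos.ne' hall
  set k := m.primeFactorsList.length with hk
  have hk1 : k ≤ 1 := by
    by_contra hcon
    push Not at hcon
    have hsq : (n + 1) ^ 2 ∣ m := by
      rw [hpow]; exact pow_dvd_pow _ hcon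
    have hm1 : m ≠ 1 := by
      intro h1
      rw [h1] at hsq
      have := Nat.le_of_dvd (by norm_num) hsq
      nlinarith
    obtain ⟨r, hr, hrm⟩ := Nat.exists_prime_and_dvd hm1
    have hrn := hall hr hrm
    subst hrn
    exact (hprim _ hr hrm).2 (hsq.trans hma)
  have hm_le : m ≤ n + 1 := by
    rw [hpow]
    calc (n + 1) ^ k ≤ (n + 1) ^ 1 := Nat.pow_le_pow_right (by omega) hk1
      _ = n + 1 := pow_one _
  have h1 : P * m ≤ P * (n + 1) := Nat.mul_le_mul_left _ hm_le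
  have h2 : P * (n + 1) ≤ P * (2 * n + 1) := Nat.mul_le_mul_left _ (by omega)
  omega

end Cfsg.Agent.H2.ZsigBig
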